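import Groth.Agent.Lib.helper11.G5.Setup

set_option autoImplicit false
set_option maxRecDepth 4000

namespace Groth.Agent.Lib.helper11.G5

open Models Groth.Agent.Lib.helper11.NumType

theorem case6 (T : NumericalType 5) (hall : ∀ i, T.IsMinusTwo i) (d : SData T)
    (h01 : N T (Function.Embedding.refl _) 0 1 = 0) (h10 : N T (Function.Embedding.refl _) 1 0 = 0)
    (h02 : N T (Function.Embedding.refl _) 0 2 = 0) (h20 : N T (Function.Embedding.refl _) 2 0 = 0)
    (h12 : N T (Function.Embedding.refl _) 1 2 = 0) (h21 : N T (Function.Embedding.refl _) 2 1 = 0)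
    (h03 : N T (Function.Embedding.refl _) 0 3 = 0) (h30 : N T (Function.Embedding.refl _) 3 0 = 0)
    (h13 : N T (Function.Embedding.refl _) 1 3 = 0) (h31 : N T (Function.Embedding.refl _) 3 1 = 0)
    (h23 : N T (Function.Embedding.refl _) 2 3 = 0) (h32 : N T (Function.Embedding.refl _) 3 2 = 0)
    (h04 : N T (Function.Embedding.refl _) 0 4 = 0) (h40 : N T (Function.Embedding.refl _) 4 0 = 0) :
    Goal T := by
  unfold Goal
  have hd := d
  obtain ⟨x01, x02, x03, x04, x10, x12, x13, x14, x20, x21, x23, x24, x30, x31, x32, x34, x40, x41, x42, x43, hx01, hx02, hx03, hx04, hx10, hx12, hx13, hx14, hx20, hx21, hx23, hx24, hx30, hx31, hx32, hx34, hx40, hx41, hx42, hx43, hw0, hm0, hw1, hm1, hw2, hm2, hw3, hm3, hw4, hm4, a00, a01, a02, a03, a04, a11, a10, a12, a13, a14, a22, a20, a21, a23, a24, a33, a30, a31, a32, a34, a44, a40, a41, a42, a43, wN01, wN02, wN12, wN03, wN13, wN23, wN04, wN14, wN24, wN34, e0, e1, e2, e3, e4, d01,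 d02, d12, d03, d13, d23, d04, d14, d24, d34⟩ := d
  obtain rfl : x01 = 0 := hx01.trans h01
  obtain rfl : x10 = 0 := hx10.trans h10
  obtain rfl : x02 = 0 := hx02.trans h02
  obtain rfl : x20 = 0 := hx20.trans h20
  obtain rfl : x12 = 0 := hx12.trans h12
  obtain rfl : x21 = 0 := hx21.trans h21
  obtain rfl : x03 = 0 := hx03.trans h03
  obtain rfl : x30 = 0 := hx30.trans h30
  obtain rfl : x13 = 0 := hx13.trans h13
  obtain rfl : x31 = 0 := hx31.trans h31
  obtain rfl : x23 = 0 := hx23.trans h23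
  obtain rfl : x32 = 0 := hx32.trans h32
  obtain rfl : x04 = 0 := hx04.trans h04
  obtain rfl : x40 = 0 := hx40.trans h40
  rcases d14 with ⟨rfl, rfl⟩ | ⟨rfl, rfl⟩ | ⟨rfl, rfl⟩ | ⟨rfl, rfl⟩ | ⟨rfl, rfl⟩ | ⟨rfl, rfl⟩
  · -- 14=(0,0)
    rcases d24 with ⟨rfl, rfl⟩ | ⟨rfl, rfl⟩ | ⟨rfl, rfl⟩ | ⟨rfl, rfl⟩ | ⟨rfl, rfl⟩ | ⟨rfl, rfl⟩
    · -- 24=(0,0)
      rcases d34 with ⟨rfl, rfl⟩ | ⟨rfl, rfl⟩ | ⟨rfl, rfl⟩ | ⟨rfl, rfl⟩ | ⟨rfl, rfl⟩ | ⟨rfl, rfl⟩
      · -- 34=(0,0)
        exfalso; omega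
      · -- 34=(1,1)
        exfalso; omega
      · -- 34=(1,2)
        exfalso; omega
      · -- 34=(2,1)
        exfalso; omega
      · -- 34=(1,3)
        exfalso; omega
      · -- 34=(3,1)
        exfalso; omega
    · -- 24=(1,1)
      rcases d34 with ⟨rfl, rfl⟩ | ⟨rfl, rfl⟩ | ⟨rfl, rfl⟩ | ⟨rfl, rfl⟩ | ⟨rfl, rfl⟩ | ⟨rfl, rfl⟩
      · -- 34=(0,0)
        exfalso; omega
      · -- 34=(1,1)
        exfalso; omega
      · -- 34=(1,2)
        exfalso; omega
      · -- 34=(2,1)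
        exfalso; omega
      · -- 34=(1,3)
        exact False.elim (cert_false T ((skipEmb 1).trans (Function.Embedding.refl _)) (by norm_num) (fun _ => hall _) (((((LB_zero T ((skipEmb 1).trans (Function.Embedding.refl _))).upd 1 3 1 (le_of_eq hx24)).upd 2 3 1 (le_of_eq hx34)).upd 3 1 1 (le_of_eq hx42)).upd 3 2 3 (le_of_eq hx43)) ![0,1,1,2] (by decide) (by decide) 1 (by decide))
      · -- 34=(3,1)
        exact False.elim (cert_false T ((skipEmb 1).trans (Function.Embedding.refl _)) (by norm_num) (fun _ => hall _) (((((LB_zero T ((skipEmb 1).trans (Function.Embedding.refl _))).upd 1 3 1 (le_of_eq hx24)).upd 2 3 3 (le_of_eq hx34)).upd 3 1 1 (le_of_eq hx42)).upd 3 2 1 (le_of_eq hx43)) ![0,1,3,2] (by decide) (by decide) 1 (by decide))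
    · -- 24=(1,2)
      rcases d34 with ⟨rfl, rfl⟩ | ⟨rfl, rfl⟩ | ⟨rfl, rfl⟩ | ⟨rfl, rfl⟩ | ⟨rfl, rfl⟩ | ⟨rfl, rfl⟩
      · -- 34=(0,0)
        exfalso; omega
      · -- 34=(1,1)
        exfalso; omega
      · -- 34=(1,2)
        exact False.elim (cert_false T ((skipEmb 1).trans (Function.Embedding.refl _)) (by norm_num) (fun _ => hall _) (((((LB_zero T ((skipEmb 1).trans (Function.Embedding.refl _))).upd 1 3 1 (le_of_eq hx24)).upd 2 3 1 (le_of_eq hx34)).upd 3 1 2 (le_of_eq hx42)).upd 3 2 2 (le_of_eq hx43)) ![0,1,1,2] (by decide) (by decide) 1 (by decide))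
      · -- 34=(2,1)
        exact False.elim (cert_false T ((skipEmb 1).trans (Function.Embedding.refl _)) (by norm_num) (fun _ => hall _) (((((LB_zero T ((skipEmb 1).trans (Function.Embedding.refl _))).upd 1 3 1 (le_of_eq hx24)).upd 2 3 2 (le_of_eq hx34)).upd 3 1 2 (le_of_eq hx42)).upd 3 2 1 (le_of_eq hx43)) ![0,1,2,2] (by decide) (by decide) 1 (by decide))
      · -- 34=(1,3)
        exact False.elim (cert_false T ((skipEmb 1).trans (Function.Embedding.refl _)) (by norm_num) (fun _ => hall _) (((((LB_zero T ((skipEmb 1).trans (Function.Embedding.refl _))).upd 1 3 1 (le_of_eq hx24)).upd 2 3 1 (le_of_eq hx34)).upd 3 1 2 (le_of_eq hx42)).upd 3 2 3 (le_of_eq hx43)) ![0,1,1,2] (by decide) (by decide) 1 (by decide))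
      · -- 34=(3,1)
        exact False.elim (cert_false T ((skipEmb 1).trans (Function.Embedding.refl _)) (by norm_num) (fun _ => hall _) (((((LB_zero T ((skipEmb 1).trans (Function.Embedding.refl _))).upd 1 3 1 (le_of_eq hx24)).upd 2 3 3 (le_of_eq hx34)).upd 3 1 2 (le_of_eq hx42)).upd 3 2 1 (le_of_eq hx43)) ![0,1,2,2] (by decide) (by decide) 1 (by decide))
    · -- 24=(2,1)
      rcases d34 with ⟨rfl, rfl⟩ | ⟨rfl, rfl⟩ | ⟨rfl, rfl⟩ | ⟨rfl, rfl⟩ | ⟨rfl, rfl⟩ | ⟨rfl, rfl⟩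
      · -- 34=(0,0)
        exfalso; omega
      · -- 34=(1,1)
        exfalso; omega
      · -- 34=(1,2)
        exact False.elim (cert_false T ((skipEmb 1).trans (Function.Embedding.refl _)) (by norm_num) (fun _ => hall _) (((((LB_zero T ((skipEmb 1).trans (Function.Embedding.refl _))).upd 1 3 2 (le_of_eq hx24)).upd 2 3 1 (le_of_eq hx34)).upd 3 1 1 (le_of_eq hx42)).upd 3 2 2 (le_of_eq hx43)) ![0,2,1,2] (by decide) (by decide) 1 (by decide))
      · -- 34=(2,1)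
        exact False.elim (cert_false T ((skipEmb 1).trans (Function.Embedding.refl _)) (by norm_num) (fun _ => hall _) (((((LB_zero T ((skipEmb 1).trans (Function.Embedding.refl _))).upd 1 3 2 (le_of_eq hx24)).upd 2 3 2 (le_of_eq hx34)).upd 3 1 1 (le_of_eq hx42)).upd 3 2 1 (le_of_eq hx43)) ![0,1,1,1] (by decide) (by decide) 1 (by decide))
      · -- 34=(1,3)
        exact False.elim (cert_false T ((skipEmb 1).trans (Function.Embedding.refl _)) (by norm_num) (fun _ => hall _) (((((LB_zero T ((skipEmb 1).trans (Function.Embedding.refl _))).upd 1 3 2 (le_of_eq hx24)).upd 2 3 1 (le_of_eq hx34)).upd 3 1 1 (le_of_eq hx42)).upd 3 2 3 (le_of_eq hx43)) ![0,1,1,2] (by decide) (by decide) 1 (by decide))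
      · -- 34=(3,1)
        exact False.elim (cert_false T ((skipEmb 1).trans (Function.Embedding.refl _)) (by norm_num) (fun _ => hall _) (((((LB_zero T ((skipEmb 1).trans (Function.Embedding.refl _))).upd 1 3 2 (le_of_eq hx24)).upd 2 3 3 (le_of_eq hx34)).upd 3 1 1 (le_of_eq hx42)).upd 3 2 1 (le_of_eq hx43)) ![0,1,1,1] (by decide) (by decide) 1 (by decide))
    · -- 24=(1,3)
      rcases d34 with ⟨rfl, rfl⟩ | ⟨rfl, rfl⟩ | ⟨rfl, rfl⟩ | ⟨rfl, rfl⟩ | ⟨rfl, rfl⟩ | ⟨rfl, rfl⟩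
      · -- 34=(0,0)
        exfalso; omega
      · -- 34=(1,1)
        exact False.elim (cert_false T ((skipEmb 1).trans (Function.Embedding.refl _)) (by norm_num) (fun _ => hall _) (((((LB_zero T ((skipEmb 1).trans (Function.Embedding.refl _))).upd 1 3 1 (le_of_eq hx24)).upd 2 3 1 (le_of_eq hx34)).upd 3 1 3 (le_of_eq hx42)).upd 3 2 1 (le_of_eq hx43)) ![0,1,1,2] (by decide) (by decide) 1 (by decide))
      · -- 34=(1,2)
        exact False.elim (cert_false T ((skipEmb 1).trans (Function.Embedding.refl _)) (by norm_num) (fun _ => hall _) (((((LB_zero T ((skipEmb 1).trans (Function.Embedding.refl _))).upd 1 3 1 (le_of_eq hx24)).upd 2 3 1 (le_of_eq hx34)).upd 3 1 3 (le_of_eq hx42)).upd 3 2 2 (le_of_eq hx43)) ![0,1,1,2] (by decide) (by decide) 1 (by decide))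
      · -- 34=(2,1)
        exact False.elim (cert_false T ((skipEmb 1).trans (Function.Embedding.refl _)) (by norm_num) (fun _ => hall _) (((((LB_zero T ((skipEmb 1).trans (Function.Embedding.refl _))).upd 1 3 1 (le_of_eq hx24)).upd 2 3 2 (le_of_eq hx34)).upd 3 1 3 (le_of_eq hx42)).upd 3 2 1 (le_of_eq hx43)) ![0,1,1,2] (by decide) (by decide) 1 (by decide))
      · -- 34=(1,3)
        exact False.elim (cert_false T ((skipEmb 1).trans (Function.Embedding.refl _)) (by norm_num) (fun _ => hall _) (((((LB_zero T ((skipEmb 1).trans (Function.Embedding.refl _))).upd 1 3 1 (le_of_eq hx24)).upd 2 3 1 (le_of_eq hx34)).upd 3 1 3 (le_of_eq hx42)).upd 3 2 3 (le_of_eq hx43)) ![0,1,1,2] (by decide) (by decide) 1 (by decide))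
      · -- 34=(3,1)
        exact False.elim (cert_false T ((skipEmb 1).trans (Function.Embedding.refl _)) (by norm_num) (fun _ => hall _) (((((LB_zero T ((skipEmb 1).trans (Function.Embedding.refl _))).upd 1 3 1 (le_of_eq hx24)).upd 2 3 3 (le_of_eq hx34)).upd 3 1 3 (le_of_eq hx42)).upd 3 2 1 (le_of_eq hx43)) ![0,1,1,2] (by decide) (by decide) 1 (by decide))
    · -- 24=(3,1)
      rcases d34 with ⟨rfl, rfl⟩ | ⟨rfl, rfl⟩ | ⟨rfl, rfl⟩ | ⟨rfl, rfl⟩ | ⟨rfl, rfl⟩ | ⟨rfl, rfl⟩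
      · -- 34=(0,0)
        exfalso; omega
      · -- 34=(1,1)
        exact False.elim (cert_false T ((skipEmb 1).trans (Function.Embedding.refl _)) (by norm_num) (fun _ => hall _) (((((LB_zero T ((skipEmb 1).trans (Function.Embedding.refl _))).upd 1 3 3 (le_of_eq hx24)).upd 2 3 1 (le_of_eq hx34)).upd 3 1 1 (le_of_eq hx42)).upd 3 2 1 (le_of_eq hx43)) ![0,3,1,2] (by decide) (by decide) 1 (by decide))
      · -- 34=(1,2)
        exact False.elim (cert_false T ((skipEmb 1).trans (Function.Embedding.refl _)) (by norm_num) (fun _ => hall _) (((((LB_zero T ((skipEmb 1).trans (Function.Embedding.refl _))).upd 1 3 3 (le_of_eq hx24)).upd 2 3 1 (le_of_eq hx34)).upd 3 1 1 (le_of_eq hx42)).upd 3 2 2 (le_of_eq hx43)) ![0,2,1,2] (by decide) (by decide) 1 (by decide))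
      · -- 34=(2,1)
        exact False.elim (cert_false T ((skipEmb 1).trans (Function.Embedding.refl _)) (by norm_num) (fun _ => hall _) (((((LB_zero T ((skipEmb 1).trans (Function.Embedding.refl _))).upd 1 3 3 (le_of_eq hx24)).upd 2 3 2 (le_of_eq hx34)).upd 3 1 1 (le_of_eq hx42)).upd 3 2 1 (le_of_eq hx43)) ![0,1,1,1] (by decide) (by decide) 1 (by decide))
      · -- 34=(1,3)
        exact False.elim (cert_false T ((skipEmb 1).trans (Function.Embedding.refl _)) (by norm_num) (fun _ => hall _) (((((LB_zero T ((skipEmb 1).trans (Function.Embedding.refl _))).upd 1 3 3 (le_of_eq hx24)).upd 2 3 1 (le_of_eq hx34)).upd 3 1 1 (le_of_eq hx42)).upd 3 2 3 (le_of_eq hx43)) ![0,1,1,2] (by decide) (by decide) 1 (by decide))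
      · -- 34=(3,1)
        exact False.elim (cert_false T ((skipEmb 1).trans (Function.Embedding.refl _)) (by norm_num) (fun _ => hall _) (((((LB_zero T ((skipEmb 1).trans (Function.Embedding.refl _))).upd 1 3 3 (le_of_eq hx24)).upd 2 3 3 (le_of_eq hx34)).upd 3 1 1 (le_of_eq hx42)).upd 3 2 1 (le_of_eq hx43)) ![0,1,1,1] (by decide) (by decide) 1 (by decide))
  · -- 14=(1,1)
    rcases d24 with ⟨rfl, rfl⟩ | ⟨rfl, rfl⟩ | ⟨rfl, rfl⟩ | ⟨rfl, rfl⟩ | ⟨rfl, rfl⟩ | ⟨rfl, rfl⟩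
    · -- 24=(0,0)
      rcases d34 with ⟨rfl, rfl⟩ | ⟨rfl, rfl⟩ | ⟨rfl, rfl⟩ | ⟨rfl, rfl⟩ | ⟨rfl, rfl⟩ | ⟨rfl, rfl⟩
      · -- 34=(0,0)
        exfalso; omega
      · -- 34=(1,1)
        exfalso; omega
      · -- 34=(1,2)
        exfalso; omega
      · -- 34=(2,1)
        exfalso; omega
      · -- 34=(1,3)
        exact False.elim (cert_false T ((skipEmb 2).trans (Function.Embedding.refl _)) (by norm_num) (fun _ => hall _) (((((LB_zero T ((skipEmb 2).trans (Function.Embedding.refl _))).upd 1 3 1 (le_of_eq hx14)).upd 2 3 1 (le_of_eq hx34)).upd 3 1 1 (le_of_eq hx41)).upd 3 2 3 (le_of_eq hx43)) ![0,1,1,2] (by decide) (by decide) 1 (by decide))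
      · -- 34=(3,1)
        exact False.elim (cert_false T ((skipEmb 2).trans (Function.Embedding.refl _)) (by norm_num) (fun _ => hall _) (((((LB_zero T ((skipEmb 2).trans (Function.Embedding.refl _))).upd 1 3 1 (le_of_eq hx14)).upd 2 3 3 (le_of_eq hx34)).upd 3 1 1 (le_of_eq hx41)).upd 3 2 1 (le_of_eq hx43)) ![0,1,3,2] (by decide) (by decide) 1 (by decide))
    · -- 24=(1,1)
      rcases d34 with ⟨rfl, rfl⟩ | ⟨rfl, rfl⟩ | ⟨rfl, rfl⟩ | ⟨rfl, rfl⟩ | ⟨rfl, rfl⟩ | ⟨rfl, rfl⟩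
      · -- 34=(0,0)
        exfalso; omega
      · -- 34=(1,1)
        exfalso; omega
      · -- 34=(1,2)
        exact False.elim (cert_false T ((skipEmb 0).trans (Function.Embedding.refl _)) (by norm_num) (fun _ => hall _) (((((((LB_zero T ((skipEmb 0).trans (Function.Embedding.refl _))).upd 0 3 1 (le_of_eq hx14)).upd 1 3 1 (le_of_eq hx24)).upd 2 3 1 (le_of_eq hx34)).upd 3 0 1 (le_of_eq hx41)).upd 3 1 1 (le_of_eq hx42)).upd 3 2 2 (le_of_eq hx43)) ![1,1,1,2] (by decide) (by decide) 0 (by decide))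
      · -- 34=(2,1)
        exact False.elim (cert_false T ((skipEmb 0).trans (Function.Embedding.refl _)) (by norm_num) (fun _ => hall _) (((((((LB_zero T ((skipEmb 0).trans (Function.Embedding.refl _))).upd 0 3 1 (le_of_eq hx14)).upd 1 3 1 (le_of_eq hx24)).upd 2 3 2 (le_of_eq hx34)).upd 3 0 1 (le_of_eq hx41)).upd 3 1 1 (le_of_eq hx42)).upd 3 2 1 (le_of_eq hx43)) ![1,1,2,2] (by decide) (by decide) 0 (by decide))
      · -- 34=(1,3)
        exact False.elim (cert_false T ((skipEmb 2).trans (Function.Embedding.refl _)) (by norm_num) (fun _ => hall _) (((((LB_zero T ((skipEmb 2).trans (Function.Embedding.refl _))).upd 1 3 1 (le_of_eq hx14)).upd 2 3 1 (le_of_eq hx34)).upd 3 1 1 (le_of_eq hx41)).upd 3 2 3 (le_of_eq hx43)) ![0,1,1,2] (by decide) (by decide) 1 (by decide))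
      · -- 34=(3,1)
        exact False.elim (cert_false T ((skipEmb 2).trans (Function.Embedding.refl _)) (by norm_num) (fun _ => hall _) (((((LB_zero T ((skipEmb 2).trans (Function.Embedding.refl _))).upd 1 3 1 (le_of_eq hx14)).upd 2 3 3 (le_of_eq hx34)).upd 3 1 1 (le_of_eq hx41)).upd 3 2 1 (le_of_eq hx43)) ![0,1,3,2] (by decide) (by decide) 1 (by decide))
    · -- 24=(1,2)
      rcases d34 with ⟨rfl, rfl⟩ | ⟨rfl, rfl⟩ | ⟨rfl, rfl⟩ | ⟨rfl, rfl⟩ | ⟨rfl, rfl⟩ | ⟨rfl, rfl⟩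
      · -- 34=(0,0)
        exfalso; omega
      · -- 34=(1,1)
        exact False.elim (cert_false T ((skipEmb 0).trans (Function.Embedding.refl _)) (by norm_num) (fun _ => hall _) (((((((LB_zero T ((skipEmb 0).trans (Function.Embedding.refl _))).upd 0 3 1 (le_of_eq hx14)).upd 1 3 1 (le_of_eq hx24)).upd 2 3 1 (le_of_eq hx34)).upd 3 0 1 (le_of_eq hx41)).upd 3 1 2 (le_of_eq hx42)).upd 3 2 1 (le_of_eq hx43)) ![1,1,1,2] (by decide) (by decide) 0 (by decide))
      · -- 34=(1,2)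
        exact False.elim (cert_false T ((skipEmb 1).trans (Function.Embedding.refl _)) (by norm_num) (fun _ => hall _) (((((LB_zero T ((skipEmb 1).trans (Function.Embedding.refl _))).upd 1 3 1 (le_of_eq hx24)).upd 2 3 1 (le_of_eq hx34)).upd 3 1 2 (le_of_eq hx42)).upd 3 2 2 (le_of_eq hx43)) ![0,1,1,2] (by decide) (by decide) 1 (by decide))
      · -- 34=(2,1)
        exact False.elim (cert_false T ((skipEmb 1).trans (Function.Embedding.refl _)) (by norm_num) (fun _ => hall _) (((((LB_zero T ((skipEmb 1).trans (Function.Embedding.refl _))).upd 1 3 1 (le_of_eq hx24)).upd 2 3 2 (le_of_eq hx34)).upd 3 1 2 (le_of_eq hx42)).upd 3 2 1 (le_of_eq hx43)) ![0,1,2,2] (by decide) (by decide) 1 (by decide))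
      · -- 34=(1,3)
        exact False.elim (cert_false T ((skipEmb 2).trans (Function.Embedding.refl _)) (by norm_num) (fun _ => hall _) (((((LB_zero T ((skipEmb 2).trans (Function.Embedding.refl _))).upd 1 3 1 (le_of_eq hx14)).upd 2 3 1 (le_of_eq hx34)).upd 3 1 1 (le_of_eq hx41)).upd 3 2 3 (le_of_eq hx43)) ![0,1,1,2] (by decide) (by decide) 1 (by decide))
      · -- 34=(3,1)
        exact False.elim (cert_false T ((skipEmb 2).trans (Function.Embedding.refl _)) (by norm_num) (fun _ => hall _) (((((LB_zero T ((skipEmb 2).trans (Function.Embedding.refl _))).upd 1 3 1 (le_of_eq hx14)).upd 2 3 3 (le_of_eq hx34)).upd 3 1 1 (le_of_eq hx41)).upd 3 2 1 (le_of_eq hx43)) ![0,1,3,2] (by decide) (by decide) 1 (by decide))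
    · -- 24=(2,1)
      rcases d34 with ⟨rfl, rfl⟩ | ⟨rfl, rfl⟩ | ⟨rfl, rfl⟩ | ⟨rfl, rfl⟩ | ⟨rfl, rfl⟩ | ⟨rfl, rfl⟩
      · -- 34=(0,0)
        exfalso; omega
      · -- 34=(1,1)
        exact False.elim (cert_false T ((skipEmb 0).trans (Function.Embedding.refl _)) (by norm_num) (fun _ => hall _) (((((((LB_zero T ((skipEmb 0).trans (Function.Embedding.refl _))).upd 0 3 1 (le_of_eq hx14)).upd 1 3 2 (le_of_eq hx24)).upd 2 3 1 (le_of_eq hx34)).upd 3 0 1 (le_of_eq hx41)).upd 3 1 1 (le_of_eq hx42)).upd 3 2 1 (le_of_eq hx43)) ![1,2,1,2] (by decide) (by decide) 0 (by decide))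
      · -- 34=(1,2)
        exact False.elim (cert_false T ((skipEmb 1).trans (Function.Embedding.refl _)) (by norm_num) (fun _ => hall _) (((((LB_zero T ((skipEmb 1).trans (Function.Embedding.refl _))).upd 1 3 2 (le_of_eq hx24)).upd 2 3 1 (le_of_eq hx34)).upd 3 1 1 (le_of_eq hx42)).upd 3 2 2 (le_of_eq hx43)) ![0,2,1,2] (by decide) (by decide) 1 (by decide))
      · -- 34=(2,1)
        exact False.elim (cert_false T ((skipEmb 1).trans (Function.Embedding.refl _)) (by norm_num) (fun _ => hall _) (((((LB_zero T ((skipEmb 1).trans (Function.Embedding.refl _))).upd 1 3 2 (le_of_eq hx24)).upd 2 3 2 (le_of_eq hx34)).upd 3 1 1 (le_of_eq hx42)).upd 3 2 1 (le_of_eq hx43)) ![0,1,1,1] (by decide) (by decide) 1 (by decide))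
      · -- 34=(1,3)
        exact False.elim (cert_false T ((skipEmb 2).trans (Function.Embedding.refl _)) (by norm_num) (fun _ => hall _) (((((LB_zero T ((skipEmb 2).trans (Function.Embedding.refl _))).upd 1 3 1 (le_of_eq hx14)).upd 2 3 1 (le_of_eq hx34)).upd 3 1 1 (le_of_eq hx41)).upd 3 2 3 (le_of_eq hx43)) ![0,1,1,2] (by decide) (by decide) 1 (by decide))
      · -- 34=(3,1)
        exact False.elim (cert_false T ((skipEmb 2).trans (Function.Embedding.refl _)) (by norm_num) (fun _ => hall _) (((((LB_zero T ((skipEmb 2).trans (Function.Embedding.refl _))).upd 1 3 1 (le_of_eq hx14)).upd 2 3 3 (le_of_eq hx34)).upd 3 1 1 (le_of_eq hx41)).upd 3 2 1 (le_of_eq hx43)) ![0,1,3,2] (by decide) (by decide) 1 (by decide))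
    · -- 24=(1,3)
      exact False.elim (cert_false T ((skipEmb 3).trans (Function.Embedding.refl _)) (by norm_num) (fun _ => hall _) (((((LB_zero T ((skipEmb 3).trans (Function.Embedding.refl _))).upd 1 3 1 (le_of_eq hx14)).upd 2 3 1 (le_of_eq hx24)).upd 3 1 1 (le_of_eq hx41)).upd 3 2 3 (le_of_eq hx42)) ![0,1,1,2] (by decide) (by decide) 1 (by decide))
    · -- 24=(3,1)
      exact False.elim (cert_false T ((skipEmb 3).trans (Function.Embedding.refl _)) (by norm_num) (fun _ => hall _) (((((LB_zero T ((skipEmb 3).trans (Function.Embedding.refl _))).upd 1 3 1 (le_of_eq hx14)).upd 2 3 3 (le_of_eq hx24)).upd 3 1 1 (le_of_eq hx41)).upd 3 2 1 (le_of_eq hx42)) ![0,1,3,2] (by decide) (by decide) 1 (by decide))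
  · -- 14=(1,2)
    rcases d24 with ⟨rfl, rfl⟩ | ⟨rfl, rfl⟩ | ⟨rfl, rfl⟩ | ⟨rfl, rfl⟩ | ⟨rfl, rfl⟩ | ⟨rfl, rfl⟩
    · -- 24=(0,0)
      rcases d34 with ⟨rfl, rfl⟩ | ⟨rfl, rfl⟩ | ⟨rfl, rfl⟩ | ⟨rfl, rfl⟩ | ⟨rfl, rfl⟩ | ⟨rfl, rfl⟩
      · -- 34=(0,0)
        exfalso; omega
      · -- 34=(1,1)
        exfalso; omega
      · -- 34=(1,2)
        exact False.elim (cert_false T ((skipEmb 2).trans (Function.Embedding.refl _)) (by norm_num) (fun _ => hall _) (((((LB_zero T ((skipEmb 2).trans (Function.Embedding.refl _))).upd 1 3 1 (le_of_eq hx14)).upd 2 3 1 (le_of_eq hx34)).upd 3 1 2 (le_of_eq hx41)).upd 3 2 2 (le_of_eq hx43)) ![0,1,1,2] (by decide) (by decide) 1 (by decide))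
      · -- 34=(2,1)
        exact False.elim (cert_false T ((skipEmb 2).trans (Function.Embedding.refl _)) (by norm_num) (fun _ => hall _) (((((LB_zero T ((skipEmb 2).trans (Function.Embedding.refl _))).upd 1 3 1 (le_of_eq hx14)).upd 2 3 2 (le_of_eq hx34)).upd 3 1 2 (le_of_eq hx41)).upd 3 2 1 (le_of_eq hx43)) ![0,1,2,2] (by decide) (by decide) 1 (by decide))
      · -- 34=(1,3)
        exact False.elim (cert_false T ((skipEmb 2).trans (Function.Embedding.refl _)) (by norm_num) (fun _ => hall _) (((((LB_zero T ((skipEmb 2).trans (Function.Embedding.refl _))).upd 1 3 1 (le_of_eq hx14)).upd 2 3 1 (le_of_eq hx34)).upd 3 1 2 (le_of_eq hx41)).upd 3 2 3 (le_of_eq hx43)) ![0,1,1,2] (by decide) (by decide) 1 (by decide))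
      · -- 34=(3,1)
        exact False.elim (cert_false T ((skipEmb 2).trans (Function.Embedding.refl _)) (by norm_num) (fun _ => hall _) (((((LB_zero T ((skipEmb 2).trans (Function.Embedding.refl _))).upd 1 3 1 (le_of_eq hx14)).upd 2 3 3 (le_of_eq hx34)).upd 3 1 2 (le_of_eq hx41)).upd 3 2 1 (le_of_eq hx43)) ![0,1,2,2] (by decide) (by decide) 1 (by decide))
    · -- 24=(1,1)
      rcases d34 with ⟨rfl, rfl⟩ | ⟨rfl, rfl⟩ | ⟨rfl, rfl⟩ | ⟨rfl, rfl⟩ | ⟨rfl, rfl⟩ | ⟨rfl, rfl⟩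
      · -- 34=(0,0)
        exfalso; omega
      · -- 34=(1,1)
        exact False.elim (cert_false T ((skipEmb 0).trans (Function.Embedding.refl _)) (by norm_num) (fun _ => hall _) (((((((LB_zero T ((skipEmb 0).trans (Function.Embedding.refl _))).upd 0 3 1 (le_of_eq hx14)).upd 1 3 1 (le_of_eq hx24)).upd 2 3 1 (le_of_eq hx34)).upd 3 0 2 (le_of_eq hx41)).upd 3 1 1 (le_of_eq hx42)).upd 3 2 1 (le_of_eq hx43)) ![1,1,1,2] (by decide) (by decide) 0 (by decide))
      · -- 34=(1,2)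
        exact False.elim (cert_false T ((skipEmb 2).trans (Function.Embedding.refl _)) (by norm_num) (fun _ => hall _) (((((LB_zero T ((skipEmb 2).trans (Function.Embedding.refl _))).upd 1 3 1 (le_of_eq hx14)).upd 2 3 1 (le_of_eq hx34)).upd 3 1 2 (le_of_eq hx41)).upd 3 2 2 (le_of_eq hx43)) ![0,1,1,2] (by decide) (by decide) 1 (by decide))
      · -- 34=(2,1)
        exact False.elim (cert_false T ((skipEmb 2).trans (Function.Embedding.refl _)) (by norm_num) (fun _ => hall _) (((((LB_zero T ((skipEmb 2).trans (Function.Embedding.refl _))).upd 1 3 1 (le_of_eq hx14)).upd 2 3 2 (le_of_eq hx34)).upd 3 1 2 (le_of_eq hx41)).upd 3 2 1 (le_of_eq hx43)) ![0,1,2,2] (by decide) (by decide) 1 (by decide))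
      · -- 34=(1,3)
        exact False.elim (cert_false T ((skipEmb 2).trans (Function.Embedding.refl _)) (by norm_num) (fun _ => hall _) (((((LB_zero T ((skipEmb 2).trans (Function.Embedding.refl _))).upd 1 3 1 (le_of_eq hx14)).upd 2 3 1 (le_of_eq hx34)).upd 3 1 2 (le_of_eq hx41)).upd 3 2 3 (le_of_eq hx43)) ![0,1,1,2] (by decide) (by decide) 1 (by decide))
      · -- 34=(3,1)
        exact False.elim (cert_false T ((skipEmb 2).trans (Function.Embedding.refl _)) (by norm_num) (fun _ => hall _) (((((LB_zero T ((skipEmb 2).trans (Function.Embedding.refl _))).upd 1 3 1 (le_of_eq hx14)).upd 2 3 3 (le_of_eq hx34)).upd 3 1 2 (le_of_eq hx41)).upd 3 2 1 (le_of_eq hx43)) ![0,1,2,2] (by decide) (by decide) 1 (by decide))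
    · -- 24=(1,2)
      exact False.elim (cert_false T ((skipEmb 3).trans (Function.Embedding.refl _)) (by norm_num) (fun _ => hall _) (((((LB_zero T ((skipEmb 3).trans (Function.Embedding.refl _))).upd 1 3 1 (le_of_eq hx14)).upd 2 3 1 (le_of_eq hx24)).upd 3 1 2 (le_of_eq hx41)).upd 3 2 2 (le_of_eq hx42)) ![0,1,1,2] (by decide) (by decide) 1 (by decide))
    · -- 24=(2,1)
      exact False.elim (cert_false T ((skipEmb 3).trans (Function.Embedding.refl _)) (by norm_num) (fun _ => hall _) (((((LB_zero T ((skipEmb 3).trans (Function.Embedding.refl _))).upd 1 3 1 (le_of_eq hx14)).upd 2 3 2 (le_of_eq hx24)).upd 3 1 2 (le_of_eq hx41)).upd 3 2 1 (le_of_eq hx42)) ![0,1,2,2] (by decide) (by decide) 1 (by decide))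
    · -- 24=(1,3)
      exact False.elim (cert_false T ((skipEmb 3).trans (Function.Embedding.refl _)) (by norm_num) (fun _ => hall _) (((((LB_zero T ((skipEmb 3).trans (Function.Embedding.refl _))).upd 1 3 1 (le_of_eq hx14)).upd 2 3 1 (le_of_eq hx24)).upd 3 1 2 (le_of_eq hx41)).upd 3 2 3 (le_of_eq hx42)) ![0,1,1,2] (by decide) (by decide) 1 (by decide))
    · -- 24=(3,1)
      exact False.elim (cert_false T ((skipEmb 3).trans (Function.Embedding.refl _)) (by norm_num) (fun _ => hall _) (((((LB_zero T ((skipEmb 3).trans (Function.Embedding.refl _))).upd 1 3 1 (le_of_eq hx14)).upd 2 3 3 (le_of_eq hx24)).upd 3 1 2 (le_of_eq hx41)).upd 3 2 1 (le_of_eq hx42)) ![0,1,2,2] (by decide) (by decide) 1 (by decide))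
  · -- 14=(2,1)
    rcases d24 with ⟨rfl, rfl⟩ | ⟨rfl, rfl⟩ | ⟨rfl, rfl⟩ | ⟨rfl, rfl⟩ | ⟨rfl, rfl⟩ | ⟨rfl, rfl⟩
    · -- 24=(0,0)
      rcases d34 with ⟨rfl, rfl⟩ | ⟨rfl, rfl⟩ | ⟨rfl, rfl⟩ | ⟨rfl, rfl⟩ | ⟨rfl, rfl⟩ | ⟨rfl, rfl⟩
      · -- 34=(0,0)
        exfalso; omega
      · -- 34=(1,1)
        exfalso; omega
      · -- 34=(1,2)
        exact False.elim (cert_false T ((skipEmb 2).trans (Function.Embedding.refl _)) (by norm_num) (fun _ => hall _) (((((LB_zero T ((skipEmb 2).trans (Function.Embedding.refl _))).upd 1 3 2 (le_of_eq hx14)).upd 2 3 1 (le_of_eq hx34)).upd 3 1 1 (le_of_eq hx41)).upd 3 2 2 (le_of_eq hx43)) ![0,2,1,2] (by decide) (by decide) 1 (by decide))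
      · -- 34=(2,1)
        exact False.elim (cert_false T ((skipEmb 2).trans (Function.Embedding.refl _)) (by norm_num) (fun _ => hall _) (((((LB_zero T ((skipEmb 2).trans (Function.Embedding.refl _))).upd 1 3 2 (le_of_eq hx14)).upd 2 3 2 (le_of_eq hx34)).upd 3 1 1 (le_of_eq hx41)).upd 3 2 1 (le_of_eq hx43)) ![0,1,1,1] (by decide) (by decide) 1 (by decide))
      · -- 34=(1,3)
        exact False.elim (cert_false T ((skipEmb 2).trans (Function.Embedding.refl _)) (by norm_num) (fun _ => hall _) (((((LB_zero T ((skipEmb 2).trans (Function.Embedding.refl _))).upd 1 3 2 (le_of_eq hx14)).upd 2 3 1 (le_of_eq hx34)).upd 3 1 1 (le_of_eq hx41)).upd 3 2 3 (le_of_eq hx43)) ![0,1,1,2] (by decide) (by decide) 1 (by decide))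
      · -- 34=(3,1)
        exact False.elim (cert_false T ((skipEmb 2).trans (Function.Embedding.refl _)) (by norm_num) (fun _ => hall _) (((((LB_zero T ((skipEmb 2).trans (Function.Embedding.refl _))).upd 1 3 2 (le_of_eq hx14)).upd 2 3 3 (le_of_eq hx34)).upd 3 1 1 (le_of_eq hx41)).upd 3 2 1 (le_of_eq hx43)) ![0,1,1,1] (by decide) (by decide) 1 (by decide))
    · -- 24=(1,1)
      rcases d34 with ⟨rfl, rfl⟩ | ⟨rfl, rfl⟩ | ⟨rfl, rfl⟩ | ⟨rfl, rfl⟩ | ⟨rfl, rfl⟩ | ⟨rfl, rfl⟩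
      · -- 34=(0,0)
        exfalso; omega
      · -- 34=(1,1)
        exact False.elim (cert_false T ((skipEmb 0).trans (Function.Embedding.refl _)) (by norm_num) (fun _ => hall _) (((((((LB_zero T ((skipEmb 0).trans (Function.Embedding.refl _))).upd 0 3 2 (le_of_eq hx14)).upd 1 3 1 (le_of_eq hx24)).upd 2 3 1 (le_of_eq hx34)).upd 3 0 1 (le_of_eq hx41)).upd 3 1 1 (le_of_eq hx42)).upd 3 2 1 (le_of_eq hx43)) ![2,1,1,2] (by decide) (by decide) 0 (by decide))
      · -- 34=(1,2)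
        exact False.elim (cert_false T ((skipEmb 2).trans (Function.Embedding.refl _)) (by norm_num) (fun _ => hall _) (((((LB_zero T ((skipEmb 2).trans (Function.Embedding.refl _))).upd 1 3 2 (le_of_eq hx14)).upd 2 3 1 (le_of_eq hx34)).upd 3 1 1 (le_of_eq hx41)).upd 3 2 2 (le_of_eq hx43)) ![0,2,1,2] (by decide) (by decide) 1 (by decide))
      · -- 34=(2,1)
        exact False.elim (cert_false T ((skipEmb 2).trans (Function.Embedding.refl _)) (by norm_num) (fun _ => hall _) (((((LB_zero T ((skipEmb 2).trans (Function.Embedding.refl _))).upd 1 3 2 (le_of_eq hx14)).upd 2 3 2 (le_of_eq hx34)).upd 3 1 1 (le_of_eq hx41)).upd 3 2 1 (le_of_eq hx43)) ![0,1,1,1] (by decide) (by decide) 1 (by decide))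
      · -- 34=(1,3)
        exact False.elim (cert_false T ((skipEmb 2).trans (Function.Embedding.refl _)) (by norm_num) (fun _ => hall _) (((((LB_zero T ((skipEmb 2).trans (Function.Embedding.refl _))).upd 1 3 2 (le_of_eq hx14)).upd 2 3 1 (le_of_eq hx34)).upd 3 1 1 (le_of_eq hx41)).upd 3 2 3 (le_of_eq hx43)) ![0,1,1,2] (by decide) (by decide) 1 (by decide))
      · -- 34=(3,1)
        exact False.elim (cert_false T ((skipEmb 2).trans (Function.Embedding.refl _)) (by norm_num) (fun _ => hall _) (((((LB_zero T ((skipEmb 2).trans (Function.Embedding.refl _))).upd 1 3 2 (le_of_eq hx14)).upd 2 3 3 (le_of_eq hx34)).upd 3 1 1 (le_of_eq hx41)).upd 3 2 1 (le_of_eq hx43)) ![0,1,1,1] (by decide) (by decide) 1 (by decide))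
    · -- 24=(1,2)
      exact False.elim (cert_false T ((skipEmb 3).trans (Function.Embedding.refl _)) (by norm_num) (fun _ => hall _) (((((LB_zero T ((skipEmb 3).trans (Function.Embedding.refl _))).upd 1 3 2 (le_of_eq hx14)).upd 2 3 1 (le_of_eq hx24)).upd 3 1 1 (le_of_eq hx41)).upd 3 2 2 (le_of_eq hx42)) ![0,2,1,2] (by decide) (by decide) 1 (by decide))
    · -- 24=(2,1)
      exact False.elim (cert_false T ((skipEmb 3).trans (Function.Embedding.refl _)) (by norm_num) (fun _ => hall _) (((((LB_zero T ((skipEmb 3).trans (Function.Embedding.refl _))).upd 1 3 2 (le_of_eq hx14)).upd 2 3 2 (le_of_eq hx24)).upd 3 1 1 (le_of_eq hx41)).upd 3 2 1 (le_of_eq hx42)) ![0,1,1,1] (by decide) (by decide) 1 (by decide))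
    · -- 24=(1,3)
      exact False.elim (cert_false T ((skipEmb 3).trans (Function.Embedding.refl _)) (by norm_num) (fun _ => hall _) (((((LB_zero T ((skipEmb 3).trans (Function.Embedding.refl _))).upd 1 3 2 (le_of_eq hx14)).upd 2 3 1 (le_of_eq hx24)).upd 3 1 1 (le_of_eq hx41)).upd 3 2 3 (le_of_eq hx42)) ![0,1,1,2] (by decide) (by decide) 1 (by decide))
    · -- 24=(3,1)
      exact False.elim (cert_false T ((skipEmb 3).trans (Function.Embedding.refl _)) (by norm_num) (fun _ => hall _) (((((LB_zero T ((skipEmb 3).trans (Function.Embedding.refl _))).upd 1 3 2 (le_of_eq hx14)).upd 2 3 3 (le_of_eq hx24)).upd 3 1 1 (le_of_eq hx41)).upd 3 2 1 (le_of_eq hx42)) ![0,1,1,1] (by decide) (by decide) 1 (by decide))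
  · -- 14=(1,3)
    rcases d24 with ⟨rfl, rfl⟩ | ⟨rfl, rfl⟩ | ⟨rfl, rfl⟩ | ⟨rfl, rfl⟩ | ⟨rfl, rfl⟩ | ⟨rfl, rfl⟩
    · -- 24=(0,0)
      rcases d34 with ⟨rfl, rfl⟩ | ⟨rfl, rfl⟩ | ⟨rfl, rfl⟩ | ⟨rfl, rfl⟩ | ⟨rfl, rfl⟩ | ⟨rfl, rfl⟩
      · -- 34=(0,0)
        exfalso; omega
      · -- 34=(1,1)
        exact False.elim (cert_false T ((skipEmb 2).trans (Function.Embedding.refl _)) (by norm_num) (fun _ => hall _) (((((LB_zero T ((skipEmb 2).trans (Function.Embedding.refl _))).upd 1 3 1 (le_of_eq hx14)).upd 2 3 1 (le_of_eq hx34)).upd 3 1 3 (le_of_eq hx41)).upd 3 2 1 (le_of_eq hx43)) ![0,1,1,2] (by decide) (by decide) 1 (by decide))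
      · -- 34=(1,2)
        exact False.elim (cert_false T ((skipEmb 2).trans (Function.Embedding.refl _)) (by norm_num) (fun _ => hall _) (((((LB_zero T ((skipEmb 2).trans (Function.Embedding.refl _))).upd 1 3 1 (le_of_eq hx14)).upd 2 3 1 (le_of_eq hx34)).upd 3 1 3 (le_of_eq hx41)).upd 3 2 2 (le_of_eq hx43)) ![0,1,1,2] (by decide) (by decide) 1 (by decide))
      · -- 34=(2,1)
        exact False.elim (cert_false T ((skipEmb 2).trans (Function.Embedding.refl _)) (by norm_num) (fun _ => hall _) (((((LB_zero T ((skipEmb 2).trans (Function.Embedding.refl _))).upd 1 3 1 (le_of_eq hx14)).upd 2 3 2 (le_of_eq hx34)).upd 3 1 3 (le_of_eq hx41)).upd 3 2 1 (le_of_eq hx43)) ![0,1,1,2] (by decide) (by decide) 1 (by decide))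
      · -- 34=(1,3)
        exact False.elim (cert_false T ((skipEmb 2).trans (Function.Embedding.refl _)) (by norm_num) (fun _ => hall _) (((((LB_zero T ((skipEmb 2).trans (Function.Embedding.refl _))).upd 1 3 1 (le_of_eq hx14)).upd 2 3 1 (le_of_eq hx34)).upd 3 1 3 (le_of_eq hx41)).upd 3 2 3 (le_of_eq hx43)) ![0,1,1,2] (by decide) (by decide) 1 (by decide))
      · -- 34=(3,1)
        exact False.elim (cert_false T ((skipEmb 2).trans (Function.Embedding.refl _)) (by norm_num) (fun _ => hall _) (((((LB_zero T ((skipEmb 2).trans (Function.Embedding.refl _))).upd 1 3 1 (le_of_eq hx14)).upd 2 3 3 (le_of_eq hx34)).upd 3 1 3 (le_of_eq hx41)).upd 3 2 1 (le_of_eq hx43)) ![0,1,1,2] (by decide) (by decide) 1 (by decide))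
    · -- 24=(1,1)
      exact False.elim (cert_false T ((skipEmb 3).trans (Function.Embedding.refl _)) (by norm_num) (fun _ => hall _) (((((LB_zero T ((skipEmb 3).trans (Function.Embedding.refl _))).upd 1 3 1 (le_of_eq hx14)).upd 2 3 1 (le_of_eq hx24)).upd 3 1 3 (le_of_eq hx41)).upd 3 2 1 (le_of_eq hx42)) ![0,1,1,2] (by decide) (by decide) 1 (by decide))
    · -- 24=(1,2)
      exact False.elim (cert_false T ((skipEmb 3).trans (Function.Embedding.refl _)) (by norm_num) (fun _ => hall _) (((((LB_zero T ((skipEmb 3).trans (Function.Embedding.refl _))).upd 1 3 1 (le_of_eq hx14)).upd 2 3 1 (le_of_eq hx24)).upd 3 1 3 (le_of_eq hx41)).upd 3 2 2 (le_of_eq hx42)) ![0,1,1,2] (by decide) (by decide) 1 (by decide))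
    · -- 24=(2,1)
      exact False.elim (cert_false T ((skipEmb 3).trans (Function.Embedding.refl _)) (by norm_num) (fun _ => hall _) (((((LB_zero T ((skipEmb 3).trans (Function.Embedding.refl _))).upd 1 3 1 (le_of_eq hx14)).upd 2 3 2 (le_of_eq hx24)).upd 3 1 3 (le_of_eq hx41)).upd 3 2 1 (le_of_eq hx42)) ![0,1,1,2] (by decide) (by decide) 1 (by decide))
    · -- 24=(1,3)
      exact False.elim (cert_false T ((skipEmb 3).trans (Function.Embedding.refl _)) (by norm_num) (fun _ => hall _) (((((LB_zero T ((skipEmb 3).trans (Function.Embedding.refl _))).upd 1 3 1 (le_of_eq hx14)).upd 2 3 1 (le_of_eq hx24)).upd 3 1 3 (le_of_eq hx41)).upd 3 2 3 (le_of_eq hx42)) ![0,1,1,2] (by decide) (by decide) 1 (by decide))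
    · -- 24=(3,1)
      exact False.elim (cert_false T ((skipEmb 3).trans (Function.Embedding.refl _)) (by norm_num) (fun _ => hall _) (((((LB_zero T ((skipEmb 3).trans (Function.Embedding.refl _))).upd 1 3 1 (le_of_eq hx14)).upd 2 3 3 (le_of_eq hx24)).upd 3 1 3 (le_of_eq hx41)).upd 3 2 1 (le_of_eq hx42)) ![0,1,1,2] (by decide) (by decide) 1 (by decide))
  · -- 14=(3,1)
    rcases d24 with ⟨rfl, rfl⟩ | ⟨rfl, rfl⟩ | ⟨rfl, rfl⟩ | ⟨rfl, rfl⟩ | ⟨rfl, rfl⟩ | ⟨rfl, rfl⟩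
    · -- 24=(0,0)
      rcases d34 with ⟨rfl, rfl⟩ | ⟨rfl, rfl⟩ | ⟨rfl, rfl⟩ | ⟨rfl, rfl⟩ | ⟨rfl, rfl⟩ | ⟨rfl, rfl⟩
      · -- 34=(0,0)
        exfalso; omega
      · -- 34=(1,1)
        exact False.elim (cert_false T ((skipEmb 2).trans (Function.Embedding.refl _)) (by norm_num) (fun _ => hall _) (((((LB_zero T ((skipEmb 2).trans (Function.Embedding.refl _))).upd 1 3 3 (le_of_eq hx14)).upd 2 3 1 (le_of_eq hx34)).upd 3 1 1 (le_of_eq hx41)).upd 3 2 1 (le_of_eq hx43)) ![0,3,1,2] (by decide) (by decide) 1 (by decide))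
      · -- 34=(1,2)
        exact False.elim (cert_false T ((skipEmb 2).trans (Function.Embedding.refl _)) (by norm_num) (fun _ => hall _) (((((LB_zero T ((skipEmb 2).trans (Function.Embedding.refl _))).upd 1 3 3 (le_of_eq hx14)).upd 2 3 1 (le_of_eq hx34)).upd 3 1 1 (le_of_eq hx41)).upd 3 2 2 (le_of_eq hx43)) ![0,2,1,2] (by decide) (by decide) 1 (by decide))
      · -- 34=(2,1)
        exact False.elim (cert_false T ((skipEmb 2).trans (Function.Embedding.refl _)) (by norm_num) (fun _ => hall _) (((((LB_zero T ((skipEmb 2).trans (Function.Embedding.refl _))).upd 1 3 3 (le_of_eq hx14)).upd 2 3 2 (le_of_eq hx34)).upd 3 1 1 (le_of_eq hx41)).upd 3 2 1 (le_of_eq hx43)) ![0,1,1,1] (by decide) (by decide) 1 (by decide))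
      · -- 34=(1,3)
        exact False.elim (cert_false T ((skipEmb 2).trans (Function.Embedding.refl _)) (by norm_num) (fun _ => hall _) (((((LB_zero T ((skipEmb 2).trans (Function.Embedding.refl _))).upd 1 3 3 (le_of_eq hx14)).upd 2 3 1 (le_of_eq hx34)).upd 3 1 1 (le_of_eq hx41)).upd 3 2 3 (le_of_eq hx43)) ![0,1,1,2] (by decide) (by decide) 1 (by decide))
      · -- 34=(3,1)
        exact False.elim (cert_false T ((skipEmb 2).trans (Function.Embedding.refl _)) (by norm_num) (fun _ => hall _) (((((LB_zero T ((skipEmb 2).trans (Function.Embedding.refl _))).upd 1 3 3 (le_of_eq hx14)).upd 2 3 3 (le_of_eq hx34)).upd 3 1 1 (le_of_eq hx41)).upd 3 2 1 (le_of_eq hx43)) ![0,1,1,1] (by decide) (by decide) 1 (by decide))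
    · -- 24=(1,1)
      exact False.elim (cert_false T ((skipEmb 3).trans (Function.Embedding.refl _)) (by norm_num) (fun _ => hall _) (((((LB_zero T ((skipEmb 3).trans (Function.Embedding.refl _))).upd 1 3 3 (le_of_eq hx14)).upd 2 3 1 (le_of_eq hx24)).upd 3 1 1 (le_of_eq hx41)).upd 3 2 1 (le_of_eq hx42)) ![0,3,1,2] (by decide) (by decide) 1 (by decide))
    · -- 24=(1,2)
      exact False.elim (cert_false T ((skipEmb 3).trans (Function.Embedding.refl _)) (by norm_num) (fun _ => hall _) (((((LB_zero T ((skipEmb 3).trans (Function.Embedding.refl _))).upd 1 3 3 (le_of_eq hx14)).upd 2 3 1 (le_of_eq hx24)).upd 3 1 1 (le_of_eq hx41)).upd 3 2 2 (le_of_eq hx42)) ![0,2,1,2] (by decide) (by decide) 1 (by decide))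
    · -- 24=(2,1)
      exact False.elim (cert_false T ((skipEmb 3).trans (Function.Embedding.refl _)) (by norm_num) (fun _ => hall _) (((((LB_zero T ((skipEmb 3).trans (Function.Embedding.refl _))).upd 1 3 3 (le_of_eq hx14)).upd 2 3 2 (le_of_eq hx24)).upd 3 1 1 (le_of_eq hx41)).upd 3 2 1 (le_of_eq hx42)) ![0,1,1,1] (by decide) (by decide) 1 (by decide))
    · -- 24=(1,3)
      exact False.elim (cert_false T ((skipEmb 3).trans (Function.Embedding.refl _)) (by norm_num) (fun _ => hall _) (((((LB_zero T ((skipEmb 3).trans (Function.Embedding.refl _))).upd 1 3 3 (le_of_eq hx14)).upd 2 3 1 (le_of_eq hx24)).upd 3 1 1 (le_of_eq hx41)).upd 3 2 3 (le_of_eq hx42)) ![0,1,1,2] (by decide) (by decide) 1 (by decide))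
    · -- 24=(3,1)
      exact False.elim (cert_false T ((skipEmb 3).trans (Function.Embedding.refl _)) (by norm_num) (fun _ => hall _) (((((LB_zero T ((skipEmb 3).trans (Function.Embedding.refl _))).upd 1 3 3 (le_of_eq hx14)).upd 2 3 3 (le_of_eq hx24)).upd 3 1 1 (le_of_eq hx41)).upd 3 2 1 (le_of_eq hx42)) ![0,1,1,1] (by decide) (by decide) 1 (by decide))

theorem case7 (T : NumericalType 5) (hall : ∀ i, T.IsMinusTwo i) (d : SData T)
    (h01 : N T (Function.Embedding.refl _) 0 1 = 0) (h10 : N T (Function.Embedding.refl _) 1 0 = 0)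
    (h02 : N T (Function.Embedding.refl _) 0 2 = 0) (h20 : N T (Function.Embedding.refl _) 2 0 = 0)
    (h12 : N T (Function.Embedding.refl _) 1 2 = 0) (h21 : N T (Function.Embedding.refl _) 2 1 = 0)
    (h03 : N T (Function.Embedding.refl _) 0 3 = 0) (h30 : N T (Function.Embedding.refl _) 3 0 = 0)
    (h13 : N T (Function.Embedding.refl _) 1 3 = 0) (h31 : N T (Function.Embedding.refl _) 3 1 = 0)
    (h23 : N T (Function.Embedding.refl _) 2 3 = 0) (h32 : N T (Function.Embedding.refl _) 3 2 = 0)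
    (h04 : N T (Function.Embedding.refl _) 0 4 = 1) (h40 : N T (Function.Embedding.refl _) 4 0 = 1) :
    Goal T := by
  unfold Goal
  have hd := d
  obtain ⟨x01, x02, x03, x04, x10, x12, x13, x14, x20, x21, x23, x24, x30, x31, x32, x34, x40, x41, x42, x43, hx01, hx02, hx03, hx04, hx10, hx12, hx13, hx14, hx20, hx21, hx23, hx24, hx30, hx31, hx32, hx34, hx40, hx41, hx42, hx43, hw0, hm0, hw1, hm1, hw2, hm2, hw3, hm3, hw4, hm4, a00, a01, a02, a03, a04, a11, a10, a12, a13, a14, a22, a20, a21, a23, a24, a33, a30, a31, a32, a34, a44, a40, a41, a42, a43, wN01, wN02, wN12, wN03, wN13, wN23, wN04, wN14, wN24, wN34, e0, e1, e2, e3, e4, d01, d02, d12, d03, d13, d23, d04, d14, d24, d34⟩ := d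
  obtain rfl : x01 = 0 := hx01.trans h01
  obtain rfl : x10 = 0 := hx10.trans h10
  obtain rfl : x02 = 0 := hx02.trans h02
  obtain rfl : x20 = 0 := hx20.trans h20
  obtain rfl : x12 = 0 := hx12.trans h12
  obtain rfl : x21 = 0 := hx21.trans h21
  obtain rfl : x03 = 0 := hx03.trans h03
  obtain rfl : x30 = 0 := hx30.trans h30
  obtain rfl : x13 = 0 := hx13.trans h13
  obtain rfl : x31 = 0 := hx31.trans h31
  obtain rfl : x23 = 0 := hx23.trans h23
  obtain rfl : x32 = 0 := hx32.trans h32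
  obtain rfl : x04 = 1 := hx04.trans h04
  obtain rfl : x40 = 1 := hx40.trans h40
  rcases d14 with ⟨rfl, rfl⟩ | ⟨rfl, rfl⟩ | ⟨rfl, rfl⟩ | ⟨rfl, rfl⟩ | ⟨rfl, rfl⟩ | ⟨rfl, rfl⟩
  · -- 14=(0,0)
    rcases d24 with ⟨rfl, rfl⟩ | ⟨rfl, rfl⟩ | ⟨rfl, rfl⟩ | ⟨rfl, rfl⟩ | ⟨rfl, rfl⟩ | ⟨rfl, rfl⟩
    · -- 24=(0,0)
      rcases d34 with ⟨rfl, rfl⟩ | ⟨rfl, rfl⟩ | ⟨rfl, rfl⟩ | ⟨rfl, rfl⟩ | ⟨rfl, rfl⟩ | ⟨rfl, rfl⟩
      · -- 34=(0,0)
        exfalso; omega
      · -- 34=(1,1)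
        exfalso; omega
      · -- 34=(1,2)
        exfalso; omega
      · -- 34=(2,1)
        exfalso; omega
      · -- 34=(1,3)
        exact False.elim (cert_false T ((skipEmb 2).trans (Function.Embedding.refl _)) (by norm_num) (fun _ => hall _) (((((LB_zero T ((skipEmb 2).trans (Function.Embedding.refl _))).upd 0 3 1 (le_of_eq hx04)).upd 2 3 1 (le_of_eq hx34)).upd 3 0 1 (le_of_eq hx40)).upd 3 2 3 (le_of_eq hx43)) ![1,0,1,2] (by decide) (by decide) 0 (by decide))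
      · -- 34=(3,1)
        exact False.elim (cert_false T ((skipEmb 2).trans (Function.Embedding.refl _)) (by norm_num) (fun _ => hall _) (((((LB_zero T ((skipEmb 2).trans (Function.Embedding.refl _))).upd 0 3 1 (le_of_eq hx04)).upd 2 3 3 (le_of_eq hx34)).upd 3 0 1 (le_of_eq hx40)).upd 3 2 1 (le_of_eq hx43)) ![1,0,3,2] (by decide) (by decide) 0 (by decide))
    · -- 24=(1,1)
      rcases d34 with ⟨rfl, rfl⟩ | ⟨rfl, rfl⟩ | ⟨rfl, rfl⟩ | ⟨rfl, rfl⟩ | ⟨rfl, rfl⟩ | ⟨rfl, rfl⟩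
      · -- 34=(0,0)
        exfalso; omega
      · -- 34=(1,1)
        exfalso; omega
      · -- 34=(1,2)
        exact False.elim (cert_false T ((skipEmb 1).trans (Function.Embedding.refl _)) (by norm_num) (fun _ => hall _) (((((((LB_zero T ((skipEmb 1).trans (Function.Embedding.refl _))).upd 0 3 1 (le_of_eq hx04)).upd 1 3 1 (le_of_eq hx24)).upd 2 3 1 (le_of_eq hx34)).upd 3 0 1 (le_of_eq hx40)).upd 3 1 1 (le_of_eq hx42)).upd 3 2 2 (le_of_eq hx43)) ![1,1,1,2] (by decide) (by decide) 0 (by decide))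
      · -- 34=(2,1)
        exact False.elim (cert_false T ((skipEmb 1).trans (Function.Embedding.refl _)) (by norm_num) (fun _ => hall _) (((((((LB_zero T ((skipEmb 1).trans (Function.Embedding.refl _))).upd 0 3 1 (le_of_eq hx04)).upd 1 3 1 (le_of_eq hx24)).upd 2 3 2 (le_of_eq hx34)).upd 3 0 1 (le_of_eq hx40)).upd 3 1 1 (le_of_eq hx42)).upd 3 2 1 (le_of_eq hx43)) ![1,1,2,2] (by decide) (by decide) 0 (by decide))
      · -- 34=(1,3)
        exact False.elim (cert_false T ((skipEmb 2).trans (Function.Embedding.refl _)) (by norm_num) (fun _ => hall _) (((((LB_zero T ((skipEmb 2).trans (Function.Embedding.refl _))).upd 0 3 1 (le_of_eq hx04)).upd 2 3 1 (le_of_eq hx34)).upd 3 0 1 (le_of_eq hx40)).upd 3 2 3 (le_of_eq hx43)) ![1,0,1,2] (by decide) (by decide) 0 (by decide))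
      · -- 34=(3,1)
        exact False.elim (cert_false T ((skipEmb 2).trans (Function.Embedding.refl _)) (by norm_num) (fun _ => hall _) (((((LB_zero T ((skipEmb 2).trans (Function.Embedding.refl _))).upd 0 3 1 (le_of_eq hx04)).upd 2 3 3 (le_of_eq hx34)).upd 3 0 1 (le_of_eq hx40)).upd 3 2 1 (le_of_eq hx43)) ![1,0,3,2] (by decide) (by decide) 0 (by decide))
    · -- 24=(1,2)
      rcases d34 with ⟨rfl, rfl⟩ | ⟨rfl, rfl⟩ | ⟨rfl, rfl⟩ | ⟨rfl, rfl⟩ | ⟨rfl, rfl⟩ | ⟨rfl, rfl⟩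
      · -- 34=(0,0)
        exfalso; omega
      · -- 34=(1,1)
        exact False.elim (cert_false T ((skipEmb 1).trans (Function.Embedding.refl _)) (by norm_num) (fun _ => hall _) (((((((LB_zero T ((skipEmb 1).trans (Function.Embedding.refl _))).upd 0 3 1 (le_of_eq hx04)).upd 1 3 1 (le_of_eq hx24)).upd 2 3 1 (le_of_eq hx34)).upd 3 0 1 (le_of_eq hx40)).upd 3 1 2 (le_of_eq hx42)).upd 3 2 1 (le_of_eq hx43)) ![1,1,1,2] (by decide) (by decide) 0 (by decide))
      · -- 34=(1,2)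
        exact False.elim (cert_false T ((skipEmb 1).trans (Function.Embedding.refl _)) (by norm_num) (fun _ => hall _) (((((LB_zero T ((skipEmb 1).trans (Function.Embedding.refl _))).upd 1 3 1 (le_of_eq hx24)).upd 2 3 1 (le_of_eq hx34)).upd 3 1 2 (le_of_eq hx42)).upd 3 2 2 (le_of_eq hx43)) ![0,1,1,2] (by decide) (by decide) 1 (by decide))
      · -- 34=(2,1)
        exact False.elim (cert_false T ((skipEmb 1).trans (Function.Embedding.refl _)) (by norm_num) (fun _ => hall _) (((((LB_zero T ((skipEmb 1).trans (Function.Embedding.refl _))).upd 1 3 1 (le_of_eq hx24)).upd 2 3 2 (le_of_eq hx34)).upd 3 1 2 (le_of_eq hx42)).upd 3 2 1 (le_of_eq hx43)) ![0,1,2,2] (by decide) (by decide) 1 (by decide))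
      · -- 34=(1,3)
        exact False.elim (cert_false T ((skipEmb 2).trans (Function.Embedding.refl _)) (by norm_num) (fun _ => hall _) (((((LB_zero T ((skipEmb 2).trans (Function.Embedding.refl _))).upd 0 3 1 (le_of_eq hx04)).upd 2 3 1 (le_of_eq hx34)).upd 3 0 1 (le_of_eq hx40)).upd 3 2 3 (le_of_eq hx43)) ![1,0,1,2] (by decide) (by decide) 0 (by decide))
      · -- 34=(3,1)
        exact False.elim (cert_false T ((skipEmb 2).trans (Function.Embedding.refl _)) (by norm_num) (fun _ => hall _) (((((LB_zero T ((skipEmb 2).trans (Function.Embedding.refl _))).upd 0 3 1 (le_of_eq hx04)).upd 2 3 3 (le_of_eq hx34)).upd 3 0 1 (le_of_eq hx40)).upd 3 2 1 (le_of_eq hx43)) ![1,0,3,2] (by decide) (by decide) 0 (by decide))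
    · -- 24=(2,1)
      rcases d34 with ⟨rfl, rfl⟩ | ⟨rfl, rfl⟩ | ⟨rfl, rfl⟩ | ⟨rfl, rfl⟩ | ⟨rfl, rfl⟩ | ⟨rfl, rfl⟩
      · -- 34=(0,0)
        exfalso; omega
      · -- 34=(1,1)
        exact False.elim (cert_false T ((skipEmb 1).trans (Function.Embedding.refl _)) (by norm_num) (fun _ => hall _) (((((((LB_zero T ((skipEmb 1).trans (Function.Embedding.refl _))).upd 0 3 1 (le_of_eq hx04)).upd 1 3 2 (le_of_eq hx24)).upd 2 3 1 (le_of_eq hx34)).upd 3 0 1 (le_of_eq hx40)).upd 3 1 1 (le_of_eq hx42)).upd 3 2 1 (le_of_eq hx43)) ![1,2,1,2] (by decide) (by decide) 0 (by decide))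
      · -- 34=(1,2)
        exact False.elim (cert_false T ((skipEmb 1).trans (Function.Embedding.refl _)) (by norm_num) (fun _ => hall _) (((((LB_zero T ((skipEmb 1).trans (Function.Embedding.refl _))).upd 1 3 2 (le_of_eq hx24)).upd 2 3 1 (le_of_eq hx34)).upd 3 1 1 (le_of_eq hx42)).upd 3 2 2 (le_of_eq hx43)) ![0,2,1,2] (by decide) (by decide) 1 (by decide))
      · -- 34=(2,1)
        exact False.elim (cert_false T ((skipEmb 1).trans (Function.Embedding.refl _)) (by norm_num) (fun _ => hall _) (((((LB_zero T ((skipEmb 1).trans (Function.Embedding.refl _))).upd 1 3 2 (le_of_eq hx24)).upd 2 3 2 (le_of_eq hx34)).upd 3 1 1 (le_of_eq hx42)).upd 3 2 1 (le_of_eq hx43)) ![0,1,1,1] (by decide) (by decide) 1 (by decide))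
      · -- 34=(1,3)
        exact False.elim (cert_false T ((skipEmb 2).trans (Function.Embedding.refl _)) (by norm_num) (fun _ => hall _) (((((LB_zero T ((skipEmb 2).trans (Function.Embedding.refl _))).upd 0 3 1 (le_of_eq hx04)).upd 2 3 1 (le_of_eq hx34)).upd 3 0 1 (le_of_eq hx40)).upd 3 2 3 (le_of_eq hx43)) ![1,0,1,2] (by decide) (by decide) 0 (by decide))
      · -- 34=(3,1)
        exact False.elim (cert_false T ((skipEmb 2).trans (Function.Embedding.refl _)) (by norm_num) (fun _ => hall _) (((((LB_zero T ((skipEmb 2).trans (Function.Embedding.refl _))).upd 0 3 1 (le_of_eq hx04)).upd 2 3 3 (le_of_eq hx34)).upd 3 0 1 (le_of_eq hx40)).upd 3 2 1 (le_of_eq hx43)) ![1,0,3,2] (by decide) (by decide) 0 (by decide))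
    · -- 24=(1,3)
      exact False.elim (cert_false T ((skipEmb 3).trans (Function.Embedding.refl _)) (by norm_num) (fun _ => hall _) (((((LB_zero T ((skipEmb 3).trans (Function.Embedding.refl _))).upd 0 3 1 (le_of_eq hx04)).upd 2 3 1 (le_of_eq hx24)).upd 3 0 1 (le_of_eq hx40)).upd 3 2 3 (le_of_eq hx42)) ![1,0,1,2] (by decide) (by decide) 0 (by decide))
    · -- 24=(3,1)
      exact False.elim (cert_false T ((skipEmb 3).trans (Function.Embedding.refl _)) (by norm_num) (fun _ => hall _) (((((LB_zero T ((skipEmb 3).trans (Function.Embedding.refl _))).upd 0 3 1 (le_of_eq hx04)).upd 2 3 3 (le_of_eq hx24)).upd 3 0 1 (le_of_eq hx40)).upd 3 2 1 (le_of_eq hx42)) ![1,0,3,2] (by decide) (by decide) 0 (by decide))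
  · -- 14=(1,1)
    rcases d24 with ⟨rfl, rfl⟩ | ⟨rfl, rfl⟩ | ⟨rfl, rfl⟩ | ⟨rfl, rfl⟩ | ⟨rfl, rfl⟩ | ⟨rfl, rfl⟩
    · -- 24=(0,0)
      rcases d34 with ⟨rfl, rfl⟩ | ⟨rfl, rfl⟩ | ⟨rfl, rfl⟩ | ⟨rfl, rfl⟩ | ⟨rfl, rfl⟩ | ⟨rfl, rfl⟩
      · -- 34=(0,0)
        exfalso; omega
      · -- 34=(1,1)
        exfalso; omega
      · -- 34=(1,2)
        exact False.elim (cert_false T ((skipEmb 2).trans (Function.Embedding.refl _)) (by norm_num) (fun _ => hall _) (((((((LB_zero T ((skipEmb 2).trans (Function.Embedding.refl _))).upd 0 3 1 (le_of_eq hx04)).upd 1 3 1 (le_of_eq hx14)).upd 2 3 1 (le_of_eq hx34)).upd 3 0 1 (le_of_eq hx40)).upd 3 1 1 (le_of_eq hx41)).upd 3 2 2 (le_of_eq hx43)) ![1,1,1,2] (by decide) (by decide) 0 (by decide))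
      · -- 34=(2,1)
        exact False.elim (cert_false T ((skipEmb 2).trans (Function.Embedding.refl _)) (by norm_num) (fun _ => hall _) (((((((LB_zero T ((skipEmb 2).trans (Function.Embedding.refl _))).upd 0 3 1 (le_of_eq hx04)).upd 1 3 1 (le_of_eq hx14)).upd 2 3 2 (le_of_eq hx34)).upd 3 0 1 (le_of_eq hx40)).upd 3 1 1 (le_of_eq hx41)).upd 3 2 1 (le_of_eq hx43)) ![1,1,2,2] (by decide) (by decide) 0 (by decide))
      · -- 34=(1,3)
        exact False.elim (cert_false T ((skipEmb 2).trans (Function.Embedding.refl _)) (by norm_num) (fun _ => hall _) (((((LB_zero T ((skipEmb 2).trans (Function.Embedding.refl _))).upd 1 3 1 (le_of_eq hx14)).upd 2 3 1 (le_of_eq hx34)).upd 3 1 1 (le_of_eq hx41)).upd 3 2 3 (le_of_eq hx43)) ![0,1,1,2] (by decide) (by decide) 1 (by decide))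
      · -- 34=(3,1)
        exact False.elim (cert_false T ((skipEmb 2).trans (Function.Embedding.refl _)) (by norm_num) (fun _ => hall _) (((((((LB_zero T ((skipEmb 2).trans (Function.Embedding.refl _))).upd 0 3 1 (le_of_eq hx04)).upd 1 3 1 (le_of_eq hx14)).upd 2 3 3 (le_of_eq hx34)).upd 3 0 1 (le_of_eq hx40)).upd 3 1 1 (le_of_eq hx41)).upd 3 2 1 (le_of_eq hx43)) ![1,1,2,2] (by decide) (by decide) 0 (by decide))
    · -- 24=(1,1)
      rcases d34 with ⟨rfl, rfl⟩ | ⟨rfl, rfl⟩ | ⟨rfl, rfl⟩ | ⟨rfl, rfl⟩ | ⟨rfl, rfl⟩ | ⟨rfl, rfl⟩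
      · -- 34=(0,0)
        exfalso; omega
      · -- 34=(1,1)
        refine ⟨(⟨![4, 0, 1, 2, 3], ![1, 2, 3, 4, 0], by decide, by decide⟩ : Equiv.Perm (Fin 5)), T.m 0, T.w 4, Or.inr (Or.inr (Or.inr (Or.inr (Or.inr (Or.inr (Or.inl ?_))))))⟩
        show T.m 4 = 2 * T.m 0 ∧ T.m 0 = T.m 0 ∧ T.m 1 = T.m 0 ∧ T.m 2 = T.m 0 ∧ T.m 3 = T.m 0 ∧ T.w 4 = T.w 4 ∧ T.w 0 = T.w 4 ∧ T.w 1 = T.w 4 ∧ T.w 2 = T.w 4 ∧ T.w 3 = T.w 4 ∧ T.a 4 4 = -2 * T.w 4 ∧ T.a 4 0 = T.w 4 ∧ T.a 4 1 = T.w 4 ∧ T.a 4 2 = T.w 4 ∧ T.a 4 3 = T.w 4 ∧ T.a 0 0 = -2 * T.w 4 ∧ T.a 0 1 = 0 ∧ T.a 0 2 = 0 ∧ T.a 0 3 = 0 ∧ T.a 1 1 = -2 * T.w 4 ∧ T.a 1 2 = 0 ∧ T.a 1 3 = 0 ∧ T.a 2 2 = -2 * T.w 4 ∧ T.a 2 3 = 0 ∧ T.a 3 3 = -2 * T.w 4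
        refine ⟨?_, ?_, ?_, ?_, ?_, ?_, ?_, ?_, ?_, ?_, ?_, ?_, ?_, ?_, ?_, ?_, ?_, ?_, ?_, ?_, ?_, ?_, ?_, ?_, ?_⟩ <;> omega
      · -- 34=(1,2)
        exact False.elim (cert_false T ((skipEmb 2).trans (Function.Embedding.refl _)) (by norm_num) (fun _ => hall _) (((((((LB_zero T ((skipEmb 2).trans (Function.Embedding.refl _))).upd 0 3 1 (le_of_eq hx04)).upd 1 3 1 (le_of_eq hx14)).upd 2 3 1 (le_of_eq hx34)).upd 3 0 1 (le_of_eq hx40)).upd 3 1 1 (le_of_eq hx41)).upd 3 2 2 (le_of_eq hx43)) ![1,1,1,2] (by decide) (by decide) 0 (by decide))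
      · -- 34=(2,1)
        exact False.elim (cert_false T ((skipEmb 2).trans (Function.Embedding.refl _)) (by norm_num) (fun _ => hall _) (((((((LB_zero T ((skipEmb 2).trans (Function.Embedding.refl _))).upd 0 3 1 (le_of_eq hx04)).upd 1 3 1 (le_of_eq hx14)).upd 2 3 2 (le_of_eq hx34)).upd 3 0 1 (le_of_eq hx40)).upd 3 1 1 (le_of_eq hx41)).upd 3 2 1 (le_of_eq hx43)) ![1,1,2,2] (by decide) (by decide) 0 (by decide))
      · -- 34=(1,3)
        exact False.elim (cert_false T ((skipEmb 2).trans (Function.Embedding.refl _)) (by norm_num) (fun _ => hall _) (((((LB_zero T ((skipEmb 2).trans (Function.Embedding.refl _))).upd 1 3 1 (le_of_eq hx14)).upd 2 3 1 (le_of_eq hx34)).upd 3 1 1 (le_of_eq hx41)).upd 3 2 3 (le_of_eq hx43)) ![0,1,1,2] (by decide) (by decide) 1 (by decide))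
      · -- 34=(3,1)
        exact False.elim (cert_false T ((skipEmb 2).trans (Function.Embedding.refl _)) (by norm_num) (fun _ => hall _) (((((((LB_zero T ((skipEmb 2).trans (Function.Embedding.refl _))).upd 0 3 1 (le_of_eq hx04)).upd 1 3 1 (le_of_eq hx14)).upd 2 3 3 (le_of_eq hx34)).upd 3 0 1 (le_of_eq hx40)).upd 3 1 1 (le_of_eq hx41)).upd 3 2 1 (le_of_eq hx43)) ![1,1,2,2] (by decide) (by decide) 0 (by decide))
    · -- 24=(1,2)
      exact False.elim (cert_false T ((skipEmb 3).trans (Function.Embedding.refl _)) (by norm_num) (fun _ => hall _) (((((((LB_zero T ((skipEmb 3).trans (Function.Embedding.refl _))).upd 0 3 1 (le_of_eq hx04)).upd 1 3 1 (le_of_eq hx14)).upd 2 3 1 (le_of_eq hx24)).upd 3 0 1 (le_of_eq hx40)).upd 3 1 1 (le_of_eq hx41)).upd 3 2 2 (le_of_eq hx42)) ![1,1,1,2] (by decide) (by decide) 0 (by decide))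
    · -- 24=(2,1)
      exact False.elim (cert_false T ((skipEmb 3).trans (Function.Embedding.refl _)) (by norm_num) (fun _ => hall _) (((((((LB_zero T ((skipEmb 3).trans (Function.Embedding.refl _))).upd 0 3 1 (le_of_eq hx04)).upd 1 3 1 (le_of_eq hx14)).upd 2 3 2 (le_of_eq hx24)).upd 3 0 1 (le_of_eq hx40)).upd 3 1 1 (le_of_eq hx41)).upd 3 2 1 (le_of_eq hx42)) ![1,1,2,2] (by decide) (by decide) 0 (by decide))
    · -- 24=(1,3)
      exact False.elim (cert_false T ((skipEmb 3).trans (Function.Embedding.refl _)) (by norm_num) (fun _ => hall _) (((((LB_zero T ((skipEmb 3).trans (Function.Embedding.refl _))).upd 1 3 1 (le_of_eq hx14)).upd 2 3 1 (le_of_eq hx24)).upd 3 1 1 (le_of_eq hx41)).upd 3 2 3 (le_of_eq hx42)) ![0,1,1,2] (by decide) (by decide) 1 (by decide))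
    · -- 24=(3,1)
      exact False.elim (cert_false T ((skipEmb 3).trans (Function.Embedding.refl _)) (by norm_num) (fun _ => hall _) (((((((LB_zero T ((skipEmb 3).trans (Function.Embedding.refl _))).upd 0 3 1 (le_of_eq hx04)).upd 1 3 1 (le_of_eq hx14)).upd 2 3 3 (le_of_eq hx24)).upd 3 0 1 (le_of_eq hx40)).upd 3 1 1 (le_of_eq hx41)).upd 3 2 1 (le_of_eq hx42)) ![1,1,2,2] (by decide) (by decide) 0 (by decide))
  · -- 14=(1,2)
    rcases d24 with ⟨rfl, rfl⟩ | ⟨rfl, rfl⟩ | ⟨rfl, rfl⟩ | ⟨rfl, rfl⟩ | ⟨rfl, rfl⟩ | ⟨rfl, rfl⟩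
    · -- 24=(0,0)
      rcases d34 with ⟨rfl, rfl⟩ | ⟨rfl, rfl⟩ | ⟨rfl, rfl⟩ | ⟨rfl, rfl⟩ | ⟨rfl, rfl⟩ | ⟨rfl, rfl⟩
      · -- 34=(0,0)
        exfalso; omega
      · -- 34=(1,1)
        exact False.elim (cert_false T ((skipEmb 2).trans (Function.Embedding.refl _)) (by norm_num) (fun _ => hall _) (((((((LB_zero T ((skipEmb 2).trans (Function.Embedding.refl _))).upd 0 3 1 (le_of_eq hx04)).upd 1 3 1 (le_of_eq hx14)).upd 2 3 1 (le_of_eq hx34)).upd 3 0 1 (le_of_eq hx40)).upd 3 1 2 (le_of_eq hx41)).upd 3 2 1 (le_of_eq hx43)) ![1,1,1,2] (by decide) (by decide) 0 (by decide))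
      · -- 34=(1,2)
        exact False.elim (cert_false T ((skipEmb 2).trans (Function.Embedding.refl _)) (by norm_num) (fun _ => hall _) (((((LB_zero T ((skipEmb 2).trans (Function.Embedding.refl _))).upd 1 3 1 (le_of_eq hx14)).upd 2 3 1 (le_of_eq hx34)).upd 3 1 2 (le_of_eq hx41)).upd 3 2 2 (le_of_eq hx43)) ![0,1,1,2] (by decide) (by decide) 1 (by decide))
      · -- 34=(2,1)
        exact False.elim (cert_false T ((skipEmb 2).trans (Function.Embedding.refl _)) (by norm_num) (fun _ => hall _) (((((LB_zero T ((skipEmb 2).trans (Function.Embedding.refl _))).upd 1 3 1 (le_of_eq hx14)).upd 2 3 2 (le_of_eq hx34)).upd 3 1 2 (le_of_eq hx41)).upd 3 2 1 (le_of_eq hx43)) ![0,1,2,2] (by decide) (by decide) 1 (by decide))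
      · -- 34=(1,3)
        exact False.elim (cert_false T ((skipEmb 2).trans (Function.Embedding.refl _)) (by norm_num) (fun _ => hall _) (((((LB_zero T ((skipEmb 2).trans (Function.Embedding.refl _))).upd 1 3 1 (le_of_eq hx14)).upd 2 3 1 (le_of_eq hx34)).upd 3 1 2 (le_of_eq hx41)).upd 3 2 3 (le_of_eq hx43)) ![0,1,1,2] (by decide) (by decide) 1 (by decide))
      · -- 34=(3,1)
        exact False.elim (cert_false T ((skipEmb 2).trans (Function.Embedding.refl _)) (by norm_num) (fun _ => hall _) (((((LB_zero T ((skipEmb 2).trans (Function.Embedding.refl _))).upd 1 3 1 (le_of_eq hx14)).upd 2 3 3 (le_of_eq hx34)).upd 3 1 2 (le_of_eq hx41)).upd 3 2 1 (le_of_eq hx43)) ![0,1,2,2] (by decide) (by decide) 1 (by decide))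
    · -- 24=(1,1)
      exact False.elim (cert_false T ((skipEmb 3).trans (Function.Embedding.refl _)) (by norm_num) (fun _ => hall _) (((((((LB_zero T ((skipEmb 3).trans (Function.Embedding.refl _))).upd 0 3 1 (le_of_eq hx04)).upd 1 3 1 (le_of_eq hx14)).upd 2 3 1 (le_of_eq hx24)).upd 3 0 1 (le_of_eq hx40)).upd 3 1 2 (le_of_eq hx41)).upd 3 2 1 (le_of_eq hx42)) ![1,1,1,2] (by decide) (by decide) 0 (by decide))
    · -- 24=(1,2)
      exact False.elim (cert_false T ((skipEmb 3).trans (Function.Embedding.refl _)) (by norm_num) (fun _ => hall _) (((((LB_zero T ((skipEmb 3).trans (Function.Embedding.refl _))).upd 1 3 1 (le_of_eq hx14)).upd 2 3 1 (le_of_eq hx24)).upd 3 1 2 (le_of_eq hx41)).upd 3 2 2 (le_of_eq hx42)) ![0,1,1,2] (by decide) (by decide) 1 (by decide))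
    · -- 24=(2,1)
      exact False.elim (cert_false T ((skipEmb 3).trans (Function.Embedding.refl _)) (by norm_num) (fun _ => hall _) (((((LB_zero T ((skipEmb 3).trans (Function.Embedding.refl _))).upd 1 3 1 (le_of_eq hx14)).upd 2 3 2 (le_of_eq hx24)).upd 3 1 2 (le_of_eq hx41)).upd 3 2 1 (le_of_eq hx42)) ![0,1,2,2] (by decide) (by decide) 1 (by decide))
    · -- 24=(1,3)
      exact False.elim (cert_false T ((skipEmb 3).trans (Function.Embedding.refl _)) (by norm_num) (fun _ => hall _) (((((LB_zero T ((skipEmb 3).trans (Function.Embedding.refl _))).upd 1 3 1 (le_of_eq hx14)).upd 2 3 1 (le_of_eq hx24)).upd 3 1 2 (le_of_eq hx41)).upd 3 2 3 (le_of_eq hx42)) ![0,1,1,2] (by decide) (by decide) 1 (by decide))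
    · -- 24=(3,1)
      exact False.elim (cert_false T ((skipEmb 3).trans (Function.Embedding.refl _)) (by norm_num) (fun _ => hall _) (((((LB_zero T ((skipEmb 3).trans (Function.Embedding.refl _))).upd 1 3 1 (le_of_eq hx14)).upd 2 3 3 (le_of_eq hx24)).upd 3 1 2 (le_of_eq hx41)).upd 3 2 1 (le_of_eq hx42)) ![0,1,2,2] (by decide) (by decide) 1 (by decide))
  · -- 14=(2,1)
    rcases d24 with ⟨rfl, rfl⟩ | ⟨rfl, rfl⟩ | ⟨rfl, rfl⟩ | ⟨rfl, rfl⟩ | ⟨rfl, rfl⟩ | ⟨rfl, rfl⟩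
    · -- 24=(0,0)
      rcases d34 with ⟨rfl, rfl⟩ | ⟨rfl, rfl⟩ | ⟨rfl, rfl⟩ | ⟨rfl, rfl⟩ | ⟨rfl, rfl⟩ | ⟨rfl, rfl⟩
      · -- 34=(0,0)
        exfalso; omega
      · -- 34=(1,1)
        exact False.elim (cert_false T ((skipEmb 2).trans (Function.Embedding.refl _)) (by norm_num) (fun _ => hall _) (((((((LB_zero T ((skipEmb 2).trans (Function.Embedding.refl _))).upd 0 3 1 (le_of_eq hx04)).upd 1 3 2 (le_of_eq hx14)).upd 2 3 1 (le_of_eq hx34)).upd 3 0 1 (le_of_eq hx40)).upd 3 1 1 (le_of_eq hx41)).upd 3 2 1 (le_of_eq hx43)) ![1,2,1,2] (by decide) (by decide) 0 (by decide))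
      · -- 34=(1,2)
        exact False.elim (cert_false T ((skipEmb 2).trans (Function.Embedding.refl _)) (by norm_num) (fun _ => hall _) (((((LB_zero T ((skipEmb 2).trans (Function.Embedding.refl _))).upd 1 3 2 (le_of_eq hx14)).upd 2 3 1 (le_of_eq hx34)).upd 3 1 1 (le_of_eq hx41)).upd 3 2 2 (le_of_eq hx43)) ![0,2,1,2] (by decide) (by decide) 1 (by decide))
      · -- 34=(2,1)
        exact False.elim (cert_false T ((skipEmb 2).trans (Function.Embedding.refl _)) (by norm_num) (fun _ => hall _) (((((LB_zero T ((skipEmb 2).trans (Function.Embedding.refl _))).upd 1 3 2 (le_of_eq hx14)).upd 2 3 2 (le_of_eq hx34)).upd 3 1 1 (le_of_eq hx41)).upd 3 2 1 (le_of_eq hx43)) ![0,1,1,1] (by decide) (by decide) 1 (by decide))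
      · -- 34=(1,3)
        exact False.elim (cert_false T ((skipEmb 2).trans (Function.Embedding.refl _)) (by norm_num) (fun _ => hall _) (((((LB_zero T ((skipEmb 2).trans (Function.Embedding.refl _))).upd 1 3 2 (le_of_eq hx14)).upd 2 3 1 (le_of_eq hx34)).upd 3 1 1 (le_of_eq hx41)).upd 3 2 3 (le_of_eq hx43)) ![0,1,1,2] (by decide) (by decide) 1 (by decide))
      · -- 34=(3,1)
        exact False.elim (cert_false T ((skipEmb 2).trans (Function.Embedding.refl _)) (by norm_num) (fun _ => hall _) (((((LB_zero T ((skipEmb 2).trans (Function.Embedding.refl _))).upd 1 3 2 (le_of_eq hx14)).upd 2 3 3 (le_of_eq hx34)).upd 3 1 1 (le_of_eq hx41)).upd 3 2 1 (le_of_eq hx43)) ![0,1,1,1] (by decide) (by decide) 1 (by decide))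
    · -- 24=(1,1)
      exact False.elim (cert_false T ((skipEmb 3).trans (Function.Embedding.refl _)) (by norm_num) (fun _ => hall _) (((((((LB_zero T ((skipEmb 3).trans (Function.Embedding.refl _))).upd 0 3 1 (le_of_eq hx04)).upd 1 3 2 (le_of_eq hx14)).upd 2 3 1 (le_of_eq hx24)).upd 3 0 1 (le_of_eq hx40)).upd 3 1 1 (le_of_eq hx41)).upd 3 2 1 (le_of_eq hx42)) ![1,2,1,2] (by decide) (by decide) 0 (by decide))
    · -- 24=(1,2)
      exact False.elim (cert_false T ((skipEmb 3).trans (Function.Embedding.refl _)) (by norm_num) (fun _ => hall _) (((((LB_zero T ((skipEmb 3).trans (Function.Embedding.refl _))).upd 1 3 2 (le_of_eq hx14)).upd 2 3 1 (le_of_eq hx24)).upd 3 1 1 (le_of_eq hx41)).upd 3 2 2 (le_of_eq hx42)) ![0,2,1,2] (by decide) (by decide) 1 (by decide))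
    · -- 24=(2,1)
      exact False.elim (cert_false T ((skipEmb 3).trans (Function.Embedding.refl _)) (by norm_num) (fun _ => hall _) (((((LB_zero T ((skipEmb 3).trans (Function.Embedding.refl _))).upd 1 3 2 (le_of_eq hx14)).upd 2 3 2 (le_of_eq hx24)).upd 3 1 1 (le_of_eq hx41)).upd 3 2 1 (le_of_eq hx42)) ![0,1,1,1] (by decide) (by decide) 1 (by decide))
    · -- 24=(1,3)
      exact False.elim (cert_false T ((skipEmb 3).trans (Function.Embedding.refl _)) (by norm_num) (fun _ => hall _) (((((LB_zero T ((skipEmb 3).trans (Function.Embedding.refl _))).upd 1 3 2 (le_of_eq hx14)).upd 2 3 1 (le_of_eq hx24)).upd 3 1 1 (le_of_eq hx41)).upd 3 2 3 (le_of_eq hx42)) ![0,1,1,2] (by decide) (by decide) 1 (by decide))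
    · -- 24=(3,1)
      exact False.elim (cert_false T ((skipEmb 3).trans (Function.Embedding.refl _)) (by norm_num) (fun _ => hall _) (((((LB_zero T ((skipEmb 3).trans (Function.Embedding.refl _))).upd 1 3 2 (le_of_eq hx14)).upd 2 3 3 (le_of_eq hx24)).upd 3 1 1 (le_of_eq hx41)).upd 3 2 1 (le_of_eq hx42)) ![0,1,1,1] (by decide) (by decide) 1 (by decide))
  · -- 14=(1,3)
    exact False.elim (cert_false T ((skipEmb 3).trans (Function.Embedding.refl _)) (by norm_num) (fun _ => hall _) (((((LB_zero T ((skipEmb 3).trans (Function.Embedding.refl _))).upd 0 3 1 (le_of_eq hx04)).upd 1 3 1 (le_of_eq hx14)).upd 3 0 1 (le_of_eq hx40)).upd 3 1 3 (le_of_eq hx41)) ![1,1,0,2] (by decide) (by decide) 0 (by decide))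
  · -- 14=(3,1)
    exact False.elim (cert_false T ((skipEmb 3).trans (Function.Embedding.refl _)) (by norm_num) (fun _ => hall _) (((((LB_zero T ((skipEmb 3).trans (Function.Embedding.refl _))).upd 0 3 1 (le_of_eq hx04)).upd 1 3 3 (le_of_eq hx14)).upd 3 0 1 (le_of_eq hx40)).upd 3 1 1 (le_of_eq hx41)) ![1,3,0,2] (by decide) (by decide) 0 (by decide))

theorem case5 (T : NumericalType 5) (hall : ∀ i, T.IsMinusTwo i) (d : SData T)
    (h01 : N T (Function.Embedding.refl _) 0 1 = 0) (h10 : N T (Function.Embedding.refl _) 1 0 = 0)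
    (h02 : N T (Function.Embedding.refl _) 0 2 = 0) (h20 : N T (Function.Embedding.refl _) 2 0 = 0)
    (h12 : N T (Function.Embedding.refl _) 1 2 = 0) (h21 : N T (Function.Embedding.refl _) 2 1 = 0)
    (h03 : N T (Function.Embedding.refl _) 0 3 = 0) (h30 : N T (Function.Embedding.refl _) 3 0 = 0)
    (h13 : N T (Function.Embedding.refl _) 1 3 = 0) (h31 : N T (Function.Embedding.refl _) 3 1 = 0)
    (h23 : N T (Function.Embedding.refl _) 2 3 = 0) (h32 : N T (Function.Embedding.refl _) 3 2 = 0) :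
    Goal T := by
  unfold Goal
  have hd := d
  obtain ⟨x01, x02, x03, x04, x10, x12, x13, x14, x20, x21, x23, x24, x30, x31, x32, x34, x40, x41, x42, x43, hx01, hx02, hx03, hx04, hx10, hx12, hx13, hx14, hx20, hx21, hx23, hx24, hx30, hx31, hx32, hx34, hx40, hx41, hx42, hx43, hw0, hm0, hw1, hm1, hw2, hm2, hw3, hm3, hw4, hm4, a00, a01, a02, a03, a04, a11, a10, a12, a13, a14, a22, a20, a21, a23, a24, a33, a30, a31, a32, a34, a44, a40, a41, a42, a43, wN01, wN02, wN12, wN03, wN13, wN23, wN04, wN14, wN24, wN34, e0, e1, e2, e3, e4, d01, d02, d12, d03, d13, d23, d04, d14, d24, d34⟩ := d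
  obtain rfl : x01 = 0 := hx01.trans h01
  obtain rfl : x10 = 0 := hx10.trans h10
  obtain rfl : x02 = 0 := hx02.trans h02
  obtain rfl : x20 = 0 := hx20.trans h20
  obtain rfl : x12 = 0 := hx12.trans h12
  obtain rfl : x21 = 0 := hx21.trans h21
  obtain rfl : x03 = 0 := hx03.trans h03
  obtain rfl : x30 = 0 := hx30.trans h30
  obtain rfl : x13 = 0 := hx13.trans h13
  obtain rfl : x31 = 0 := hx31.trans h31
  obtain rfl : x23 = 0 := hx23.trans h23
  obtain rfl : x32 = 0 := hx32.trans h32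
  rcases d04 with ⟨rfl, rfl⟩ | ⟨rfl, rfl⟩ | ⟨rfl, rfl⟩ | ⟨rfl, rfl⟩ | ⟨rfl, rfl⟩ | ⟨rfl, rfl⟩
  · -- 04=(0,0)
    exact case6 T hall hd hx01.symm hx10.symm hx02.symm hx20.symm hx12.symm hx21.symm hx03.symm hx30.symm hx13.symm hx31.symm hx23.symm hx32.symm hx04.symm hx40.symm
  · -- 04=(1,1)
    exact case7 T hall hd hx01.symm hx10.symm hx02.symm hx20.symm hx12.symm hx21.symm hx03.symm hx30.symm hx13.symm hx31.symm hx23.symm hx32.symm hx04.symm hx40.symm
  · -- 04=(1,2)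
    rcases d14 with ⟨rfl, rfl⟩ | ⟨rfl, rfl⟩ | ⟨rfl, rfl⟩ | ⟨rfl, rfl⟩ | ⟨rfl, rfl⟩ | ⟨rfl, rfl⟩
    · -- 14=(0,0)
      rcases d24 with ⟨rfl, rfl⟩ | ⟨rfl, rfl⟩ | ⟨rfl, rfl⟩ | ⟨rfl, rfl⟩ | ⟨rfl, rfl⟩ | ⟨rfl, rfl⟩
      · -- 24=(0,0)
        rcases d34 with ⟨rfl, rfl⟩ | ⟨rfl, rfl⟩ | ⟨rfl, rfl⟩ | ⟨rfl, rfl⟩ | ⟨rfl, rfl⟩ | ⟨rfl, rfl⟩
        · -- 34=(0,0)
          exfalso; omega
        · -- 34=(1,1)
          exfalso; omega
        · -- 34=(1,2)
          exact False.elim (cert_false T ((skipEmb 2).trans (Function.Embedding.refl _)) (by norm_num) (fun _ => hall _) (((((LB_zero T ((skipEmb 2).trans (Function.Embedding.refl _))).upd 0 3 1 (le_of_eq hx04)).upd 2 3 1 (le_of_eq hx34)).upd 3 0 2 (le_of_eq hx40)).upd 3 2 2 (le_of_eq hx43)) ![1,0,1,2] (by decide) (by decide) 0 (by decide))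
        · -- 34=(2,1)
          exact False.elim (cert_false T ((skipEmb 2).trans (Function.Embedding.refl _)) (by norm_num) (fun _ => hall _) (((((LB_zero T ((skipEmb 2).trans (Function.Embedding.refl _))).upd 0 3 1 (le_of_eq hx04)).upd 2 3 2 (le_of_eq hx34)).upd 3 0 2 (le_of_eq hx40)).upd 3 2 1 (le_of_eq hx43)) ![1,0,2,2] (by decide) (by decide) 0 (by decide))
        · -- 34=(1,3)
          exact False.elim (cert_false T ((skipEmb 2).trans (Function.Embedding.refl _)) (by norm_num) (fun _ => hall _) (((((LB_zero T ((skipEmb 2).trans (Function.Embedding.refl _))).upd 0 3 1 (le_of_eq hx04)).upd 2 3 1 (le_of_eq hx34)).upd 3 0 2 (le_of_eq hx40)).upd 3 2 3 (le_of_eq hx43)) ![1,0,1,2] (by decide) (by decide) 0 (by decide))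
        · -- 34=(3,1)
          exact False.elim (cert_false T ((skipEmb 2).trans (Function.Embedding.refl _)) (by norm_num) (fun _ => hall _) (((((LB_zero T ((skipEmb 2).trans (Function.Embedding.refl _))).upd 0 3 1 (le_of_eq hx04)).upd 2 3 3 (le_of_eq hx34)).upd 3 0 2 (le_of_eq hx40)).upd 3 2 1 (le_of_eq hx43)) ![1,0,2,2] (by decide) (by decide) 0 (by decide))
      · -- 24=(1,1)
        rcases d34 with ⟨rfl, rfl⟩ | ⟨rfl, rfl⟩ | ⟨rfl, rfl⟩ | ⟨rfl, rfl⟩ | ⟨rfl, rfl⟩ | ⟨rfl, rfl⟩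
        · -- 34=(0,0)
          exfalso; omega
        · -- 34=(1,1)
          exact False.elim (cert_false T ((skipEmb 1).trans (Function.Embedding.refl _)) (by norm_num) (fun _ => hall _) (((((((LB_zero T ((skipEmb 1).trans (Function.Embedding.refl _))).upd 0 3 1 (le_of_eq hx04)).upd 1 3 1 (le_of_eq hx24)).upd 2 3 1 (le_of_eq hx34)).upd 3 0 2 (le_of_eq hx40)).upd 3 1 1 (le_of_eq hx42)).upd 3 2 1 (le_of_eq hx43)) ![1,1,1,2] (by decide) (by decide) 0 (by decide))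
        · -- 34=(1,2)
          exact False.elim (cert_false T ((skipEmb 2).trans (Function.Embedding.refl _)) (by norm_num) (fun _ => hall _) (((((LB_zero T ((skipEmb 2).trans (Function.Embedding.refl _))).upd 0 3 1 (le_of_eq hx04)).upd 2 3 1 (le_of_eq hx34)).upd 3 0 2 (le_of_eq hx40)).upd 3 2 2 (le_of_eq hx43)) ![1,0,1,2] (by decide) (by decide) 0 (by decide))
        · -- 34=(2,1)
          exact False.elim (cert_false T ((skipEmb 2).trans (Function.Embedding.refl _)) (by norm_num) (fun _ => hall _) (((((LB_zero T ((skipEmb 2).trans (Function.Embedding.refl _))).upd 0 3 1 (le_of_eq hx04)).upd 2 3 2 (le_of_eq hx34)).upd 3 0 2 (le_of_eq hx40)).upd 3 2 1 (le_of_eq hx43)) ![1,0,2,2] (by decide) (by decide) 0 (by decide))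
        · -- 34=(1,3)
          exact False.elim (cert_false T ((skipEmb 2).trans (Function.Embedding.refl _)) (by norm_num) (fun _ => hall _) (((((LB_zero T ((skipEmb 2).trans (Function.Embedding.refl _))).upd 0 3 1 (le_of_eq hx04)).upd 2 3 1 (le_of_eq hx34)).upd 3 0 2 (le_of_eq hx40)).upd 3 2 3 (le_of_eq hx43)) ![1,0,1,2] (by decide) (by decide) 0 (by decide))
        · -- 34=(3,1)
          exact False.elim (cert_false T ((skipEmb 2).trans (Function.Embedding.refl _)) (by norm_num) (fun _ => hall _) (((((LB_zero T ((skipEmb 2).trans (Function.Embedding.refl _))).upd 0 3 1 (le_of_eq hx04)).upd 2 3 3 (le_of_eq hx34)).upd 3 0 2 (le_of_eq hx40)).upd 3 2 1 (le_of_eq hx43)) ![1,0,2,2] (by decide) (by decide) 0 (by decide))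
      · -- 24=(1,2)
        exact False.elim (cert_false T ((skipEmb 3).trans (Function.Embedding.refl _)) (by norm_num) (fun _ => hall _) (((((LB_zero T ((skipEmb 3).trans (Function.Embedding.refl _))).upd 0 3 1 (le_of_eq hx04)).upd 2 3 1 (le_of_eq hx24)).upd 3 0 2 (le_of_eq hx40)).upd 3 2 2 (le_of_eq hx42)) ![1,0,1,2] (by decide) (by decide) 0 (by decide))
      · -- 24=(2,1)
        exact False.elim (cert_false T ((skipEmb 3).trans (Function.Embedding.refl _)) (by norm_num) (fun _ => hall _) (((((LB_zero T ((skipEmb 3).trans (Function.Embedding.refl _))).upd 0 3 1 (le_of_eq hx04)).upd 2 3 2 (le_of_eq hx24)).upd 3 0 2 (le_of_eq hx40)).upd 3 2 1 (le_of_eq hx42)) ![1,0,2,2] (by decide) (by decide) 0 (by decide))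
      · -- 24=(1,3)
        exact False.elim (cert_false T ((skipEmb 3).trans (Function.Embedding.refl _)) (by norm_num) (fun _ => hall _) (((((LB_zero T ((skipEmb 3).trans (Function.Embedding.refl _))).upd 0 3 1 (le_of_eq hx04)).upd 2 3 1 (le_of_eq hx24)).upd 3 0 2 (le_of_eq hx40)).upd 3 2 3 (le_of_eq hx42)) ![1,0,1,2] (by decide) (by decide) 0 (by decide))
      · -- 24=(3,1)
        exact False.elim (cert_false T ((skipEmb 3).trans (Function.Embedding.refl _)) (by norm_num) (fun _ => hall _) (((((LB_zero T ((skipEmb 3).trans (Function.Embedding.refl _))).upd 0 3 1 (le_of_eq hx04)).upd 2 3 3 (le_of_eq hx24)).upd 3 0 2 (le_of_eq hx40)).upd 3 2 1 (le_of_eq hx42)) ![1,0,2,2] (by decide) (by decide) 0 (by decide))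
    · -- 14=(1,1)
      rcases d24 with ⟨rfl, rfl⟩ | ⟨rfl, rfl⟩ | ⟨rfl, rfl⟩ | ⟨rfl, rfl⟩ | ⟨rfl, rfl⟩ | ⟨rfl, rfl⟩
      · -- 24=(0,0)
        rcases d34 with ⟨rfl, rfl⟩ | ⟨rfl, rfl⟩ | ⟨rfl, rfl⟩ | ⟨rfl, rfl⟩ | ⟨rfl, rfl⟩ | ⟨rfl, rfl⟩
        · -- 34=(0,0)
          exfalso; omega
        · -- 34=(1,1)
          exact False.elim (cert_false T ((skipEmb 2).trans (Function.Embedding.refl _)) (by norm_num) (fun _ => hall _) (((((((LB_zero T ((skipEmb 2).trans (Function.Embedding.refl _))).upd 0 3 1 (le_of_eq hx04)).upd 1 3 1 (le_of_eq hx14)).upd 2 3 1 (le_of_eq hx34)).upd 3 0 2 (le_of_eq hx40)).upd 3 1 1 (le_of_eq hx41)).upd 3 2 1 (le_of_eq hx43)) ![1,1,1,2] (by decide) (by decide) 0 (by decide))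
        · -- 34=(1,2)
          exact False.elim (cert_false T ((skipEmb 2).trans (Function.Embedding.refl _)) (by norm_num) (fun _ => hall _) (((((LB_zero T ((skipEmb 2).trans (Function.Embedding.refl _))).upd 0 3 1 (le_of_eq hx04)).upd 2 3 1 (le_of_eq hx34)).upd 3 0 2 (le_of_eq hx40)).upd 3 2 2 (le_of_eq hx43)) ![1,0,1,2] (by decide) (by decide) 0 (by decide))
        · -- 34=(2,1)
          exact False.elim (cert_false T ((skipEmb 2).trans (Function.Embedding.refl _)) (by norm_num) (fun _ => hall _) (((((LB_zero T ((skipEmb 2).trans (Function.Embedding.refl _))).upd 0 3 1 (le_of_eq hx04)).upd 2 3 2 (le_of_eq hx34)).upd 3 0 2 (le_of_eq hx40)).upd 3 2 1 (le_of_eq hx43)) ![1,0,2,2] (by decide) (by decide) 0 (by decide))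
        · -- 34=(1,3)
          exact False.elim (cert_false T ((skipEmb 2).trans (Function.Embedding.refl _)) (by norm_num) (fun _ => hall _) (((((LB_zero T ((skipEmb 2).trans (Function.Embedding.refl _))).upd 1 3 1 (le_of_eq hx14)).upd 2 3 1 (le_of_eq hx34)).upd 3 1 1 (le_of_eq hx41)).upd 3 2 3 (le_of_eq hx43)) ![0,1,1,2] (by decide) (by decide) 1 (by decide))
        · -- 34=(3,1)
          exact False.elim (cert_false T ((skipEmb 2).trans (Function.Embedding.refl _)) (by norm_num) (fun _ => hall _) (((((LB_zero T ((skipEmb 2).trans (Function.Embedding.refl _))).upd 0 3 1 (le_of_eq hx04)).upd 2 3 3 (le_of_eq hx34)).upd 3 0 2 (le_of_eq hx40)).upd 3 2 1 (le_of_eq hx43)) ![1,0,2,2] (by decide) (by decide) 0 (by decide))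
      · -- 24=(1,1)
        exact False.elim (cert_false T ((skipEmb 3).trans (Function.Embedding.refl _)) (by norm_num) (fun _ => hall _) (((((((LB_zero T ((skipEmb 3).trans (Function.Embedding.refl _))).upd 0 3 1 (le_of_eq hx04)).upd 1 3 1 (le_of_eq hx14)).upd 2 3 1 (le_of_eq hx24)).upd 3 0 2 (le_of_eq hx40)).upd 3 1 1 (le_of_eq hx41)).upd 3 2 1 (le_of_eq hx42)) ![1,1,1,2] (by decide) (by decide) 0 (by decide))
      · -- 24=(1,2)
        exact False.elim (cert_false T ((skipEmb 3).trans (Function.Embedding.refl _)) (by norm_num) (fun _ => hall _) (((((LB_zero T ((skipEmb 3).trans (Function.Embedding.refl _))).upd 0 3 1 (le_of_eq hx04)).upd 2 3 1 (le_of_eq hx24)).upd 3 0 2 (le_of_eq hx40)).upd 3 2 2 (le_of_eq hx42)) ![1,0,1,2] (by decide) (by decide) 0 (by decide))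
      · -- 24=(2,1)
        exact False.elim (cert_false T ((skipEmb 3).trans (Function.Embedding.refl _)) (by norm_num) (fun _ => hall _) (((((LB_zero T ((skipEmb 3).trans (Function.Embedding.refl _))).upd 0 3 1 (le_of_eq hx04)).upd 2 3 2 (le_of_eq hx24)).upd 3 0 2 (le_of_eq hx40)).upd 3 2 1 (le_of_eq hx42)) ![1,0,2,2] (by decide) (by decide) 0 (by decide))
      · -- 24=(1,3)
        exact False.elim (cert_false T ((skipEmb 3).trans (Function.Embedding.refl _)) (by norm_num) (fun _ => hall _) (((((LB_zero T ((skipEmb 3).trans (Function.Embedding.refl _))).upd 1 3 1 (le_of_eq hx14)).upd 2 3 1 (le_of_eq hx24)).upd 3 1 1 (le_of_eq hx41)).upd 3 2 3 (le_of_eq hx42)) ![0,1,1,2] (by decide) (by decide) 1 (by decide))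
      · -- 24=(3,1)
        exact False.elim (cert_false T ((skipEmb 3).trans (Function.Embedding.refl _)) (by norm_num) (fun _ => hall _) (((((LB_zero T ((skipEmb 3).trans (Function.Embedding.refl _))).upd 0 3 1 (le_of_eq hx04)).upd 2 3 3 (le_of_eq hx24)).upd 3 0 2 (le_of_eq hx40)).upd 3 2 1 (le_of_eq hx42)) ![1,0,2,2] (by decide) (by decide) 0 (by decide))
    · -- 14=(1,2)
      exact False.elim (cert_false T ((skipEmb 3).trans (Function.Embedding.refl _)) (by norm_num) (fun _ => hall _) (((((LB_zero T ((skipEmb 3).trans (Function.Embedding.refl _))).upd 0 3 1 (le_of_eq hx04)).upd 1 3 1 (le_of_eq hx14)).upd 3 0 2 (le_of_eq hx40)).upd 3 1 2 (le_of_eq hx41)) ![1,1,0,2] (by decide) (by decide) 0 (by decide))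
    · -- 14=(2,1)
      exact False.elim (cert_false T ((skipEmb 3).trans (Function.Embedding.refl _)) (by norm_num) (fun _ => hall _) (((((LB_zero T ((skipEmb 3).trans (Function.Embedding.refl _))).upd 0 3 1 (le_of_eq hx04)).upd 1 3 2 (le_of_eq hx14)).upd 3 0 2 (le_of_eq hx40)).upd 3 1 1 (le_of_eq hx41)) ![1,2,0,2] (by decide) (by decide) 0 (by decide))
    · -- 14=(1,3)
      exact False.elim (cert_false T ((skipEmb 3).trans (Function.Embedding.refl _)) (by norm_num) (fun _ => hall _) (((((LB_zero T ((skipEmb 3).trans (Function.Embedding.refl _))).upd 0 3 1 (le_of_eq hx04)).upd 1 3 1 (le_of_eq hx14)).upd 3 0 2 (le_of_eq hx40)).upd 3 1 3 (le_of_eq hx41)) ![1,1,0,2] (by decide) (by decide) 0 (by decide))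
    · -- 14=(3,1)
      exact False.elim (cert_false T ((skipEmb 3).trans (Function.Embedding.refl _)) (by norm_num) (fun _ => hall _) (((((LB_zero T ((skipEmb 3).trans (Function.Embedding.refl _))).upd 0 3 1 (le_of_eq hx04)).upd 1 3 3 (le_of_eq hx14)).upd 3 0 2 (le_of_eq hx40)).upd 3 1 1 (le_of_eq hx41)) ![1,2,0,2] (by decide) (by decide) 0 (by decide))
  · -- 04=(2,1)
    rcases d14 with ⟨rfl, rfl⟩ | ⟨rfl, rfl⟩ | ⟨rfl, rfl⟩ | ⟨rfl, rfl⟩ | ⟨rfl, rfl⟩ | ⟨rfl, rfl⟩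
    · -- 14=(0,0)
      rcases d24 with ⟨rfl, rfl⟩ | ⟨rfl, rfl⟩ | ⟨rfl, rfl⟩ | ⟨rfl, rfl⟩ | ⟨rfl, rfl⟩ | ⟨rfl, rfl⟩
      · -- 24=(0,0)
        rcases d34 with ⟨rfl, rfl⟩ | ⟨rfl, rfl⟩ | ⟨rfl, rfl⟩ | ⟨rfl, rfl⟩ | ⟨rfl, rfl⟩ | ⟨rfl, rfl⟩
        · -- 34=(0,0)
          exfalso; omega
        · -- 34=(1,1)
          exfalso; omega
        · -- 34=(1,2)
          exact False.elim (cert_false T ((skipEmb 2).trans (Function.Embedding.refl _)) (by norm_num) (fun _ => hall _) (((((LB_zero T ((skipEmb 2).trans (Function.Embedding.refl _))).upd 0 3 2 (le_of_eq hx04)).upd 2 3 1 (le_of_eq hx34)).upd 3 0 1 (le_of_eq hx40)).upd 3 2 2 (le_of_eq hx43)) ![2,0,1,2] (by decide) (by decide) 0 (by decide))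
        · -- 34=(2,1)
          exact False.elim (cert_false T ((skipEmb 2).trans (Function.Embedding.refl _)) (by norm_num) (fun _ => hall _) (((((LB_zero T ((skipEmb 2).trans (Function.Embedding.refl _))).upd 0 3 2 (le_of_eq hx04)).upd 2 3 2 (le_of_eq hx34)).upd 3 0 1 (le_of_eq hx40)).upd 3 2 1 (le_of_eq hx43)) ![1,0,1,1] (by decide) (by decide) 0 (by decide))
        · -- 34=(1,3)
          exact False.elim (cert_false T ((skipEmb 2).trans (Function.Embedding.refl _)) (by norm_num) (fun _ => hall _) (((((LB_zero T ((skipEmb 2).trans (Function.Embedding.refl _))).upd 0 3 2 (le_of_eq hx04)).upd 2 3 1 (le_of_eq hx34)).upd 3 0 1 (le_of_eq hx40)).upd 3 2 3 (le_of_eq hx43)) ![1,0,1,2] (by decide) (by decide) 0 (by decide))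
        · -- 34=(3,1)
          exact False.elim (cert_false T ((skipEmb 2).trans (Function.Embedding.refl _)) (by norm_num) (fun _ => hall _) (((((LB_zero T ((skipEmb 2).trans (Function.Embedding.refl _))).upd 0 3 2 (le_of_eq hx04)).upd 2 3 3 (le_of_eq hx34)).upd 3 0 1 (le_of_eq hx40)).upd 3 2 1 (le_of_eq hx43)) ![1,0,1,1] (by decide) (by decide) 0 (by decide))
      · -- 24=(1,1)
        rcases d34 with ⟨rfl, rfl⟩ | ⟨rfl, rfl⟩ | ⟨rfl, rfl⟩ | ⟨rfl, rfl⟩ | ⟨rfl, rfl⟩ | ⟨rfl, rfl⟩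
        · -- 34=(0,0)
          exfalso; omega
        · -- 34=(1,1)
          exact False.elim (cert_false T ((skipEmb 1).trans (Function.Embedding.refl _)) (by norm_num) (fun _ => hall _) (((((((LB_zero T ((skipEmb 1).trans (Function.Embedding.refl _))).upd 0 3 2 (le_of_eq hx04)).upd 1 3 1 (le_of_eq hx24)).upd 2 3 1 (le_of_eq hx34)).upd 3 0 1 (le_of_eq hx40)).upd 3 1 1 (le_of_eq hx42)).upd 3 2 1 (le_of_eq hx43)) ![2,1,1,2] (by decide) (by decide) 0 (by decide))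
        · -- 34=(1,2)
          exact False.elim (cert_false T ((skipEmb 2).trans (Function.Embedding.refl _)) (by norm_num) (fun _ => hall _) (((((LB_zero T ((skipEmb 2).trans (Function.Embedding.refl _))).upd 0 3 2 (le_of_eq hx04)).upd 2 3 1 (le_of_eq hx34)).upd 3 0 1 (le_of_eq hx40)).upd 3 2 2 (le_of_eq hx43)) ![2,0,1,2] (by decide) (by decide) 0 (by decide))
        · -- 34=(2,1)
          exact False.elim (cert_false T ((skipEmb 2).trans (Function.Embedding.refl _)) (by norm_num) (fun _ => hall _) (((((LB_zero T ((skipEmb 2).trans (Function.Embedding.refl _))).upd 0 3 2 (le_of_eq hx04)).upd 2 3 2 (le_of_eq hx34)).upd 3 0 1 (le_of_eq hx40)).upd 3 2 1 (le_of_eq hx43)) ![1,0,1,1] (by decide) (by decide) 0 (by decide))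
        · -- 34=(1,3)
          exact False.elim (cert_false T ((skipEmb 2).trans (Function.Embedding.refl _)) (by norm_num) (fun _ => hall _) (((((LB_zero T ((skipEmb 2).trans (Function.Embedding.refl _))).upd 0 3 2 (le_of_eq hx04)).upd 2 3 1 (le_of_eq hx34)).upd 3 0 1 (le_of_eq hx40)).upd 3 2 3 (le_of_eq hx43)) ![1,0,1,2] (by decide) (by decide) 0 (by decide))
        · -- 34=(3,1)
          exact False.elim (cert_false T ((skipEmb 2).trans (Function.Embedding.refl _)) (by norm_num) (fun _ => hall _) (((((LB_zero T ((skipEmb 2).trans (Function.Embedding.refl _))).upd 0 3 2 (le_of_eq hx04)).upd 2 3 3 (le_of_eq hx34)).upd 3 0 1 (le_of_eq hx40)).upd 3 2 1 (le_of_eq hx43)) ![1,0,1,1] (by decide) (by decide) 0 (by decide))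
      · -- 24=(1,2)
        exact False.elim (cert_false T ((skipEmb 3).trans (Function.Embedding.refl _)) (by norm_num) (fun _ => hall _) (((((LB_zero T ((skipEmb 3).trans (Function.Embedding.refl _))).upd 0 3 2 (le_of_eq hx04)).upd 2 3 1 (le_of_eq hx24)).upd 3 0 1 (le_of_eq hx40)).upd 3 2 2 (le_of_eq hx42)) ![2,0,1,2] (by decide) (by decide) 0 (by decide))
      · -- 24=(2,1)
        exact False.elim (cert_false T ((skipEmb 3).trans (Function.Embedding.refl _)) (by norm_num) (fun _ => hall _) (((((LB_zero T ((skipEmb 3).trans (Function.Embedding.refl _))).upd 0 3 2 (le_of_eq hx04)).upd 2 3 2 (le_of_eq hx24)).upd 3 0 1 (le_of_eq hx40)).upd 3 2 1 (le_of_eq hx42)) ![1,0,1,1] (by decide) (by decide) 0 (by decide))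
      · -- 24=(1,3)
        exact False.elim (cert_false T ((skipEmb 3).trans (Function.Embedding.refl _)) (by norm_num) (fun _ => hall _) (((((LB_zero T ((skipEmb 3).trans (Function.Embedding.refl _))).upd 0 3 2 (le_of_eq hx04)).upd 2 3 1 (le_of_eq hx24)).upd 3 0 1 (le_of_eq hx40)).upd 3 2 3 (le_of_eq hx42)) ![1,0,1,2] (by decide) (by decide) 0 (by decide))
      · -- 24=(3,1)
        exact False.elim (cert_false T ((skipEmb 3).trans (Function.Embedding.refl _)) (by norm_num) (fun _ => hall _) (((((LB_zero T ((skipEmb 3).trans (Function.Embedding.refl _))).upd 0 3 2 (le_of_eq hx04)).upd 2 3 3 (le_of_eq hx24)).upd 3 0 1 (le_of_eq hx40)).upd 3 2 1 (le_of_eq hx42)) ![1,0,1,1] (by decide) (by decide) 0 (by decide))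
    · -- 14=(1,1)
      rcases d24 with ⟨rfl, rfl⟩ | ⟨rfl, rfl⟩ | ⟨rfl, rfl⟩ | ⟨rfl, rfl⟩ | ⟨rfl, rfl⟩ | ⟨rfl, rfl⟩
      · -- 24=(0,0)
        rcases d34 with ⟨rfl, rfl⟩ | ⟨rfl, rfl⟩ | ⟨rfl, rfl⟩ | ⟨rfl, rfl⟩ | ⟨rfl, rfl⟩ | ⟨rfl, rfl⟩
        · -- 34=(0,0)
          exfalso; omega
        · -- 34=(1,1)
          exact False.elim (cert_false T ((skipEmb 2).trans (Function.Embedding.refl _)) (by norm_num) (fun _ => hall _) (((((((LB_zero T ((skipEmb 2).trans (Function.Embedding.refl _))).upd 0 3 2 (le_of_eq hx04)).upd 1 3 1 (le_of_eq hx14)).upd 2 3 1 (le_of_eq hx34)).upd 3 0 1 (le_of_eq hx40)).upd 3 1 1 (le_of_eq hx41)).upd 3 2 1 (le_of_eq hx43)) ![2,1,1,2] (by decide) (by decide) 0 (by decide))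
        · -- 34=(1,2)
          exact False.elim (cert_false T ((skipEmb 2).trans (Function.Embedding.refl _)) (by norm_num) (fun _ => hall _) (((((((LB_zero T ((skipEmb 2).trans (Function.Embedding.refl _))).upd 0 3 2 (le_of_eq hx04)).upd 1 3 1 (le_of_eq hx14)).upd 2 3 1 (le_of_eq hx34)).upd 3 0 1 (le_of_eq hx40)).upd 3 1 1 (le_of_eq hx41)).upd 3 2 2 (le_of_eq hx43)) ![1,1,1,2] (by decide) (by decide) 0 (by decide))
        · -- 34=(2,1)
          exact False.elim (cert_false T ((skipEmb 2).trans (Function.Embedding.refl _)) (by norm_num) (fun _ => hall _) (((((LB_zero T ((skipEmb 2).trans (Function.Embedding.refl _))).upd 0 3 2 (le_of_eq hx04)).upd 2 3 2 (le_of_eq hx34)).upd 3 0 1 (le_of_eq hx40)).upd 3 2 1 (le_of_eq hx43)) ![1,0,1,1] (by decide) (by decide) 0 (by decide))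
        · -- 34=(1,3)
          exact False.elim (cert_false T ((skipEmb 2).trans (Function.Embedding.refl _)) (by norm_num) (fun _ => hall _) (((((LB_zero T ((skipEmb 2).trans (Function.Embedding.refl _))).upd 1 3 1 (le_of_eq hx14)).upd 2 3 1 (le_of_eq hx34)).upd 3 1 1 (le_of_eq hx41)).upd 3 2 3 (le_of_eq hx43)) ![0,1,1,2] (by decide) (by decide) 1 (by decide))
        · -- 34=(3,1)
          exact False.elim (cert_false T ((skipEmb 2).trans (Function.Embedding.refl _)) (by norm_num) (fun _ => hall _) (((((LB_zero T ((skipEmb 2).trans (Function.Embedding.refl _))).upd 0 3 2 (le_of_eq hx04)).upd 2 3 3 (le_of_eq hx34)).upd 3 0 1 (le_of_eq hx40)).upd 3 2 1 (le_of_eq hx43)) ![1,0,1,1] (by decide) (by decide) 0 (by decide))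
      · -- 24=(1,1)
        exact False.elim (cert_false T ((skipEmb 3).trans (Function.Embedding.refl _)) (by norm_num) (fun _ => hall _) (((((((LB_zero T ((skipEmb 3).trans (Function.Embedding.refl _))).upd 0 3 2 (le_of_eq hx04)).upd 1 3 1 (le_of_eq hx14)).upd 2 3 1 (le_of_eq hx24)).upd 3 0 1 (le_of_eq hx40)).upd 3 1 1 (le_of_eq hx41)).upd 3 2 1 (le_of_eq hx42)) ![2,1,1,2] (by decide) (by decide) 0 (by decide))
      · -- 24=(1,2)
        exact False.elim (cert_false T ((skipEmb 3).trans (Function.Embedding.refl _)) (by norm_num) (fun _ => hall _) (((((((LB_zero T ((skipEmb 3).trans (Function.Embedding.refl _))).upd 0 3 2 (le_of_eq hx04)).upd 1 3 1 (le_of_eq hx14)).upd 2 3 1 (le_of_eq hx24)).upd 3 0 1 (le_of_eq hx40)).upd 3 1 1 (le_of_eq hx41)).upd 3 2 2 (le_of_eq hx42)) ![1,1,1,2] (by decide) (by decide) 0 (by decide))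
      · -- 24=(2,1)
        exact False.elim (cert_false T ((skipEmb 3).trans (Function.Embedding.refl _)) (by norm_num) (fun _ => hall _) (((((LB_zero T ((skipEmb 3).trans (Function.Embedding.refl _))).upd 0 3 2 (le_of_eq hx04)).upd 2 3 2 (le_of_eq hx24)).upd 3 0 1 (le_of_eq hx40)).upd 3 2 1 (le_of_eq hx42)) ![1,0,1,1] (by decide) (by decide) 0 (by decide))
      · -- 24=(1,3)
        exact False.elim (cert_false T ((skipEmb 3).trans (Function.Embedding.refl _)) (by norm_num) (fun _ => hall _) (((((LB_zero T ((skipEmb 3).trans (Function.Embedding.refl _))).upd 1 3 1 (le_of_eq hx14)).upd 2 3 1 (le_of_eq hx24)).upd 3 1 1 (le_of_eq hx41)).upd 3 2 3 (le_of_eq hx42)) ![0,1,1,2] (by decide) (by decide) 1 (by decide))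
      · -- 24=(3,1)
        exact False.elim (cert_false T ((skipEmb 3).trans (Function.Embedding.refl _)) (by norm_num) (fun _ => hall _) (((((LB_zero T ((skipEmb 3).trans (Function.Embedding.refl _))).upd 0 3 2 (le_of_eq hx04)).upd 2 3 3 (le_of_eq hx24)).upd 3 0 1 (le_of_eq hx40)).upd 3 2 1 (le_of_eq hx42)) ![1,0,1,1] (by decide) (by decide) 0 (by decide))
    · -- 14=(1,2)
      exact False.elim (cert_false T ((skipEmb 3).trans (Function.Embedding.refl _)) (by norm_num) (fun _ => hall _) (((((LB_zero T ((skipEmb 3).trans (Function.Embedding.refl _))).upd 0 3 2 (le_of_eq hx04)).upd 1 3 1 (le_of_eq hx14)).upd 3 0 1 (le_of_eq hx40)).upd 3 1 2 (le_of_eq hx41)) ![2,1,0,2] (by decide) (by decide) 0 (by decide))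
    · -- 14=(2,1)
      exact False.elim (cert_false T ((skipEmb 3).trans (Function.Embedding.refl _)) (by norm_num) (fun _ => hall _) (((((LB_zero T ((skipEmb 3).trans (Function.Embedding.refl _))).upd 0 3 2 (le_of_eq hx04)).upd 1 3 2 (le_of_eq hx14)).upd 3 0 1 (le_of_eq hx40)).upd 3 1 1 (le_of_eq hx41)) ![1,1,0,1] (by decide) (by decide) 0 (by decide))
    · -- 14=(1,3)
      exact False.elim (cert_false T ((skipEmb 3).trans (Function.Embedding.refl _)) (by norm_num) (fun _ => hall _) (((((LB_zero T ((skipEmb 3).trans (Function.Embedding.refl _))).upd 0 3 2 (le_of_eq hx04)).upd 1 3 1 (le_of_eq hx14)).upd 3 0 1 (le_of_eq hx40)).upd 3 1 3 (le_of_eq hx41)) ![1,1,0,2] (by decide) (by decide) 0 (by decide))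
    · -- 14=(3,1)
      exact False.elim (cert_false T ((skipEmb 3).trans (Function.Embedding.refl _)) (by norm_num) (fun _ => hall _) (((((LB_zero T ((skipEmb 3).trans (Function.Embedding.refl _))).upd 0 3 2 (le_of_eq hx04)).upd 1 3 3 (le_of_eq hx14)).upd 3 0 1 (le_of_eq hx40)).upd 3 1 1 (le_of_eq hx41)) ![1,1,0,1] (by decide) (by decide) 0 (by decide))
  · -- 04=(1,3)
    rcases d14 with ⟨rfl, rfl⟩ | ⟨rfl, rfl⟩ | ⟨rfl, rfl⟩ | ⟨rfl, rfl⟩ | ⟨rfl, rfl⟩ | ⟨rfl, rfl⟩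
    · -- 14=(0,0)
      rcases d24 with ⟨rfl, rfl⟩ | ⟨rfl, rfl⟩ | ⟨rfl, rfl⟩ | ⟨rfl, rfl⟩ | ⟨rfl, rfl⟩ | ⟨rfl, rfl⟩
      · -- 24=(0,0)
        rcases d34 with ⟨rfl, rfl⟩ | ⟨rfl, rfl⟩ | ⟨rfl, rfl⟩ | ⟨rfl, rfl⟩ | ⟨rfl, rfl⟩ | ⟨rfl, rfl⟩
        · -- 34=(0,0)
          exfalso; omega
        · -- 34=(1,1)
          exact False.elim (cert_false T ((skipEmb 2).trans (Function.Embedding.refl _)) (by norm_num) (fun _ => hall _) (((((LB_zero T ((skipEmb 2).trans (Function.Embedding.refl _))).upd 0 3 1 (le_of_eq hx04)).upd 2 3 1 (le_of_eq hx34)).upd 3 0 3 (le_of_eq hx40)).upd 3 2 1 (le_of_eq hx43)) ![1,0,1,2] (by decide) (by decide) 0 (by decide))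
        · -- 34=(1,2)
          exact False.elim (cert_false T ((skipEmb 2).trans (Function.Embedding.refl _)) (by norm_num) (fun _ => hall _) (((((LB_zero T ((skipEmb 2).trans (Function.Embedding.refl _))).upd 0 3 1 (le_of_eq hx04)).upd 2 3 1 (le_of_eq hx34)).upd 3 0 3 (le_of_eq hx40)).upd 3 2 2 (le_of_eq hx43)) ![1,0,1,2] (by decide) (by decide) 0 (by decide))
        · -- 34=(2,1)
          exact False.elim (cert_false T ((skipEmb 2).trans (Function.Embedding.refl _)) (by norm_num) (fun _ => hall _) (((((LB_zero T ((skipEmb 2).trans (Function.Embedding.refl _))).upd 0 3 1 (le_of_eq hx04)).upd 2 3 2 (le_of_eq hx34)).upd 3 0 3 (le_of_eq hx40)).upd 3 2 1 (le_of_eq hx43)) ![1,0,1,2] (by decide) (by decide) 0 (by decide))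
        · -- 34=(1,3)
          exact False.elim (cert_false T ((skipEmb 2).trans (Function.Embedding.refl _)) (by norm_num) (fun _ => hall _) (((((LB_zero T ((skipEmb 2).trans (Function.Embedding.refl _))).upd 0 3 1 (le_of_eq hx04)).upd 2 3 1 (le_of_eq hx34)).upd 3 0 3 (le_of_eq hx40)).upd 3 2 3 (le_of_eq hx43)) ![1,0,1,2] (by decide) (by decide) 0 (by decide))
        · -- 34=(3,1)
          exact False.elim (cert_false T ((skipEmb 2).trans (Function.Embedding.refl _)) (by norm_num) (fun _ => hall _) (((((LB_zero T ((skipEmb 2).trans (Function.Embedding.refl _))).upd 0 3 1 (le_of_eq hx04)).upd 2 3 3 (le_of_eq hx34)).upd 3 0 3 (le_of_eq hx40)).upd 3 2 1 (le_of_eq hx43)) ![1,0,1,2] (by decide) (by decide) 0 (by decide))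
      · -- 24=(1,1)
        exact False.elim (cert_false T ((skipEmb 3).trans (Function.Embedding.refl _)) (by norm_num) (fun _ => hall _) (((((LB_zero T ((skipEmb 3).trans (Function.Embedding.refl _))).upd 0 3 1 (le_of_eq hx04)).upd 2 3 1 (le_of_eq hx24)).upd 3 0 3 (le_of_eq hx40)).upd 3 2 1 (le_of_eq hx42)) ![1,0,1,2] (by decide) (by decide) 0 (by decide))
      · -- 24=(1,2)
        exact False.elim (cert_false T ((skipEmb 3).trans (Function.Embedding.refl _)) (by norm_num) (fun _ => hall _) (((((LB_zero T ((skipEmb 3).trans (Function.Embedding.refl _))).upd 0 3 1 (le_of_eq hx04)).upd 2 3 1 (le_of_eq hx24)).upd 3 0 3 (le_of_eq hx40)).upd 3 2 2 (le_of_eq hx42)) ![1,0,1,2] (by decide) (by decide) 0 (by decide))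
      · -- 24=(2,1)
        exact False.elim (cert_false T ((skipEmb 3).trans (Function.Embedding.refl _)) (by norm_num) (fun _ => hall _) (((((LB_zero T ((skipEmb 3).trans (Function.Embedding.refl _))).upd 0 3 1 (le_of_eq hx04)).upd 2 3 2 (le_of_eq hx24)).upd 3 0 3 (le_of_eq hx40)).upd 3 2 1 (le_of_eq hx42)) ![1,0,1,2] (by decide) (by decide) 0 (by decide))
      · -- 24=(1,3)
        exact False.elim (cert_false T ((skipEmb 3).trans (Function.Embedding.refl _)) (by norm_num) (fun _ => hall _) (((((LB_zero T ((skipEmb 3).trans (Function.Embedding.refl _))).upd 0 3 1 (le_of_eq hx04)).upd 2 3 1 (le_of_eq hx24)).upd 3 0 3 (le_of_eq hx40)).upd 3 2 3 (le_of_eq hx42)) ![1,0,1,2] (by decide) (by decide) 0 (by decide))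
      · -- 24=(3,1)
        exact False.elim (cert_false T ((skipEmb 3).trans (Function.Embedding.refl _)) (by norm_num) (fun _ => hall _) (((((LB_zero T ((skipEmb 3).trans (Function.Embedding.refl _))).upd 0 3 1 (le_of_eq hx04)).upd 2 3 3 (le_of_eq hx24)).upd 3 0 3 (le_of_eq hx40)).upd 3 2 1 (le_of_eq hx42)) ![1,0,1,2] (by decide) (by decide) 0 (by decide))
    · -- 14=(1,1)
      exact False.elim (cert_false T ((skipEmb 3).trans (Function.Embedding.refl _)) (by norm_num) (fun _ => hall _) (((((LB_zero T ((skipEmb 3).trans (Function.Embedding.refl _))).upd 0 3 1 (le_of_eq hx04)).upd 1 3 1 (le_of_eq hx14)).upd 3 0 3 (le_of_eq hx40)).upd 3 1 1 (le_of_eq hx41)) ![1,1,0,2] (by decide) (by decide) 0 (by decide))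
    · -- 14=(1,2)
      exact False.elim (cert_false T ((skipEmb 3).trans (Function.Embedding.refl _)) (by norm_num) (fun _ => hall _) (((((LB_zero T ((skipEmb 3).trans (Function.Embedding.refl _))).upd 0 3 1 (le_of_eq hx04)).upd 1 3 1 (le_of_eq hx14)).upd 3 0 3 (le_of_eq hx40)).upd 3 1 2 (le_of_eq hx41)) ![1,1,0,2] (by decide) (by decide) 0 (by decide))
    · -- 14=(2,1)
      exact False.elim (cert_false T ((skipEmb 3).trans (Function.Embedding.refl _)) (by norm_num) (fun _ => hall _) (((((LB_zero T ((skipEmb 3).trans (Function.Embedding.refl _))).upd 0 3 1 (le_of_eq hx04)).upd 1 3 2 (le_of_eq hx14)).upd 3 0 3 (le_of_eq hx40)).upd 3 1 1 (le_of_eq hx41)) ![1,1,0,2] (by decide) (by decide) 0 (by decide))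
    · -- 14=(1,3)
      exact False.elim (cert_false T ((skipEmb 3).trans (Function.Embedding.refl _)) (by norm_num) (fun _ => hall _) (((((LB_zero T ((skipEmb 3).trans (Function.Embedding.refl _))).upd 0 3 1 (le_of_eq hx04)).upd 1 3 1 (le_of_eq hx14)).upd 3 0 3 (le_of_eq hx40)).upd 3 1 3 (le_of_eq hx41)) ![1,1,0,2] (by decide) (by decide) 0 (by decide))
    · -- 14=(3,1)
      exact False.elim (cert_false T ((skipEmb 3).trans (Function.Embedding.refl _)) (by norm_num) (fun _ => hall _) (((((LB_zero T ((skipEmb 3).trans (Function.Embedding.refl _))).upd 0 3 1 (le_of_eq hx04)).upd 1 3 3 (le_of_eq hx14)).upd 3 0 3 (le_of_eq hx40)).upd 3 1 1 (le_of_eq hx41)) ![1,1,0,2] (by decide) (by decide) 0 (by decide))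
  · -- 04=(3,1)
    rcases d14 with ⟨rfl, rfl⟩ | ⟨rfl, rfl⟩ | ⟨rfl, rfl⟩ | ⟨rfl, rfl⟩ | ⟨rfl, rfl⟩ | ⟨rfl, rfl⟩
    · -- 14=(0,0)
      rcases d24 with ⟨rfl, rfl⟩ | ⟨rfl, rfl⟩ | ⟨rfl, rfl⟩ | ⟨rfl, rfl⟩ | ⟨rfl, rfl⟩ | ⟨rfl, rfl⟩
      · -- 24=(0,0)
        rcases d34 with ⟨rfl, rfl⟩ | ⟨rfl, rfl⟩ | ⟨rfl, rfl⟩ | ⟨rfl, rfl⟩ | ⟨rfl, rfl⟩ | ⟨rfl, rfl⟩
        · -- 34=(0,0)
          exfalso; omega
        · -- 34=(1,1)
          exact False.elim (cert_false T ((skipEmb 2).trans (Function.Embedding.refl _)) (by norm_num) (fun _ => hall _) (((((LB_zero T ((skipEmb 2).trans (Function.Embedding.refl _))).upd 0 3 3 (le_of_eq hx04)).upd 2 3 1 (le_of_eq hx34)).upd 3 0 1 (le_of_eq hx40)).upd 3 2 1 (le_of_eq hx43)) ![3,0,1,2] (by decide) (by decide) 0 (by decide))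
        · -- 34=(1,2)
          exact False.elim (cert_false T ((skipEmb 2).trans (Function.Embedding.refl _)) (by norm_num) (fun _ => hall _) (((((LB_zero T ((skipEmb 2).trans (Function.Embedding.refl _))).upd 0 3 3 (le_of_eq hx04)).upd 2 3 1 (le_of_eq hx34)).upd 3 0 1 (le_of_eq hx40)).upd 3 2 2 (le_of_eq hx43)) ![2,0,1,2] (by decide) (by decide) 0 (by decide))
        · -- 34=(2,1)
          exact False.elim (cert_false T ((skipEmb 2).trans (Function.Embedding.refl _)) (by norm_num) (fun _ => hall _) (((((LB_zero T ((skipEmb 2).trans (Function.Embedding.refl _))).upd 0 3 3 (le_of_eq hx04)).upd 2 3 2 (le_of_eq hx34)).upd 3 0 1 (le_of_eq hx40)).upd 3 2 1 (le_of_eq hx43)) ![1,0,1,1] (by decide) (by decide) 0 (by decide))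
        · -- 34=(1,3)
          exact False.elim (cert_false T ((skipEmb 2).trans (Function.Embedding.refl _)) (by norm_num) (fun _ => hall _) (((((LB_zero T ((skipEmb 2).trans (Function.Embedding.refl _))).upd 0 3 3 (le_of_eq hx04)).upd 2 3 1 (le_of_eq hx34)).upd 3 0 1 (le_of_eq hx40)).upd 3 2 3 (le_of_eq hx43)) ![1,0,1,2] (by decide) (by decide) 0 (by decide))
        · -- 34=(3,1)
          exact False.elim (cert_false T ((skipEmb 2).trans (Function.Embedding.refl _)) (by norm_num) (fun _ => hall _) (((((LB_zero T ((skipEmb 2).trans (Function.Embedding.refl _))).upd 0 3 3 (le_of_eq hx04)).upd 2 3 3 (le_of_eq hx34)).upd 3 0 1 (le_of_eq hx40)).upd 3 2 1 (le_of_eq hx43)) ![1,0,1,1] (by decide) (by decide) 0 (by decide))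
      · -- 24=(1,1)
        exact False.elim (cert_false T ((skipEmb 3).trans (Function.Embedding.refl _)) (by norm_num) (fun _ => hall _) (((((LB_zero T ((skipEmb 3).trans (Function.Embedding.refl _))).upd 0 3 3 (le_of_eq hx04)).upd 2 3 1 (le_of_eq hx24)).upd 3 0 1 (le_of_eq hx40)).upd 3 2 1 (le_of_eq hx42)) ![3,0,1,2] (by decide) (by decide) 0 (by decide))
      · -- 24=(1,2)
        exact False.elim (cert_false T ((skipEmb 3).trans (Function.Embedding.refl _)) (by norm_num) (fun _ => hall _) (((((LB_zero T ((skipEmb 3).trans (Function.Embedding.refl _))).upd 0 3 3 (le_of_eq hx04)).upd 2 3 1 (le_of_eq hx24)).upd 3 0 1 (le_of_eq hx40)).upd 3 2 2 (le_of_eq hx42)) ![2,0,1,2] (by decide) (by decide) 0 (by decide))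
      · -- 24=(2,1)
        exact False.elim (cert_false T ((skipEmb 3).trans (Function.Embedding.refl _)) (by norm_num) (fun _ => hall _) (((((LB_zero T ((skipEmb 3).trans (Function.Embedding.refl _))).upd 0 3 3 (le_of_eq hx04)).upd 2 3 2 (le_of_eq hx24)).upd 3 0 1 (le_of_eq hx40)).upd 3 2 1 (le_of_eq hx42)) ![1,0,1,1] (by decide) (by decide) 0 (by decide))
      · -- 24=(1,3)
        exact False.elim (cert_false T ((skipEmb 3).trans (Function.Embedding.refl _)) (by norm_num) (fun _ => hall _) (((((LB_zero T ((skipEmb 3).trans (Function.Embedding.refl _))).upd 0 3 3 (le_of_eq hx04)).upd 2 3 1 (le_of_eq hx24)).upd 3 0 1 (le_of_eq hx40)).upd 3 2 3 (le_of_eq hx42)) ![1,0,1,2] (by decide) (by decide) 0 (by decide))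
      · -- 24=(3,1)
        exact False.elim (cert_false T ((skipEmb 3).trans (Function.Embedding.refl _)) (by norm_num) (fun _ => hall _) (((((LB_zero T ((skipEmb 3).trans (Function.Embedding.refl _))).upd 0 3 3 (le_of_eq hx04)).upd 2 3 3 (le_of_eq hx24)).upd 3 0 1 (le_of_eq hx40)).upd 3 2 1 (le_of_eq hx42)) ![1,0,1,1] (by decide) (by decide) 0 (by decide))
    · -- 14=(1,1)
      exact False.elim (cert_false T ((skipEmb 3).trans (Function.Embedding.refl _)) (by norm_num) (fun _ => hall _) (((((LB_zero T ((skipEmb 3).trans (Function.Embedding.refl _))).upd 0 3 3 (le_of_eq hx04)).upd 1 3 1 (le_of_eq hx14)).upd 3 0 1 (le_of_eq hx40)).upd 3 1 1 (le_of_eq hx41)) ![3,1,0,2] (by decide) (by decide) 0 (by decide))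
    · -- 14=(1,2)
      exact False.elim (cert_false T ((skipEmb 3).trans (Function.Embedding.refl _)) (by norm_num) (fun _ => hall _) (((((LB_zero T ((skipEmb 3).trans (Function.Embedding.refl _))).upd 0 3 3 (le_of_eq hx04)).upd 1 3 1 (le_of_eq hx14)).upd 3 0 1 (le_of_eq hx40)).upd 3 1 2 (le_of_eq hx41)) ![2,1,0,2] (by decide) (by decide) 0 (by decide))
    · -- 14=(2,1)
      exact False.elim (cert_false T ((skipEmb 3).trans (Function.Embedding.refl _)) (by norm_num) (fun _ => hall _) (((((LB_zero T ((skipEmb 3).trans (Function.Embedding.refl _))).upd 0 3 3 (le_of_eq hx04)).upd 1 3 2 (le_of_eq hx14)).upd 3 0 1 (le_of_eq hx40)).upd 3 1 1 (le_of_eq hx41)) ![1,1,0,1] (by decide) (by decide) 0 (by decide))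
    · -- 14=(1,3)
      exact False.elim (cert_false T ((skipEmb 3).trans (Function.Embedding.refl _)) (by norm_num) (fun _ => hall _) (((((LB_zero T ((skipEmb 3).trans (Function.Embedding.refl _))).upd 0 3 3 (le_of_eq hx04)).upd 1 3 1 (le_of_eq hx14)).upd 3 0 1 (le_of_eq hx40)).upd 3 1 3 (le_of_eq hx41)) ![1,1,0,2] (by decide) (by decide) 0 (by decide))
    · -- 14=(3,1)
      exact False.elim (cert_false T ((skipEmb 3).trans (Function.Embedding.refl _)) (by norm_num) (fun _ => hall _) (((((LB_zero T ((skipEmb 3).trans (Function.Embedding.refl _))).upd 0 3 3 (le_of_eq hx04)).upd 1 3 3 (le_of_eq hx14)).upd 3 0 1 (le_of_eq hx40)).upd 3 1 1 (le_of_eq hx41)) ![1,1,0,1] (by decide) (by decide) 0 (by decide))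

theorem case9 (T : NumericalType 5) (hall : ∀ i, T.IsMinusTwo i) (d : SData T)
    (h01 : N T (Function.Embedding.refl _) 0 1 = 0) (h10 : N T (Function.Embedding.refl _) 1 0 = 0)
    (h02 : N T (Function.Embedding.refl _) 0 2 = 0) (h20 : N T (Function.Embedding.refl _) 2 0 = 0)
    (h12 : N T (Function.Embedding.refl _) 1 2 = 0) (h21 : N T (Function.Embedding.refl _) 2 1 = 0)
    (h03 : N T (Function.Embedding.refl _) 0 3 = 0) (h30 : N T (Function.Embedding.refl _) 3 0 = 0)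
    (h13 : N T (Function.Embedding.refl _) 1 3 = 0) (h31 : N T (Function.Embedding.refl _) 3 1 = 0)
    (h23 : N T (Function.Embedding.refl _) 2 3 = 1) (h32 : N T (Function.Embedding.refl _) 3 2 = 1)
    (h04 : N T (Function.Embedding.refl _) 0 4 = 0) (h40 : N T (Function.Embedding.refl _) 4 0 = 0) :
    Goal T := by
  unfold Goal
  have hd := d
  obtain ⟨x01, x02, x03, x04, x10, x12, x13, x14, x20, x21, x23, x24, x30, x31, x32, x34, x40, x41, x42, x43, hx01, hx02, hx03, hx04, hx10, hx12, hx13, hx14, hx20, hx21, hx23, hx24, hx30, hx31, hx32, hx34, hx40, hx41, hx42, hx43, hw0, hm0, hw1, hm1, hw2, hm2, hw3, hm3, hw4, hm4, a00, a01, a02, a03, a04, a11, a10, a12, a13, a14, a22, a20, a21, a23, a24, a33, a30, a31, a32, a34, a44, a40, a41, a42, a43, wN01, wN02, wN12, wN03, wN13, wN23, wN04, wN14, wN24, wN34, e0, e1, e2, e3, e4, d01, d02, d12, d03, d13, d23, d04, d14, d24, d34⟩ := d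
  obtain rfl : x01 = 0 := hx01.trans h01
  obtain rfl : x10 = 0 := hx10.trans h10
  obtain rfl : x02 = 0 := hx02.trans h02
  obtain rfl : x20 = 0 := hx20.trans h20
  obtain rfl : x12 = 0 := hx12.trans h12
  obtain rfl : x21 = 0 := hx21.trans h21
  obtain rfl : x03 = 0 := hx03.trans h03
  obtain rfl : x30 = 0 := hx30.trans h30
  obtain rfl : x13 = 0 := hx13.trans h13
  obtain rfl : x31 = 0 := hx31.trans h31
  obtain rfl : x23 = 1 := hx23.trans h23
  obtain rfl : x32 = 1 := hx32.trans h32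
  obtain rfl : x04 = 0 := hx04.trans h04
  obtain rfl : x40 = 0 := hx40.trans h40
  rcases d14 with ⟨rfl, rfl⟩ | ⟨rfl, rfl⟩ | ⟨rfl, rfl⟩ | ⟨rfl, rfl⟩ | ⟨rfl, rfl⟩ | ⟨rfl, rfl⟩
  · -- 14=(0,0)
    rcases d24 with ⟨rfl, rfl⟩ | ⟨rfl, rfl⟩ | ⟨rfl, rfl⟩ | ⟨rfl, rfl⟩ | ⟨rfl, rfl⟩ | ⟨rfl, rfl⟩
    · -- 24=(0,0)
      rcases d34 with ⟨rfl, rfl⟩ | ⟨rfl, rfl⟩ | ⟨rfl, rfl⟩ | ⟨rfl, rfl⟩ | ⟨rfl, rfl⟩ | ⟨rfl, rfl⟩
      · -- 34=(0,0)
        exfalso; omega
      · -- 34=(1,1)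
        exfalso; omega
      · -- 34=(1,2)
        exfalso; omega
      · -- 34=(2,1)
        exfalso; omega
      · -- 34=(1,3)
        exact False.elim (cert_false T ((skipEmb 1).trans (Function.Embedding.refl _)) (by norm_num) (fun _ => hall _) (((((LB_zero T ((skipEmb 1).trans (Function.Embedding.refl _))).upd 1 2 1 (le_of_eq hx23)).upd 2 1 1 (le_of_eq hx32)).upd 2 3 1 (le_of_eq hx34)).upd 3 2 3 (le_of_eq hx43)) ![0,1,2,3] (by decide) (by decide) 1 (by decide))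
      · -- 34=(3,1)
        exact False.elim (cert_false T ((skipEmb 1).trans (Function.Embedding.refl _)) (by norm_num) (fun _ => hall _) (((((LB_zero T ((skipEmb 1).trans (Function.Embedding.refl _))).upd 1 2 1 (le_of_eq hx23)).upd 2 1 1 (le_of_eq hx32)).upd 2 3 3 (le_of_eq hx34)).upd 3 2 1 (le_of_eq hx43)) ![0,1,2,1] (by decide) (by decide) 1 (by decide))
    · -- 24=(1,1)
      rcases d34 with ⟨rfl, rfl⟩ | ⟨rfl, rfl⟩ | ⟨rfl, rfl⟩ | ⟨rfl, rfl⟩ | ⟨rfl, rfl⟩ | ⟨rfl, rfl⟩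
      · -- 34=(0,0)
        exfalso; omega
      · -- 34=(1,1)
        exact False.elim (cert_false T ((skipEmb 1).trans (Function.Embedding.refl _)) (by norm_num) (fun _ => hall _) (((((((LB_zero T ((skipEmb 1).trans (Function.Embedding.refl _))).upd 1 2 1 (le_of_eq hx23)).upd 1 3 1 (le_of_eq hx24)).upd 2 1 1 (le_of_eq hx32)).upd 2 3 1 (le_of_eq hx34)).upd 3 1 1 (le_of_eq hx42)).upd 3 2 1 (le_of_eq hx43)) ![0,1,1,1] (by decide) (by decide) 1 (by decide))
      · -- 34=(1,2)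
        exact False.elim (cert_false T ((skipEmb 1).trans (Function.Embedding.refl _)) (by norm_num) (fun _ => hall _) (((((((LB_zero T ((skipEmb 1).trans (Function.Embedding.refl _))).upd 1 2 1 (le_of_eq hx23)).upd 1 3 1 (le_of_eq hx24)).upd 2 1 1 (le_of_eq hx32)).upd 2 3 1 (le_of_eq hx34)).upd 3 1 1 (le_of_eq hx42)).upd 3 2 2 (le_of_eq hx43)) ![0,1,1,1] (by decide) (by decide) 1 (by decide))
      · -- 34=(2,1)
        exact False.elim (cert_false T ((skipEmb 1).trans (Function.Embedding.refl _)) (by norm_num) (fun _ => hall _) (((((((LB_zero T ((skipEmb 1).trans (Function.Embedding.refl _))).upd 1 2 1 (le_of_eq hx23)).upd 1 3 1 (le_of_eq hx24)).upd 2 1 1 (le_of_eq hx32)).upd 2 3 2 (le_of_eq hx34)).upd 3 1 1 (le_of_eq hx42)).upd 3 2 1 (le_of_eq hx43)) ![0,1,1,1] (by decide) (by decide) 1 (by decide))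
      · -- 34=(1,3)
        exact False.elim (cert_false T ((skipEmb 1).trans (Function.Embedding.refl _)) (by norm_num) (fun _ => hall _) (((((((LB_zero T ((skipEmb 1).trans (Function.Embedding.refl _))).upd 1 2 1 (le_of_eq hx23)).upd 1 3 1 (le_of_eq hx24)).upd 2 1 1 (le_of_eq hx32)).upd 2 3 1 (le_of_eq hx34)).upd 3 1 1 (le_of_eq hx42)).upd 3 2 3 (le_of_eq hx43)) ![0,1,1,1] (by decide) (by decide) 1 (by decide))
      · -- 34=(3,1)
        exact False.elim (cert_false T ((skipEmb 1).trans (Function.Embedding.refl _)) (by norm_num) (fun _ => hall _) (((((((LB_zero T ((skipEmb 1).trans (Function.Embedding.refl _))).upd 1 2 1 (le_of_eq hx23)).upd 1 3 1 (le_of_eq hx24)).upd 2 1 1 (le_of_eq hx32)).upd 2 3 3 (le_of_eq hx34)).upd 3 1 1 (le_of_eq hx42)).upd 3 2 1 (le_of_eq hx43)) ![0,1,1,1] (by decide) (by decide) 1 (by decide))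
    · -- 24=(1,2)
      rcases d34 with ⟨rfl, rfl⟩ | ⟨rfl, rfl⟩ | ⟨rfl, rfl⟩ | ⟨rfl, rfl⟩ | ⟨rfl, rfl⟩ | ⟨rfl, rfl⟩
      · -- 34=(0,0)
        exfalso; omega
      · -- 34=(1,1)
        exact False.elim (cert_false T ((skipEmb 1).trans (Function.Embedding.refl _)) (by norm_num) (fun _ => hall _) (((((((LB_zero T ((skipEmb 1).trans (Function.Embedding.refl _))).upd 1 2 1 (le_of_eq hx23)).upd 1 3 1 (le_of_eq hx24)).upd 2 1 1 (le_of_eq hx32)).upd 2 3 1 (le_of_eq hx34)).upd 3 1 2 (le_of_eq hx42)).upd 3 2 1 (le_of_eq hx43)) ![0,1,1,1] (by decide) (by decide) 1 (by decide))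
      · -- 34=(1,2)
        exact False.elim (cert_false T ((skipEmb 1).trans (Function.Embedding.refl _)) (by norm_num) (fun _ => hall _) (((((((LB_zero T ((skipEmb 1).trans (Function.Embedding.refl _))).upd 1 2 1 (le_of_eq hx23)).upd 1 3 1 (le_of_eq hx24)).upd 2 1 1 (le_of_eq hx32)).upd 2 3 1 (le_of_eq hx34)).upd 3 1 2 (le_of_eq hx42)).upd 3 2 2 (le_of_eq hx43)) ![0,1,1,1] (by decide) (by decide) 1 (by decide))
      · -- 34=(2,1)
        exact False.elim (cert_false T ((skipEmb 1).trans (Function.Embedding.refl _)) (by norm_num) (fun _ => hall _) (((((((LB_zero T ((skipEmb 1).trans (Function.Embedding.refl _))).upd 1 2 1 (le_of_eq hx23)).upd 1 3 1 (le_of_eq hx24)).upd 2 1 1 (le_of_eq hx32)).upd 2 3 2 (le_of_eq hx34)).upd 3 1 2 (le_of_eq hx42)).upd 3 2 1 (le_of_eq hx43)) ![0,1,1,1] (by decide) (by decide) 1 (by decide))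
      · -- 34=(1,3)
        exact False.elim (cert_false T ((skipEmb 1).trans (Function.Embedding.refl _)) (by norm_num) (fun _ => hall _) (((((((LB_zero T ((skipEmb 1).trans (Function.Embedding.refl _))).upd 1 2 1 (le_of_eq hx23)).upd 1 3 1 (le_of_eq hx24)).upd 2 1 1 (le_of_eq hx32)).upd 2 3 1 (le_of_eq hx34)).upd 3 1 2 (le_of_eq hx42)).upd 3 2 3 (le_of_eq hx43)) ![0,1,1,1] (by decide) (by decide) 1 (by decide))
      · -- 34=(3,1)
        exact False.elim (cert_false T ((skipEmb 1).trans (Function.Embedding.refl _)) (by norm_num) (fun _ => hall _) (((((((LB_zero T ((skipEmb 1).trans (Function.Embedding.refl _))).upd 1 2 1 (le_of_eq hx23)).upd 1 3 1 (le_of_eq hx24)).upd 2 1 1 (le_of_eq hx32)).upd 2 3 3 (le_of_eq hx34)).upd 3 1 2 (le_of_eq hx42)).upd 3 2 1 (le_of_eq hx43)) ![0,1,1,1] (by decide) (by decide) 1 (by decide))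
    · -- 24=(2,1)
      rcases d34 with ⟨rfl, rfl⟩ | ⟨rfl, rfl⟩ | ⟨rfl, rfl⟩ | ⟨rfl, rfl⟩ | ⟨rfl, rfl⟩ | ⟨rfl, rfl⟩
      · -- 34=(0,0)
        exfalso; omega
      · -- 34=(1,1)
        exact False.elim (cert_false T ((skipEmb 1).trans (Function.Embedding.refl _)) (by norm_num) (fun _ => hall _) (((((((LB_zero T ((skipEmb 1).trans (Function.Embedding.refl _))).upd 1 2 1 (le_of_eq hx23)).upd 1 3 2 (le_of_eq hx24)).upd 2 1 1 (le_of_eq hx32)).upd 2 3 1 (le_of_eq hx34)).upd 3 1 1 (le_of_eq hx42)).upd 3 2 1 (le_of_eq hx43)) ![0,1,1,1] (by decide) (by decide) 1 (by decide))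
      · -- 34=(1,2)
        exact False.elim (cert_false T ((skipEmb 1).trans (Function.Embedding.refl _)) (by norm_num) (fun _ => hall _) (((((((LB_zero T ((skipEmb 1).trans (Function.Embedding.refl _))).upd 1 2 1 (le_of_eq hx23)).upd 1 3 2 (le_of_eq hx24)).upd 2 1 1 (le_of_eq hx32)).upd 2 3 1 (le_of_eq hx34)).upd 3 1 1 (le_of_eq hx42)).upd 3 2 2 (le_of_eq hx43)) ![0,1,1,1] (by decide) (by decide) 1 (by decide))
      · -- 34=(2,1)
        exact False.elim (cert_false T ((skipEmb 1).trans (Function.Embedding.refl _)) (by norm_num) (fun _ => hall _) (((((((LB_zero T ((skipEmb 1).trans (Function.Embedding.refl _))).upd 1 2 1 (le_of_eq hx23)).upd 1 3 2 (le_of_eq hx24)).upd 2 1 1 (le_of_eq hx32)).upd 2 3 2 (le_of_eq hx34)).upd 3 1 1 (le_of_eq hx42)).upd 3 2 1 (le_of_eq hx43)) ![0,1,1,1] (by decide) (by decide) 1 (by decide))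
      · -- 34=(1,3)
        exact False.elim (cert_false T ((skipEmb 1).trans (Function.Embedding.refl _)) (by norm_num) (fun _ => hall _) (((((((LB_zero T ((skipEmb 1).trans (Function.Embedding.refl _))).upd 1 2 1 (le_of_eq hx23)).upd 1 3 2 (le_of_eq hx24)).upd 2 1 1 (le_of_eq hx32)).upd 2 3 1 (le_of_eq hx34)).upd 3 1 1 (le_of_eq hx42)).upd 3 2 3 (le_of_eq hx43)) ![0,1,1,1] (by decide) (by decide) 1 (by decide))
      · -- 34=(3,1)
        exact False.elim (cert_false T ((skipEmb 1).trans (Function.Embedding.refl _)) (by norm_num) (fun _ => hall _) (((((((LB_zero T ((skipEmb 1).trans (Function.Embedding.refl _))).upd 1 2 1 (le_of_eq hx23)).upd 1 3 2 (le_of_eq hx24)).upd 2 1 1 (le_of_eq hx32)).upd 2 3 3 (le_of_eq hx34)).upd 3 1 1 (le_of_eq hx42)).upd 3 2 1 (le_of_eq hx43)) ![0,1,1,1] (by decide) (by decide) 1 (by decide))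
    · -- 24=(1,3)
      exact False.elim (cert_false T ((skipEmb 1).trans (Function.Embedding.refl _)) (by norm_num) (fun _ => hall _) (((((LB_zero T ((skipEmb 1).trans (Function.Embedding.refl _))).upd 1 2 1 (le_of_eq hx23)).upd 1 3 1 (le_of_eq hx24)).upd 2 1 1 (le_of_eq hx32)).upd 3 1 3 (le_of_eq hx42)) ![0,2,1,3] (by decide) (by decide) 1 (by decide))
    · -- 24=(3,1)
      exact False.elim (cert_false T ((skipEmb 1).trans (Function.Embedding.refl _)) (by norm_num) (fun _ => hall _) (((((LB_zero T ((skipEmb 1).trans (Function.Embedding.refl _))).upd 1 2 1 (le_of_eq hx23)).upd 1 3 3 (le_of_eq hx24)).upd 2 1 1 (le_of_eq hx32)).upd 3 1 1 (le_of_eq hx42)) ![0,2,1,1] (by decide) (by decide) 1 (by decide))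
  · -- 14=(1,1)
    rcases d24 with ⟨rfl, rfl⟩ | ⟨rfl, rfl⟩ | ⟨rfl, rfl⟩ | ⟨rfl, rfl⟩ | ⟨rfl, rfl⟩ | ⟨rfl, rfl⟩
    · -- 24=(0,0)
      rcases d34 with ⟨rfl, rfl⟩ | ⟨rfl, rfl⟩ | ⟨rfl, rfl⟩ | ⟨rfl, rfl⟩ | ⟨rfl, rfl⟩ | ⟨rfl, rfl⟩
      · -- 34=(0,0)
        exfalso; omega
      · -- 34=(1,1)
        exfalso; omega
      · -- 34=(1,2)
        exfalso; omega
      · -- 34=(2,1)
        exfalso; omega
      · -- 34=(1,3)
        exact False.elim (cert_false T ((skipEmb 2).trans (Function.Embedding.refl _)) (by norm_num) (fun _ => hall _) (((((LB_zero T ((skipEmb 2).trans (Function.Embedding.refl _))).upd 1 3 1 (le_of_eq hx14)).upd 2 3 1 (le_of_eq hx34)).upd 3 1 1 (le_of_eq hx41)).upd 3 2 3 (le_of_eq hx43)) ![0,1,1,2] (by decide) (by decide) 1 (by decide))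
      · -- 34=(3,1)
        exact False.elim (cert_false T ((skipEmb 2).trans (Function.Embedding.refl _)) (by norm_num) (fun _ => hall _) (((((LB_zero T ((skipEmb 2).trans (Function.Embedding.refl _))).upd 1 3 1 (le_of_eq hx14)).upd 2 3 3 (le_of_eq hx34)).upd 3 1 1 (le_of_eq hx41)).upd 3 2 1 (le_of_eq hx43)) ![0,1,3,2] (by decide) (by decide) 1 (by decide))
    · -- 24=(1,1)
      rcases d34 with ⟨rfl, rfl⟩ | ⟨rfl, rfl⟩ | ⟨rfl, rfl⟩ | ⟨rfl, rfl⟩ | ⟨rfl, rfl⟩ | ⟨rfl, rfl⟩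
      · -- 34=(0,0)
        exfalso; omega
      · -- 34=(1,1)
        exact False.elim (cert_false T ((skipEmb 1).trans (Function.Embedding.refl _)) (by norm_num) (fun _ => hall _) (((((((LB_zero T ((skipEmb 1).trans (Function.Embedding.refl _))).upd 1 2 1 (le_of_eq hx23)).upd 1 3 1 (le_of_eq hx24)).upd 2 1 1 (le_of_eq hx32)).upd 2 3 1 (le_of_eq hx34)).upd 3 1 1 (le_of_eq hx42)).upd 3 2 1 (le_of_eq hx43)) ![0,1,1,1] (by decide) (by decide) 1 (by decide))
      · -- 34=(1,2)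
        exact False.elim (cert_false T ((skipEmb 1).trans (Function.Embedding.refl _)) (by norm_num) (fun _ => hall _) (((((((LB_zero T ((skipEmb 1).trans (Function.Embedding.refl _))).upd 1 2 1 (le_of_eq hx23)).upd 1 3 1 (le_of_eq hx24)).upd 2 1 1 (le_of_eq hx32)).upd 2 3 1 (le_of_eq hx34)).upd 3 1 1 (le_of_eq hx42)).upd 3 2 2 (le_of_eq hx43)) ![0,1,1,1] (by decide) (by decide) 1 (by decide))
      · -- 34=(2,1)
        exact False.elim (cert_false T ((skipEmb 1).trans (Function.Embedding.refl _)) (by norm_num) (fun _ => hall _) (((((((LB_zero T ((skipEmb 1).trans (Function.Embedding.refl _))).upd 1 2 1 (le_of_eq hx23)).upd 1 3 1 (le_of_eq hx24)).upd 2 1 1 (le_of_eq hx32)).upd 2 3 2 (le_of_eq hx34)).upd 3 1 1 (le_of_eq hx42)).upd 3 2 1 (le_of_eq hx43)) ![0,1,1,1] (by decide) (by decide) 1 (by decide))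
      · -- 34=(1,3)
        exact False.elim (cert_false T ((skipEmb 2).trans (Function.Embedding.refl _)) (by norm_num) (fun _ => hall _) (((((LB_zero T ((skipEmb 2).trans (Function.Embedding.refl _))).upd 1 3 1 (le_of_eq hx14)).upd 2 3 1 (le_of_eq hx34)).upd 3 1 1 (le_of_eq hx41)).upd 3 2 3 (le_of_eq hx43)) ![0,1,1,2] (by decide) (by decide) 1 (by decide))
      · -- 34=(3,1)
        exact False.elim (cert_false T ((skipEmb 2).trans (Function.Embedding.refl _)) (by norm_num) (fun _ => hall _) (((((LB_zero T ((skipEmb 2).trans (Function.Embedding.refl _))).upd 1 3 1 (le_of_eq hx14)).upd 2 3 3 (le_of_eq hx34)).upd 3 1 1 (le_of_eq hx41)).upd 3 2 1 (le_of_eq hx43)) ![0,1,3,2] (by decide) (by decide) 1 (by decide))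
    · -- 24=(1,2)
      rcases d34 with ⟨rfl, rfl⟩ | ⟨rfl, rfl⟩ | ⟨rfl, rfl⟩ | ⟨rfl, rfl⟩ | ⟨rfl, rfl⟩ | ⟨rfl, rfl⟩
      · -- 34=(0,0)
        exfalso; omega
      · -- 34=(1,1)
        exact False.elim (cert_false T ((skipEmb 1).trans (Function.Embedding.refl _)) (by norm_num) (fun _ => hall _) (((((((LB_zero T ((skipEmb 1).trans (Function.Embedding.refl _))).upd 1 2 1 (le_of_eq hx23)).upd 1 3 1 (le_of_eq hx24)).upd 2 1 1 (le_of_eq hx32)).upd 2 3 1 (le_of_eq hx34)).upd 3 1 2 (le_of_eq hx42)).upd 3 2 1 (le_of_eq hx43)) ![0,1,1,1] (by decide) (by decide) 1 (by decide))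
      · -- 34=(1,2)
        exact False.elim (cert_false T ((skipEmb 1).trans (Function.Embedding.refl _)) (by norm_num) (fun _ => hall _) (((((((LB_zero T ((skipEmb 1).trans (Function.Embedding.refl _))).upd 1 2 1 (le_of_eq hx23)).upd 1 3 1 (le_of_eq hx24)).upd 2 1 1 (le_of_eq hx32)).upd 2 3 1 (le_of_eq hx34)).upd 3 1 2 (le_of_eq hx42)).upd 3 2 2 (le_of_eq hx43)) ![0,1,1,1] (by decide) (by decide) 1 (by decide))
      · -- 34=(2,1)
        exact False.elim (cert_false T ((skipEmb 1).trans (Function.Embedding.refl _)) (by norm_num) (fun _ => hall _) (((((((LB_zero T ((skipEmb 1).trans (Function.Embedding.refl _))).upd 1 2 1 (le_of_eq hx23)).upd 1 3 1 (le_of_eq hx24)).upd 2 1 1 (le_of_eq hx32)).upd 2 3 2 (le_of_eq hx34)).upd 3 1 2 (le_of_eq hx42)).upd 3 2 1 (le_of_eq hx43)) ![0,1,1,1] (by decide) (by decide) 1 (by decide))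
      · -- 34=(1,3)
        exact False.elim (cert_false T ((skipEmb 2).trans (Function.Embedding.refl _)) (by norm_num) (fun _ => hall _) (((((LB_zero T ((skipEmb 2).trans (Function.Embedding.refl _))).upd 1 3 1 (le_of_eq hx14)).upd 2 3 1 (le_of_eq hx34)).upd 3 1 1 (le_of_eq hx41)).upd 3 2 3 (le_of_eq hx43)) ![0,1,1,2] (by decide) (by decide) 1 (by decide))
      · -- 34=(3,1)
        exact False.elim (cert_false T ((skipEmb 2).trans (Function.Embedding.refl _)) (by norm_num) (fun _ => hall _) (((((LB_zero T ((skipEmb 2).trans (Function.Embedding.refl _))).upd 1 3 1 (le_of_eq hx14)).upd 2 3 3 (le_of_eq hx34)).upd 3 1 1 (le_of_eq hx41)).upd 3 2 1 (le_of_eq hx43)) ![0,1,3,2] (by decide) (by decide) 1 (by decide))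
    · -- 24=(2,1)
      rcases d34 with ⟨rfl, rfl⟩ | ⟨rfl, rfl⟩ | ⟨rfl, rfl⟩ | ⟨rfl, rfl⟩ | ⟨rfl, rfl⟩ | ⟨rfl, rfl⟩
      · -- 34=(0,0)
        exfalso; omega
      · -- 34=(1,1)
        exact False.elim (cert_false T ((skipEmb 1).trans (Function.Embedding.refl _)) (by norm_num) (fun _ => hall _) (((((((LB_zero T ((skipEmb 1).trans (Function.Embedding.refl _))).upd 1 2 1 (le_of_eq hx23)).upd 1 3 2 (le_of_eq hx24)).upd 2 1 1 (le_of_eq hx32)).upd 2 3 1 (le_of_eq hx34)).upd 3 1 1 (le_of_eq hx42)).upd 3 2 1 (le_of_eq hx43)) ![0,1,1,1] (by decide) (by decide) 1 (by decide))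
      · -- 34=(1,2)
        exact False.elim (cert_false T ((skipEmb 1).trans (Function.Embedding.refl _)) (by norm_num) (fun _ => hall _) (((((((LB_zero T ((skipEmb 1).trans (Function.Embedding.refl _))).upd 1 2 1 (le_of_eq hx23)).upd 1 3 2 (le_of_eq hx24)).upd 2 1 1 (le_of_eq hx32)).upd 2 3 1 (le_of_eq hx34)).upd 3 1 1 (le_of_eq hx42)).upd 3 2 2 (le_of_eq hx43)) ![0,1,1,1] (by decide) (by decide) 1 (by decide))
      · -- 34=(2,1)
        exact False.elim (cert_false T ((skipEmb 1).trans (Function.Embedding.refl _)) (by norm_num) (fun _ => hall _) (((((((LB_zero T ((skipEmb 1).trans (Function.Embedding.refl _))).upd 1 2 1 (le_of_eq hx23)).upd 1 3 2 (le_of_eq hx24)).upd 2 1 1 (le_of_eq hx32)).upd 2 3 2 (le_of_eq hx34)).upd 3 1 1 (le_of_eq hx42)).upd 3 2 1 (le_of_eq hx43)) ![0,1,1,1] (by decide) (by decide) 1 (by decide))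
      · -- 34=(1,3)
        exact False.elim (cert_false T ((skipEmb 2).trans (Function.Embedding.refl _)) (by norm_num) (fun _ => hall _) (((((LB_zero T ((skipEmb 2).trans (Function.Embedding.refl _))).upd 1 3 1 (le_of_eq hx14)).upd 2 3 1 (le_of_eq hx34)).upd 3 1 1 (le_of_eq hx41)).upd 3 2 3 (le_of_eq hx43)) ![0,1,1,2] (by decide) (by decide) 1 (by decide))
      · -- 34=(3,1)
        exact False.elim (cert_false T ((skipEmb 2).trans (Function.Embedding.refl _)) (by norm_num) (fun _ => hall _) (((((LB_zero T ((skipEmb 2).trans (Function.Embedding.refl _))).upd 1 3 1 (le_of_eq hx14)).upd 2 3 3 (le_of_eq hx34)).upd 3 1 1 (le_of_eq hx41)).upd 3 2 1 (le_of_eq hx43)) ![0,1,3,2] (by decide) (by decide) 1 (by decide))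
    · -- 24=(1,3)
      exact False.elim (cert_false T ((skipEmb 3).trans (Function.Embedding.refl _)) (by norm_num) (fun _ => hall _) (((((LB_zero T ((skipEmb 3).trans (Function.Embedding.refl _))).upd 1 3 1 (le_of_eq hx14)).upd 2 3 1 (le_of_eq hx24)).upd 3 1 1 (le_of_eq hx41)).upd 3 2 3 (le_of_eq hx42)) ![0,1,1,2] (by decide) (by decide) 1 (by decide))
    · -- 24=(3,1)
      exact False.elim (cert_false T ((skipEmb 3).trans (Function.Embedding.refl _)) (by norm_num) (fun _ => hall _) (((((LB_zero T ((skipEmb 3).trans (Function.Embedding.refl _))).upd 1 3 1 (le_of_eq hx14)).upd 2 3 3 (le_of_eq hx24)).upd 3 1 1 (le_of_eq hx41)).upd 3 2 1 (le_of_eq hx42)) ![0,1,3,2] (by decide) (by decide) 1 (by decide))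
  · -- 14=(1,2)
    rcases d24 with ⟨rfl, rfl⟩ | ⟨rfl, rfl⟩ | ⟨rfl, rfl⟩ | ⟨rfl, rfl⟩ | ⟨rfl, rfl⟩ | ⟨rfl, rfl⟩
    · -- 24=(0,0)
      rcases d34 with ⟨rfl, rfl⟩ | ⟨rfl, rfl⟩ | ⟨rfl, rfl⟩ | ⟨rfl, rfl⟩ | ⟨rfl, rfl⟩ | ⟨rfl, rfl⟩
      · -- 34=(0,0)
        exfalso; omega
      · -- 34=(1,1)
        exfalso; omega
      · -- 34=(1,2)
        exact False.elim (cert_false T ((skipEmb 2).trans (Function.Embedding.refl _)) (by norm_num) (fun _ => hall _) (((((LB_zero T ((skipEmb 2).trans (Function.Embedding.refl _))).upd 1 3 1 (le_of_eq hx14)).upd 2 3 1 (le_of_eq hx34)).upd 3 1 2 (le_of_eq hx41)).upd 3 2 2 (le_of_eq hx43)) ![0,1,1,2] (by decide) (by decide) 1 (by decide))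
      · -- 34=(2,1)
        exact False.elim (cert_false T ((skipEmb 2).trans (Function.Embedding.refl _)) (by norm_num) (fun _ => hall _) (((((LB_zero T ((skipEmb 2).trans (Function.Embedding.refl _))).upd 1 3 1 (le_of_eq hx14)).upd 2 3 2 (le_of_eq hx34)).upd 3 1 2 (le_of_eq hx41)).upd 3 2 1 (le_of_eq hx43)) ![0,1,2,2] (by decide) (by decide) 1 (by decide))
      · -- 34=(1,3)
        exact False.elim (cert_false T ((skipEmb 2).trans (Function.Embedding.refl _)) (by norm_num) (fun _ => hall _) (((((LB_zero T ((skipEmb 2).trans (Function.Embedding.refl _))).upd 1 3 1 (le_of_eq hx14)).upd 2 3 1 (le_of_eq hx34)).upd 3 1 2 (le_of_eq hx41)).upd 3 2 3 (le_of_eq hx43)) ![0,1,1,2] (by decide) (by decide) 1 (by decide))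
      · -- 34=(3,1)
        exact False.elim (cert_false T ((skipEmb 2).trans (Function.Embedding.refl _)) (by norm_num) (fun _ => hall _) (((((LB_zero T ((skipEmb 2).trans (Function.Embedding.refl _))).upd 1 3 1 (le_of_eq hx14)).upd 2 3 3 (le_of_eq hx34)).upd 3 1 2 (le_of_eq hx41)).upd 3 2 1 (le_of_eq hx43)) ![0,1,2,2] (by decide) (by decide) 1 (by decide))
    · -- 24=(1,1)
      rcases d34 with ⟨rfl, rfl⟩ | ⟨rfl, rfl⟩ | ⟨rfl, rfl⟩ | ⟨rfl, rfl⟩ | ⟨rfl, rfl⟩ | ⟨rfl, rfl⟩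
      · -- 34=(0,0)
        exfalso; omega
      · -- 34=(1,1)
        exact False.elim (cert_false T ((skipEmb 1).trans (Function.Embedding.refl _)) (by norm_num) (fun _ => hall _) (((((((LB_zero T ((skipEmb 1).trans (Function.Embedding.refl _))).upd 1 2 1 (le_of_eq hx23)).upd 1 3 1 (le_of_eq hx24)).upd 2 1 1 (le_of_eq hx32)).upd 2 3 1 (le_of_eq hx34)).upd 3 1 1 (le_of_eq hx42)).upd 3 2 1 (le_of_eq hx43)) ![0,1,1,1] (by decide) (by decide) 1 (by decide))
      · -- 34=(1,2)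
        exact False.elim (cert_false T ((skipEmb 2).trans (Function.Embedding.refl _)) (by norm_num) (fun _ => hall _) (((((LB_zero T ((skipEmb 2).trans (Function.Embedding.refl _))).upd 1 3 1 (le_of_eq hx14)).upd 2 3 1 (le_of_eq hx34)).upd 3 1 2 (le_of_eq hx41)).upd 3 2 2 (le_of_eq hx43)) ![0,1,1,2] (by decide) (by decide) 1 (by decide))
      · -- 34=(2,1)
        exact False.elim (cert_false T ((skipEmb 2).trans (Function.Embedding.refl _)) (by norm_num) (fun _ => hall _) (((((LB_zero T ((skipEmb 2).trans (Function.Embedding.refl _))).upd 1 3 1 (le_of_eq hx14)).upd 2 3 2 (le_of_eq hx34)).upd 3 1 2 (le_of_eq hx41)).upd 3 2 1 (le_of_eq hx43)) ![0,1,2,2] (by decide) (by decide) 1 (by decide))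
      · -- 34=(1,3)
        exact False.elim (cert_false T ((skipEmb 2).trans (Function.Embedding.refl _)) (by norm_num) (fun _ => hall _) (((((LB_zero T ((skipEmb 2).trans (Function.Embedding.refl _))).upd 1 3 1 (le_of_eq hx14)).upd 2 3 1 (le_of_eq hx34)).upd 3 1 2 (le_of_eq hx41)).upd 3 2 3 (le_of_eq hx43)) ![0,1,1,2] (by decide) (by decide) 1 (by decide))
      · -- 34=(3,1)
        exact False.elim (cert_false T ((skipEmb 2).trans (Function.Embedding.refl _)) (by norm_num) (fun _ => hall _) (((((LB_zero T ((skipEmb 2).trans (Function.Embedding.refl _))).upd 1 3 1 (le_of_eq hx14)).upd 2 3 3 (le_of_eq hx34)).upd 3 1 2 (le_of_eq hx41)).upd 3 2 1 (le_of_eq hx43)) ![0,1,2,2] (by decide) (by decide) 1 (by decide))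
    · -- 24=(1,2)
      exact False.elim (cert_false T ((skipEmb 3).trans (Function.Embedding.refl _)) (by norm_num) (fun _ => hall _) (((((LB_zero T ((skipEmb 3).trans (Function.Embedding.refl _))).upd 1 3 1 (le_of_eq hx14)).upd 2 3 1 (le_of_eq hx24)).upd 3 1 2 (le_of_eq hx41)).upd 3 2 2 (le_of_eq hx42)) ![0,1,1,2] (by decide) (by decide) 1 (by decide))
    · -- 24=(2,1)
      exact False.elim (cert_false T ((skipEmb 3).trans (Function.Embedding.refl _)) (by norm_num) (fun _ => hall _) (((((LB_zero T ((skipEmb 3).trans (Function.Embedding.refl _))).upd 1 3 1 (le_of_eq hx14)).upd 2 3 2 (le_of_eq hx24)).upd 3 1 2 (le_of_eq hx41)).upd 3 2 1 (le_of_eq hx42)) ![0,1,2,2] (by decide) (by decide) 1 (by decide))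
    · -- 24=(1,3)
      exact False.elim (cert_false T ((skipEmb 3).trans (Function.Embedding.refl _)) (by norm_num) (fun _ => hall _) (((((LB_zero T ((skipEmb 3).trans (Function.Embedding.refl _))).upd 1 3 1 (le_of_eq hx14)).upd 2 3 1 (le_of_eq hx24)).upd 3 1 2 (le_of_eq hx41)).upd 3 2 3 (le_of_eq hx42)) ![0,1,1,2] (by decide) (by decide) 1 (by decide))
    · -- 24=(3,1)
      exact False.elim (cert_false T ((skipEmb 3).trans (Function.Embedding.refl _)) (by norm_num) (fun _ => hall _) (((((LB_zero T ((skipEmb 3).trans (Function.Embedding.refl _))).upd 1 3 1 (le_of_eq hx14)).upd 2 3 3 (le_of_eq hx24)).upd 3 1 2 (le_of_eq hx41)).upd 3 2 1 (le_of_eq hx42)) ![0,1,2,2] (by decide) (by decide) 1 (by decide))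
  · -- 14=(2,1)
    rcases d24 with ⟨rfl, rfl⟩ | ⟨rfl, rfl⟩ | ⟨rfl, rfl⟩ | ⟨rfl, rfl⟩ | ⟨rfl, rfl⟩ | ⟨rfl, rfl⟩
    · -- 24=(0,0)
      rcases d34 with ⟨rfl, rfl⟩ | ⟨rfl, rfl⟩ | ⟨rfl, rfl⟩ | ⟨rfl, rfl⟩ | ⟨rfl, rfl⟩ | ⟨rfl, rfl⟩
      · -- 34=(0,0)
        exfalso; omega
      · -- 34=(1,1)
        exfalso; omega
      · -- 34=(1,2)
        exact False.elim (cert_false T ((skipEmb 2).trans (Function.Embedding.refl _)) (by norm_num) (fun _ => hall _) (((((LB_zero T ((skipEmb 2).trans (Function.Embedding.refl _))).upd 1 3 2 (le_of_eq hx14)).upd 2 3 1 (le_of_eq hx34)).upd 3 1 1 (le_of_eq hx41)).upd 3 2 2 (le_of_eq hx43)) ![0,2,1,2] (by decide) (by decide) 1 (by decide))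
      · -- 34=(2,1)
        exact False.elim (cert_false T ((skipEmb 2).trans (Function.Embedding.refl _)) (by norm_num) (fun _ => hall _) (((((LB_zero T ((skipEmb 2).trans (Function.Embedding.refl _))).upd 1 3 2 (le_of_eq hx14)).upd 2 3 2 (le_of_eq hx34)).upd 3 1 1 (le_of_eq hx41)).upd 3 2 1 (le_of_eq hx43)) ![0,1,1,1] (by decide) (by decide) 1 (by decide))
      · -- 34=(1,3)
        exact False.elim (cert_false T ((skipEmb 2).trans (Function.Embedding.refl _)) (by norm_num) (fun _ => hall _) (((((LB_zero T ((skipEmb 2).trans (Function.Embedding.refl _))).upd 1 3 2 (le_of_eq hx14)).upd 2 3 1 (le_of_eq hx34)).upd 3 1 1 (le_of_eq hx41)).upd 3 2 3 (le_of_eq hx43)) ![0,1,1,2] (by decide) (by decide) 1 (by decide))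
      · -- 34=(3,1)
        exact False.elim (cert_false T ((skipEmb 2).trans (Function.Embedding.refl _)) (by norm_num) (fun _ => hall _) (((((LB_zero T ((skipEmb 2).trans (Function.Embedding.refl _))).upd 1 3 2 (le_of_eq hx14)).upd 2 3 3 (le_of_eq hx34)).upd 3 1 1 (le_of_eq hx41)).upd 3 2 1 (le_of_eq hx43)) ![0,1,1,1] (by decide) (by decide) 1 (by decide))
    · -- 24=(1,1)
      rcases d34 with ⟨rfl, rfl⟩ | ⟨rfl, rfl⟩ | ⟨rfl, rfl⟩ | ⟨rfl, rfl⟩ | ⟨rfl, rfl⟩ | ⟨rfl, rfl⟩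
      · -- 34=(0,0)
        exfalso; omega
      · -- 34=(1,1)
        exact False.elim (cert_false T ((skipEmb 1).trans (Function.Embedding.refl _)) (by norm_num) (fun _ => hall _) (((((((LB_zero T ((skipEmb 1).trans (Function.Embedding.refl _))).upd 1 2 1 (le_of_eq hx23)).upd 1 3 1 (le_of_eq hx24)).upd 2 1 1 (le_of_eq hx32)).upd 2 3 1 (le_of_eq hx34)).upd 3 1 1 (le_of_eq hx42)).upd 3 2 1 (le_of_eq hx43)) ![0,1,1,1] (by decide) (by decide) 1 (by decide))
      · -- 34=(1,2)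
        exact False.elim (cert_false T ((skipEmb 2).trans (Function.Embedding.refl _)) (by norm_num) (fun _ => hall _) (((((LB_zero T ((skipEmb 2).trans (Function.Embedding.refl _))).upd 1 3 2 (le_of_eq hx14)).upd 2 3 1 (le_of_eq hx34)).upd 3 1 1 (le_of_eq hx41)).upd 3 2 2 (le_of_eq hx43)) ![0,2,1,2] (by decide) (by decide) 1 (by decide))
      · -- 34=(2,1)
        exact False.elim (cert_false T ((skipEmb 2).trans (Function.Embedding.refl _)) (by norm_num) (fun _ => hall _) (((((LB_zero T ((skipEmb 2).trans (Function.Embedding.refl _))).upd 1 3 2 (le_of_eq hx14)).upd 2 3 2 (le_of_eq hx34)).upd 3 1 1 (le_of_eq hx41)).upd 3 2 1 (le_of_eq hx43)) ![0,1,1,1] (by decide) (by decide) 1 (by decide))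
      · -- 34=(1,3)
        exact False.elim (cert_false T ((skipEmb 2).trans (Function.Embedding.refl _)) (by norm_num) (fun _ => hall _) (((((LB_zero T ((skipEmb 2).trans (Function.Embedding.refl _))).upd 1 3 2 (le_of_eq hx14)).upd 2 3 1 (le_of_eq hx34)).upd 3 1 1 (le_of_eq hx41)).upd 3 2 3 (le_of_eq hx43)) ![0,1,1,2] (by decide) (by decide) 1 (by decide))
      · -- 34=(3,1)
        exact False.elim (cert_false T ((skipEmb 2).trans (Function.Embedding.refl _)) (by norm_num) (fun _ => hall _) (((((LB_zero T ((skipEmb 2).trans (Function.Embedding.refl _))).upd 1 3 2 (le_of_eq hx14)).upd 2 3 3 (le_of_eq hx34)).upd 3 1 1 (le_of_eq hx41)).upd 3 2 1 (le_of_eq hx43)) ![0,1,1,1] (by decide) (by decide) 1 (by decide))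
    · -- 24=(1,2)
      exact False.elim (cert_false T ((skipEmb 3).trans (Function.Embedding.refl _)) (by norm_num) (fun _ => hall _) (((((LB_zero T ((skipEmb 3).trans (Function.Embedding.refl _))).upd 1 3 2 (le_of_eq hx14)).upd 2 3 1 (le_of_eq hx24)).upd 3 1 1 (le_of_eq hx41)).upd 3 2 2 (le_of_eq hx42)) ![0,2,1,2] (by decide) (by decide) 1 (by decide))
    · -- 24=(2,1)
      exact False.elim (cert_false T ((skipEmb 3).trans (Function.Embedding.refl _)) (by norm_num) (fun _ => hall _) (((((LB_zero T ((skipEmb 3).trans (Function.Embedding.refl _))).upd 1 3 2 (le_of_eq hx14)).upd 2 3 2 (le_of_eq hx24)).upd 3 1 1 (le_of_eq hx41)).upd 3 2 1 (le_of_eq hx42)) ![0,1,1,1] (by decide) (by decide) 1 (by decide))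
    · -- 24=(1,3)
      exact False.elim (cert_false T ((skipEmb 3).trans (Function.Embedding.refl _)) (by norm_num) (fun _ => hall _) (((((LB_zero T ((skipEmb 3).trans (Function.Embedding.refl _))).upd 1 3 2 (le_of_eq hx14)).upd 2 3 1 (le_of_eq hx24)).upd 3 1 1 (le_of_eq hx41)).upd 3 2 3 (le_of_eq hx42)) ![0,1,1,2] (by decide) (by decide) 1 (by decide))
    · -- 24=(3,1)
      exact False.elim (cert_false T ((skipEmb 3).trans (Function.Embedding.refl _)) (by norm_num) (fun _ => hall _) (((((LB_zero T ((skipEmb 3).trans (Function.Embedding.refl _))).upd 1 3 2 (le_of_eq hx14)).upd 2 3 3 (le_of_eq hx24)).upd 3 1 1 (le_of_eq hx41)).upd 3 2 1 (le_of_eq hx42)) ![0,1,1,1] (by decide) (by decide) 1 (by decide))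
  · -- 14=(1,3)
    rcases d24 with ⟨rfl, rfl⟩ | ⟨rfl, rfl⟩ | ⟨rfl, rfl⟩ | ⟨rfl, rfl⟩ | ⟨rfl, rfl⟩ | ⟨rfl, rfl⟩
    · -- 24=(0,0)
      rcases d34 with ⟨rfl, rfl⟩ | ⟨rfl, rfl⟩ | ⟨rfl, rfl⟩ | ⟨rfl, rfl⟩ | ⟨rfl, rfl⟩ | ⟨rfl, rfl⟩
      · -- 34=(0,0)
        exfalso; omega
      · -- 34=(1,1)
        exact False.elim (cert_false T ((skipEmb 2).trans (Function.Embedding.refl _)) (by norm_num) (fun _ => hall _) (((((LB_zero T ((skipEmb 2).trans (Function.Embedding.refl _))).upd 1 3 1 (le_of_eq hx14)).upd 2 3 1 (le_of_eq hx34)).upd 3 1 3 (le_of_eq hx41)).upd 3 2 1 (le_of_eq hx43)) ![0,1,1,2] (by decide) (by decide) 1 (by decide))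
      · -- 34=(1,2)
        exact False.elim (cert_false T ((skipEmb 2).trans (Function.Embedding.refl _)) (by norm_num) (fun _ => hall _) (((((LB_zero T ((skipEmb 2).trans (Function.Embedding.refl _))).upd 1 3 1 (le_of_eq hx14)).upd 2 3 1 (le_of_eq hx34)).upd 3 1 3 (le_of_eq hx41)).upd 3 2 2 (le_of_eq hx43)) ![0,1,1,2] (by decide) (by decide) 1 (by decide))
      · -- 34=(2,1)
        exact False.elim (cert_false T ((skipEmb 2).trans (Function.Embedding.refl _)) (by norm_num) (fun _ => hall _) (((((LB_zero T ((skipEmb 2).trans (Function.Embedding.refl _))).upd 1 3 1 (le_of_eq hx14)).upd 2 3 2 (le_of_eq hx34)).upd 3 1 3 (le_of_eq hx41)).upd 3 2 1 (le_of_eq hx43)) ![0,1,1,2] (by decide) (by decide) 1 (by decide))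
      · -- 34=(1,3)
        exact False.elim (cert_false T ((skipEmb 2).trans (Function.Embedding.refl _)) (by norm_num) (fun _ => hall _) (((((LB_zero T ((skipEmb 2).trans (Function.Embedding.refl _))).upd 1 3 1 (le_of_eq hx14)).upd 2 3 1 (le_of_eq hx34)).upd 3 1 3 (le_of_eq hx41)).upd 3 2 3 (le_of_eq hx43)) ![0,1,1,2] (by decide) (by decide) 1 (by decide))
      · -- 34=(3,1)
        exact False.elim (cert_false T ((skipEmb 2).trans (Function.Embedding.refl _)) (by norm_num) (fun _ => hall _) (((((LB_zero T ((skipEmb 2).trans (Function.Embedding.refl _))).upd 1 3 1 (le_of_eq hx14)).upd 2 3 3 (le_of_eq hx34)).upd 3 1 3 (le_of_eq hx41)).upd 3 2 1 (le_of_eq hx43)) ![0,1,1,2] (by decide) (by decide) 1 (by decide))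
    · -- 24=(1,1)
      exact False.elim (cert_false T ((skipEmb 3).trans (Function.Embedding.refl _)) (by norm_num) (fun _ => hall _) (((((LB_zero T ((skipEmb 3).trans (Function.Embedding.refl _))).upd 1 3 1 (le_of_eq hx14)).upd 2 3 1 (le_of_eq hx24)).upd 3 1 3 (le_of_eq hx41)).upd 3 2 1 (le_of_eq hx42)) ![0,1,1,2] (by decide) (by decide) 1 (by decide))
    · -- 24=(1,2)
      exact False.elim (cert_false T ((skipEmb 3).trans (Function.Embedding.refl _)) (by norm_num) (fun _ => hall _) (((((LB_zero T ((skipEmb 3).trans (Function.Embedding.refl _))).upd 1 3 1 (le_of_eq hx14)).upd 2 3 1 (le_of_eq hx24)).upd 3 1 3 (le_of_eq hx41)).upd 3 2 2 (le_of_eq hx42)) ![0,1,1,2] (by decide) (by decide) 1 (by decide))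
    · -- 24=(2,1)
      exact False.elim (cert_false T ((skipEmb 3).trans (Function.Embedding.refl _)) (by norm_num) (fun _ => hall _) (((((LB_zero T ((skipEmb 3).trans (Function.Embedding.refl _))).upd 1 3 1 (le_of_eq hx14)).upd 2 3 2 (le_of_eq hx24)).upd 3 1 3 (le_of_eq hx41)).upd 3 2 1 (le_of_eq hx42)) ![0,1,1,2] (by decide) (by decide) 1 (by decide))
    · -- 24=(1,3)
      exact False.elim (cert_false T ((skipEmb 3).trans (Function.Embedding.refl _)) (by norm_num) (fun _ => hall _) (((((LB_zero T ((skipEmb 3).trans (Function.Embedding.refl _))).upd 1 3 1 (le_of_eq hx14)).upd 2 3 1 (le_of_eq hx24)).upd 3 1 3 (le_of_eq hx41)).upd 3 2 3 (le_of_eq hx42)) ![0,1,1,2] (by decide) (by decide) 1 (by decide))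
    · -- 24=(3,1)
      exact False.elim (cert_false T ((skipEmb 3).trans (Function.Embedding.refl _)) (by norm_num) (fun _ => hall _) (((((LB_zero T ((skipEmb 3).trans (Function.Embedding.refl _))).upd 1 3 1 (le_of_eq hx14)).upd 2 3 3 (le_of_eq hx24)).upd 3 1 3 (le_of_eq hx41)).upd 3 2 1 (le_of_eq hx42)) ![0,1,1,2] (by decide) (by decide) 1 (by decide))
  · -- 14=(3,1)
    rcases d24 with ⟨rfl, rfl⟩ | ⟨rfl, rfl⟩ | ⟨rfl, rfl⟩ | ⟨rfl, rfl⟩ | ⟨rfl, rfl⟩ | ⟨rfl, rfl⟩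
    · -- 24=(0,0)
      rcases d34 with ⟨rfl, rfl⟩ | ⟨rfl, rfl⟩ | ⟨rfl, rfl⟩ | ⟨rfl, rfl⟩ | ⟨rfl, rfl⟩ | ⟨rfl, rfl⟩
      · -- 34=(0,0)
        exfalso; omega
      · -- 34=(1,1)
        exact False.elim (cert_false T ((skipEmb 2).trans (Function.Embedding.refl _)) (by norm_num) (fun _ => hall _) (((((LB_zero T ((skipEmb 2).trans (Function.Embedding.refl _))).upd 1 3 3 (le_of_eq hx14)).upd 2 3 1 (le_of_eq hx34)).upd 3 1 1 (le_of_eq hx41)).upd 3 2 1 (le_of_eq hx43)) ![0,3,1,2] (by decide) (by decide) 1 (by decide))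
      · -- 34=(1,2)
        exact False.elim (cert_false T ((skipEmb 2).trans (Function.Embedding.refl _)) (by norm_num) (fun _ => hall _) (((((LB_zero T ((skipEmb 2).trans (Function.Embedding.refl _))).upd 1 3 3 (le_of_eq hx14)).upd 2 3 1 (le_of_eq hx34)).upd 3 1 1 (le_of_eq hx41)).upd 3 2 2 (le_of_eq hx43)) ![0,2,1,2] (by decide) (by decide) 1 (by decide))
      · -- 34=(2,1)
        exact False.elim (cert_false T ((skipEmb 2).trans (Function.Embedding.refl _)) (by norm_num) (fun _ => hall _) (((((LB_zero T ((skipEmb 2).trans (Function.Embedding.refl _))).upd 1 3 3 (le_of_eq hx14)).upd 2 3 2 (le_of_eq hx34)).upd 3 1 1 (le_of_eq hx41)).upd 3 2 1 (le_of_eq hx43)) ![0,1,1,1] (by decide) (by decide) 1 (by decide))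
      · -- 34=(1,3)
        exact False.elim (cert_false T ((skipEmb 2).trans (Function.Embedding.refl _)) (by norm_num) (fun _ => hall _) (((((LB_zero T ((skipEmb 2).trans (Function.Embedding.refl _))).upd 1 3 3 (le_of_eq hx14)).upd 2 3 1 (le_of_eq hx34)).upd 3 1 1 (le_of_eq hx41)).upd 3 2 3 (le_of_eq hx43)) ![0,1,1,2] (by decide) (by decide) 1 (by decide))
      · -- 34=(3,1)
        exact False.elim (cert_false T ((skipEmb 2).trans (Function.Embedding.refl _)) (by norm_num) (fun _ => hall _) (((((LB_zero T ((skipEmb 2).trans (Function.Embedding.refl _))).upd 1 3 3 (le_of_eq hx14)).upd 2 3 3 (le_of_eq hx34)).upd 3 1 1 (le_of_eq hx41)).upd 3 2 1 (le_of_eq hx43)) ![0,1,1,1] (by decide) (by decide) 1 (by decide))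
    · -- 24=(1,1)
      exact False.elim (cert_false T ((skipEmb 3).trans (Function.Embedding.refl _)) (by norm_num) (fun _ => hall _) (((((LB_zero T ((skipEmb 3).trans (Function.Embedding.refl _))).upd 1 3 3 (le_of_eq hx14)).upd 2 3 1 (le_of_eq hx24)).upd 3 1 1 (le_of_eq hx41)).upd 3 2 1 (le_of_eq hx42)) ![0,3,1,2] (by decide) (by decide) 1 (by decide))
    · -- 24=(1,2)
      exact False.elim (cert_false T ((skipEmb 3).trans (Function.Embedding.refl _)) (by norm_num) (fun _ => hall _) (((((LB_zero T ((skipEmb 3).trans (Function.Embedding.refl _))).upd 1 3 3 (le_of_eq hx14)).upd 2 3 1 (le_of_eq hx24)).upd 3 1 1 (le_of_eq hx41)).upd 3 2 2 (le_of_eq hx42)) ![0,2,1,2] (by decide) (by decide) 1 (by decide))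
    · -- 24=(2,1)
      exact False.elim (cert_false T ((skipEmb 3).trans (Function.Embedding.refl _)) (by norm_num) (fun _ => hall _) (((((LB_zero T ((skipEmb 3).trans (Function.Embedding.refl _))).upd 1 3 3 (le_of_eq hx14)).upd 2 3 2 (le_of_eq hx24)).upd 3 1 1 (le_of_eq hx41)).upd 3 2 1 (le_of_eq hx42)) ![0,1,1,1] (by decide) (by decide) 1 (by decide))
    · -- 24=(1,3)
      exact False.elim (cert_false T ((skipEmb 3).trans (Function.Embedding.refl _)) (by norm_num) (fun _ => hall _) (((((LB_zero T ((skipEmb 3).trans (Function.Embedding.refl _))).upd 1 3 3 (le_of_eq hx14)).upd 2 3 1 (le_of_eq hx24)).upd 3 1 1 (le_of_eq hx41)).upd 3 2 3 (le_of_eq hx42)) ![0,1,1,2] (by decide) (by decide) 1 (by decide))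
    · -- 24=(3,1)
      exact False.elim (cert_false T ((skipEmb 3).trans (Function.Embedding.refl _)) (by norm_num) (fun _ => hall _) (((((LB_zero T ((skipEmb 3).trans (Function.Embedding.refl _))).upd 1 3 3 (le_of_eq hx14)).upd 2 3 3 (le_of_eq hx24)).upd 3 1 1 (le_of_eq hx41)).upd 3 2 1 (le_of_eq hx42)) ![0,1,1,1] (by decide) (by decide) 1 (by decide))

theorem case10 (T : NumericalType 5) (hall : ∀ i, T.IsMinusTwo i) (d : SData T)
    (h01 : N T (Function.Embedding.refl _) 0 1 = 0) (h10 : N T (Function.Embedding.refl _) 1 0 = 0)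
    (h02 : N T (Function.Embedding.refl _) 0 2 = 0) (h20 : N T (Function.Embedding.refl _) 2 0 = 0)
    (h12 : N T (Function.Embedding.refl _) 1 2 = 0) (h21 : N T (Function.Embedding.refl _) 2 1 = 0)
    (h03 : N T (Function.Embedding.refl _) 0 3 = 0) (h30 : N T (Function.Embedding.refl _) 3 0 = 0)
    (h13 : N T (Function.Embedding.refl _) 1 3 = 0) (h31 : N T (Function.Embedding.refl _) 3 1 = 0)
    (h23 : N T (Function.Embedding.refl _) 2 3 = 1) (h32 : N T (Function.Embedding.refl _) 3 2 = 1)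
    (h04 : N T (Function.Embedding.refl _) 0 4 = 1) (h40 : N T (Function.Embedding.refl _) 4 0 = 1) :
    Goal T := by
  unfold Goal
  have hd := d
  obtain ⟨x01, x02, x03, x04, x10, x12, x13, x14, x20, x21, x23, x24, x30, x31, x32, x34, x40, x41, x42, x43, hx01, hx02, hx03, hx04, hx10, hx12, hx13, hx14, hx20, hx21, hx23, hx24, hx30, hx31, hx32, hx34, hx40, hx41, hx42, hx43, hw0, hm0, hw1, hm1, hw2, hm2, hw3, hm3, hw4, hm4, a00, a01, a02, a03, a04, a11, a10, a12, a13, a14, a22, a20, a21, a23, a24, a33, a30, a31, a32, a34, a44, a40, a41, a42, a43, wN01, wN02, wN12, wN03, wN13, wN23, wN04, wN14, wN24, wN34, e0, e1, e2, e3, e4, d01, d02, d12, d03, d13, d23, d04, d14, d24, d34⟩ := d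
  obtain rfl : x01 = 0 := hx01.trans h01
  obtain rfl : x10 = 0 := hx10.trans h10
  obtain rfl : x02 = 0 := hx02.trans h02
  obtain rfl : x20 = 0 := hx20.trans h20
  obtain rfl : x12 = 0 := hx12.trans h12
  obtain rfl : x21 = 0 := hx21.trans h21
  obtain rfl : x03 = 0 := hx03.trans h03
  obtain rfl : x30 = 0 := hx30.trans h30
  obtain rfl : x13 = 0 := hx13.trans h13
  obtain rfl : x31 = 0 := hx31.trans h31
  obtain rfl : x23 = 1 := hx23.trans h23
  obtain rfl : x32 = 1 := hx32.trans h32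
  obtain rfl : x04 = 1 := hx04.trans h04
  obtain rfl : x40 = 1 := hx40.trans h40
  rcases d14 with ⟨rfl, rfl⟩ | ⟨rfl, rfl⟩ | ⟨rfl, rfl⟩ | ⟨rfl, rfl⟩ | ⟨rfl, rfl⟩ | ⟨rfl, rfl⟩
  · -- 14=(0,0)
    rcases d24 with ⟨rfl, rfl⟩ | ⟨rfl, rfl⟩ | ⟨rfl, rfl⟩ | ⟨rfl, rfl⟩ | ⟨rfl, rfl⟩ | ⟨rfl, rfl⟩
    · -- 24=(0,0)
      rcases d34 with ⟨rfl, rfl⟩ | ⟨rfl, rfl⟩ | ⟨rfl, rfl⟩ | ⟨rfl, rfl⟩ | ⟨rfl, rfl⟩ | ⟨rfl, rfl⟩
      · -- 34=(0,0)
        exfalso; omega
      · -- 34=(1,1)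
        exfalso; omega
      · -- 34=(1,2)
        exfalso; omega
      · -- 34=(2,1)
        exfalso; omega
      · -- 34=(1,3)
        exact False.elim (cert_false T ((skipEmb 2).trans (Function.Embedding.refl _)) (by norm_num) (fun _ => hall _) (((((LB_zero T ((skipEmb 2).trans (Function.Embedding.refl _))).upd 0 3 1 (le_of_eq hx04)).upd 2 3 1 (le_of_eq hx34)).upd 3 0 1 (le_of_eq hx40)).upd 3 2 3 (le_of_eq hx43)) ![1,0,1,2] (by decide) (by decide) 0 (by decide))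
      · -- 34=(3,1)
        exact False.elim (cert_false T ((skipEmb 2).trans (Function.Embedding.refl _)) (by norm_num) (fun _ => hall _) (((((LB_zero T ((skipEmb 2).trans (Function.Embedding.refl _))).upd 0 3 1 (le_of_eq hx04)).upd 2 3 3 (le_of_eq hx34)).upd 3 0 1 (le_of_eq hx40)).upd 3 2 1 (le_of_eq hx43)) ![1,0,3,2] (by decide) (by decide) 0 (by decide))
    · -- 24=(1,1)
      rcases d34 with ⟨rfl, rfl⟩ | ⟨rfl, rfl⟩ | ⟨rfl, rfl⟩ | ⟨rfl, rfl⟩ | ⟨rfl, rfl⟩ | ⟨rfl, rfl⟩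
      · -- 34=(0,0)
        exfalso; omega
      · -- 34=(1,1)
        exact False.elim (cert_false T ((skipEmb 1).trans (Function.Embedding.refl _)) (by norm_num) (fun _ => hall _) (((((((LB_zero T ((skipEmb 1).trans (Function.Embedding.refl _))).upd 1 2 1 (le_of_eq hx23)).upd 1 3 1 (le_of_eq hx24)).upd 2 1 1 (le_of_eq hx32)).upd 2 3 1 (le_of_eq hx34)).upd 3 1 1 (le_of_eq hx42)).upd 3 2 1 (le_of_eq hx43)) ![0,1,1,1] (by decide) (by decide) 1 (by decide))
      · -- 34=(1,2)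
        exact False.elim (cert_false T ((skipEmb 1).trans (Function.Embedding.refl _)) (by norm_num) (fun _ => hall _) (((((((LB_zero T ((skipEmb 1).trans (Function.Embedding.refl _))).upd 1 2 1 (le_of_eq hx23)).upd 1 3 1 (le_of_eq hx24)).upd 2 1 1 (le_of_eq hx32)).upd 2 3 1 (le_of_eq hx34)).upd 3 1 1 (le_of_eq hx42)).upd 3 2 2 (le_of_eq hx43)) ![0,1,1,1] (by decide) (by decide) 1 (by decide))
      · -- 34=(2,1)
        exact False.elim (cert_false T ((skipEmb 1).trans (Function.Embedding.refl _)) (by norm_num) (fun _ => hall _) (((((((LB_zero T ((skipEmb 1).trans (Function.Embedding.refl _))).upd 1 2 1 (le_of_eq hx23)).upd 1 3 1 (le_of_eq hx24)).upd 2 1 1 (le_of_eq hx32)).upd 2 3 2 (le_of_eq hx34)).upd 3 1 1 (le_of_eq hx42)).upd 3 2 1 (le_of_eq hx43)) ![0,1,1,1] (by decide) (by decide) 1 (by decide))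
      · -- 34=(1,3)
        exact False.elim (cert_false T ((skipEmb 2).trans (Function.Embedding.refl _)) (by norm_num) (fun _ => hall _) (((((LB_zero T ((skipEmb 2).trans (Function.Embedding.refl _))).upd 0 3 1 (le_of_eq hx04)).upd 2 3 1 (le_of_eq hx34)).upd 3 0 1 (le_of_eq hx40)).upd 3 2 3 (le_of_eq hx43)) ![1,0,1,2] (by decide) (by decide) 0 (by decide))
      · -- 34=(3,1)
        exact False.elim (cert_false T ((skipEmb 2).trans (Function.Embedding.refl _)) (by norm_num) (fun _ => hall _) (((((LB_zero T ((skipEmb 2).trans (Function.Embedding.refl _))).upd 0 3 1 (le_of_eq hx04)).upd 2 3 3 (le_of_eq hx34)).upd 3 0 1 (le_of_eq hx40)).upd 3 2 1 (le_of_eq hx43)) ![1,0,3,2] (by decide) (by decide) 0 (by decide))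
    · -- 24=(1,2)
      rcases d34 with ⟨rfl, rfl⟩ | ⟨rfl, rfl⟩ | ⟨rfl, rfl⟩ | ⟨rfl, rfl⟩ | ⟨rfl, rfl⟩ | ⟨rfl, rfl⟩
      · -- 34=(0,0)
        exfalso; omega
      · -- 34=(1,1)
        exact False.elim (cert_false T ((skipEmb 1).trans (Function.Embedding.refl _)) (by norm_num) (fun _ => hall _) (((((((LB_zero T ((skipEmb 1).trans (Function.Embedding.refl _))).upd 1 2 1 (le_of_eq hx23)).upd 1 3 1 (le_of_eq hx24)).upd 2 1 1 (le_of_eq hx32)).upd 2 3 1 (le_of_eq hx34)).upd 3 1 2 (le_of_eq hx42)).upd 3 2 1 (le_of_eq hx43)) ![0,1,1,1] (by decide) (by decide) 1 (by decide))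
      · -- 34=(1,2)
        exact False.elim (cert_false T ((skipEmb 1).trans (Function.Embedding.refl _)) (by norm_num) (fun _ => hall _) (((((((LB_zero T ((skipEmb 1).trans (Function.Embedding.refl _))).upd 1 2 1 (le_of_eq hx23)).upd 1 3 1 (le_of_eq hx24)).upd 2 1 1 (le_of_eq hx32)).upd 2 3 1 (le_of_eq hx34)).upd 3 1 2 (le_of_eq hx42)).upd 3 2 2 (le_of_eq hx43)) ![0,1,1,1] (by decide) (by decide) 1 (by decide))
      · -- 34=(2,1)
        exact False.elim (cert_false T ((skipEmb 1).trans (Function.Embedding.refl _)) (by norm_num) (fun _ => hall _) (((((((LB_zero T ((skipEmb 1).trans (Function.Embedding.refl _))).upd 1 2 1 (le_of_eq hx23)).upd 1 3 1 (le_of_eq hx24)).upd 2 1 1 (le_of_eq hx32)).upd 2 3 2 (le_of_eq hx34)).upd 3 1 2 (le_of_eq hx42)).upd 3 2 1 (le_of_eq hx43)) ![0,1,1,1] (by decide) (by decide) 1 (by decide))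
      · -- 34=(1,3)
        exact False.elim (cert_false T ((skipEmb 2).trans (Function.Embedding.refl _)) (by norm_num) (fun _ => hall _) (((((LB_zero T ((skipEmb 2).trans (Function.Embedding.refl _))).upd 0 3 1 (le_of_eq hx04)).upd 2 3 1 (le_of_eq hx34)).upd 3 0 1 (le_of_eq hx40)).upd 3 2 3 (le_of_eq hx43)) ![1,0,1,2] (by decide) (by decide) 0 (by decide))
      · -- 34=(3,1)
        exact False.elim (cert_false T ((skipEmb 2).trans (Function.Embedding.refl _)) (by norm_num) (fun _ => hall _) (((((LB_zero T ((skipEmb 2).trans (Function.Embedding.refl _))).upd 0 3 1 (le_of_eq hx04)).upd 2 3 3 (le_of_eq hx34)).upd 3 0 1 (le_of_eq hx40)).upd 3 2 1 (le_of_eq hx43)) ![1,0,3,2] (by decide) (by decide) 0 (by decide))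
    · -- 24=(2,1)
      rcases d34 with ⟨rfl, rfl⟩ | ⟨rfl, rfl⟩ | ⟨rfl, rfl⟩ | ⟨rfl, rfl⟩ | ⟨rfl, rfl⟩ | ⟨rfl, rfl⟩
      · -- 34=(0,0)
        exfalso; omega
      · -- 34=(1,1)
        exact False.elim (cert_false T ((skipEmb 1).trans (Function.Embedding.refl _)) (by norm_num) (fun _ => hall _) (((((((LB_zero T ((skipEmb 1).trans (Function.Embedding.refl _))).upd 1 2 1 (le_of_eq hx23)).upd 1 3 2 (le_of_eq hx24)).upd 2 1 1 (le_of_eq hx32)).upd 2 3 1 (le_of_eq hx34)).upd 3 1 1 (le_of_eq hx42)).upd 3 2 1 (le_of_eq hx43)) ![0,1,1,1] (by decide) (by decide) 1 (by decide))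
      · -- 34=(1,2)
        exact False.elim (cert_false T ((skipEmb 1).trans (Function.Embedding.refl _)) (by norm_num) (fun _ => hall _) (((((((LB_zero T ((skipEmb 1).trans (Function.Embedding.refl _))).upd 1 2 1 (le_of_eq hx23)).upd 1 3 2 (le_of_eq hx24)).upd 2 1 1 (le_of_eq hx32)).upd 2 3 1 (le_of_eq hx34)).upd 3 1 1 (le_of_eq hx42)).upd 3 2 2 (le_of_eq hx43)) ![0,1,1,1] (by decide) (by decide) 1 (by decide))
      · -- 34=(2,1)
        exact False.elim (cert_false T ((skipEmb 1).trans (Function.Embedding.refl _)) (by norm_num) (fun _ => hall _) (((((((LB_zero T ((skipEmb 1).trans (Function.Embedding.refl _))).upd 1 2 1 (le_of_eq hx23)).upd 1 3 2 (le_of_eq hx24)).upd 2 1 1 (le_of_eq hx32)).upd 2 3 2 (le_of_eq hx34)).upd 3 1 1 (le_of_eq hx42)).upd 3 2 1 (le_of_eq hx43)) ![0,1,1,1] (by decide) (by decide) 1 (by decide))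
      · -- 34=(1,3)
        exact False.elim (cert_false T ((skipEmb 2).trans (Function.Embedding.refl _)) (by norm_num) (fun _ => hall _) (((((LB_zero T ((skipEmb 2).trans (Function.Embedding.refl _))).upd 0 3 1 (le_of_eq hx04)).upd 2 3 1 (le_of_eq hx34)).upd 3 0 1 (le_of_eq hx40)).upd 3 2 3 (le_of_eq hx43)) ![1,0,1,2] (by decide) (by decide) 0 (by decide))
      · -- 34=(3,1)
        exact False.elim (cert_false T ((skipEmb 2).trans (Function.Embedding.refl _)) (by norm_num) (fun _ => hall _) (((((LB_zero T ((skipEmb 2).trans (Function.Embedding.refl _))).upd 0 3 1 (le_of_eq hx04)).upd 2 3 3 (le_of_eq hx34)).upd 3 0 1 (le_of_eq hx40)).upd 3 2 1 (le_of_eq hx43)) ![1,0,3,2] (by decide) (by decide) 0 (by decide))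
    · -- 24=(1,3)
      exact False.elim (cert_false T ((skipEmb 3).trans (Function.Embedding.refl _)) (by norm_num) (fun _ => hall _) (((((LB_zero T ((skipEmb 3).trans (Function.Embedding.refl _))).upd 0 3 1 (le_of_eq hx04)).upd 2 3 1 (le_of_eq hx24)).upd 3 0 1 (le_of_eq hx40)).upd 3 2 3 (le_of_eq hx42)) ![1,0,1,2] (by decide) (by decide) 0 (by decide))
    · -- 24=(3,1)
      exact False.elim (cert_false T ((skipEmb 3).trans (Function.Embedding.refl _)) (by norm_num) (fun _ => hall _) (((((LB_zero T ((skipEmb 3).trans (Function.Embedding.refl _))).upd 0 3 1 (le_of_eq hx04)).upd 2 3 3 (le_of_eq hx24)).upd 3 0 1 (le_of_eq hx40)).upd 3 2 1 (le_of_eq hx42)) ![1,0,3,2] (by decide) (by decide) 0 (by decide))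
  · -- 14=(1,1)
    rcases d24 with ⟨rfl, rfl⟩ | ⟨rfl, rfl⟩ | ⟨rfl, rfl⟩ | ⟨rfl, rfl⟩ | ⟨rfl, rfl⟩ | ⟨rfl, rfl⟩
    · -- 24=(0,0)
      rcases d34 with ⟨rfl, rfl⟩ | ⟨rfl, rfl⟩ | ⟨rfl, rfl⟩ | ⟨rfl, rfl⟩ | ⟨rfl, rfl⟩ | ⟨rfl, rfl⟩
      · -- 34=(0,0)
        exfalso; omega
      · -- 34=(1,1)
        exfalso; omega
      · -- 34=(1,2)
        exact False.elim (cert_false T ((skipEmb 2).trans (Function.Embedding.refl _)) (by norm_num) (fun _ => hall _) (((((((LB_zero T ((skipEmb 2).trans (Function.Embedding.refl _))).upd 0 3 1 (le_of_eq hx04)).upd 1 3 1 (le_of_eq hx14)).upd 2 3 1 (le_of_eq hx34)).upd 3 0 1 (le_of_eq hx40)).upd 3 1 1 (le_of_eq hx41)).upd 3 2 2 (le_of_eq hx43)) ![1,1,1,2] (by decide) (by decide) 0 (by decide))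
      · -- 34=(2,1)
        exact False.elim (cert_false T ((skipEmb 2).trans (Function.Embedding.refl _)) (by norm_num) (fun _ => hall _) (((((((LB_zero T ((skipEmb 2).trans (Function.Embedding.refl _))).upd 0 3 1 (le_of_eq hx04)).upd 1 3 1 (le_of_eq hx14)).upd 2 3 2 (le_of_eq hx34)).upd 3 0 1 (le_of_eq hx40)).upd 3 1 1 (le_of_eq hx41)).upd 3 2 1 (le_of_eq hx43)) ![1,1,2,2] (by decide) (by decide) 0 (by decide))
      · -- 34=(1,3)
        exact False.elim (cert_false T ((skipEmb 2).trans (Function.Embedding.refl _)) (by norm_num) (fun _ => hall _) (((((LB_zero T ((skipEmb 2).trans (Function.Embedding.refl _))).upd 1 3 1 (le_of_eq hx14)).upd 2 3 1 (le_of_eq hx34)).upd 3 1 1 (le_of_eq hx41)).upd 3 2 3 (le_of_eq hx43)) ![0,1,1,2] (by decide) (by decide) 1 (by decide))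
      · -- 34=(3,1)
        exact False.elim (cert_false T ((skipEmb 2).trans (Function.Embedding.refl _)) (by norm_num) (fun _ => hall _) (((((((LB_zero T ((skipEmb 2).trans (Function.Embedding.refl _))).upd 0 3 1 (le_of_eq hx04)).upd 1 3 1 (le_of_eq hx14)).upd 2 3 3 (le_of_eq hx34)).upd 3 0 1 (le_of_eq hx40)).upd 3 1 1 (le_of_eq hx41)).upd 3 2 1 (le_of_eq hx43)) ![1,1,2,2] (by decide) (by decide) 0 (by decide))
    · -- 24=(1,1)
      rcases d34 with ⟨rfl, rfl⟩ | ⟨rfl, rfl⟩ | ⟨rfl, rfl⟩ | ⟨rfl, rfl⟩ | ⟨rfl, rfl⟩ | ⟨rfl, rfl⟩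
      · -- 34=(0,0)
        exfalso; omega
      · -- 34=(1,1)
        exact False.elim (cert_false T ((skipEmb 1).trans (Function.Embedding.refl _)) (by norm_num) (fun _ => hall _) (((((((LB_zero T ((skipEmb 1).trans (Function.Embedding.refl _))).upd 1 2 1 (le_of_eq hx23)).upd 1 3 1 (le_of_eq hx24)).upd 2 1 1 (le_of_eq hx32)).upd 2 3 1 (le_of_eq hx34)).upd 3 1 1 (le_of_eq hx42)).upd 3 2 1 (le_of_eq hx43)) ![0,1,1,1] (by decide) (by decide) 1 (by decide))
      · -- 34=(1,2)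
        exact False.elim (cert_false T ((skipEmb 2).trans (Function.Embedding.refl _)) (by norm_num) (fun _ => hall _) (((((((LB_zero T ((skipEmb 2).trans (Function.Embedding.refl _))).upd 0 3 1 (le_of_eq hx04)).upd 1 3 1 (le_of_eq hx14)).upd 2 3 1 (le_of_eq hx34)).upd 3 0 1 (le_of_eq hx40)).upd 3 1 1 (le_of_eq hx41)).upd 3 2 2 (le_of_eq hx43)) ![1,1,1,2] (by decide) (by decide) 0 (by decide))
      · -- 34=(2,1)
        exact False.elim (cert_false T ((skipEmb 2).trans (Function.Embedding.refl _)) (by norm_num) (fun _ => hall _) (((((((LB_zero T ((skipEmb 2).trans (Function.Embedding.refl _))).upd 0 3 1 (le_of_eq hx04)).upd 1 3 1 (le_of_eq hx14)).upd 2 3 2 (le_of_eq hx34)).upd 3 0 1 (le_of_eq hx40)).upd 3 1 1 (le_of_eq hx41)).upd 3 2 1 (le_of_eq hx43)) ![1,1,2,2] (by decide) (by decide) 0 (by decide))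
      · -- 34=(1,3)
        exact False.elim (cert_false T ((skipEmb 2).trans (Function.Embedding.refl _)) (by norm_num) (fun _ => hall _) (((((LB_zero T ((skipEmb 2).trans (Function.Embedding.refl _))).upd 1 3 1 (le_of_eq hx14)).upd 2 3 1 (le_of_eq hx34)).upd 3 1 1 (le_of_eq hx41)).upd 3 2 3 (le_of_eq hx43)) ![0,1,1,2] (by decide) (by decide) 1 (by decide))
      · -- 34=(3,1)
        exact False.elim (cert_false T ((skipEmb 2).trans (Function.Embedding.refl _)) (by norm_num) (fun _ => hall _) (((((((LB_zero T ((skipEmb 2).trans (Function.Embedding.refl _))).upd 0 3 1 (le_of_eq hx04)).upd 1 3 1 (le_of_eq hx14)).upd 2 3 3 (le_of_eq hx34)).upd 3 0 1 (le_of_eq hx40)).upd 3 1 1 (le_of_eq hx41)).upd 3 2 1 (le_of_eq hx43)) ![1,1,2,2] (by decide) (by decide) 0 (by decide))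
    · -- 24=(1,2)
      exact False.elim (cert_false T ((skipEmb 3).trans (Function.Embedding.refl _)) (by norm_num) (fun _ => hall _) (((((((LB_zero T ((skipEmb 3).trans (Function.Embedding.refl _))).upd 0 3 1 (le_of_eq hx04)).upd 1 3 1 (le_of_eq hx14)).upd 2 3 1 (le_of_eq hx24)).upd 3 0 1 (le_of_eq hx40)).upd 3 1 1 (le_of_eq hx41)).upd 3 2 2 (le_of_eq hx42)) ![1,1,1,2] (by decide) (by decide) 0 (by decide))
    · -- 24=(2,1)
      exact False.elim (cert_false T ((skipEmb 3).trans (Function.Embedding.refl _)) (by norm_num) (fun _ => hall _) (((((((LB_zero T ((skipEmb 3).trans (Function.Embedding.refl _))).upd 0 3 1 (le_of_eq hx04)).upd 1 3 1 (le_of_eq hx14)).upd 2 3 2 (le_of_eq hx24)).upd 3 0 1 (le_of_eq hx40)).upd 3 1 1 (le_of_eq hx41)).upd 3 2 1 (le_of_eq hx42)) ![1,1,2,2] (by decide) (by decide) 0 (by decide))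
    · -- 24=(1,3)
      exact False.elim (cert_false T ((skipEmb 3).trans (Function.Embedding.refl _)) (by norm_num) (fun _ => hall _) (((((LB_zero T ((skipEmb 3).trans (Function.Embedding.refl _))).upd 1 3 1 (le_of_eq hx14)).upd 2 3 1 (le_of_eq hx24)).upd 3 1 1 (le_of_eq hx41)).upd 3 2 3 (le_of_eq hx42)) ![0,1,1,2] (by decide) (by decide) 1 (by decide))
    · -- 24=(3,1)
      exact False.elim (cert_false T ((skipEmb 3).trans (Function.Embedding.refl _)) (by norm_num) (fun _ => hall _) (((((((LB_zero T ((skipEmb 3).trans (Function.Embedding.refl _))).upd 0 3 1 (le_of_eq hx04)).upd 1 3 1 (le_of_eq hx14)).upd 2 3 3 (le_of_eq hx24)).upd 3 0 1 (le_of_eq hx40)).upd 3 1 1 (le_of_eq hx41)).upd 3 2 1 (le_of_eq hx42)) ![1,1,2,2] (by decide) (by decide) 0 (by decide))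
  · -- 14=(1,2)
    rcases d24 with ⟨rfl, rfl⟩ | ⟨rfl, rfl⟩ | ⟨rfl, rfl⟩ | ⟨rfl, rfl⟩ | ⟨rfl, rfl⟩ | ⟨rfl, rfl⟩
    · -- 24=(0,0)
      rcases d34 with ⟨rfl, rfl⟩ | ⟨rfl, rfl⟩ | ⟨rfl, rfl⟩ | ⟨rfl, rfl⟩ | ⟨rfl, rfl⟩ | ⟨rfl, rfl⟩
      · -- 34=(0,0)
        exfalso; omega
      · -- 34=(1,1)
        exact False.elim (cert_false T ((skipEmb 2).trans (Function.Embedding.refl _)) (by norm_num) (fun _ => hall _) (((((((LB_zero T ((skipEmb 2).trans (Function.Embedding.refl _))).upd 0 3 1 (le_of_eq hx04)).upd 1 3 1 (le_of_eq hx14)).upd 2 3 1 (le_of_eq hx34)).upd 3 0 1 (le_of_eq hx40)).upd 3 1 2 (le_of_eq hx41)).upd 3 2 1 (le_of_eq hx43)) ![1,1,1,2] (by decide) (by decide) 0 (by decide))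
      · -- 34=(1,2)
        exact False.elim (cert_false T ((skipEmb 2).trans (Function.Embedding.refl _)) (by norm_num) (fun _ => hall _) (((((LB_zero T ((skipEmb 2).trans (Function.Embedding.refl _))).upd 1 3 1 (le_of_eq hx14)).upd 2 3 1 (le_of_eq hx34)).upd 3 1 2 (le_of_eq hx41)).upd 3 2 2 (le_of_eq hx43)) ![0,1,1,2] (by decide) (by decide) 1 (by decide))
      · -- 34=(2,1)
        exact False.elim (cert_false T ((skipEmb 2).trans (Function.Embedding.refl _)) (by norm_num) (fun _ => hall _) (((((LB_zero T ((skipEmb 2).trans (Function.Embedding.refl _))).upd 1 3 1 (le_of_eq hx14)).upd 2 3 2 (le_of_eq hx34)).upd 3 1 2 (le_of_eq hx41)).upd 3 2 1 (le_of_eq hx43)) ![0,1,2,2] (by decide) (by decide) 1 (by decide))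
      · -- 34=(1,3)
        exact False.elim (cert_false T ((skipEmb 2).trans (Function.Embedding.refl _)) (by norm_num) (fun _ => hall _) (((((LB_zero T ((skipEmb 2).trans (Function.Embedding.refl _))).upd 1 3 1 (le_of_eq hx14)).upd 2 3 1 (le_of_eq hx34)).upd 3 1 2 (le_of_eq hx41)).upd 3 2 3 (le_of_eq hx43)) ![0,1,1,2] (by decide) (by decide) 1 (by decide))
      · -- 34=(3,1)
        exact False.elim (cert_false T ((skipEmb 2).trans (Function.Embedding.refl _)) (by norm_num) (fun _ => hall _) (((((LB_zero T ((skipEmb 2).trans (Function.Embedding.refl _))).upd 1 3 1 (le_of_eq hx14)).upd 2 3 3 (le_of_eq hx34)).upd 3 1 2 (le_of_eq hx41)).upd 3 2 1 (le_of_eq hx43)) ![0,1,2,2] (by decide) (by decide) 1 (by decide))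
    · -- 24=(1,1)
      exact False.elim (cert_false T ((skipEmb 3).trans (Function.Embedding.refl _)) (by norm_num) (fun _ => hall _) (((((((LB_zero T ((skipEmb 3).trans (Function.Embedding.refl _))).upd 0 3 1 (le_of_eq hx04)).upd 1 3 1 (le_of_eq hx14)).upd 2 3 1 (le_of_eq hx24)).upd 3 0 1 (le_of_eq hx40)).upd 3 1 2 (le_of_eq hx41)).upd 3 2 1 (le_of_eq hx42)) ![1,1,1,2] (by decide) (by decide) 0 (by decide))
    · -- 24=(1,2)
      exact False.elim (cert_false T ((skipEmb 3).trans (Function.Embedding.refl _)) (by norm_num) (fun _ => hall _) (((((LB_zero T ((skipEmb 3).trans (Function.Embedding.refl _))).upd 1 3 1 (le_of_eq hx14)).upd 2 3 1 (le_of_eq hx24)).upd 3 1 2 (le_of_eq hx41)).upd 3 2 2 (le_of_eq hx42)) ![0,1,1,2] (by decide) (by decide) 1 (by decide))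
    · -- 24=(2,1)
      exact False.elim (cert_false T ((skipEmb 3).trans (Function.Embedding.refl _)) (by norm_num) (fun _ => hall _) (((((LB_zero T ((skipEmb 3).trans (Function.Embedding.refl _))).upd 1 3 1 (le_of_eq hx14)).upd 2 3 2 (le_of_eq hx24)).upd 3 1 2 (le_of_eq hx41)).upd 3 2 1 (le_of_eq hx42)) ![0,1,2,2] (by decide) (by decide) 1 (by decide))
    · -- 24=(1,3)
      exact False.elim (cert_false T ((skipEmb 3).trans (Function.Embedding.refl _)) (by norm_num) (fun _ => hall _) (((((LB_zero T ((skipEmb 3).trans (Function.Embedding.refl _))).upd 1 3 1 (le_of_eq hx14)).upd 2 3 1 (le_of_eq hx24)).upd 3 1 2 (le_of_eq hx41)).upd 3 2 3 (le_of_eq hx42)) ![0,1,1,2] (by decide) (by decide) 1 (by decide))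
    · -- 24=(3,1)
      exact False.elim (cert_false T ((skipEmb 3).trans (Function.Embedding.refl _)) (by norm_num) (fun _ => hall _) (((((LB_zero T ((skipEmb 3).trans (Function.Embedding.refl _))).upd 1 3 1 (le_of_eq hx14)).upd 2 3 3 (le_of_eq hx24)).upd 3 1 2 (le_of_eq hx41)).upd 3 2 1 (le_of_eq hx42)) ![0,1,2,2] (by decide) (by decide) 1 (by decide))
  · -- 14=(2,1)
    rcases d24 with ⟨rfl, rfl⟩ | ⟨rfl, rfl⟩ | ⟨rfl, rfl⟩ | ⟨rfl, rfl⟩ | ⟨rfl, rfl⟩ | ⟨rfl, rfl⟩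
    · -- 24=(0,0)
      rcases d34 with ⟨rfl, rfl⟩ | ⟨rfl, rfl⟩ | ⟨rfl, rfl⟩ | ⟨rfl, rfl⟩ | ⟨rfl, rfl⟩ | ⟨rfl, rfl⟩
      · -- 34=(0,0)
        exfalso; omega
      · -- 34=(1,1)
        exact False.elim (cert_false T ((skipEmb 2).trans (Function.Embedding.refl _)) (by norm_num) (fun _ => hall _) (((((((LB_zero T ((skipEmb 2).trans (Function.Embedding.refl _))).upd 0 3 1 (le_of_eq hx04)).upd 1 3 2 (le_of_eq hx14)).upd 2 3 1 (le_of_eq hx34)).upd 3 0 1 (le_of_eq hx40)).upd 3 1 1 (le_of_eq hx41)).upd 3 2 1 (le_of_eq hx43)) ![1,2,1,2] (by decide) (by decide) 0 (by decide))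
      · -- 34=(1,2)
        exact False.elim (cert_false T ((skipEmb 2).trans (Function.Embedding.refl _)) (by norm_num) (fun _ => hall _) (((((LB_zero T ((skipEmb 2).trans (Function.Embedding.refl _))).upd 1 3 2 (le_of_eq hx14)).upd 2 3 1 (le_of_eq hx34)).upd 3 1 1 (le_of_eq hx41)).upd 3 2 2 (le_of_eq hx43)) ![0,2,1,2] (by decide) (by decide) 1 (by decide))
      · -- 34=(2,1)
        exact False.elim (cert_false T ((skipEmb 2).trans (Function.Embedding.refl _)) (by norm_num) (fun _ => hall _) (((((LB_zero T ((skipEmb 2).trans (Function.Embedding.refl _))).upd 1 3 2 (le_of_eq hx14)).upd 2 3 2 (le_of_eq hx34)).upd 3 1 1 (le_of_eq hx41)).upd 3 2 1 (le_of_eq hx43)) ![0,1,1,1] (by decide) (by decide) 1 (by decide))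
      · -- 34=(1,3)
        exact False.elim (cert_false T ((skipEmb 2).trans (Function.Embedding.refl _)) (by norm_num) (fun _ => hall _) (((((LB_zero T ((skipEmb 2).trans (Function.Embedding.refl _))).upd 1 3 2 (le_of_eq hx14)).upd 2 3 1 (le_of_eq hx34)).upd 3 1 1 (le_of_eq hx41)).upd 3 2 3 (le_of_eq hx43)) ![0,1,1,2] (by decide) (by decide) 1 (by decide))
      · -- 34=(3,1)
        exact False.elim (cert_false T ((skipEmb 2).trans (Function.Embedding.refl _)) (by norm_num) (fun _ => hall _) (((((LB_zero T ((skipEmb 2).trans (Function.Embedding.refl _))).upd 1 3 2 (le_of_eq hx14)).upd 2 3 3 (le_of_eq hx34)).upd 3 1 1 (le_of_eq hx41)).upd 3 2 1 (le_of_eq hx43)) ![0,1,1,1] (by decide) (by decide) 1 (by decide))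
    · -- 24=(1,1)
      exact False.elim (cert_false T ((skipEmb 3).trans (Function.Embedding.refl _)) (by norm_num) (fun _ => hall _) (((((((LB_zero T ((skipEmb 3).trans (Function.Embedding.refl _))).upd 0 3 1 (le_of_eq hx04)).upd 1 3 2 (le_of_eq hx14)).upd 2 3 1 (le_of_eq hx24)).upd 3 0 1 (le_of_eq hx40)).upd 3 1 1 (le_of_eq hx41)).upd 3 2 1 (le_of_eq hx42)) ![1,2,1,2] (by decide) (by decide) 0 (by decide))
    · -- 24=(1,2)
      exact False.elim (cert_false T ((skipEmb 3).trans (Function.Embedding.refl _)) (by norm_num) (fun _ => hall _) (((((LB_zero T ((skipEmb 3).trans (Function.Embedding.refl _))).upd 1 3 2 (le_of_eq hx14)).upd 2 3 1 (le_of_eq hx24)).upd 3 1 1 (le_of_eq hx41)).upd 3 2 2 (le_of_eq hx42)) ![0,2,1,2] (by decide) (by decide) 1 (by decide))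
    · -- 24=(2,1)
      exact False.elim (cert_false T ((skipEmb 3).trans (Function.Embedding.refl _)) (by norm_num) (fun _ => hall _) (((((LB_zero T ((skipEmb 3).trans (Function.Embedding.refl _))).upd 1 3 2 (le_of_eq hx14)).upd 2 3 2 (le_of_eq hx24)).upd 3 1 1 (le_of_eq hx41)).upd 3 2 1 (le_of_eq hx42)) ![0,1,1,1] (by decide) (by decide) 1 (by decide))
    · -- 24=(1,3)
      exact False.elim (cert_false T ((skipEmb 3).trans (Function.Embedding.refl _)) (by norm_num) (fun _ => hall _) (((((LB_zero T ((skipEmb 3).trans (Function.Embedding.refl _))).upd 1 3 2 (le_of_eq hx14)).upd 2 3 1 (le_of_eq hx24)).upd 3 1 1 (le_of_eq hx41)).upd 3 2 3 (le_of_eq hx42)) ![0,1,1,2] (by decide) (by decide) 1 (by decide))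
    · -- 24=(3,1)
      exact False.elim (cert_false T ((skipEmb 3).trans (Function.Embedding.refl _)) (by norm_num) (fun _ => hall _) (((((LB_zero T ((skipEmb 3).trans (Function.Embedding.refl _))).upd 1 3 2 (le_of_eq hx14)).upd 2 3 3 (le_of_eq hx24)).upd 3 1 1 (le_of_eq hx41)).upd 3 2 1 (le_of_eq hx42)) ![0,1,1,1] (by decide) (by decide) 1 (by decide))
  · -- 14=(1,3)
    exact False.elim (cert_false T ((skipEmb 3).trans (Function.Embedding.refl _)) (by norm_num) (fun _ => hall _) (((((LB_zero T ((skipEmb 3).trans (Function.Embedding.refl _))).upd 0 3 1 (le_of_eq hx04)).upd 1 3 1 (le_of_eq hx14)).upd 3 0 1 (le_of_eq hx40)).upd 3 1 3 (le_of_eq hx41)) ![1,1,0,2] (by decide) (by decide) 0 (by decide))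
  · -- 14=(3,1)
    exact False.elim (cert_false T ((skipEmb 3).trans (Function.Embedding.refl _)) (by norm_num) (fun _ => hall _) (((((LB_zero T ((skipEmb 3).trans (Function.Embedding.refl _))).upd 0 3 1 (le_of_eq hx04)).upd 1 3 3 (le_of_eq hx14)).upd 3 0 1 (le_of_eq hx40)).upd 3 1 1 (le_of_eq hx41)) ![1,3,0,2] (by decide) (by decide) 0 (by decide))

theorem case8 (T : NumericalType 5) (hall : ∀ i, T.IsMinusTwo i) (d : SData T)
    (h01 : N T (Function.Embedding.refl _) 0 1 = 0) (h10 : N T (Function.Embedding.refl _) 1 0 = 0)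
    (h02 : N T (Function.Embedding.refl _) 0 2 = 0) (h20 : N T (Function.Embedding.refl _) 2 0 = 0)
    (h12 : N T (Function.Embedding.refl _) 1 2 = 0) (h21 : N T (Function.Embedding.refl _) 2 1 = 0)
    (h03 : N T (Function.Embedding.refl _) 0 3 = 0) (h30 : N T (Function.Embedding.refl _) 3 0 = 0)
    (h13 : N T (Function.Embedding.refl _) 1 3 = 0) (h31 : N T (Function.Embedding.refl _) 3 1 = 0)
    (h23 : N T (Function.Embedding.refl _) 2 3 = 1) (h32 : N T (Function.Embedding.refl _) 3 2 = 1) :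
    Goal T := by
  unfold Goal
  have hd := d
  obtain ⟨x01, x02, x03, x04, x10, x12, x13, x14, x20, x21, x23, x24, x30, x31, x32, x34, x40, x41, x42, x43, hx01, hx02, hx03, hx04, hx10, hx12, hx13, hx14, hx20, hx21, hx23, hx24, hx30, hx31, hx32, hx34, hx40, hx41, hx42, hx43, hw0, hm0, hw1, hm1, hw2, hm2, hw3, hm3, hw4, hm4, a00, a01, a02, a03, a04, a11, a10, a12, a13, a14, a22, a20, a21, a23, a24, a33, a30, a31, a32, a34, a44, a40, a41, a42, a43, wN01, wN02, wN12, wN03, wN13, wN23, wN04, wN14, wN24, wN34, e0, e1, e2, e3, e4, d01, d02, d12, d03, d13, d23, d04, d14, d24, d34⟩ := d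
  obtain rfl : x01 = 0 := hx01.trans h01
  obtain rfl : x10 = 0 := hx10.trans h10
  obtain rfl : x02 = 0 := hx02.trans h02
  obtain rfl : x20 = 0 := hx20.trans h20
  obtain rfl : x12 = 0 := hx12.trans h12
  obtain rfl : x21 = 0 := hx21.trans h21
  obtain rfl : x03 = 0 := hx03.trans h03
  obtain rfl : x30 = 0 := hx30.trans h30
  obtain rfl : x13 = 0 := hx13.trans h13
  obtain rfl : x31 = 0 := hx31.trans h31
  obtain rfl : x23 = 1 := hx23.trans h23
  obtain rfl : x32 = 1 := hx32.trans h32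
  rcases d04 with ⟨rfl, rfl⟩ | ⟨rfl, rfl⟩ | ⟨rfl, rfl⟩ | ⟨rfl, rfl⟩ | ⟨rfl, rfl⟩ | ⟨rfl, rfl⟩
  · -- 04=(0,0)
    exact case9 T hall hd hx01.symm hx10.symm hx02.symm hx20.symm hx12.symm hx21.symm hx03.symm hx30.symm hx13.symm hx31.symm hx23.symm hx32.symm hx04.symm hx40.symm
  · -- 04=(1,1)
    exact case10 T hall hd hx01.symm hx10.symm hx02.symm hx20.symm hx12.symm hx21.symm hx03.symm hx30.symm hx13.symm hx31.symm hx23.symm hx32.symm hx04.symm hx40.symm
  · -- 04=(1,2)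
    rcases d14 with ⟨rfl, rfl⟩ | ⟨rfl, rfl⟩ | ⟨rfl, rfl⟩ | ⟨rfl, rfl⟩ | ⟨rfl, rfl⟩ | ⟨rfl, rfl⟩
    · -- 14=(0,0)
      rcases d24 with ⟨rfl, rfl⟩ | ⟨rfl, rfl⟩ | ⟨rfl, rfl⟩ | ⟨rfl, rfl⟩ | ⟨rfl, rfl⟩ | ⟨rfl, rfl⟩
      · -- 24=(0,0)
        rcases d34 with ⟨rfl, rfl⟩ | ⟨rfl, rfl⟩ | ⟨rfl, rfl⟩ | ⟨rfl, rfl⟩ | ⟨rfl, rfl⟩ | ⟨rfl, rfl⟩
        · -- 34=(0,0)
          exfalso; omega
        · -- 34=(1,1)
          exfalso; omega
        · -- 34=(1,2)
          exact False.elim (cert_false T ((skipEmb 2).trans (Function.Embedding.refl _)) (by norm_num) (fun _ => hall _) (((((LB_zero T ((skipEmb 2).trans (Function.Embedding.refl _))).upd 0 3 1 (le_of_eq hx04)).upd 2 3 1 (le_of_eq hx34)).upd 3 0 2 (le_of_eq hx40)).upd 3 2 2 (le_of_eq hx43)) ![1,0,1,2] (by decide) (by decide) 0 (by decide))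
        · -- 34=(2,1)
          exact False.elim (cert_false T ((skipEmb 2).trans (Function.Embedding.refl _)) (by norm_num) (fun _ => hall _) (((((LB_zero T ((skipEmb 2).trans (Function.Embedding.refl _))).upd 0 3 1 (le_of_eq hx04)).upd 2 3 2 (le_of_eq hx34)).upd 3 0 2 (le_of_eq hx40)).upd 3 2 1 (le_of_eq hx43)) ![1,0,2,2] (by decide) (by decide) 0 (by decide))
        · -- 34=(1,3)
          exact False.elim (cert_false T ((skipEmb 2).trans (Function.Embedding.refl _)) (by norm_num) (fun _ => hall _) (((((LB_zero T ((skipEmb 2).trans (Function.Embedding.refl _))).upd 0 3 1 (le_of_eq hx04)).upd 2 3 1 (le_of_eq hx34)).upd 3 0 2 (le_of_eq hx40)).upd 3 2 3 (le_of_eq hx43)) ![1,0,1,2] (by decide) (by decide) 0 (by decide))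
        · -- 34=(3,1)
          exact False.elim (cert_false T ((skipEmb 2).trans (Function.Embedding.refl _)) (by norm_num) (fun _ => hall _) (((((LB_zero T ((skipEmb 2).trans (Function.Embedding.refl _))).upd 0 3 1 (le_of_eq hx04)).upd 2 3 3 (le_of_eq hx34)).upd 3 0 2 (le_of_eq hx40)).upd 3 2 1 (le_of_eq hx43)) ![1,0,2,2] (by decide) (by decide) 0 (by decide))
      · -- 24=(1,1)
        rcases d34 with ⟨rfl, rfl⟩ | ⟨rfl, rfl⟩ | ⟨rfl, rfl⟩ | ⟨rfl, rfl⟩ | ⟨rfl, rfl⟩ | ⟨rfl, rfl⟩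
        · -- 34=(0,0)
          exfalso; omega
        · -- 34=(1,1)
          exact False.elim (cert_false T ((skipEmb 1).trans (Function.Embedding.refl _)) (by norm_num) (fun _ => hall _) (((((((LB_zero T ((skipEmb 1).trans (Function.Embedding.refl _))).upd 1 2 1 (le_of_eq hx23)).upd 1 3 1 (le_of_eq hx24)).upd 2 1 1 (le_of_eq hx32)).upd 2 3 1 (le_of_eq hx34)).upd 3 1 1 (le_of_eq hx42)).upd 3 2 1 (le_of_eq hx43)) ![0,1,1,1] (by decide) (by decide) 1 (by decide))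
        · -- 34=(1,2)
          exact False.elim (cert_false T ((skipEmb 2).trans (Function.Embedding.refl _)) (by norm_num) (fun _ => hall _) (((((LB_zero T ((skipEmb 2).trans (Function.Embedding.refl _))).upd 0 3 1 (le_of_eq hx04)).upd 2 3 1 (le_of_eq hx34)).upd 3 0 2 (le_of_eq hx40)).upd 3 2 2 (le_of_eq hx43)) ![1,0,1,2] (by decide) (by decide) 0 (by decide))
        · -- 34=(2,1)
          exact False.elim (cert_false T ((skipEmb 2).trans (Function.Embedding.refl _)) (by norm_num) (fun _ => hall _) (((((LB_zero T ((skipEmb 2).trans (Function.Embedding.refl _))).upd 0 3 1 (le_of_eq hx04)).upd 2 3 2 (le_of_eq hx34)).upd 3 0 2 (le_of_eq hx40)).upd 3 2 1 (le_of_eq hx43)) ![1,0,2,2] (by decide) (by decide) 0 (by decide))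
        · -- 34=(1,3)
          exact False.elim (cert_false T ((skipEmb 2).trans (Function.Embedding.refl _)) (by norm_num) (fun _ => hall _) (((((LB_zero T ((skipEmb 2).trans (Function.Embedding.refl _))).upd 0 3 1 (le_of_eq hx04)).upd 2 3 1 (le_of_eq hx34)).upd 3 0 2 (le_of_eq hx40)).upd 3 2 3 (le_of_eq hx43)) ![1,0,1,2] (by decide) (by decide) 0 (by decide))
        · -- 34=(3,1)
          exact False.elim (cert_false T ((skipEmb 2).trans (Function.Embedding.refl _)) (by norm_num) (fun _ => hall _) (((((LB_zero T ((skipEmb 2).trans (Function.Embedding.refl _))).upd 0 3 1 (le_of_eq hx04)).upd 2 3 3 (le_of_eq hx34)).upd 3 0 2 (le_of_eq hx40)).upd 3 2 1 (le_of_eq hx43)) ![1,0,2,2] (by decide) (by decide) 0 (by decide))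
      · -- 24=(1,2)
        exact False.elim (cert_false T ((skipEmb 3).trans (Function.Embedding.refl _)) (by norm_num) (fun _ => hall _) (((((LB_zero T ((skipEmb 3).trans (Function.Embedding.refl _))).upd 0 3 1 (le_of_eq hx04)).upd 2 3 1 (le_of_eq hx24)).upd 3 0 2 (le_of_eq hx40)).upd 3 2 2 (le_of_eq hx42)) ![1,0,1,2] (by decide) (by decide) 0 (by decide))
      · -- 24=(2,1)
        exact False.elim (cert_false T ((skipEmb 3).trans (Function.Embedding.refl _)) (by norm_num) (fun _ => hall _) (((((LB_zero T ((skipEmb 3).trans (Function.Embedding.refl _))).upd 0 3 1 (le_of_eq hx04)).upd 2 3 2 (le_of_eq hx24)).upd 3 0 2 (le_of_eq hx40)).upd 3 2 1 (le_of_eq hx42)) ![1,0,2,2] (by decide) (by decide) 0 (by decide))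
      · -- 24=(1,3)
        exact False.elim (cert_false T ((skipEmb 3).trans (Function.Embedding.refl _)) (by norm_num) (fun _ => hall _) (((((LB_zero T ((skipEmb 3).trans (Function.Embedding.refl _))).upd 0 3 1 (le_of_eq hx04)).upd 2 3 1 (le_of_eq hx24)).upd 3 0 2 (le_of_eq hx40)).upd 3 2 3 (le_of_eq hx42)) ![1,0,1,2] (by decide) (by decide) 0 (by decide))
      · -- 24=(3,1)
        exact False.elim (cert_false T ((skipEmb 3).trans (Function.Embedding.refl _)) (by norm_num) (fun _ => hall _) (((((LB_zero T ((skipEmb 3).trans (Function.Embedding.refl _))).upd 0 3 1 (le_of_eq hx04)).upd 2 3 3 (le_of_eq hx24)).upd 3 0 2 (le_of_eq hx40)).upd 3 2 1 (le_of_eq hx42)) ![1,0,2,2] (by decide) (by decide) 0 (by decide))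
    · -- 14=(1,1)
      rcases d24 with ⟨rfl, rfl⟩ | ⟨rfl, rfl⟩ | ⟨rfl, rfl⟩ | ⟨rfl, rfl⟩ | ⟨rfl, rfl⟩ | ⟨rfl, rfl⟩
      · -- 24=(0,0)
        rcases d34 with ⟨rfl, rfl⟩ | ⟨rfl, rfl⟩ | ⟨rfl, rfl⟩ | ⟨rfl, rfl⟩ | ⟨rfl, rfl⟩ | ⟨rfl, rfl⟩
        · -- 34=(0,0)
          exfalso; omega
        · -- 34=(1,1)
          exact False.elim (cert_false T ((skipEmb 2).trans (Function.Embedding.refl _)) (by norm_num) (fun _ => hall _) (((((((LB_zero T ((skipEmb 2).trans (Function.Embedding.refl _))).upd 0 3 1 (le_of_eq hx04)).upd 1 3 1 (le_of_eq hx14)).upd 2 3 1 (le_of_eq hx34)).upd 3 0 2 (le_of_eq hx40)).upd 3 1 1 (le_of_eq hx41)).upd 3 2 1 (le_of_eq hx43)) ![1,1,1,2] (by decide) (by decide) 0 (by decide))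
        · -- 34=(1,2)
          exact False.elim (cert_false T ((skipEmb 2).trans (Function.Embedding.refl _)) (by norm_num) (fun _ => hall _) (((((LB_zero T ((skipEmb 2).trans (Function.Embedding.refl _))).upd 0 3 1 (le_of_eq hx04)).upd 2 3 1 (le_of_eq hx34)).upd 3 0 2 (le_of_eq hx40)).upd 3 2 2 (le_of_eq hx43)) ![1,0,1,2] (by decide) (by decide) 0 (by decide))
        · -- 34=(2,1)
          exact False.elim (cert_false T ((skipEmb 2).trans (Function.Embedding.refl _)) (by norm_num) (fun _ => hall _) (((((LB_zero T ((skipEmb 2).trans (Function.Embedding.refl _))).upd 0 3 1 (le_of_eq hx04)).upd 2 3 2 (le_of_eq hx34)).upd 3 0 2 (le_of_eq hx40)).upd 3 2 1 (le_of_eq hx43)) ![1,0,2,2] (by decide) (by decide) 0 (by decide))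
        · -- 34=(1,3)
          exact False.elim (cert_false T ((skipEmb 2).trans (Function.Embedding.refl _)) (by norm_num) (fun _ => hall _) (((((LB_zero T ((skipEmb 2).trans (Function.Embedding.refl _))).upd 1 3 1 (le_of_eq hx14)).upd 2 3 1 (le_of_eq hx34)).upd 3 1 1 (le_of_eq hx41)).upd 3 2 3 (le_of_eq hx43)) ![0,1,1,2] (by decide) (by decide) 1 (by decide))
        · -- 34=(3,1)
          exact False.elim (cert_false T ((skipEmb 2).trans (Function.Embedding.refl _)) (by norm_num) (fun _ => hall _) (((((LB_zero T ((skipEmb 2).trans (Function.Embedding.refl _))).upd 0 3 1 (le_of_eq hx04)).upd 2 3 3 (le_of_eq hx34)).upd 3 0 2 (le_of_eq hx40)).upd 3 2 1 (le_of_eq hx43)) ![1,0,2,2] (by decide) (by decide) 0 (by decide))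
      · -- 24=(1,1)
        exact False.elim (cert_false T ((skipEmb 3).trans (Function.Embedding.refl _)) (by norm_num) (fun _ => hall _) (((((((LB_zero T ((skipEmb 3).trans (Function.Embedding.refl _))).upd 0 3 1 (le_of_eq hx04)).upd 1 3 1 (le_of_eq hx14)).upd 2 3 1 (le_of_eq hx24)).upd 3 0 2 (le_of_eq hx40)).upd 3 1 1 (le_of_eq hx41)).upd 3 2 1 (le_of_eq hx42)) ![1,1,1,2] (by decide) (by decide) 0 (by decide))
      · -- 24=(1,2)
        exact False.elim (cert_false T ((skipEmb 3).trans (Function.Embedding.refl _)) (by norm_num) (fun _ => hall _) (((((LB_zero T ((skipEmb 3).trans (Function.Embedding.refl _))).upd 0 3 1 (le_of_eq hx04)).upd 2 3 1 (le_of_eq hx24)).upd 3 0 2 (le_of_eq hx40)).upd 3 2 2 (le_of_eq hx42)) ![1,0,1,2] (by decide) (by decide) 0 (by decide))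
      · -- 24=(2,1)
        exact False.elim (cert_false T ((skipEmb 3).trans (Function.Embedding.refl _)) (by norm_num) (fun _ => hall _) (((((LB_zero T ((skipEmb 3).trans (Function.Embedding.refl _))).upd 0 3 1 (le_of_eq hx04)).upd 2 3 2 (le_of_eq hx24)).upd 3 0 2 (le_of_eq hx40)).upd 3 2 1 (le_of_eq hx42)) ![1,0,2,2] (by decide) (by decide) 0 (by decide))
      · -- 24=(1,3)
        exact False.elim (cert_false T ((skipEmb 3).trans (Function.Embedding.refl _)) (by norm_num) (fun _ => hall _) (((((LB_zero T ((skipEmb 3).trans (Function.Embedding.refl _))).upd 1 3 1 (le_of_eq hx14)).upd 2 3 1 (le_of_eq hx24)).upd 3 1 1 (le_of_eq hx41)).upd 3 2 3 (le_of_eq hx42)) ![0,1,1,2] (by decide) (by decide) 1 (by decide))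
      · -- 24=(3,1)
        exact False.elim (cert_false T ((skipEmb 3).trans (Function.Embedding.refl _)) (by norm_num) (fun _ => hall _) (((((LB_zero T ((skipEmb 3).trans (Function.Embedding.refl _))).upd 0 3 1 (le_of_eq hx04)).upd 2 3 3 (le_of_eq hx24)).upd 3 0 2 (le_of_eq hx40)).upd 3 2 1 (le_of_eq hx42)) ![1,0,2,2] (by decide) (by decide) 0 (by decide))
    · -- 14=(1,2)
      exact False.elim (cert_false T ((skipEmb 3).trans (Function.Embedding.refl _)) (by norm_num) (fun _ => hall _) (((((LB_zero T ((skipEmb 3).trans (Function.Embedding.refl _))).upd 0 3 1 (le_of_eq hx04)).upd 1 3 1 (le_of_eq hx14)).upd 3 0 2 (le_of_eq hx40)).upd 3 1 2 (le_of_eq hx41)) ![1,1,0,2] (by decide) (by decide) 0 (by decide))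
    · -- 14=(2,1)
      exact False.elim (cert_false T ((skipEmb 3).trans (Function.Embedding.refl _)) (by norm_num) (fun _ => hall _) (((((LB_zero T ((skipEmb 3).trans (Function.Embedding.refl _))).upd 0 3 1 (le_of_eq hx04)).upd 1 3 2 (le_of_eq hx14)).upd 3 0 2 (le_of_eq hx40)).upd 3 1 1 (le_of_eq hx41)) ![1,2,0,2] (by decide) (by decide) 0 (by decide))
    · -- 14=(1,3)
      exact False.elim (cert_false T ((skipEmb 3).trans (Function.Embedding.refl _)) (by norm_num) (fun _ => hall _) (((((LB_zero T ((skipEmb 3).trans (Function.Embedding.refl _))).upd 0 3 1 (le_of_eq hx04)).upd 1 3 1 (le_of_eq hx14)).upd 3 0 2 (le_of_eq hx40)).upd 3 1 3 (le_of_eq hx41)) ![1,1,0,2] (by decide) (by decide) 0 (by decide))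
    · -- 14=(3,1)
      exact False.elim (cert_false T ((skipEmb 3).trans (Function.Embedding.refl _)) (by norm_num) (fun _ => hall _) (((((LB_zero T ((skipEmb 3).trans (Function.Embedding.refl _))).upd 0 3 1 (le_of_eq hx04)).upd 1 3 3 (le_of_eq hx14)).upd 3 0 2 (le_of_eq hx40)).upd 3 1 1 (le_of_eq hx41)) ![1,2,0,2] (by decide) (by decide) 0 (by decide))
  · -- 04=(2,1)
    rcases d14 with ⟨rfl, rfl⟩ | ⟨rfl, rfl⟩ | ⟨rfl, rfl⟩ | ⟨rfl, rfl⟩ | ⟨rfl, rfl⟩ | ⟨rfl, rfl⟩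
    · -- 14=(0,0)
      rcases d24 with ⟨rfl, rfl⟩ | ⟨rfl, rfl⟩ | ⟨rfl, rfl⟩ | ⟨rfl, rfl⟩ | ⟨rfl, rfl⟩ | ⟨rfl, rfl⟩
      · -- 24=(0,0)
        rcases d34 with ⟨rfl, rfl⟩ | ⟨rfl, rfl⟩ | ⟨rfl, rfl⟩ | ⟨rfl, rfl⟩ | ⟨rfl, rfl⟩ | ⟨rfl, rfl⟩
        · -- 34=(0,0)
          exfalso; omega
        · -- 34=(1,1)
          exfalso; omega
        · -- 34=(1,2)
          exact False.elim (cert_false T ((skipEmb 2).trans (Function.Embedding.refl _)) (by norm_num) (fun _ => hall _) (((((LB_zero T ((skipEmb 2).trans (Function.Embedding.refl _))).upd 0 3 2 (le_of_eq hx04)).upd 2 3 1 (le_of_eq hx34)).upd 3 0 1 (le_of_eq hx40)).upd 3 2 2 (le_of_eq hx43)) ![2,0,1,2] (by decide) (by decide) 0 (by decide))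
        · -- 34=(2,1)
          exact False.elim (cert_false T ((skipEmb 2).trans (Function.Embedding.refl _)) (by norm_num) (fun _ => hall _) (((((LB_zero T ((skipEmb 2).trans (Function.Embedding.refl _))).upd 0 3 2 (le_of_eq hx04)).upd 2 3 2 (le_of_eq hx34)).upd 3 0 1 (le_of_eq hx40)).upd 3 2 1 (le_of_eq hx43)) ![1,0,1,1] (by decide) (by decide) 0 (by decide))
        · -- 34=(1,3)
          exact False.elim (cert_false T ((skipEmb 2).trans (Function.Embedding.refl _)) (by norm_num) (fun _ => hall _) (((((LB_zero T ((skipEmb 2).trans (Function.Embedding.refl _))).upd 0 3 2 (le_of_eq hx04)).upd 2 3 1 (le_of_eq hx34)).upd 3 0 1 (le_of_eq hx40)).upd 3 2 3 (le_of_eq hx43)) ![1,0,1,2] (by decide) (by decide) 0 (by decide))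
        · -- 34=(3,1)
          exact False.elim (cert_false T ((skipEmb 2).trans (Function.Embedding.refl _)) (by norm_num) (fun _ => hall _) (((((LB_zero T ((skipEmb 2).trans (Function.Embedding.refl _))).upd 0 3 2 (le_of_eq hx04)).upd 2 3 3 (le_of_eq hx34)).upd 3 0 1 (le_of_eq hx40)).upd 3 2 1 (le_of_eq hx43)) ![1,0,1,1] (by decide) (by decide) 0 (by decide))
      · -- 24=(1,1)
        rcases d34 with ⟨rfl, rfl⟩ | ⟨rfl, rfl⟩ | ⟨rfl, rfl⟩ | ⟨rfl, rfl⟩ | ⟨rfl, rfl⟩ | ⟨rfl, rfl⟩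
        · -- 34=(0,0)
          exfalso; omega
        · -- 34=(1,1)
          exact False.elim (cert_false T ((skipEmb 1).trans (Function.Embedding.refl _)) (by norm_num) (fun _ => hall _) (((((((LB_zero T ((skipEmb 1).trans (Function.Embedding.refl _))).upd 1 2 1 (le_of_eq hx23)).upd 1 3 1 (le_of_eq hx24)).upd 2 1 1 (le_of_eq hx32)).upd 2 3 1 (le_of_eq hx34)).upd 3 1 1 (le_of_eq hx42)).upd 3 2 1 (le_of_eq hx43)) ![0,1,1,1] (by decide) (by decide) 1 (by decide))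
        · -- 34=(1,2)
          exact False.elim (cert_false T ((skipEmb 2).trans (Function.Embedding.refl _)) (by norm_num) (fun _ => hall _) (((((LB_zero T ((skipEmb 2).trans (Function.Embedding.refl _))).upd 0 3 2 (le_of_eq hx04)).upd 2 3 1 (le_of_eq hx34)).upd 3 0 1 (le_of_eq hx40)).upd 3 2 2 (le_of_eq hx43)) ![2,0,1,2] (by decide) (by decide) 0 (by decide))
        · -- 34=(2,1)
          exact False.elim (cert_false T ((skipEmb 2).trans (Function.Embedding.refl _)) (by norm_num) (fun _ => hall _) (((((LB_zero T ((skipEmb 2).trans (Function.Embedding.refl _))).upd 0 3 2 (le_of_eq hx04)).upd 2 3 2 (le_of_eq hx34)).upd 3 0 1 (le_of_eq hx40)).upd 3 2 1 (le_of_eq hx43)) ![1,0,1,1] (by decide) (by decide) 0 (by decide))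
        · -- 34=(1,3)
          exact False.elim (cert_false T ((skipEmb 2).trans (Function.Embedding.refl _)) (by norm_num) (fun _ => hall _) (((((LB_zero T ((skipEmb 2).trans (Function.Embedding.refl _))).upd 0 3 2 (le_of_eq hx04)).upd 2 3 1 (le_of_eq hx34)).upd 3 0 1 (le_of_eq hx40)).upd 3 2 3 (le_of_eq hx43)) ![1,0,1,2] (by decide) (by decide) 0 (by decide))
        · -- 34=(3,1)
          exact False.elim (cert_false T ((skipEmb 2).trans (Function.Embedding.refl _)) (by norm_num) (fun _ => hall _) (((((LB_zero T ((skipEmb 2).trans (Function.Embedding.refl _))).upd 0 3 2 (le_of_eq hx04)).upd 2 3 3 (le_of_eq hx34)).upd 3 0 1 (le_of_eq hx40)).upd 3 2 1 (le_of_eq hx43)) ![1,0,1,1] (by decide) (by decide) 0 (by decide))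
      · -- 24=(1,2)
        exact False.elim (cert_false T ((skipEmb 3).trans (Function.Embedding.refl _)) (by norm_num) (fun _ => hall _) (((((LB_zero T ((skipEmb 3).trans (Function.Embedding.refl _))).upd 0 3 2 (le_of_eq hx04)).upd 2 3 1 (le_of_eq hx24)).upd 3 0 1 (le_of_eq hx40)).upd 3 2 2 (le_of_eq hx42)) ![2,0,1,2] (by decide) (by decide) 0 (by decide))
      · -- 24=(2,1)
        exact False.elim (cert_false T ((skipEmb 3).trans (Function.Embedding.refl _)) (by norm_num) (fun _ => hall _) (((((LB_zero T ((skipEmb 3).trans (Function.Embedding.refl _))).upd 0 3 2 (le_of_eq hx04)).upd 2 3 2 (le_of_eq hx24)).upd 3 0 1 (le_of_eq hx40)).upd 3 2 1 (le_of_eq hx42)) ![1,0,1,1] (by decide) (by decide) 0 (by decide))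
      · -- 24=(1,3)
        exact False.elim (cert_false T ((skipEmb 3).trans (Function.Embedding.refl _)) (by norm_num) (fun _ => hall _) (((((LB_zero T ((skipEmb 3).trans (Function.Embedding.refl _))).upd 0 3 2 (le_of_eq hx04)).upd 2 3 1 (le_of_eq hx24)).upd 3 0 1 (le_of_eq hx40)).upd 3 2 3 (le_of_eq hx42)) ![1,0,1,2] (by decide) (by decide) 0 (by decide))
      · -- 24=(3,1)
        exact False.elim (cert_false T ((skipEmb 3).trans (Function.Embedding.refl _)) (by norm_num) (fun _ => hall _) (((((LB_zero T ((skipEmb 3).trans (Function.Embedding.refl _))).upd 0 3 2 (le_of_eq hx04)).upd 2 3 3 (le_of_eq hx24)).upd 3 0 1 (le_of_eq hx40)).upd 3 2 1 (le_of_eq hx42)) ![1,0,1,1] (by decide) (by decide) 0 (by decide))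
    · -- 14=(1,1)
      rcases d24 with ⟨rfl, rfl⟩ | ⟨rfl, rfl⟩ | ⟨rfl, rfl⟩ | ⟨rfl, rfl⟩ | ⟨rfl, rfl⟩ | ⟨rfl, rfl⟩
      · -- 24=(0,0)
        rcases d34 with ⟨rfl, rfl⟩ | ⟨rfl, rfl⟩ | ⟨rfl, rfl⟩ | ⟨rfl, rfl⟩ | ⟨rfl, rfl⟩ | ⟨rfl, rfl⟩
        · -- 34=(0,0)
          exfalso; omega
        · -- 34=(1,1)
          exact False.elim (cert_false T ((skipEmb 2).trans (Function.Embedding.refl _)) (by norm_num) (fun _ => hall _) (((((((LB_zero T ((skipEmb 2).trans (Function.Embedding.refl _))).upd 0 3 2 (le_of_eq hx04)).upd 1 3 1 (le_of_eq hx14)).upd 2 3 1 (le_of_eq hx34)).upd 3 0 1 (le_of_eq hx40)).upd 3 1 1 (le_of_eq hx41)).upd 3 2 1 (le_of_eq hx43)) ![2,1,1,2] (by decide) (by decide) 0 (by decide))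
        · -- 34=(1,2)
          exact False.elim (cert_false T ((skipEmb 2).trans (Function.Embedding.refl _)) (by norm_num) (fun _ => hall _) (((((((LB_zero T ((skipEmb 2).trans (Function.Embedding.refl _))).upd 0 3 2 (le_of_eq hx04)).upd 1 3 1 (le_of_eq hx14)).upd 2 3 1 (le_of_eq hx34)).upd 3 0 1 (le_of_eq hx40)).upd 3 1 1 (le_of_eq hx41)).upd 3 2 2 (le_of_eq hx43)) ![1,1,1,2] (by decide) (by decide) 0 (by decide))
        · -- 34=(2,1)
          exact False.elim (cert_false T ((skipEmb 2).trans (Function.Embedding.refl _)) (by norm_num) (fun _ => hall _) (((((LB_zero T ((skipEmb 2).trans (Function.Embedding.refl _))).upd 0 3 2 (le_of_eq hx04)).upd 2 3 2 (le_of_eq hx34)).upd 3 0 1 (le_of_eq hx40)).upd 3 2 1 (le_of_eq hx43)) ![1,0,1,1] (by decide) (by decide) 0 (by decide))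
        · -- 34=(1,3)
          exact False.elim (cert_false T ((skipEmb 2).trans (Function.Embedding.refl _)) (by norm_num) (fun _ => hall _) (((((LB_zero T ((skipEmb 2).trans (Function.Embedding.refl _))).upd 1 3 1 (le_of_eq hx14)).upd 2 3 1 (le_of_eq hx34)).upd 3 1 1 (le_of_eq hx41)).upd 3 2 3 (le_of_eq hx43)) ![0,1,1,2] (by decide) (by decide) 1 (by decide))
        · -- 34=(3,1)
          exact False.elim (cert_false T ((skipEmb 2).trans (Function.Embedding.refl _)) (by norm_num) (fun _ => hall _) (((((LB_zero T ((skipEmb 2).trans (Function.Embedding.refl _))).upd 0 3 2 (le_of_eq hx04)).upd 2 3 3 (le_of_eq hx34)).upd 3 0 1 (le_of_eq hx40)).upd 3 2 1 (le_of_eq hx43)) ![1,0,1,1] (by decide) (by decide) 0 (by decide))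
      · -- 24=(1,1)
        exact False.elim (cert_false T ((skipEmb 3).trans (Function.Embedding.refl _)) (by norm_num) (fun _ => hall _) (((((((LB_zero T ((skipEmb 3).trans (Function.Embedding.refl _))).upd 0 3 2 (le_of_eq hx04)).upd 1 3 1 (le_of_eq hx14)).upd 2 3 1 (le_of_eq hx24)).upd 3 0 1 (le_of_eq hx40)).upd 3 1 1 (le_of_eq hx41)).upd 3 2 1 (le_of_eq hx42)) ![2,1,1,2] (by decide) (by decide) 0 (by decide))
      · -- 24=(1,2)
        exact False.elim (cert_false T ((skipEmb 3).trans (Function.Embedding.refl _)) (by norm_num) (fun _ => hall _) (((((((LB_zero T ((skipEmb 3).trans (Function.Embedding.refl _))).upd 0 3 2 (le_of_eq hx04)).upd 1 3 1 (le_of_eq hx14)).upd 2 3 1 (le_of_eq hx24)).upd 3 0 1 (le_of_eq hx40)).upd 3 1 1 (le_of_eq hx41)).upd 3 2 2 (le_of_eq hx42)) ![1,1,1,2] (by decide) (by decide) 0 (by decide))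
      · -- 24=(2,1)
        exact False.elim (cert_false T ((skipEmb 3).trans (Function.Embedding.refl _)) (by norm_num) (fun _ => hall _) (((((LB_zero T ((skipEmb 3).trans (Function.Embedding.refl _))).upd 0 3 2 (le_of_eq hx04)).upd 2 3 2 (le_of_eq hx24)).upd 3 0 1 (le_of_eq hx40)).upd 3 2 1 (le_of_eq hx42)) ![1,0,1,1] (by decide) (by decide) 0 (by decide))
      · -- 24=(1,3)
        exact False.elim (cert_false T ((skipEmb 3).trans (Function.Embedding.refl _)) (by norm_num) (fun _ => hall _) (((((LB_zero T ((skipEmb 3).trans (Function.Embedding.refl _))).upd 1 3 1 (le_of_eq hx14)).upd 2 3 1 (le_of_eq hx24)).upd 3 1 1 (le_of_eq hx41)).upd 3 2 3 (le_of_eq hx42)) ![0,1,1,2] (by decide) (by decide) 1 (by decide))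
      · -- 24=(3,1)
        exact False.elim (cert_false T ((skipEmb 3).trans (Function.Embedding.refl _)) (by norm_num) (fun _ => hall _) (((((LB_zero T ((skipEmb 3).trans (Function.Embedding.refl _))).upd 0 3 2 (le_of_eq hx04)).upd 2 3 3 (le_of_eq hx24)).upd 3 0 1 (le_of_eq hx40)).upd 3 2 1 (le_of_eq hx42)) ![1,0,1,1] (by decide) (by decide) 0 (by decide))
    · -- 14=(1,2)
      exact False.elim (cert_false T ((skipEmb 3).trans (Function.Embedding.refl _)) (by norm_num) (fun _ => hall _) (((((LB_zero T ((skipEmb 3).trans (Function.Embedding.refl _))).upd 0 3 2 (le_of_eq hx04)).upd 1 3 1 (le_of_eq hx14)).upd 3 0 1 (le_of_eq hx40)).upd 3 1 2 (le_of_eq hx41)) ![2,1,0,2] (by decide) (by decide) 0 (by decide))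
    · -- 14=(2,1)
      exact False.elim (cert_false T ((skipEmb 3).trans (Function.Embedding.refl _)) (by norm_num) (fun _ => hall _) (((((LB_zero T ((skipEmb 3).trans (Function.Embedding.refl _))).upd 0 3 2 (le_of_eq hx04)).upd 1 3 2 (le_of_eq hx14)).upd 3 0 1 (le_of_eq hx40)).upd 3 1 1 (le_of_eq hx41)) ![1,1,0,1] (by decide) (by decide) 0 (by decide))
    · -- 14=(1,3)
      exact False.elim (cert_false T ((skipEmb 3).trans (Function.Embedding.refl _)) (by norm_num) (fun _ => hall _) (((((LB_zero T ((skipEmb 3).trans (Function.Embedding.refl _))).upd 0 3 2 (le_of_eq hx04)).upd 1 3 1 (le_of_eq hx14)).upd 3 0 1 (le_of_eq hx40)).upd 3 1 3 (le_of_eq hx41)) ![1,1,0,2] (by decide) (by decide) 0 (by decide))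
    · -- 14=(3,1)
      exact False.elim (cert_false T ((skipEmb 3).trans (Function.Embedding.refl _)) (by norm_num) (fun _ => hall _) (((((LB_zero T ((skipEmb 3).trans (Function.Embedding.refl _))).upd 0 3 2 (le_of_eq hx04)).upd 1 3 3 (le_of_eq hx14)).upd 3 0 1 (le_of_eq hx40)).upd 3 1 1 (le_of_eq hx41)) ![1,1,0,1] (by decide) (by decide) 0 (by decide))
  · -- 04=(1,3)
    rcases d14 with ⟨rfl, rfl⟩ | ⟨rfl, rfl⟩ | ⟨rfl, rfl⟩ | ⟨rfl, rfl⟩ | ⟨rfl, rfl⟩ | ⟨rfl, rfl⟩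
    · -- 14=(0,0)
      rcases d24 with ⟨rfl, rfl⟩ | ⟨rfl, rfl⟩ | ⟨rfl, rfl⟩ | ⟨rfl, rfl⟩ | ⟨rfl, rfl⟩ | ⟨rfl, rfl⟩
      · -- 24=(0,0)
        rcases d34 with ⟨rfl, rfl⟩ | ⟨rfl, rfl⟩ | ⟨rfl, rfl⟩ | ⟨rfl, rfl⟩ | ⟨rfl, rfl⟩ | ⟨rfl, rfl⟩
        · -- 34=(0,0)
          exfalso; omega
        · -- 34=(1,1)
          exact False.elim (cert_false T ((skipEmb 2).trans (Function.Embedding.refl _)) (by norm_num) (fun _ => hall _) (((((LB_zero T ((skipEmb 2).trans (Function.Embedding.refl _))).upd 0 3 1 (le_of_eq hx04)).upd 2 3 1 (le_of_eq hx34)).upd 3 0 3 (le_of_eq hx40)).upd 3 2 1 (le_of_eq hx43)) ![1,0,1,2] (by decide) (by decide) 0 (by decide))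
        · -- 34=(1,2)
          exact False.elim (cert_false T ((skipEmb 2).trans (Function.Embedding.refl _)) (by norm_num) (fun _ => hall _) (((((LB_zero T ((skipEmb 2).trans (Function.Embedding.refl _))).upd 0 3 1 (le_of_eq hx04)).upd 2 3 1 (le_of_eq hx34)).upd 3 0 3 (le_of_eq hx40)).upd 3 2 2 (le_of_eq hx43)) ![1,0,1,2] (by decide) (by decide) 0 (by decide))
        · -- 34=(2,1)
          exact False.elim (cert_false T ((skipEmb 2).trans (Function.Embedding.refl _)) (by norm_num) (fun _ => hall _) (((((LB_zero T ((skipEmb 2).trans (Function.Embedding.refl _))).upd 0 3 1 (le_of_eq hx04)).upd 2 3 2 (le_of_eq hx34)).upd 3 0 3 (le_of_eq hx40)).upd 3 2 1 (le_of_eq hx43)) ![1,0,1,2] (by decide) (by decide) 0 (by decide))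
        · -- 34=(1,3)
          exact False.elim (cert_false T ((skipEmb 2).trans (Function.Embedding.refl _)) (by norm_num) (fun _ => hall _) (((((LB_zero T ((skipEmb 2).trans (Function.Embedding.refl _))).upd 0 3 1 (le_of_eq hx04)).upd 2 3 1 (le_of_eq hx34)).upd 3 0 3 (le_of_eq hx40)).upd 3 2 3 (le_of_eq hx43)) ![1,0,1,2] (by decide) (by decide) 0 (by decide))
        · -- 34=(3,1)
          exact False.elim (cert_false T ((skipEmb 2).trans (Function.Embedding.refl _)) (by norm_num) (fun _ => hall _) (((((LB_zero T ((skipEmb 2).trans (Function.Embedding.refl _))).upd 0 3 1 (le_of_eq hx04)).upd 2 3 3 (le_of_eq hx34)).upd 3 0 3 (le_of_eq hx40)).upd 3 2 1 (le_of_eq hx43)) ![1,0,1,2] (by decide) (by decide) 0 (by decide))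
      · -- 24=(1,1)
        exact False.elim (cert_false T ((skipEmb 3).trans (Function.Embedding.refl _)) (by norm_num) (fun _ => hall _) (((((LB_zero T ((skipEmb 3).trans (Function.Embedding.refl _))).upd 0 3 1 (le_of_eq hx04)).upd 2 3 1 (le_of_eq hx24)).upd 3 0 3 (le_of_eq hx40)).upd 3 2 1 (le_of_eq hx42)) ![1,0,1,2] (by decide) (by decide) 0 (by decide))
      · -- 24=(1,2)
        exact False.elim (cert_false T ((skipEmb 3).trans (Function.Embedding.refl _)) (by norm_num) (fun _ => hall _) (((((LB_zero T ((skipEmb 3).trans (Function.Embedding.refl _))).upd 0 3 1 (le_of_eq hx04)).upd 2 3 1 (le_of_eq hx24)).upd 3 0 3 (le_of_eq hx40)).upd 3 2 2 (le_of_eq hx42)) ![1,0,1,2] (by decide) (by decide) 0 (by decide))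
      · -- 24=(2,1)
        exact False.elim (cert_false T ((skipEmb 3).trans (Function.Embedding.refl _)) (by norm_num) (fun _ => hall _) (((((LB_zero T ((skipEmb 3).trans (Function.Embedding.refl _))).upd 0 3 1 (le_of_eq hx04)).upd 2 3 2 (le_of_eq hx24)).upd 3 0 3 (le_of_eq hx40)).upd 3 2 1 (le_of_eq hx42)) ![1,0,1,2] (by decide) (by decide) 0 (by decide))
      · -- 24=(1,3)
        exact False.elim (cert_false T ((skipEmb 3).trans (Function.Embedding.refl _)) (by norm_num) (fun _ => hall _) (((((LB_zero T ((skipEmb 3).trans (Function.Embedding.refl _))).upd 0 3 1 (le_of_eq hx04)).upd 2 3 1 (le_of_eq hx24)).upd 3 0 3 (le_of_eq hx40)).upd 3 2 3 (le_of_eq hx42)) ![1,0,1,2] (by decide) (by decide) 0 (by decide))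
      · -- 24=(3,1)
        exact False.elim (cert_false T ((skipEmb 3).trans (Function.Embedding.refl _)) (by norm_num) (fun _ => hall _) (((((LB_zero T ((skipEmb 3).trans (Function.Embedding.refl _))).upd 0 3 1 (le_of_eq hx04)).upd 2 3 3 (le_of_eq hx24)).upd 3 0 3 (le_of_eq hx40)).upd 3 2 1 (le_of_eq hx42)) ![1,0,1,2] (by decide) (by decide) 0 (by decide))
    · -- 14=(1,1)
      exact False.elim (cert_false T ((skipEmb 3).trans (Function.Embedding.refl _)) (by norm_num) (fun _ => hall _) (((((LB_zero T ((skipEmb 3).trans (Function.Embedding.refl _))).upd 0 3 1 (le_of_eq hx04)).upd 1 3 1 (le_of_eq hx14)).upd 3 0 3 (le_of_eq hx40)).upd 3 1 1 (le_of_eq hx41)) ![1,1,0,2] (by decide) (by decide) 0 (by decide))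
    · -- 14=(1,2)
      exact False.elim (cert_false T ((skipEmb 3).trans (Function.Embedding.refl _)) (by norm_num) (fun _ => hall _) (((((LB_zero T ((skipEmb 3).trans (Function.Embedding.refl _))).upd 0 3 1 (le_of_eq hx04)).upd 1 3 1 (le_of_eq hx14)).upd 3 0 3 (le_of_eq hx40)).upd 3 1 2 (le_of_eq hx41)) ![1,1,0,2] (by decide) (by decide) 0 (by decide))
    · -- 14=(2,1)
      exact False.elim (cert_false T ((skipEmb 3).trans (Function.Embedding.refl _)) (by norm_num) (fun _ => hall _) (((((LB_zero T ((skipEmb 3).trans (Function.Embedding.refl _))).upd 0 3 1 (le_of_eq hx04)).upd 1 3 2 (le_of_eq hx14)).upd 3 0 3 (le_of_eq hx40)).upd 3 1 1 (le_of_eq hx41)) ![1,1,0,2] (by decide) (by decide) 0 (by decide))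
    · -- 14=(1,3)
      exact False.elim (cert_false T ((skipEmb 3).trans (Function.Embedding.refl _)) (by norm_num) (fun _ => hall _) (((((LB_zero T ((skipEmb 3).trans (Function.Embedding.refl _))).upd 0 3 1 (le_of_eq hx04)).upd 1 3 1 (le_of_eq hx14)).upd 3 0 3 (le_of_eq hx40)).upd 3 1 3 (le_of_eq hx41)) ![1,1,0,2] (by decide) (by decide) 0 (by decide))
    · -- 14=(3,1)
      exact False.elim (cert_false T ((skipEmb 3).trans (Function.Embedding.refl _)) (by norm_num) (fun _ => hall _) (((((LB_zero T ((skipEmb 3).trans (Function.Embedding.refl _))).upd 0 3 1 (le_of_eq hx04)).upd 1 3 3 (le_of_eq hx14)).upd 3 0 3 (le_of_eq hx40)).upd 3 1 1 (le_of_eq hx41)) ![1,1,0,2] (by decide) (by decide) 0 (by decide))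
  · -- 04=(3,1)
    rcases d14 with ⟨rfl, rfl⟩ | ⟨rfl, rfl⟩ | ⟨rfl, rfl⟩ | ⟨rfl, rfl⟩ | ⟨rfl, rfl⟩ | ⟨rfl, rfl⟩
    · -- 14=(0,0)
      rcases d24 with ⟨rfl, rfl⟩ | ⟨rfl, rfl⟩ | ⟨rfl, rfl⟩ | ⟨rfl, rfl⟩ | ⟨rfl, rfl⟩ | ⟨rfl, rfl⟩
      · -- 24=(0,0)
        rcases d34 with ⟨rfl, rfl⟩ | ⟨rfl, rfl⟩ | ⟨rfl, rfl⟩ | ⟨rfl, rfl⟩ | ⟨rfl, rfl⟩ | ⟨rfl, rfl⟩
        · -- 34=(0,0)
          exfalso; omega
        · -- 34=(1,1)
          exact False.elim (cert_false T ((skipEmb 2).trans (Function.Embedding.refl _)) (by norm_num) (fun _ => hall _) (((((LB_zero T ((skipEmb 2).trans (Function.Embedding.refl _))).upd 0 3 3 (le_of_eq hx04)).upd 2 3 1 (le_of_eq hx34)).upd 3 0 1 (le_of_eq hx40)).upd 3 2 1 (le_of_eq hx43)) ![3,0,1,2] (by decide) (by decide) 0 (by decide))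
        · -- 34=(1,2)
          exact False.elim (cert_false T ((skipEmb 2).trans (Function.Embedding.refl _)) (by norm_num) (fun _ => hall _) (((((LB_zero T ((skipEmb 2).trans (Function.Embedding.refl _))).upd 0 3 3 (le_of_eq hx04)).upd 2 3 1 (le_of_eq hx34)).upd 3 0 1 (le_of_eq hx40)).upd 3 2 2 (le_of_eq hx43)) ![2,0,1,2] (by decide) (by decide) 0 (by decide))
        · -- 34=(2,1)
          exact False.elim (cert_false T ((skipEmb 2).trans (Function.Embedding.refl _)) (by norm_num) (fun _ => hall _) (((((LB_zero T ((skipEmb 2).trans (Function.Embedding.refl _))).upd 0 3 3 (le_of_eq hx04)).upd 2 3 2 (le_of_eq hx34)).upd 3 0 1 (le_of_eq hx40)).upd 3 2 1 (le_of_eq hx43)) ![1,0,1,1] (by decide) (by decide) 0 (by decide))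
        · -- 34=(1,3)
          exact False.elim (cert_false T ((skipEmb 2).trans (Function.Embedding.refl _)) (by norm_num) (fun _ => hall _) (((((LB_zero T ((skipEmb 2).trans (Function.Embedding.refl _))).upd 0 3 3 (le_of_eq hx04)).upd 2 3 1 (le_of_eq hx34)).upd 3 0 1 (le_of_eq hx40)).upd 3 2 3 (le_of_eq hx43)) ![1,0,1,2] (by decide) (by decide) 0 (by decide))
        · -- 34=(3,1)
          exact False.elim (cert_false T ((skipEmb 2).trans (Function.Embedding.refl _)) (by norm_num) (fun _ => hall _) (((((LB_zero T ((skipEmb 2).trans (Function.Embedding.refl _))).upd 0 3 3 (le_of_eq hx04)).upd 2 3 3 (le_of_eq hx34)).upd 3 0 1 (le_of_eq hx40)).upd 3 2 1 (le_of_eq hx43)) ![1,0,1,1] (by decide) (by decide) 0 (by decide))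
      · -- 24=(1,1)
        exact False.elim (cert_false T ((skipEmb 3).trans (Function.Embedding.refl _)) (by norm_num) (fun _ => hall _) (((((LB_zero T ((skipEmb 3).trans (Function.Embedding.refl _))).upd 0 3 3 (le_of_eq hx04)).upd 2 3 1 (le_of_eq hx24)).upd 3 0 1 (le_of_eq hx40)).upd 3 2 1 (le_of_eq hx42)) ![3,0,1,2] (by decide) (by decide) 0 (by decide))
      · -- 24=(1,2)
        exact False.elim (cert_false T ((skipEmb 3).trans (Function.Embedding.refl _)) (by norm_num) (fun _ => hall _) (((((LB_zero T ((skipEmb 3).trans (Function.Embedding.refl _))).upd 0 3 3 (le_of_eq hx04)).upd 2 3 1 (le_of_eq hx24)).upd 3 0 1 (le_of_eq hx40)).upd 3 2 2 (le_of_eq hx42)) ![2,0,1,2] (by decide) (by decide) 0 (by decide))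
      · -- 24=(2,1)
        exact False.elim (cert_false T ((skipEmb 3).trans (Function.Embedding.refl _)) (by norm_num) (fun _ => hall _) (((((LB_zero T ((skipEmb 3).trans (Function.Embedding.refl _))).upd 0 3 3 (le_of_eq hx04)).upd 2 3 2 (le_of_eq hx24)).upd 3 0 1 (le_of_eq hx40)).upd 3 2 1 (le_of_eq hx42)) ![1,0,1,1] (by decide) (by decide) 0 (by decide))
      · -- 24=(1,3)
        exact False.elim (cert_false T ((skipEmb 3).trans (Function.Embedding.refl _)) (by norm_num) (fun _ => hall _) (((((LB_zero T ((skipEmb 3).trans (Function.Embedding.refl _))).upd 0 3 3 (le_of_eq hx04)).upd 2 3 1 (le_of_eq hx24)).upd 3 0 1 (le_of_eq hx40)).upd 3 2 3 (le_of_eq hx42)) ![1,0,1,2] (by decide) (by decide) 0 (by decide))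
      · -- 24=(3,1)
        exact False.elim (cert_false T ((skipEmb 3).trans (Function.Embedding.refl _)) (by norm_num) (fun _ => hall _) (((((LB_zero T ((skipEmb 3).trans (Function.Embedding.refl _))).upd 0 3 3 (le_of_eq hx04)).upd 2 3 3 (le_of_eq hx24)).upd 3 0 1 (le_of_eq hx40)).upd 3 2 1 (le_of_eq hx42)) ![1,0,1,1] (by decide) (by decide) 0 (by decide))
    · -- 14=(1,1)
      exact False.elim (cert_false T ((skipEmb 3).trans (Function.Embedding.refl _)) (by norm_num) (fun _ => hall _) (((((LB_zero T ((skipEmb 3).trans (Function.Embedding.refl _))).upd 0 3 3 (le_of_eq hx04)).upd 1 3 1 (le_of_eq hx14)).upd 3 0 1 (le_of_eq hx40)).upd 3 1 1 (le_of_eq hx41)) ![3,1,0,2] (by decide) (by decide) 0 (by decide))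
    · -- 14=(1,2)
      exact False.elim (cert_false T ((skipEmb 3).trans (Function.Embedding.refl _)) (by norm_num) (fun _ => hall _) (((((LB_zero T ((skipEmb 3).trans (Function.Embedding.refl _))).upd 0 3 3 (le_of_eq hx04)).upd 1 3 1 (le_of_eq hx14)).upd 3 0 1 (le_of_eq hx40)).upd 3 1 2 (le_of_eq hx41)) ![2,1,0,2] (by decide) (by decide) 0 (by decide))
    · -- 14=(2,1)
      exact False.elim (cert_false T ((skipEmb 3).trans (Function.Embedding.refl _)) (by norm_num) (fun _ => hall _) (((((LB_zero T ((skipEmb 3).trans (Function.Embedding.refl _))).upd 0 3 3 (le_of_eq hx04)).upd 1 3 2 (le_of_eq hx14)).upd 3 0 1 (le_of_eq hx40)).upd 3 1 1 (le_of_eq hx41)) ![1,1,0,1] (by decide) (by decide) 0 (by decide))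
    · -- 14=(1,3)
      exact False.elim (cert_false T ((skipEmb 3).trans (Function.Embedding.refl _)) (by norm_num) (fun _ => hall _) (((((LB_zero T ((skipEmb 3).trans (Function.Embedding.refl _))).upd 0 3 3 (le_of_eq hx04)).upd 1 3 1 (le_of_eq hx14)).upd 3 0 1 (le_of_eq hx40)).upd 3 1 3 (le_of_eq hx41)) ![1,1,0,2] (by decide) (by decide) 0 (by decide))
    · -- 14=(3,1)
      exact False.elim (cert_false T ((skipEmb 3).trans (Function.Embedding.refl _)) (by norm_num) (fun _ => hall _) (((((LB_zero T ((skipEmb 3).trans (Function.Embedding.refl _))).upd 0 3 3 (le_of_eq hx04)).upd 1 3 3 (le_of_eq hx14)).upd 3 0 1 (le_of_eq hx40)).upd 3 1 1 (le_of_eq hx41)) ![1,1,0,1] (by decide) (by decide) 0 (by decide))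

theorem case12 (T : NumericalType 5) (hall : ∀ i, T.IsMinusTwo i) (d : SData T)
    (h01 : N T (Function.Embedding.refl _) 0 1 = 0) (h10 : N T (Function.Embedding.refl _) 1 0 = 0)
    (h02 : N T (Function.Embedding.refl _) 0 2 = 0) (h20 : N T (Function.Embedding.refl _) 2 0 = 0)
    (h12 : N T (Function.Embedding.refl _) 1 2 = 0) (h21 : N T (Function.Embedding.refl _) 2 1 = 0)
    (h03 : N T (Function.Embedding.refl _) 0 3 = 0) (h30 : N T (Function.Embedding.refl _) 3 0 = 0)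
    (h13 : N T (Function.Embedding.refl _) 1 3 = 0) (h31 : N T (Function.Embedding.refl _) 3 1 = 0)
    (h23 : N T (Function.Embedding.refl _) 2 3 = 1) (h32 : N T (Function.Embedding.refl _) 3 2 = 2)
    (h04 : N T (Function.Embedding.refl _) 0 4 = 0) (h40 : N T (Function.Embedding.refl _) 4 0 = 0) :
    Goal T := by
  unfold Goal
  have hd := d
  obtain ⟨x01, x02, x03, x04, x10, x12, x13, x14, x20, x21, x23, x24, x30, x31, x32, x34, x40, x41, x42, x43, hx01, hx02, hx03, hx04, hx10, hx12, hx13, hx14, hx20, hx21, hx23, hx24, hx30, hx31, hx32, hx34, hx40, hx41, hx42, hx43, hw0, hm0, hw1, hm1, hw2, hm2, hw3, hm3, hw4, hm4, a00, a01, a02, a03, a04, a11, a10, a12, a13, a14, a22, a20, a21, a23, a24, a33, a30, a31, a32, a34, a44, a40, a41, a42, a43, wN01, wN02, wN12, wN03, wN13, wN23, wN04, wN14, wN24, wN34, e0, e1, e2, e3, e4, d01, d02, d12, d03, d13, d23, d04, d14, d24, d34⟩ := d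
  obtain rfl : x01 = 0 := hx01.trans h01
  obtain rfl : x10 = 0 := hx10.trans h10
  obtain rfl : x02 = 0 := hx02.trans h02
  obtain rfl : x20 = 0 := hx20.trans h20
  obtain rfl : x12 = 0 := hx12.trans h12
  obtain rfl : x21 = 0 := hx21.trans h21
  obtain rfl : x03 = 0 := hx03.trans h03
  obtain rfl : x30 = 0 := hx30.trans h30
  obtain rfl : x13 = 0 := hx13.trans h13
  obtain rfl : x31 = 0 := hx31.trans h31
  obtain rfl : x23 = 1 := hx23.trans h23
  obtain rfl : x32 = 2 := hx32.trans h32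
  obtain rfl : x04 = 0 := hx04.trans h04
  obtain rfl : x40 = 0 := hx40.trans h40
  rcases d14 with ⟨rfl, rfl⟩ | ⟨rfl, rfl⟩ | ⟨rfl, rfl⟩ | ⟨rfl, rfl⟩ | ⟨rfl, rfl⟩ | ⟨rfl, rfl⟩
  · -- 14=(0,0)
    rcases d24 with ⟨rfl, rfl⟩ | ⟨rfl, rfl⟩ | ⟨rfl, rfl⟩ | ⟨rfl, rfl⟩ | ⟨rfl, rfl⟩ | ⟨rfl, rfl⟩
    · -- 24=(0,0)
      rcases d34 with ⟨rfl, rfl⟩ | ⟨rfl, rfl⟩ | ⟨rfl, rfl⟩ | ⟨rfl, rfl⟩ | ⟨rfl, rfl⟩ | ⟨rfl, rfl⟩
      · -- 34=(0,0)
        exfalso; omega
      · -- 34=(1,1)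
        exfalso; omega
      · -- 34=(1,2)
        exact False.elim (cert_false T ((skipEmb 1).trans (Function.Embedding.refl _)) (by norm_num) (fun _ => hall _) (((((LB_zero T ((skipEmb 1).trans (Function.Embedding.refl _))).upd 1 2 1 (le_of_eq hx23)).upd 2 1 2 (le_of_eq hx32)).upd 2 3 1 (le_of_eq hx34)).upd 3 2 2 (le_of_eq hx43)) ![0,1,2,2] (by decide) (by decide) 1 (by decide))
      · -- 34=(2,1)
        exact False.elim (cert_false T ((skipEmb 1).trans (Function.Embedding.refl _)) (by norm_num) (fun _ => hall _) (((((LB_zero T ((skipEmb 1).trans (Function.Embedding.refl _))).upd 1 2 1 (le_of_eq hx23)).upd 2 1 2 (le_of_eq hx32)).upd 2 3 2 (le_of_eq hx34)).upd 3 2 1 (le_of_eq hx43)) ![0,1,2,1] (by decide) (by decide) 1 (by decide))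
      · -- 34=(1,3)
        exact False.elim (cert_false T ((skipEmb 1).trans (Function.Embedding.refl _)) (by norm_num) (fun _ => hall _) (((((LB_zero T ((skipEmb 1).trans (Function.Embedding.refl _))).upd 1 2 1 (le_of_eq hx23)).upd 2 1 2 (le_of_eq hx32)).upd 2 3 1 (le_of_eq hx34)).upd 3 2 3 (le_of_eq hx43)) ![0,1,2,2] (by decide) (by decide) 1 (by decide))
      · -- 34=(3,1)
        exact False.elim (cert_false T ((skipEmb 1).trans (Function.Embedding.refl _)) (by norm_num) (fun _ => hall _) (((((LB_zero T ((skipEmb 1).trans (Function.Embedding.refl _))).upd 1 2 1 (le_of_eq hx23)).upd 2 1 2 (le_of_eq hx32)).upd 2 3 3 (le_of_eq hx34)).upd 3 2 1 (le_of_eq hx43)) ![0,1,2,1] (by decide) (by decide) 1 (by decide))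
    · -- 24=(1,1)
      rcases d34 with ⟨rfl, rfl⟩ | ⟨rfl, rfl⟩ | ⟨rfl, rfl⟩ | ⟨rfl, rfl⟩ | ⟨rfl, rfl⟩ | ⟨rfl, rfl⟩
      · -- 34=(0,0)
        exfalso; omega
      · -- 34=(1,1)
        exact False.elim (cert_false T ((skipEmb 1).trans (Function.Embedding.refl _)) (by norm_num) (fun _ => hall _) (((((((LB_zero T ((skipEmb 1).trans (Function.Embedding.refl _))).upd 1 2 1 (le_of_eq hx23)).upd 1 3 1 (le_of_eq hx24)).upd 2 1 2 (le_of_eq hx32)).upd 2 3 1 (le_of_eq hx34)).upd 3 1 1 (le_of_eq hx42)).upd 3 2 1 (le_of_eq hx43)) ![0,1,1,1] (by decide) (by decide) 1 (by decide))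
      · -- 34=(1,2)
        exact False.elim (cert_false T ((skipEmb 1).trans (Function.Embedding.refl _)) (by norm_num) (fun _ => hall _) (((((((LB_zero T ((skipEmb 1).trans (Function.Embedding.refl _))).upd 1 2 1 (le_of_eq hx23)).upd 1 3 1 (le_of_eq hx24)).upd 2 1 2 (le_of_eq hx32)).upd 2 3 1 (le_of_eq hx34)).upd 3 1 1 (le_of_eq hx42)).upd 3 2 2 (le_of_eq hx43)) ![0,1,1,1] (by decide) (by decide) 1 (by decide))
      · -- 34=(2,1)
        exact False.elim (cert_false T ((skipEmb 1).trans (Function.Embedding.refl _)) (by norm_num) (fun _ => hall _) (((((((LB_zero T ((skipEmb 1).trans (Function.Embedding.refl _))).upd 1 2 1 (le_of_eq hx23)).upd 1 3 1 (le_of_eq hx24)).upd 2 1 2 (le_of_eq hx32)).upd 2 3 2 (le_of_eq hx34)).upd 3 1 1 (le_of_eq hx42)).upd 3 2 1 (le_of_eq hx43)) ![0,1,1,1] (by decide) (by decide) 1 (by decide))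
      · -- 34=(1,3)
        exact False.elim (cert_false T ((skipEmb 1).trans (Function.Embedding.refl _)) (by norm_num) (fun _ => hall _) (((((((LB_zero T ((skipEmb 1).trans (Function.Embedding.refl _))).upd 1 2 1 (le_of_eq hx23)).upd 1 3 1 (le_of_eq hx24)).upd 2 1 2 (le_of_eq hx32)).upd 2 3 1 (le_of_eq hx34)).upd 3 1 1 (le_of_eq hx42)).upd 3 2 3 (le_of_eq hx43)) ![0,1,1,1] (by decide) (by decide) 1 (by decide))
      · -- 34=(3,1)
        exact False.elim (cert_false T ((skipEmb 1).trans (Function.Embedding.refl _)) (by norm_num) (fun _ => hall _) (((((((LB_zero T ((skipEmb 1).trans (Function.Embedding.refl _))).upd 1 2 1 (le_of_eq hx23)).upd 1 3 1 (le_of_eq hx24)).upd 2 1 2 (le_of_eq hx32)).upd 2 3 3 (le_of_eq hx34)).upd 3 1 1 (le_of_eq hx42)).upd 3 2 1 (le_of_eq hx43)) ![0,1,1,1] (by decide) (by decide) 1 (by decide))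
    · -- 24=(1,2)
      exact False.elim (cert_false T ((skipEmb 1).trans (Function.Embedding.refl _)) (by norm_num) (fun _ => hall _) (((((LB_zero T ((skipEmb 1).trans (Function.Embedding.refl _))).upd 1 2 1 (le_of_eq hx23)).upd 1 3 1 (le_of_eq hx24)).upd 2 1 2 (le_of_eq hx32)).upd 3 1 2 (le_of_eq hx42)) ![0,1,1,1] (by decide) (by decide) 1 (by decide))
    · -- 24=(2,1)
      exact False.elim (cert_false T ((skipEmb 1).trans (Function.Embedding.refl _)) (by norm_num) (fun _ => hall _) (((((LB_zero T ((skipEmb 1).trans (Function.Embedding.refl _))).upd 1 2 1 (le_of_eq hx23)).upd 1 3 2 (le_of_eq hx24)).upd 2 1 2 (le_of_eq hx32)).upd 3 1 1 (le_of_eq hx42)) ![0,2,2,1] (by decide) (by decide) 1 (by decide))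
    · -- 24=(1,3)
      exact False.elim (cert_false T ((skipEmb 1).trans (Function.Embedding.refl _)) (by norm_num) (fun _ => hall _) (((((LB_zero T ((skipEmb 1).trans (Function.Embedding.refl _))).upd 1 2 1 (le_of_eq hx23)).upd 1 3 1 (le_of_eq hx24)).upd 2 1 2 (le_of_eq hx32)).upd 3 1 3 (le_of_eq hx42)) ![0,1,1,1] (by decide) (by decide) 1 (by decide))
    · -- 24=(3,1)
      exact False.elim (cert_false T ((skipEmb 1).trans (Function.Embedding.refl _)) (by norm_num) (fun _ => hall _) (((((LB_zero T ((skipEmb 1).trans (Function.Embedding.refl _))).upd 1 2 1 (le_of_eq hx23)).upd 1 3 3 (le_of_eq hx24)).upd 2 1 2 (le_of_eq hx32)).upd 3 1 1 (le_of_eq hx42)) ![0,2,1,1] (by decide) (by decide) 1 (by decide))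
  · -- 14=(1,1)
    rcases d24 with ⟨rfl, rfl⟩ | ⟨rfl, rfl⟩ | ⟨rfl, rfl⟩ | ⟨rfl, rfl⟩ | ⟨rfl, rfl⟩ | ⟨rfl, rfl⟩
    · -- 24=(0,0)
      rcases d34 with ⟨rfl, rfl⟩ | ⟨rfl, rfl⟩ | ⟨rfl, rfl⟩ | ⟨rfl, rfl⟩ | ⟨rfl, rfl⟩ | ⟨rfl, rfl⟩
      · -- 34=(0,0)
        exfalso; omega
      · -- 34=(1,1)
        exfalso; omega
      · -- 34=(1,2)
        exact False.elim (cert_false T ((skipEmb 1).trans (Function.Embedding.refl _)) (by norm_num) (fun _ => hall _) (((((LB_zero T ((skipEmb 1).trans (Function.Embedding.refl _))).upd 1 2 1 (le_of_eq hx23)).upd 2 1 2 (le_of_eq hx32)).upd 2 3 1 (le_of_eq hx34)).upd 3 2 2 (le_of_eq hx43)) ![0,1,2,2] (by decide) (by decide) 1 (by decide))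
      · -- 34=(2,1)
        exact False.elim (cert_false T ((skipEmb 1).trans (Function.Embedding.refl _)) (by norm_num) (fun _ => hall _) (((((LB_zero T ((skipEmb 1).trans (Function.Embedding.refl _))).upd 1 2 1 (le_of_eq hx23)).upd 2 1 2 (le_of_eq hx32)).upd 2 3 2 (le_of_eq hx34)).upd 3 2 1 (le_of_eq hx43)) ![0,1,2,1] (by decide) (by decide) 1 (by decide))
      · -- 34=(1,3)
        exact False.elim (cert_false T ((skipEmb 2).trans (Function.Embedding.refl _)) (by norm_num) (fun _ => hall _) (((((LB_zero T ((skipEmb 2).trans (Function.Embedding.refl _))).upd 1 3 1 (le_of_eq hx14)).upd 2 3 1 (le_of_eq hx34)).upd 3 1 1 (le_of_eq hx41)).upd 3 2 3 (le_of_eq hx43)) ![0,1,1,2] (by decide) (by decide) 1 (by decide))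
      · -- 34=(3,1)
        exact False.elim (cert_false T ((skipEmb 2).trans (Function.Embedding.refl _)) (by norm_num) (fun _ => hall _) (((((LB_zero T ((skipEmb 2).trans (Function.Embedding.refl _))).upd 1 3 1 (le_of_eq hx14)).upd 2 3 3 (le_of_eq hx34)).upd 3 1 1 (le_of_eq hx41)).upd 3 2 1 (le_of_eq hx43)) ![0,1,3,2] (by decide) (by decide) 1 (by decide))
    · -- 24=(1,1)
      rcases d34 with ⟨rfl, rfl⟩ | ⟨rfl, rfl⟩ | ⟨rfl, rfl⟩ | ⟨rfl, rfl⟩ | ⟨rfl, rfl⟩ | ⟨rfl, rfl⟩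
      · -- 34=(0,0)
        exfalso; omega
      · -- 34=(1,1)
        exact False.elim (cert_false T ((skipEmb 1).trans (Function.Embedding.refl _)) (by norm_num) (fun _ => hall _) (((((((LB_zero T ((skipEmb 1).trans (Function.Embedding.refl _))).upd 1 2 1 (le_of_eq hx23)).upd 1 3 1 (le_of_eq hx24)).upd 2 1 2 (le_of_eq hx32)).upd 2 3 1 (le_of_eq hx34)).upd 3 1 1 (le_of_eq hx42)).upd 3 2 1 (le_of_eq hx43)) ![0,1,1,1] (by decide) (by decide) 1 (by decide))
      · -- 34=(1,2)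
        exact False.elim (cert_false T ((skipEmb 1).trans (Function.Embedding.refl _)) (by norm_num) (fun _ => hall _) (((((((LB_zero T ((skipEmb 1).trans (Function.Embedding.refl _))).upd 1 2 1 (le_of_eq hx23)).upd 1 3 1 (le_of_eq hx24)).upd 2 1 2 (le_of_eq hx32)).upd 2 3 1 (le_of_eq hx34)).upd 3 1 1 (le_of_eq hx42)).upd 3 2 2 (le_of_eq hx43)) ![0,1,1,1] (by decide) (by decide) 1 (by decide))
      · -- 34=(2,1)
        exact False.elim (cert_false T ((skipEmb 1).trans (Function.Embedding.refl _)) (by norm_num) (fun _ => hall _) (((((((LB_zero T ((skipEmb 1).trans (Function.Embedding.refl _))).upd 1 2 1 (le_of_eq hx23)).upd 1 3 1 (le_of_eq hx24)).upd 2 1 2 (le_of_eq hx32)).upd 2 3 2 (le_of_eq hx34)).upd 3 1 1 (le_of_eq hx42)).upd 3 2 1 (le_of_eq hx43)) ![0,1,1,1] (by decide) (by decide) 1 (by decide))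
      · -- 34=(1,3)
        exact False.elim (cert_false T ((skipEmb 2).trans (Function.Embedding.refl _)) (by norm_num) (fun _ => hall _) (((((LB_zero T ((skipEmb 2).trans (Function.Embedding.refl _))).upd 1 3 1 (le_of_eq hx14)).upd 2 3 1 (le_of_eq hx34)).upd 3 1 1 (le_of_eq hx41)).upd 3 2 3 (le_of_eq hx43)) ![0,1,1,2] (by decide) (by decide) 1 (by decide))
      · -- 34=(3,1)
        exact False.elim (cert_false T ((skipEmb 2).trans (Function.Embedding.refl _)) (by norm_num) (fun _ => hall _) (((((LB_zero T ((skipEmb 2).trans (Function.Embedding.refl _))).upd 1 3 1 (le_of_eq hx14)).upd 2 3 3 (le_of_eq hx34)).upd 3 1 1 (le_of_eq hx41)).upd 3 2 1 (le_of_eq hx43)) ![0,1,3,2] (by decide) (by decide) 1 (by decide))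
    · -- 24=(1,2)
      exact False.elim (cert_false T ((skipEmb 1).trans (Function.Embedding.refl _)) (by norm_num) (fun _ => hall _) (((((LB_zero T ((skipEmb 1).trans (Function.Embedding.refl _))).upd 1 2 1 (le_of_eq hx23)).upd 1 3 1 (le_of_eq hx24)).upd 2 1 2 (le_of_eq hx32)).upd 3 1 2 (le_of_eq hx42)) ![0,1,1,1] (by decide) (by decide) 1 (by decide))
    · -- 24=(2,1)
      exact False.elim (cert_false T ((skipEmb 1).trans (Function.Embedding.refl _)) (by norm_num) (fun _ => hall _) (((((LB_zero T ((skipEmb 1).trans (Function.Embedding.refl _))).upd 1 2 1 (le_of_eq hx23)).upd 1 3 2 (le_of_eq hx24)).upd 2 1 2 (le_of_eq hx32)).upd 3 1 1 (le_of_eq hx42)) ![0,2,2,1] (by decide) (by decide) 1 (by decide))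
    · -- 24=(1,3)
      exact False.elim (cert_false T ((skipEmb 3).trans (Function.Embedding.refl _)) (by norm_num) (fun _ => hall _) (((((LB_zero T ((skipEmb 3).trans (Function.Embedding.refl _))).upd 1 3 1 (le_of_eq hx14)).upd 2 3 1 (le_of_eq hx24)).upd 3 1 1 (le_of_eq hx41)).upd 3 2 3 (le_of_eq hx42)) ![0,1,1,2] (by decide) (by decide) 1 (by decide))
    · -- 24=(3,1)
      exact False.elim (cert_false T ((skipEmb 3).trans (Function.Embedding.refl _)) (by norm_num) (fun _ => hall _) (((((LB_zero T ((skipEmb 3).trans (Function.Embedding.refl _))).upd 1 3 1 (le_of_eq hx14)).upd 2 3 3 (le_of_eq hx24)).upd 3 1 1 (le_of_eq hx41)).upd 3 2 1 (le_of_eq hx42)) ![0,1,3,2] (by decide) (by decide) 1 (by decide))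
  · -- 14=(1,2)
    rcases d24 with ⟨rfl, rfl⟩ | ⟨rfl, rfl⟩ | ⟨rfl, rfl⟩ | ⟨rfl, rfl⟩ | ⟨rfl, rfl⟩ | ⟨rfl, rfl⟩
    · -- 24=(0,0)
      rcases d34 with ⟨rfl, rfl⟩ | ⟨rfl, rfl⟩ | ⟨rfl, rfl⟩ | ⟨rfl, rfl⟩ | ⟨rfl, rfl⟩ | ⟨rfl, rfl⟩
      · -- 34=(0,0)
        exfalso; omega
      · -- 34=(1,1)
        exact False.elim (cert_false T ((skipEmb 0).trans (Function.Embedding.refl _)) (by norm_num) (fun _ => hall _) (((((((LB_zero T ((skipEmb 0).trans (Function.Embedding.refl _))).upd 0 3 1 (le_of_eq hx14)).upd 1 2 1 (le_of_eq hx23)).upd 2 1 2 (le_of_eq hx32)).upd 2 3 1 (le_of_eq hx34)).upd 3 0 2 (le_of_eq hx41)).upd 3 2 1 (le_of_eq hx43)) ![1,1,2,2] (by decide) (by decide) 0 (by decide))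
      · -- 34=(1,2)
        exact False.elim (cert_false T ((skipEmb 2).trans (Function.Embedding.refl _)) (by norm_num) (fun _ => hall _) (((((LB_zero T ((skipEmb 2).trans (Function.Embedding.refl _))).upd 1 3 1 (le_of_eq hx14)).upd 2 3 1 (le_of_eq hx34)).upd 3 1 2 (le_of_eq hx41)).upd 3 2 2 (le_of_eq hx43)) ![0,1,1,2] (by decide) (by decide) 1 (by decide))
      · -- 34=(2,1)
        exact False.elim (cert_false T ((skipEmb 2).trans (Function.Embedding.refl _)) (by norm_num) (fun _ => hall _) (((((LB_zero T ((skipEmb 2).trans (Function.Embedding.refl _))).upd 1 3 1 (le_of_eq hx14)).upd 2 3 2 (le_of_eq hx34)).upd 3 1 2 (le_of_eq hx41)).upd 3 2 1 (le_of_eq hx43)) ![0,1,2,2] (by decide) (by decide) 1 (by decide))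
      · -- 34=(1,3)
        exact False.elim (cert_false T ((skipEmb 2).trans (Function.Embedding.refl _)) (by norm_num) (fun _ => hall _) (((((LB_zero T ((skipEmb 2).trans (Function.Embedding.refl _))).upd 1 3 1 (le_of_eq hx14)).upd 2 3 1 (le_of_eq hx34)).upd 3 1 2 (le_of_eq hx41)).upd 3 2 3 (le_of_eq hx43)) ![0,1,1,2] (by decide) (by decide) 1 (by decide))
      · -- 34=(3,1)
        exact False.elim (cert_false T ((skipEmb 2).trans (Function.Embedding.refl _)) (by norm_num) (fun _ => hall _) (((((LB_zero T ((skipEmb 2).trans (Function.Embedding.refl _))).upd 1 3 1 (le_of_eq hx14)).upd 2 3 3 (le_of_eq hx34)).upd 3 1 2 (le_of_eq hx41)).upd 3 2 1 (le_of_eq hx43)) ![0,1,2,2] (by decide) (by decide) 1 (by decide))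
    · -- 24=(1,1)
      exact False.elim (cert_false T ((skipEmb 0).trans (Function.Embedding.refl _)) (by norm_num) (fun _ => hall _) (((((((LB_zero T ((skipEmb 0).trans (Function.Embedding.refl _))).upd 0 3 1 (le_of_eq hx14)).upd 1 2 1 (le_of_eq hx23)).upd 1 3 1 (le_of_eq hx24)).upd 2 1 2 (le_of_eq hx32)).upd 3 0 2 (le_of_eq hx41)).upd 3 1 1 (le_of_eq hx42)) ![1,2,2,2] (by decide) (by decide) 0 (by decide))
    · -- 24=(1,2)
      exact False.elim (cert_false T ((skipEmb 3).trans (Function.Embedding.refl _)) (by norm_num) (fun _ => hall _) (((((LB_zero T ((skipEmb 3).trans (Function.Embedding.refl _))).upd 1 3 1 (le_of_eq hx14)).upd 2 3 1 (le_of_eq hx24)).upd 3 1 2 (le_of_eq hx41)).upd 3 2 2 (le_of_eq hx42)) ![0,1,1,2] (by decide) (by decide) 1 (by decide))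
    · -- 24=(2,1)
      exact False.elim (cert_false T ((skipEmb 3).trans (Function.Embedding.refl _)) (by norm_num) (fun _ => hall _) (((((LB_zero T ((skipEmb 3).trans (Function.Embedding.refl _))).upd 1 3 1 (le_of_eq hx14)).upd 2 3 2 (le_of_eq hx24)).upd 3 1 2 (le_of_eq hx41)).upd 3 2 1 (le_of_eq hx42)) ![0,1,2,2] (by decide) (by decide) 1 (by decide))
    · -- 24=(1,3)
      exact False.elim (cert_false T ((skipEmb 3).trans (Function.Embedding.refl _)) (by norm_num) (fun _ => hall _) (((((LB_zero T ((skipEmb 3).trans (Function.Embedding.refl _))).upd 1 3 1 (le_of_eq hx14)).upd 2 3 1 (le_of_eq hx24)).upd 3 1 2 (le_of_eq hx41)).upd 3 2 3 (le_of_eq hx42)) ![0,1,1,2] (by decide) (by decide) 1 (by decide))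
    · -- 24=(3,1)
      exact False.elim (cert_false T ((skipEmb 3).trans (Function.Embedding.refl _)) (by norm_num) (fun _ => hall _) (((((LB_zero T ((skipEmb 3).trans (Function.Embedding.refl _))).upd 1 3 1 (le_of_eq hx14)).upd 2 3 3 (le_of_eq hx24)).upd 3 1 2 (le_of_eq hx41)).upd 3 2 1 (le_of_eq hx42)) ![0,1,2,2] (by decide) (by decide) 1 (by decide))
  · -- 14=(2,1)
    rcases d24 with ⟨rfl, rfl⟩ | ⟨rfl, rfl⟩ | ⟨rfl, rfl⟩ | ⟨rfl, rfl⟩ | ⟨rfl, rfl⟩ | ⟨rfl, rfl⟩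
    · -- 24=(0,0)
      rcases d34 with ⟨rfl, rfl⟩ | ⟨rfl, rfl⟩ | ⟨rfl, rfl⟩ | ⟨rfl, rfl⟩ | ⟨rfl, rfl⟩ | ⟨rfl, rfl⟩
      · -- 34=(0,0)
        exfalso; omega
      · -- 34=(1,1)
        exact False.elim (cert_false T ((skipEmb 0).trans (Function.Embedding.refl _)) (by norm_num) (fun _ => hall _) (((((((LB_zero T ((skipEmb 0).trans (Function.Embedding.refl _))).upd 0 3 2 (le_of_eq hx14)).upd 1 2 1 (le_of_eq hx23)).upd 2 1 2 (le_of_eq hx32)).upd 2 3 1 (le_of_eq hx34)).upd 3 0 1 (le_of_eq hx41)).upd 3 2 1 (le_of_eq hx43)) ![2,1,2,2] (by decide) (by decide) 0 (by decide))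
      · -- 34=(1,2)
        exact False.elim (cert_false T ((skipEmb 2).trans (Function.Embedding.refl _)) (by norm_num) (fun _ => hall _) (((((LB_zero T ((skipEmb 2).trans (Function.Embedding.refl _))).upd 1 3 2 (le_of_eq hx14)).upd 2 3 1 (le_of_eq hx34)).upd 3 1 1 (le_of_eq hx41)).upd 3 2 2 (le_of_eq hx43)) ![0,2,1,2] (by decide) (by decide) 1 (by decide))
      · -- 34=(2,1)
        exact False.elim (cert_false T ((skipEmb 2).trans (Function.Embedding.refl _)) (by norm_num) (fun _ => hall _) (((((LB_zero T ((skipEmb 2).trans (Function.Embedding.refl _))).upd 1 3 2 (le_of_eq hx14)).upd 2 3 2 (le_of_eq hx34)).upd 3 1 1 (le_of_eq hx41)).upd 3 2 1 (le_of_eq hx43)) ![0,1,1,1] (by decide) (by decide) 1 (by decide))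
      · -- 34=(1,3)
        exact False.elim (cert_false T ((skipEmb 2).trans (Function.Embedding.refl _)) (by norm_num) (fun _ => hall _) (((((LB_zero T ((skipEmb 2).trans (Function.Embedding.refl _))).upd 1 3 2 (le_of_eq hx14)).upd 2 3 1 (le_of_eq hx34)).upd 3 1 1 (le_of_eq hx41)).upd 3 2 3 (le_of_eq hx43)) ![0,1,1,2] (by decide) (by decide) 1 (by decide))
      · -- 34=(3,1)
        exact False.elim (cert_false T ((skipEmb 2).trans (Function.Embedding.refl _)) (by norm_num) (fun _ => hall _) (((((LB_zero T ((skipEmb 2).trans (Function.Embedding.refl _))).upd 1 3 2 (le_of_eq hx14)).upd 2 3 3 (le_of_eq hx34)).upd 3 1 1 (le_of_eq hx41)).upd 3 2 1 (le_of_eq hx43)) ![0,1,1,1] (by decide) (by decide) 1 (by decide))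
    · -- 24=(1,1)
      exact False.elim (cert_false T ((skipEmb 0).trans (Function.Embedding.refl _)) (by norm_num) (fun _ => hall _) (((((((LB_zero T ((skipEmb 0).trans (Function.Embedding.refl _))).upd 0 3 2 (le_of_eq hx14)).upd 1 2 1 (le_of_eq hx23)).upd 1 3 1 (le_of_eq hx24)).upd 2 1 2 (le_of_eq hx32)).upd 3 0 1 (le_of_eq hx41)).upd 3 1 1 (le_of_eq hx42)) ![1,1,1,1] (by decide) (by decide) 0 (by decide))
    · -- 24=(1,2)
      exact False.elim (cert_false T ((skipEmb 3).trans (Function.Embedding.refl _)) (by norm_num) (fun _ => hall _) (((((LB_zero T ((skipEmb 3).trans (Function.Embedding.refl _))).upd 1 3 2 (le_of_eq hx14)).upd 2 3 1 (le_of_eq hx24)).upd 3 1 1 (le_of_eq hx41)).upd 3 2 2 (le_of_eq hx42)) ![0,2,1,2] (by decide) (by decide) 1 (by decide))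
    · -- 24=(2,1)
      exact False.elim (cert_false T ((skipEmb 3).trans (Function.Embedding.refl _)) (by norm_num) (fun _ => hall _) (((((LB_zero T ((skipEmb 3).trans (Function.Embedding.refl _))).upd 1 3 2 (le_of_eq hx14)).upd 2 3 2 (le_of_eq hx24)).upd 3 1 1 (le_of_eq hx41)).upd 3 2 1 (le_of_eq hx42)) ![0,1,1,1] (by decide) (by decide) 1 (by decide))
    · -- 24=(1,3)
      exact False.elim (cert_false T ((skipEmb 3).trans (Function.Embedding.refl _)) (by norm_num) (fun _ => hall _) (((((LB_zero T ((skipEmb 3).trans (Function.Embedding.refl _))).upd 1 3 2 (le_of_eq hx14)).upd 2 3 1 (le_of_eq hx24)).upd 3 1 1 (le_of_eq hx41)).upd 3 2 3 (le_of_eq hx42)) ![0,1,1,2] (by decide) (by decide) 1 (by decide))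
    · -- 24=(3,1)
      exact False.elim (cert_false T ((skipEmb 3).trans (Function.Embedding.refl _)) (by norm_num) (fun _ => hall _) (((((LB_zero T ((skipEmb 3).trans (Function.Embedding.refl _))).upd 1 3 2 (le_of_eq hx14)).upd 2 3 3 (le_of_eq hx24)).upd 3 1 1 (le_of_eq hx41)).upd 3 2 1 (le_of_eq hx42)) ![0,1,1,1] (by decide) (by decide) 1 (by decide))
  · -- 14=(1,3)
    rcases d24 with ⟨rfl, rfl⟩ | ⟨rfl, rfl⟩ | ⟨rfl, rfl⟩ | ⟨rfl, rfl⟩ | ⟨rfl, rfl⟩ | ⟨rfl, rfl⟩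
    · -- 24=(0,0)
      rcases d34 with ⟨rfl, rfl⟩ | ⟨rfl, rfl⟩ | ⟨rfl, rfl⟩ | ⟨rfl, rfl⟩ | ⟨rfl, rfl⟩ | ⟨rfl, rfl⟩
      · -- 34=(0,0)
        exfalso; omega
      · -- 34=(1,1)
        exact False.elim (cert_false T ((skipEmb 2).trans (Function.Embedding.refl _)) (by norm_num) (fun _ => hall _) (((((LB_zero T ((skipEmb 2).trans (Function.Embedding.refl _))).upd 1 3 1 (le_of_eq hx14)).upd 2 3 1 (le_of_eq hx34)).upd 3 1 3 (le_of_eq hx41)).upd 3 2 1 (le_of_eq hx43)) ![0,1,1,2] (by decide) (by decide) 1 (by decide))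
      · -- 34=(1,2)
        exact False.elim (cert_false T ((skipEmb 2).trans (Function.Embedding.refl _)) (by norm_num) (fun _ => hall _) (((((LB_zero T ((skipEmb 2).trans (Function.Embedding.refl _))).upd 1 3 1 (le_of_eq hx14)).upd 2 3 1 (le_of_eq hx34)).upd 3 1 3 (le_of_eq hx41)).upd 3 2 2 (le_of_eq hx43)) ![0,1,1,2] (by decide) (by decide) 1 (by decide))
      · -- 34=(2,1)
        exact False.elim (cert_false T ((skipEmb 2).trans (Function.Embedding.refl _)) (by norm_num) (fun _ => hall _) (((((LB_zero T ((skipEmb 2).trans (Function.Embedding.refl _))).upd 1 3 1 (le_of_eq hx14)).upd 2 3 2 (le_of_eq hx34)).upd 3 1 3 (le_of_eq hx41)).upd 3 2 1 (le_of_eq hx43)) ![0,1,1,2] (by decide) (by decide) 1 (by decide))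
      · -- 34=(1,3)
        exact False.elim (cert_false T ((skipEmb 2).trans (Function.Embedding.refl _)) (by norm_num) (fun _ => hall _) (((((LB_zero T ((skipEmb 2).trans (Function.Embedding.refl _))).upd 1 3 1 (le_of_eq hx14)).upd 2 3 1 (le_of_eq hx34)).upd 3 1 3 (le_of_eq hx41)).upd 3 2 3 (le_of_eq hx43)) ![0,1,1,2] (by decide) (by decide) 1 (by decide))
      · -- 34=(3,1)
        exact False.elim (cert_false T ((skipEmb 2).trans (Function.Embedding.refl _)) (by norm_num) (fun _ => hall _) (((((LB_zero T ((skipEmb 2).trans (Function.Embedding.refl _))).upd 1 3 1 (le_of_eq hx14)).upd 2 3 3 (le_of_eq hx34)).upd 3 1 3 (le_of_eq hx41)).upd 3 2 1 (le_of_eq hx43)) ![0,1,1,2] (by decide) (by decide) 1 (by decide))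
    · -- 24=(1,1)
      exact False.elim (cert_false T ((skipEmb 3).trans (Function.Embedding.refl _)) (by norm_num) (fun _ => hall _) (((((LB_zero T ((skipEmb 3).trans (Function.Embedding.refl _))).upd 1 3 1 (le_of_eq hx14)).upd 2 3 1 (le_of_eq hx24)).upd 3 1 3 (le_of_eq hx41)).upd 3 2 1 (le_of_eq hx42)) ![0,1,1,2] (by decide) (by decide) 1 (by decide))
    · -- 24=(1,2)
      exact False.elim (cert_false T ((skipEmb 3).trans (Function.Embedding.refl _)) (by norm_num) (fun _ => hall _) (((((LB_zero T ((skipEmb 3).trans (Function.Embedding.refl _))).upd 1 3 1 (le_of_eq hx14)).upd 2 3 1 (le_of_eq hx24)).upd 3 1 3 (le_of_eq hx41)).upd 3 2 2 (le_of_eq hx42)) ![0,1,1,2] (by decide) (by decide) 1 (by decide))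
    · -- 24=(2,1)
      exact False.elim (cert_false T ((skipEmb 3).trans (Function.Embedding.refl _)) (by norm_num) (fun _ => hall _) (((((LB_zero T ((skipEmb 3).trans (Function.Embedding.refl _))).upd 1 3 1 (le_of_eq hx14)).upd 2 3 2 (le_of_eq hx24)).upd 3 1 3 (le_of_eq hx41)).upd 3 2 1 (le_of_eq hx42)) ![0,1,1,2] (by decide) (by decide) 1 (by decide))
    · -- 24=(1,3)
      exact False.elim (cert_false T ((skipEmb 3).trans (Function.Embedding.refl _)) (by norm_num) (fun _ => hall _) (((((LB_zero T ((skipEmb 3).trans (Function.Embedding.refl _))).upd 1 3 1 (le_of_eq hx14)).upd 2 3 1 (le_of_eq hx24)).upd 3 1 3 (le_of_eq hx41)).upd 3 2 3 (le_of_eq hx42)) ![0,1,1,2] (by decide) (by decide) 1 (by decide))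
    · -- 24=(3,1)
      exact False.elim (cert_false T ((skipEmb 3).trans (Function.Embedding.refl _)) (by norm_num) (fun _ => hall _) (((((LB_zero T ((skipEmb 3).trans (Function.Embedding.refl _))).upd 1 3 1 (le_of_eq hx14)).upd 2 3 3 (le_of_eq hx24)).upd 3 1 3 (le_of_eq hx41)).upd 3 2 1 (le_of_eq hx42)) ![0,1,1,2] (by decide) (by decide) 1 (by decide))
  · -- 14=(3,1)
    rcases d24 with ⟨rfl, rfl⟩ | ⟨rfl, rfl⟩ | ⟨rfl, rfl⟩ | ⟨rfl, rfl⟩ | ⟨rfl, rfl⟩ | ⟨rfl, rfl⟩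
    · -- 24=(0,0)
      rcases d34 with ⟨rfl, rfl⟩ | ⟨rfl, rfl⟩ | ⟨rfl, rfl⟩ | ⟨rfl, rfl⟩ | ⟨rfl, rfl⟩ | ⟨rfl, rfl⟩
      · -- 34=(0,0)
        exfalso; omega
      · -- 34=(1,1)
        exact False.elim (cert_false T ((skipEmb 2).trans (Function.Embedding.refl _)) (by norm_num) (fun _ => hall _) (((((LB_zero T ((skipEmb 2).trans (Function.Embedding.refl _))).upd 1 3 3 (le_of_eq hx14)).upd 2 3 1 (le_of_eq hx34)).upd 3 1 1 (le_of_eq hx41)).upd 3 2 1 (le_of_eq hx43)) ![0,3,1,2] (by decide) (by decide) 1 (by decide))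
      · -- 34=(1,2)
        exact False.elim (cert_false T ((skipEmb 2).trans (Function.Embedding.refl _)) (by norm_num) (fun _ => hall _) (((((LB_zero T ((skipEmb 2).trans (Function.Embedding.refl _))).upd 1 3 3 (le_of_eq hx14)).upd 2 3 1 (le_of_eq hx34)).upd 3 1 1 (le_of_eq hx41)).upd 3 2 2 (le_of_eq hx43)) ![0,2,1,2] (by decide) (by decide) 1 (by decide))
      · -- 34=(2,1)
        exact False.elim (cert_false T ((skipEmb 2).trans (Function.Embedding.refl _)) (by norm_num) (fun _ => hall _) (((((LB_zero T ((skipEmb 2).trans (Function.Embedding.refl _))).upd 1 3 3 (le_of_eq hx14)).upd 2 3 2 (le_of_eq hx34)).upd 3 1 1 (le_of_eq hx41)).upd 3 2 1 (le_of_eq hx43)) ![0,1,1,1] (by decide) (by decide) 1 (by decide))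
      · -- 34=(1,3)
        exact False.elim (cert_false T ((skipEmb 2).trans (Function.Embedding.refl _)) (by norm_num) (fun _ => hall _) (((((LB_zero T ((skipEmb 2).trans (Function.Embedding.refl _))).upd 1 3 3 (le_of_eq hx14)).upd 2 3 1 (le_of_eq hx34)).upd 3 1 1 (le_of_eq hx41)).upd 3 2 3 (le_of_eq hx43)) ![0,1,1,2] (by decide) (by decide) 1 (by decide))
      · -- 34=(3,1)
        exact False.elim (cert_false T ((skipEmb 2).trans (Function.Embedding.refl _)) (by norm_num) (fun _ => hall _) (((((LB_zero T ((skipEmb 2).trans (Function.Embedding.refl _))).upd 1 3 3 (le_of_eq hx14)).upd 2 3 3 (le_of_eq hx34)).upd 3 1 1 (le_of_eq hx41)).upd 3 2 1 (le_of_eq hx43)) ![0,1,1,1] (by decide) (by decide) 1 (by decide))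
    · -- 24=(1,1)
      exact False.elim (cert_false T ((skipEmb 3).trans (Function.Embedding.refl _)) (by norm_num) (fun _ => hall _) (((((LB_zero T ((skipEmb 3).trans (Function.Embedding.refl _))).upd 1 3 3 (le_of_eq hx14)).upd 2 3 1 (le_of_eq hx24)).upd 3 1 1 (le_of_eq hx41)).upd 3 2 1 (le_of_eq hx42)) ![0,3,1,2] (by decide) (by decide) 1 (by decide))
    · -- 24=(1,2)
      exact False.elim (cert_false T ((skipEmb 3).trans (Function.Embedding.refl _)) (by norm_num) (fun _ => hall _) (((((LB_zero T ((skipEmb 3).trans (Function.Embedding.refl _))).upd 1 3 3 (le_of_eq hx14)).upd 2 3 1 (le_of_eq hx24)).upd 3 1 1 (le_of_eq hx41)).upd 3 2 2 (le_of_eq hx42)) ![0,2,1,2] (by decide) (by decide) 1 (by decide))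
    · -- 24=(2,1)
      exact False.elim (cert_false T ((skipEmb 3).trans (Function.Embedding.refl _)) (by norm_num) (fun _ => hall _) (((((LB_zero T ((skipEmb 3).trans (Function.Embedding.refl _))).upd 1 3 3 (le_of_eq hx14)).upd 2 3 2 (le_of_eq hx24)).upd 3 1 1 (le_of_eq hx41)).upd 3 2 1 (le_of_eq hx42)) ![0,1,1,1] (by decide) (by decide) 1 (by decide))
    · -- 24=(1,3)
      exact False.elim (cert_false T ((skipEmb 3).trans (Function.Embedding.refl _)) (by norm_num) (fun _ => hall _) (((((LB_zero T ((skipEmb 3).trans (Function.Embedding.refl _))).upd 1 3 3 (le_of_eq hx14)).upd 2 3 1 (le_of_eq hx24)).upd 3 1 1 (le_of_eq hx41)).upd 3 2 3 (le_of_eq hx42)) ![0,1,1,2] (by decide) (by decide) 1 (by decide))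
    · -- 24=(3,1)
      exact False.elim (cert_false T ((skipEmb 3).trans (Function.Embedding.refl _)) (by norm_num) (fun _ => hall _) (((((LB_zero T ((skipEmb 3).trans (Function.Embedding.refl _))).upd 1 3 3 (le_of_eq hx14)).upd 2 3 3 (le_of_eq hx24)).upd 3 1 1 (le_of_eq hx41)).upd 3 2 1 (le_of_eq hx42)) ![0,1,1,1] (by decide) (by decide) 1 (by decide))

theorem case13 (T : NumericalType 5) (hall : ∀ i, T.IsMinusTwo i) (d : SData T)
    (h01 : N T (Function.Embedding.refl _) 0 1 = 0) (h10 : N T (Function.Embedding.refl _) 1 0 = 0)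
    (h02 : N T (Function.Embedding.refl _) 0 2 = 0) (h20 : N T (Function.Embedding.refl _) 2 0 = 0)
    (h12 : N T (Function.Embedding.refl _) 1 2 = 0) (h21 : N T (Function.Embedding.refl _) 2 1 = 0)
    (h03 : N T (Function.Embedding.refl _) 0 3 = 0) (h30 : N T (Function.Embedding.refl _) 3 0 = 0)
    (h13 : N T (Function.Embedding.refl _) 1 3 = 0) (h31 : N T (Function.Embedding.refl _) 3 1 = 0)
    (h23 : N T (Function.Embedding.refl _) 2 3 = 1) (h32 : N T (Function.Embedding.refl _) 3 2 = 2)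
    (h04 : N T (Function.Embedding.refl _) 0 4 = 1) (h40 : N T (Function.Embedding.refl _) 4 0 = 1) :
    Goal T := by
  unfold Goal
  have hd := d
  obtain ⟨x01, x02, x03, x04, x10, x12, x13, x14, x20, x21, x23, x24, x30, x31, x32, x34, x40, x41, x42, x43, hx01, hx02, hx03, hx04, hx10, hx12, hx13, hx14, hx20, hx21, hx23, hx24, hx30, hx31, hx32, hx34, hx40, hx41, hx42, hx43, hw0, hm0, hw1, hm1, hw2, hm2, hw3, hm3, hw4, hm4, a00, a01, a02, a03, a04, a11, a10, a12, a13, a14, a22, a20, a21, a23, a24, a33, a30, a31, a32, a34, a44, a40, a41, a42, a43, wN01, wN02, wN12, wN03, wN13, wN23, wN04, wN14, wN24, wN34, e0, e1, e2, e3, e4, d01, d02, d12, d03, d13, d23, d04, d14, d24, d34⟩ := d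
  obtain rfl : x01 = 0 := hx01.trans h01
  obtain rfl : x10 = 0 := hx10.trans h10
  obtain rfl : x02 = 0 := hx02.trans h02
  obtain rfl : x20 = 0 := hx20.trans h20
  obtain rfl : x12 = 0 := hx12.trans h12
  obtain rfl : x21 = 0 := hx21.trans h21
  obtain rfl : x03 = 0 := hx03.trans h03
  obtain rfl : x30 = 0 := hx30.trans h30
  obtain rfl : x13 = 0 := hx13.trans h13
  obtain rfl : x31 = 0 := hx31.trans h31
  obtain rfl : x23 = 1 := hx23.trans h23
  obtain rfl : x32 = 2 := hx32.trans h32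
  obtain rfl : x04 = 1 := hx04.trans h04
  obtain rfl : x40 = 1 := hx40.trans h40
  rcases d14 with ⟨rfl, rfl⟩ | ⟨rfl, rfl⟩ | ⟨rfl, rfl⟩ | ⟨rfl, rfl⟩ | ⟨rfl, rfl⟩ | ⟨rfl, rfl⟩
  · -- 14=(0,0)
    rcases d24 with ⟨rfl, rfl⟩ | ⟨rfl, rfl⟩ | ⟨rfl, rfl⟩ | ⟨rfl, rfl⟩ | ⟨rfl, rfl⟩ | ⟨rfl, rfl⟩
    · -- 24=(0,0)
      rcases d34 with ⟨rfl, rfl⟩ | ⟨rfl, rfl⟩ | ⟨rfl, rfl⟩ | ⟨rfl, rfl⟩ | ⟨rfl, rfl⟩ | ⟨rfl, rfl⟩
      · -- 34=(0,0)
        exfalso; omega
      · -- 34=(1,1)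
        exfalso; omega
      · -- 34=(1,2)
        exact False.elim (cert_false T ((skipEmb 1).trans (Function.Embedding.refl _)) (by norm_num) (fun _ => hall _) (((((LB_zero T ((skipEmb 1).trans (Function.Embedding.refl _))).upd 1 2 1 (le_of_eq hx23)).upd 2 1 2 (le_of_eq hx32)).upd 2 3 1 (le_of_eq hx34)).upd 3 2 2 (le_of_eq hx43)) ![0,1,2,2] (by decide) (by decide) 1 (by decide))
      · -- 34=(2,1)
        exact False.elim (cert_false T ((skipEmb 1).trans (Function.Embedding.refl _)) (by norm_num) (fun _ => hall _) (((((LB_zero T ((skipEmb 1).trans (Function.Embedding.refl _))).upd 1 2 1 (le_of_eq hx23)).upd 2 1 2 (le_of_eq hx32)).upd 2 3 2 (le_of_eq hx34)).upd 3 2 1 (le_of_eq hx43)) ![0,1,2,1] (by decide) (by decide) 1 (by decide))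
      · -- 34=(1,3)
        exact False.elim (cert_false T ((skipEmb 2).trans (Function.Embedding.refl _)) (by norm_num) (fun _ => hall _) (((((LB_zero T ((skipEmb 2).trans (Function.Embedding.refl _))).upd 0 3 1 (le_of_eq hx04)).upd 2 3 1 (le_of_eq hx34)).upd 3 0 1 (le_of_eq hx40)).upd 3 2 3 (le_of_eq hx43)) ![1,0,1,2] (by decide) (by decide) 0 (by decide))
      · -- 34=(3,1)
        exact False.elim (cert_false T ((skipEmb 2).trans (Function.Embedding.refl _)) (by norm_num) (fun _ => hall _) (((((LB_zero T ((skipEmb 2).trans (Function.Embedding.refl _))).upd 0 3 1 (le_of_eq hx04)).upd 2 3 3 (le_of_eq hx34)).upd 3 0 1 (le_of_eq hx40)).upd 3 2 1 (le_of_eq hx43)) ![1,0,3,2] (by decide) (by decide) 0 (by decide))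
    · -- 24=(1,1)
      rcases d34 with ⟨rfl, rfl⟩ | ⟨rfl, rfl⟩ | ⟨rfl, rfl⟩ | ⟨rfl, rfl⟩ | ⟨rfl, rfl⟩ | ⟨rfl, rfl⟩
      · -- 34=(0,0)
        exfalso; omega
      · -- 34=(1,1)
        exact False.elim (cert_false T ((skipEmb 1).trans (Function.Embedding.refl _)) (by norm_num) (fun _ => hall _) (((((((LB_zero T ((skipEmb 1).trans (Function.Embedding.refl _))).upd 1 2 1 (le_of_eq hx23)).upd 1 3 1 (le_of_eq hx24)).upd 2 1 2 (le_of_eq hx32)).upd 2 3 1 (le_of_eq hx34)).upd 3 1 1 (le_of_eq hx42)).upd 3 2 1 (le_of_eq hx43)) ![0,1,1,1] (by decide) (by decide) 1 (by decide))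
      · -- 34=(1,2)
        exact False.elim (cert_false T ((skipEmb 1).trans (Function.Embedding.refl _)) (by norm_num) (fun _ => hall _) (((((((LB_zero T ((skipEmb 1).trans (Function.Embedding.refl _))).upd 1 2 1 (le_of_eq hx23)).upd 1 3 1 (le_of_eq hx24)).upd 2 1 2 (le_of_eq hx32)).upd 2 3 1 (le_of_eq hx34)).upd 3 1 1 (le_of_eq hx42)).upd 3 2 2 (le_of_eq hx43)) ![0,1,1,1] (by decide) (by decide) 1 (by decide))
      · -- 34=(2,1)
        exact False.elim (cert_false T ((skipEmb 1).trans (Function.Embedding.refl _)) (by norm_num) (fun _ => hall _) (((((((LB_zero T ((skipEmb 1).trans (Function.Embedding.refl _))).upd 1 2 1 (le_of_eq hx23)).upd 1 3 1 (le_of_eq hx24)).upd 2 1 2 (le_of_eq hx32)).upd 2 3 2 (le_of_eq hx34)).upd 3 1 1 (le_of_eq hx42)).upd 3 2 1 (le_of_eq hx43)) ![0,1,1,1] (by decide) (by decide) 1 (by decide))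
      · -- 34=(1,3)
        exact False.elim (cert_false T ((skipEmb 2).trans (Function.Embedding.refl _)) (by norm_num) (fun _ => hall _) (((((LB_zero T ((skipEmb 2).trans (Function.Embedding.refl _))).upd 0 3 1 (le_of_eq hx04)).upd 2 3 1 (le_of_eq hx34)).upd 3 0 1 (le_of_eq hx40)).upd 3 2 3 (le_of_eq hx43)) ![1,0,1,2] (by decide) (by decide) 0 (by decide))
      · -- 34=(3,1)
        exact False.elim (cert_false T ((skipEmb 2).trans (Function.Embedding.refl _)) (by norm_num) (fun _ => hall _) (((((LB_zero T ((skipEmb 2).trans (Function.Embedding.refl _))).upd 0 3 1 (le_of_eq hx04)).upd 2 3 3 (le_of_eq hx34)).upd 3 0 1 (le_of_eq hx40)).upd 3 2 1 (le_of_eq hx43)) ![1,0,3,2] (by decide) (by decide) 0 (by decide))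
    · -- 24=(1,2)
      exact False.elim (cert_false T ((skipEmb 1).trans (Function.Embedding.refl _)) (by norm_num) (fun _ => hall _) (((((LB_zero T ((skipEmb 1).trans (Function.Embedding.refl _))).upd 1 2 1 (le_of_eq hx23)).upd 1 3 1 (le_of_eq hx24)).upd 2 1 2 (le_of_eq hx32)).upd 3 1 2 (le_of_eq hx42)) ![0,1,1,1] (by decide) (by decide) 1 (by decide))
    · -- 24=(2,1)
      exact False.elim (cert_false T ((skipEmb 1).trans (Function.Embedding.refl _)) (by norm_num) (fun _ => hall _) (((((LB_zero T ((skipEmb 1).trans (Function.Embedding.refl _))).upd 1 2 1 (le_of_eq hx23)).upd 1 3 2 (le_of_eq hx24)).upd 2 1 2 (le_of_eq hx32)).upd 3 1 1 (le_of_eq hx42)) ![0,2,2,1] (by decide) (by decide) 1 (by decide))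
    · -- 24=(1,3)
      exact False.elim (cert_false T ((skipEmb 3).trans (Function.Embedding.refl _)) (by norm_num) (fun _ => hall _) (((((LB_zero T ((skipEmb 3).trans (Function.Embedding.refl _))).upd 0 3 1 (le_of_eq hx04)).upd 2 3 1 (le_of_eq hx24)).upd 3 0 1 (le_of_eq hx40)).upd 3 2 3 (le_of_eq hx42)) ![1,0,1,2] (by decide) (by decide) 0 (by decide))
    · -- 24=(3,1)
      exact False.elim (cert_false T ((skipEmb 3).trans (Function.Embedding.refl _)) (by norm_num) (fun _ => hall _) (((((LB_zero T ((skipEmb 3).trans (Function.Embedding.refl _))).upd 0 3 1 (le_of_eq hx04)).upd 2 3 3 (le_of_eq hx24)).upd 3 0 1 (le_of_eq hx40)).upd 3 2 1 (le_of_eq hx42)) ![1,0,3,2] (by decide) (by decide) 0 (by decide))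
  · -- 14=(1,1)
    rcases d24 with ⟨rfl, rfl⟩ | ⟨rfl, rfl⟩ | ⟨rfl, rfl⟩ | ⟨rfl, rfl⟩ | ⟨rfl, rfl⟩ | ⟨rfl, rfl⟩
    · -- 24=(0,0)
      rcases d34 with ⟨rfl, rfl⟩ | ⟨rfl, rfl⟩ | ⟨rfl, rfl⟩ | ⟨rfl, rfl⟩ | ⟨rfl, rfl⟩ | ⟨rfl, rfl⟩
      · -- 34=(0,0)
        exfalso; omega
      · -- 34=(1,1)
        refine ⟨(⟨![2, 3, 4, 0, 1], ![3, 4, 0, 1, 2], by decide, by decide⟩ : Equiv.Perm (Fin 5)), T.m 2, T.w 3, Or.inr (Or.inr (Or.inr (Or.inr (Or.inr (Or.inr (Or.inr (Or.inl ?_)))))))⟩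
        show T.m 2 = T.m 2 ∧ T.m 3 = 2 * T.m 2 ∧ T.m 4 = 2 * T.m 2 ∧ T.m 0 = T.m 2 ∧ T.m 1 = T.m 2 ∧ T.w 2 = 2 * T.w 3 ∧ T.w 3 = T.w 3 ∧ T.w 4 = T.w 3 ∧ T.w 0 = T.w 3 ∧ T.w 1 = T.w 3 ∧ T.a 2 2 = -4 * T.w 3 ∧ T.a 2 3 = 2 * T.w 3 ∧ T.a 2 4 = 0 ∧ T.a 2 0 = 0 ∧ T.a 2 1 = 0 ∧ T.a 3 3 = -2 * T.w 3 ∧ T.a 3 4 = T.w 3 ∧ T.a 3 0 = 0 ∧ T.a 3 1 = 0 ∧ T.a 4 4 = -2 * T.w 3 ∧ T.a 4 0 = T.w 3 ∧ T.a 4 1 = T.w 3 ∧ T.a 0 0 = -2 * T.w 3 ∧ T.a 0 1 = 0 ∧ T.a 1 1 = -2 * T.w 3
        refine ⟨?_, ?_, ?_, ?_, ?_, ?_, ?_, ?_, ?_, ?_, ?_, ?_, ?_, ?_, ?_, ?_, ?_, ?_, ?_, ?_, ?_, ?_, ?_, ?_, ?_⟩ <;> omega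
      · -- 34=(1,2)
        exact False.elim (cert_false T ((skipEmb 2).trans (Function.Embedding.refl _)) (by norm_num) (fun _ => hall _) (((((((LB_zero T ((skipEmb 2).trans (Function.Embedding.refl _))).upd 0 3 1 (le_of_eq hx04)).upd 1 3 1 (le_of_eq hx14)).upd 2 3 1 (le_of_eq hx34)).upd 3 0 1 (le_of_eq hx40)).upd 3 1 1 (le_of_eq hx41)).upd 3 2 2 (le_of_eq hx43)) ![1,1,1,2] (by decide) (by decide) 0 (by decide))
      · -- 34=(2,1)
        exact False.elim (cert_false T ((skipEmb 2).trans (Function.Embedding.refl _)) (by norm_num) (fun _ => hall _) (((((((LB_zero T ((skipEmb 2).trans (Function.Embedding.refl _))).upd 0 3 1 (le_of_eq hx04)).upd 1 3 1 (le_of_eq hx14)).upd 2 3 2 (le_of_eq hx34)).upd 3 0 1 (le_of_eq hx40)).upd 3 1 1 (le_of_eq hx41)).upd 3 2 1 (le_of_eq hx43)) ![1,1,2,2] (by decide) (by decide) 0 (by decide))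
      · -- 34=(1,3)
        exact False.elim (cert_false T ((skipEmb 2).trans (Function.Embedding.refl _)) (by norm_num) (fun _ => hall _) (((((LB_zero T ((skipEmb 2).trans (Function.Embedding.refl _))).upd 1 3 1 (le_of_eq hx14)).upd 2 3 1 (le_of_eq hx34)).upd 3 1 1 (le_of_eq hx41)).upd 3 2 3 (le_of_eq hx43)) ![0,1,1,2] (by decide) (by decide) 1 (by decide))
      · -- 34=(3,1)
        exact False.elim (cert_false T ((skipEmb 2).trans (Function.Embedding.refl _)) (by norm_num) (fun _ => hall _) (((((((LB_zero T ((skipEmb 2).trans (Function.Embedding.refl _))).upd 0 3 1 (le_of_eq hx04)).upd 1 3 1 (le_of_eq hx14)).upd 2 3 3 (le_of_eq hx34)).upd 3 0 1 (le_of_eq hx40)).upd 3 1 1 (le_of_eq hx41)).upd 3 2 1 (le_of_eq hx43)) ![1,1,2,2] (by decide) (by decide) 0 (by decide))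
    · -- 24=(1,1)
      rcases d34 with ⟨rfl, rfl⟩ | ⟨rfl, rfl⟩ | ⟨rfl, rfl⟩ | ⟨rfl, rfl⟩ | ⟨rfl, rfl⟩ | ⟨rfl, rfl⟩
      · -- 34=(0,0)
        refine ⟨(⟨![3, 2, 4, 0, 1], ![3, 4, 1, 0, 2], by decide, by decide⟩ : Equiv.Perm (Fin 5)), T.m 0, T.w 3, Or.inr (Or.inr (Or.inr (Or.inr (Or.inr (Or.inr (Or.inr (Or.inr (?_))))))))⟩
        show T.m 3 = 2 * T.m 0 ∧ T.m 2 = 2 * T.m 0 ∧ T.m 4 = 2 * T.m 0 ∧ T.m 0 = T.m 0 ∧ T.m 1 = T.m 0 ∧ T.w 3 = T.w 3 ∧ T.w 2 = 2 * T.w 3 ∧ T.w 4 = 2 * T.w 3 ∧ T.w 0 = 2 * T.w 3 ∧ T.w 1 = 2 * T.w 3 ∧ T.a 3 3 = -2 * T.w 3 ∧ T.a 3 2 = 2 * T.w 3 ∧ T.a 3 4 = 0 ∧ T.a 3 0 = 0 ∧ T.a 3 1 = 0 ∧ T.a 2 2 = -4 * T.w 3 ∧ T.a 2 4 = 2 * T.w 3 ∧ T.a 2 0 = 0 ∧ T.a 2 1 = 0 ∧ T.a 4 4 = -4 * T.w 3 ∧ T.a 4 0 = 2 * T.w 3 ∧ T.a 4 1 = 2 * T.w 3 ∧ T.a 0 0 = -4 * T.w 3 ∧ T.a 0 1 = 0 ∧ T.a 1 1 = -4 * T.w 3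
        refine ⟨?_, ?_, ?_, ?_, ?_, ?_, ?_, ?_, ?_, ?_, ?_, ?_, ?_, ?_, ?_, ?_, ?_, ?_, ?_, ?_, ?_, ?_, ?_, ?_, ?_⟩ <;> omega
      · -- 34=(1,1)
        exact False.elim (cert_false T ((skipEmb 1).trans (Function.Embedding.refl _)) (by norm_num) (fun _ => hall _) (((((((LB_zero T ((skipEmb 1).trans (Function.Embedding.refl _))).upd 1 2 1 (le_of_eq hx23)).upd 1 3 1 (le_of_eq hx24)).upd 2 1 2 (le_of_eq hx32)).upd 2 3 1 (le_of_eq hx34)).upd 3 1 1 (le_of_eq hx42)).upd 3 2 1 (le_of_eq hx43)) ![0,1,1,1] (by decide) (by decide) 1 (by decide))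
      · -- 34=(1,2)
        exact False.elim (cert_false T ((skipEmb 2).trans (Function.Embedding.refl _)) (by norm_num) (fun _ => hall _) (((((((LB_zero T ((skipEmb 2).trans (Function.Embedding.refl _))).upd 0 3 1 (le_of_eq hx04)).upd 1 3 1 (le_of_eq hx14)).upd 2 3 1 (le_of_eq hx34)).upd 3 0 1 (le_of_eq hx40)).upd 3 1 1 (le_of_eq hx41)).upd 3 2 2 (le_of_eq hx43)) ![1,1,1,2] (by decide) (by decide) 0 (by decide))
      · -- 34=(2,1)
        exact False.elim (cert_false T ((skipEmb 2).trans (Function.Embedding.refl _)) (by norm_num) (fun _ => hall _) (((((((LB_zero T ((skipEmb 2).trans (Function.Embedding.refl _))).upd 0 3 1 (le_of_eq hx04)).upd 1 3 1 (le_of_eq hx14)).upd 2 3 2 (le_of_eq hx34)).upd 3 0 1 (le_of_eq hx40)).upd 3 1 1 (le_of_eq hx41)).upd 3 2 1 (le_of_eq hx43)) ![1,1,2,2] (by decide) (by decide) 0 (by decide))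
      · -- 34=(1,3)
        exact False.elim (cert_false T ((skipEmb 2).trans (Function.Embedding.refl _)) (by norm_num) (fun _ => hall _) (((((LB_zero T ((skipEmb 2).trans (Function.Embedding.refl _))).upd 1 3 1 (le_of_eq hx14)).upd 2 3 1 (le_of_eq hx34)).upd 3 1 1 (le_of_eq hx41)).upd 3 2 3 (le_of_eq hx43)) ![0,1,1,2] (by decide) (by decide) 1 (by decide))
      · -- 34=(3,1)
        exact False.elim (cert_false T ((skipEmb 2).trans (Function.Embedding.refl _)) (by norm_num) (fun _ => hall _) (((((((LB_zero T ((skipEmb 2).trans (Function.Embedding.refl _))).upd 0 3 1 (le_of_eq hx04)).upd 1 3 1 (le_of_eq hx14)).upd 2 3 3 (le_of_eq hx34)).upd 3 0 1 (le_of_eq hx40)).upd 3 1 1 (le_of_eq hx41)).upd 3 2 1 (le_of_eq hx43)) ![1,1,2,2] (by decide) (by decide) 0 (by decide))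
    · -- 24=(1,2)
      exact False.elim (cert_false T ((skipEmb 3).trans (Function.Embedding.refl _)) (by norm_num) (fun _ => hall _) (((((((LB_zero T ((skipEmb 3).trans (Function.Embedding.refl _))).upd 0 3 1 (le_of_eq hx04)).upd 1 3 1 (le_of_eq hx14)).upd 2 3 1 (le_of_eq hx24)).upd 3 0 1 (le_of_eq hx40)).upd 3 1 1 (le_of_eq hx41)).upd 3 2 2 (le_of_eq hx42)) ![1,1,1,2] (by decide) (by decide) 0 (by decide))
    · -- 24=(2,1)
      exact False.elim (cert_false T ((skipEmb 3).trans (Function.Embedding.refl _)) (by norm_num) (fun _ => hall _) (((((((LB_zero T ((skipEmb 3).trans (Function.Embedding.refl _))).upd 0 3 1 (le_of_eq hx04)).upd 1 3 1 (le_of_eq hx14)).upd 2 3 2 (le_of_eq hx24)).upd 3 0 1 (le_of_eq hx40)).upd 3 1 1 (le_of_eq hx41)).upd 3 2 1 (le_of_eq hx42)) ![1,1,2,2] (by decide) (by decide) 0 (by decide))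
    · -- 24=(1,3)
      exact False.elim (cert_false T ((skipEmb 3).trans (Function.Embedding.refl _)) (by norm_num) (fun _ => hall _) (((((LB_zero T ((skipEmb 3).trans (Function.Embedding.refl _))).upd 1 3 1 (le_of_eq hx14)).upd 2 3 1 (le_of_eq hx24)).upd 3 1 1 (le_of_eq hx41)).upd 3 2 3 (le_of_eq hx42)) ![0,1,1,2] (by decide) (by decide) 1 (by decide))
    · -- 24=(3,1)
      exact False.elim (cert_false T ((skipEmb 3).trans (Function.Embedding.refl _)) (by norm_num) (fun _ => hall _) (((((((LB_zero T ((skipEmb 3).trans (Function.Embedding.refl _))).upd 0 3 1 (le_of_eq hx04)).upd 1 3 1 (le_of_eq hx14)).upd 2 3 3 (le_of_eq hx24)).upd 3 0 1 (le_of_eq hx40)).upd 3 1 1 (le_of_eq hx41)).upd 3 2 1 (le_of_eq hx42)) ![1,1,2,2] (by decide) (by decide) 0 (by decide))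
  · -- 14=(1,2)
    rcases d24 with ⟨rfl, rfl⟩ | ⟨rfl, rfl⟩ | ⟨rfl, rfl⟩ | ⟨rfl, rfl⟩ | ⟨rfl, rfl⟩ | ⟨rfl, rfl⟩
    · -- 24=(0,0)
      rcases d34 with ⟨rfl, rfl⟩ | ⟨rfl, rfl⟩ | ⟨rfl, rfl⟩ | ⟨rfl, rfl⟩ | ⟨rfl, rfl⟩ | ⟨rfl, rfl⟩
      · -- 34=(0,0)
        exfalso; omega
      · -- 34=(1,1)
        exact False.elim (cert_false T ((skipEmb 2).trans (Function.Embedding.refl _)) (by norm_num) (fun _ => hall _) (((((((LB_zero T ((skipEmb 2).trans (Function.Embedding.refl _))).upd 0 3 1 (le_of_eq hx04)).upd 1 3 1 (le_of_eq hx14)).upd 2 3 1 (le_of_eq hx34)).upd 3 0 1 (le_of_eq hx40)).upd 3 1 2 (le_of_eq hx41)).upd 3 2 1 (le_of_eq hx43)) ![1,1,1,2] (by decide) (by decide) 0 (by decide))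
      · -- 34=(1,2)
        exact False.elim (cert_false T ((skipEmb 2).trans (Function.Embedding.refl _)) (by norm_num) (fun _ => hall _) (((((LB_zero T ((skipEmb 2).trans (Function.Embedding.refl _))).upd 1 3 1 (le_of_eq hx14)).upd 2 3 1 (le_of_eq hx34)).upd 3 1 2 (le_of_eq hx41)).upd 3 2 2 (le_of_eq hx43)) ![0,1,1,2] (by decide) (by decide) 1 (by decide))
      · -- 34=(2,1)
        exact False.elim (cert_false T ((skipEmb 2).trans (Function.Embedding.refl _)) (by norm_num) (fun _ => hall _) (((((LB_zero T ((skipEmb 2).trans (Function.Embedding.refl _))).upd 1 3 1 (le_of_eq hx14)).upd 2 3 2 (le_of_eq hx34)).upd 3 1 2 (le_of_eq hx41)).upd 3 2 1 (le_of_eq hx43)) ![0,1,2,2] (by decide) (by decide) 1 (by decide))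
      · -- 34=(1,3)
        exact False.elim (cert_false T ((skipEmb 2).trans (Function.Embedding.refl _)) (by norm_num) (fun _ => hall _) (((((LB_zero T ((skipEmb 2).trans (Function.Embedding.refl _))).upd 1 3 1 (le_of_eq hx14)).upd 2 3 1 (le_of_eq hx34)).upd 3 1 2 (le_of_eq hx41)).upd 3 2 3 (le_of_eq hx43)) ![0,1,1,2] (by decide) (by decide) 1 (by decide))
      · -- 34=(3,1)
        exact False.elim (cert_false T ((skipEmb 2).trans (Function.Embedding.refl _)) (by norm_num) (fun _ => hall _) (((((LB_zero T ((skipEmb 2).trans (Function.Embedding.refl _))).upd 1 3 1 (le_of_eq hx14)).upd 2 3 3 (le_of_eq hx34)).upd 3 1 2 (le_of_eq hx41)).upd 3 2 1 (le_of_eq hx43)) ![0,1,2,2] (by decide) (by decide) 1 (by decide))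
    · -- 24=(1,1)
      exact False.elim (cert_false T ((skipEmb 3).trans (Function.Embedding.refl _)) (by norm_num) (fun _ => hall _) (((((((LB_zero T ((skipEmb 3).trans (Function.Embedding.refl _))).upd 0 3 1 (le_of_eq hx04)).upd 1 3 1 (le_of_eq hx14)).upd 2 3 1 (le_of_eq hx24)).upd 3 0 1 (le_of_eq hx40)).upd 3 1 2 (le_of_eq hx41)).upd 3 2 1 (le_of_eq hx42)) ![1,1,1,2] (by decide) (by decide) 0 (by decide))
    · -- 24=(1,2)
      exact False.elim (cert_false T ((skipEmb 3).trans (Function.Embedding.refl _)) (by norm_num) (fun _ => hall _) (((((LB_zero T ((skipEmb 3).trans (Function.Embedding.refl _))).upd 1 3 1 (le_of_eq hx14)).upd 2 3 1 (le_of_eq hx24)).upd 3 1 2 (le_of_eq hx41)).upd 3 2 2 (le_of_eq hx42)) ![0,1,1,2] (by decide) (by decide) 1 (by decide))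
    · -- 24=(2,1)
      exact False.elim (cert_false T ((skipEmb 3).trans (Function.Embedding.refl _)) (by norm_num) (fun _ => hall _) (((((LB_zero T ((skipEmb 3).trans (Function.Embedding.refl _))).upd 1 3 1 (le_of_eq hx14)).upd 2 3 2 (le_of_eq hx24)).upd 3 1 2 (le_of_eq hx41)).upd 3 2 1 (le_of_eq hx42)) ![0,1,2,2] (by decide) (by decide) 1 (by decide))
    · -- 24=(1,3)
      exact False.elim (cert_false T ((skipEmb 3).trans (Function.Embedding.refl _)) (by norm_num) (fun _ => hall _) (((((LB_zero T ((skipEmb 3).trans (Function.Embedding.refl _))).upd 1 3 1 (le_of_eq hx14)).upd 2 3 1 (le_of_eq hx24)).upd 3 1 2 (le_of_eq hx41)).upd 3 2 3 (le_of_eq hx42)) ![0,1,1,2] (by decide) (by decide) 1 (by decide))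
    · -- 24=(3,1)
      exact False.elim (cert_false T ((skipEmb 3).trans (Function.Embedding.refl _)) (by norm_num) (fun _ => hall _) (((((LB_zero T ((skipEmb 3).trans (Function.Embedding.refl _))).upd 1 3 1 (le_of_eq hx14)).upd 2 3 3 (le_of_eq hx24)).upd 3 1 2 (le_of_eq hx41)).upd 3 2 1 (le_of_eq hx42)) ![0,1,2,2] (by decide) (by decide) 1 (by decide))
  · -- 14=(2,1)
    rcases d24 with ⟨rfl, rfl⟩ | ⟨rfl, rfl⟩ | ⟨rfl, rfl⟩ | ⟨rfl, rfl⟩ | ⟨rfl, rfl⟩ | ⟨rfl, rfl⟩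
    · -- 24=(0,0)
      rcases d34 with ⟨rfl, rfl⟩ | ⟨rfl, rfl⟩ | ⟨rfl, rfl⟩ | ⟨rfl, rfl⟩ | ⟨rfl, rfl⟩ | ⟨rfl, rfl⟩
      · -- 34=(0,0)
        exfalso; omega
      · -- 34=(1,1)
        exact False.elim (cert_false T ((skipEmb 2).trans (Function.Embedding.refl _)) (by norm_num) (fun _ => hall _) (((((((LB_zero T ((skipEmb 2).trans (Function.Embedding.refl _))).upd 0 3 1 (le_of_eq hx04)).upd 1 3 2 (le_of_eq hx14)).upd 2 3 1 (le_of_eq hx34)).upd 3 0 1 (le_of_eq hx40)).upd 3 1 1 (le_of_eq hx41)).upd 3 2 1 (le_of_eq hx43)) ![1,2,1,2] (by decide) (by decide) 0 (by decide))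
      · -- 34=(1,2)
        exact False.elim (cert_false T ((skipEmb 2).trans (Function.Embedding.refl _)) (by norm_num) (fun _ => hall _) (((((LB_zero T ((skipEmb 2).trans (Function.Embedding.refl _))).upd 1 3 2 (le_of_eq hx14)).upd 2 3 1 (le_of_eq hx34)).upd 3 1 1 (le_of_eq hx41)).upd 3 2 2 (le_of_eq hx43)) ![0,2,1,2] (by decide) (by decide) 1 (by decide))
      · -- 34=(2,1)
        exact False.elim (cert_false T ((skipEmb 2).trans (Function.Embedding.refl _)) (by norm_num) (fun _ => hall _) (((((LB_zero T ((skipEmb 2).trans (Function.Embedding.refl _))).upd 1 3 2 (le_of_eq hx14)).upd 2 3 2 (le_of_eq hx34)).upd 3 1 1 (le_of_eq hx41)).upd 3 2 1 (le_of_eq hx43)) ![0,1,1,1] (by decide) (by decide) 1 (by decide))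
      · -- 34=(1,3)
        exact False.elim (cert_false T ((skipEmb 2).trans (Function.Embedding.refl _)) (by norm_num) (fun _ => hall _) (((((LB_zero T ((skipEmb 2).trans (Function.Embedding.refl _))).upd 1 3 2 (le_of_eq hx14)).upd 2 3 1 (le_of_eq hx34)).upd 3 1 1 (le_of_eq hx41)).upd 3 2 3 (le_of_eq hx43)) ![0,1,1,2] (by decide) (by decide) 1 (by decide))
      · -- 34=(3,1)
        exact False.elim (cert_false T ((skipEmb 2).trans (Function.Embedding.refl _)) (by norm_num) (fun _ => hall _) (((((LB_zero T ((skipEmb 2).trans (Function.Embedding.refl _))).upd 1 3 2 (le_of_eq hx14)).upd 2 3 3 (le_of_eq hx34)).upd 3 1 1 (le_of_eq hx41)).upd 3 2 1 (le_of_eq hx43)) ![0,1,1,1] (by decide) (by decide) 1 (by decide))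
    · -- 24=(1,1)
      exact False.elim (cert_false T ((skipEmb 3).trans (Function.Embedding.refl _)) (by norm_num) (fun _ => hall _) (((((((LB_zero T ((skipEmb 3).trans (Function.Embedding.refl _))).upd 0 3 1 (le_of_eq hx04)).upd 1 3 2 (le_of_eq hx14)).upd 2 3 1 (le_of_eq hx24)).upd 3 0 1 (le_of_eq hx40)).upd 3 1 1 (le_of_eq hx41)).upd 3 2 1 (le_of_eq hx42)) ![1,2,1,2] (by decide) (by decide) 0 (by decide))
    · -- 24=(1,2)
      exact False.elim (cert_false T ((skipEmb 3).trans (Function.Embedding.refl _)) (by norm_num) (fun _ => hall _) (((((LB_zero T ((skipEmb 3).trans (Function.Embedding.refl _))).upd 1 3 2 (le_of_eq hx14)).upd 2 3 1 (le_of_eq hx24)).upd 3 1 1 (le_of_eq hx41)).upd 3 2 2 (le_of_eq hx42)) ![0,2,1,2] (by decide) (by decide) 1 (by decide))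
    · -- 24=(2,1)
      exact False.elim (cert_false T ((skipEmb 3).trans (Function.Embedding.refl _)) (by norm_num) (fun _ => hall _) (((((LB_zero T ((skipEmb 3).trans (Function.Embedding.refl _))).upd 1 3 2 (le_of_eq hx14)).upd 2 3 2 (le_of_eq hx24)).upd 3 1 1 (le_of_eq hx41)).upd 3 2 1 (le_of_eq hx42)) ![0,1,1,1] (by decide) (by decide) 1 (by decide))
    · -- 24=(1,3)
      exact False.elim (cert_false T ((skipEmb 3).trans (Function.Embedding.refl _)) (by norm_num) (fun _ => hall _) (((((LB_zero T ((skipEmb 3).trans (Function.Embedding.refl _))).upd 1 3 2 (le_of_eq hx14)).upd 2 3 1 (le_of_eq hx24)).upd 3 1 1 (le_of_eq hx41)).upd 3 2 3 (le_of_eq hx42)) ![0,1,1,2] (by decide) (by decide) 1 (by decide))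
    · -- 24=(3,1)
      exact False.elim (cert_false T ((skipEmb 3).trans (Function.Embedding.refl _)) (by norm_num) (fun _ => hall _) (((((LB_zero T ((skipEmb 3).trans (Function.Embedding.refl _))).upd 1 3 2 (le_of_eq hx14)).upd 2 3 3 (le_of_eq hx24)).upd 3 1 1 (le_of_eq hx41)).upd 3 2 1 (le_of_eq hx42)) ![0,1,1,1] (by decide) (by decide) 1 (by decide))
  · -- 14=(1,3)
    exact False.elim (cert_false T ((skipEmb 3).trans (Function.Embedding.refl _)) (by norm_num) (fun _ => hall _) (((((LB_zero T ((skipEmb 3).trans (Function.Embedding.refl _))).upd 0 3 1 (le_of_eq hx04)).upd 1 3 1 (le_of_eq hx14)).upd 3 0 1 (le_of_eq hx40)).upd 3 1 3 (le_of_eq hx41)) ![1,1,0,2] (by decide) (by decide) 0 (by decide))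
  · -- 14=(3,1)
    exact False.elim (cert_false T ((skipEmb 3).trans (Function.Embedding.refl _)) (by norm_num) (fun _ => hall _) (((((LB_zero T ((skipEmb 3).trans (Function.Embedding.refl _))).upd 0 3 1 (le_of_eq hx04)).upd 1 3 3 (le_of_eq hx14)).upd 3 0 1 (le_of_eq hx40)).upd 3 1 1 (le_of_eq hx41)) ![1,3,0,2] (by decide) (by decide) 0 (by decide))

theorem case11 (T : NumericalType 5) (hall : ∀ i, T.IsMinusTwo i) (d : SData T)
    (h01 : N T (Function.Embedding.refl _) 0 1 = 0) (h10 : N T (Function.Embedding.refl _) 1 0 = 0)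
    (h02 : N T (Function.Embedding.refl _) 0 2 = 0) (h20 : N T (Function.Embedding.refl _) 2 0 = 0)
    (h12 : N T (Function.Embedding.refl _) 1 2 = 0) (h21 : N T (Function.Embedding.refl _) 2 1 = 0)
    (h03 : N T (Function.Embedding.refl _) 0 3 = 0) (h30 : N T (Function.Embedding.refl _) 3 0 = 0)
    (h13 : N T (Function.Embedding.refl _) 1 3 = 0) (h31 : N T (Function.Embedding.refl _) 3 1 = 0)
    (h23 : N T (Function.Embedding.refl _) 2 3 = 1) (h32 : N T (Function.Embedding.refl _) 3 2 = 2) :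
    Goal T := by
  unfold Goal
  have hd := d
  obtain ⟨x01, x02, x03, x04, x10, x12, x13, x14, x20, x21, x23, x24, x30, x31, x32, x34, x40, x41, x42, x43, hx01, hx02, hx03, hx04, hx10, hx12, hx13, hx14, hx20, hx21, hx23, hx24, hx30, hx31, hx32, hx34, hx40, hx41, hx42, hx43, hw0, hm0, hw1, hm1, hw2, hm2, hw3, hm3, hw4, hm4, a00, a01, a02, a03, a04, a11, a10, a12, a13, a14, a22, a20, a21, a23, a24, a33, a30, a31, a32, a34, a44, a40, a41, a42, a43, wN01, wN02, wN12, wN03, wN13, wN23, wN04, wN14, wN24, wN34, e0, e1, e2, e3, e4, d01, d02, d12, d03, d13, d23, d04, d14, d24, d34⟩ := d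
  obtain rfl : x01 = 0 := hx01.trans h01
  obtain rfl : x10 = 0 := hx10.trans h10
  obtain rfl : x02 = 0 := hx02.trans h02
  obtain rfl : x20 = 0 := hx20.trans h20
  obtain rfl : x12 = 0 := hx12.trans h12
  obtain rfl : x21 = 0 := hx21.trans h21
  obtain rfl : x03 = 0 := hx03.trans h03
  obtain rfl : x30 = 0 := hx30.trans h30
  obtain rfl : x13 = 0 := hx13.trans h13
  obtain rfl : x31 = 0 := hx31.trans h31
  obtain rfl : x23 = 1 := hx23.trans h23
  obtain rfl : x32 = 2 := hx32.trans h32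
  rcases d04 with ⟨rfl, rfl⟩ | ⟨rfl, rfl⟩ | ⟨rfl, rfl⟩ | ⟨rfl, rfl⟩ | ⟨rfl, rfl⟩ | ⟨rfl, rfl⟩
  · -- 04=(0,0)
    exact case12 T hall hd hx01.symm hx10.symm hx02.symm hx20.symm hx12.symm hx21.symm hx03.symm hx30.symm hx13.symm hx31.symm hx23.symm hx32.symm hx04.symm hx40.symm
  · -- 04=(1,1)
    exact case13 T hall hd hx01.symm hx10.symm hx02.symm hx20.symm hx12.symm hx21.symm hx03.symm hx30.symm hx13.symm hx31.symm hx23.symm hx32.symm hx04.symm hx40.symm
  · -- 04=(1,2)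
    rcases d14 with ⟨rfl, rfl⟩ | ⟨rfl, rfl⟩ | ⟨rfl, rfl⟩ | ⟨rfl, rfl⟩ | ⟨rfl, rfl⟩ | ⟨rfl, rfl⟩
    · -- 14=(0,0)
      rcases d24 with ⟨rfl, rfl⟩ | ⟨rfl, rfl⟩ | ⟨rfl, rfl⟩ | ⟨rfl, rfl⟩ | ⟨rfl, rfl⟩ | ⟨rfl, rfl⟩
      · -- 24=(0,0)
        rcases d34 with ⟨rfl, rfl⟩ | ⟨rfl, rfl⟩ | ⟨rfl, rfl⟩ | ⟨rfl, rfl⟩ | ⟨rfl, rfl⟩ | ⟨rfl, rfl⟩
        · -- 34=(0,0)
          exfalso; omega
        · -- 34=(1,1)
          exact False.elim (cert_false T ((skipEmb 1).trans (Function.Embedding.refl _)) (by norm_num) (fun _ => hall _) (((((((LB_zero T ((skipEmb 1).trans (Function.Embedding.refl _))).upd 0 3 1 (le_of_eq hx04)).upd 1 2 1 (le_of_eq hx23)).upd 2 1 2 (le_of_eq hx32)).upd 2 3 1 (le_of_eq hx34)).upd 3 0 2 (le_of_eq hx40)).upd 3 2 1 (le_of_eq hx43)) ![1,1,2,2] (by decide) (by decide) 0 (by decide))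
        · -- 34=(1,2)
          exact False.elim (cert_false T ((skipEmb 2).trans (Function.Embedding.refl _)) (by norm_num) (fun _ => hall _) (((((LB_zero T ((skipEmb 2).trans (Function.Embedding.refl _))).upd 0 3 1 (le_of_eq hx04)).upd 2 3 1 (le_of_eq hx34)).upd 3 0 2 (le_of_eq hx40)).upd 3 2 2 (le_of_eq hx43)) ![1,0,1,2] (by decide) (by decide) 0 (by decide))
        · -- 34=(2,1)
          exact False.elim (cert_false T ((skipEmb 2).trans (Function.Embedding.refl _)) (by norm_num) (fun _ => hall _) (((((LB_zero T ((skipEmb 2).trans (Function.Embedding.refl _))).upd 0 3 1 (le_of_eq hx04)).upd 2 3 2 (le_of_eq hx34)).upd 3 0 2 (le_of_eq hx40)).upd 3 2 1 (le_of_eq hx43)) ![1,0,2,2] (by decide) (by decide) 0 (by decide))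
        · -- 34=(1,3)
          exact False.elim (cert_false T ((skipEmb 2).trans (Function.Embedding.refl _)) (by norm_num) (fun _ => hall _) (((((LB_zero T ((skipEmb 2).trans (Function.Embedding.refl _))).upd 0 3 1 (le_of_eq hx04)).upd 2 3 1 (le_of_eq hx34)).upd 3 0 2 (le_of_eq hx40)).upd 3 2 3 (le_of_eq hx43)) ![1,0,1,2] (by decide) (by decide) 0 (by decide))
        · -- 34=(3,1)
          exact False.elim (cert_false T ((skipEmb 2).trans (Function.Embedding.refl _)) (by norm_num) (fun _ => hall _) (((((LB_zero T ((skipEmb 2).trans (Function.Embedding.refl _))).upd 0 3 1 (le_of_eq hx04)).upd 2 3 3 (le_of_eq hx34)).upd 3 0 2 (le_of_eq hx40)).upd 3 2 1 (le_of_eq hx43)) ![1,0,2,2] (by decide) (by decide) 0 (by decide))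
      · -- 24=(1,1)
        exact False.elim (cert_false T ((skipEmb 1).trans (Function.Embedding.refl _)) (by norm_num) (fun _ => hall _) (((((((LB_zero T ((skipEmb 1).trans (Function.Embedding.refl _))).upd 0 3 1 (le_of_eq hx04)).upd 1 2 1 (le_of_eq hx23)).upd 1 3 1 (le_of_eq hx24)).upd 2 1 2 (le_of_eq hx32)).upd 3 0 2 (le_of_eq hx40)).upd 3 1 1 (le_of_eq hx42)) ![1,2,2,2] (by decide) (by decide) 0 (by decide))
      · -- 24=(1,2)
        exact False.elim (cert_false T ((skipEmb 3).trans (Function.Embedding.refl _)) (by norm_num) (fun _ => hall _) (((((LB_zero T ((skipEmb 3).trans (Function.Embedding.refl _))).upd 0 3 1 (le_of_eq hx04)).upd 2 3 1 (le_of_eq hx24)).upd 3 0 2 (le_of_eq hx40)).upd 3 2 2 (le_of_eq hx42)) ![1,0,1,2] (by decide) (by decide) 0 (by decide))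
      · -- 24=(2,1)
        exact False.elim (cert_false T ((skipEmb 3).trans (Function.Embedding.refl _)) (by norm_num) (fun _ => hall _) (((((LB_zero T ((skipEmb 3).trans (Function.Embedding.refl _))).upd 0 3 1 (le_of_eq hx04)).upd 2 3 2 (le_of_eq hx24)).upd 3 0 2 (le_of_eq hx40)).upd 3 2 1 (le_of_eq hx42)) ![1,0,2,2] (by decide) (by decide) 0 (by decide))
      · -- 24=(1,3)
        exact False.elim (cert_false T ((skipEmb 3).trans (Function.Embedding.refl _)) (by norm_num) (fun _ => hall _) (((((LB_zero T ((skipEmb 3).trans (Function.Embedding.refl _))).upd 0 3 1 (le_of_eq hx04)).upd 2 3 1 (le_of_eq hx24)).upd 3 0 2 (le_of_eq hx40)).upd 3 2 3 (le_of_eq hx42)) ![1,0,1,2] (by decide) (by decide) 0 (by decide))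
      · -- 24=(3,1)
        exact False.elim (cert_false T ((skipEmb 3).trans (Function.Embedding.refl _)) (by norm_num) (fun _ => hall _) (((((LB_zero T ((skipEmb 3).trans (Function.Embedding.refl _))).upd 0 3 1 (le_of_eq hx04)).upd 2 3 3 (le_of_eq hx24)).upd 3 0 2 (le_of_eq hx40)).upd 3 2 1 (le_of_eq hx42)) ![1,0,2,2] (by decide) (by decide) 0 (by decide))
    · -- 14=(1,1)
      rcases d24 with ⟨rfl, rfl⟩ | ⟨rfl, rfl⟩ | ⟨rfl, rfl⟩ | ⟨rfl, rfl⟩ | ⟨rfl, rfl⟩ | ⟨rfl, rfl⟩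
      · -- 24=(0,0)
        rcases d34 with ⟨rfl, rfl⟩ | ⟨rfl, rfl⟩ | ⟨rfl, rfl⟩ | ⟨rfl, rfl⟩ | ⟨rfl, rfl⟩ | ⟨rfl, rfl⟩
        · -- 34=(0,0)
          exfalso; omega
        · -- 34=(1,1)
          exact False.elim (cert_false T ((skipEmb 2).trans (Function.Embedding.refl _)) (by norm_num) (fun _ => hall _) (((((((LB_zero T ((skipEmb 2).trans (Function.Embedding.refl _))).upd 0 3 1 (le_of_eq hx04)).upd 1 3 1 (le_of_eq hx14)).upd 2 3 1 (le_of_eq hx34)).upd 3 0 2 (le_of_eq hx40)).upd 3 1 1 (le_of_eq hx41)).upd 3 2 1 (le_of_eq hx43)) ![1,1,1,2] (by decide) (by decide) 0 (by decide))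
        · -- 34=(1,2)
          exact False.elim (cert_false T ((skipEmb 2).trans (Function.Embedding.refl _)) (by norm_num) (fun _ => hall _) (((((LB_zero T ((skipEmb 2).trans (Function.Embedding.refl _))).upd 0 3 1 (le_of_eq hx04)).upd 2 3 1 (le_of_eq hx34)).upd 3 0 2 (le_of_eq hx40)).upd 3 2 2 (le_of_eq hx43)) ![1,0,1,2] (by decide) (by decide) 0 (by decide))
        · -- 34=(2,1)
          exact False.elim (cert_false T ((skipEmb 2).trans (Function.Embedding.refl _)) (by norm_num) (fun _ => hall _) (((((LB_zero T ((skipEmb 2).trans (Function.Embedding.refl _))).upd 0 3 1 (le_of_eq hx04)).upd 2 3 2 (le_of_eq hx34)).upd 3 0 2 (le_of_eq hx40)).upd 3 2 1 (le_of_eq hx43)) ![1,0,2,2] (by decide) (by decide) 0 (by decide))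
        · -- 34=(1,3)
          exact False.elim (cert_false T ((skipEmb 2).trans (Function.Embedding.refl _)) (by norm_num) (fun _ => hall _) (((((LB_zero T ((skipEmb 2).trans (Function.Embedding.refl _))).upd 1 3 1 (le_of_eq hx14)).upd 2 3 1 (le_of_eq hx34)).upd 3 1 1 (le_of_eq hx41)).upd 3 2 3 (le_of_eq hx43)) ![0,1,1,2] (by decide) (by decide) 1 (by decide))
        · -- 34=(3,1)
          exact False.elim (cert_false T ((skipEmb 2).trans (Function.Embedding.refl _)) (by norm_num) (fun _ => hall _) (((((LB_zero T ((skipEmb 2).trans (Function.Embedding.refl _))).upd 0 3 1 (le_of_eq hx04)).upd 2 3 3 (le_of_eq hx34)).upd 3 0 2 (le_of_eq hx40)).upd 3 2 1 (le_of_eq hx43)) ![1,0,2,2] (by decide) (by decide) 0 (by decide))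
      · -- 24=(1,1)
        exact False.elim (cert_false T ((skipEmb 3).trans (Function.Embedding.refl _)) (by norm_num) (fun _ => hall _) (((((((LB_zero T ((skipEmb 3).trans (Function.Embedding.refl _))).upd 0 3 1 (le_of_eq hx04)).upd 1 3 1 (le_of_eq hx14)).upd 2 3 1 (le_of_eq hx24)).upd 3 0 2 (le_of_eq hx40)).upd 3 1 1 (le_of_eq hx41)).upd 3 2 1 (le_of_eq hx42)) ![1,1,1,2] (by decide) (by decide) 0 (by decide))
      · -- 24=(1,2)
        exact False.elim (cert_false T ((skipEmb 3).trans (Function.Embedding.refl _)) (by norm_num) (fun _ => hall _) (((((LB_zero T ((skipEmb 3).trans (Function.Embedding.refl _))).upd 0 3 1 (le_of_eq hx04)).upd 2 3 1 (le_of_eq hx24)).upd 3 0 2 (le_of_eq hx40)).upd 3 2 2 (le_of_eq hx42)) ![1,0,1,2] (by decide) (by decide) 0 (by decide))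
      · -- 24=(2,1)
        exact False.elim (cert_false T ((skipEmb 3).trans (Function.Embedding.refl _)) (by norm_num) (fun _ => hall _) (((((LB_zero T ((skipEmb 3).trans (Function.Embedding.refl _))).upd 0 3 1 (le_of_eq hx04)).upd 2 3 2 (le_of_eq hx24)).upd 3 0 2 (le_of_eq hx40)).upd 3 2 1 (le_of_eq hx42)) ![1,0,2,2] (by decide) (by decide) 0 (by decide))
      · -- 24=(1,3)
        exact False.elim (cert_false T ((skipEmb 3).trans (Function.Embedding.refl _)) (by norm_num) (fun _ => hall _) (((((LB_zero T ((skipEmb 3).trans (Function.Embedding.refl _))).upd 1 3 1 (le_of_eq hx14)).upd 2 3 1 (le_of_eq hx24)).upd 3 1 1 (le_of_eq hx41)).upd 3 2 3 (le_of_eq hx42)) ![0,1,1,2] (by decide) (by decide) 1 (by decide))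
      · -- 24=(3,1)
        exact False.elim (cert_false T ((skipEmb 3).trans (Function.Embedding.refl _)) (by norm_num) (fun _ => hall _) (((((LB_zero T ((skipEmb 3).trans (Function.Embedding.refl _))).upd 0 3 1 (le_of_eq hx04)).upd 2 3 3 (le_of_eq hx24)).upd 3 0 2 (le_of_eq hx40)).upd 3 2 1 (le_of_eq hx42)) ![1,0,2,2] (by decide) (by decide) 0 (by decide))
    · -- 14=(1,2)
      exact False.elim (cert_false T ((skipEmb 3).trans (Function.Embedding.refl _)) (by norm_num) (fun _ => hall _) (((((LB_zero T ((skipEmb 3).trans (Function.Embedding.refl _))).upd 0 3 1 (le_of_eq hx04)).upd 1 3 1 (le_of_eq hx14)).upd 3 0 2 (le_of_eq hx40)).upd 3 1 2 (le_of_eq hx41)) ![1,1,0,2] (by decide) (by decide) 0 (by decide))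
    · -- 14=(2,1)
      exact False.elim (cert_false T ((skipEmb 3).trans (Function.Embedding.refl _)) (by norm_num) (fun _ => hall _) (((((LB_zero T ((skipEmb 3).trans (Function.Embedding.refl _))).upd 0 3 1 (le_of_eq hx04)).upd 1 3 2 (le_of_eq hx14)).upd 3 0 2 (le_of_eq hx40)).upd 3 1 1 (le_of_eq hx41)) ![1,2,0,2] (by decide) (by decide) 0 (by decide))
    · -- 14=(1,3)
      exact False.elim (cert_false T ((skipEmb 3).trans (Function.Embedding.refl _)) (by norm_num) (fun _ => hall _) (((((LB_zero T ((skipEmb 3).trans (Function.Embedding.refl _))).upd 0 3 1 (le_of_eq hx04)).upd 1 3 1 (le_of_eq hx14)).upd 3 0 2 (le_of_eq hx40)).upd 3 1 3 (le_of_eq hx41)) ![1,1,0,2] (by decide) (by decide) 0 (by decide))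
    · -- 14=(3,1)
      exact False.elim (cert_false T ((skipEmb 3).trans (Function.Embedding.refl _)) (by norm_num) (fun _ => hall _) (((((LB_zero T ((skipEmb 3).trans (Function.Embedding.refl _))).upd 0 3 1 (le_of_eq hx04)).upd 1 3 3 (le_of_eq hx14)).upd 3 0 2 (le_of_eq hx40)).upd 3 1 1 (le_of_eq hx41)) ![1,2,0,2] (by decide) (by decide) 0 (by decide))
  · -- 04=(2,1)
    rcases d14 with ⟨rfl, rfl⟩ | ⟨rfl, rfl⟩ | ⟨rfl, rfl⟩ | ⟨rfl, rfl⟩ | ⟨rfl, rfl⟩ | ⟨rfl, rfl⟩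
    · -- 14=(0,0)
      rcases d24 with ⟨rfl, rfl⟩ | ⟨rfl, rfl⟩ | ⟨rfl, rfl⟩ | ⟨rfl, rfl⟩ | ⟨rfl, rfl⟩ | ⟨rfl, rfl⟩
      · -- 24=(0,0)
        rcases d34 with ⟨rfl, rfl⟩ | ⟨rfl, rfl⟩ | ⟨rfl, rfl⟩ | ⟨rfl, rfl⟩ | ⟨rfl, rfl⟩ | ⟨rfl, rfl⟩
        · -- 34=(0,0)
          exfalso; omega
        · -- 34=(1,1)
          exact False.elim (cert_false T ((skipEmb 1).trans (Function.Embedding.refl _)) (by norm_num) (fun _ => hall _) (((((((LB_zero T ((skipEmb 1).trans (Function.Embedding.refl _))).upd 0 3 2 (le_of_eq hx04)).upd 1 2 1 (le_of_eq hx23)).upd 2 1 2 (le_of_eq hx32)).upd 2 3 1 (le_of_eq hx34)).upd 3 0 1 (le_of_eq hx40)).upd 3 2 1 (le_of_eq hx43)) ![2,1,2,2] (by decide) (by decide) 0 (by decide))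
        · -- 34=(1,2)
          exact False.elim (cert_false T ((skipEmb 2).trans (Function.Embedding.refl _)) (by norm_num) (fun _ => hall _) (((((LB_zero T ((skipEmb 2).trans (Function.Embedding.refl _))).upd 0 3 2 (le_of_eq hx04)).upd 2 3 1 (le_of_eq hx34)).upd 3 0 1 (le_of_eq hx40)).upd 3 2 2 (le_of_eq hx43)) ![2,0,1,2] (by decide) (by decide) 0 (by decide))
        · -- 34=(2,1)
          exact False.elim (cert_false T ((skipEmb 2).trans (Function.Embedding.refl _)) (by norm_num) (fun _ => hall _) (((((LB_zero T ((skipEmb 2).trans (Function.Embedding.refl _))).upd 0 3 2 (le_of_eq hx04)).upd 2 3 2 (le_of_eq hx34)).upd 3 0 1 (le_of_eq hx40)).upd 3 2 1 (le_of_eq hx43)) ![1,0,1,1] (by decide) (by decide) 0 (by decide))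
        · -- 34=(1,3)
          exact False.elim (cert_false T ((skipEmb 2).trans (Function.Embedding.refl _)) (by norm_num) (fun _ => hall _) (((((LB_zero T ((skipEmb 2).trans (Function.Embedding.refl _))).upd 0 3 2 (le_of_eq hx04)).upd 2 3 1 (le_of_eq hx34)).upd 3 0 1 (le_of_eq hx40)).upd 3 2 3 (le_of_eq hx43)) ![1,0,1,2] (by decide) (by decide) 0 (by decide))
        · -- 34=(3,1)
          exact False.elim (cert_false T ((skipEmb 2).trans (Function.Embedding.refl _)) (by norm_num) (fun _ => hall _) (((((LB_zero T ((skipEmb 2).trans (Function.Embedding.refl _))).upd 0 3 2 (le_of_eq hx04)).upd 2 3 3 (le_of_eq hx34)).upd 3 0 1 (le_of_eq hx40)).upd 3 2 1 (le_of_eq hx43)) ![1,0,1,1] (by decide) (by decide) 0 (by decide))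
      · -- 24=(1,1)
        exact False.elim (cert_false T ((skipEmb 1).trans (Function.Embedding.refl _)) (by norm_num) (fun _ => hall _) (((((((LB_zero T ((skipEmb 1).trans (Function.Embedding.refl _))).upd 0 3 2 (le_of_eq hx04)).upd 1 2 1 (le_of_eq hx23)).upd 1 3 1 (le_of_eq hx24)).upd 2 1 2 (le_of_eq hx32)).upd 3 0 1 (le_of_eq hx40)).upd 3 1 1 (le_of_eq hx42)) ![1,1,1,1] (by decide) (by decide) 0 (by decide))
      · -- 24=(1,2)
        exact False.elim (cert_false T ((skipEmb 3).trans (Function.Embedding.refl _)) (by norm_num) (fun _ => hall _) (((((LB_zero T ((skipEmb 3).trans (Function.Embedding.refl _))).upd 0 3 2 (le_of_eq hx04)).upd 2 3 1 (le_of_eq hx24)).upd 3 0 1 (le_of_eq hx40)).upd 3 2 2 (le_of_eq hx42)) ![2,0,1,2] (by decide) (by decide) 0 (by decide))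
      · -- 24=(2,1)
        exact False.elim (cert_false T ((skipEmb 3).trans (Function.Embedding.refl _)) (by norm_num) (fun _ => hall _) (((((LB_zero T ((skipEmb 3).trans (Function.Embedding.refl _))).upd 0 3 2 (le_of_eq hx04)).upd 2 3 2 (le_of_eq hx24)).upd 3 0 1 (le_of_eq hx40)).upd 3 2 1 (le_of_eq hx42)) ![1,0,1,1] (by decide) (by decide) 0 (by decide))
      · -- 24=(1,3)
        exact False.elim (cert_false T ((skipEmb 3).trans (Function.Embedding.refl _)) (by norm_num) (fun _ => hall _) (((((LB_zero T ((skipEmb 3).trans (Function.Embedding.refl _))).upd 0 3 2 (le_of_eq hx04)).upd 2 3 1 (le_of_eq hx24)).upd 3 0 1 (le_of_eq hx40)).upd 3 2 3 (le_of_eq hx42)) ![1,0,1,2] (by decide) (by decide) 0 (by decide))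
      · -- 24=(3,1)
        exact False.elim (cert_false T ((skipEmb 3).trans (Function.Embedding.refl _)) (by norm_num) (fun _ => hall _) (((((LB_zero T ((skipEmb 3).trans (Function.Embedding.refl _))).upd 0 3 2 (le_of_eq hx04)).upd 2 3 3 (le_of_eq hx24)).upd 3 0 1 (le_of_eq hx40)).upd 3 2 1 (le_of_eq hx42)) ![1,0,1,1] (by decide) (by decide) 0 (by decide))
    · -- 14=(1,1)
      rcases d24 with ⟨rfl, rfl⟩ | ⟨rfl, rfl⟩ | ⟨rfl, rfl⟩ | ⟨rfl, rfl⟩ | ⟨rfl, rfl⟩ | ⟨rfl, rfl⟩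
      · -- 24=(0,0)
        rcases d34 with ⟨rfl, rfl⟩ | ⟨rfl, rfl⟩ | ⟨rfl, rfl⟩ | ⟨rfl, rfl⟩ | ⟨rfl, rfl⟩ | ⟨rfl, rfl⟩
        · -- 34=(0,0)
          exfalso; omega
        · -- 34=(1,1)
          exact False.elim (cert_false T ((skipEmb 2).trans (Function.Embedding.refl _)) (by norm_num) (fun _ => hall _) (((((((LB_zero T ((skipEmb 2).trans (Function.Embedding.refl _))).upd 0 3 2 (le_of_eq hx04)).upd 1 3 1 (le_of_eq hx14)).upd 2 3 1 (le_of_eq hx34)).upd 3 0 1 (le_of_eq hx40)).upd 3 1 1 (le_of_eq hx41)).upd 3 2 1 (le_of_eq hx43)) ![2,1,1,2] (by decide) (by decide) 0 (by decide))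
        · -- 34=(1,2)
          exact False.elim (cert_false T ((skipEmb 2).trans (Function.Embedding.refl _)) (by norm_num) (fun _ => hall _) (((((((LB_zero T ((skipEmb 2).trans (Function.Embedding.refl _))).upd 0 3 2 (le_of_eq hx04)).upd 1 3 1 (le_of_eq hx14)).upd 2 3 1 (le_of_eq hx34)).upd 3 0 1 (le_of_eq hx40)).upd 3 1 1 (le_of_eq hx41)).upd 3 2 2 (le_of_eq hx43)) ![1,1,1,2] (by decide) (by decide) 0 (by decide))
        · -- 34=(2,1)
          exact False.elim (cert_false T ((skipEmb 2).trans (Function.Embedding.refl _)) (by norm_num) (fun _ => hall _) (((((LB_zero T ((skipEmb 2).trans (Function.Embedding.refl _))).upd 0 3 2 (le_of_eq hx04)).upd 2 3 2 (le_of_eq hx34)).upd 3 0 1 (le_of_eq hx40)).upd 3 2 1 (le_of_eq hx43)) ![1,0,1,1] (by decide) (by decide) 0 (by decide))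
        · -- 34=(1,3)
          exact False.elim (cert_false T ((skipEmb 2).trans (Function.Embedding.refl _)) (by norm_num) (fun _ => hall _) (((((LB_zero T ((skipEmb 2).trans (Function.Embedding.refl _))).upd 1 3 1 (le_of_eq hx14)).upd 2 3 1 (le_of_eq hx34)).upd 3 1 1 (le_of_eq hx41)).upd 3 2 3 (le_of_eq hx43)) ![0,1,1,2] (by decide) (by decide) 1 (by decide))
        · -- 34=(3,1)
          exact False.elim (cert_false T ((skipEmb 2).trans (Function.Embedding.refl _)) (by norm_num) (fun _ => hall _) (((((LB_zero T ((skipEmb 2).trans (Function.Embedding.refl _))).upd 0 3 2 (le_of_eq hx04)).upd 2 3 3 (le_of_eq hx34)).upd 3 0 1 (le_of_eq hx40)).upd 3 2 1 (le_of_eq hx43)) ![1,0,1,1] (by decide) (by decide) 0 (by decide))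
      · -- 24=(1,1)
        exact False.elim (cert_false T ((skipEmb 3).trans (Function.Embedding.refl _)) (by norm_num) (fun _ => hall _) (((((((LB_zero T ((skipEmb 3).trans (Function.Embedding.refl _))).upd 0 3 2 (le_of_eq hx04)).upd 1 3 1 (le_of_eq hx14)).upd 2 3 1 (le_of_eq hx24)).upd 3 0 1 (le_of_eq hx40)).upd 3 1 1 (le_of_eq hx41)).upd 3 2 1 (le_of_eq hx42)) ![2,1,1,2] (by decide) (by decide) 0 (by decide))
      · -- 24=(1,2)
        exact False.elim (cert_false T ((skipEmb 3).trans (Function.Embedding.refl _)) (by norm_num) (fun _ => hall _) (((((((LB_zero T ((skipEmb 3).trans (Function.Embedding.refl _))).upd 0 3 2 (le_of_eq hx04)).upd 1 3 1 (le_of_eq hx14)).upd 2 3 1 (le_of_eq hx24)).upd 3 0 1 (le_of_eq hx40)).upd 3 1 1 (le_of_eq hx41)).upd 3 2 2 (le_of_eq hx42)) ![1,1,1,2] (by decide) (by decide) 0 (by decide))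
      · -- 24=(2,1)
        exact False.elim (cert_false T ((skipEmb 3).trans (Function.Embedding.refl _)) (by norm_num) (fun _ => hall _) (((((LB_zero T ((skipEmb 3).trans (Function.Embedding.refl _))).upd 0 3 2 (le_of_eq hx04)).upd 2 3 2 (le_of_eq hx24)).upd 3 0 1 (le_of_eq hx40)).upd 3 2 1 (le_of_eq hx42)) ![1,0,1,1] (by decide) (by decide) 0 (by decide))
      · -- 24=(1,3)
        exact False.elim (cert_false T ((skipEmb 3).trans (Function.Embedding.refl _)) (by norm_num) (fun _ => hall _) (((((LB_zero T ((skipEmb 3).trans (Function.Embedding.refl _))).upd 1 3 1 (le_of_eq hx14)).upd 2 3 1 (le_of_eq hx24)).upd 3 1 1 (le_of_eq hx41)).upd 3 2 3 (le_of_eq hx42)) ![0,1,1,2] (by decide) (by decide) 1 (by decide))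
      · -- 24=(3,1)
        exact False.elim (cert_false T ((skipEmb 3).trans (Function.Embedding.refl _)) (by norm_num) (fun _ => hall _) (((((LB_zero T ((skipEmb 3).trans (Function.Embedding.refl _))).upd 0 3 2 (le_of_eq hx04)).upd 2 3 3 (le_of_eq hx24)).upd 3 0 1 (le_of_eq hx40)).upd 3 2 1 (le_of_eq hx42)) ![1,0,1,1] (by decide) (by decide) 0 (by decide))
    · -- 14=(1,2)
      exact False.elim (cert_false T ((skipEmb 3).trans (Function.Embedding.refl _)) (by norm_num) (fun _ => hall _) (((((LB_zero T ((skipEmb 3).trans (Function.Embedding.refl _))).upd 0 3 2 (le_of_eq hx04)).upd 1 3 1 (le_of_eq hx14)).upd 3 0 1 (le_of_eq hx40)).upd 3 1 2 (le_of_eq hx41)) ![2,1,0,2] (by decide) (by decide) 0 (by decide))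
    · -- 14=(2,1)
      exact False.elim (cert_false T ((skipEmb 3).trans (Function.Embedding.refl _)) (by norm_num) (fun _ => hall _) (((((LB_zero T ((skipEmb 3).trans (Function.Embedding.refl _))).upd 0 3 2 (le_of_eq hx04)).upd 1 3 2 (le_of_eq hx14)).upd 3 0 1 (le_of_eq hx40)).upd 3 1 1 (le_of_eq hx41)) ![1,1,0,1] (by decide) (by decide) 0 (by decide))
    · -- 14=(1,3)
      exact False.elim (cert_false T ((skipEmb 3).trans (Function.Embedding.refl _)) (by norm_num) (fun _ => hall _) (((((LB_zero T ((skipEmb 3).trans (Function.Embedding.refl _))).upd 0 3 2 (le_of_eq hx04)).upd 1 3 1 (le_of_eq hx14)).upd 3 0 1 (le_of_eq hx40)).upd 3 1 3 (le_of_eq hx41)) ![1,1,0,2] (by decide) (by decide) 0 (by decide))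
    · -- 14=(3,1)
      exact False.elim (cert_false T ((skipEmb 3).trans (Function.Embedding.refl _)) (by norm_num) (fun _ => hall _) (((((LB_zero T ((skipEmb 3).trans (Function.Embedding.refl _))).upd 0 3 2 (le_of_eq hx04)).upd 1 3 3 (le_of_eq hx14)).upd 3 0 1 (le_of_eq hx40)).upd 3 1 1 (le_of_eq hx41)) ![1,1,0,1] (by decide) (by decide) 0 (by decide))
  · -- 04=(1,3)
    rcases d14 with ⟨rfl, rfl⟩ | ⟨rfl, rfl⟩ | ⟨rfl, rfl⟩ | ⟨rfl, rfl⟩ | ⟨rfl, rfl⟩ | ⟨rfl, rfl⟩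
    · -- 14=(0,0)
      rcases d24 with ⟨rfl, rfl⟩ | ⟨rfl, rfl⟩ | ⟨rfl, rfl⟩ | ⟨rfl, rfl⟩ | ⟨rfl, rfl⟩ | ⟨rfl, rfl⟩
      · -- 24=(0,0)
        rcases d34 with ⟨rfl, rfl⟩ | ⟨rfl, rfl⟩ | ⟨rfl, rfl⟩ | ⟨rfl, rfl⟩ | ⟨rfl, rfl⟩ | ⟨rfl, rfl⟩
        · -- 34=(0,0)
          exfalso; omega
        · -- 34=(1,1)
          exact False.elim (cert_false T ((skipEmb 2).trans (Function.Embedding.refl _)) (by norm_num) (fun _ => hall _) (((((LB_zero T ((skipEmb 2).trans (Function.Embedding.refl _))).upd 0 3 1 (le_of_eq hx04)).upd 2 3 1 (le_of_eq hx34)).upd 3 0 3 (le_of_eq hx40)).upd 3 2 1 (le_of_eq hx43)) ![1,0,1,2] (by decide) (by decide) 0 (by decide))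
        · -- 34=(1,2)
          exact False.elim (cert_false T ((skipEmb 2).trans (Function.Embedding.refl _)) (by norm_num) (fun _ => hall _) (((((LB_zero T ((skipEmb 2).trans (Function.Embedding.refl _))).upd 0 3 1 (le_of_eq hx04)).upd 2 3 1 (le_of_eq hx34)).upd 3 0 3 (le_of_eq hx40)).upd 3 2 2 (le_of_eq hx43)) ![1,0,1,2] (by decide) (by decide) 0 (by decide))
        · -- 34=(2,1)
          exact False.elim (cert_false T ((skipEmb 2).trans (Function.Embedding.refl _)) (by norm_num) (fun _ => hall _) (((((LB_zero T ((skipEmb 2).trans (Function.Embedding.refl _))).upd 0 3 1 (le_of_eq hx04)).upd 2 3 2 (le_of_eq hx34)).upd 3 0 3 (le_of_eq hx40)).upd 3 2 1 (le_of_eq hx43)) ![1,0,1,2] (by decide) (by decide) 0 (by decide))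
        · -- 34=(1,3)
          exact False.elim (cert_false T ((skipEmb 2).trans (Function.Embedding.refl _)) (by norm_num) (fun _ => hall _) (((((LB_zero T ((skipEmb 2).trans (Function.Embedding.refl _))).upd 0 3 1 (le_of_eq hx04)).upd 2 3 1 (le_of_eq hx34)).upd 3 0 3 (le_of_eq hx40)).upd 3 2 3 (le_of_eq hx43)) ![1,0,1,2] (by decide) (by decide) 0 (by decide))
        · -- 34=(3,1)
          exact False.elim (cert_false T ((skipEmb 2).trans (Function.Embedding.refl _)) (by norm_num) (fun _ => hall _) (((((LB_zero T ((skipEmb 2).trans (Function.Embedding.refl _))).upd 0 3 1 (le_of_eq hx04)).upd 2 3 3 (le_of_eq hx34)).upd 3 0 3 (le_of_eq hx40)).upd 3 2 1 (le_of_eq hx43)) ![1,0,1,2] (by decide) (by decide) 0 (by decide))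
      · -- 24=(1,1)
        exact False.elim (cert_false T ((skipEmb 3).trans (Function.Embedding.refl _)) (by norm_num) (fun _ => hall _) (((((LB_zero T ((skipEmb 3).trans (Function.Embedding.refl _))).upd 0 3 1 (le_of_eq hx04)).upd 2 3 1 (le_of_eq hx24)).upd 3 0 3 (le_of_eq hx40)).upd 3 2 1 (le_of_eq hx42)) ![1,0,1,2] (by decide) (by decide) 0 (by decide))
      · -- 24=(1,2)
        exact False.elim (cert_false T ((skipEmb 3).trans (Function.Embedding.refl _)) (by norm_num) (fun _ => hall _) (((((LB_zero T ((skipEmb 3).trans (Function.Embedding.refl _))).upd 0 3 1 (le_of_eq hx04)).upd 2 3 1 (le_of_eq hx24)).upd 3 0 3 (le_of_eq hx40)).upd 3 2 2 (le_of_eq hx42)) ![1,0,1,2] (by decide) (by decide) 0 (by decide))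
      · -- 24=(2,1)
        exact False.elim (cert_false T ((skipEmb 3).trans (Function.Embedding.refl _)) (by norm_num) (fun _ => hall _) (((((LB_zero T ((skipEmb 3).trans (Function.Embedding.refl _))).upd 0 3 1 (le_of_eq hx04)).upd 2 3 2 (le_of_eq hx24)).upd 3 0 3 (le_of_eq hx40)).upd 3 2 1 (le_of_eq hx42)) ![1,0,1,2] (by decide) (by decide) 0 (by decide))
      · -- 24=(1,3)
        exact False.elim (cert_false T ((skipEmb 3).trans (Function.Embedding.refl _)) (by norm_num) (fun _ => hall _) (((((LB_zero T ((skipEmb 3).trans (Function.Embedding.refl _))).upd 0 3 1 (le_of_eq hx04)).upd 2 3 1 (le_of_eq hx24)).upd 3 0 3 (le_of_eq hx40)).upd 3 2 3 (le_of_eq hx42)) ![1,0,1,2] (by decide) (by decide) 0 (by decide))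
      · -- 24=(3,1)
        exact False.elim (cert_false T ((skipEmb 3).trans (Function.Embedding.refl _)) (by norm_num) (fun _ => hall _) (((((LB_zero T ((skipEmb 3).trans (Function.Embedding.refl _))).upd 0 3 1 (le_of_eq hx04)).upd 2 3 3 (le_of_eq hx24)).upd 3 0 3 (le_of_eq hx40)).upd 3 2 1 (le_of_eq hx42)) ![1,0,1,2] (by decide) (by decide) 0 (by decide))
    · -- 14=(1,1)
      exact False.elim (cert_false T ((skipEmb 3).trans (Function.Embedding.refl _)) (by norm_num) (fun _ => hall _) (((((LB_zero T ((skipEmb 3).trans (Function.Embedding.refl _))).upd 0 3 1 (le_of_eq hx04)).upd 1 3 1 (le_of_eq hx14)).upd 3 0 3 (le_of_eq hx40)).upd 3 1 1 (le_of_eq hx41)) ![1,1,0,2] (by decide) (by decide) 0 (by decide))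
    · -- 14=(1,2)
      exact False.elim (cert_false T ((skipEmb 3).trans (Function.Embedding.refl _)) (by norm_num) (fun _ => hall _) (((((LB_zero T ((skipEmb 3).trans (Function.Embedding.refl _))).upd 0 3 1 (le_of_eq hx04)).upd 1 3 1 (le_of_eq hx14)).upd 3 0 3 (le_of_eq hx40)).upd 3 1 2 (le_of_eq hx41)) ![1,1,0,2] (by decide) (by decide) 0 (by decide))
    · -- 14=(2,1)
      exact False.elim (cert_false T ((skipEmb 3).trans (Function.Embedding.refl _)) (by norm_num) (fun _ => hall _) (((((LB_zero T ((skipEmb 3).trans (Function.Embedding.refl _))).upd 0 3 1 (le_of_eq hx04)).upd 1 3 2 (le_of_eq hx14)).upd 3 0 3 (le_of_eq hx40)).upd 3 1 1 (le_of_eq hx41)) ![1,1,0,2] (by decide) (by decide) 0 (by decide))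
    · -- 14=(1,3)
      exact False.elim (cert_false T ((skipEmb 3).trans (Function.Embedding.refl _)) (by norm_num) (fun _ => hall _) (((((LB_zero T ((skipEmb 3).trans (Function.Embedding.refl _))).upd 0 3 1 (le_of_eq hx04)).upd 1 3 1 (le_of_eq hx14)).upd 3 0 3 (le_of_eq hx40)).upd 3 1 3 (le_of_eq hx41)) ![1,1,0,2] (by decide) (by decide) 0 (by decide))
    · -- 14=(3,1)
      exact False.elim (cert_false T ((skipEmb 3).trans (Function.Embedding.refl _)) (by norm_num) (fun _ => hall _) (((((LB_zero T ((skipEmb 3).trans (Function.Embedding.refl _))).upd 0 3 1 (le_of_eq hx04)).upd 1 3 3 (le_of_eq hx14)).upd 3 0 3 (le_of_eq hx40)).upd 3 1 1 (le_of_eq hx41)) ![1,1,0,2] (by decide) (by decide) 0 (by decide))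
  · -- 04=(3,1)
    rcases d14 with ⟨rfl, rfl⟩ | ⟨rfl, rfl⟩ | ⟨rfl, rfl⟩ | ⟨rfl, rfl⟩ | ⟨rfl, rfl⟩ | ⟨rfl, rfl⟩
    · -- 14=(0,0)
      rcases d24 with ⟨rfl, rfl⟩ | ⟨rfl, rfl⟩ | ⟨rfl, rfl⟩ | ⟨rfl, rfl⟩ | ⟨rfl, rfl⟩ | ⟨rfl, rfl⟩
      · -- 24=(0,0)
        rcases d34 with ⟨rfl, rfl⟩ | ⟨rfl, rfl⟩ | ⟨rfl, rfl⟩ | ⟨rfl, rfl⟩ | ⟨rfl, rfl⟩ | ⟨rfl, rfl⟩
        · -- 34=(0,0)
          exfalso; omega
        · -- 34=(1,1)
          exact False.elim (cert_false T ((skipEmb 2).trans (Function.Embedding.refl _)) (by norm_num) (fun _ => hall _) (((((LB_zero T ((skipEmb 2).trans (Function.Embedding.refl _))).upd 0 3 3 (le_of_eq hx04)).upd 2 3 1 (le_of_eq hx34)).upd 3 0 1 (le_of_eq hx40)).upd 3 2 1 (le_of_eq hx43)) ![3,0,1,2] (by decide) (by decide) 0 (by decide))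
        · -- 34=(1,2)
          exact False.elim (cert_false T ((skipEmb 2).trans (Function.Embedding.refl _)) (by norm_num) (fun _ => hall _) (((((LB_zero T ((skipEmb 2).trans (Function.Embedding.refl _))).upd 0 3 3 (le_of_eq hx04)).upd 2 3 1 (le_of_eq hx34)).upd 3 0 1 (le_of_eq hx40)).upd 3 2 2 (le_of_eq hx43)) ![2,0,1,2] (by decide) (by decide) 0 (by decide))
        · -- 34=(2,1)
          exact False.elim (cert_false T ((skipEmb 2).trans (Function.Embedding.refl _)) (by norm_num) (fun _ => hall _) (((((LB_zero T ((skipEmb 2).trans (Function.Embedding.refl _))).upd 0 3 3 (le_of_eq hx04)).upd 2 3 2 (le_of_eq hx34)).upd 3 0 1 (le_of_eq hx40)).upd 3 2 1 (le_of_eq hx43)) ![1,0,1,1] (by decide) (by decide) 0 (by decide))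
        · -- 34=(1,3)
          exact False.elim (cert_false T ((skipEmb 2).trans (Function.Embedding.refl _)) (by norm_num) (fun _ => hall _) (((((LB_zero T ((skipEmb 2).trans (Function.Embedding.refl _))).upd 0 3 3 (le_of_eq hx04)).upd 2 3 1 (le_of_eq hx34)).upd 3 0 1 (le_of_eq hx40)).upd 3 2 3 (le_of_eq hx43)) ![1,0,1,2] (by decide) (by decide) 0 (by decide))
        · -- 34=(3,1)
          exact False.elim (cert_false T ((skipEmb 2).trans (Function.Embedding.refl _)) (by norm_num) (fun _ => hall _) (((((LB_zero T ((skipEmb 2).trans (Function.Embedding.refl _))).upd 0 3 3 (le_of_eq hx04)).upd 2 3 3 (le_of_eq hx34)).upd 3 0 1 (le_of_eq hx40)).upd 3 2 1 (le_of_eq hx43)) ![1,0,1,1] (by decide) (by decide) 0 (by decide))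
      · -- 24=(1,1)
        exact False.elim (cert_false T ((skipEmb 3).trans (Function.Embedding.refl _)) (by norm_num) (fun _ => hall _) (((((LB_zero T ((skipEmb 3).trans (Function.Embedding.refl _))).upd 0 3 3 (le_of_eq hx04)).upd 2 3 1 (le_of_eq hx24)).upd 3 0 1 (le_of_eq hx40)).upd 3 2 1 (le_of_eq hx42)) ![3,0,1,2] (by decide) (by decide) 0 (by decide))
      · -- 24=(1,2)
        exact False.elim (cert_false T ((skipEmb 3).trans (Function.Embedding.refl _)) (by norm_num) (fun _ => hall _) (((((LB_zero T ((skipEmb 3).trans (Function.Embedding.refl _))).upd 0 3 3 (le_of_eq hx04)).upd 2 3 1 (le_of_eq hx24)).upd 3 0 1 (le_of_eq hx40)).upd 3 2 2 (le_of_eq hx42)) ![2,0,1,2] (by decide) (by decide) 0 (by decide))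
      · -- 24=(2,1)
        exact False.elim (cert_false T ((skipEmb 3).trans (Function.Embedding.refl _)) (by norm_num) (fun _ => hall _) (((((LB_zero T ((skipEmb 3).trans (Function.Embedding.refl _))).upd 0 3 3 (le_of_eq hx04)).upd 2 3 2 (le_of_eq hx24)).upd 3 0 1 (le_of_eq hx40)).upd 3 2 1 (le_of_eq hx42)) ![1,0,1,1] (by decide) (by decide) 0 (by decide))
      · -- 24=(1,3)
        exact False.elim (cert_false T ((skipEmb 3).trans (Function.Embedding.refl _)) (by norm_num) (fun _ => hall _) (((((LB_zero T ((skipEmb 3).trans (Function.Embedding.refl _))).upd 0 3 3 (le_of_eq hx04)).upd 2 3 1 (le_of_eq hx24)).upd 3 0 1 (le_of_eq hx40)).upd 3 2 3 (le_of_eq hx42)) ![1,0,1,2] (by decide) (by decide) 0 (by decide))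
      · -- 24=(3,1)
        exact False.elim (cert_false T ((skipEmb 3).trans (Function.Embedding.refl _)) (by norm_num) (fun _ => hall _) (((((LB_zero T ((skipEmb 3).trans (Function.Embedding.refl _))).upd 0 3 3 (le_of_eq hx04)).upd 2 3 3 (le_of_eq hx24)).upd 3 0 1 (le_of_eq hx40)).upd 3 2 1 (le_of_eq hx42)) ![1,0,1,1] (by decide) (by decide) 0 (by decide))
    · -- 14=(1,1)
      exact False.elim (cert_false T ((skipEmb 3).trans (Function.Embedding.refl _)) (by norm_num) (fun _ => hall _) (((((LB_zero T ((skipEmb 3).trans (Function.Embedding.refl _))).upd 0 3 3 (le_of_eq hx04)).upd 1 3 1 (le_of_eq hx14)).upd 3 0 1 (le_of_eq hx40)).upd 3 1 1 (le_of_eq hx41)) ![3,1,0,2] (by decide) (by decide) 0 (by decide))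
    · -- 14=(1,2)
      exact False.elim (cert_false T ((skipEmb 3).trans (Function.Embedding.refl _)) (by norm_num) (fun _ => hall _) (((((LB_zero T ((skipEmb 3).trans (Function.Embedding.refl _))).upd 0 3 3 (le_of_eq hx04)).upd 1 3 1 (le_of_eq hx14)).upd 3 0 1 (le_of_eq hx40)).upd 3 1 2 (le_of_eq hx41)) ![2,1,0,2] (by decide) (by decide) 0 (by decide))
    · -- 14=(2,1)
      exact False.elim (cert_false T ((skipEmb 3).trans (Function.Embedding.refl _)) (by norm_num) (fun _ => hall _) (((((LB_zero T ((skipEmb 3).trans (Function.Embedding.refl _))).upd 0 3 3 (le_of_eq hx04)).upd 1 3 2 (le_of_eq hx14)).upd 3 0 1 (le_of_eq hx40)).upd 3 1 1 (le_of_eq hx41)) ![1,1,0,1] (by decide) (by decide) 0 (by decide))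
    · -- 14=(1,3)
      exact False.elim (cert_false T ((skipEmb 3).trans (Function.Embedding.refl _)) (by norm_num) (fun _ => hall _) (((((LB_zero T ((skipEmb 3).trans (Function.Embedding.refl _))).upd 0 3 3 (le_of_eq hx04)).upd 1 3 1 (le_of_eq hx14)).upd 3 0 1 (le_of_eq hx40)).upd 3 1 3 (le_of_eq hx41)) ![1,1,0,2] (by decide) (by decide) 0 (by decide))
    · -- 14=(3,1)
      exact False.elim (cert_false T ((skipEmb 3).trans (Function.Embedding.refl _)) (by norm_num) (fun _ => hall _) (((((LB_zero T ((skipEmb 3).trans (Function.Embedding.refl _))).upd 0 3 3 (le_of_eq hx04)).upd 1 3 3 (le_of_eq hx14)).upd 3 0 1 (le_of_eq hx40)).upd 3 1 1 (le_of_eq hx41)) ![1,1,0,1] (by decide) (by decide) 0 (by decide))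

theorem case15 (T : NumericalType 5) (hall : ∀ i, T.IsMinusTwo i) (d : SData T)
    (h01 : N T (Function.Embedding.refl _) 0 1 = 0) (h10 : N T (Function.Embedding.refl _) 1 0 = 0)
    (h02 : N T (Function.Embedding.refl _) 0 2 = 0) (h20 : N T (Function.Embedding.refl _) 2 0 = 0)
    (h12 : N T (Function.Embedding.refl _) 1 2 = 0) (h21 : N T (Function.Embedding.refl _) 2 1 = 0)
    (h03 : N T (Function.Embedding.refl _) 0 3 = 0) (h30 : N T (Function.Embedding.refl _) 3 0 = 0)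
    (h13 : N T (Function.Embedding.refl _) 1 3 = 0) (h31 : N T (Function.Embedding.refl _) 3 1 = 0)
    (h23 : N T (Function.Embedding.refl _) 2 3 = 2) (h32 : N T (Function.Embedding.refl _) 3 2 = 1)
    (h04 : N T (Function.Embedding.refl _) 0 4 = 0) (h40 : N T (Function.Embedding.refl _) 4 0 = 0) :
    Goal T := by
  unfold Goal
  have hd := d
  obtain ⟨x01, x02, x03, x04, x10, x12, x13, x14, x20, x21, x23, x24, x30, x31, x32, x34, x40, x41, x42, x43, hx01, hx02, hx03, hx04, hx10, hx12, hx13, hx14, hx20, hx21, hx23, hx24, hx30, hx31, hx32, hx34, hx40, hx41, hx42, hx43, hw0, hm0, hw1, hm1, hw2, hm2, hw3, hm3, hw4, hm4, a00, a01, a02, a03, a04, a11, a10, a12, a13, a14, a22, a20, a21, a23, a24, a33, a30, a31, a32, a34, a44, a40, a41, a42, a43, wN01, wN02, wN12, wN03, wN13, wN23, wN04, wN14, wN24, wN34, e0, e1, e2, e3, e4, d01, d02, d12, d03, d13, d23, d04, d14, d24, d34⟩ := d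
  obtain rfl : x01 = 0 := hx01.trans h01
  obtain rfl : x10 = 0 := hx10.trans h10
  obtain rfl : x02 = 0 := hx02.trans h02
  obtain rfl : x20 = 0 := hx20.trans h20
  obtain rfl : x12 = 0 := hx12.trans h12
  obtain rfl : x21 = 0 := hx21.trans h21
  obtain rfl : x03 = 0 := hx03.trans h03
  obtain rfl : x30 = 0 := hx30.trans h30
  obtain rfl : x13 = 0 := hx13.trans h13
  obtain rfl : x31 = 0 := hx31.trans h31
  obtain rfl : x23 = 2 := hx23.trans h23
  obtain rfl : x32 = 1 := hx32.trans h32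
  obtain rfl : x04 = 0 := hx04.trans h04
  obtain rfl : x40 = 0 := hx40.trans h40
  rcases d14 with ⟨rfl, rfl⟩ | ⟨rfl, rfl⟩ | ⟨rfl, rfl⟩ | ⟨rfl, rfl⟩ | ⟨rfl, rfl⟩ | ⟨rfl, rfl⟩
  · -- 14=(0,0)
    rcases d24 with ⟨rfl, rfl⟩ | ⟨rfl, rfl⟩ | ⟨rfl, rfl⟩ | ⟨rfl, rfl⟩ | ⟨rfl, rfl⟩ | ⟨rfl, rfl⟩
    · -- 24=(0,0)
      rcases d34 with ⟨rfl, rfl⟩ | ⟨rfl, rfl⟩ | ⟨rfl, rfl⟩ | ⟨rfl, rfl⟩ | ⟨rfl, rfl⟩ | ⟨rfl, rfl⟩
      · -- 34=(0,0)
        exfalso; omega
      · -- 34=(1,1)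
        exfalso; omega
      · -- 34=(1,2)
        exact False.elim (cert_false T ((skipEmb 1).trans (Function.Embedding.refl _)) (by norm_num) (fun _ => hall _) (((((LB_zero T ((skipEmb 1).trans (Function.Embedding.refl _))).upd 1 2 2 (le_of_eq hx23)).upd 2 1 1 (le_of_eq hx32)).upd 2 3 1 (le_of_eq hx34)).upd 3 2 2 (le_of_eq hx43)) ![0,1,1,1] (by decide) (by decide) 1 (by decide))
      · -- 34=(2,1)
        exact False.elim (cert_false T ((skipEmb 1).trans (Function.Embedding.refl _)) (by norm_num) (fun _ => hall _) (((((LB_zero T ((skipEmb 1).trans (Function.Embedding.refl _))).upd 1 2 2 (le_of_eq hx23)).upd 2 1 1 (le_of_eq hx32)).upd 2 3 2 (le_of_eq hx34)).upd 3 2 1 (le_of_eq hx43)) ![0,2,2,1] (by decide) (by decide) 1 (by decide))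
      · -- 34=(1,3)
        exact False.elim (cert_false T ((skipEmb 1).trans (Function.Embedding.refl _)) (by norm_num) (fun _ => hall _) (((((LB_zero T ((skipEmb 1).trans (Function.Embedding.refl _))).upd 1 2 2 (le_of_eq hx23)).upd 2 1 1 (le_of_eq hx32)).upd 2 3 1 (le_of_eq hx34)).upd 3 2 3 (le_of_eq hx43)) ![0,1,1,1] (by decide) (by decide) 1 (by decide))
      · -- 34=(3,1)
        exact False.elim (cert_false T ((skipEmb 1).trans (Function.Embedding.refl _)) (by norm_num) (fun _ => hall _) (((((LB_zero T ((skipEmb 1).trans (Function.Embedding.refl _))).upd 1 2 2 (le_of_eq hx23)).upd 2 1 1 (le_of_eq hx32)).upd 2 3 3 (le_of_eq hx34)).upd 3 2 1 (le_of_eq hx43)) ![0,1,2,1] (by decide) (by decide) 1 (by decide))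
    · -- 24=(1,1)
      rcases d34 with ⟨rfl, rfl⟩ | ⟨rfl, rfl⟩ | ⟨rfl, rfl⟩ | ⟨rfl, rfl⟩ | ⟨rfl, rfl⟩ | ⟨rfl, rfl⟩
      · -- 34=(0,0)
        exfalso; omega
      · -- 34=(1,1)
        exact False.elim (cert_false T ((skipEmb 1).trans (Function.Embedding.refl _)) (by norm_num) (fun _ => hall _) (((((((LB_zero T ((skipEmb 1).trans (Function.Embedding.refl _))).upd 1 2 2 (le_of_eq hx23)).upd 1 3 1 (le_of_eq hx24)).upd 2 1 1 (le_of_eq hx32)).upd 2 3 1 (le_of_eq hx34)).upd 3 1 1 (le_of_eq hx42)).upd 3 2 1 (le_of_eq hx43)) ![0,1,1,1] (by decide) (by decide) 1 (by decide))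
      · -- 34=(1,2)
        exact False.elim (cert_false T ((skipEmb 1).trans (Function.Embedding.refl _)) (by norm_num) (fun _ => hall _) (((((((LB_zero T ((skipEmb 1).trans (Function.Embedding.refl _))).upd 1 2 2 (le_of_eq hx23)).upd 1 3 1 (le_of_eq hx24)).upd 2 1 1 (le_of_eq hx32)).upd 2 3 1 (le_of_eq hx34)).upd 3 1 1 (le_of_eq hx42)).upd 3 2 2 (le_of_eq hx43)) ![0,1,1,1] (by decide) (by decide) 1 (by decide))
      · -- 34=(2,1)
        exact False.elim (cert_false T ((skipEmb 1).trans (Function.Embedding.refl _)) (by norm_num) (fun _ => hall _) (((((((LB_zero T ((skipEmb 1).trans (Function.Embedding.refl _))).upd 1 2 2 (le_of_eq hx23)).upd 1 3 1 (le_of_eq hx24)).upd 2 1 1 (le_of_eq hx32)).upd 2 3 2 (le_of_eq hx34)).upd 3 1 1 (le_of_eq hx42)).upd 3 2 1 (le_of_eq hx43)) ![0,1,1,1] (by decide) (by decide) 1 (by decide))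
      · -- 34=(1,3)
        exact False.elim (cert_false T ((skipEmb 1).trans (Function.Embedding.refl _)) (by norm_num) (fun _ => hall _) (((((((LB_zero T ((skipEmb 1).trans (Function.Embedding.refl _))).upd 1 2 2 (le_of_eq hx23)).upd 1 3 1 (le_of_eq hx24)).upd 2 1 1 (le_of_eq hx32)).upd 2 3 1 (le_of_eq hx34)).upd 3 1 1 (le_of_eq hx42)).upd 3 2 3 (le_of_eq hx43)) ![0,1,1,1] (by decide) (by decide) 1 (by decide))
      · -- 34=(3,1)
        exact False.elim (cert_false T ((skipEmb 1).trans (Function.Embedding.refl _)) (by norm_num) (fun _ => hall _) (((((((LB_zero T ((skipEmb 1).trans (Function.Embedding.refl _))).upd 1 2 2 (le_of_eq hx23)).upd 1 3 1 (le_of_eq hx24)).upd 2 1 1 (le_of_eq hx32)).upd 2 3 3 (le_of_eq hx34)).upd 3 1 1 (le_of_eq hx42)).upd 3 2 1 (le_of_eq hx43)) ![0,1,1,1] (by decide) (by decide) 1 (by decide))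
    · -- 24=(1,2)
      exact False.elim (cert_false T ((skipEmb 1).trans (Function.Embedding.refl _)) (by norm_num) (fun _ => hall _) (((((LB_zero T ((skipEmb 1).trans (Function.Embedding.refl _))).upd 1 2 2 (le_of_eq hx23)).upd 1 3 1 (le_of_eq hx24)).upd 2 1 1 (le_of_eq hx32)).upd 3 1 2 (le_of_eq hx42)) ![0,2,1,2] (by decide) (by decide) 1 (by decide))
    · -- 24=(2,1)
      exact False.elim (cert_false T ((skipEmb 1).trans (Function.Embedding.refl _)) (by norm_num) (fun _ => hall _) (((((LB_zero T ((skipEmb 1).trans (Function.Embedding.refl _))).upd 1 2 2 (le_of_eq hx23)).upd 1 3 2 (le_of_eq hx24)).upd 2 1 1 (le_of_eq hx32)).upd 3 1 1 (le_of_eq hx42)) ![0,2,1,1] (by decide) (by decide) 1 (by decide))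
    · -- 24=(1,3)
      exact False.elim (cert_false T ((skipEmb 1).trans (Function.Embedding.refl _)) (by norm_num) (fun _ => hall _) (((((LB_zero T ((skipEmb 1).trans (Function.Embedding.refl _))).upd 1 2 2 (le_of_eq hx23)).upd 1 3 1 (le_of_eq hx24)).upd 2 1 1 (le_of_eq hx32)).upd 3 1 3 (le_of_eq hx42)) ![0,2,1,2] (by decide) (by decide) 1 (by decide))
    · -- 24=(3,1)
      exact False.elim (cert_false T ((skipEmb 1).trans (Function.Embedding.refl _)) (by norm_num) (fun _ => hall _) (((((LB_zero T ((skipEmb 1).trans (Function.Embedding.refl _))).upd 1 2 2 (le_of_eq hx23)).upd 1 3 3 (le_of_eq hx24)).upd 2 1 1 (le_of_eq hx32)).upd 3 1 1 (le_of_eq hx42)) ![0,2,1,1] (by decide) (by decide) 1 (by decide))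
  · -- 14=(1,1)
    rcases d24 with ⟨rfl, rfl⟩ | ⟨rfl, rfl⟩ | ⟨rfl, rfl⟩ | ⟨rfl, rfl⟩ | ⟨rfl, rfl⟩ | ⟨rfl, rfl⟩
    · -- 24=(0,0)
      rcases d34 with ⟨rfl, rfl⟩ | ⟨rfl, rfl⟩ | ⟨rfl, rfl⟩ | ⟨rfl, rfl⟩ | ⟨rfl, rfl⟩ | ⟨rfl, rfl⟩
      · -- 34=(0,0)
        exfalso; omega
      · -- 34=(1,1)
        exfalso; omega
      · -- 34=(1,2)
        exact False.elim (cert_false T ((skipEmb 1).trans (Function.Embedding.refl _)) (by norm_num) (fun _ => hall _) (((((LB_zero T ((skipEmb 1).trans (Function.Embedding.refl _))).upd 1 2 2 (le_of_eq hx23)).upd 2 1 1 (le_of_eq hx32)).upd 2 3 1 (le_of_eq hx34)).upd 3 2 2 (le_of_eq hx43)) ![0,1,1,1] (by decide) (by decide) 1 (by decide))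
      · -- 34=(2,1)
        exact False.elim (cert_false T ((skipEmb 1).trans (Function.Embedding.refl _)) (by norm_num) (fun _ => hall _) (((((LB_zero T ((skipEmb 1).trans (Function.Embedding.refl _))).upd 1 2 2 (le_of_eq hx23)).upd 2 1 1 (le_of_eq hx32)).upd 2 3 2 (le_of_eq hx34)).upd 3 2 1 (le_of_eq hx43)) ![0,2,2,1] (by decide) (by decide) 1 (by decide))
      · -- 34=(1,3)
        exact False.elim (cert_false T ((skipEmb 2).trans (Function.Embedding.refl _)) (by norm_num) (fun _ => hall _) (((((LB_zero T ((skipEmb 2).trans (Function.Embedding.refl _))).upd 1 3 1 (le_of_eq hx14)).upd 2 3 1 (le_of_eq hx34)).upd 3 1 1 (le_of_eq hx41)).upd 3 2 3 (le_of_eq hx43)) ![0,1,1,2] (by decide) (by decide) 1 (by decide))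
      · -- 34=(3,1)
        exact False.elim (cert_false T ((skipEmb 2).trans (Function.Embedding.refl _)) (by norm_num) (fun _ => hall _) (((((LB_zero T ((skipEmb 2).trans (Function.Embedding.refl _))).upd 1 3 1 (le_of_eq hx14)).upd 2 3 3 (le_of_eq hx34)).upd 3 1 1 (le_of_eq hx41)).upd 3 2 1 (le_of_eq hx43)) ![0,1,3,2] (by decide) (by decide) 1 (by decide))
    · -- 24=(1,1)
      rcases d34 with ⟨rfl, rfl⟩ | ⟨rfl, rfl⟩ | ⟨rfl, rfl⟩ | ⟨rfl, rfl⟩ | ⟨rfl, rfl⟩ | ⟨rfl, rfl⟩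
      · -- 34=(0,0)
        exfalso; omega
      · -- 34=(1,1)
        exact False.elim (cert_false T ((skipEmb 1).trans (Function.Embedding.refl _)) (by norm_num) (fun _ => hall _) (((((((LB_zero T ((skipEmb 1).trans (Function.Embedding.refl _))).upd 1 2 2 (le_of_eq hx23)).upd 1 3 1 (le_of_eq hx24)).upd 2 1 1 (le_of_eq hx32)).upd 2 3 1 (le_of_eq hx34)).upd 3 1 1 (le_of_eq hx42)).upd 3 2 1 (le_of_eq hx43)) ![0,1,1,1] (by decide) (by decide) 1 (by decide))
      · -- 34=(1,2)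
        exact False.elim (cert_false T ((skipEmb 1).trans (Function.Embedding.refl _)) (by norm_num) (fun _ => hall _) (((((((LB_zero T ((skipEmb 1).trans (Function.Embedding.refl _))).upd 1 2 2 (le_of_eq hx23)).upd 1 3 1 (le_of_eq hx24)).upd 2 1 1 (le_of_eq hx32)).upd 2 3 1 (le_of_eq hx34)).upd 3 1 1 (le_of_eq hx42)).upd 3 2 2 (le_of_eq hx43)) ![0,1,1,1] (by decide) (by decide) 1 (by decide))
      · -- 34=(2,1)
        exact False.elim (cert_false T ((skipEmb 1).trans (Function.Embedding.refl _)) (by norm_num) (fun _ => hall _) (((((((LB_zero T ((skipEmb 1).trans (Function.Embedding.refl _))).upd 1 2 2 (le_of_eq hx23)).upd 1 3 1 (le_of_eq hx24)).upd 2 1 1 (le_of_eq hx32)).upd 2 3 2 (le_of_eq hx34)).upd 3 1 1 (le_of_eq hx42)).upd 3 2 1 (le_of_eq hx43)) ![0,1,1,1] (by decide) (by decide) 1 (by decide))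
      · -- 34=(1,3)
        exact False.elim (cert_false T ((skipEmb 2).trans (Function.Embedding.refl _)) (by norm_num) (fun _ => hall _) (((((LB_zero T ((skipEmb 2).trans (Function.Embedding.refl _))).upd 1 3 1 (le_of_eq hx14)).upd 2 3 1 (le_of_eq hx34)).upd 3 1 1 (le_of_eq hx41)).upd 3 2 3 (le_of_eq hx43)) ![0,1,1,2] (by decide) (by decide) 1 (by decide))
      · -- 34=(3,1)
        exact False.elim (cert_false T ((skipEmb 2).trans (Function.Embedding.refl _)) (by norm_num) (fun _ => hall _) (((((LB_zero T ((skipEmb 2).trans (Function.Embedding.refl _))).upd 1 3 1 (le_of_eq hx14)).upd 2 3 3 (le_of_eq hx34)).upd 3 1 1 (le_of_eq hx41)).upd 3 2 1 (le_of_eq hx43)) ![0,1,3,2] (by decide) (by decide) 1 (by decide))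
    · -- 24=(1,2)
      exact False.elim (cert_false T ((skipEmb 1).trans (Function.Embedding.refl _)) (by norm_num) (fun _ => hall _) (((((LB_zero T ((skipEmb 1).trans (Function.Embedding.refl _))).upd 1 2 2 (le_of_eq hx23)).upd 1 3 1 (le_of_eq hx24)).upd 2 1 1 (le_of_eq hx32)).upd 3 1 2 (le_of_eq hx42)) ![0,2,1,2] (by decide) (by decide) 1 (by decide))
    · -- 24=(2,1)
      exact False.elim (cert_false T ((skipEmb 1).trans (Function.Embedding.refl _)) (by norm_num) (fun _ => hall _) (((((LB_zero T ((skipEmb 1).trans (Function.Embedding.refl _))).upd 1 2 2 (le_of_eq hx23)).upd 1 3 2 (le_of_eq hx24)).upd 2 1 1 (le_of_eq hx32)).upd 3 1 1 (le_of_eq hx42)) ![0,2,1,1] (by decide) (by decide) 1 (by decide))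
    · -- 24=(1,3)
      exact False.elim (cert_false T ((skipEmb 3).trans (Function.Embedding.refl _)) (by norm_num) (fun _ => hall _) (((((LB_zero T ((skipEmb 3).trans (Function.Embedding.refl _))).upd 1 3 1 (le_of_eq hx14)).upd 2 3 1 (le_of_eq hx24)).upd 3 1 1 (le_of_eq hx41)).upd 3 2 3 (le_of_eq hx42)) ![0,1,1,2] (by decide) (by decide) 1 (by decide))
    · -- 24=(3,1)
      exact False.elim (cert_false T ((skipEmb 3).trans (Function.Embedding.refl _)) (by norm_num) (fun _ => hall _) (((((LB_zero T ((skipEmb 3).trans (Function.Embedding.refl _))).upd 1 3 1 (le_of_eq hx14)).upd 2 3 3 (le_of_eq hx24)).upd 3 1 1 (le_of_eq hx41)).upd 3 2 1 (le_of_eq hx42)) ![0,1,3,2] (by decide) (by decide) 1 (by decide))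
  · -- 14=(1,2)
    rcases d24 with ⟨rfl, rfl⟩ | ⟨rfl, rfl⟩ | ⟨rfl, rfl⟩ | ⟨rfl, rfl⟩ | ⟨rfl, rfl⟩ | ⟨rfl, rfl⟩
    · -- 24=(0,0)
      rcases d34 with ⟨rfl, rfl⟩ | ⟨rfl, rfl⟩ | ⟨rfl, rfl⟩ | ⟨rfl, rfl⟩ | ⟨rfl, rfl⟩ | ⟨rfl, rfl⟩
      · -- 34=(0,0)
        exfalso; omega
      · -- 34=(1,1)
        exact False.elim (cert_false T ((skipEmb 0).trans (Function.Embedding.refl _)) (by norm_num) (fun _ => hall _) (((((((LB_zero T ((skipEmb 0).trans (Function.Embedding.refl _))).upd 0 3 1 (le_of_eq hx14)).upd 1 2 2 (le_of_eq hx23)).upd 2 1 1 (le_of_eq hx32)).upd 2 3 1 (le_of_eq hx34)).upd 3 0 2 (le_of_eq hx41)).upd 3 2 1 (le_of_eq hx43)) ![1,2,2,2] (by decide) (by decide) 0 (by decide))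
      · -- 34=(1,2)
        exact False.elim (cert_false T ((skipEmb 2).trans (Function.Embedding.refl _)) (by norm_num) (fun _ => hall _) (((((LB_zero T ((skipEmb 2).trans (Function.Embedding.refl _))).upd 1 3 1 (le_of_eq hx14)).upd 2 3 1 (le_of_eq hx34)).upd 3 1 2 (le_of_eq hx41)).upd 3 2 2 (le_of_eq hx43)) ![0,1,1,2] (by decide) (by decide) 1 (by decide))
      · -- 34=(2,1)
        exact False.elim (cert_false T ((skipEmb 2).trans (Function.Embedding.refl _)) (by norm_num) (fun _ => hall _) (((((LB_zero T ((skipEmb 2).trans (Function.Embedding.refl _))).upd 1 3 1 (le_of_eq hx14)).upd 2 3 2 (le_of_eq hx34)).upd 3 1 2 (le_of_eq hx41)).upd 3 2 1 (le_of_eq hx43)) ![0,1,2,2] (by decide) (by decide) 1 (by decide))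
      · -- 34=(1,3)
        exact False.elim (cert_false T ((skipEmb 2).trans (Function.Embedding.refl _)) (by norm_num) (fun _ => hall _) (((((LB_zero T ((skipEmb 2).trans (Function.Embedding.refl _))).upd 1 3 1 (le_of_eq hx14)).upd 2 3 1 (le_of_eq hx34)).upd 3 1 2 (le_of_eq hx41)).upd 3 2 3 (le_of_eq hx43)) ![0,1,1,2] (by decide) (by decide) 1 (by decide))
      · -- 34=(3,1)
        exact False.elim (cert_false T ((skipEmb 2).trans (Function.Embedding.refl _)) (by norm_num) (fun _ => hall _) (((((LB_zero T ((skipEmb 2).trans (Function.Embedding.refl _))).upd 1 3 1 (le_of_eq hx14)).upd 2 3 3 (le_of_eq hx34)).upd 3 1 2 (le_of_eq hx41)).upd 3 2 1 (le_of_eq hx43)) ![0,1,2,2] (by decide) (by decide) 1 (by decide))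
    · -- 24=(1,1)
      exact False.elim (cert_false T ((skipEmb 0).trans (Function.Embedding.refl _)) (by norm_num) (fun _ => hall _) (((((((LB_zero T ((skipEmb 0).trans (Function.Embedding.refl _))).upd 0 3 1 (le_of_eq hx14)).upd 1 2 2 (le_of_eq hx23)).upd 1 3 1 (le_of_eq hx24)).upd 2 1 1 (le_of_eq hx32)).upd 3 0 2 (le_of_eq hx41)).upd 3 1 1 (le_of_eq hx42)) ![1,2,1,2] (by decide) (by decide) 0 (by decide))
    · -- 24=(1,2)
      exact False.elim (cert_false T ((skipEmb 3).trans (Function.Embedding.refl _)) (by norm_num) (fun _ => hall _) (((((LB_zero T ((skipEmb 3).trans (Function.Embedding.refl _))).upd 1 3 1 (le_of_eq hx14)).upd 2 3 1 (le_of_eq hx24)).upd 3 1 2 (le_of_eq hx41)).upd 3 2 2 (le_of_eq hx42)) ![0,1,1,2] (by decide) (by decide) 1 (by decide))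
    · -- 24=(2,1)
      exact False.elim (cert_false T ((skipEmb 3).trans (Function.Embedding.refl _)) (by norm_num) (fun _ => hall _) (((((LB_zero T ((skipEmb 3).trans (Function.Embedding.refl _))).upd 1 3 1 (le_of_eq hx14)).upd 2 3 2 (le_of_eq hx24)).upd 3 1 2 (le_of_eq hx41)).upd 3 2 1 (le_of_eq hx42)) ![0,1,2,2] (by decide) (by decide) 1 (by decide))
    · -- 24=(1,3)
      exact False.elim (cert_false T ((skipEmb 3).trans (Function.Embedding.refl _)) (by norm_num) (fun _ => hall _) (((((LB_zero T ((skipEmb 3).trans (Function.Embedding.refl _))).upd 1 3 1 (le_of_eq hx14)).upd 2 3 1 (le_of_eq hx24)).upd 3 1 2 (le_of_eq hx41)).upd 3 2 3 (le_of_eq hx42)) ![0,1,1,2] (by decide) (by decide) 1 (by decide))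
    · -- 24=(3,1)
      exact False.elim (cert_false T ((skipEmb 3).trans (Function.Embedding.refl _)) (by norm_num) (fun _ => hall _) (((((LB_zero T ((skipEmb 3).trans (Function.Embedding.refl _))).upd 1 3 1 (le_of_eq hx14)).upd 2 3 3 (le_of_eq hx24)).upd 3 1 2 (le_of_eq hx41)).upd 3 2 1 (le_of_eq hx42)) ![0,1,2,2] (by decide) (by decide) 1 (by decide))
  · -- 14=(2,1)
    rcases d24 with ⟨rfl, rfl⟩ | ⟨rfl, rfl⟩ | ⟨rfl, rfl⟩ | ⟨rfl, rfl⟩ | ⟨rfl, rfl⟩ | ⟨rfl, rfl⟩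
    · -- 24=(0,0)
      rcases d34 with ⟨rfl, rfl⟩ | ⟨rfl, rfl⟩ | ⟨rfl, rfl⟩ | ⟨rfl, rfl⟩ | ⟨rfl, rfl⟩ | ⟨rfl, rfl⟩
      · -- 34=(0,0)
        exfalso; omega
      · -- 34=(1,1)
        exact False.elim (cert_false T ((skipEmb 0).trans (Function.Embedding.refl _)) (by norm_num) (fun _ => hall _) (((((((LB_zero T ((skipEmb 0).trans (Function.Embedding.refl _))).upd 0 3 2 (le_of_eq hx14)).upd 1 2 2 (le_of_eq hx23)).upd 2 1 1 (le_of_eq hx32)).upd 2 3 1 (le_of_eq hx34)).upd 3 0 1 (le_of_eq hx41)).upd 3 2 1 (le_of_eq hx43)) ![1,1,1,1] (by decide) (by decide) 0 (by decide))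
      · -- 34=(1,2)
        exact False.elim (cert_false T ((skipEmb 2).trans (Function.Embedding.refl _)) (by norm_num) (fun _ => hall _) (((((LB_zero T ((skipEmb 2).trans (Function.Embedding.refl _))).upd 1 3 2 (le_of_eq hx14)).upd 2 3 1 (le_of_eq hx34)).upd 3 1 1 (le_of_eq hx41)).upd 3 2 2 (le_of_eq hx43)) ![0,2,1,2] (by decide) (by decide) 1 (by decide))
      · -- 34=(2,1)
        exact False.elim (cert_false T ((skipEmb 2).trans (Function.Embedding.refl _)) (by norm_num) (fun _ => hall _) (((((LB_zero T ((skipEmb 2).trans (Function.Embedding.refl _))).upd 1 3 2 (le_of_eq hx14)).upd 2 3 2 (le_of_eq hx34)).upd 3 1 1 (le_of_eq hx41)).upd 3 2 1 (le_of_eq hx43)) ![0,1,1,1] (by decide) (by decide) 1 (by decide))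
      · -- 34=(1,3)
        exact False.elim (cert_false T ((skipEmb 2).trans (Function.Embedding.refl _)) (by norm_num) (fun _ => hall _) (((((LB_zero T ((skipEmb 2).trans (Function.Embedding.refl _))).upd 1 3 2 (le_of_eq hx14)).upd 2 3 1 (le_of_eq hx34)).upd 3 1 1 (le_of_eq hx41)).upd 3 2 3 (le_of_eq hx43)) ![0,1,1,2] (by decide) (by decide) 1 (by decide))
      · -- 34=(3,1)
        exact False.elim (cert_false T ((skipEmb 2).trans (Function.Embedding.refl _)) (by norm_num) (fun _ => hall _) (((((LB_zero T ((skipEmb 2).trans (Function.Embedding.refl _))).upd 1 3 2 (le_of_eq hx14)).upd 2 3 3 (le_of_eq hx34)).upd 3 1 1 (le_of_eq hx41)).upd 3 2 1 (le_of_eq hx43)) ![0,1,1,1] (by decide) (by decide) 1 (by decide))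
    · -- 24=(1,1)
      exact False.elim (cert_false T ((skipEmb 0).trans (Function.Embedding.refl _)) (by norm_num) (fun _ => hall _) (((((((LB_zero T ((skipEmb 0).trans (Function.Embedding.refl _))).upd 0 3 2 (le_of_eq hx14)).upd 1 2 2 (le_of_eq hx23)).upd 1 3 1 (le_of_eq hx24)).upd 2 1 1 (le_of_eq hx32)).upd 3 0 1 (le_of_eq hx41)).upd 3 1 1 (le_of_eq hx42)) ![2,2,1,2] (by decide) (by decide) 0 (by decide))
    · -- 24=(1,2)
      exact False.elim (cert_false T ((skipEmb 3).trans (Function.Embedding.refl _)) (by norm_num) (fun _ => hall _) (((((LB_zero T ((skipEmb 3).trans (Function.Embedding.refl _))).upd 1 3 2 (le_of_eq hx14)).upd 2 3 1 (le_of_eq hx24)).upd 3 1 1 (le_of_eq hx41)).upd 3 2 2 (le_of_eq hx42)) ![0,2,1,2] (by decide) (by decide) 1 (by decide))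
    · -- 24=(2,1)
      exact False.elim (cert_false T ((skipEmb 3).trans (Function.Embedding.refl _)) (by norm_num) (fun _ => hall _) (((((LB_zero T ((skipEmb 3).trans (Function.Embedding.refl _))).upd 1 3 2 (le_of_eq hx14)).upd 2 3 2 (le_of_eq hx24)).upd 3 1 1 (le_of_eq hx41)).upd 3 2 1 (le_of_eq hx42)) ![0,1,1,1] (by decide) (by decide) 1 (by decide))
    · -- 24=(1,3)
      exact False.elim (cert_false T ((skipEmb 3).trans (Function.Embedding.refl _)) (by norm_num) (fun _ => hall _) (((((LB_zero T ((skipEmb 3).trans (Function.Embedding.refl _))).upd 1 3 2 (le_of_eq hx14)).upd 2 3 1 (le_of_eq hx24)).upd 3 1 1 (le_of_eq hx41)).upd 3 2 3 (le_of_eq hx42)) ![0,1,1,2] (by decide) (by decide) 1 (by decide))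
    · -- 24=(3,1)
      exact False.elim (cert_false T ((skipEmb 3).trans (Function.Embedding.refl _)) (by norm_num) (fun _ => hall _) (((((LB_zero T ((skipEmb 3).trans (Function.Embedding.refl _))).upd 1 3 2 (le_of_eq hx14)).upd 2 3 3 (le_of_eq hx24)).upd 3 1 1 (le_of_eq hx41)).upd 3 2 1 (le_of_eq hx42)) ![0,1,1,1] (by decide) (by decide) 1 (by decide))
  · -- 14=(1,3)
    rcases d24 with ⟨rfl, rfl⟩ | ⟨rfl, rfl⟩ | ⟨rfl, rfl⟩ | ⟨rfl, rfl⟩ | ⟨rfl, rfl⟩ | ⟨rfl, rfl⟩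
    · -- 24=(0,0)
      rcases d34 with ⟨rfl, rfl⟩ | ⟨rfl, rfl⟩ | ⟨rfl, rfl⟩ | ⟨rfl, rfl⟩ | ⟨rfl, rfl⟩ | ⟨rfl, rfl⟩
      · -- 34=(0,0)
        exfalso; omega
      · -- 34=(1,1)
        exact False.elim (cert_false T ((skipEmb 2).trans (Function.Embedding.refl _)) (by norm_num) (fun _ => hall _) (((((LB_zero T ((skipEmb 2).trans (Function.Embedding.refl _))).upd 1 3 1 (le_of_eq hx14)).upd 2 3 1 (le_of_eq hx34)).upd 3 1 3 (le_of_eq hx41)).upd 3 2 1 (le_of_eq hx43)) ![0,1,1,2] (by decide) (by decide) 1 (by decide))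
      · -- 34=(1,2)
        exact False.elim (cert_false T ((skipEmb 2).trans (Function.Embedding.refl _)) (by norm_num) (fun _ => hall _) (((((LB_zero T ((skipEmb 2).trans (Function.Embedding.refl _))).upd 1 3 1 (le_of_eq hx14)).upd 2 3 1 (le_of_eq hx34)).upd 3 1 3 (le_of_eq hx41)).upd 3 2 2 (le_of_eq hx43)) ![0,1,1,2] (by decide) (by decide) 1 (by decide))
      · -- 34=(2,1)
        exact False.elim (cert_false T ((skipEmb 2).trans (Function.Embedding.refl _)) (by norm_num) (fun _ => hall _) (((((LB_zero T ((skipEmb 2).trans (Function.Embedding.refl _))).upd 1 3 1 (le_of_eq hx14)).upd 2 3 2 (le_of_eq hx34)).upd 3 1 3 (le_of_eq hx41)).upd 3 2 1 (le_of_eq hx43)) ![0,1,1,2] (by decide) (by decide) 1 (by decide))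
      · -- 34=(1,3)
        exact False.elim (cert_false T ((skipEmb 2).trans (Function.Embedding.refl _)) (by norm_num) (fun _ => hall _) (((((LB_zero T ((skipEmb 2).trans (Function.Embedding.refl _))).upd 1 3 1 (le_of_eq hx14)).upd 2 3 1 (le_of_eq hx34)).upd 3 1 3 (le_of_eq hx41)).upd 3 2 3 (le_of_eq hx43)) ![0,1,1,2] (by decide) (by decide) 1 (by decide))
      · -- 34=(3,1)
        exact False.elim (cert_false T ((skipEmb 2).trans (Function.Embedding.refl _)) (by norm_num) (fun _ => hall _) (((((LB_zero T ((skipEmb 2).trans (Function.Embedding.refl _))).upd 1 3 1 (le_of_eq hx14)).upd 2 3 3 (le_of_eq hx34)).upd 3 1 3 (le_of_eq hx41)).upd 3 2 1 (le_of_eq hx43)) ![0,1,1,2] (by decide) (by decide) 1 (by decide))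
    · -- 24=(1,1)
      exact False.elim (cert_false T ((skipEmb 3).trans (Function.Embedding.refl _)) (by norm_num) (fun _ => hall _) (((((LB_zero T ((skipEmb 3).trans (Function.Embedding.refl _))).upd 1 3 1 (le_of_eq hx14)).upd 2 3 1 (le_of_eq hx24)).upd 3 1 3 (le_of_eq hx41)).upd 3 2 1 (le_of_eq hx42)) ![0,1,1,2] (by decide) (by decide) 1 (by decide))
    · -- 24=(1,2)
      exact False.elim (cert_false T ((skipEmb 3).trans (Function.Embedding.refl _)) (by norm_num) (fun _ => hall _) (((((LB_zero T ((skipEmb 3).trans (Function.Embedding.refl _))).upd 1 3 1 (le_of_eq hx14)).upd 2 3 1 (le_of_eq hx24)).upd 3 1 3 (le_of_eq hx41)).upd 3 2 2 (le_of_eq hx42)) ![0,1,1,2] (by decide) (by decide) 1 (by decide))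
    · -- 24=(2,1)
      exact False.elim (cert_false T ((skipEmb 3).trans (Function.Embedding.refl _)) (by norm_num) (fun _ => hall _) (((((LB_zero T ((skipEmb 3).trans (Function.Embedding.refl _))).upd 1 3 1 (le_of_eq hx14)).upd 2 3 2 (le_of_eq hx24)).upd 3 1 3 (le_of_eq hx41)).upd 3 2 1 (le_of_eq hx42)) ![0,1,1,2] (by decide) (by decide) 1 (by decide))
    · -- 24=(1,3)
      exact False.elim (cert_false T ((skipEmb 3).trans (Function.Embedding.refl _)) (by norm_num) (fun _ => hall _) (((((LB_zero T ((skipEmb 3).trans (Function.Embedding.refl _))).upd 1 3 1 (le_of_eq hx14)).upd 2 3 1 (le_of_eq hx24)).upd 3 1 3 (le_of_eq hx41)).upd 3 2 3 (le_of_eq hx42)) ![0,1,1,2] (by decide) (by decide) 1 (by decide))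
    · -- 24=(3,1)
      exact False.elim (cert_false T ((skipEmb 3).trans (Function.Embedding.refl _)) (by norm_num) (fun _ => hall _) (((((LB_zero T ((skipEmb 3).trans (Function.Embedding.refl _))).upd 1 3 1 (le_of_eq hx14)).upd 2 3 3 (le_of_eq hx24)).upd 3 1 3 (le_of_eq hx41)).upd 3 2 1 (le_of_eq hx42)) ![0,1,1,2] (by decide) (by decide) 1 (by decide))
  · -- 14=(3,1)
    rcases d24 with ⟨rfl, rfl⟩ | ⟨rfl, rfl⟩ | ⟨rfl, rfl⟩ | ⟨rfl, rfl⟩ | ⟨rfl, rfl⟩ | ⟨rfl, rfl⟩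
    · -- 24=(0,0)
      rcases d34 with ⟨rfl, rfl⟩ | ⟨rfl, rfl⟩ | ⟨rfl, rfl⟩ | ⟨rfl, rfl⟩ | ⟨rfl, rfl⟩ | ⟨rfl, rfl⟩
      · -- 34=(0,0)
        exfalso; omega
      · -- 34=(1,1)
        exact False.elim (cert_false T ((skipEmb 2).trans (Function.Embedding.refl _)) (by norm_num) (fun _ => hall _) (((((LB_zero T ((skipEmb 2).trans (Function.Embedding.refl _))).upd 1 3 3 (le_of_eq hx14)).upd 2 3 1 (le_of_eq hx34)).upd 3 1 1 (le_of_eq hx41)).upd 3 2 1 (le_of_eq hx43)) ![0,3,1,2] (by decide) (by decide) 1 (by decide))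
      · -- 34=(1,2)
        exact False.elim (cert_false T ((skipEmb 2).trans (Function.Embedding.refl _)) (by norm_num) (fun _ => hall _) (((((LB_zero T ((skipEmb 2).trans (Function.Embedding.refl _))).upd 1 3 3 (le_of_eq hx14)).upd 2 3 1 (le_of_eq hx34)).upd 3 1 1 (le_of_eq hx41)).upd 3 2 2 (le_of_eq hx43)) ![0,2,1,2] (by decide) (by decide) 1 (by decide))
      · -- 34=(2,1)
        exact False.elim (cert_false T ((skipEmb 2).trans (Function.Embedding.refl _)) (by norm_num) (fun _ => hall _) (((((LB_zero T ((skipEmb 2).trans (Function.Embedding.refl _))).upd 1 3 3 (le_of_eq hx14)).upd 2 3 2 (le_of_eq hx34)).upd 3 1 1 (le_of_eq hx41)).upd 3 2 1 (le_of_eq hx43)) ![0,1,1,1] (by decide) (by decide) 1 (by decide))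
      · -- 34=(1,3)
        exact False.elim (cert_false T ((skipEmb 2).trans (Function.Embedding.refl _)) (by norm_num) (fun _ => hall _) (((((LB_zero T ((skipEmb 2).trans (Function.Embedding.refl _))).upd 1 3 3 (le_of_eq hx14)).upd 2 3 1 (le_of_eq hx34)).upd 3 1 1 (le_of_eq hx41)).upd 3 2 3 (le_of_eq hx43)) ![0,1,1,2] (by decide) (by decide) 1 (by decide))
      · -- 34=(3,1)
        exact False.elim (cert_false T ((skipEmb 2).trans (Function.Embedding.refl _)) (by norm_num) (fun _ => hall _) (((((LB_zero T ((skipEmb 2).trans (Function.Embedding.refl _))).upd 1 3 3 (le_of_eq hx14)).upd 2 3 3 (le_of_eq hx34)).upd 3 1 1 (le_of_eq hx41)).upd 3 2 1 (le_of_eq hx43)) ![0,1,1,1] (by decide) (by decide) 1 (by decide))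
    · -- 24=(1,1)
      exact False.elim (cert_false T ((skipEmb 3).trans (Function.Embedding.refl _)) (by norm_num) (fun _ => hall _) (((((LB_zero T ((skipEmb 3).trans (Function.Embedding.refl _))).upd 1 3 3 (le_of_eq hx14)).upd 2 3 1 (le_of_eq hx24)).upd 3 1 1 (le_of_eq hx41)).upd 3 2 1 (le_of_eq hx42)) ![0,3,1,2] (by decide) (by decide) 1 (by decide))
    · -- 24=(1,2)
      exact False.elim (cert_false T ((skipEmb 3).trans (Function.Embedding.refl _)) (by norm_num) (fun _ => hall _) (((((LB_zero T ((skipEmb 3).trans (Function.Embedding.refl _))).upd 1 3 3 (le_of_eq hx14)).upd 2 3 1 (le_of_eq hx24)).upd 3 1 1 (le_of_eq hx41)).upd 3 2 2 (le_of_eq hx42)) ![0,2,1,2] (by decide) (by decide) 1 (by decide))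
    · -- 24=(2,1)
      exact False.elim (cert_false T ((skipEmb 3).trans (Function.Embedding.refl _)) (by norm_num) (fun _ => hall _) (((((LB_zero T ((skipEmb 3).trans (Function.Embedding.refl _))).upd 1 3 3 (le_of_eq hx14)).upd 2 3 2 (le_of_eq hx24)).upd 3 1 1 (le_of_eq hx41)).upd 3 2 1 (le_of_eq hx42)) ![0,1,1,1] (by decide) (by decide) 1 (by decide))
    · -- 24=(1,3)
      exact False.elim (cert_false T ((skipEmb 3).trans (Function.Embedding.refl _)) (by norm_num) (fun _ => hall _) (((((LB_zero T ((skipEmb 3).trans (Function.Embedding.refl _))).upd 1 3 3 (le_of_eq hx14)).upd 2 3 1 (le_of_eq hx24)).upd 3 1 1 (le_of_eq hx41)).upd 3 2 3 (le_of_eq hx42)) ![0,1,1,2] (by decide) (by decide) 1 (by decide))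
    · -- 24=(3,1)
      exact False.elim (cert_false T ((skipEmb 3).trans (Function.Embedding.refl _)) (by norm_num) (fun _ => hall _) (((((LB_zero T ((skipEmb 3).trans (Function.Embedding.refl _))).upd 1 3 3 (le_of_eq hx14)).upd 2 3 3 (le_of_eq hx24)).upd 3 1 1 (le_of_eq hx41)).upd 3 2 1 (le_of_eq hx42)) ![0,1,1,1] (by decide) (by decide) 1 (by decide))

theorem case16 (T : NumericalType 5) (hall : ∀ i, T.IsMinusTwo i) (d : SData T)
    (h01 : N T (Function.Embedding.refl _) 0 1 = 0) (h10 : N T (Function.Embedding.refl _) 1 0 = 0)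
    (h02 : N T (Function.Embedding.refl _) 0 2 = 0) (h20 : N T (Function.Embedding.refl _) 2 0 = 0)
    (h12 : N T (Function.Embedding.refl _) 1 2 = 0) (h21 : N T (Function.Embedding.refl _) 2 1 = 0)
    (h03 : N T (Function.Embedding.refl _) 0 3 = 0) (h30 : N T (Function.Embedding.refl _) 3 0 = 0)
    (h13 : N T (Function.Embedding.refl _) 1 3 = 0) (h31 : N T (Function.Embedding.refl _) 3 1 = 0)
    (h23 : N T (Function.Embedding.refl _) 2 3 = 2) (h32 : N T (Function.Embedding.refl _) 3 2 = 1)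
    (h04 : N T (Function.Embedding.refl _) 0 4 = 1) (h40 : N T (Function.Embedding.refl _) 4 0 = 1) :
    Goal T := by
  unfold Goal
  have hd := d
  obtain ⟨x01, x02, x03, x04, x10, x12, x13, x14, x20, x21, x23, x24, x30, x31, x32, x34, x40, x41, x42, x43, hx01, hx02, hx03, hx04, hx10, hx12, hx13, hx14, hx20, hx21, hx23, hx24, hx30, hx31, hx32, hx34, hx40, hx41, hx42, hx43, hw0, hm0, hw1, hm1, hw2, hm2, hw3, hm3, hw4, hm4, a00, a01, a02, a03, a04, a11, a10, a12, a13, a14, a22, a20, a21, a23, a24, a33, a30, a31, a32, a34, a44, a40, a41, a42, a43, wN01, wN02, wN12, wN03, wN13, wN23, wN04, wN14, wN24, wN34, e0, e1, e2, e3, e4, d01, d02, d12, d03, d13, d23, d04, d14, d24, d34⟩ := d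
  obtain rfl : x01 = 0 := hx01.trans h01
  obtain rfl : x10 = 0 := hx10.trans h10
  obtain rfl : x02 = 0 := hx02.trans h02
  obtain rfl : x20 = 0 := hx20.trans h20
  obtain rfl : x12 = 0 := hx12.trans h12
  obtain rfl : x21 = 0 := hx21.trans h21
  obtain rfl : x03 = 0 := hx03.trans h03
  obtain rfl : x30 = 0 := hx30.trans h30
  obtain rfl : x13 = 0 := hx13.trans h13
  obtain rfl : x31 = 0 := hx31.trans h31
  obtain rfl : x23 = 2 := hx23.trans h23
  obtain rfl : x32 = 1 := hx32.trans h32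
  obtain rfl : x04 = 1 := hx04.trans h04
  obtain rfl : x40 = 1 := hx40.trans h40
  rcases d14 with ⟨rfl, rfl⟩ | ⟨rfl, rfl⟩ | ⟨rfl, rfl⟩ | ⟨rfl, rfl⟩ | ⟨rfl, rfl⟩ | ⟨rfl, rfl⟩
  · -- 14=(0,0)
    rcases d24 with ⟨rfl, rfl⟩ | ⟨rfl, rfl⟩ | ⟨rfl, rfl⟩ | ⟨rfl, rfl⟩ | ⟨rfl, rfl⟩ | ⟨rfl, rfl⟩
    · -- 24=(0,0)
      rcases d34 with ⟨rfl, rfl⟩ | ⟨rfl, rfl⟩ | ⟨rfl, rfl⟩ | ⟨rfl, rfl⟩ | ⟨rfl, rfl⟩ | ⟨rfl, rfl⟩
      · -- 34=(0,0)
        exfalso; omega
      · -- 34=(1,1)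
        exfalso; omega
      · -- 34=(1,2)
        exact False.elim (cert_false T ((skipEmb 1).trans (Function.Embedding.refl _)) (by norm_num) (fun _ => hall _) (((((LB_zero T ((skipEmb 1).trans (Function.Embedding.refl _))).upd 1 2 2 (le_of_eq hx23)).upd 2 1 1 (le_of_eq hx32)).upd 2 3 1 (le_of_eq hx34)).upd 3 2 2 (le_of_eq hx43)) ![0,1,1,1] (by decide) (by decide) 1 (by decide))
      · -- 34=(2,1)
        exact False.elim (cert_false T ((skipEmb 1).trans (Function.Embedding.refl _)) (by norm_num) (fun _ => hall _) (((((LB_zero T ((skipEmb 1).trans (Function.Embedding.refl _))).upd 1 2 2 (le_of_eq hx23)).upd 2 1 1 (le_of_eq hx32)).upd 2 3 2 (le_of_eq hx34)).upd 3 2 1 (le_of_eq hx43)) ![0,2,2,1] (by decide) (by decide) 1 (by decide))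
      · -- 34=(1,3)
        exact False.elim (cert_false T ((skipEmb 2).trans (Function.Embedding.refl _)) (by norm_num) (fun _ => hall _) (((((LB_zero T ((skipEmb 2).trans (Function.Embedding.refl _))).upd 0 3 1 (le_of_eq hx04)).upd 2 3 1 (le_of_eq hx34)).upd 3 0 1 (le_of_eq hx40)).upd 3 2 3 (le_of_eq hx43)) ![1,0,1,2] (by decide) (by decide) 0 (by decide))
      · -- 34=(3,1)
        exact False.elim (cert_false T ((skipEmb 2).trans (Function.Embedding.refl _)) (by norm_num) (fun _ => hall _) (((((LB_zero T ((skipEmb 2).trans (Function.Embedding.refl _))).upd 0 3 1 (le_of_eq hx04)).upd 2 3 3 (le_of_eq hx34)).upd 3 0 1 (le_of_eq hx40)).upd 3 2 1 (le_of_eq hx43)) ![1,0,3,2] (by decide) (by decide) 0 (by decide))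
    · -- 24=(1,1)
      rcases d34 with ⟨rfl, rfl⟩ | ⟨rfl, rfl⟩ | ⟨rfl, rfl⟩ | ⟨rfl, rfl⟩ | ⟨rfl, rfl⟩ | ⟨rfl, rfl⟩
      · -- 34=(0,0)
        exfalso; omega
      · -- 34=(1,1)
        exact False.elim (cert_false T ((skipEmb 1).trans (Function.Embedding.refl _)) (by norm_num) (fun _ => hall _) (((((((LB_zero T ((skipEmb 1).trans (Function.Embedding.refl _))).upd 1 2 2 (le_of_eq hx23)).upd 1 3 1 (le_of_eq hx24)).upd 2 1 1 (le_of_eq hx32)).upd 2 3 1 (le_of_eq hx34)).upd 3 1 1 (le_of_eq hx42)).upd 3 2 1 (le_of_eq hx43)) ![0,1,1,1] (by decide) (by decide) 1 (by decide))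
      · -- 34=(1,2)
        exact False.elim (cert_false T ((skipEmb 1).trans (Function.Embedding.refl _)) (by norm_num) (fun _ => hall _) (((((((LB_zero T ((skipEmb 1).trans (Function.Embedding.refl _))).upd 1 2 2 (le_of_eq hx23)).upd 1 3 1 (le_of_eq hx24)).upd 2 1 1 (le_of_eq hx32)).upd 2 3 1 (le_of_eq hx34)).upd 3 1 1 (le_of_eq hx42)).upd 3 2 2 (le_of_eq hx43)) ![0,1,1,1] (by decide) (by decide) 1 (by decide))
      · -- 34=(2,1)
        exact False.elim (cert_false T ((skipEmb 1).trans (Function.Embedding.refl _)) (by norm_num) (fun _ => hall _) (((((((LB_zero T ((skipEmb 1).trans (Function.Embedding.refl _))).upd 1 2 2 (le_of_eq hx23)).upd 1 3 1 (le_of_eq hx24)).upd 2 1 1 (le_of_eq hx32)).upd 2 3 2 (le_of_eq hx34)).upd 3 1 1 (le_of_eq hx42)).upd 3 2 1 (le_of_eq hx43)) ![0,1,1,1] (by decide) (by decide) 1 (by decide))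
      · -- 34=(1,3)
        exact False.elim (cert_false T ((skipEmb 2).trans (Function.Embedding.refl _)) (by norm_num) (fun _ => hall _) (((((LB_zero T ((skipEmb 2).trans (Function.Embedding.refl _))).upd 0 3 1 (le_of_eq hx04)).upd 2 3 1 (le_of_eq hx34)).upd 3 0 1 (le_of_eq hx40)).upd 3 2 3 (le_of_eq hx43)) ![1,0,1,2] (by decide) (by decide) 0 (by decide))
      · -- 34=(3,1)
        exact False.elim (cert_false T ((skipEmb 2).trans (Function.Embedding.refl _)) (by norm_num) (fun _ => hall _) (((((LB_zero T ((skipEmb 2).trans (Function.Embedding.refl _))).upd 0 3 1 (le_of_eq hx04)).upd 2 3 3 (le_of_eq hx34)).upd 3 0 1 (le_of_eq hx40)).upd 3 2 1 (le_of_eq hx43)) ![1,0,3,2] (by decide) (by decide) 0 (by decide))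
    · -- 24=(1,2)
      exact False.elim (cert_false T ((skipEmb 1).trans (Function.Embedding.refl _)) (by norm_num) (fun _ => hall _) (((((LB_zero T ((skipEmb 1).trans (Function.Embedding.refl _))).upd 1 2 2 (le_of_eq hx23)).upd 1 3 1 (le_of_eq hx24)).upd 2 1 1 (le_of_eq hx32)).upd 3 1 2 (le_of_eq hx42)) ![0,2,1,2] (by decide) (by decide) 1 (by decide))
    · -- 24=(2,1)
      exact False.elim (cert_false T ((skipEmb 1).trans (Function.Embedding.refl _)) (by norm_num) (fun _ => hall _) (((((LB_zero T ((skipEmb 1).trans (Function.Embedding.refl _))).upd 1 2 2 (le_of_eq hx23)).upd 1 3 2 (le_of_eq hx24)).upd 2 1 1 (le_of_eq hx32)).upd 3 1 1 (le_of_eq hx42)) ![0,2,1,1] (by decide) (by decide) 1 (by decide))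
    · -- 24=(1,3)
      exact False.elim (cert_false T ((skipEmb 3).trans (Function.Embedding.refl _)) (by norm_num) (fun _ => hall _) (((((LB_zero T ((skipEmb 3).trans (Function.Embedding.refl _))).upd 0 3 1 (le_of_eq hx04)).upd 2 3 1 (le_of_eq hx24)).upd 3 0 1 (le_of_eq hx40)).upd 3 2 3 (le_of_eq hx42)) ![1,0,1,2] (by decide) (by decide) 0 (by decide))
    · -- 24=(3,1)
      exact False.elim (cert_false T ((skipEmb 3).trans (Function.Embedding.refl _)) (by norm_num) (fun _ => hall _) (((((LB_zero T ((skipEmb 3).trans (Function.Embedding.refl _))).upd 0 3 1 (le_of_eq hx04)).upd 2 3 3 (le_of_eq hx24)).upd 3 0 1 (le_of_eq hx40)).upd 3 2 1 (le_of_eq hx42)) ![1,0,3,2] (by decide) (by decide) 0 (by decide))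
  · -- 14=(1,1)
    rcases d24 with ⟨rfl, rfl⟩ | ⟨rfl, rfl⟩ | ⟨rfl, rfl⟩ | ⟨rfl, rfl⟩ | ⟨rfl, rfl⟩ | ⟨rfl, rfl⟩
    · -- 24=(0,0)
      rcases d34 with ⟨rfl, rfl⟩ | ⟨rfl, rfl⟩ | ⟨rfl, rfl⟩ | ⟨rfl, rfl⟩ | ⟨rfl, rfl⟩ | ⟨rfl, rfl⟩
      · -- 34=(0,0)
        exfalso; omega
      · -- 34=(1,1)
        refine ⟨(⟨![2, 3, 4, 0, 1], ![3, 4, 0, 1, 2], by decide, by decide⟩ : Equiv.Perm (Fin 5)), T.m 0, T.w 2, Or.inr (Or.inr (Or.inr (Or.inr (Or.inr (Or.inr (Or.inr (Or.inr (?_))))))))⟩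
        show T.m 2 = 2 * T.m 0 ∧ T.m 3 = 2 * T.m 0 ∧ T.m 4 = 2 * T.m 0 ∧ T.m 0 = T.m 0 ∧ T.m 1 = T.m 0 ∧ T.w 2 = T.w 2 ∧ T.w 3 = 2 * T.w 2 ∧ T.w 4 = 2 * T.w 2 ∧ T.w 0 = 2 * T.w 2 ∧ T.w 1 = 2 * T.w 2 ∧ T.a 2 2 = -2 * T.w 2 ∧ T.a 2 3 = 2 * T.w 2 ∧ T.a 2 4 = 0 ∧ T.a 2 0 = 0 ∧ T.a 2 1 = 0 ∧ T.a 3 3 = -4 * T.w 2 ∧ T.a 3 4 = 2 * T.w 2 ∧ T.a 3 0 = 0 ∧ T.a 3 1 = 0 ∧ T.a 4 4 = -4 * T.w 2 ∧ T.a 4 0 = 2 * T.w 2 ∧ T.a 4 1 = 2 * T.w 2 ∧ T.a 0 0 = -4 * T.w 2 ∧ T.a 0 1 = 0 ∧ T.a 1 1 = -4 * T.w 2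
        refine ⟨?_, ?_, ?_, ?_, ?_, ?_, ?_, ?_, ?_, ?_, ?_, ?_, ?_, ?_, ?_, ?_, ?_, ?_, ?_, ?_, ?_, ?_, ?_, ?_, ?_⟩ <;> omega
      · -- 34=(1,2)
        exact False.elim (cert_false T ((skipEmb 2).trans (Function.Embedding.refl _)) (by norm_num) (fun _ => hall _) (((((((LB_zero T ((skipEmb 2).trans (Function.Embedding.refl _))).upd 0 3 1 (le_of_eq hx04)).upd 1 3 1 (le_of_eq hx14)).upd 2 3 1 (le_of_eq hx34)).upd 3 0 1 (le_of_eq hx40)).upd 3 1 1 (le_of_eq hx41)).upd 3 2 2 (le_of_eq hx43)) ![1,1,1,2] (by decide) (by decide) 0 (by decide))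
      · -- 34=(2,1)
        exact False.elim (cert_false T ((skipEmb 2).trans (Function.Embedding.refl _)) (by norm_num) (fun _ => hall _) (((((((LB_zero T ((skipEmb 2).trans (Function.Embedding.refl _))).upd 0 3 1 (le_of_eq hx04)).upd 1 3 1 (le_of_eq hx14)).upd 2 3 2 (le_of_eq hx34)).upd 3 0 1 (le_of_eq hx40)).upd 3 1 1 (le_of_eq hx41)).upd 3 2 1 (le_of_eq hx43)) ![1,1,2,2] (by decide) (by decide) 0 (by decide))
      · -- 34=(1,3)
        exact False.elim (cert_false T ((skipEmb 2).trans (Function.Embedding.refl _)) (by norm_num) (fun _ => hall _) (((((LB_zero T ((skipEmb 2).trans (Function.Embedding.refl _))).upd 1 3 1 (le_of_eq hx14)).upd 2 3 1 (le_of_eq hx34)).upd 3 1 1 (le_of_eq hx41)).upd 3 2 3 (le_of_eq hx43)) ![0,1,1,2] (by decide) (by decide) 1 (by decide))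
      · -- 34=(3,1)
        exact False.elim (cert_false T ((skipEmb 2).trans (Function.Embedding.refl _)) (by norm_num) (fun _ => hall _) (((((((LB_zero T ((skipEmb 2).trans (Function.Embedding.refl _))).upd 0 3 1 (le_of_eq hx04)).upd 1 3 1 (le_of_eq hx14)).upd 2 3 3 (le_of_eq hx34)).upd 3 0 1 (le_of_eq hx40)).upd 3 1 1 (le_of_eq hx41)).upd 3 2 1 (le_of_eq hx43)) ![1,1,2,2] (by decide) (by decide) 0 (by decide))
    · -- 24=(1,1)
      rcases d34 with ⟨rfl, rfl⟩ | ⟨rfl, rfl⟩ | ⟨rfl, rfl⟩ | ⟨rfl, rfl⟩ | ⟨rfl, rfl⟩ | ⟨rfl, rfl⟩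
      · -- 34=(0,0)
        refine ⟨(⟨![3, 2, 4, 0, 1], ![3, 4, 1, 0, 2], by decide, by decide⟩ : Equiv.Perm (Fin 5)), T.m 3, T.w 2, Or.inr (Or.inr (Or.inr (Or.inr (Or.inr (Or.inr (Or.inr (Or.inl ?_)))))))⟩
        show T.m 3 = T.m 3 ∧ T.m 2 = 2 * T.m 3 ∧ T.m 4 = 2 * T.m 3 ∧ T.m 0 = T.m 3 ∧ T.m 1 = T.m 3 ∧ T.w 3 = 2 * T.w 2 ∧ T.w 2 = T.w 2 ∧ T.w 4 = T.w 2 ∧ T.w 0 = T.w 2 ∧ T.w 1 = T.w 2 ∧ T.a 3 3 = -4 * T.w 2 ∧ T.a 3 2 = 2 * T.w 2 ∧ T.a 3 4 = 0 ∧ T.a 3 0 = 0 ∧ T.a 3 1 = 0 ∧ T.a 2 2 = -2 * T.w 2 ∧ T.a 2 4 = T.w 2 ∧ T.a 2 0 = 0 ∧ T.a 2 1 = 0 ∧ T.a 4 4 = -2 * T.w 2 ∧ T.a 4 0 = T.w 2 ∧ T.a 4 1 = T.w 2 ∧ T.a 0 0 = -2 * T.w 2 ∧ T.a 0 1 = 0 ∧ T.a 1 1 = -2 * T.w 2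
        refine ⟨?_, ?_, ?_, ?_, ?_, ?_, ?_, ?_, ?_, ?_, ?_, ?_, ?_, ?_, ?_, ?_, ?_, ?_, ?_, ?_, ?_, ?_, ?_, ?_, ?_⟩ <;> omega
      · -- 34=(1,1)
        exact False.elim (cert_false T ((skipEmb 1).trans (Function.Embedding.refl _)) (by norm_num) (fun _ => hall _) (((((((LB_zero T ((skipEmb 1).trans (Function.Embedding.refl _))).upd 1 2 2 (le_of_eq hx23)).upd 1 3 1 (le_of_eq hx24)).upd 2 1 1 (le_of_eq hx32)).upd 2 3 1 (le_of_eq hx34)).upd 3 1 1 (le_of_eq hx42)).upd 3 2 1 (le_of_eq hx43)) ![0,1,1,1] (by decide) (by decide) 1 (by decide))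
      · -- 34=(1,2)
        exact False.elim (cert_false T ((skipEmb 2).trans (Function.Embedding.refl _)) (by norm_num) (fun _ => hall _) (((((((LB_zero T ((skipEmb 2).trans (Function.Embedding.refl _))).upd 0 3 1 (le_of_eq hx04)).upd 1 3 1 (le_of_eq hx14)).upd 2 3 1 (le_of_eq hx34)).upd 3 0 1 (le_of_eq hx40)).upd 3 1 1 (le_of_eq hx41)).upd 3 2 2 (le_of_eq hx43)) ![1,1,1,2] (by decide) (by decide) 0 (by decide))
      · -- 34=(2,1)
        exact False.elim (cert_false T ((skipEmb 2).trans (Function.Embedding.refl _)) (by norm_num) (fun _ => hall _) (((((((LB_zero T ((skipEmb 2).trans (Function.Embedding.refl _))).upd 0 3 1 (le_of_eq hx04)).upd 1 3 1 (le_of_eq hx14)).upd 2 3 2 (le_of_eq hx34)).upd 3 0 1 (le_of_eq hx40)).upd 3 1 1 (le_of_eq hx41)).upd 3 2 1 (le_of_eq hx43)) ![1,1,2,2] (by decide) (by decide) 0 (by decide))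
      · -- 34=(1,3)
        exact False.elim (cert_false T ((skipEmb 2).trans (Function.Embedding.refl _)) (by norm_num) (fun _ => hall _) (((((LB_zero T ((skipEmb 2).trans (Function.Embedding.refl _))).upd 1 3 1 (le_of_eq hx14)).upd 2 3 1 (le_of_eq hx34)).upd 3 1 1 (le_of_eq hx41)).upd 3 2 3 (le_of_eq hx43)) ![0,1,1,2] (by decide) (by decide) 1 (by decide))
      · -- 34=(3,1)
        exact False.elim (cert_false T ((skipEmb 2).trans (Function.Embedding.refl _)) (by norm_num) (fun _ => hall _) (((((((LB_zero T ((skipEmb 2).trans (Function.Embedding.refl _))).upd 0 3 1 (le_of_eq hx04)).upd 1 3 1 (le_of_eq hx14)).upd 2 3 3 (le_of_eq hx34)).upd 3 0 1 (le_of_eq hx40)).upd 3 1 1 (le_of_eq hx41)).upd 3 2 1 (le_of_eq hx43)) ![1,1,2,2] (by decide) (by decide) 0 (by decide))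
    · -- 24=(1,2)
      exact False.elim (cert_false T ((skipEmb 3).trans (Function.Embedding.refl _)) (by norm_num) (fun _ => hall _) (((((((LB_zero T ((skipEmb 3).trans (Function.Embedding.refl _))).upd 0 3 1 (le_of_eq hx04)).upd 1 3 1 (le_of_eq hx14)).upd 2 3 1 (le_of_eq hx24)).upd 3 0 1 (le_of_eq hx40)).upd 3 1 1 (le_of_eq hx41)).upd 3 2 2 (le_of_eq hx42)) ![1,1,1,2] (by decide) (by decide) 0 (by decide))
    · -- 24=(2,1)
      exact False.elim (cert_false T ((skipEmb 3).trans (Function.Embedding.refl _)) (by norm_num) (fun _ => hall _) (((((((LB_zero T ((skipEmb 3).trans (Function.Embedding.refl _))).upd 0 3 1 (le_of_eq hx04)).upd 1 3 1 (le_of_eq hx14)).upd 2 3 2 (le_of_eq hx24)).upd 3 0 1 (le_of_eq hx40)).upd 3 1 1 (le_of_eq hx41)).upd 3 2 1 (le_of_eq hx42)) ![1,1,2,2] (by decide) (by decide) 0 (by decide))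
    · -- 24=(1,3)
      exact False.elim (cert_false T ((skipEmb 3).trans (Function.Embedding.refl _)) (by norm_num) (fun _ => hall _) (((((LB_zero T ((skipEmb 3).trans (Function.Embedding.refl _))).upd 1 3 1 (le_of_eq hx14)).upd 2 3 1 (le_of_eq hx24)).upd 3 1 1 (le_of_eq hx41)).upd 3 2 3 (le_of_eq hx42)) ![0,1,1,2] (by decide) (by decide) 1 (by decide))
    · -- 24=(3,1)
      exact False.elim (cert_false T ((skipEmb 3).trans (Function.Embedding.refl _)) (by norm_num) (fun _ => hall _) (((((((LB_zero T ((skipEmb 3).trans (Function.Embedding.refl _))).upd 0 3 1 (le_of_eq hx04)).upd 1 3 1 (le_of_eq hx14)).upd 2 3 3 (le_of_eq hx24)).upd 3 0 1 (le_of_eq hx40)).upd 3 1 1 (le_of_eq hx41)).upd 3 2 1 (le_of_eq hx42)) ![1,1,2,2] (by decide) (by decide) 0 (by decide))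
  · -- 14=(1,2)
    rcases d24 with ⟨rfl, rfl⟩ | ⟨rfl, rfl⟩ | ⟨rfl, rfl⟩ | ⟨rfl, rfl⟩ | ⟨rfl, rfl⟩ | ⟨rfl, rfl⟩
    · -- 24=(0,0)
      rcases d34 with ⟨rfl, rfl⟩ | ⟨rfl, rfl⟩ | ⟨rfl, rfl⟩ | ⟨rfl, rfl⟩ | ⟨rfl, rfl⟩ | ⟨rfl, rfl⟩
      · -- 34=(0,0)
        exfalso; omega
      · -- 34=(1,1)
        exact False.elim (cert_false T ((skipEmb 2).trans (Function.Embedding.refl _)) (by norm_num) (fun _ => hall _) (((((((LB_zero T ((skipEmb 2).trans (Function.Embedding.refl _))).upd 0 3 1 (le_of_eq hx04)).upd 1 3 1 (le_of_eq hx14)).upd 2 3 1 (le_of_eq hx34)).upd 3 0 1 (le_of_eq hx40)).upd 3 1 2 (le_of_eq hx41)).upd 3 2 1 (le_of_eq hx43)) ![1,1,1,2] (by decide) (by decide) 0 (by decide))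
      · -- 34=(1,2)
        exact False.elim (cert_false T ((skipEmb 2).trans (Function.Embedding.refl _)) (by norm_num) (fun _ => hall _) (((((LB_zero T ((skipEmb 2).trans (Function.Embedding.refl _))).upd 1 3 1 (le_of_eq hx14)).upd 2 3 1 (le_of_eq hx34)).upd 3 1 2 (le_of_eq hx41)).upd 3 2 2 (le_of_eq hx43)) ![0,1,1,2] (by decide) (by decide) 1 (by decide))
      · -- 34=(2,1)
        exact False.elim (cert_false T ((skipEmb 2).trans (Function.Embedding.refl _)) (by norm_num) (fun _ => hall _) (((((LB_zero T ((skipEmb 2).trans (Function.Embedding.refl _))).upd 1 3 1 (le_of_eq hx14)).upd 2 3 2 (le_of_eq hx34)).upd 3 1 2 (le_of_eq hx41)).upd 3 2 1 (le_of_eq hx43)) ![0,1,2,2] (by decide) (by decide) 1 (by decide))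
      · -- 34=(1,3)
        exact False.elim (cert_false T ((skipEmb 2).trans (Function.Embedding.refl _)) (by norm_num) (fun _ => hall _) (((((LB_zero T ((skipEmb 2).trans (Function.Embedding.refl _))).upd 1 3 1 (le_of_eq hx14)).upd 2 3 1 (le_of_eq hx34)).upd 3 1 2 (le_of_eq hx41)).upd 3 2 3 (le_of_eq hx43)) ![0,1,1,2] (by decide) (by decide) 1 (by decide))
      · -- 34=(3,1)
        exact False.elim (cert_false T ((skipEmb 2).trans (Function.Embedding.refl _)) (by norm_num) (fun _ => hall _) (((((LB_zero T ((skipEmb 2).trans (Function.Embedding.refl _))).upd 1 3 1 (le_of_eq hx14)).upd 2 3 3 (le_of_eq hx34)).upd 3 1 2 (le_of_eq hx41)).upd 3 2 1 (le_of_eq hx43)) ![0,1,2,2] (by decide) (by decide) 1 (by decide))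
    · -- 24=(1,1)
      exact False.elim (cert_false T ((skipEmb 3).trans (Function.Embedding.refl _)) (by norm_num) (fun _ => hall _) (((((((LB_zero T ((skipEmb 3).trans (Function.Embedding.refl _))).upd 0 3 1 (le_of_eq hx04)).upd 1 3 1 (le_of_eq hx14)).upd 2 3 1 (le_of_eq hx24)).upd 3 0 1 (le_of_eq hx40)).upd 3 1 2 (le_of_eq hx41)).upd 3 2 1 (le_of_eq hx42)) ![1,1,1,2] (by decide) (by decide) 0 (by decide))
    · -- 24=(1,2)
      exact False.elim (cert_false T ((skipEmb 3).trans (Function.Embedding.refl _)) (by norm_num) (fun _ => hall _) (((((LB_zero T ((skipEmb 3).trans (Function.Embedding.refl _))).upd 1 3 1 (le_of_eq hx14)).upd 2 3 1 (le_of_eq hx24)).upd 3 1 2 (le_of_eq hx41)).upd 3 2 2 (le_of_eq hx42)) ![0,1,1,2] (by decide) (by decide) 1 (by decide))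
    · -- 24=(2,1)
      exact False.elim (cert_false T ((skipEmb 3).trans (Function.Embedding.refl _)) (by norm_num) (fun _ => hall _) (((((LB_zero T ((skipEmb 3).trans (Function.Embedding.refl _))).upd 1 3 1 (le_of_eq hx14)).upd 2 3 2 (le_of_eq hx24)).upd 3 1 2 (le_of_eq hx41)).upd 3 2 1 (le_of_eq hx42)) ![0,1,2,2] (by decide) (by decide) 1 (by decide))
    · -- 24=(1,3)
      exact False.elim (cert_false T ((skipEmb 3).trans (Function.Embedding.refl _)) (by norm_num) (fun _ => hall _) (((((LB_zero T ((skipEmb 3).trans (Function.Embedding.refl _))).upd 1 3 1 (le_of_eq hx14)).upd 2 3 1 (le_of_eq hx24)).upd 3 1 2 (le_of_eq hx41)).upd 3 2 3 (le_of_eq hx42)) ![0,1,1,2] (by decide) (by decide) 1 (by decide))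
    · -- 24=(3,1)
      exact False.elim (cert_false T ((skipEmb 3).trans (Function.Embedding.refl _)) (by norm_num) (fun _ => hall _) (((((LB_zero T ((skipEmb 3).trans (Function.Embedding.refl _))).upd 1 3 1 (le_of_eq hx14)).upd 2 3 3 (le_of_eq hx24)).upd 3 1 2 (le_of_eq hx41)).upd 3 2 1 (le_of_eq hx42)) ![0,1,2,2] (by decide) (by decide) 1 (by decide))
  · -- 14=(2,1)
    rcases d24 with ⟨rfl, rfl⟩ | ⟨rfl, rfl⟩ | ⟨rfl, rfl⟩ | ⟨rfl, rfl⟩ | ⟨rfl, rfl⟩ | ⟨rfl, rfl⟩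
    · -- 24=(0,0)
      rcases d34 with ⟨rfl, rfl⟩ | ⟨rfl, rfl⟩ | ⟨rfl, rfl⟩ | ⟨rfl, rfl⟩ | ⟨rfl, rfl⟩ | ⟨rfl, rfl⟩
      · -- 34=(0,0)
        exfalso; omega
      · -- 34=(1,1)
        exact False.elim (cert_false T ((skipEmb 2).trans (Function.Embedding.refl _)) (by norm_num) (fun _ => hall _) (((((((LB_zero T ((skipEmb 2).trans (Function.Embedding.refl _))).upd 0 3 1 (le_of_eq hx04)).upd 1 3 2 (le_of_eq hx14)).upd 2 3 1 (le_of_eq hx34)).upd 3 0 1 (le_of_eq hx40)).upd 3 1 1 (le_of_eq hx41)).upd 3 2 1 (le_of_eq hx43)) ![1,2,1,2] (by decide) (by decide) 0 (by decide))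
      · -- 34=(1,2)
        exact False.elim (cert_false T ((skipEmb 2).trans (Function.Embedding.refl _)) (by norm_num) (fun _ => hall _) (((((LB_zero T ((skipEmb 2).trans (Function.Embedding.refl _))).upd 1 3 2 (le_of_eq hx14)).upd 2 3 1 (le_of_eq hx34)).upd 3 1 1 (le_of_eq hx41)).upd 3 2 2 (le_of_eq hx43)) ![0,2,1,2] (by decide) (by decide) 1 (by decide))
      · -- 34=(2,1)
        exact False.elim (cert_false T ((skipEmb 2).trans (Function.Embedding.refl _)) (by norm_num) (fun _ => hall _) (((((LB_zero T ((skipEmb 2).trans (Function.Embedding.refl _))).upd 1 3 2 (le_of_eq hx14)).upd 2 3 2 (le_of_eq hx34)).upd 3 1 1 (le_of_eq hx41)).upd 3 2 1 (le_of_eq hx43)) ![0,1,1,1] (by decide) (by decide) 1 (by decide))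
      · -- 34=(1,3)
        exact False.elim (cert_false T ((skipEmb 2).trans (Function.Embedding.refl _)) (by norm_num) (fun _ => hall _) (((((LB_zero T ((skipEmb 2).trans (Function.Embedding.refl _))).upd 1 3 2 (le_of_eq hx14)).upd 2 3 1 (le_of_eq hx34)).upd 3 1 1 (le_of_eq hx41)).upd 3 2 3 (le_of_eq hx43)) ![0,1,1,2] (by decide) (by decide) 1 (by decide))
      · -- 34=(3,1)
        exact False.elim (cert_false T ((skipEmb 2).trans (Function.Embedding.refl _)) (by norm_num) (fun _ => hall _) (((((LB_zero T ((skipEmb 2).trans (Function.Embedding.refl _))).upd 1 3 2 (le_of_eq hx14)).upd 2 3 3 (le_of_eq hx34)).upd 3 1 1 (le_of_eq hx41)).upd 3 2 1 (le_of_eq hx43)) ![0,1,1,1] (by decide) (by decide) 1 (by decide))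
    · -- 24=(1,1)
      exact False.elim (cert_false T ((skipEmb 3).trans (Function.Embedding.refl _)) (by norm_num) (fun _ => hall _) (((((((LB_zero T ((skipEmb 3).trans (Function.Embedding.refl _))).upd 0 3 1 (le_of_eq hx04)).upd 1 3 2 (le_of_eq hx14)).upd 2 3 1 (le_of_eq hx24)).upd 3 0 1 (le_of_eq hx40)).upd 3 1 1 (le_of_eq hx41)).upd 3 2 1 (le_of_eq hx42)) ![1,2,1,2] (by decide) (by decide) 0 (by decide))
    · -- 24=(1,2)
      exact False.elim (cert_false T ((skipEmb 3).trans (Function.Embedding.refl _)) (by norm_num) (fun _ => hall _) (((((LB_zero T ((skipEmb 3).trans (Function.Embedding.refl _))).upd 1 3 2 (le_of_eq hx14)).upd 2 3 1 (le_of_eq hx24)).upd 3 1 1 (le_of_eq hx41)).upd 3 2 2 (le_of_eq hx42)) ![0,2,1,2] (by decide) (by decide) 1 (by decide))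
    · -- 24=(2,1)
      exact False.elim (cert_false T ((skipEmb 3).trans (Function.Embedding.refl _)) (by norm_num) (fun _ => hall _) (((((LB_zero T ((skipEmb 3).trans (Function.Embedding.refl _))).upd 1 3 2 (le_of_eq hx14)).upd 2 3 2 (le_of_eq hx24)).upd 3 1 1 (le_of_eq hx41)).upd 3 2 1 (le_of_eq hx42)) ![0,1,1,1] (by decide) (by decide) 1 (by decide))
    · -- 24=(1,3)
      exact False.elim (cert_false T ((skipEmb 3).trans (Function.Embedding.refl _)) (by norm_num) (fun _ => hall _) (((((LB_zero T ((skipEmb 3).trans (Function.Embedding.refl _))).upd 1 3 2 (le_of_eq hx14)).upd 2 3 1 (le_of_eq hx24)).upd 3 1 1 (le_of_eq hx41)).upd 3 2 3 (le_of_eq hx42)) ![0,1,1,2] (by decide) (by decide) 1 (by decide))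
    · -- 24=(3,1)
      exact False.elim (cert_false T ((skipEmb 3).trans (Function.Embedding.refl _)) (by norm_num) (fun _ => hall _) (((((LB_zero T ((skipEmb 3).trans (Function.Embedding.refl _))).upd 1 3 2 (le_of_eq hx14)).upd 2 3 3 (le_of_eq hx24)).upd 3 1 1 (le_of_eq hx41)).upd 3 2 1 (le_of_eq hx42)) ![0,1,1,1] (by decide) (by decide) 1 (by decide))
  · -- 14=(1,3)
    exact False.elim (cert_false T ((skipEmb 3).trans (Function.Embedding.refl _)) (by norm_num) (fun _ => hall _) (((((LB_zero T ((skipEmb 3).trans (Function.Embedding.refl _))).upd 0 3 1 (le_of_eq hx04)).upd 1 3 1 (le_of_eq hx14)).upd 3 0 1 (le_of_eq hx40)).upd 3 1 3 (le_of_eq hx41)) ![1,1,0,2] (by decide) (by decide) 0 (by decide))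
  · -- 14=(3,1)
    exact False.elim (cert_false T ((skipEmb 3).trans (Function.Embedding.refl _)) (by norm_num) (fun _ => hall _) (((((LB_zero T ((skipEmb 3).trans (Function.Embedding.refl _))).upd 0 3 1 (le_of_eq hx04)).upd 1 3 3 (le_of_eq hx14)).upd 3 0 1 (le_of_eq hx40)).upd 3 1 1 (le_of_eq hx41)) ![1,3,0,2] (by decide) (by decide) 0 (by decide))

theorem case14 (T : NumericalType 5) (hall : ∀ i, T.IsMinusTwo i) (d : SData T)
    (h01 : N T (Function.Embedding.refl _) 0 1 = 0) (h10 : N T (Function.Embedding.refl _) 1 0 = 0)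
    (h02 : N T (Function.Embedding.refl _) 0 2 = 0) (h20 : N T (Function.Embedding.refl _) 2 0 = 0)
    (h12 : N T (Function.Embedding.refl _) 1 2 = 0) (h21 : N T (Function.Embedding.refl _) 2 1 = 0)
    (h03 : N T (Function.Embedding.refl _) 0 3 = 0) (h30 : N T (Function.Embedding.refl _) 3 0 = 0)
    (h13 : N T (Function.Embedding.refl _) 1 3 = 0) (h31 : N T (Function.Embedding.refl _) 3 1 = 0)
    (h23 : N T (Function.Embedding.refl _) 2 3 = 2) (h32 : N T (Function.Embedding.refl _) 3 2 = 1) :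
    Goal T := by
  unfold Goal
  have hd := d
  obtain ⟨x01, x02, x03, x04, x10, x12, x13, x14, x20, x21, x23, x24, x30, x31, x32, x34, x40, x41, x42, x43, hx01, hx02, hx03, hx04, hx10, hx12, hx13, hx14, hx20, hx21, hx23, hx24, hx30, hx31, hx32, hx34, hx40, hx41, hx42, hx43, hw0, hm0, hw1, hm1, hw2, hm2, hw3, hm3, hw4, hm4, a00, a01, a02, a03, a04, a11, a10, a12, a13, a14, a22, a20, a21, a23, a24, a33, a30, a31, a32, a34, a44, a40, a41, a42, a43, wN01, wN02, wN12, wN03, wN13, wN23, wN04, wN14, wN24, wN34, e0, e1, e2, e3, e4, d01, d02, d12, d03, d13, d23, d04, d14, d24, d34⟩ := d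
  obtain rfl : x01 = 0 := hx01.trans h01
  obtain rfl : x10 = 0 := hx10.trans h10
  obtain rfl : x02 = 0 := hx02.trans h02
  obtain rfl : x20 = 0 := hx20.trans h20
  obtain rfl : x12 = 0 := hx12.trans h12
  obtain rfl : x21 = 0 := hx21.trans h21
  obtain rfl : x03 = 0 := hx03.trans h03
  obtain rfl : x30 = 0 := hx30.trans h30
  obtain rfl : x13 = 0 := hx13.trans h13
  obtain rfl : x31 = 0 := hx31.trans h31
  obtain rfl : x23 = 2 := hx23.trans h23
  obtain rfl : x32 = 1 := hx32.trans h32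
  rcases d04 with ⟨rfl, rfl⟩ | ⟨rfl, rfl⟩ | ⟨rfl, rfl⟩ | ⟨rfl, rfl⟩ | ⟨rfl, rfl⟩ | ⟨rfl, rfl⟩
  · -- 04=(0,0)
    exact case15 T hall hd hx01.symm hx10.symm hx02.symm hx20.symm hx12.symm hx21.symm hx03.symm hx30.symm hx13.symm hx31.symm hx23.symm hx32.symm hx04.symm hx40.symm
  · -- 04=(1,1)
    exact case16 T hall hd hx01.symm hx10.symm hx02.symm hx20.symm hx12.symm hx21.symm hx03.symm hx30.symm hx13.symm hx31.symm hx23.symm hx32.symm hx04.symm hx40.symm
  · -- 04=(1,2)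
    rcases d14 with ⟨rfl, rfl⟩ | ⟨rfl, rfl⟩ | ⟨rfl, rfl⟩ | ⟨rfl, rfl⟩ | ⟨rfl, rfl⟩ | ⟨rfl, rfl⟩
    · -- 14=(0,0)
      rcases d24 with ⟨rfl, rfl⟩ | ⟨rfl, rfl⟩ | ⟨rfl, rfl⟩ | ⟨rfl, rfl⟩ | ⟨rfl, rfl⟩ | ⟨rfl, rfl⟩
      · -- 24=(0,0)
        rcases d34 with ⟨rfl, rfl⟩ | ⟨rfl, rfl⟩ | ⟨rfl, rfl⟩ | ⟨rfl, rfl⟩ | ⟨rfl, rfl⟩ | ⟨rfl, rfl⟩
        · -- 34=(0,0)
          exfalso; omega
        · -- 34=(1,1)
          exact False.elim (cert_false T ((skipEmb 1).trans (Function.Embedding.refl _)) (by norm_num) (fun _ => hall _) (((((((LB_zero T ((skipEmb 1).trans (Function.Embedding.refl _))).upd 0 3 1 (le_of_eq hx04)).upd 1 2 2 (le_of_eq hx23)).upd 2 1 1 (le_of_eq hx32)).upd 2 3 1 (le_of_eq hx34)).upd 3 0 2 (le_of_eq hx40)).upd 3 2 1 (le_of_eq hx43)) ![1,2,2,2] (by decide) (by decide) 0 (by decide))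
        · -- 34=(1,2)
          exact False.elim (cert_false T ((skipEmb 2).trans (Function.Embedding.refl _)) (by norm_num) (fun _ => hall _) (((((LB_zero T ((skipEmb 2).trans (Function.Embedding.refl _))).upd 0 3 1 (le_of_eq hx04)).upd 2 3 1 (le_of_eq hx34)).upd 3 0 2 (le_of_eq hx40)).upd 3 2 2 (le_of_eq hx43)) ![1,0,1,2] (by decide) (by decide) 0 (by decide))
        · -- 34=(2,1)
          exact False.elim (cert_false T ((skipEmb 2).trans (Function.Embedding.refl _)) (by norm_num) (fun _ => hall _) (((((LB_zero T ((skipEmb 2).trans (Function.Embedding.refl _))).upd 0 3 1 (le_of_eq hx04)).upd 2 3 2 (le_of_eq hx34)).upd 3 0 2 (le_of_eq hx40)).upd 3 2 1 (le_of_eq hx43)) ![1,0,2,2] (by decide) (by decide) 0 (by decide))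
        · -- 34=(1,3)
          exact False.elim (cert_false T ((skipEmb 2).trans (Function.Embedding.refl _)) (by norm_num) (fun _ => hall _) (((((LB_zero T ((skipEmb 2).trans (Function.Embedding.refl _))).upd 0 3 1 (le_of_eq hx04)).upd 2 3 1 (le_of_eq hx34)).upd 3 0 2 (le_of_eq hx40)).upd 3 2 3 (le_of_eq hx43)) ![1,0,1,2] (by decide) (by decide) 0 (by decide))
        · -- 34=(3,1)
          exact False.elim (cert_false T ((skipEmb 2).trans (Function.Embedding.refl _)) (by norm_num) (fun _ => hall _) (((((LB_zero T ((skipEmb 2).trans (Function.Embedding.refl _))).upd 0 3 1 (le_of_eq hx04)).upd 2 3 3 (le_of_eq hx34)).upd 3 0 2 (le_of_eq hx40)).upd 3 2 1 (le_of_eq hx43)) ![1,0,2,2] (by decide) (by decide) 0 (by decide))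
      · -- 24=(1,1)
        exact False.elim (cert_false T ((skipEmb 1).trans (Function.Embedding.refl _)) (by norm_num) (fun _ => hall _) (((((((LB_zero T ((skipEmb 1).trans (Function.Embedding.refl _))).upd 0 3 1 (le_of_eq hx04)).upd 1 2 2 (le_of_eq hx23)).upd 1 3 1 (le_of_eq hx24)).upd 2 1 1 (le_of_eq hx32)).upd 3 0 2 (le_of_eq hx40)).upd 3 1 1 (le_of_eq hx42)) ![1,2,1,2] (by decide) (by decide) 0 (by decide))
      · -- 24=(1,2)
        exact False.elim (cert_false T ((skipEmb 3).trans (Function.Embedding.refl _)) (by norm_num) (fun _ => hall _) (((((LB_zero T ((skipEmb 3).trans (Function.Embedding.refl _))).upd 0 3 1 (le_of_eq hx04)).upd 2 3 1 (le_of_eq hx24)).upd 3 0 2 (le_of_eq hx40)).upd 3 2 2 (le_of_eq hx42)) ![1,0,1,2] (by decide) (by decide) 0 (by decide))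
      · -- 24=(2,1)
        exact False.elim (cert_false T ((skipEmb 3).trans (Function.Embedding.refl _)) (by norm_num) (fun _ => hall _) (((((LB_zero T ((skipEmb 3).trans (Function.Embedding.refl _))).upd 0 3 1 (le_of_eq hx04)).upd 2 3 2 (le_of_eq hx24)).upd 3 0 2 (le_of_eq hx40)).upd 3 2 1 (le_of_eq hx42)) ![1,0,2,2] (by decide) (by decide) 0 (by decide))
      · -- 24=(1,3)
        exact False.elim (cert_false T ((skipEmb 3).trans (Function.Embedding.refl _)) (by norm_num) (fun _ => hall _) (((((LB_zero T ((skipEmb 3).trans (Function.Embedding.refl _))).upd 0 3 1 (le_of_eq hx04)).upd 2 3 1 (le_of_eq hx24)).upd 3 0 2 (le_of_eq hx40)).upd 3 2 3 (le_of_eq hx42)) ![1,0,1,2] (by decide) (by decide) 0 (by decide))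
      · -- 24=(3,1)
        exact False.elim (cert_false T ((skipEmb 3).trans (Function.Embedding.refl _)) (by norm_num) (fun _ => hall _) (((((LB_zero T ((skipEmb 3).trans (Function.Embedding.refl _))).upd 0 3 1 (le_of_eq hx04)).upd 2 3 3 (le_of_eq hx24)).upd 3 0 2 (le_of_eq hx40)).upd 3 2 1 (le_of_eq hx42)) ![1,0,2,2] (by decide) (by decide) 0 (by decide))
    · -- 14=(1,1)
      rcases d24 with ⟨rfl, rfl⟩ | ⟨rfl, rfl⟩ | ⟨rfl, rfl⟩ | ⟨rfl, rfl⟩ | ⟨rfl, rfl⟩ | ⟨rfl, rfl⟩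
      · -- 24=(0,0)
        rcases d34 with ⟨rfl, rfl⟩ | ⟨rfl, rfl⟩ | ⟨rfl, rfl⟩ | ⟨rfl, rfl⟩ | ⟨rfl, rfl⟩ | ⟨rfl, rfl⟩
        · -- 34=(0,0)
          exfalso; omega
        · -- 34=(1,1)
          exact False.elim (cert_false T ((skipEmb 2).trans (Function.Embedding.refl _)) (by norm_num) (fun _ => hall _) (((((((LB_zero T ((skipEmb 2).trans (Function.Embedding.refl _))).upd 0 3 1 (le_of_eq hx04)).upd 1 3 1 (le_of_eq hx14)).upd 2 3 1 (le_of_eq hx34)).upd 3 0 2 (le_of_eq hx40)).upd 3 1 1 (le_of_eq hx41)).upd 3 2 1 (le_of_eq hx43)) ![1,1,1,2] (by decide) (by decide) 0 (by decide))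
        · -- 34=(1,2)
          exact False.elim (cert_false T ((skipEmb 2).trans (Function.Embedding.refl _)) (by norm_num) (fun _ => hall _) (((((LB_zero T ((skipEmb 2).trans (Function.Embedding.refl _))).upd 0 3 1 (le_of_eq hx04)).upd 2 3 1 (le_of_eq hx34)).upd 3 0 2 (le_of_eq hx40)).upd 3 2 2 (le_of_eq hx43)) ![1,0,1,2] (by decide) (by decide) 0 (by decide))
        · -- 34=(2,1)
          exact False.elim (cert_false T ((skipEmb 2).trans (Function.Embedding.refl _)) (by norm_num) (fun _ => hall _) (((((LB_zero T ((skipEmb 2).trans (Function.Embedding.refl _))).upd 0 3 1 (le_of_eq hx04)).upd 2 3 2 (le_of_eq hx34)).upd 3 0 2 (le_of_eq hx40)).upd 3 2 1 (le_of_eq hx43)) ![1,0,2,2] (by decide) (by decide) 0 (by decide))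
        · -- 34=(1,3)
          exact False.elim (cert_false T ((skipEmb 2).trans (Function.Embedding.refl _)) (by norm_num) (fun _ => hall _) (((((LB_zero T ((skipEmb 2).trans (Function.Embedding.refl _))).upd 1 3 1 (le_of_eq hx14)).upd 2 3 1 (le_of_eq hx34)).upd 3 1 1 (le_of_eq hx41)).upd 3 2 3 (le_of_eq hx43)) ![0,1,1,2] (by decide) (by decide) 1 (by decide))
        · -- 34=(3,1)
          exact False.elim (cert_false T ((skipEmb 2).trans (Function.Embedding.refl _)) (by norm_num) (fun _ => hall _) (((((LB_zero T ((skipEmb 2).trans (Function.Embedding.refl _))).upd 0 3 1 (le_of_eq hx04)).upd 2 3 3 (le_of_eq hx34)).upd 3 0 2 (le_of_eq hx40)).upd 3 2 1 (le_of_eq hx43)) ![1,0,2,2] (by decide) (by decide) 0 (by decide))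
      · -- 24=(1,1)
        exact False.elim (cert_false T ((skipEmb 3).trans (Function.Embedding.refl _)) (by norm_num) (fun _ => hall _) (((((((LB_zero T ((skipEmb 3).trans (Function.Embedding.refl _))).upd 0 3 1 (le_of_eq hx04)).upd 1 3 1 (le_of_eq hx14)).upd 2 3 1 (le_of_eq hx24)).upd 3 0 2 (le_of_eq hx40)).upd 3 1 1 (le_of_eq hx41)).upd 3 2 1 (le_of_eq hx42)) ![1,1,1,2] (by decide) (by decide) 0 (by decide))
      · -- 24=(1,2)
        exact False.elim (cert_false T ((skipEmb 3).trans (Function.Embedding.refl _)) (by norm_num) (fun _ => hall _) (((((LB_zero T ((skipEmb 3).trans (Function.Embedding.refl _))).upd 0 3 1 (le_of_eq hx04)).upd 2 3 1 (le_of_eq hx24)).upd 3 0 2 (le_of_eq hx40)).upd 3 2 2 (le_of_eq hx42)) ![1,0,1,2] (by decide) (by decide) 0 (by decide))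
      · -- 24=(2,1)
        exact False.elim (cert_false T ((skipEmb 3).trans (Function.Embedding.refl _)) (by norm_num) (fun _ => hall _) (((((LB_zero T ((skipEmb 3).trans (Function.Embedding.refl _))).upd 0 3 1 (le_of_eq hx04)).upd 2 3 2 (le_of_eq hx24)).upd 3 0 2 (le_of_eq hx40)).upd 3 2 1 (le_of_eq hx42)) ![1,0,2,2] (by decide) (by decide) 0 (by decide))
      · -- 24=(1,3)
        exact False.elim (cert_false T ((skipEmb 3).trans (Function.Embedding.refl _)) (by norm_num) (fun _ => hall _) (((((LB_zero T ((skipEmb 3).trans (Function.Embedding.refl _))).upd 1 3 1 (le_of_eq hx14)).upd 2 3 1 (le_of_eq hx24)).upd 3 1 1 (le_of_eq hx41)).upd 3 2 3 (le_of_eq hx42)) ![0,1,1,2] (by decide) (by decide) 1 (by decide))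
      · -- 24=(3,1)
        exact False.elim (cert_false T ((skipEmb 3).trans (Function.Embedding.refl _)) (by norm_num) (fun _ => hall _) (((((LB_zero T ((skipEmb 3).trans (Function.Embedding.refl _))).upd 0 3 1 (le_of_eq hx04)).upd 2 3 3 (le_of_eq hx24)).upd 3 0 2 (le_of_eq hx40)).upd 3 2 1 (le_of_eq hx42)) ![1,0,2,2] (by decide) (by decide) 0 (by decide))
    · -- 14=(1,2)
      exact False.elim (cert_false T ((skipEmb 3).trans (Function.Embedding.refl _)) (by norm_num) (fun _ => hall _) (((((LB_zero T ((skipEmb 3).trans (Function.Embedding.refl _))).upd 0 3 1 (le_of_eq hx04)).upd 1 3 1 (le_of_eq hx14)).upd 3 0 2 (le_of_eq hx40)).upd 3 1 2 (le_of_eq hx41)) ![1,1,0,2] (by decide) (by decide) 0 (by decide))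
    · -- 14=(2,1)
      exact False.elim (cert_false T ((skipEmb 3).trans (Function.Embedding.refl _)) (by norm_num) (fun _ => hall _) (((((LB_zero T ((skipEmb 3).trans (Function.Embedding.refl _))).upd 0 3 1 (le_of_eq hx04)).upd 1 3 2 (le_of_eq hx14)).upd 3 0 2 (le_of_eq hx40)).upd 3 1 1 (le_of_eq hx41)) ![1,2,0,2] (by decide) (by decide) 0 (by decide))
    · -- 14=(1,3)
      exact False.elim (cert_false T ((skipEmb 3).trans (Function.Embedding.refl _)) (by norm_num) (fun _ => hall _) (((((LB_zero T ((skipEmb 3).trans (Function.Embedding.refl _))).upd 0 3 1 (le_of_eq hx04)).upd 1 3 1 (le_of_eq hx14)).upd 3 0 2 (le_of_eq hx40)).upd 3 1 3 (le_of_eq hx41)) ![1,1,0,2] (by decide) (by decide) 0 (by decide))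
    · -- 14=(3,1)
      exact False.elim (cert_false T ((skipEmb 3).trans (Function.Embedding.refl _)) (by norm_num) (fun _ => hall _) (((((LB_zero T ((skipEmb 3).trans (Function.Embedding.refl _))).upd 0 3 1 (le_of_eq hx04)).upd 1 3 3 (le_of_eq hx14)).upd 3 0 2 (le_of_eq hx40)).upd 3 1 1 (le_of_eq hx41)) ![1,2,0,2] (by decide) (by decide) 0 (by decide))
  · -- 04=(2,1)
    rcases d14 with ⟨rfl, rfl⟩ | ⟨rfl, rfl⟩ | ⟨rfl, rfl⟩ | ⟨rfl, rfl⟩ | ⟨rfl, rfl⟩ | ⟨rfl, rfl⟩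
    · -- 14=(0,0)
      rcases d24 with ⟨rfl, rfl⟩ | ⟨rfl, rfl⟩ | ⟨rfl, rfl⟩ | ⟨rfl, rfl⟩ | ⟨rfl, rfl⟩ | ⟨rfl, rfl⟩
      · -- 24=(0,0)
        rcases d34 with ⟨rfl, rfl⟩ | ⟨rfl, rfl⟩ | ⟨rfl, rfl⟩ | ⟨rfl, rfl⟩ | ⟨rfl, rfl⟩ | ⟨rfl, rfl⟩
        · -- 34=(0,0)
          exfalso; omega
        · -- 34=(1,1)
          exact False.elim (cert_false T ((skipEmb 1).trans (Function.Embedding.refl _)) (by norm_num) (fun _ => hall _) (((((((LB_zero T ((skipEmb 1).trans (Function.Embedding.refl _))).upd 0 3 2 (le_of_eq hx04)).upd 1 2 2 (le_of_eq hx23)).upd 2 1 1 (le_of_eq hx32)).upd 2 3 1 (le_of_eq hx34)).upd 3 0 1 (le_of_eq hx40)).upd 3 2 1 (le_of_eq hx43)) ![1,1,1,1] (by decide) (by decide) 0 (by decide))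
        · -- 34=(1,2)
          exact False.elim (cert_false T ((skipEmb 2).trans (Function.Embedding.refl _)) (by norm_num) (fun _ => hall _) (((((LB_zero T ((skipEmb 2).trans (Function.Embedding.refl _))).upd 0 3 2 (le_of_eq hx04)).upd 2 3 1 (le_of_eq hx34)).upd 3 0 1 (le_of_eq hx40)).upd 3 2 2 (le_of_eq hx43)) ![2,0,1,2] (by decide) (by decide) 0 (by decide))
        · -- 34=(2,1)
          exact False.elim (cert_false T ((skipEmb 2).trans (Function.Embedding.refl _)) (by norm_num) (fun _ => hall _) (((((LB_zero T ((skipEmb 2).trans (Function.Embedding.refl _))).upd 0 3 2 (le_of_eq hx04)).upd 2 3 2 (le_of_eq hx34)).upd 3 0 1 (le_of_eq hx40)).upd 3 2 1 (le_of_eq hx43)) ![1,0,1,1] (by decide) (by decide) 0 (by decide))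
        · -- 34=(1,3)
          exact False.elim (cert_false T ((skipEmb 2).trans (Function.Embedding.refl _)) (by norm_num) (fun _ => hall _) (((((LB_zero T ((skipEmb 2).trans (Function.Embedding.refl _))).upd 0 3 2 (le_of_eq hx04)).upd 2 3 1 (le_of_eq hx34)).upd 3 0 1 (le_of_eq hx40)).upd 3 2 3 (le_of_eq hx43)) ![1,0,1,2] (by decide) (by decide) 0 (by decide))
        · -- 34=(3,1)
          exact False.elim (cert_false T ((skipEmb 2).trans (Function.Embedding.refl _)) (by norm_num) (fun _ => hall _) (((((LB_zero T ((skipEmb 2).trans (Function.Embedding.refl _))).upd 0 3 2 (le_of_eq hx04)).upd 2 3 3 (le_of_eq hx34)).upd 3 0 1 (le_of_eq hx40)).upd 3 2 1 (le_of_eq hx43)) ![1,0,1,1] (by decide) (by decide) 0 (by decide))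
      · -- 24=(1,1)
        exact False.elim (cert_false T ((skipEmb 1).trans (Function.Embedding.refl _)) (by norm_num) (fun _ => hall _) (((((((LB_zero T ((skipEmb 1).trans (Function.Embedding.refl _))).upd 0 3 2 (le_of_eq hx04)).upd 1 2 2 (le_of_eq hx23)).upd 1 3 1 (le_of_eq hx24)).upd 2 1 1 (le_of_eq hx32)).upd 3 0 1 (le_of_eq hx40)).upd 3 1 1 (le_of_eq hx42)) ![2,2,1,2] (by decide) (by decide) 0 (by decide))
      · -- 24=(1,2)
        exact False.elim (cert_false T ((skipEmb 3).trans (Function.Embedding.refl _)) (by norm_num) (fun _ => hall _) (((((LB_zero T ((skipEmb 3).trans (Function.Embedding.refl _))).upd 0 3 2 (le_of_eq hx04)).upd 2 3 1 (le_of_eq hx24)).upd 3 0 1 (le_of_eq hx40)).upd 3 2 2 (le_of_eq hx42)) ![2,0,1,2] (by decide) (by decide) 0 (by decide))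
      · -- 24=(2,1)
        exact False.elim (cert_false T ((skipEmb 3).trans (Function.Embedding.refl _)) (by norm_num) (fun _ => hall _) (((((LB_zero T ((skipEmb 3).trans (Function.Embedding.refl _))).upd 0 3 2 (le_of_eq hx04)).upd 2 3 2 (le_of_eq hx24)).upd 3 0 1 (le_of_eq hx40)).upd 3 2 1 (le_of_eq hx42)) ![1,0,1,1] (by decide) (by decide) 0 (by decide))
      · -- 24=(1,3)
        exact False.elim (cert_false T ((skipEmb 3).trans (Function.Embedding.refl _)) (by norm_num) (fun _ => hall _) (((((LB_zero T ((skipEmb 3).trans (Function.Embedding.refl _))).upd 0 3 2 (le_of_eq hx04)).upd 2 3 1 (le_of_eq hx24)).upd 3 0 1 (le_of_eq hx40)).upd 3 2 3 (le_of_eq hx42)) ![1,0,1,2] (by decide) (by decide) 0 (by decide))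
      · -- 24=(3,1)
        exact False.elim (cert_false T ((skipEmb 3).trans (Function.Embedding.refl _)) (by norm_num) (fun _ => hall _) (((((LB_zero T ((skipEmb 3).trans (Function.Embedding.refl _))).upd 0 3 2 (le_of_eq hx04)).upd 2 3 3 (le_of_eq hx24)).upd 3 0 1 (le_of_eq hx40)).upd 3 2 1 (le_of_eq hx42)) ![1,0,1,1] (by decide) (by decide) 0 (by decide))
    · -- 14=(1,1)
      rcases d24 with ⟨rfl, rfl⟩ | ⟨rfl, rfl⟩ | ⟨rfl, rfl⟩ | ⟨rfl, rfl⟩ | ⟨rfl, rfl⟩ | ⟨rfl, rfl⟩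
      · -- 24=(0,0)
        rcases d34 with ⟨rfl, rfl⟩ | ⟨rfl, rfl⟩ | ⟨rfl, rfl⟩ | ⟨rfl, rfl⟩ | ⟨rfl, rfl⟩ | ⟨rfl, rfl⟩
        · -- 34=(0,0)
          exfalso; omega
        · -- 34=(1,1)
          exact False.elim (cert_false T ((skipEmb 2).trans (Function.Embedding.refl _)) (by norm_num) (fun _ => hall _) (((((((LB_zero T ((skipEmb 2).trans (Function.Embedding.refl _))).upd 0 3 2 (le_of_eq hx04)).upd 1 3 1 (le_of_eq hx14)).upd 2 3 1 (le_of_eq hx34)).upd 3 0 1 (le_of_eq hx40)).upd 3 1 1 (le_of_eq hx41)).upd 3 2 1 (le_of_eq hx43)) ![2,1,1,2] (by decide) (by decide) 0 (by decide))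
        · -- 34=(1,2)
          exact False.elim (cert_false T ((skipEmb 2).trans (Function.Embedding.refl _)) (by norm_num) (fun _ => hall _) (((((((LB_zero T ((skipEmb 2).trans (Function.Embedding.refl _))).upd 0 3 2 (le_of_eq hx04)).upd 1 3 1 (le_of_eq hx14)).upd 2 3 1 (le_of_eq hx34)).upd 3 0 1 (le_of_eq hx40)).upd 3 1 1 (le_of_eq hx41)).upd 3 2 2 (le_of_eq hx43)) ![1,1,1,2] (by decide) (by decide) 0 (by decide))
        · -- 34=(2,1)
          exact False.elim (cert_false T ((skipEmb 2).trans (Function.Embedding.refl _)) (by norm_num) (fun _ => hall _) (((((LB_zero T ((skipEmb 2).trans (Function.Embedding.refl _))).upd 0 3 2 (le_of_eq hx04)).upd 2 3 2 (le_of_eq hx34)).upd 3 0 1 (le_of_eq hx40)).upd 3 2 1 (le_of_eq hx43)) ![1,0,1,1] (by decide) (by decide) 0 (by decide))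
        · -- 34=(1,3)
          exact False.elim (cert_false T ((skipEmb 2).trans (Function.Embedding.refl _)) (by norm_num) (fun _ => hall _) (((((LB_zero T ((skipEmb 2).trans (Function.Embedding.refl _))).upd 1 3 1 (le_of_eq hx14)).upd 2 3 1 (le_of_eq hx34)).upd 3 1 1 (le_of_eq hx41)).upd 3 2 3 (le_of_eq hx43)) ![0,1,1,2] (by decide) (by decide) 1 (by decide))
        · -- 34=(3,1)
          exact False.elim (cert_false T ((skipEmb 2).trans (Function.Embedding.refl _)) (by norm_num) (fun _ => hall _) (((((LB_zero T ((skipEmb 2).trans (Function.Embedding.refl _))).upd 0 3 2 (le_of_eq hx04)).upd 2 3 3 (le_of_eq hx34)).upd 3 0 1 (le_of_eq hx40)).upd 3 2 1 (le_of_eq hx43)) ![1,0,1,1] (by decide) (by decide) 0 (by decide))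
      · -- 24=(1,1)
        exact False.elim (cert_false T ((skipEmb 3).trans (Function.Embedding.refl _)) (by norm_num) (fun _ => hall _) (((((((LB_zero T ((skipEmb 3).trans (Function.Embedding.refl _))).upd 0 3 2 (le_of_eq hx04)).upd 1 3 1 (le_of_eq hx14)).upd 2 3 1 (le_of_eq hx24)).upd 3 0 1 (le_of_eq hx40)).upd 3 1 1 (le_of_eq hx41)).upd 3 2 1 (le_of_eq hx42)) ![2,1,1,2] (by decide) (by decide) 0 (by decide))
      · -- 24=(1,2)
        exact False.elim (cert_false T ((skipEmb 3).trans (Function.Embedding.refl _)) (by norm_num) (fun _ => hall _) (((((((LB_zero T ((skipEmb 3).trans (Function.Embedding.refl _))).upd 0 3 2 (le_of_eq hx04)).upd 1 3 1 (le_of_eq hx14)).upd 2 3 1 (le_of_eq hx24)).upd 3 0 1 (le_of_eq hx40)).upd 3 1 1 (le_of_eq hx41)).upd 3 2 2 (le_of_eq hx42)) ![1,1,1,2] (by decide) (by decide) 0 (by decide))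
      · -- 24=(2,1)
        exact False.elim (cert_false T ((skipEmb 3).trans (Function.Embedding.refl _)) (by norm_num) (fun _ => hall _) (((((LB_zero T ((skipEmb 3).trans (Function.Embedding.refl _))).upd 0 3 2 (le_of_eq hx04)).upd 2 3 2 (le_of_eq hx24)).upd 3 0 1 (le_of_eq hx40)).upd 3 2 1 (le_of_eq hx42)) ![1,0,1,1] (by decide) (by decide) 0 (by decide))
      · -- 24=(1,3)
        exact False.elim (cert_false T ((skipEmb 3).trans (Function.Embedding.refl _)) (by norm_num) (fun _ => hall _) (((((LB_zero T ((skipEmb 3).trans (Function.Embedding.refl _))).upd 1 3 1 (le_of_eq hx14)).upd 2 3 1 (le_of_eq hx24)).upd 3 1 1 (le_of_eq hx41)).upd 3 2 3 (le_of_eq hx42)) ![0,1,1,2] (by decide) (by decide) 1 (by decide))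
      · -- 24=(3,1)
        exact False.elim (cert_false T ((skipEmb 3).trans (Function.Embedding.refl _)) (by norm_num) (fun _ => hall _) (((((LB_zero T ((skipEmb 3).trans (Function.Embedding.refl _))).upd 0 3 2 (le_of_eq hx04)).upd 2 3 3 (le_of_eq hx24)).upd 3 0 1 (le_of_eq hx40)).upd 3 2 1 (le_of_eq hx42)) ![1,0,1,1] (by decide) (by decide) 0 (by decide))
    · -- 14=(1,2)
      exact False.elim (cert_false T ((skipEmb 3).trans (Function.Embedding.refl _)) (by norm_num) (fun _ => hall _) (((((LB_zero T ((skipEmb 3).trans (Function.Embedding.refl _))).upd 0 3 2 (le_of_eq hx04)).upd 1 3 1 (le_of_eq hx14)).upd 3 0 1 (le_of_eq hx40)).upd 3 1 2 (le_of_eq hx41)) ![2,1,0,2] (by decide) (by decide) 0 (by decide))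
    · -- 14=(2,1)
      exact False.elim (cert_false T ((skipEmb 3).trans (Function.Embedding.refl _)) (by norm_num) (fun _ => hall _) (((((LB_zero T ((skipEmb 3).trans (Function.Embedding.refl _))).upd 0 3 2 (le_of_eq hx04)).upd 1 3 2 (le_of_eq hx14)).upd 3 0 1 (le_of_eq hx40)).upd 3 1 1 (le_of_eq hx41)) ![1,1,0,1] (by decide) (by decide) 0 (by decide))
    · -- 14=(1,3)
      exact False.elim (cert_false T ((skipEmb 3).trans (Function.Embedding.refl _)) (by norm_num) (fun _ => hall _) (((((LB_zero T ((skipEmb 3).trans (Function.Embedding.refl _))).upd 0 3 2 (le_of_eq hx04)).upd 1 3 1 (le_of_eq hx14)).upd 3 0 1 (le_of_eq hx40)).upd 3 1 3 (le_of_eq hx41)) ![1,1,0,2] (by decide) (by decide) 0 (by decide))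
    · -- 14=(3,1)
      exact False.elim (cert_false T ((skipEmb 3).trans (Function.Embedding.refl _)) (by norm_num) (fun _ => hall _) (((((LB_zero T ((skipEmb 3).trans (Function.Embedding.refl _))).upd 0 3 2 (le_of_eq hx04)).upd 1 3 3 (le_of_eq hx14)).upd 3 0 1 (le_of_eq hx40)).upd 3 1 1 (le_of_eq hx41)) ![1,1,0,1] (by decide) (by decide) 0 (by decide))
  · -- 04=(1,3)
    rcases d14 with ⟨rfl, rfl⟩ | ⟨rfl, rfl⟩ | ⟨rfl, rfl⟩ | ⟨rfl, rfl⟩ | ⟨rfl, rfl⟩ | ⟨rfl, rfl⟩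
    · -- 14=(0,0)
      rcases d24 with ⟨rfl, rfl⟩ | ⟨rfl, rfl⟩ | ⟨rfl, rfl⟩ | ⟨rfl, rfl⟩ | ⟨rfl, rfl⟩ | ⟨rfl, rfl⟩
      · -- 24=(0,0)
        rcases d34 with ⟨rfl, rfl⟩ | ⟨rfl, rfl⟩ | ⟨rfl, rfl⟩ | ⟨rfl, rfl⟩ | ⟨rfl, rfl⟩ | ⟨rfl, rfl⟩
        · -- 34=(0,0)
          exfalso; omega
        · -- 34=(1,1)
          exact False.elim (cert_false T ((skipEmb 2).trans (Function.Embedding.refl _)) (by norm_num) (fun _ => hall _) (((((LB_zero T ((skipEmb 2).trans (Function.Embedding.refl _))).upd 0 3 1 (le_of_eq hx04)).upd 2 3 1 (le_of_eq hx34)).upd 3 0 3 (le_of_eq hx40)).upd 3 2 1 (le_of_eq hx43)) ![1,0,1,2] (by decide) (by decide) 0 (by decide))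
        · -- 34=(1,2)
          exact False.elim (cert_false T ((skipEmb 2).trans (Function.Embedding.refl _)) (by norm_num) (fun _ => hall _) (((((LB_zero T ((skipEmb 2).trans (Function.Embedding.refl _))).upd 0 3 1 (le_of_eq hx04)).upd 2 3 1 (le_of_eq hx34)).upd 3 0 3 (le_of_eq hx40)).upd 3 2 2 (le_of_eq hx43)) ![1,0,1,2] (by decide) (by decide) 0 (by decide))
        · -- 34=(2,1)
          exact False.elim (cert_false T ((skipEmb 2).trans (Function.Embedding.refl _)) (by norm_num) (fun _ => hall _) (((((LB_zero T ((skipEmb 2).trans (Function.Embedding.refl _))).upd 0 3 1 (le_of_eq hx04)).upd 2 3 2 (le_of_eq hx34)).upd 3 0 3 (le_of_eq hx40)).upd 3 2 1 (le_of_eq hx43)) ![1,0,1,2] (by decide) (by decide) 0 (by decide))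
        · -- 34=(1,3)
          exact False.elim (cert_false T ((skipEmb 2).trans (Function.Embedding.refl _)) (by norm_num) (fun _ => hall _) (((((LB_zero T ((skipEmb 2).trans (Function.Embedding.refl _))).upd 0 3 1 (le_of_eq hx04)).upd 2 3 1 (le_of_eq hx34)).upd 3 0 3 (le_of_eq hx40)).upd 3 2 3 (le_of_eq hx43)) ![1,0,1,2] (by decide) (by decide) 0 (by decide))
        · -- 34=(3,1)
          exact False.elim (cert_false T ((skipEmb 2).trans (Function.Embedding.refl _)) (by norm_num) (fun _ => hall _) (((((LB_zero T ((skipEmb 2).trans (Function.Embedding.refl _))).upd 0 3 1 (le_of_eq hx04)).upd 2 3 3 (le_of_eq hx34)).upd 3 0 3 (le_of_eq hx40)).upd 3 2 1 (le_of_eq hx43)) ![1,0,1,2] (by decide) (by decide) 0 (by decide))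
      · -- 24=(1,1)
        exact False.elim (cert_false T ((skipEmb 3).trans (Function.Embedding.refl _)) (by norm_num) (fun _ => hall _) (((((LB_zero T ((skipEmb 3).trans (Function.Embedding.refl _))).upd 0 3 1 (le_of_eq hx04)).upd 2 3 1 (le_of_eq hx24)).upd 3 0 3 (le_of_eq hx40)).upd 3 2 1 (le_of_eq hx42)) ![1,0,1,2] (by decide) (by decide) 0 (by decide))
      · -- 24=(1,2)
        exact False.elim (cert_false T ((skipEmb 3).trans (Function.Embedding.refl _)) (by norm_num) (fun _ => hall _) (((((LB_zero T ((skipEmb 3).trans (Function.Embedding.refl _))).upd 0 3 1 (le_of_eq hx04)).upd 2 3 1 (le_of_eq hx24)).upd 3 0 3 (le_of_eq hx40)).upd 3 2 2 (le_of_eq hx42)) ![1,0,1,2] (by decide) (by decide) 0 (by decide))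
      · -- 24=(2,1)
        exact False.elim (cert_false T ((skipEmb 3).trans (Function.Embedding.refl _)) (by norm_num) (fun _ => hall _) (((((LB_zero T ((skipEmb 3).trans (Function.Embedding.refl _))).upd 0 3 1 (le_of_eq hx04)).upd 2 3 2 (le_of_eq hx24)).upd 3 0 3 (le_of_eq hx40)).upd 3 2 1 (le_of_eq hx42)) ![1,0,1,2] (by decide) (by decide) 0 (by decide))
      · -- 24=(1,3)
        exact False.elim (cert_false T ((skipEmb 3).trans (Function.Embedding.refl _)) (by norm_num) (fun _ => hall _) (((((LB_zero T ((skipEmb 3).trans (Function.Embedding.refl _))).upd 0 3 1 (le_of_eq hx04)).upd 2 3 1 (le_of_eq hx24)).upd 3 0 3 (le_of_eq hx40)).upd 3 2 3 (le_of_eq hx42)) ![1,0,1,2] (by decide) (by decide) 0 (by decide))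
      · -- 24=(3,1)
        exact False.elim (cert_false T ((skipEmb 3).trans (Function.Embedding.refl _)) (by norm_num) (fun _ => hall _) (((((LB_zero T ((skipEmb 3).trans (Function.Embedding.refl _))).upd 0 3 1 (le_of_eq hx04)).upd 2 3 3 (le_of_eq hx24)).upd 3 0 3 (le_of_eq hx40)).upd 3 2 1 (le_of_eq hx42)) ![1,0,1,2] (by decide) (by decide) 0 (by decide))
    · -- 14=(1,1)
      exact False.elim (cert_false T ((skipEmb 3).trans (Function.Embedding.refl _)) (by norm_num) (fun _ => hall _) (((((LB_zero T ((skipEmb 3).trans (Function.Embedding.refl _))).upd 0 3 1 (le_of_eq hx04)).upd 1 3 1 (le_of_eq hx14)).upd 3 0 3 (le_of_eq hx40)).upd 3 1 1 (le_of_eq hx41)) ![1,1,0,2] (by decide) (by decide) 0 (by decide))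
    · -- 14=(1,2)
      exact False.elim (cert_false T ((skipEmb 3).trans (Function.Embedding.refl _)) (by norm_num) (fun _ => hall _) (((((LB_zero T ((skipEmb 3).trans (Function.Embedding.refl _))).upd 0 3 1 (le_of_eq hx04)).upd 1 3 1 (le_of_eq hx14)).upd 3 0 3 (le_of_eq hx40)).upd 3 1 2 (le_of_eq hx41)) ![1,1,0,2] (by decide) (by decide) 0 (by decide))
    · -- 14=(2,1)
      exact False.elim (cert_false T ((skipEmb 3).trans (Function.Embedding.refl _)) (by norm_num) (fun _ => hall _) (((((LB_zero T ((skipEmb 3).trans (Function.Embedding.refl _))).upd 0 3 1 (le_of_eq hx04)).upd 1 3 2 (le_of_eq hx14)).upd 3 0 3 (le_of_eq hx40)).upd 3 1 1 (le_of_eq hx41)) ![1,1,0,2] (by decide) (by decide) 0 (by decide))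
    · -- 14=(1,3)
      exact False.elim (cert_false T ((skipEmb 3).trans (Function.Embedding.refl _)) (by norm_num) (fun _ => hall _) (((((LB_zero T ((skipEmb 3).trans (Function.Embedding.refl _))).upd 0 3 1 (le_of_eq hx04)).upd 1 3 1 (le_of_eq hx14)).upd 3 0 3 (le_of_eq hx40)).upd 3 1 3 (le_of_eq hx41)) ![1,1,0,2] (by decide) (by decide) 0 (by decide))
    · -- 14=(3,1)
      exact False.elim (cert_false T ((skipEmb 3).trans (Function.Embedding.refl _)) (by norm_num) (fun _ => hall _) (((((LB_zero T ((skipEmb 3).trans (Function.Embedding.refl _))).upd 0 3 1 (le_of_eq hx04)).upd 1 3 3 (le_of_eq hx14)).upd 3 0 3 (le_of_eq hx40)).upd 3 1 1 (le_of_eq hx41)) ![1,1,0,2] (by decide) (by decide) 0 (by decide))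
  · -- 04=(3,1)
    rcases d14 with ⟨rfl, rfl⟩ | ⟨rfl, rfl⟩ | ⟨rfl, rfl⟩ | ⟨rfl, rfl⟩ | ⟨rfl, rfl⟩ | ⟨rfl, rfl⟩
    · -- 14=(0,0)
      rcases d24 with ⟨rfl, rfl⟩ | ⟨rfl, rfl⟩ | ⟨rfl, rfl⟩ | ⟨rfl, rfl⟩ | ⟨rfl, rfl⟩ | ⟨rfl, rfl⟩
      · -- 24=(0,0)
        rcases d34 with ⟨rfl, rfl⟩ | ⟨rfl, rfl⟩ | ⟨rfl, rfl⟩ | ⟨rfl, rfl⟩ | ⟨rfl, rfl⟩ | ⟨rfl, rfl⟩
        · -- 34=(0,0)
          exfalso; omega
        · -- 34=(1,1)
          exact False.elim (cert_false T ((skipEmb 2).trans (Function.Embedding.refl _)) (by norm_num) (fun _ => hall _) (((((LB_zero T ((skipEmb 2).trans (Function.Embedding.refl _))).upd 0 3 3 (le_of_eq hx04)).upd 2 3 1 (le_of_eq hx34)).upd 3 0 1 (le_of_eq hx40)).upd 3 2 1 (le_of_eq hx43)) ![3,0,1,2] (by decide) (by decide) 0 (by decide))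
        · -- 34=(1,2)
          exact False.elim (cert_false T ((skipEmb 2).trans (Function.Embedding.refl _)) (by norm_num) (fun _ => hall _) (((((LB_zero T ((skipEmb 2).trans (Function.Embedding.refl _))).upd 0 3 3 (le_of_eq hx04)).upd 2 3 1 (le_of_eq hx34)).upd 3 0 1 (le_of_eq hx40)).upd 3 2 2 (le_of_eq hx43)) ![2,0,1,2] (by decide) (by decide) 0 (by decide))
        · -- 34=(2,1)
          exact False.elim (cert_false T ((skipEmb 2).trans (Function.Embedding.refl _)) (by norm_num) (fun _ => hall _) (((((LB_zero T ((skipEmb 2).trans (Function.Embedding.refl _))).upd 0 3 3 (le_of_eq hx04)).upd 2 3 2 (le_of_eq hx34)).upd 3 0 1 (le_of_eq hx40)).upd 3 2 1 (le_of_eq hx43)) ![1,0,1,1] (by decide) (by decide) 0 (by decide))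
        · -- 34=(1,3)
          exact False.elim (cert_false T ((skipEmb 2).trans (Function.Embedding.refl _)) (by norm_num) (fun _ => hall _) (((((LB_zero T ((skipEmb 2).trans (Function.Embedding.refl _))).upd 0 3 3 (le_of_eq hx04)).upd 2 3 1 (le_of_eq hx34)).upd 3 0 1 (le_of_eq hx40)).upd 3 2 3 (le_of_eq hx43)) ![1,0,1,2] (by decide) (by decide) 0 (by decide))
        · -- 34=(3,1)
          exact False.elim (cert_false T ((skipEmb 2).trans (Function.Embedding.refl _)) (by norm_num) (fun _ => hall _) (((((LB_zero T ((skipEmb 2).trans (Function.Embedding.refl _))).upd 0 3 3 (le_of_eq hx04)).upd 2 3 3 (le_of_eq hx34)).upd 3 0 1 (le_of_eq hx40)).upd 3 2 1 (le_of_eq hx43)) ![1,0,1,1] (by decide) (by decide) 0 (by decide))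
      · -- 24=(1,1)
        exact False.elim (cert_false T ((skipEmb 3).trans (Function.Embedding.refl _)) (by norm_num) (fun _ => hall _) (((((LB_zero T ((skipEmb 3).trans (Function.Embedding.refl _))).upd 0 3 3 (le_of_eq hx04)).upd 2 3 1 (le_of_eq hx24)).upd 3 0 1 (le_of_eq hx40)).upd 3 2 1 (le_of_eq hx42)) ![3,0,1,2] (by decide) (by decide) 0 (by decide))
      · -- 24=(1,2)
        exact False.elim (cert_false T ((skipEmb 3).trans (Function.Embedding.refl _)) (by norm_num) (fun _ => hall _) (((((LB_zero T ((skipEmb 3).trans (Function.Embedding.refl _))).upd 0 3 3 (le_of_eq hx04)).upd 2 3 1 (le_of_eq hx24)).upd 3 0 1 (le_of_eq hx40)).upd 3 2 2 (le_of_eq hx42)) ![2,0,1,2] (by decide) (by decide) 0 (by decide))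
      · -- 24=(2,1)
        exact False.elim (cert_false T ((skipEmb 3).trans (Function.Embedding.refl _)) (by norm_num) (fun _ => hall _) (((((LB_zero T ((skipEmb 3).trans (Function.Embedding.refl _))).upd 0 3 3 (le_of_eq hx04)).upd 2 3 2 (le_of_eq hx24)).upd 3 0 1 (le_of_eq hx40)).upd 3 2 1 (le_of_eq hx42)) ![1,0,1,1] (by decide) (by decide) 0 (by decide))
      · -- 24=(1,3)
        exact False.elim (cert_false T ((skipEmb 3).trans (Function.Embedding.refl _)) (by norm_num) (fun _ => hall _) (((((LB_zero T ((skipEmb 3).trans (Function.Embedding.refl _))).upd 0 3 3 (le_of_eq hx04)).upd 2 3 1 (le_of_eq hx24)).upd 3 0 1 (le_of_eq hx40)).upd 3 2 3 (le_of_eq hx42)) ![1,0,1,2] (by decide) (by decide) 0 (by decide))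
      · -- 24=(3,1)
        exact False.elim (cert_false T ((skipEmb 3).trans (Function.Embedding.refl _)) (by norm_num) (fun _ => hall _) (((((LB_zero T ((skipEmb 3).trans (Function.Embedding.refl _))).upd 0 3 3 (le_of_eq hx04)).upd 2 3 3 (le_of_eq hx24)).upd 3 0 1 (le_of_eq hx40)).upd 3 2 1 (le_of_eq hx42)) ![1,0,1,1] (by decide) (by decide) 0 (by decide))
    · -- 14=(1,1)
      exact False.elim (cert_false T ((skipEmb 3).trans (Function.Embedding.refl _)) (by norm_num) (fun _ => hall _) (((((LB_zero T ((skipEmb 3).trans (Function.Embedding.refl _))).upd 0 3 3 (le_of_eq hx04)).upd 1 3 1 (le_of_eq hx14)).upd 3 0 1 (le_of_eq hx40)).upd 3 1 1 (le_of_eq hx41)) ![3,1,0,2] (by decide) (by decide) 0 (by decide))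
    · -- 14=(1,2)
      exact False.elim (cert_false T ((skipEmb 3).trans (Function.Embedding.refl _)) (by norm_num) (fun _ => hall _) (((((LB_zero T ((skipEmb 3).trans (Function.Embedding.refl _))).upd 0 3 3 (le_of_eq hx04)).upd 1 3 1 (le_of_eq hx14)).upd 3 0 1 (le_of_eq hx40)).upd 3 1 2 (le_of_eq hx41)) ![2,1,0,2] (by decide) (by decide) 0 (by decide))
    · -- 14=(2,1)
      exact False.elim (cert_false T ((skipEmb 3).trans (Function.Embedding.refl _)) (by norm_num) (fun _ => hall _) (((((LB_zero T ((skipEmb 3).trans (Function.Embedding.refl _))).upd 0 3 3 (le_of_eq hx04)).upd 1 3 2 (le_of_eq hx14)).upd 3 0 1 (le_of_eq hx40)).upd 3 1 1 (le_of_eq hx41)) ![1,1,0,1] (by decide) (by decide) 0 (by decide))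
    · -- 14=(1,3)
      exact False.elim (cert_false T ((skipEmb 3).trans (Function.Embedding.refl _)) (by norm_num) (fun _ => hall _) (((((LB_zero T ((skipEmb 3).trans (Function.Embedding.refl _))).upd 0 3 3 (le_of_eq hx04)).upd 1 3 1 (le_of_eq hx14)).upd 3 0 1 (le_of_eq hx40)).upd 3 1 3 (le_of_eq hx41)) ![1,1,0,2] (by decide) (by decide) 0 (by decide))
    · -- 14=(3,1)
      exact False.elim (cert_false T ((skipEmb 3).trans (Function.Embedding.refl _)) (by norm_num) (fun _ => hall _) (((((LB_zero T ((skipEmb 3).trans (Function.Embedding.refl _))).upd 0 3 3 (le_of_eq hx04)).upd 1 3 3 (le_of_eq hx14)).upd 3 0 1 (le_of_eq hx40)).upd 3 1 1 (le_of_eq hx41)) ![1,1,0,1] (by decide) (by decide) 0 (by decide))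

theorem case18 (T : NumericalType 5) (hall : ∀ i, T.IsMinusTwo i) (d : SData T)
    (h01 : N T (Function.Embedding.refl _) 0 1 = 0) (h10 : N T (Function.Embedding.refl _) 1 0 = 0)
    (h02 : N T (Function.Embedding.refl _) 0 2 = 0) (h20 : N T (Function.Embedding.refl _) 2 0 = 0)
    (h12 : N T (Function.Embedding.refl _) 1 2 = 0) (h21 : N T (Function.Embedding.refl _) 2 1 = 0)
    (h03 : N T (Function.Embedding.refl _) 0 3 = 0) (h30 : N T (Function.Embedding.refl _) 3 0 = 0)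
    (h13 : N T (Function.Embedding.refl _) 1 3 = 0) (h31 : N T (Function.Embedding.refl _) 3 1 = 0)
    (h23 : N T (Function.Embedding.refl _) 2 3 = 1) (h32 : N T (Function.Embedding.refl _) 3 2 = 3)
    (h04 : N T (Function.Embedding.refl _) 0 4 = 0) (h40 : N T (Function.Embedding.refl _) 4 0 = 0) :
    Goal T := by
  unfold Goal
  have hd := d
  obtain ⟨x01, x02, x03, x04, x10, x12, x13, x14, x20, x21, x23, x24, x30, x31, x32, x34, x40, x41, x42, x43, hx01, hx02, hx03, hx04, hx10, hx12, hx13, hx14, hx20, hx21, hx23, hx24, hx30, hx31, hx32, hx34, hx40, hx41, hx42, hx43, hw0, hm0, hw1, hm1, hw2, hm2, hw3, hm3, hw4, hm4, a00, a01, a02, a03, a04, a11, a10, a12, a13, a14, a22, a20, a21, a23, a24, a33, a30, a31, a32, a34, a44, a40, a41, a42, a43, wN01, wN02, wN12, wN03, wN13, wN23, wN04, wN14, wN24, wN34, e0, e1, e2, e3, e4, d01, d02, d12, d03, d13, d23, d04, d14, d24, d34⟩ := d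
  obtain rfl : x01 = 0 := hx01.trans h01
  obtain rfl : x10 = 0 := hx10.trans h10
  obtain rfl : x02 = 0 := hx02.trans h02
  obtain rfl : x20 = 0 := hx20.trans h20
  obtain rfl : x12 = 0 := hx12.trans h12
  obtain rfl : x21 = 0 := hx21.trans h21
  obtain rfl : x03 = 0 := hx03.trans h03
  obtain rfl : x30 = 0 := hx30.trans h30
  obtain rfl : x13 = 0 := hx13.trans h13
  obtain rfl : x31 = 0 := hx31.trans h31
  obtain rfl : x23 = 1 := hx23.trans h23
  obtain rfl : x32 = 3 := hx32.trans h32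
  obtain rfl : x04 = 0 := hx04.trans h04
  obtain rfl : x40 = 0 := hx40.trans h40
  rcases d14 with ⟨rfl, rfl⟩ | ⟨rfl, rfl⟩ | ⟨rfl, rfl⟩ | ⟨rfl, rfl⟩ | ⟨rfl, rfl⟩ | ⟨rfl, rfl⟩
  · -- 14=(0,0)
    rcases d24 with ⟨rfl, rfl⟩ | ⟨rfl, rfl⟩ | ⟨rfl, rfl⟩ | ⟨rfl, rfl⟩ | ⟨rfl, rfl⟩ | ⟨rfl, rfl⟩
    · -- 24=(0,0)
      rcases d34 with ⟨rfl, rfl⟩ | ⟨rfl, rfl⟩ | ⟨rfl, rfl⟩ | ⟨rfl, rfl⟩ | ⟨rfl, rfl⟩ | ⟨rfl, rfl⟩
      · -- 34=(0,0)
        exfalso; omega
      · -- 34=(1,1)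
        exact False.elim (cert_false T ((skipEmb 1).trans (Function.Embedding.refl _)) (by norm_num) (fun _ => hall _) (((((LB_zero T ((skipEmb 1).trans (Function.Embedding.refl _))).upd 1 2 1 (le_of_eq hx23)).upd 2 1 3 (le_of_eq hx32)).upd 2 3 1 (le_of_eq hx34)).upd 3 2 1 (le_of_eq hx43)) ![0,1,2,1] (by decide) (by decide) 1 (by decide))
      · -- 34=(1,2)
        exact False.elim (cert_false T ((skipEmb 1).trans (Function.Embedding.refl _)) (by norm_num) (fun _ => hall _) (((((LB_zero T ((skipEmb 1).trans (Function.Embedding.refl _))).upd 1 2 1 (le_of_eq hx23)).upd 2 1 3 (le_of_eq hx32)).upd 2 3 1 (le_of_eq hx34)).upd 3 2 2 (le_of_eq hx43)) ![0,1,2,1] (by decide) (by decide) 1 (by decide))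
      · -- 34=(2,1)
        exact False.elim (cert_false T ((skipEmb 1).trans (Function.Embedding.refl _)) (by norm_num) (fun _ => hall _) (((((LB_zero T ((skipEmb 1).trans (Function.Embedding.refl _))).upd 1 2 1 (le_of_eq hx23)).upd 2 1 3 (le_of_eq hx32)).upd 2 3 2 (le_of_eq hx34)).upd 3 2 1 (le_of_eq hx43)) ![0,1,2,1] (by decide) (by decide) 1 (by decide))
      · -- 34=(1,3)
        exact False.elim (cert_false T ((skipEmb 1).trans (Function.Embedding.refl _)) (by norm_num) (fun _ => hall _) (((((LB_zero T ((skipEmb 1).trans (Function.Embedding.refl _))).upd 1 2 1 (le_of_eq hx23)).upd 2 1 3 (le_of_eq hx32)).upd 2 3 1 (le_of_eq hx34)).upd 3 2 3 (le_of_eq hx43)) ![0,1,2,1] (by decide) (by decide) 1 (by decide))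
      · -- 34=(3,1)
        exact False.elim (cert_false T ((skipEmb 1).trans (Function.Embedding.refl _)) (by norm_num) (fun _ => hall _) (((((LB_zero T ((skipEmb 1).trans (Function.Embedding.refl _))).upd 1 2 1 (le_of_eq hx23)).upd 2 1 3 (le_of_eq hx32)).upd 2 3 3 (le_of_eq hx34)).upd 3 2 1 (le_of_eq hx43)) ![0,1,2,1] (by decide) (by decide) 1 (by decide))
    · -- 24=(1,1)
      exact False.elim (cert_false T ((skipEmb 1).trans (Function.Embedding.refl _)) (by norm_num) (fun _ => hall _) (((((LB_zero T ((skipEmb 1).trans (Function.Embedding.refl _))).upd 1 2 1 (le_of_eq hx23)).upd 1 3 1 (le_of_eq hx24)).upd 2 1 3 (le_of_eq hx32)).upd 3 1 1 (le_of_eq hx42)) ![0,2,3,1] (by decide) (by decide) 1 (by decide))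
    · -- 24=(1,2)
      exact False.elim (cert_false T ((skipEmb 1).trans (Function.Embedding.refl _)) (by norm_num) (fun _ => hall _) (((((LB_zero T ((skipEmb 1).trans (Function.Embedding.refl _))).upd 1 2 1 (le_of_eq hx23)).upd 1 3 1 (le_of_eq hx24)).upd 2 1 3 (le_of_eq hx32)).upd 3 1 2 (le_of_eq hx42)) ![0,1,1,1] (by decide) (by decide) 1 (by decide))
    · -- 24=(2,1)
      exact False.elim (cert_false T ((skipEmb 1).trans (Function.Embedding.refl _)) (by norm_num) (fun _ => hall _) (((((LB_zero T ((skipEmb 1).trans (Function.Embedding.refl _))).upd 1 2 1 (le_of_eq hx23)).upd 1 3 2 (le_of_eq hx24)).upd 2 1 3 (le_of_eq hx32)).upd 3 1 1 (le_of_eq hx42)) ![0,2,2,1] (by decide) (by decide) 1 (by decide))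
    · -- 24=(1,3)
      exact False.elim (cert_false T ((skipEmb 1).trans (Function.Embedding.refl _)) (by norm_num) (fun _ => hall _) (((((LB_zero T ((skipEmb 1).trans (Function.Embedding.refl _))).upd 1 2 1 (le_of_eq hx23)).upd 1 3 1 (le_of_eq hx24)).upd 2 1 3 (le_of_eq hx32)).upd 3 1 3 (le_of_eq hx42)) ![0,1,1,1] (by decide) (by decide) 1 (by decide))
    · -- 24=(3,1)
      exact False.elim (cert_false T ((skipEmb 1).trans (Function.Embedding.refl _)) (by norm_num) (fun _ => hall _) (((((LB_zero T ((skipEmb 1).trans (Function.Embedding.refl _))).upd 1 2 1 (le_of_eq hx23)).upd 1 3 3 (le_of_eq hx24)).upd 2 1 3 (le_of_eq hx32)).upd 3 1 1 (le_of_eq hx42)) ![0,2,1,1] (by decide) (by decide) 1 (by decide))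
  · -- 14=(1,1)
    rcases d24 with ⟨rfl, rfl⟩ | ⟨rfl, rfl⟩ | ⟨rfl, rfl⟩ | ⟨rfl, rfl⟩ | ⟨rfl, rfl⟩ | ⟨rfl, rfl⟩
    · -- 24=(0,0)
      rcases d34 with ⟨rfl, rfl⟩ | ⟨rfl, rfl⟩ | ⟨rfl, rfl⟩ | ⟨rfl, rfl⟩ | ⟨rfl, rfl⟩ | ⟨rfl, rfl⟩
      · -- 34=(0,0)
        exfalso; omega
      · -- 34=(1,1)
        exact False.elim (cert_false T ((skipEmb 1).trans (Function.Embedding.refl _)) (by norm_num) (fun _ => hall _) (((((LB_zero T ((skipEmb 1).trans (Function.Embedding.refl _))).upd 1 2 1 (le_of_eq hx23)).upd 2 1 3 (le_of_eq hx32)).upd 2 3 1 (le_of_eq hx34)).upd 3 2 1 (le_of_eq hx43)) ![0,1,2,1] (by decide) (by decide) 1 (by decide))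
      · -- 34=(1,2)
        exact False.elim (cert_false T ((skipEmb 1).trans (Function.Embedding.refl _)) (by norm_num) (fun _ => hall _) (((((LB_zero T ((skipEmb 1).trans (Function.Embedding.refl _))).upd 1 2 1 (le_of_eq hx23)).upd 2 1 3 (le_of_eq hx32)).upd 2 3 1 (le_of_eq hx34)).upd 3 2 2 (le_of_eq hx43)) ![0,1,2,1] (by decide) (by decide) 1 (by decide))
      · -- 34=(2,1)
        exact False.elim (cert_false T ((skipEmb 1).trans (Function.Embedding.refl _)) (by norm_num) (fun _ => hall _) (((((LB_zero T ((skipEmb 1).trans (Function.Embedding.refl _))).upd 1 2 1 (le_of_eq hx23)).upd 2 1 3 (le_of_eq hx32)).upd 2 3 2 (le_of_eq hx34)).upd 3 2 1 (le_of_eq hx43)) ![0,1,2,1] (by decide) (by decide) 1 (by decide))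
      · -- 34=(1,3)
        exact False.elim (cert_false T ((skipEmb 2).trans (Function.Embedding.refl _)) (by norm_num) (fun _ => hall _) (((((LB_zero T ((skipEmb 2).trans (Function.Embedding.refl _))).upd 1 3 1 (le_of_eq hx14)).upd 2 3 1 (le_of_eq hx34)).upd 3 1 1 (le_of_eq hx41)).upd 3 2 3 (le_of_eq hx43)) ![0,1,1,2] (by decide) (by decide) 1 (by decide))
      · -- 34=(3,1)
        exact False.elim (cert_false T ((skipEmb 2).trans (Function.Embedding.refl _)) (by norm_num) (fun _ => hall _) (((((LB_zero T ((skipEmb 2).trans (Function.Embedding.refl _))).upd 1 3 1 (le_of_eq hx14)).upd 2 3 3 (le_of_eq hx34)).upd 3 1 1 (le_of_eq hx41)).upd 3 2 1 (le_of_eq hx43)) ![0,1,3,2] (by decide) (by decide) 1 (by decide))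
    · -- 24=(1,1)
      exact False.elim (cert_false T ((skipEmb 1).trans (Function.Embedding.refl _)) (by norm_num) (fun _ => hall _) (((((LB_zero T ((skipEmb 1).trans (Function.Embedding.refl _))).upd 1 2 1 (le_of_eq hx23)).upd 1 3 1 (le_of_eq hx24)).upd 2 1 3 (le_of_eq hx32)).upd 3 1 1 (le_of_eq hx42)) ![0,2,3,1] (by decide) (by decide) 1 (by decide))
    · -- 24=(1,2)
      exact False.elim (cert_false T ((skipEmb 1).trans (Function.Embedding.refl _)) (by norm_num) (fun _ => hall _) (((((LB_zero T ((skipEmb 1).trans (Function.Embedding.refl _))).upd 1 2 1 (le_of_eq hx23)).upd 1 3 1 (le_of_eq hx24)).upd 2 1 3 (le_of_eq hx32)).upd 3 1 2 (le_of_eq hx42)) ![0,1,1,1] (by decide) (by decide) 1 (by decide))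
    · -- 24=(2,1)
      exact False.elim (cert_false T ((skipEmb 1).trans (Function.Embedding.refl _)) (by norm_num) (fun _ => hall _) (((((LB_zero T ((skipEmb 1).trans (Function.Embedding.refl _))).upd 1 2 1 (le_of_eq hx23)).upd 1 3 2 (le_of_eq hx24)).upd 2 1 3 (le_of_eq hx32)).upd 3 1 1 (le_of_eq hx42)) ![0,2,2,1] (by decide) (by decide) 1 (by decide))
    · -- 24=(1,3)
      exact False.elim (cert_false T ((skipEmb 3).trans (Function.Embedding.refl _)) (by norm_num) (fun _ => hall _) (((((LB_zero T ((skipEmb 3).trans (Function.Embedding.refl _))).upd 1 3 1 (le_of_eq hx14)).upd 2 3 1 (le_of_eq hx24)).upd 3 1 1 (le_of_eq hx41)).upd 3 2 3 (le_of_eq hx42)) ![0,1,1,2] (by decide) (by decide) 1 (by decide))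
    · -- 24=(3,1)
      exact False.elim (cert_false T ((skipEmb 3).trans (Function.Embedding.refl _)) (by norm_num) (fun _ => hall _) (((((LB_zero T ((skipEmb 3).trans (Function.Embedding.refl _))).upd 1 3 1 (le_of_eq hx14)).upd 2 3 3 (le_of_eq hx24)).upd 3 1 1 (le_of_eq hx41)).upd 3 2 1 (le_of_eq hx42)) ![0,1,3,2] (by decide) (by decide) 1 (by decide))
  · -- 14=(1,2)
    rcases d24 with ⟨rfl, rfl⟩ | ⟨rfl, rfl⟩ | ⟨rfl, rfl⟩ | ⟨rfl, rfl⟩ | ⟨rfl, rfl⟩ | ⟨rfl, rfl⟩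
    · -- 24=(0,0)
      rcases d34 with ⟨rfl, rfl⟩ | ⟨rfl, rfl⟩ | ⟨rfl, rfl⟩ | ⟨rfl, rfl⟩ | ⟨rfl, rfl⟩ | ⟨rfl, rfl⟩
      · -- 34=(0,0)
        exfalso; omega
      · -- 34=(1,1)
        exact False.elim (cert_false T ((skipEmb 1).trans (Function.Embedding.refl _)) (by norm_num) (fun _ => hall _) (((((LB_zero T ((skipEmb 1).trans (Function.Embedding.refl _))).upd 1 2 1 (le_of_eq hx23)).upd 2 1 3 (le_of_eq hx32)).upd 2 3 1 (le_of_eq hx34)).upd 3 2 1 (le_of_eq hx43)) ![0,1,2,1] (by decide) (by decide) 1 (by decide))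
      · -- 34=(1,2)
        exact False.elim (cert_false T ((skipEmb 2).trans (Function.Embedding.refl _)) (by norm_num) (fun _ => hall _) (((((LB_zero T ((skipEmb 2).trans (Function.Embedding.refl _))).upd 1 3 1 (le_of_eq hx14)).upd 2 3 1 (le_of_eq hx34)).upd 3 1 2 (le_of_eq hx41)).upd 3 2 2 (le_of_eq hx43)) ![0,1,1,2] (by decide) (by decide) 1 (by decide))
      · -- 34=(2,1)
        exact False.elim (cert_false T ((skipEmb 2).trans (Function.Embedding.refl _)) (by norm_num) (fun _ => hall _) (((((LB_zero T ((skipEmb 2).trans (Function.Embedding.refl _))).upd 1 3 1 (le_of_eq hx14)).upd 2 3 2 (le_of_eq hx34)).upd 3 1 2 (le_of_eq hx41)).upd 3 2 1 (le_of_eq hx43)) ![0,1,2,2] (by decide) (by decide) 1 (by decide))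
      · -- 34=(1,3)
        exact False.elim (cert_false T ((skipEmb 2).trans (Function.Embedding.refl _)) (by norm_num) (fun _ => hall _) (((((LB_zero T ((skipEmb 2).trans (Function.Embedding.refl _))).upd 1 3 1 (le_of_eq hx14)).upd 2 3 1 (le_of_eq hx34)).upd 3 1 2 (le_of_eq hx41)).upd 3 2 3 (le_of_eq hx43)) ![0,1,1,2] (by decide) (by decide) 1 (by decide))
      · -- 34=(3,1)
        exact False.elim (cert_false T ((skipEmb 2).trans (Function.Embedding.refl _)) (by norm_num) (fun _ => hall _) (((((LB_zero T ((skipEmb 2).trans (Function.Embedding.refl _))).upd 1 3 1 (le_of_eq hx14)).upd 2 3 3 (le_of_eq hx34)).upd 3 1 2 (le_of_eq hx41)).upd 3 2 1 (le_of_eq hx43)) ![0,1,2,2] (by decide) (by decide) 1 (by decide))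
    · -- 24=(1,1)
      exact False.elim (cert_false T ((skipEmb 1).trans (Function.Embedding.refl _)) (by norm_num) (fun _ => hall _) (((((LB_zero T ((skipEmb 1).trans (Function.Embedding.refl _))).upd 1 2 1 (le_of_eq hx23)).upd 1 3 1 (le_of_eq hx24)).upd 2 1 3 (le_of_eq hx32)).upd 3 1 1 (le_of_eq hx42)) ![0,2,3,1] (by decide) (by decide) 1 (by decide))
    · -- 24=(1,2)
      exact False.elim (cert_false T ((skipEmb 3).trans (Function.Embedding.refl _)) (by norm_num) (fun _ => hall _) (((((LB_zero T ((skipEmb 3).trans (Function.Embedding.refl _))).upd 1 3 1 (le_of_eq hx14)).upd 2 3 1 (le_of_eq hx24)).upd 3 1 2 (le_of_eq hx41)).upd 3 2 2 (le_of_eq hx42)) ![0,1,1,2] (by decide) (by decide) 1 (by decide))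
    · -- 24=(2,1)
      exact False.elim (cert_false T ((skipEmb 3).trans (Function.Embedding.refl _)) (by norm_num) (fun _ => hall _) (((((LB_zero T ((skipEmb 3).trans (Function.Embedding.refl _))).upd 1 3 1 (le_of_eq hx14)).upd 2 3 2 (le_of_eq hx24)).upd 3 1 2 (le_of_eq hx41)).upd 3 2 1 (le_of_eq hx42)) ![0,1,2,2] (by decide) (by decide) 1 (by decide))
    · -- 24=(1,3)
      exact False.elim (cert_false T ((skipEmb 3).trans (Function.Embedding.refl _)) (by norm_num) (fun _ => hall _) (((((LB_zero T ((skipEmb 3).trans (Function.Embedding.refl _))).upd 1 3 1 (le_of_eq hx14)).upd 2 3 1 (le_of_eq hx24)).upd 3 1 2 (le_of_eq hx41)).upd 3 2 3 (le_of_eq hx42)) ![0,1,1,2] (by decide) (by decide) 1 (by decide))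
    · -- 24=(3,1)
      exact False.elim (cert_false T ((skipEmb 3).trans (Function.Embedding.refl _)) (by norm_num) (fun _ => hall _) (((((LB_zero T ((skipEmb 3).trans (Function.Embedding.refl _))).upd 1 3 1 (le_of_eq hx14)).upd 2 3 3 (le_of_eq hx24)).upd 3 1 2 (le_of_eq hx41)).upd 3 2 1 (le_of_eq hx42)) ![0,1,2,2] (by decide) (by decide) 1 (by decide))
  · -- 14=(2,1)
    rcases d24 with ⟨rfl, rfl⟩ | ⟨rfl, rfl⟩ | ⟨rfl, rfl⟩ | ⟨rfl, rfl⟩ | ⟨rfl, rfl⟩ | ⟨rfl, rfl⟩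
    · -- 24=(0,0)
      rcases d34 with ⟨rfl, rfl⟩ | ⟨rfl, rfl⟩ | ⟨rfl, rfl⟩ | ⟨rfl, rfl⟩ | ⟨rfl, rfl⟩ | ⟨rfl, rfl⟩
      · -- 34=(0,0)
        exfalso; omega
      · -- 34=(1,1)
        exact False.elim (cert_false T ((skipEmb 1).trans (Function.Embedding.refl _)) (by norm_num) (fun _ => hall _) (((((LB_zero T ((skipEmb 1).trans (Function.Embedding.refl _))).upd 1 2 1 (le_of_eq hx23)).upd 2 1 3 (le_of_eq hx32)).upd 2 3 1 (le_of_eq hx34)).upd 3 2 1 (le_of_eq hx43)) ![0,1,2,1] (by decide) (by decide) 1 (by decide))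
      · -- 34=(1,2)
        exact False.elim (cert_false T ((skipEmb 2).trans (Function.Embedding.refl _)) (by norm_num) (fun _ => hall _) (((((LB_zero T ((skipEmb 2).trans (Function.Embedding.refl _))).upd 1 3 2 (le_of_eq hx14)).upd 2 3 1 (le_of_eq hx34)).upd 3 1 1 (le_of_eq hx41)).upd 3 2 2 (le_of_eq hx43)) ![0,2,1,2] (by decide) (by decide) 1 (by decide))
      · -- 34=(2,1)
        exact False.elim (cert_false T ((skipEmb 2).trans (Function.Embedding.refl _)) (by norm_num) (fun _ => hall _) (((((LB_zero T ((skipEmb 2).trans (Function.Embedding.refl _))).upd 1 3 2 (le_of_eq hx14)).upd 2 3 2 (le_of_eq hx34)).upd 3 1 1 (le_of_eq hx41)).upd 3 2 1 (le_of_eq hx43)) ![0,1,1,1] (by decide) (by decide) 1 (by decide))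
      · -- 34=(1,3)
        exact False.elim (cert_false T ((skipEmb 2).trans (Function.Embedding.refl _)) (by norm_num) (fun _ => hall _) (((((LB_zero T ((skipEmb 2).trans (Function.Embedding.refl _))).upd 1 3 2 (le_of_eq hx14)).upd 2 3 1 (le_of_eq hx34)).upd 3 1 1 (le_of_eq hx41)).upd 3 2 3 (le_of_eq hx43)) ![0,1,1,2] (by decide) (by decide) 1 (by decide))
      · -- 34=(3,1)
        exact False.elim (cert_false T ((skipEmb 2).trans (Function.Embedding.refl _)) (by norm_num) (fun _ => hall _) (((((LB_zero T ((skipEmb 2).trans (Function.Embedding.refl _))).upd 1 3 2 (le_of_eq hx14)).upd 2 3 3 (le_of_eq hx34)).upd 3 1 1 (le_of_eq hx41)).upd 3 2 1 (le_of_eq hx43)) ![0,1,1,1] (by decide) (by decide) 1 (by decide))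
    · -- 24=(1,1)
      exact False.elim (cert_false T ((skipEmb 1).trans (Function.Embedding.refl _)) (by norm_num) (fun _ => hall _) (((((LB_zero T ((skipEmb 1).trans (Function.Embedding.refl _))).upd 1 2 1 (le_of_eq hx23)).upd 1 3 1 (le_of_eq hx24)).upd 2 1 3 (le_of_eq hx32)).upd 3 1 1 (le_of_eq hx42)) ![0,2,3,1] (by decide) (by decide) 1 (by decide))
    · -- 24=(1,2)
      exact False.elim (cert_false T ((skipEmb 3).trans (Function.Embedding.refl _)) (by norm_num) (fun _ => hall _) (((((LB_zero T ((skipEmb 3).trans (Function.Embedding.refl _))).upd 1 3 2 (le_of_eq hx14)).upd 2 3 1 (le_of_eq hx24)).upd 3 1 1 (le_of_eq hx41)).upd 3 2 2 (le_of_eq hx42)) ![0,2,1,2] (by decide) (by decide) 1 (by decide))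
    · -- 24=(2,1)
      exact False.elim (cert_false T ((skipEmb 3).trans (Function.Embedding.refl _)) (by norm_num) (fun _ => hall _) (((((LB_zero T ((skipEmb 3).trans (Function.Embedding.refl _))).upd 1 3 2 (le_of_eq hx14)).upd 2 3 2 (le_of_eq hx24)).upd 3 1 1 (le_of_eq hx41)).upd 3 2 1 (le_of_eq hx42)) ![0,1,1,1] (by decide) (by decide) 1 (by decide))
    · -- 24=(1,3)
      exact False.elim (cert_false T ((skipEmb 3).trans (Function.Embedding.refl _)) (by norm_num) (fun _ => hall _) (((((LB_zero T ((skipEmb 3).trans (Function.Embedding.refl _))).upd 1 3 2 (le_of_eq hx14)).upd 2 3 1 (le_of_eq hx24)).upd 3 1 1 (le_of_eq hx41)).upd 3 2 3 (le_of_eq hx42)) ![0,1,1,2] (by decide) (by decide) 1 (by decide))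
    · -- 24=(3,1)
      exact False.elim (cert_false T ((skipEmb 3).trans (Function.Embedding.refl _)) (by norm_num) (fun _ => hall _) (((((LB_zero T ((skipEmb 3).trans (Function.Embedding.refl _))).upd 1 3 2 (le_of_eq hx14)).upd 2 3 3 (le_of_eq hx24)).upd 3 1 1 (le_of_eq hx41)).upd 3 2 1 (le_of_eq hx42)) ![0,1,1,1] (by decide) (by decide) 1 (by decide))
  · -- 14=(1,3)
    rcases d24 with ⟨rfl, rfl⟩ | ⟨rfl, rfl⟩ | ⟨rfl, rfl⟩ | ⟨rfl, rfl⟩ | ⟨rfl, rfl⟩ | ⟨rfl, rfl⟩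
    · -- 24=(0,0)
      rcases d34 with ⟨rfl, rfl⟩ | ⟨rfl, rfl⟩ | ⟨rfl, rfl⟩ | ⟨rfl, rfl⟩ | ⟨rfl, rfl⟩ | ⟨rfl, rfl⟩
      · -- 34=(0,0)
        exfalso; omega
      · -- 34=(1,1)
        exact False.elim (cert_false T ((skipEmb 2).trans (Function.Embedding.refl _)) (by norm_num) (fun _ => hall _) (((((LB_zero T ((skipEmb 2).trans (Function.Embedding.refl _))).upd 1 3 1 (le_of_eq hx14)).upd 2 3 1 (le_of_eq hx34)).upd 3 1 3 (le_of_eq hx41)).upd 3 2 1 (le_of_eq hx43)) ![0,1,1,2] (by decide) (by decide) 1 (by decide))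
      · -- 34=(1,2)
        exact False.elim (cert_false T ((skipEmb 2).trans (Function.Embedding.refl _)) (by norm_num) (fun _ => hall _) (((((LB_zero T ((skipEmb 2).trans (Function.Embedding.refl _))).upd 1 3 1 (le_of_eq hx14)).upd 2 3 1 (le_of_eq hx34)).upd 3 1 3 (le_of_eq hx41)).upd 3 2 2 (le_of_eq hx43)) ![0,1,1,2] (by decide) (by decide) 1 (by decide))
      · -- 34=(2,1)
        exact False.elim (cert_false T ((skipEmb 2).trans (Function.Embedding.refl _)) (by norm_num) (fun _ => hall _) (((((LB_zero T ((skipEmb 2).trans (Function.Embedding.refl _))).upd 1 3 1 (le_of_eq hx14)).upd 2 3 2 (le_of_eq hx34)).upd 3 1 3 (le_of_eq hx41)).upd 3 2 1 (le_of_eq hx43)) ![0,1,1,2] (by decide) (by decide) 1 (by decide))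
      · -- 34=(1,3)
        exact False.elim (cert_false T ((skipEmb 2).trans (Function.Embedding.refl _)) (by norm_num) (fun _ => hall _) (((((LB_zero T ((skipEmb 2).trans (Function.Embedding.refl _))).upd 1 3 1 (le_of_eq hx14)).upd 2 3 1 (le_of_eq hx34)).upd 3 1 3 (le_of_eq hx41)).upd 3 2 3 (le_of_eq hx43)) ![0,1,1,2] (by decide) (by decide) 1 (by decide))
      · -- 34=(3,1)
        exact False.elim (cert_false T ((skipEmb 2).trans (Function.Embedding.refl _)) (by norm_num) (fun _ => hall _) (((((LB_zero T ((skipEmb 2).trans (Function.Embedding.refl _))).upd 1 3 1 (le_of_eq hx14)).upd 2 3 3 (le_of_eq hx34)).upd 3 1 3 (le_of_eq hx41)).upd 3 2 1 (le_of_eq hx43)) ![0,1,1,2] (by decide) (by decide) 1 (by decide))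
    · -- 24=(1,1)
      exact False.elim (cert_false T ((skipEmb 3).trans (Function.Embedding.refl _)) (by norm_num) (fun _ => hall _) (((((LB_zero T ((skipEmb 3).trans (Function.Embedding.refl _))).upd 1 3 1 (le_of_eq hx14)).upd 2 3 1 (le_of_eq hx24)).upd 3 1 3 (le_of_eq hx41)).upd 3 2 1 (le_of_eq hx42)) ![0,1,1,2] (by decide) (by decide) 1 (by decide))
    · -- 24=(1,2)
      exact False.elim (cert_false T ((skipEmb 3).trans (Function.Embedding.refl _)) (by norm_num) (fun _ => hall _) (((((LB_zero T ((skipEmb 3).trans (Function.Embedding.refl _))).upd 1 3 1 (le_of_eq hx14)).upd 2 3 1 (le_of_eq hx24)).upd 3 1 3 (le_of_eq hx41)).upd 3 2 2 (le_of_eq hx42)) ![0,1,1,2] (by decide) (by decide) 1 (by decide))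
    · -- 24=(2,1)
      exact False.elim (cert_false T ((skipEmb 3).trans (Function.Embedding.refl _)) (by norm_num) (fun _ => hall _) (((((LB_zero T ((skipEmb 3).trans (Function.Embedding.refl _))).upd 1 3 1 (le_of_eq hx14)).upd 2 3 2 (le_of_eq hx24)).upd 3 1 3 (le_of_eq hx41)).upd 3 2 1 (le_of_eq hx42)) ![0,1,1,2] (by decide) (by decide) 1 (by decide))
    · -- 24=(1,3)
      exact False.elim (cert_false T ((skipEmb 3).trans (Function.Embedding.refl _)) (by norm_num) (fun _ => hall _) (((((LB_zero T ((skipEmb 3).trans (Function.Embedding.refl _))).upd 1 3 1 (le_of_eq hx14)).upd 2 3 1 (le_of_eq hx24)).upd 3 1 3 (le_of_eq hx41)).upd 3 2 3 (le_of_eq hx42)) ![0,1,1,2] (by decide) (by decide) 1 (by decide))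
    · -- 24=(3,1)
      exact False.elim (cert_false T ((skipEmb 3).trans (Function.Embedding.refl _)) (by norm_num) (fun _ => hall _) (((((LB_zero T ((skipEmb 3).trans (Function.Embedding.refl _))).upd 1 3 1 (le_of_eq hx14)).upd 2 3 3 (le_of_eq hx24)).upd 3 1 3 (le_of_eq hx41)).upd 3 2 1 (le_of_eq hx42)) ![0,1,1,2] (by decide) (by decide) 1 (by decide))
  · -- 14=(3,1)
    rcases d24 with ⟨rfl, rfl⟩ | ⟨rfl, rfl⟩ | ⟨rfl, rfl⟩ | ⟨rfl, rfl⟩ | ⟨rfl, rfl⟩ | ⟨rfl, rfl⟩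
    · -- 24=(0,0)
      rcases d34 with ⟨rfl, rfl⟩ | ⟨rfl, rfl⟩ | ⟨rfl, rfl⟩ | ⟨rfl, rfl⟩ | ⟨rfl, rfl⟩ | ⟨rfl, rfl⟩
      · -- 34=(0,0)
        exfalso; omega
      · -- 34=(1,1)
        exact False.elim (cert_false T ((skipEmb 2).trans (Function.Embedding.refl _)) (by norm_num) (fun _ => hall _) (((((LB_zero T ((skipEmb 2).trans (Function.Embedding.refl _))).upd 1 3 3 (le_of_eq hx14)).upd 2 3 1 (le_of_eq hx34)).upd 3 1 1 (le_of_eq hx41)).upd 3 2 1 (le_of_eq hx43)) ![0,3,1,2] (by decide) (by decide) 1 (by decide))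
      · -- 34=(1,2)
        exact False.elim (cert_false T ((skipEmb 2).trans (Function.Embedding.refl _)) (by norm_num) (fun _ => hall _) (((((LB_zero T ((skipEmb 2).trans (Function.Embedding.refl _))).upd 1 3 3 (le_of_eq hx14)).upd 2 3 1 (le_of_eq hx34)).upd 3 1 1 (le_of_eq hx41)).upd 3 2 2 (le_of_eq hx43)) ![0,2,1,2] (by decide) (by decide) 1 (by decide))
      · -- 34=(2,1)
        exact False.elim (cert_false T ((skipEmb 2).trans (Function.Embedding.refl _)) (by norm_num) (fun _ => hall _) (((((LB_zero T ((skipEmb 2).trans (Function.Embedding.refl _))).upd 1 3 3 (le_of_eq hx14)).upd 2 3 2 (le_of_eq hx34)).upd 3 1 1 (le_of_eq hx41)).upd 3 2 1 (le_of_eq hx43)) ![0,1,1,1] (by decide) (by decide) 1 (by decide))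
      · -- 34=(1,3)
        exact False.elim (cert_false T ((skipEmb 2).trans (Function.Embedding.refl _)) (by norm_num) (fun _ => hall _) (((((LB_zero T ((skipEmb 2).trans (Function.Embedding.refl _))).upd 1 3 3 (le_of_eq hx14)).upd 2 3 1 (le_of_eq hx34)).upd 3 1 1 (le_of_eq hx41)).upd 3 2 3 (le_of_eq hx43)) ![0,1,1,2] (by decide) (by decide) 1 (by decide))
      · -- 34=(3,1)
        exact False.elim (cert_false T ((skipEmb 2).trans (Function.Embedding.refl _)) (by norm_num) (fun _ => hall _) (((((LB_zero T ((skipEmb 2).trans (Function.Embedding.refl _))).upd 1 3 3 (le_of_eq hx14)).upd 2 3 3 (le_of_eq hx34)).upd 3 1 1 (le_of_eq hx41)).upd 3 2 1 (le_of_eq hx43)) ![0,1,1,1] (by decide) (by decide) 1 (by decide))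
    · -- 24=(1,1)
      exact False.elim (cert_false T ((skipEmb 3).trans (Function.Embedding.refl _)) (by norm_num) (fun _ => hall _) (((((LB_zero T ((skipEmb 3).trans (Function.Embedding.refl _))).upd 1 3 3 (le_of_eq hx14)).upd 2 3 1 (le_of_eq hx24)).upd 3 1 1 (le_of_eq hx41)).upd 3 2 1 (le_of_eq hx42)) ![0,3,1,2] (by decide) (by decide) 1 (by decide))
    · -- 24=(1,2)
      exact False.elim (cert_false T ((skipEmb 3).trans (Function.Embedding.refl _)) (by norm_num) (fun _ => hall _) (((((LB_zero T ((skipEmb 3).trans (Function.Embedding.refl _))).upd 1 3 3 (le_of_eq hx14)).upd 2 3 1 (le_of_eq hx24)).upd 3 1 1 (le_of_eq hx41)).upd 3 2 2 (le_of_eq hx42)) ![0,2,1,2] (by decide) (by decide) 1 (by decide))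
    · -- 24=(2,1)
      exact False.elim (cert_false T ((skipEmb 3).trans (Function.Embedding.refl _)) (by norm_num) (fun _ => hall _) (((((LB_zero T ((skipEmb 3).trans (Function.Embedding.refl _))).upd 1 3 3 (le_of_eq hx14)).upd 2 3 2 (le_of_eq hx24)).upd 3 1 1 (le_of_eq hx41)).upd 3 2 1 (le_of_eq hx42)) ![0,1,1,1] (by decide) (by decide) 1 (by decide))
    · -- 24=(1,3)
      exact False.elim (cert_false T ((skipEmb 3).trans (Function.Embedding.refl _)) (by norm_num) (fun _ => hall _) (((((LB_zero T ((skipEmb 3).trans (Function.Embedding.refl _))).upd 1 3 3 (le_of_eq hx14)).upd 2 3 1 (le_of_eq hx24)).upd 3 1 1 (le_of_eq hx41)).upd 3 2 3 (le_of_eq hx42)) ![0,1,1,2] (by decide) (by decide) 1 (by decide))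
    · -- 24=(3,1)
      exact False.elim (cert_false T ((skipEmb 3).trans (Function.Embedding.refl _)) (by norm_num) (fun _ => hall _) (((((LB_zero T ((skipEmb 3).trans (Function.Embedding.refl _))).upd 1 3 3 (le_of_eq hx14)).upd 2 3 3 (le_of_eq hx24)).upd 3 1 1 (le_of_eq hx41)).upd 3 2 1 (le_of_eq hx42)) ![0,1,1,1] (by decide) (by decide) 1 (by decide))

theorem case17 (T : NumericalType 5) (hall : ∀ i, T.IsMinusTwo i) (d : SData T)
    (h01 : N T (Function.Embedding.refl _) 0 1 = 0) (h10 : N T (Function.Embedding.refl _) 1 0 = 0)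
    (h02 : N T (Function.Embedding.refl _) 0 2 = 0) (h20 : N T (Function.Embedding.refl _) 2 0 = 0)
    (h12 : N T (Function.Embedding.refl _) 1 2 = 0) (h21 : N T (Function.Embedding.refl _) 2 1 = 0)
    (h03 : N T (Function.Embedding.refl _) 0 3 = 0) (h30 : N T (Function.Embedding.refl _) 3 0 = 0)
    (h13 : N T (Function.Embedding.refl _) 1 3 = 0) (h31 : N T (Function.Embedding.refl _) 3 1 = 0)
    (h23 : N T (Function.Embedding.refl _) 2 3 = 1) (h32 : N T (Function.Embedding.refl _) 3 2 = 3) :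
    Goal T := by
  unfold Goal
  have hd := d
  obtain ⟨x01, x02, x03, x04, x10, x12, x13, x14, x20, x21, x23, x24, x30, x31, x32, x34, x40, x41, x42, x43, hx01, hx02, hx03, hx04, hx10, hx12, hx13, hx14, hx20, hx21, hx23, hx24, hx30, hx31, hx32, hx34, hx40, hx41, hx42, hx43, hw0, hm0, hw1, hm1, hw2, hm2, hw3, hm3, hw4, hm4, a00, a01, a02, a03, a04, a11, a10, a12, a13, a14, a22, a20, a21, a23, a24, a33, a30, a31, a32, a34, a44, a40, a41, a42, a43, wN01, wN02, wN12, wN03, wN13, wN23, wN04, wN14, wN24, wN34, e0, e1, e2, e3, e4, d01, d02, d12, d03, d13, d23, d04, d14, d24, d34⟩ := d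
  obtain rfl : x01 = 0 := hx01.trans h01
  obtain rfl : x10 = 0 := hx10.trans h10
  obtain rfl : x02 = 0 := hx02.trans h02
  obtain rfl : x20 = 0 := hx20.trans h20
  obtain rfl : x12 = 0 := hx12.trans h12
  obtain rfl : x21 = 0 := hx21.trans h21
  obtain rfl : x03 = 0 := hx03.trans h03
  obtain rfl : x30 = 0 := hx30.trans h30
  obtain rfl : x13 = 0 := hx13.trans h13
  obtain rfl : x31 = 0 := hx31.trans h31
  obtain rfl : x23 = 1 := hx23.trans h23
  obtain rfl : x32 = 3 := hx32.trans h32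
  rcases d04 with ⟨rfl, rfl⟩ | ⟨rfl, rfl⟩ | ⟨rfl, rfl⟩ | ⟨rfl, rfl⟩ | ⟨rfl, rfl⟩ | ⟨rfl, rfl⟩
  · -- 04=(0,0)
    exact case18 T hall hd hx01.symm hx10.symm hx02.symm hx20.symm hx12.symm hx21.symm hx03.symm hx30.symm hx13.symm hx31.symm hx23.symm hx32.symm hx04.symm hx40.symm
  · -- 04=(1,1)
    rcases d14 with ⟨rfl, rfl⟩ | ⟨rfl, rfl⟩ | ⟨rfl, rfl⟩ | ⟨rfl, rfl⟩ | ⟨rfl, rfl⟩ | ⟨rfl, rfl⟩
    · -- 14=(0,0)
      rcases d24 with ⟨rfl, rfl⟩ | ⟨rfl, rfl⟩ | ⟨rfl, rfl⟩ | ⟨rfl, rfl⟩ | ⟨rfl, rfl⟩ | ⟨rfl, rfl⟩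
      · -- 24=(0,0)
        rcases d34 with ⟨rfl, rfl⟩ | ⟨rfl, rfl⟩ | ⟨rfl, rfl⟩ | ⟨rfl, rfl⟩ | ⟨rfl, rfl⟩ | ⟨rfl, rfl⟩
        · -- 34=(0,0)
          exfalso; omega
        · -- 34=(1,1)
          exact False.elim (cert_false T ((skipEmb 1).trans (Function.Embedding.refl _)) (by norm_num) (fun _ => hall _) (((((LB_zero T ((skipEmb 1).trans (Function.Embedding.refl _))).upd 1 2 1 (le_of_eq hx23)).upd 2 1 3 (le_of_eq hx32)).upd 2 3 1 (le_of_eq hx34)).upd 3 2 1 (le_of_eq hx43)) ![0,1,2,1] (by decide) (by decide) 1 (by decide))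
        · -- 34=(1,2)
          exact False.elim (cert_false T ((skipEmb 1).trans (Function.Embedding.refl _)) (by norm_num) (fun _ => hall _) (((((LB_zero T ((skipEmb 1).trans (Function.Embedding.refl _))).upd 1 2 1 (le_of_eq hx23)).upd 2 1 3 (le_of_eq hx32)).upd 2 3 1 (le_of_eq hx34)).upd 3 2 2 (le_of_eq hx43)) ![0,1,2,1] (by decide) (by decide) 1 (by decide))
        · -- 34=(2,1)
          exact False.elim (cert_false T ((skipEmb 1).trans (Function.Embedding.refl _)) (by norm_num) (fun _ => hall _) (((((LB_zero T ((skipEmb 1).trans (Function.Embedding.refl _))).upd 1 2 1 (le_of_eq hx23)).upd 2 1 3 (le_of_eq hx32)).upd 2 3 2 (le_of_eq hx34)).upd 3 2 1 (le_of_eq hx43)) ![0,1,2,1] (by decide) (by decide) 1 (by decide))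
        · -- 34=(1,3)
          exact False.elim (cert_false T ((skipEmb 2).trans (Function.Embedding.refl _)) (by norm_num) (fun _ => hall _) (((((LB_zero T ((skipEmb 2).trans (Function.Embedding.refl _))).upd 0 3 1 (le_of_eq hx04)).upd 2 3 1 (le_of_eq hx34)).upd 3 0 1 (le_of_eq hx40)).upd 3 2 3 (le_of_eq hx43)) ![1,0,1,2] (by decide) (by decide) 0 (by decide))
        · -- 34=(3,1)
          exact False.elim (cert_false T ((skipEmb 2).trans (Function.Embedding.refl _)) (by norm_num) (fun _ => hall _) (((((LB_zero T ((skipEmb 2).trans (Function.Embedding.refl _))).upd 0 3 1 (le_of_eq hx04)).upd 2 3 3 (le_of_eq hx34)).upd 3 0 1 (le_of_eq hx40)).upd 3 2 1 (le_of_eq hx43)) ![1,0,3,2] (by decide) (by decide) 0 (by decide))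
      · -- 24=(1,1)
        exact False.elim (cert_false T ((skipEmb 1).trans (Function.Embedding.refl _)) (by norm_num) (fun _ => hall _) (((((LB_zero T ((skipEmb 1).trans (Function.Embedding.refl _))).upd 1 2 1 (le_of_eq hx23)).upd 1 3 1 (le_of_eq hx24)).upd 2 1 3 (le_of_eq hx32)).upd 3 1 1 (le_of_eq hx42)) ![0,2,3,1] (by decide) (by decide) 1 (by decide))
      · -- 24=(1,2)
        exact False.elim (cert_false T ((skipEmb 1).trans (Function.Embedding.refl _)) (by norm_num) (fun _ => hall _) (((((LB_zero T ((skipEmb 1).trans (Function.Embedding.refl _))).upd 1 2 1 (le_of_eq hx23)).upd 1 3 1 (le_of_eq hx24)).upd 2 1 3 (le_of_eq hx32)).upd 3 1 2 (le_of_eq hx42)) ![0,1,1,1] (by decide) (by decide) 1 (by decide))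
      · -- 24=(2,1)
        exact False.elim (cert_false T ((skipEmb 1).trans (Function.Embedding.refl _)) (by norm_num) (fun _ => hall _) (((((LB_zero T ((skipEmb 1).trans (Function.Embedding.refl _))).upd 1 2 1 (le_of_eq hx23)).upd 1 3 2 (le_of_eq hx24)).upd 2 1 3 (le_of_eq hx32)).upd 3 1 1 (le_of_eq hx42)) ![0,2,2,1] (by decide) (by decide) 1 (by decide))
      · -- 24=(1,3)
        exact False.elim (cert_false T ((skipEmb 3).trans (Function.Embedding.refl _)) (by norm_num) (fun _ => hall _) (((((LB_zero T ((skipEmb 3).trans (Function.Embedding.refl _))).upd 0 3 1 (le_of_eq hx04)).upd 2 3 1 (le_of_eq hx24)).upd 3 0 1 (le_of_eq hx40)).upd 3 2 3 (le_of_eq hx42)) ![1,0,1,2] (by decide) (by decide) 0 (by decide))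
      · -- 24=(3,1)
        exact False.elim (cert_false T ((skipEmb 3).trans (Function.Embedding.refl _)) (by norm_num) (fun _ => hall _) (((((LB_zero T ((skipEmb 3).trans (Function.Embedding.refl _))).upd 0 3 1 (le_of_eq hx04)).upd 2 3 3 (le_of_eq hx24)).upd 3 0 1 (le_of_eq hx40)).upd 3 2 1 (le_of_eq hx42)) ![1,0,3,2] (by decide) (by decide) 0 (by decide))
    · -- 14=(1,1)
      rcases d24 with ⟨rfl, rfl⟩ | ⟨rfl, rfl⟩ | ⟨rfl, rfl⟩ | ⟨rfl, rfl⟩ | ⟨rfl, rfl⟩ | ⟨rfl, rfl⟩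
      · -- 24=(0,0)
        rcases d34 with ⟨rfl, rfl⟩ | ⟨rfl, rfl⟩ | ⟨rfl, rfl⟩ | ⟨rfl, rfl⟩ | ⟨rfl, rfl⟩ | ⟨rfl, rfl⟩
        · -- 34=(0,0)
          exfalso; omega
        · -- 34=(1,1)
          exact False.elim (cert_false T ((skipEmb 1).trans (Function.Embedding.refl _)) (by norm_num) (fun _ => hall _) (((((LB_zero T ((skipEmb 1).trans (Function.Embedding.refl _))).upd 1 2 1 (le_of_eq hx23)).upd 2 1 3 (le_of_eq hx32)).upd 2 3 1 (le_of_eq hx34)).upd 3 2 1 (le_of_eq hx43)) ![0,1,2,1] (by decide) (by decide) 1 (by decide))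
        · -- 34=(1,2)
          exact False.elim (cert_false T ((skipEmb 2).trans (Function.Embedding.refl _)) (by norm_num) (fun _ => hall _) (((((((LB_zero T ((skipEmb 2).trans (Function.Embedding.refl _))).upd 0 3 1 (le_of_eq hx04)).upd 1 3 1 (le_of_eq hx14)).upd 2 3 1 (le_of_eq hx34)).upd 3 0 1 (le_of_eq hx40)).upd 3 1 1 (le_of_eq hx41)).upd 3 2 2 (le_of_eq hx43)) ![1,1,1,2] (by decide) (by decide) 0 (by decide))
        · -- 34=(2,1)
          exact False.elim (cert_false T ((skipEmb 2).trans (Function.Embedding.refl _)) (by norm_num) (fun _ => hall _) (((((((LB_zero T ((skipEmb 2).trans (Function.Embedding.refl _))).upd 0 3 1 (le_of_eq hx04)).upd 1 3 1 (le_of_eq hx14)).upd 2 3 2 (le_of_eq hx34)).upd 3 0 1 (le_of_eq hx40)).upd 3 1 1 (le_of_eq hx41)).upd 3 2 1 (le_of_eq hx43)) ![1,1,2,2] (by decide) (by decide) 0 (by decide))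
        · -- 34=(1,3)
          exact False.elim (cert_false T ((skipEmb 2).trans (Function.Embedding.refl _)) (by norm_num) (fun _ => hall _) (((((LB_zero T ((skipEmb 2).trans (Function.Embedding.refl _))).upd 1 3 1 (le_of_eq hx14)).upd 2 3 1 (le_of_eq hx34)).upd 3 1 1 (le_of_eq hx41)).upd 3 2 3 (le_of_eq hx43)) ![0,1,1,2] (by decide) (by decide) 1 (by decide))
        · -- 34=(3,1)
          exact False.elim (cert_false T ((skipEmb 2).trans (Function.Embedding.refl _)) (by norm_num) (fun _ => hall _) (((((((LB_zero T ((skipEmb 2).trans (Function.Embedding.refl _))).upd 0 3 1 (le_of_eq hx04)).upd 1 3 1 (le_of_eq hx14)).upd 2 3 3 (le_of_eq hx34)).upd 3 0 1 (le_of_eq hx40)).upd 3 1 1 (le_of_eq hx41)).upd 3 2 1 (le_of_eq hx43)) ![1,1,2,2] (by decide) (by decide) 0 (by decide))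
      · -- 24=(1,1)
        exact False.elim (cert_false T ((skipEmb 1).trans (Function.Embedding.refl _)) (by norm_num) (fun _ => hall _) (((((LB_zero T ((skipEmb 1).trans (Function.Embedding.refl _))).upd 1 2 1 (le_of_eq hx23)).upd 1 3 1 (le_of_eq hx24)).upd 2 1 3 (le_of_eq hx32)).upd 3 1 1 (le_of_eq hx42)) ![0,2,3,1] (by decide) (by decide) 1 (by decide))
      · -- 24=(1,2)
        exact False.elim (cert_false T ((skipEmb 3).trans (Function.Embedding.refl _)) (by norm_num) (fun _ => hall _) (((((((LB_zero T ((skipEmb 3).trans (Function.Embedding.refl _))).upd 0 3 1 (le_of_eq hx04)).upd 1 3 1 (le_of_eq hx14)).upd 2 3 1 (le_of_eq hx24)).upd 3 0 1 (le_of_eq hx40)).upd 3 1 1 (le_of_eq hx41)).upd 3 2 2 (le_of_eq hx42)) ![1,1,1,2] (by decide) (by decide) 0 (by decide))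
      · -- 24=(2,1)
        exact False.elim (cert_false T ((skipEmb 3).trans (Function.Embedding.refl _)) (by norm_num) (fun _ => hall _) (((((((LB_zero T ((skipEmb 3).trans (Function.Embedding.refl _))).upd 0 3 1 (le_of_eq hx04)).upd 1 3 1 (le_of_eq hx14)).upd 2 3 2 (le_of_eq hx24)).upd 3 0 1 (le_of_eq hx40)).upd 3 1 1 (le_of_eq hx41)).upd 3 2 1 (le_of_eq hx42)) ![1,1,2,2] (by decide) (by decide) 0 (by decide))
      · -- 24=(1,3)
        exact False.elim (cert_false T ((skipEmb 3).trans (Function.Embedding.refl _)) (by norm_num) (fun _ => hall _) (((((LB_zero T ((skipEmb 3).trans (Function.Embedding.refl _))).upd 1 3 1 (le_of_eq hx14)).upd 2 3 1 (le_of_eq hx24)).upd 3 1 1 (le_of_eq hx41)).upd 3 2 3 (le_of_eq hx42)) ![0,1,1,2] (by decide) (by decide) 1 (by decide))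
      · -- 24=(3,1)
        exact False.elim (cert_false T ((skipEmb 3).trans (Function.Embedding.refl _)) (by norm_num) (fun _ => hall _) (((((((LB_zero T ((skipEmb 3).trans (Function.Embedding.refl _))).upd 0 3 1 (le_of_eq hx04)).upd 1 3 1 (le_of_eq hx14)).upd 2 3 3 (le_of_eq hx24)).upd 3 0 1 (le_of_eq hx40)).upd 3 1 1 (le_of_eq hx41)).upd 3 2 1 (le_of_eq hx42)) ![1,1,2,2] (by decide) (by decide) 0 (by decide))
    · -- 14=(1,2)
      rcases d24 with ⟨rfl, rfl⟩ | ⟨rfl, rfl⟩ | ⟨rfl, rfl⟩ | ⟨rfl, rfl⟩ | ⟨rfl, rfl⟩ | ⟨rfl, rfl⟩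
      · -- 24=(0,0)
        rcases d34 with ⟨rfl, rfl⟩ | ⟨rfl, rfl⟩ | ⟨rfl, rfl⟩ | ⟨rfl, rfl⟩ | ⟨rfl, rfl⟩ | ⟨rfl, rfl⟩
        · -- 34=(0,0)
          exfalso; omega
        · -- 34=(1,1)
          exact False.elim (cert_false T ((skipEmb 2).trans (Function.Embedding.refl _)) (by norm_num) (fun _ => hall _) (((((((LB_zero T ((skipEmb 2).trans (Function.Embedding.refl _))).upd 0 3 1 (le_of_eq hx04)).upd 1 3 1 (le_of_eq hx14)).upd 2 3 1 (le_of_eq hx34)).upd 3 0 1 (le_of_eq hx40)).upd 3 1 2 (le_of_eq hx41)).upd 3 2 1 (le_of_eq hx43)) ![1,1,1,2] (by decide) (by decide) 0 (by decide))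
        · -- 34=(1,2)
          exact False.elim (cert_false T ((skipEmb 2).trans (Function.Embedding.refl _)) (by norm_num) (fun _ => hall _) (((((LB_zero T ((skipEmb 2).trans (Function.Embedding.refl _))).upd 1 3 1 (le_of_eq hx14)).upd 2 3 1 (le_of_eq hx34)).upd 3 1 2 (le_of_eq hx41)).upd 3 2 2 (le_of_eq hx43)) ![0,1,1,2] (by decide) (by decide) 1 (by decide))
        · -- 34=(2,1)
          exact False.elim (cert_false T ((skipEmb 2).trans (Function.Embedding.refl _)) (by norm_num) (fun _ => hall _) (((((LB_zero T ((skipEmb 2).trans (Function.Embedding.refl _))).upd 1 3 1 (le_of_eq hx14)).upd 2 3 2 (le_of_eq hx34)).upd 3 1 2 (le_of_eq hx41)).upd 3 2 1 (le_of_eq hx43)) ![0,1,2,2] (by decide) (by decide) 1 (by decide))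
        · -- 34=(1,3)
          exact False.elim (cert_false T ((skipEmb 2).trans (Function.Embedding.refl _)) (by norm_num) (fun _ => hall _) (((((LB_zero T ((skipEmb 2).trans (Function.Embedding.refl _))).upd 1 3 1 (le_of_eq hx14)).upd 2 3 1 (le_of_eq hx34)).upd 3 1 2 (le_of_eq hx41)).upd 3 2 3 (le_of_eq hx43)) ![0,1,1,2] (by decide) (by decide) 1 (by decide))
        · -- 34=(3,1)
          exact False.elim (cert_false T ((skipEmb 2).trans (Function.Embedding.refl _)) (by norm_num) (fun _ => hall _) (((((LB_zero T ((skipEmb 2).trans (Function.Embedding.refl _))).upd 1 3 1 (le_of_eq hx14)).upd 2 3 3 (le_of_eq hx34)).upd 3 1 2 (le_of_eq hx41)).upd 3 2 1 (le_of_eq hx43)) ![0,1,2,2] (by decide) (by decide) 1 (by decide))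
      · -- 24=(1,1)
        exact False.elim (cert_false T ((skipEmb 3).trans (Function.Embedding.refl _)) (by norm_num) (fun _ => hall _) (((((((LB_zero T ((skipEmb 3).trans (Function.Embedding.refl _))).upd 0 3 1 (le_of_eq hx04)).upd 1 3 1 (le_of_eq hx14)).upd 2 3 1 (le_of_eq hx24)).upd 3 0 1 (le_of_eq hx40)).upd 3 1 2 (le_of_eq hx41)).upd 3 2 1 (le_of_eq hx42)) ![1,1,1,2] (by decide) (by decide) 0 (by decide))
      · -- 24=(1,2)
        exact False.elim (cert_false T ((skipEmb 3).trans (Function.Embedding.refl _)) (by norm_num) (fun _ => hall _) (((((LB_zero T ((skipEmb 3).trans (Function.Embedding.refl _))).upd 1 3 1 (le_of_eq hx14)).upd 2 3 1 (le_of_eq hx24)).upd 3 1 2 (le_of_eq hx41)).upd 3 2 2 (le_of_eq hx42)) ![0,1,1,2] (by decide) (by decide) 1 (by decide))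
      · -- 24=(2,1)
        exact False.elim (cert_false T ((skipEmb 3).trans (Function.Embedding.refl _)) (by norm_num) (fun _ => hall _) (((((LB_zero T ((skipEmb 3).trans (Function.Embedding.refl _))).upd 1 3 1 (le_of_eq hx14)).upd 2 3 2 (le_of_eq hx24)).upd 3 1 2 (le_of_eq hx41)).upd 3 2 1 (le_of_eq hx42)) ![0,1,2,2] (by decide) (by decide) 1 (by decide))
      · -- 24=(1,3)
        exact False.elim (cert_false T ((skipEmb 3).trans (Function.Embedding.refl _)) (by norm_num) (fun _ => hall _) (((((LB_zero T ((skipEmb 3).trans (Function.Embedding.refl _))).upd 1 3 1 (le_of_eq hx14)).upd 2 3 1 (le_of_eq hx24)).upd 3 1 2 (le_of_eq hx41)).upd 3 2 3 (le_of_eq hx42)) ![0,1,1,2] (by decide) (by decide) 1 (by decide))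
      · -- 24=(3,1)
        exact False.elim (cert_false T ((skipEmb 3).trans (Function.Embedding.refl _)) (by norm_num) (fun _ => hall _) (((((LB_zero T ((skipEmb 3).trans (Function.Embedding.refl _))).upd 1 3 1 (le_of_eq hx14)).upd 2 3 3 (le_of_eq hx24)).upd 3 1 2 (le_of_eq hx41)).upd 3 2 1 (le_of_eq hx42)) ![0,1,2,2] (by decide) (by decide) 1 (by decide))
    · -- 14=(2,1)
      rcases d24 with ⟨rfl, rfl⟩ | ⟨rfl, rfl⟩ | ⟨rfl, rfl⟩ | ⟨rfl, rfl⟩ | ⟨rfl, rfl⟩ | ⟨rfl, rfl⟩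
      · -- 24=(0,0)
        rcases d34 with ⟨rfl, rfl⟩ | ⟨rfl, rfl⟩ | ⟨rfl, rfl⟩ | ⟨rfl, rfl⟩ | ⟨rfl, rfl⟩ | ⟨rfl, rfl⟩
        · -- 34=(0,0)
          exfalso; omega
        · -- 34=(1,1)
          exact False.elim (cert_false T ((skipEmb 2).trans (Function.Embedding.refl _)) (by norm_num) (fun _ => hall _) (((((((LB_zero T ((skipEmb 2).trans (Function.Embedding.refl _))).upd 0 3 1 (le_of_eq hx04)).upd 1 3 2 (le_of_eq hx14)).upd 2 3 1 (le_of_eq hx34)).upd 3 0 1 (le_of_eq hx40)).upd 3 1 1 (le_of_eq hx41)).upd 3 2 1 (le_of_eq hx43)) ![1,2,1,2] (by decide) (by decide) 0 (by decide))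
        · -- 34=(1,2)
          exact False.elim (cert_false T ((skipEmb 2).trans (Function.Embedding.refl _)) (by norm_num) (fun _ => hall _) (((((LB_zero T ((skipEmb 2).trans (Function.Embedding.refl _))).upd 1 3 2 (le_of_eq hx14)).upd 2 3 1 (le_of_eq hx34)).upd 3 1 1 (le_of_eq hx41)).upd 3 2 2 (le_of_eq hx43)) ![0,2,1,2] (by decide) (by decide) 1 (by decide))
        · -- 34=(2,1)
          exact False.elim (cert_false T ((skipEmb 2).trans (Function.Embedding.refl _)) (by norm_num) (fun _ => hall _) (((((LB_zero T ((skipEmb 2).trans (Function.Embedding.refl _))).upd 1 3 2 (le_of_eq hx14)).upd 2 3 2 (le_of_eq hx34)).upd 3 1 1 (le_of_eq hx41)).upd 3 2 1 (le_of_eq hx43)) ![0,1,1,1] (by decide) (by decide) 1 (by decide))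
        · -- 34=(1,3)
          exact False.elim (cert_false T ((skipEmb 2).trans (Function.Embedding.refl _)) (by norm_num) (fun _ => hall _) (((((LB_zero T ((skipEmb 2).trans (Function.Embedding.refl _))).upd 1 3 2 (le_of_eq hx14)).upd 2 3 1 (le_of_eq hx34)).upd 3 1 1 (le_of_eq hx41)).upd 3 2 3 (le_of_eq hx43)) ![0,1,1,2] (by decide) (by decide) 1 (by decide))
        · -- 34=(3,1)
          exact False.elim (cert_false T ((skipEmb 2).trans (Function.Embedding.refl _)) (by norm_num) (fun _ => hall _) (((((LB_zero T ((skipEmb 2).trans (Function.Embedding.refl _))).upd 1 3 2 (le_of_eq hx14)).upd 2 3 3 (le_of_eq hx34)).upd 3 1 1 (le_of_eq hx41)).upd 3 2 1 (le_of_eq hx43)) ![0,1,1,1] (by decide) (by decide) 1 (by decide))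
      · -- 24=(1,1)
        exact False.elim (cert_false T ((skipEmb 3).trans (Function.Embedding.refl _)) (by norm_num) (fun _ => hall _) (((((((LB_zero T ((skipEmb 3).trans (Function.Embedding.refl _))).upd 0 3 1 (le_of_eq hx04)).upd 1 3 2 (le_of_eq hx14)).upd 2 3 1 (le_of_eq hx24)).upd 3 0 1 (le_of_eq hx40)).upd 3 1 1 (le_of_eq hx41)).upd 3 2 1 (le_of_eq hx42)) ![1,2,1,2] (by decide) (by decide) 0 (by decide))
      · -- 24=(1,2)
        exact False.elim (cert_false T ((skipEmb 3).trans (Function.Embedding.refl _)) (by norm_num) (fun _ => hall _) (((((LB_zero T ((skipEmb 3).trans (Function.Embedding.refl _))).upd 1 3 2 (le_of_eq hx14)).upd 2 3 1 (le_of_eq hx24)).upd 3 1 1 (le_of_eq hx41)).upd 3 2 2 (le_of_eq hx42)) ![0,2,1,2] (by decide) (by decide) 1 (by decide))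
      · -- 24=(2,1)
        exact False.elim (cert_false T ((skipEmb 3).trans (Function.Embedding.refl _)) (by norm_num) (fun _ => hall _) (((((LB_zero T ((skipEmb 3).trans (Function.Embedding.refl _))).upd 1 3 2 (le_of_eq hx14)).upd 2 3 2 (le_of_eq hx24)).upd 3 1 1 (le_of_eq hx41)).upd 3 2 1 (le_of_eq hx42)) ![0,1,1,1] (by decide) (by decide) 1 (by decide))
      · -- 24=(1,3)
        exact False.elim (cert_false T ((skipEmb 3).trans (Function.Embedding.refl _)) (by norm_num) (fun _ => hall _) (((((LB_zero T ((skipEmb 3).trans (Function.Embedding.refl _))).upd 1 3 2 (le_of_eq hx14)).upd 2 3 1 (le_of_eq hx24)).upd 3 1 1 (le_of_eq hx41)).upd 3 2 3 (le_of_eq hx42)) ![0,1,1,2] (by decide) (by decide) 1 (by decide))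
      · -- 24=(3,1)
        exact False.elim (cert_false T ((skipEmb 3).trans (Function.Embedding.refl _)) (by norm_num) (fun _ => hall _) (((((LB_zero T ((skipEmb 3).trans (Function.Embedding.refl _))).upd 1 3 2 (le_of_eq hx14)).upd 2 3 3 (le_of_eq hx24)).upd 3 1 1 (le_of_eq hx41)).upd 3 2 1 (le_of_eq hx42)) ![0,1,1,1] (by decide) (by decide) 1 (by decide))
    · -- 14=(1,3)
      exact False.elim (cert_false T ((skipEmb 3).trans (Function.Embedding.refl _)) (by norm_num) (fun _ => hall _) (((((LB_zero T ((skipEmb 3).trans (Function.Embedding.refl _))).upd 0 3 1 (le_of_eq hx04)).upd 1 3 1 (le_of_eq hx14)).upd 3 0 1 (le_of_eq hx40)).upd 3 1 3 (le_of_eq hx41)) ![1,1,0,2] (by decide) (by decide) 0 (by decide))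
    · -- 14=(3,1)
      exact False.elim (cert_false T ((skipEmb 3).trans (Function.Embedding.refl _)) (by norm_num) (fun _ => hall _) (((((LB_zero T ((skipEmb 3).trans (Function.Embedding.refl _))).upd 0 3 1 (le_of_eq hx04)).upd 1 3 3 (le_of_eq hx14)).upd 3 0 1 (le_of_eq hx40)).upd 3 1 1 (le_of_eq hx41)) ![1,3,0,2] (by decide) (by decide) 0 (by decide))
  · -- 04=(1,2)
    rcases d14 with ⟨rfl, rfl⟩ | ⟨rfl, rfl⟩ | ⟨rfl, rfl⟩ | ⟨rfl, rfl⟩ | ⟨rfl, rfl⟩ | ⟨rfl, rfl⟩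
    · -- 14=(0,0)
      rcases d24 with ⟨rfl, rfl⟩ | ⟨rfl, rfl⟩ | ⟨rfl, rfl⟩ | ⟨rfl, rfl⟩ | ⟨rfl, rfl⟩ | ⟨rfl, rfl⟩
      · -- 24=(0,0)
        rcases d34 with ⟨rfl, rfl⟩ | ⟨rfl, rfl⟩ | ⟨rfl, rfl⟩ | ⟨rfl, rfl⟩ | ⟨rfl, rfl⟩ | ⟨rfl, rfl⟩
        · -- 34=(0,0)
          exfalso; omega
        · -- 34=(1,1)
          exact False.elim (cert_false T ((skipEmb 1).trans (Function.Embedding.refl _)) (by norm_num) (fun _ => hall _) (((((LB_zero T ((skipEmb 1).trans (Function.Embedding.refl _))).upd 1 2 1 (le_of_eq hx23)).upd 2 1 3 (le_of_eq hx32)).upd 2 3 1 (le_of_eq hx34)).upd 3 2 1 (le_of_eq hx43)) ![0,1,2,1] (by decide) (by decide) 1 (by decide))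
        · -- 34=(1,2)
          exact False.elim (cert_false T ((skipEmb 2).trans (Function.Embedding.refl _)) (by norm_num) (fun _ => hall _) (((((LB_zero T ((skipEmb 2).trans (Function.Embedding.refl _))).upd 0 3 1 (le_of_eq hx04)).upd 2 3 1 (le_of_eq hx34)).upd 3 0 2 (le_of_eq hx40)).upd 3 2 2 (le_of_eq hx43)) ![1,0,1,2] (by decide) (by decide) 0 (by decide))
        · -- 34=(2,1)
          exact False.elim (cert_false T ((skipEmb 2).trans (Function.Embedding.refl _)) (by norm_num) (fun _ => hall _) (((((LB_zero T ((skipEmb 2).trans (Function.Embedding.refl _))).upd 0 3 1 (le_of_eq hx04)).upd 2 3 2 (le_of_eq hx34)).upd 3 0 2 (le_of_eq hx40)).upd 3 2 1 (le_of_eq hx43)) ![1,0,2,2] (by decide) (by decide) 0 (by decide))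
        · -- 34=(1,3)
          exact False.elim (cert_false T ((skipEmb 2).trans (Function.Embedding.refl _)) (by norm_num) (fun _ => hall _) (((((LB_zero T ((skipEmb 2).trans (Function.Embedding.refl _))).upd 0 3 1 (le_of_eq hx04)).upd 2 3 1 (le_of_eq hx34)).upd 3 0 2 (le_of_eq hx40)).upd 3 2 3 (le_of_eq hx43)) ![1,0,1,2] (by decide) (by decide) 0 (by decide))
        · -- 34=(3,1)
          exact False.elim (cert_false T ((skipEmb 2).trans (Function.Embedding.refl _)) (by norm_num) (fun _ => hall _) (((((LB_zero T ((skipEmb 2).trans (Function.Embedding.refl _))).upd 0 3 1 (le_of_eq hx04)).upd 2 3 3 (le_of_eq hx34)).upd 3 0 2 (le_of_eq hx40)).upd 3 2 1 (le_of_eq hx43)) ![1,0,2,2] (by decide) (by decide) 0 (by decide))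
      · -- 24=(1,1)
        exact False.elim (cert_false T ((skipEmb 1).trans (Function.Embedding.refl _)) (by norm_num) (fun _ => hall _) (((((((LB_zero T ((skipEmb 1).trans (Function.Embedding.refl _))).upd 0 3 1 (le_of_eq hx04)).upd 1 2 1 (le_of_eq hx23)).upd 1 3 1 (le_of_eq hx24)).upd 2 1 3 (le_of_eq hx32)).upd 3 0 2 (le_of_eq hx40)).upd 3 1 1 (le_of_eq hx42)) ![1,2,2,2] (by decide) (by decide) 0 (by decide))
      · -- 24=(1,2)
        exact False.elim (cert_false T ((skipEmb 3).trans (Function.Embedding.refl _)) (by norm_num) (fun _ => hall _) (((((LB_zero T ((skipEmb 3).trans (Function.Embedding.refl _))).upd 0 3 1 (le_of_eq hx04)).upd 2 3 1 (le_of_eq hx24)).upd 3 0 2 (le_of_eq hx40)).upd 3 2 2 (le_of_eq hx42)) ![1,0,1,2] (by decide) (by decide) 0 (by decide))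
      · -- 24=(2,1)
        exact False.elim (cert_false T ((skipEmb 3).trans (Function.Embedding.refl _)) (by norm_num) (fun _ => hall _) (((((LB_zero T ((skipEmb 3).trans (Function.Embedding.refl _))).upd 0 3 1 (le_of_eq hx04)).upd 2 3 2 (le_of_eq hx24)).upd 3 0 2 (le_of_eq hx40)).upd 3 2 1 (le_of_eq hx42)) ![1,0,2,2] (by decide) (by decide) 0 (by decide))
      · -- 24=(1,3)
        exact False.elim (cert_false T ((skipEmb 3).trans (Function.Embedding.refl _)) (by norm_num) (fun _ => hall _) (((((LB_zero T ((skipEmb 3).trans (Function.Embedding.refl _))).upd 0 3 1 (le_of_eq hx04)).upd 2 3 1 (le_of_eq hx24)).upd 3 0 2 (le_of_eq hx40)).upd 3 2 3 (le_of_eq hx42)) ![1,0,1,2] (by decide) (by decide) 0 (by decide))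
      · -- 24=(3,1)
        exact False.elim (cert_false T ((skipEmb 3).trans (Function.Embedding.refl _)) (by norm_num) (fun _ => hall _) (((((LB_zero T ((skipEmb 3).trans (Function.Embedding.refl _))).upd 0 3 1 (le_of_eq hx04)).upd 2 3 3 (le_of_eq hx24)).upd 3 0 2 (le_of_eq hx40)).upd 3 2 1 (le_of_eq hx42)) ![1,0,2,2] (by decide) (by decide) 0 (by decide))
    · -- 14=(1,1)
      rcases d24 with ⟨rfl, rfl⟩ | ⟨rfl, rfl⟩ | ⟨rfl, rfl⟩ | ⟨rfl, rfl⟩ | ⟨rfl, rfl⟩ | ⟨rfl, rfl⟩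
      · -- 24=(0,0)
        rcases d34 with ⟨rfl, rfl⟩ | ⟨rfl, rfl⟩ | ⟨rfl, rfl⟩ | ⟨rfl, rfl⟩ | ⟨rfl, rfl⟩ | ⟨rfl, rfl⟩
        · -- 34=(0,0)
          exfalso; omega
        · -- 34=(1,1)
          exact False.elim (cert_false T ((skipEmb 2).trans (Function.Embedding.refl _)) (by norm_num) (fun _ => hall _) (((((((LB_zero T ((skipEmb 2).trans (Function.Embedding.refl _))).upd 0 3 1 (le_of_eq hx04)).upd 1 3 1 (le_of_eq hx14)).upd 2 3 1 (le_of_eq hx34)).upd 3 0 2 (le_of_eq hx40)).upd 3 1 1 (le_of_eq hx41)).upd 3 2 1 (le_of_eq hx43)) ![1,1,1,2] (by decide) (by decide) 0 (by decide))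
        · -- 34=(1,2)
          exact False.elim (cert_false T ((skipEmb 2).trans (Function.Embedding.refl _)) (by norm_num) (fun _ => hall _) (((((LB_zero T ((skipEmb 2).trans (Function.Embedding.refl _))).upd 0 3 1 (le_of_eq hx04)).upd 2 3 1 (le_of_eq hx34)).upd 3 0 2 (le_of_eq hx40)).upd 3 2 2 (le_of_eq hx43)) ![1,0,1,2] (by decide) (by decide) 0 (by decide))
        · -- 34=(2,1)
          exact False.elim (cert_false T ((skipEmb 2).trans (Function.Embedding.refl _)) (by norm_num) (fun _ => hall _) (((((LB_zero T ((skipEmb 2).trans (Function.Embedding.refl _))).upd 0 3 1 (le_of_eq hx04)).upd 2 3 2 (le_of_eq hx34)).upd 3 0 2 (le_of_eq hx40)).upd 3 2 1 (le_of_eq hx43)) ![1,0,2,2] (by decide) (by decide) 0 (by decide))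
        · -- 34=(1,3)
          exact False.elim (cert_false T ((skipEmb 2).trans (Function.Embedding.refl _)) (by norm_num) (fun _ => hall _) (((((LB_zero T ((skipEmb 2).trans (Function.Embedding.refl _))).upd 1 3 1 (le_of_eq hx14)).upd 2 3 1 (le_of_eq hx34)).upd 3 1 1 (le_of_eq hx41)).upd 3 2 3 (le_of_eq hx43)) ![0,1,1,2] (by decide) (by decide) 1 (by decide))
        · -- 34=(3,1)
          exact False.elim (cert_false T ((skipEmb 2).trans (Function.Embedding.refl _)) (by norm_num) (fun _ => hall _) (((((LB_zero T ((skipEmb 2).trans (Function.Embedding.refl _))).upd 0 3 1 (le_of_eq hx04)).upd 2 3 3 (le_of_eq hx34)).upd 3 0 2 (le_of_eq hx40)).upd 3 2 1 (le_of_eq hx43)) ![1,0,2,2] (by decide) (by decide) 0 (by decide))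
      · -- 24=(1,1)
        exact False.elim (cert_false T ((skipEmb 3).trans (Function.Embedding.refl _)) (by norm_num) (fun _ => hall _) (((((((LB_zero T ((skipEmb 3).trans (Function.Embedding.refl _))).upd 0 3 1 (le_of_eq hx04)).upd 1 3 1 (le_of_eq hx14)).upd 2 3 1 (le_of_eq hx24)).upd 3 0 2 (le_of_eq hx40)).upd 3 1 1 (le_of_eq hx41)).upd 3 2 1 (le_of_eq hx42)) ![1,1,1,2] (by decide) (by decide) 0 (by decide))
      · -- 24=(1,2)
        exact False.elim (cert_false T ((skipEmb 3).trans (Function.Embedding.refl _)) (by norm_num) (fun _ => hall _) (((((LB_zero T ((skipEmb 3).trans (Function.Embedding.refl _))).upd 0 3 1 (le_of_eq hx04)).upd 2 3 1 (le_of_eq hx24)).upd 3 0 2 (le_of_eq hx40)).upd 3 2 2 (le_of_eq hx42)) ![1,0,1,2] (by decide) (by decide) 0 (by decide))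
      · -- 24=(2,1)
        exact False.elim (cert_false T ((skipEmb 3).trans (Function.Embedding.refl _)) (by norm_num) (fun _ => hall _) (((((LB_zero T ((skipEmb 3).trans (Function.Embedding.refl _))).upd 0 3 1 (le_of_eq hx04)).upd 2 3 2 (le_of_eq hx24)).upd 3 0 2 (le_of_eq hx40)).upd 3 2 1 (le_of_eq hx42)) ![1,0,2,2] (by decide) (by decide) 0 (by decide))
      · -- 24=(1,3)
        exact False.elim (cert_false T ((skipEmb 3).trans (Function.Embedding.refl _)) (by norm_num) (fun _ => hall _) (((((LB_zero T ((skipEmb 3).trans (Function.Embedding.refl _))).upd 1 3 1 (le_of_eq hx14)).upd 2 3 1 (le_of_eq hx24)).upd 3 1 1 (le_of_eq hx41)).upd 3 2 3 (le_of_eq hx42)) ![0,1,1,2] (by decide) (by decide) 1 (by decide))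
      · -- 24=(3,1)
        exact False.elim (cert_false T ((skipEmb 3).trans (Function.Embedding.refl _)) (by norm_num) (fun _ => hall _) (((((LB_zero T ((skipEmb 3).trans (Function.Embedding.refl _))).upd 0 3 1 (le_of_eq hx04)).upd 2 3 3 (le_of_eq hx24)).upd 3 0 2 (le_of_eq hx40)).upd 3 2 1 (le_of_eq hx42)) ![1,0,2,2] (by decide) (by decide) 0 (by decide))
    · -- 14=(1,2)
      exact False.elim (cert_false T ((skipEmb 3).trans (Function.Embedding.refl _)) (by norm_num) (fun _ => hall _) (((((LB_zero T ((skipEmb 3).trans (Function.Embedding.refl _))).upd 0 3 1 (le_of_eq hx04)).upd 1 3 1 (le_of_eq hx14)).upd 3 0 2 (le_of_eq hx40)).upd 3 1 2 (le_of_eq hx41)) ![1,1,0,2] (by decide) (by decide) 0 (by decide))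
    · -- 14=(2,1)
      exact False.elim (cert_false T ((skipEmb 3).trans (Function.Embedding.refl _)) (by norm_num) (fun _ => hall _) (((((LB_zero T ((skipEmb 3).trans (Function.Embedding.refl _))).upd 0 3 1 (le_of_eq hx04)).upd 1 3 2 (le_of_eq hx14)).upd 3 0 2 (le_of_eq hx40)).upd 3 1 1 (le_of_eq hx41)) ![1,2,0,2] (by decide) (by decide) 0 (by decide))
    · -- 14=(1,3)
      exact False.elim (cert_false T ((skipEmb 3).trans (Function.Embedding.refl _)) (by norm_num) (fun _ => hall _) (((((LB_zero T ((skipEmb 3).trans (Function.Embedding.refl _))).upd 0 3 1 (le_of_eq hx04)).upd 1 3 1 (le_of_eq hx14)).upd 3 0 2 (le_of_eq hx40)).upd 3 1 3 (le_of_eq hx41)) ![1,1,0,2] (by decide) (by decide) 0 (by decide))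
    · -- 14=(3,1)
      exact False.elim (cert_false T ((skipEmb 3).trans (Function.Embedding.refl _)) (by norm_num) (fun _ => hall _) (((((LB_zero T ((skipEmb 3).trans (Function.Embedding.refl _))).upd 0 3 1 (le_of_eq hx04)).upd 1 3 3 (le_of_eq hx14)).upd 3 0 2 (le_of_eq hx40)).upd 3 1 1 (le_of_eq hx41)) ![1,2,0,2] (by decide) (by decide) 0 (by decide))
  · -- 04=(2,1)
    rcases d14 with ⟨rfl, rfl⟩ | ⟨rfl, rfl⟩ | ⟨rfl, rfl⟩ | ⟨rfl, rfl⟩ | ⟨rfl, rfl⟩ | ⟨rfl, rfl⟩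
    · -- 14=(0,0)
      rcases d24 with ⟨rfl, rfl⟩ | ⟨rfl, rfl⟩ | ⟨rfl, rfl⟩ | ⟨rfl, rfl⟩ | ⟨rfl, rfl⟩ | ⟨rfl, rfl⟩
      · -- 24=(0,0)
        rcases d34 with ⟨rfl, rfl⟩ | ⟨rfl, rfl⟩ | ⟨rfl, rfl⟩ | ⟨rfl, rfl⟩ | ⟨rfl, rfl⟩ | ⟨rfl, rfl⟩
        · -- 34=(0,0)
          exfalso; omega
        · -- 34=(1,1)
          exact False.elim (cert_false T ((skipEmb 1).trans (Function.Embedding.refl _)) (by norm_num) (fun _ => hall _) (((((LB_zero T ((skipEmb 1).trans (Function.Embedding.refl _))).upd 1 2 1 (le_of_eq hx23)).upd 2 1 3 (le_of_eq hx32)).upd 2 3 1 (le_of_eq hx34)).upd 3 2 1 (le_of_eq hx43)) ![0,1,2,1] (by decide) (by decide) 1 (by decide))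
        · -- 34=(1,2)
          exact False.elim (cert_false T ((skipEmb 2).trans (Function.Embedding.refl _)) (by norm_num) (fun _ => hall _) (((((LB_zero T ((skipEmb 2).trans (Function.Embedding.refl _))).upd 0 3 2 (le_of_eq hx04)).upd 2 3 1 (le_of_eq hx34)).upd 3 0 1 (le_of_eq hx40)).upd 3 2 2 (le_of_eq hx43)) ![2,0,1,2] (by decide) (by decide) 0 (by decide))
        · -- 34=(2,1)
          exact False.elim (cert_false T ((skipEmb 2).trans (Function.Embedding.refl _)) (by norm_num) (fun _ => hall _) (((((LB_zero T ((skipEmb 2).trans (Function.Embedding.refl _))).upd 0 3 2 (le_of_eq hx04)).upd 2 3 2 (le_of_eq hx34)).upd 3 0 1 (le_of_eq hx40)).upd 3 2 1 (le_of_eq hx43)) ![1,0,1,1] (by decide) (by decide) 0 (by decide))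
        · -- 34=(1,3)
          exact False.elim (cert_false T ((skipEmb 2).trans (Function.Embedding.refl _)) (by norm_num) (fun _ => hall _) (((((LB_zero T ((skipEmb 2).trans (Function.Embedding.refl _))).upd 0 3 2 (le_of_eq hx04)).upd 2 3 1 (le_of_eq hx34)).upd 3 0 1 (le_of_eq hx40)).upd 3 2 3 (le_of_eq hx43)) ![1,0,1,2] (by decide) (by decide) 0 (by decide))
        · -- 34=(3,1)
          exact False.elim (cert_false T ((skipEmb 2).trans (Function.Embedding.refl _)) (by norm_num) (fun _ => hall _) (((((LB_zero T ((skipEmb 2).trans (Function.Embedding.refl _))).upd 0 3 2 (le_of_eq hx04)).upd 2 3 3 (le_of_eq hx34)).upd 3 0 1 (le_of_eq hx40)).upd 3 2 1 (le_of_eq hx43)) ![1,0,1,1] (by decide) (by decide) 0 (by decide))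
      · -- 24=(1,1)
        exact False.elim (cert_false T ((skipEmb 1).trans (Function.Embedding.refl _)) (by norm_num) (fun _ => hall _) (((((((LB_zero T ((skipEmb 1).trans (Function.Embedding.refl _))).upd 0 3 2 (le_of_eq hx04)).upd 1 2 1 (le_of_eq hx23)).upd 1 3 1 (le_of_eq hx24)).upd 2 1 3 (le_of_eq hx32)).upd 3 0 1 (le_of_eq hx40)).upd 3 1 1 (le_of_eq hx42)) ![1,1,1,1] (by decide) (by decide) 0 (by decide))
      · -- 24=(1,2)
        exact False.elim (cert_false T ((skipEmb 3).trans (Function.Embedding.refl _)) (by norm_num) (fun _ => hall _) (((((LB_zero T ((skipEmb 3).trans (Function.Embedding.refl _))).upd 0 3 2 (le_of_eq hx04)).upd 2 3 1 (le_of_eq hx24)).upd 3 0 1 (le_of_eq hx40)).upd 3 2 2 (le_of_eq hx42)) ![2,0,1,2] (by decide) (by decide) 0 (by decide))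
      · -- 24=(2,1)
        exact False.elim (cert_false T ((skipEmb 3).trans (Function.Embedding.refl _)) (by norm_num) (fun _ => hall _) (((((LB_zero T ((skipEmb 3).trans (Function.Embedding.refl _))).upd 0 3 2 (le_of_eq hx04)).upd 2 3 2 (le_of_eq hx24)).upd 3 0 1 (le_of_eq hx40)).upd 3 2 1 (le_of_eq hx42)) ![1,0,1,1] (by decide) (by decide) 0 (by decide))
      · -- 24=(1,3)
        exact False.elim (cert_false T ((skipEmb 3).trans (Function.Embedding.refl _)) (by norm_num) (fun _ => hall _) (((((LB_zero T ((skipEmb 3).trans (Function.Embedding.refl _))).upd 0 3 2 (le_of_eq hx04)).upd 2 3 1 (le_of_eq hx24)).upd 3 0 1 (le_of_eq hx40)).upd 3 2 3 (le_of_eq hx42)) ![1,0,1,2] (by decide) (by decide) 0 (by decide))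
      · -- 24=(3,1)
        exact False.elim (cert_false T ((skipEmb 3).trans (Function.Embedding.refl _)) (by norm_num) (fun _ => hall _) (((((LB_zero T ((skipEmb 3).trans (Function.Embedding.refl _))).upd 0 3 2 (le_of_eq hx04)).upd 2 3 3 (le_of_eq hx24)).upd 3 0 1 (le_of_eq hx40)).upd 3 2 1 (le_of_eq hx42)) ![1,0,1,1] (by decide) (by decide) 0 (by decide))
    · -- 14=(1,1)
      rcases d24 with ⟨rfl, rfl⟩ | ⟨rfl, rfl⟩ | ⟨rfl, rfl⟩ | ⟨rfl, rfl⟩ | ⟨rfl, rfl⟩ | ⟨rfl, rfl⟩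
      · -- 24=(0,0)
        rcases d34 with ⟨rfl, rfl⟩ | ⟨rfl, rfl⟩ | ⟨rfl, rfl⟩ | ⟨rfl, rfl⟩ | ⟨rfl, rfl⟩ | ⟨rfl, rfl⟩
        · -- 34=(0,0)
          exfalso; omega
        · -- 34=(1,1)
          exact False.elim (cert_false T ((skipEmb 2).trans (Function.Embedding.refl _)) (by norm_num) (fun _ => hall _) (((((((LB_zero T ((skipEmb 2).trans (Function.Embedding.refl _))).upd 0 3 2 (le_of_eq hx04)).upd 1 3 1 (le_of_eq hx14)).upd 2 3 1 (le_of_eq hx34)).upd 3 0 1 (le_of_eq hx40)).upd 3 1 1 (le_of_eq hx41)).upd 3 2 1 (le_of_eq hx43)) ![2,1,1,2] (by decide) (by decide) 0 (by decide))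
        · -- 34=(1,2)
          exact False.elim (cert_false T ((skipEmb 2).trans (Function.Embedding.refl _)) (by norm_num) (fun _ => hall _) (((((((LB_zero T ((skipEmb 2).trans (Function.Embedding.refl _))).upd 0 3 2 (le_of_eq hx04)).upd 1 3 1 (le_of_eq hx14)).upd 2 3 1 (le_of_eq hx34)).upd 3 0 1 (le_of_eq hx40)).upd 3 1 1 (le_of_eq hx41)).upd 3 2 2 (le_of_eq hx43)) ![1,1,1,2] (by decide) (by decide) 0 (by decide))
        · -- 34=(2,1)
          exact False.elim (cert_false T ((skipEmb 2).trans (Function.Embedding.refl _)) (by norm_num) (fun _ => hall _) (((((LB_zero T ((skipEmb 2).trans (Function.Embedding.refl _))).upd 0 3 2 (le_of_eq hx04)).upd 2 3 2 (le_of_eq hx34)).upd 3 0 1 (le_of_eq hx40)).upd 3 2 1 (le_of_eq hx43)) ![1,0,1,1] (by decide) (by decide) 0 (by decide))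
        · -- 34=(1,3)
          exact False.elim (cert_false T ((skipEmb 2).trans (Function.Embedding.refl _)) (by norm_num) (fun _ => hall _) (((((LB_zero T ((skipEmb 2).trans (Function.Embedding.refl _))).upd 1 3 1 (le_of_eq hx14)).upd 2 3 1 (le_of_eq hx34)).upd 3 1 1 (le_of_eq hx41)).upd 3 2 3 (le_of_eq hx43)) ![0,1,1,2] (by decide) (by decide) 1 (by decide))
        · -- 34=(3,1)
          exact False.elim (cert_false T ((skipEmb 2).trans (Function.Embedding.refl _)) (by norm_num) (fun _ => hall _) (((((LB_zero T ((skipEmb 2).trans (Function.Embedding.refl _))).upd 0 3 2 (le_of_eq hx04)).upd 2 3 3 (le_of_eq hx34)).upd 3 0 1 (le_of_eq hx40)).upd 3 2 1 (le_of_eq hx43)) ![1,0,1,1] (by decide) (by decide) 0 (by decide))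
      · -- 24=(1,1)
        exact False.elim (cert_false T ((skipEmb 3).trans (Function.Embedding.refl _)) (by norm_num) (fun _ => hall _) (((((((LB_zero T ((skipEmb 3).trans (Function.Embedding.refl _))).upd 0 3 2 (le_of_eq hx04)).upd 1 3 1 (le_of_eq hx14)).upd 2 3 1 (le_of_eq hx24)).upd 3 0 1 (le_of_eq hx40)).upd 3 1 1 (le_of_eq hx41)).upd 3 2 1 (le_of_eq hx42)) ![2,1,1,2] (by decide) (by decide) 0 (by decide))
      · -- 24=(1,2)
        exact False.elim (cert_false T ((skipEmb 3).trans (Function.Embedding.refl _)) (by norm_num) (fun _ => hall _) (((((((LB_zero T ((skipEmb 3).trans (Function.Embedding.refl _))).upd 0 3 2 (le_of_eq hx04)).upd 1 3 1 (le_of_eq hx14)).upd 2 3 1 (le_of_eq hx24)).upd 3 0 1 (le_of_eq hx40)).upd 3 1 1 (le_of_eq hx41)).upd 3 2 2 (le_of_eq hx42)) ![1,1,1,2] (by decide) (by decide) 0 (by decide))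
      · -- 24=(2,1)
        exact False.elim (cert_false T ((skipEmb 3).trans (Function.Embedding.refl _)) (by norm_num) (fun _ => hall _) (((((LB_zero T ((skipEmb 3).trans (Function.Embedding.refl _))).upd 0 3 2 (le_of_eq hx04)).upd 2 3 2 (le_of_eq hx24)).upd 3 0 1 (le_of_eq hx40)).upd 3 2 1 (le_of_eq hx42)) ![1,0,1,1] (by decide) (by decide) 0 (by decide))
      · -- 24=(1,3)
        exact False.elim (cert_false T ((skipEmb 3).trans (Function.Embedding.refl _)) (by norm_num) (fun _ => hall _) (((((LB_zero T ((skipEmb 3).trans (Function.Embedding.refl _))).upd 1 3 1 (le_of_eq hx14)).upd 2 3 1 (le_of_eq hx24)).upd 3 1 1 (le_of_eq hx41)).upd 3 2 3 (le_of_eq hx42)) ![0,1,1,2] (by decide) (by decide) 1 (by decide))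
      · -- 24=(3,1)
        exact False.elim (cert_false T ((skipEmb 3).trans (Function.Embedding.refl _)) (by norm_num) (fun _ => hall _) (((((LB_zero T ((skipEmb 3).trans (Function.Embedding.refl _))).upd 0 3 2 (le_of_eq hx04)).upd 2 3 3 (le_of_eq hx24)).upd 3 0 1 (le_of_eq hx40)).upd 3 2 1 (le_of_eq hx42)) ![1,0,1,1] (by decide) (by decide) 0 (by decide))
    · -- 14=(1,2)
      exact False.elim (cert_false T ((skipEmb 3).trans (Function.Embedding.refl _)) (by norm_num) (fun _ => hall _) (((((LB_zero T ((skipEmb 3).trans (Function.Embedding.refl _))).upd 0 3 2 (le_of_eq hx04)).upd 1 3 1 (le_of_eq hx14)).upd 3 0 1 (le_of_eq hx40)).upd 3 1 2 (le_of_eq hx41)) ![2,1,0,2] (by decide) (by decide) 0 (by decide))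
    · -- 14=(2,1)
      exact False.elim (cert_false T ((skipEmb 3).trans (Function.Embedding.refl _)) (by norm_num) (fun _ => hall _) (((((LB_zero T ((skipEmb 3).trans (Function.Embedding.refl _))).upd 0 3 2 (le_of_eq hx04)).upd 1 3 2 (le_of_eq hx14)).upd 3 0 1 (le_of_eq hx40)).upd 3 1 1 (le_of_eq hx41)) ![1,1,0,1] (by decide) (by decide) 0 (by decide))
    · -- 14=(1,3)
      exact False.elim (cert_false T ((skipEmb 3).trans (Function.Embedding.refl _)) (by norm_num) (fun _ => hall _) (((((LB_zero T ((skipEmb 3).trans (Function.Embedding.refl _))).upd 0 3 2 (le_of_eq hx04)).upd 1 3 1 (le_of_eq hx14)).upd 3 0 1 (le_of_eq hx40)).upd 3 1 3 (le_of_eq hx41)) ![1,1,0,2] (by decide) (by decide) 0 (by decide))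
    · -- 14=(3,1)
      exact False.elim (cert_false T ((skipEmb 3).trans (Function.Embedding.refl _)) (by norm_num) (fun _ => hall _) (((((LB_zero T ((skipEmb 3).trans (Function.Embedding.refl _))).upd 0 3 2 (le_of_eq hx04)).upd 1 3 3 (le_of_eq hx14)).upd 3 0 1 (le_of_eq hx40)).upd 3 1 1 (le_of_eq hx41)) ![1,1,0,1] (by decide) (by decide) 0 (by decide))
  · -- 04=(1,3)
    rcases d14 with ⟨rfl, rfl⟩ | ⟨rfl, rfl⟩ | ⟨rfl, rfl⟩ | ⟨rfl, rfl⟩ | ⟨rfl, rfl⟩ | ⟨rfl, rfl⟩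
    · -- 14=(0,0)
      rcases d24 with ⟨rfl, rfl⟩ | ⟨rfl, rfl⟩ | ⟨rfl, rfl⟩ | ⟨rfl, rfl⟩ | ⟨rfl, rfl⟩ | ⟨rfl, rfl⟩
      · -- 24=(0,0)
        rcases d34 with ⟨rfl, rfl⟩ | ⟨rfl, rfl⟩ | ⟨rfl, rfl⟩ | ⟨rfl, rfl⟩ | ⟨rfl, rfl⟩ | ⟨rfl, rfl⟩
        · -- 34=(0,0)
          exfalso; omega
        · -- 34=(1,1)
          exact False.elim (cert_false T ((skipEmb 2).trans (Function.Embedding.refl _)) (by norm_num) (fun _ => hall _) (((((LB_zero T ((skipEmb 2).trans (Function.Embedding.refl _))).upd 0 3 1 (le_of_eq hx04)).upd 2 3 1 (le_of_eq hx34)).upd 3 0 3 (le_of_eq hx40)).upd 3 2 1 (le_of_eq hx43)) ![1,0,1,2] (by decide) (by decide) 0 (by decide))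
        · -- 34=(1,2)
          exact False.elim (cert_false T ((skipEmb 2).trans (Function.Embedding.refl _)) (by norm_num) (fun _ => hall _) (((((LB_zero T ((skipEmb 2).trans (Function.Embedding.refl _))).upd 0 3 1 (le_of_eq hx04)).upd 2 3 1 (le_of_eq hx34)).upd 3 0 3 (le_of_eq hx40)).upd 3 2 2 (le_of_eq hx43)) ![1,0,1,2] (by decide) (by decide) 0 (by decide))
        · -- 34=(2,1)
          exact False.elim (cert_false T ((skipEmb 2).trans (Function.Embedding.refl _)) (by norm_num) (fun _ => hall _) (((((LB_zero T ((skipEmb 2).trans (Function.Embedding.refl _))).upd 0 3 1 (le_of_eq hx04)).upd 2 3 2 (le_of_eq hx34)).upd 3 0 3 (le_of_eq hx40)).upd 3 2 1 (le_of_eq hx43)) ![1,0,1,2] (by decide) (by decide) 0 (by decide))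
        · -- 34=(1,3)
          exact False.elim (cert_false T ((skipEmb 2).trans (Function.Embedding.refl _)) (by norm_num) (fun _ => hall _) (((((LB_zero T ((skipEmb 2).trans (Function.Embedding.refl _))).upd 0 3 1 (le_of_eq hx04)).upd 2 3 1 (le_of_eq hx34)).upd 3 0 3 (le_of_eq hx40)).upd 3 2 3 (le_of_eq hx43)) ![1,0,1,2] (by decide) (by decide) 0 (by decide))
        · -- 34=(3,1)
          exact False.elim (cert_false T ((skipEmb 2).trans (Function.Embedding.refl _)) (by norm_num) (fun _ => hall _) (((((LB_zero T ((skipEmb 2).trans (Function.Embedding.refl _))).upd 0 3 1 (le_of_eq hx04)).upd 2 3 3 (le_of_eq hx34)).upd 3 0 3 (le_of_eq hx40)).upd 3 2 1 (le_of_eq hx43)) ![1,0,1,2] (by decide) (by decide) 0 (by decide))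
      · -- 24=(1,1)
        exact False.elim (cert_false T ((skipEmb 3).trans (Function.Embedding.refl _)) (by norm_num) (fun _ => hall _) (((((LB_zero T ((skipEmb 3).trans (Function.Embedding.refl _))).upd 0 3 1 (le_of_eq hx04)).upd 2 3 1 (le_of_eq hx24)).upd 3 0 3 (le_of_eq hx40)).upd 3 2 1 (le_of_eq hx42)) ![1,0,1,2] (by decide) (by decide) 0 (by decide))
      · -- 24=(1,2)
        exact False.elim (cert_false T ((skipEmb 3).trans (Function.Embedding.refl _)) (by norm_num) (fun _ => hall _) (((((LB_zero T ((skipEmb 3).trans (Function.Embedding.refl _))).upd 0 3 1 (le_of_eq hx04)).upd 2 3 1 (le_of_eq hx24)).upd 3 0 3 (le_of_eq hx40)).upd 3 2 2 (le_of_eq hx42)) ![1,0,1,2] (by decide) (by decide) 0 (by decide))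
      · -- 24=(2,1)
        exact False.elim (cert_false T ((skipEmb 3).trans (Function.Embedding.refl _)) (by norm_num) (fun _ => hall _) (((((LB_zero T ((skipEmb 3).trans (Function.Embedding.refl _))).upd 0 3 1 (le_of_eq hx04)).upd 2 3 2 (le_of_eq hx24)).upd 3 0 3 (le_of_eq hx40)).upd 3 2 1 (le_of_eq hx42)) ![1,0,1,2] (by decide) (by decide) 0 (by decide))
      · -- 24=(1,3)
        exact False.elim (cert_false T ((skipEmb 3).trans (Function.Embedding.refl _)) (by norm_num) (fun _ => hall _) (((((LB_zero T ((skipEmb 3).trans (Function.Embedding.refl _))).upd 0 3 1 (le_of_eq hx04)).upd 2 3 1 (le_of_eq hx24)).upd 3 0 3 (le_of_eq hx40)).upd 3 2 3 (le_of_eq hx42)) ![1,0,1,2] (by decide) (by decide) 0 (by decide))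
      · -- 24=(3,1)
        exact False.elim (cert_false T ((skipEmb 3).trans (Function.Embedding.refl _)) (by norm_num) (fun _ => hall _) (((((LB_zero T ((skipEmb 3).trans (Function.Embedding.refl _))).upd 0 3 1 (le_of_eq hx04)).upd 2 3 3 (le_of_eq hx24)).upd 3 0 3 (le_of_eq hx40)).upd 3 2 1 (le_of_eq hx42)) ![1,0,1,2] (by decide) (by decide) 0 (by decide))
    · -- 14=(1,1)
      exact False.elim (cert_false T ((skipEmb 3).trans (Function.Embedding.refl _)) (by norm_num) (fun _ => hall _) (((((LB_zero T ((skipEmb 3).trans (Function.Embedding.refl _))).upd 0 3 1 (le_of_eq hx04)).upd 1 3 1 (le_of_eq hx14)).upd 3 0 3 (le_of_eq hx40)).upd 3 1 1 (le_of_eq hx41)) ![1,1,0,2] (by decide) (by decide) 0 (by decide))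
    · -- 14=(1,2)
      exact False.elim (cert_false T ((skipEmb 3).trans (Function.Embedding.refl _)) (by norm_num) (fun _ => hall _) (((((LB_zero T ((skipEmb 3).trans (Function.Embedding.refl _))).upd 0 3 1 (le_of_eq hx04)).upd 1 3 1 (le_of_eq hx14)).upd 3 0 3 (le_of_eq hx40)).upd 3 1 2 (le_of_eq hx41)) ![1,1,0,2] (by decide) (by decide) 0 (by decide))
    · -- 14=(2,1)
      exact False.elim (cert_false T ((skipEmb 3).trans (Function.Embedding.refl _)) (by norm_num) (fun _ => hall _) (((((LB_zero T ((skipEmb 3).trans (Function.Embedding.refl _))).upd 0 3 1 (le_of_eq hx04)).upd 1 3 2 (le_of_eq hx14)).upd 3 0 3 (le_of_eq hx40)).upd 3 1 1 (le_of_eq hx41)) ![1,1,0,2] (by decide) (by decide) 0 (by decide))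
    · -- 14=(1,3)
      exact False.elim (cert_false T ((skipEmb 3).trans (Function.Embedding.refl _)) (by norm_num) (fun _ => hall _) (((((LB_zero T ((skipEmb 3).trans (Function.Embedding.refl _))).upd 0 3 1 (le_of_eq hx04)).upd 1 3 1 (le_of_eq hx14)).upd 3 0 3 (le_of_eq hx40)).upd 3 1 3 (le_of_eq hx41)) ![1,1,0,2] (by decide) (by decide) 0 (by decide))
    · -- 14=(3,1)
      exact False.elim (cert_false T ((skipEmb 3).trans (Function.Embedding.refl _)) (by norm_num) (fun _ => hall _) (((((LB_zero T ((skipEmb 3).trans (Function.Embedding.refl _))).upd 0 3 1 (le_of_eq hx04)).upd 1 3 3 (le_of_eq hx14)).upd 3 0 3 (le_of_eq hx40)).upd 3 1 1 (le_of_eq hx41)) ![1,1,0,2] (by decide) (by decide) 0 (by decide))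
  · -- 04=(3,1)
    rcases d14 with ⟨rfl, rfl⟩ | ⟨rfl, rfl⟩ | ⟨rfl, rfl⟩ | ⟨rfl, rfl⟩ | ⟨rfl, rfl⟩ | ⟨rfl, rfl⟩
    · -- 14=(0,0)
      rcases d24 with ⟨rfl, rfl⟩ | ⟨rfl, rfl⟩ | ⟨rfl, rfl⟩ | ⟨rfl, rfl⟩ | ⟨rfl, rfl⟩ | ⟨rfl, rfl⟩
      · -- 24=(0,0)
        rcases d34 with ⟨rfl, rfl⟩ | ⟨rfl, rfl⟩ | ⟨rfl, rfl⟩ | ⟨rfl, rfl⟩ | ⟨rfl, rfl⟩ | ⟨rfl, rfl⟩
        · -- 34=(0,0)
          exfalso; omega
        · -- 34=(1,1)
          exact False.elim (cert_false T ((skipEmb 2).trans (Function.Embedding.refl _)) (by norm_num) (fun _ => hall _) (((((LB_zero T ((skipEmb 2).trans (Function.Embedding.refl _))).upd 0 3 3 (le_of_eq hx04)).upd 2 3 1 (le_of_eq hx34)).upd 3 0 1 (le_of_eq hx40)).upd 3 2 1 (le_of_eq hx43)) ![3,0,1,2] (by decide) (by decide) 0 (by decide))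
        · -- 34=(1,2)
          exact False.elim (cert_false T ((skipEmb 2).trans (Function.Embedding.refl _)) (by norm_num) (fun _ => hall _) (((((LB_zero T ((skipEmb 2).trans (Function.Embedding.refl _))).upd 0 3 3 (le_of_eq hx04)).upd 2 3 1 (le_of_eq hx34)).upd 3 0 1 (le_of_eq hx40)).upd 3 2 2 (le_of_eq hx43)) ![2,0,1,2] (by decide) (by decide) 0 (by decide))
        · -- 34=(2,1)
          exact False.elim (cert_false T ((skipEmb 2).trans (Function.Embedding.refl _)) (by norm_num) (fun _ => hall _) (((((LB_zero T ((skipEmb 2).trans (Function.Embedding.refl _))).upd 0 3 3 (le_of_eq hx04)).upd 2 3 2 (le_of_eq hx34)).upd 3 0 1 (le_of_eq hx40)).upd 3 2 1 (le_of_eq hx43)) ![1,0,1,1] (by decide) (by decide) 0 (by decide))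
        · -- 34=(1,3)
          exact False.elim (cert_false T ((skipEmb 2).trans (Function.Embedding.refl _)) (by norm_num) (fun _ => hall _) (((((LB_zero T ((skipEmb 2).trans (Function.Embedding.refl _))).upd 0 3 3 (le_of_eq hx04)).upd 2 3 1 (le_of_eq hx34)).upd 3 0 1 (le_of_eq hx40)).upd 3 2 3 (le_of_eq hx43)) ![1,0,1,2] (by decide) (by decide) 0 (by decide))
        · -- 34=(3,1)
          exact False.elim (cert_false T ((skipEmb 2).trans (Function.Embedding.refl _)) (by norm_num) (fun _ => hall _) (((((LB_zero T ((skipEmb 2).trans (Function.Embedding.refl _))).upd 0 3 3 (le_of_eq hx04)).upd 2 3 3 (le_of_eq hx34)).upd 3 0 1 (le_of_eq hx40)).upd 3 2 1 (le_of_eq hx43)) ![1,0,1,1] (by decide) (by decide) 0 (by decide))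
      · -- 24=(1,1)
        exact False.elim (cert_false T ((skipEmb 3).trans (Function.Embedding.refl _)) (by norm_num) (fun _ => hall _) (((((LB_zero T ((skipEmb 3).trans (Function.Embedding.refl _))).upd 0 3 3 (le_of_eq hx04)).upd 2 3 1 (le_of_eq hx24)).upd 3 0 1 (le_of_eq hx40)).upd 3 2 1 (le_of_eq hx42)) ![3,0,1,2] (by decide) (by decide) 0 (by decide))
      · -- 24=(1,2)
        exact False.elim (cert_false T ((skipEmb 3).trans (Function.Embedding.refl _)) (by norm_num) (fun _ => hall _) (((((LB_zero T ((skipEmb 3).trans (Function.Embedding.refl _))).upd 0 3 3 (le_of_eq hx04)).upd 2 3 1 (le_of_eq hx24)).upd 3 0 1 (le_of_eq hx40)).upd 3 2 2 (le_of_eq hx42)) ![2,0,1,2] (by decide) (by decide) 0 (by decide))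
      · -- 24=(2,1)
        exact False.elim (cert_false T ((skipEmb 3).trans (Function.Embedding.refl _)) (by norm_num) (fun _ => hall _) (((((LB_zero T ((skipEmb 3).trans (Function.Embedding.refl _))).upd 0 3 3 (le_of_eq hx04)).upd 2 3 2 (le_of_eq hx24)).upd 3 0 1 (le_of_eq hx40)).upd 3 2 1 (le_of_eq hx42)) ![1,0,1,1] (by decide) (by decide) 0 (by decide))
      · -- 24=(1,3)
        exact False.elim (cert_false T ((skipEmb 3).trans (Function.Embedding.refl _)) (by norm_num) (fun _ => hall _) (((((LB_zero T ((skipEmb 3).trans (Function.Embedding.refl _))).upd 0 3 3 (le_of_eq hx04)).upd 2 3 1 (le_of_eq hx24)).upd 3 0 1 (le_of_eq hx40)).upd 3 2 3 (le_of_eq hx42)) ![1,0,1,2] (by decide) (by decide) 0 (by decide))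
      · -- 24=(3,1)
        exact False.elim (cert_false T ((skipEmb 3).trans (Function.Embedding.refl _)) (by norm_num) (fun _ => hall _) (((((LB_zero T ((skipEmb 3).trans (Function.Embedding.refl _))).upd 0 3 3 (le_of_eq hx04)).upd 2 3 3 (le_of_eq hx24)).upd 3 0 1 (le_of_eq hx40)).upd 3 2 1 (le_of_eq hx42)) ![1,0,1,1] (by decide) (by decide) 0 (by decide))
    · -- 14=(1,1)
      exact False.elim (cert_false T ((skipEmb 3).trans (Function.Embedding.refl _)) (by norm_num) (fun _ => hall _) (((((LB_zero T ((skipEmb 3).trans (Function.Embedding.refl _))).upd 0 3 3 (le_of_eq hx04)).upd 1 3 1 (le_of_eq hx14)).upd 3 0 1 (le_of_eq hx40)).upd 3 1 1 (le_of_eq hx41)) ![3,1,0,2] (by decide) (by decide) 0 (by decide))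
    · -- 14=(1,2)
      exact False.elim (cert_false T ((skipEmb 3).trans (Function.Embedding.refl _)) (by norm_num) (fun _ => hall _) (((((LB_zero T ((skipEmb 3).trans (Function.Embedding.refl _))).upd 0 3 3 (le_of_eq hx04)).upd 1 3 1 (le_of_eq hx14)).upd 3 0 1 (le_of_eq hx40)).upd 3 1 2 (le_of_eq hx41)) ![2,1,0,2] (by decide) (by decide) 0 (by decide))
    · -- 14=(2,1)
      exact False.elim (cert_false T ((skipEmb 3).trans (Function.Embedding.refl _)) (by norm_num) (fun _ => hall _) (((((LB_zero T ((skipEmb 3).trans (Function.Embedding.refl _))).upd 0 3 3 (le_of_eq hx04)).upd 1 3 2 (le_of_eq hx14)).upd 3 0 1 (le_of_eq hx40)).upd 3 1 1 (le_of_eq hx41)) ![1,1,0,1] (by decide) (by decide) 0 (by decide))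
    · -- 14=(1,3)
      exact False.elim (cert_false T ((skipEmb 3).trans (Function.Embedding.refl _)) (by norm_num) (fun _ => hall _) (((((LB_zero T ((skipEmb 3).trans (Function.Embedding.refl _))).upd 0 3 3 (le_of_eq hx04)).upd 1 3 1 (le_of_eq hx14)).upd 3 0 1 (le_of_eq hx40)).upd 3 1 3 (le_of_eq hx41)) ![1,1,0,2] (by decide) (by decide) 0 (by decide))
    · -- 14=(3,1)
      exact False.elim (cert_false T ((skipEmb 3).trans (Function.Embedding.refl _)) (by norm_num) (fun _ => hall _) (((((LB_zero T ((skipEmb 3).trans (Function.Embedding.refl _))).upd 0 3 3 (le_of_eq hx04)).upd 1 3 3 (le_of_eq hx14)).upd 3 0 1 (le_of_eq hx40)).upd 3 1 1 (le_of_eq hx41)) ![1,1,0,1] (by decide) (by decide) 0 (by decide))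

theorem case20 (T : NumericalType 5) (hall : ∀ i, T.IsMinusTwo i) (d : SData T)
    (h01 : N T (Function.Embedding.refl _) 0 1 = 0) (h10 : N T (Function.Embedding.refl _) 1 0 = 0)
    (h02 : N T (Function.Embedding.refl _) 0 2 = 0) (h20 : N T (Function.Embedding.refl _) 2 0 = 0)
    (h12 : N T (Function.Embedding.refl _) 1 2 = 0) (h21 : N T (Function.Embedding.refl _) 2 1 = 0)
    (h03 : N T (Function.Embedding.refl _) 0 3 = 0) (h30 : N T (Function.Embedding.refl _) 3 0 = 0)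
    (h13 : N T (Function.Embedding.refl _) 1 3 = 0) (h31 : N T (Function.Embedding.refl _) 3 1 = 0)
    (h23 : N T (Function.Embedding.refl _) 2 3 = 3) (h32 : N T (Function.Embedding.refl _) 3 2 = 1)
    (h04 : N T (Function.Embedding.refl _) 0 4 = 0) (h40 : N T (Function.Embedding.refl _) 4 0 = 0) :
    Goal T := by
  unfold Goal
  have hd := d
  obtain ⟨x01, x02, x03, x04, x10, x12, x13, x14, x20, x21, x23, x24, x30, x31, x32, x34, x40, x41, x42, x43, hx01, hx02, hx03, hx04, hx10, hx12, hx13, hx14, hx20, hx21, hx23, hx24, hx30, hx31, hx32, hx34, hx40, hx41, hx42, hx43, hw0, hm0, hw1, hm1, hw2, hm2, hw3, hm3, hw4, hm4, a00, a01, a02, a03, a04, a11, a10, a12, a13, a14, a22, a20, a21, a23, a24, a33, a30, a31, a32, a34, a44, a40, a41, a42, a43, wN01, wN02, wN12, wN03, wN13, wN23, wN04, wN14, wN24, wN34, e0, e1, e2, e3, e4, d01, d02, d12, d03, d13, d23, d04, d14, d24, d34⟩ := d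
  obtain rfl : x01 = 0 := hx01.trans h01
  obtain rfl : x10 = 0 := hx10.trans h10
  obtain rfl : x02 = 0 := hx02.trans h02
  obtain rfl : x20 = 0 := hx20.trans h20
  obtain rfl : x12 = 0 := hx12.trans h12
  obtain rfl : x21 = 0 := hx21.trans h21
  obtain rfl : x03 = 0 := hx03.trans h03
  obtain rfl : x30 = 0 := hx30.trans h30
  obtain rfl : x13 = 0 := hx13.trans h13
  obtain rfl : x31 = 0 := hx31.trans h31
  obtain rfl : x23 = 3 := hx23.trans h23
  obtain rfl : x32 = 1 := hx32.trans h32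
  obtain rfl : x04 = 0 := hx04.trans h04
  obtain rfl : x40 = 0 := hx40.trans h40
  rcases d14 with ⟨rfl, rfl⟩ | ⟨rfl, rfl⟩ | ⟨rfl, rfl⟩ | ⟨rfl, rfl⟩ | ⟨rfl, rfl⟩ | ⟨rfl, rfl⟩
  · -- 14=(0,0)
    rcases d24 with ⟨rfl, rfl⟩ | ⟨rfl, rfl⟩ | ⟨rfl, rfl⟩ | ⟨rfl, rfl⟩ | ⟨rfl, rfl⟩ | ⟨rfl, rfl⟩
    · -- 24=(0,0)
      rcases d34 with ⟨rfl, rfl⟩ | ⟨rfl, rfl⟩ | ⟨rfl, rfl⟩ | ⟨rfl, rfl⟩ | ⟨rfl, rfl⟩ | ⟨rfl, rfl⟩
      · -- 34=(0,0)
        exfalso; omega
      · -- 34=(1,1)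
        exact False.elim (cert_false T ((skipEmb 1).trans (Function.Embedding.refl _)) (by norm_num) (fun _ => hall _) (((((LB_zero T ((skipEmb 1).trans (Function.Embedding.refl _))).upd 1 2 3 (le_of_eq hx23)).upd 2 1 1 (le_of_eq hx32)).upd 2 3 1 (le_of_eq hx34)).upd 3 2 1 (le_of_eq hx43)) ![0,3,2,1] (by decide) (by decide) 1 (by decide))
      · -- 34=(1,2)
        exact False.elim (cert_false T ((skipEmb 1).trans (Function.Embedding.refl _)) (by norm_num) (fun _ => hall _) (((((LB_zero T ((skipEmb 1).trans (Function.Embedding.refl _))).upd 1 2 3 (le_of_eq hx23)).upd 2 1 1 (le_of_eq hx32)).upd 2 3 1 (le_of_eq hx34)).upd 3 2 2 (le_of_eq hx43)) ![0,1,1,1] (by decide) (by decide) 1 (by decide))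
      · -- 34=(2,1)
        exact False.elim (cert_false T ((skipEmb 1).trans (Function.Embedding.refl _)) (by norm_num) (fun _ => hall _) (((((LB_zero T ((skipEmb 1).trans (Function.Embedding.refl _))).upd 1 2 3 (le_of_eq hx23)).upd 2 1 1 (le_of_eq hx32)).upd 2 3 2 (le_of_eq hx34)).upd 3 2 1 (le_of_eq hx43)) ![0,2,2,1] (by decide) (by decide) 1 (by decide))
      · -- 34=(1,3)
        exact False.elim (cert_false T ((skipEmb 1).trans (Function.Embedding.refl _)) (by norm_num) (fun _ => hall _) (((((LB_zero T ((skipEmb 1).trans (Function.Embedding.refl _))).upd 1 2 3 (le_of_eq hx23)).upd 2 1 1 (le_of_eq hx32)).upd 2 3 1 (le_of_eq hx34)).upd 3 2 3 (le_of_eq hx43)) ![0,1,1,1] (by decide) (by decide) 1 (by decide))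
      · -- 34=(3,1)
        exact False.elim (cert_false T ((skipEmb 1).trans (Function.Embedding.refl _)) (by norm_num) (fun _ => hall _) (((((LB_zero T ((skipEmb 1).trans (Function.Embedding.refl _))).upd 1 2 3 (le_of_eq hx23)).upd 2 1 1 (le_of_eq hx32)).upd 2 3 3 (le_of_eq hx34)).upd 3 2 1 (le_of_eq hx43)) ![0,1,2,1] (by decide) (by decide) 1 (by decide))
    · -- 24=(1,1)
      exact False.elim (cert_false T ((skipEmb 1).trans (Function.Embedding.refl _)) (by norm_num) (fun _ => hall _) (((((LB_zero T ((skipEmb 1).trans (Function.Embedding.refl _))).upd 1 2 3 (le_of_eq hx23)).upd 1 3 1 (le_of_eq hx24)).upd 2 1 1 (le_of_eq hx32)).upd 3 1 1 (le_of_eq hx42)) ![0,2,1,1] (by decide) (by decide) 1 (by decide))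
    · -- 24=(1,2)
      exact False.elim (cert_false T ((skipEmb 1).trans (Function.Embedding.refl _)) (by norm_num) (fun _ => hall _) (((((LB_zero T ((skipEmb 1).trans (Function.Embedding.refl _))).upd 1 2 3 (le_of_eq hx23)).upd 1 3 1 (le_of_eq hx24)).upd 2 1 1 (le_of_eq hx32)).upd 3 1 2 (le_of_eq hx42)) ![0,2,1,1] (by decide) (by decide) 1 (by decide))
    · -- 24=(2,1)
      exact False.elim (cert_false T ((skipEmb 1).trans (Function.Embedding.refl _)) (by norm_num) (fun _ => hall _) (((((LB_zero T ((skipEmb 1).trans (Function.Embedding.refl _))).upd 1 2 3 (le_of_eq hx23)).upd 1 3 2 (le_of_eq hx24)).upd 2 1 1 (le_of_eq hx32)).upd 3 1 1 (le_of_eq hx42)) ![0,2,1,1] (by decide) (by decide) 1 (by decide))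
    · -- 24=(1,3)
      exact False.elim (cert_false T ((skipEmb 1).trans (Function.Embedding.refl _)) (by norm_num) (fun _ => hall _) (((((LB_zero T ((skipEmb 1).trans (Function.Embedding.refl _))).upd 1 2 3 (le_of_eq hx23)).upd 1 3 1 (le_of_eq hx24)).upd 2 1 1 (le_of_eq hx32)).upd 3 1 3 (le_of_eq hx42)) ![0,2,1,1] (by decide) (by decide) 1 (by decide))
    · -- 24=(3,1)
      exact False.elim (cert_false T ((skipEmb 1).trans (Function.Embedding.refl _)) (by norm_num) (fun _ => hall _) (((((LB_zero T ((skipEmb 1).trans (Function.Embedding.refl _))).upd 1 2 3 (le_of_eq hx23)).upd 1 3 3 (le_of_eq hx24)).upd 2 1 1 (le_of_eq hx32)).upd 3 1 1 (le_of_eq hx42)) ![0,2,1,1] (by decide) (by decide) 1 (by decide))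
  · -- 14=(1,1)
    rcases d24 with ⟨rfl, rfl⟩ | ⟨rfl, rfl⟩ | ⟨rfl, rfl⟩ | ⟨rfl, rfl⟩ | ⟨rfl, rfl⟩ | ⟨rfl, rfl⟩
    · -- 24=(0,0)
      rcases d34 with ⟨rfl, rfl⟩ | ⟨rfl, rfl⟩ | ⟨rfl, rfl⟩ | ⟨rfl, rfl⟩ | ⟨rfl, rfl⟩ | ⟨rfl, rfl⟩
      · -- 34=(0,0)
        exfalso; omega
      · -- 34=(1,1)
        exact False.elim (cert_false T ((skipEmb 1).trans (Function.Embedding.refl _)) (by norm_num) (fun _ => hall _) (((((LB_zero T ((skipEmb 1).trans (Function.Embedding.refl _))).upd 1 2 3 (le_of_eq hx23)).upd 2 1 1 (le_of_eq hx32)).upd 2 3 1 (le_of_eq hx34)).upd 3 2 1 (le_of_eq hx43)) ![0,3,2,1] (by decide) (by decide) 1 (by decide))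
      · -- 34=(1,2)
        exact False.elim (cert_false T ((skipEmb 1).trans (Function.Embedding.refl _)) (by norm_num) (fun _ => hall _) (((((LB_zero T ((skipEmb 1).trans (Function.Embedding.refl _))).upd 1 2 3 (le_of_eq hx23)).upd 2 1 1 (le_of_eq hx32)).upd 2 3 1 (le_of_eq hx34)).upd 3 2 2 (le_of_eq hx43)) ![0,1,1,1] (by decide) (by decide) 1 (by decide))
      · -- 34=(2,1)
        exact False.elim (cert_false T ((skipEmb 1).trans (Function.Embedding.refl _)) (by norm_num) (fun _ => hall _) (((((LB_zero T ((skipEmb 1).trans (Function.Embedding.refl _))).upd 1 2 3 (le_of_eq hx23)).upd 2 1 1 (le_of_eq hx32)).upd 2 3 2 (le_of_eq hx34)).upd 3 2 1 (le_of_eq hx43)) ![0,2,2,1] (by decide) (by decide) 1 (by decide))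
      · -- 34=(1,3)
        exact False.elim (cert_false T ((skipEmb 2).trans (Function.Embedding.refl _)) (by norm_num) (fun _ => hall _) (((((LB_zero T ((skipEmb 2).trans (Function.Embedding.refl _))).upd 1 3 1 (le_of_eq hx14)).upd 2 3 1 (le_of_eq hx34)).upd 3 1 1 (le_of_eq hx41)).upd 3 2 3 (le_of_eq hx43)) ![0,1,1,2] (by decide) (by decide) 1 (by decide))
      · -- 34=(3,1)
        exact False.elim (cert_false T ((skipEmb 2).trans (Function.Embedding.refl _)) (by norm_num) (fun _ => hall _) (((((LB_zero T ((skipEmb 2).trans (Function.Embedding.refl _))).upd 1 3 1 (le_of_eq hx14)).upd 2 3 3 (le_of_eq hx34)).upd 3 1 1 (le_of_eq hx41)).upd 3 2 1 (le_of_eq hx43)) ![0,1,3,2] (by decide) (by decide) 1 (by decide))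
    · -- 24=(1,1)
      exact False.elim (cert_false T ((skipEmb 1).trans (Function.Embedding.refl _)) (by norm_num) (fun _ => hall _) (((((LB_zero T ((skipEmb 1).trans (Function.Embedding.refl _))).upd 1 2 3 (le_of_eq hx23)).upd 1 3 1 (le_of_eq hx24)).upd 2 1 1 (le_of_eq hx32)).upd 3 1 1 (le_of_eq hx42)) ![0,2,1,1] (by decide) (by decide) 1 (by decide))
    · -- 24=(1,2)
      exact False.elim (cert_false T ((skipEmb 1).trans (Function.Embedding.refl _)) (by norm_num) (fun _ => hall _) (((((LB_zero T ((skipEmb 1).trans (Function.Embedding.refl _))).upd 1 2 3 (le_of_eq hx23)).upd 1 3 1 (le_of_eq hx24)).upd 2 1 1 (le_of_eq hx32)).upd 3 1 2 (le_of_eq hx42)) ![0,2,1,1] (by decide) (by decide) 1 (by decide))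
    · -- 24=(2,1)
      exact False.elim (cert_false T ((skipEmb 1).trans (Function.Embedding.refl _)) (by norm_num) (fun _ => hall _) (((((LB_zero T ((skipEmb 1).trans (Function.Embedding.refl _))).upd 1 2 3 (le_of_eq hx23)).upd 1 3 2 (le_of_eq hx24)).upd 2 1 1 (le_of_eq hx32)).upd 3 1 1 (le_of_eq hx42)) ![0,2,1,1] (by decide) (by decide) 1 (by decide))
    · -- 24=(1,3)
      exact False.elim (cert_false T ((skipEmb 3).trans (Function.Embedding.refl _)) (by norm_num) (fun _ => hall _) (((((LB_zero T ((skipEmb 3).trans (Function.Embedding.refl _))).upd 1 3 1 (le_of_eq hx14)).upd 2 3 1 (le_of_eq hx24)).upd 3 1 1 (le_of_eq hx41)).upd 3 2 3 (le_of_eq hx42)) ![0,1,1,2] (by decide) (by decide) 1 (by decide))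
    · -- 24=(3,1)
      exact False.elim (cert_false T ((skipEmb 3).trans (Function.Embedding.refl _)) (by norm_num) (fun _ => hall _) (((((LB_zero T ((skipEmb 3).trans (Function.Embedding.refl _))).upd 1 3 1 (le_of_eq hx14)).upd 2 3 3 (le_of_eq hx24)).upd 3 1 1 (le_of_eq hx41)).upd 3 2 1 (le_of_eq hx42)) ![0,1,3,2] (by decide) (by decide) 1 (by decide))
  · -- 14=(1,2)
    rcases d24 with ⟨rfl, rfl⟩ | ⟨rfl, rfl⟩ | ⟨rfl, rfl⟩ | ⟨rfl, rfl⟩ | ⟨rfl, rfl⟩ | ⟨rfl, rfl⟩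
    · -- 24=(0,0)
      rcases d34 with ⟨rfl, rfl⟩ | ⟨rfl, rfl⟩ | ⟨rfl, rfl⟩ | ⟨rfl, rfl⟩ | ⟨rfl, rfl⟩ | ⟨rfl, rfl⟩
      · -- 34=(0,0)
        exfalso; omega
      · -- 34=(1,1)
        exact False.elim (cert_false T ((skipEmb 1).trans (Function.Embedding.refl _)) (by norm_num) (fun _ => hall _) (((((LB_zero T ((skipEmb 1).trans (Function.Embedding.refl _))).upd 1 2 3 (le_of_eq hx23)).upd 2 1 1 (le_of_eq hx32)).upd 2 3 1 (le_of_eq hx34)).upd 3 2 1 (le_of_eq hx43)) ![0,3,2,1] (by decide) (by decide) 1 (by decide))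
      · -- 34=(1,2)
        exact False.elim (cert_false T ((skipEmb 2).trans (Function.Embedding.refl _)) (by norm_num) (fun _ => hall _) (((((LB_zero T ((skipEmb 2).trans (Function.Embedding.refl _))).upd 1 3 1 (le_of_eq hx14)).upd 2 3 1 (le_of_eq hx34)).upd 3 1 2 (le_of_eq hx41)).upd 3 2 2 (le_of_eq hx43)) ![0,1,1,2] (by decide) (by decide) 1 (by decide))
      · -- 34=(2,1)
        exact False.elim (cert_false T ((skipEmb 2).trans (Function.Embedding.refl _)) (by norm_num) (fun _ => hall _) (((((LB_zero T ((skipEmb 2).trans (Function.Embedding.refl _))).upd 1 3 1 (le_of_eq hx14)).upd 2 3 2 (le_of_eq hx34)).upd 3 1 2 (le_of_eq hx41)).upd 3 2 1 (le_of_eq hx43)) ![0,1,2,2] (by decide) (by decide) 1 (by decide))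
      · -- 34=(1,3)
        exact False.elim (cert_false T ((skipEmb 2).trans (Function.Embedding.refl _)) (by norm_num) (fun _ => hall _) (((((LB_zero T ((skipEmb 2).trans (Function.Embedding.refl _))).upd 1 3 1 (le_of_eq hx14)).upd 2 3 1 (le_of_eq hx34)).upd 3 1 2 (le_of_eq hx41)).upd 3 2 3 (le_of_eq hx43)) ![0,1,1,2] (by decide) (by decide) 1 (by decide))
      · -- 34=(3,1)
        exact False.elim (cert_false T ((skipEmb 2).trans (Function.Embedding.refl _)) (by norm_num) (fun _ => hall _) (((((LB_zero T ((skipEmb 2).trans (Function.Embedding.refl _))).upd 1 3 1 (le_of_eq hx14)).upd 2 3 3 (le_of_eq hx34)).upd 3 1 2 (le_of_eq hx41)).upd 3 2 1 (le_of_eq hx43)) ![0,1,2,2] (by decide) (by decide) 1 (by decide))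
    · -- 24=(1,1)
      exact False.elim (cert_false T ((skipEmb 1).trans (Function.Embedding.refl _)) (by norm_num) (fun _ => hall _) (((((LB_zero T ((skipEmb 1).trans (Function.Embedding.refl _))).upd 1 2 3 (le_of_eq hx23)).upd 1 3 1 (le_of_eq hx24)).upd 2 1 1 (le_of_eq hx32)).upd 3 1 1 (le_of_eq hx42)) ![0,2,1,1] (by decide) (by decide) 1 (by decide))
    · -- 24=(1,2)
      exact False.elim (cert_false T ((skipEmb 3).trans (Function.Embedding.refl _)) (by norm_num) (fun _ => hall _) (((((LB_zero T ((skipEmb 3).trans (Function.Embedding.refl _))).upd 1 3 1 (le_of_eq hx14)).upd 2 3 1 (le_of_eq hx24)).upd 3 1 2 (le_of_eq hx41)).upd 3 2 2 (le_of_eq hx42)) ![0,1,1,2] (by decide) (by decide) 1 (by decide))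
    · -- 24=(2,1)
      exact False.elim (cert_false T ((skipEmb 3).trans (Function.Embedding.refl _)) (by norm_num) (fun _ => hall _) (((((LB_zero T ((skipEmb 3).trans (Function.Embedding.refl _))).upd 1 3 1 (le_of_eq hx14)).upd 2 3 2 (le_of_eq hx24)).upd 3 1 2 (le_of_eq hx41)).upd 3 2 1 (le_of_eq hx42)) ![0,1,2,2] (by decide) (by decide) 1 (by decide))
    · -- 24=(1,3)
      exact False.elim (cert_false T ((skipEmb 3).trans (Function.Embedding.refl _)) (by norm_num) (fun _ => hall _) (((((LB_zero T ((skipEmb 3).trans (Function.Embedding.refl _))).upd 1 3 1 (le_of_eq hx14)).upd 2 3 1 (le_of_eq hx24)).upd 3 1 2 (le_of_eq hx41)).upd 3 2 3 (le_of_eq hx42)) ![0,1,1,2] (by decide) (by decide) 1 (by decide))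
    · -- 24=(3,1)
      exact False.elim (cert_false T ((skipEmb 3).trans (Function.Embedding.refl _)) (by norm_num) (fun _ => hall _) (((((LB_zero T ((skipEmb 3).trans (Function.Embedding.refl _))).upd 1 3 1 (le_of_eq hx14)).upd 2 3 3 (le_of_eq hx24)).upd 3 1 2 (le_of_eq hx41)).upd 3 2 1 (le_of_eq hx42)) ![0,1,2,2] (by decide) (by decide) 1 (by decide))
  · -- 14=(2,1)
    rcases d24 with ⟨rfl, rfl⟩ | ⟨rfl, rfl⟩ | ⟨rfl, rfl⟩ | ⟨rfl, rfl⟩ | ⟨rfl, rfl⟩ | ⟨rfl, rfl⟩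
    · -- 24=(0,0)
      rcases d34 with ⟨rfl, rfl⟩ | ⟨rfl, rfl⟩ | ⟨rfl, rfl⟩ | ⟨rfl, rfl⟩ | ⟨rfl, rfl⟩ | ⟨rfl, rfl⟩
      · -- 34=(0,0)
        exfalso; omega
      · -- 34=(1,1)
        exact False.elim (cert_false T ((skipEmb 1).trans (Function.Embedding.refl _)) (by norm_num) (fun _ => hall _) (((((LB_zero T ((skipEmb 1).trans (Function.Embedding.refl _))).upd 1 2 3 (le_of_eq hx23)).upd 2 1 1 (le_of_eq hx32)).upd 2 3 1 (le_of_eq hx34)).upd 3 2 1 (le_of_eq hx43)) ![0,3,2,1] (by decide) (by decide) 1 (by decide))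
      · -- 34=(1,2)
        exact False.elim (cert_false T ((skipEmb 2).trans (Function.Embedding.refl _)) (by norm_num) (fun _ => hall _) (((((LB_zero T ((skipEmb 2).trans (Function.Embedding.refl _))).upd 1 3 2 (le_of_eq hx14)).upd 2 3 1 (le_of_eq hx34)).upd 3 1 1 (le_of_eq hx41)).upd 3 2 2 (le_of_eq hx43)) ![0,2,1,2] (by decide) (by decide) 1 (by decide))
      · -- 34=(2,1)
        exact False.elim (cert_false T ((skipEmb 2).trans (Function.Embedding.refl _)) (by norm_num) (fun _ => hall _) (((((LB_zero T ((skipEmb 2).trans (Function.Embedding.refl _))).upd 1 3 2 (le_of_eq hx14)).upd 2 3 2 (le_of_eq hx34)).upd 3 1 1 (le_of_eq hx41)).upd 3 2 1 (le_of_eq hx43)) ![0,1,1,1] (by decide) (by decide) 1 (by decide))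
      · -- 34=(1,3)
        exact False.elim (cert_false T ((skipEmb 2).trans (Function.Embedding.refl _)) (by norm_num) (fun _ => hall _) (((((LB_zero T ((skipEmb 2).trans (Function.Embedding.refl _))).upd 1 3 2 (le_of_eq hx14)).upd 2 3 1 (le_of_eq hx34)).upd 3 1 1 (le_of_eq hx41)).upd 3 2 3 (le_of_eq hx43)) ![0,1,1,2] (by decide) (by decide) 1 (by decide))
      · -- 34=(3,1)
        exact False.elim (cert_false T ((skipEmb 2).trans (Function.Embedding.refl _)) (by norm_num) (fun _ => hall _) (((((LB_zero T ((skipEmb 2).trans (Function.Embedding.refl _))).upd 1 3 2 (le_of_eq hx14)).upd 2 3 3 (le_of_eq hx34)).upd 3 1 1 (le_of_eq hx41)).upd 3 2 1 (le_of_eq hx43)) ![0,1,1,1] (by decide) (by decide) 1 (by decide))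
    · -- 24=(1,1)
      exact False.elim (cert_false T ((skipEmb 1).trans (Function.Embedding.refl _)) (by norm_num) (fun _ => hall _) (((((LB_zero T ((skipEmb 1).trans (Function.Embedding.refl _))).upd 1 2 3 (le_of_eq hx23)).upd 1 3 1 (le_of_eq hx24)).upd 2 1 1 (le_of_eq hx32)).upd 3 1 1 (le_of_eq hx42)) ![0,2,1,1] (by decide) (by decide) 1 (by decide))
    · -- 24=(1,2)
      exact False.elim (cert_false T ((skipEmb 3).trans (Function.Embedding.refl _)) (by norm_num) (fun _ => hall _) (((((LB_zero T ((skipEmb 3).trans (Function.Embedding.refl _))).upd 1 3 2 (le_of_eq hx14)).upd 2 3 1 (le_of_eq hx24)).upd 3 1 1 (le_of_eq hx41)).upd 3 2 2 (le_of_eq hx42)) ![0,2,1,2] (by decide) (by decide) 1 (by decide))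
    · -- 24=(2,1)
      exact False.elim (cert_false T ((skipEmb 3).trans (Function.Embedding.refl _)) (by norm_num) (fun _ => hall _) (((((LB_zero T ((skipEmb 3).trans (Function.Embedding.refl _))).upd 1 3 2 (le_of_eq hx14)).upd 2 3 2 (le_of_eq hx24)).upd 3 1 1 (le_of_eq hx41)).upd 3 2 1 (le_of_eq hx42)) ![0,1,1,1] (by decide) (by decide) 1 (by decide))
    · -- 24=(1,3)
      exact False.elim (cert_false T ((skipEmb 3).trans (Function.Embedding.refl _)) (by norm_num) (fun _ => hall _) (((((LB_zero T ((skipEmb 3).trans (Function.Embedding.refl _))).upd 1 3 2 (le_of_eq hx14)).upd 2 3 1 (le_of_eq hx24)).upd 3 1 1 (le_of_eq hx41)).upd 3 2 3 (le_of_eq hx42)) ![0,1,1,2] (by decide) (by decide) 1 (by decide))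
    · -- 24=(3,1)
      exact False.elim (cert_false T ((skipEmb 3).trans (Function.Embedding.refl _)) (by norm_num) (fun _ => hall _) (((((LB_zero T ((skipEmb 3).trans (Function.Embedding.refl _))).upd 1 3 2 (le_of_eq hx14)).upd 2 3 3 (le_of_eq hx24)).upd 3 1 1 (le_of_eq hx41)).upd 3 2 1 (le_of_eq hx42)) ![0,1,1,1] (by decide) (by decide) 1 (by decide))
  · -- 14=(1,3)
    rcases d24 with ⟨rfl, rfl⟩ | ⟨rfl, rfl⟩ | ⟨rfl, rfl⟩ | ⟨rfl, rfl⟩ | ⟨rfl, rfl⟩ | ⟨rfl, rfl⟩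
    · -- 24=(0,0)
      rcases d34 with ⟨rfl, rfl⟩ | ⟨rfl, rfl⟩ | ⟨rfl, rfl⟩ | ⟨rfl, rfl⟩ | ⟨rfl, rfl⟩ | ⟨rfl, rfl⟩
      · -- 34=(0,0)
        exfalso; omega
      · -- 34=(1,1)
        exact False.elim (cert_false T ((skipEmb 2).trans (Function.Embedding.refl _)) (by norm_num) (fun _ => hall _) (((((LB_zero T ((skipEmb 2).trans (Function.Embedding.refl _))).upd 1 3 1 (le_of_eq hx14)).upd 2 3 1 (le_of_eq hx34)).upd 3 1 3 (le_of_eq hx41)).upd 3 2 1 (le_of_eq hx43)) ![0,1,1,2] (by decide) (by decide) 1 (by decide))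
      · -- 34=(1,2)
        exact False.elim (cert_false T ((skipEmb 2).trans (Function.Embedding.refl _)) (by norm_num) (fun _ => hall _) (((((LB_zero T ((skipEmb 2).trans (Function.Embedding.refl _))).upd 1 3 1 (le_of_eq hx14)).upd 2 3 1 (le_of_eq hx34)).upd 3 1 3 (le_of_eq hx41)).upd 3 2 2 (le_of_eq hx43)) ![0,1,1,2] (by decide) (by decide) 1 (by decide))
      · -- 34=(2,1)
        exact False.elim (cert_false T ((skipEmb 2).trans (Function.Embedding.refl _)) (by norm_num) (fun _ => hall _) (((((LB_zero T ((skipEmb 2).trans (Function.Embedding.refl _))).upd 1 3 1 (le_of_eq hx14)).upd 2 3 2 (le_of_eq hx34)).upd 3 1 3 (le_of_eq hx41)).upd 3 2 1 (le_of_eq hx43)) ![0,1,1,2] (by decide) (by decide) 1 (by decide))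
      · -- 34=(1,3)
        exact False.elim (cert_false T ((skipEmb 2).trans (Function.Embedding.refl _)) (by norm_num) (fun _ => hall _) (((((LB_zero T ((skipEmb 2).trans (Function.Embedding.refl _))).upd 1 3 1 (le_of_eq hx14)).upd 2 3 1 (le_of_eq hx34)).upd 3 1 3 (le_of_eq hx41)).upd 3 2 3 (le_of_eq hx43)) ![0,1,1,2] (by decide) (by decide) 1 (by decide))
      · -- 34=(3,1)
        exact False.elim (cert_false T ((skipEmb 2).trans (Function.Embedding.refl _)) (by norm_num) (fun _ => hall _) (((((LB_zero T ((skipEmb 2).trans (Function.Embedding.refl _))).upd 1 3 1 (le_of_eq hx14)).upd 2 3 3 (le_of_eq hx34)).upd 3 1 3 (le_of_eq hx41)).upd 3 2 1 (le_of_eq hx43)) ![0,1,1,2] (by decide) (by decide) 1 (by decide))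
    · -- 24=(1,1)
      exact False.elim (cert_false T ((skipEmb 3).trans (Function.Embedding.refl _)) (by norm_num) (fun _ => hall _) (((((LB_zero T ((skipEmb 3).trans (Function.Embedding.refl _))).upd 1 3 1 (le_of_eq hx14)).upd 2 3 1 (le_of_eq hx24)).upd 3 1 3 (le_of_eq hx41)).upd 3 2 1 (le_of_eq hx42)) ![0,1,1,2] (by decide) (by decide) 1 (by decide))
    · -- 24=(1,2)
      exact False.elim (cert_false T ((skipEmb 3).trans (Function.Embedding.refl _)) (by norm_num) (fun _ => hall _) (((((LB_zero T ((skipEmb 3).trans (Function.Embedding.refl _))).upd 1 3 1 (le_of_eq hx14)).upd 2 3 1 (le_of_eq hx24)).upd 3 1 3 (le_of_eq hx41)).upd 3 2 2 (le_of_eq hx42)) ![0,1,1,2] (by decide) (by decide) 1 (by decide))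
    · -- 24=(2,1)
      exact False.elim (cert_false T ((skipEmb 3).trans (Function.Embedding.refl _)) (by norm_num) (fun _ => hall _) (((((LB_zero T ((skipEmb 3).trans (Function.Embedding.refl _))).upd 1 3 1 (le_of_eq hx14)).upd 2 3 2 (le_of_eq hx24)).upd 3 1 3 (le_of_eq hx41)).upd 3 2 1 (le_of_eq hx42)) ![0,1,1,2] (by decide) (by decide) 1 (by decide))
    · -- 24=(1,3)
      exact False.elim (cert_false T ((skipEmb 3).trans (Function.Embedding.refl _)) (by norm_num) (fun _ => hall _) (((((LB_zero T ((skipEmb 3).trans (Function.Embedding.refl _))).upd 1 3 1 (le_of_eq hx14)).upd 2 3 1 (le_of_eq hx24)).upd 3 1 3 (le_of_eq hx41)).upd 3 2 3 (le_of_eq hx42)) ![0,1,1,2] (by decide) (by decide) 1 (by decide))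
    · -- 24=(3,1)
      exact False.elim (cert_false T ((skipEmb 3).trans (Function.Embedding.refl _)) (by norm_num) (fun _ => hall _) (((((LB_zero T ((skipEmb 3).trans (Function.Embedding.refl _))).upd 1 3 1 (le_of_eq hx14)).upd 2 3 3 (le_of_eq hx24)).upd 3 1 3 (le_of_eq hx41)).upd 3 2 1 (le_of_eq hx42)) ![0,1,1,2] (by decide) (by decide) 1 (by decide))
  · -- 14=(3,1)
    rcases d24 with ⟨rfl, rfl⟩ | ⟨rfl, rfl⟩ | ⟨rfl, rfl⟩ | ⟨rfl, rfl⟩ | ⟨rfl, rfl⟩ | ⟨rfl, rfl⟩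
    · -- 24=(0,0)
      rcases d34 with ⟨rfl, rfl⟩ | ⟨rfl, rfl⟩ | ⟨rfl, rfl⟩ | ⟨rfl, rfl⟩ | ⟨rfl, rfl⟩ | ⟨rfl, rfl⟩
      · -- 34=(0,0)
        exfalso; omega
      · -- 34=(1,1)
        exact False.elim (cert_false T ((skipEmb 2).trans (Function.Embedding.refl _)) (by norm_num) (fun _ => hall _) (((((LB_zero T ((skipEmb 2).trans (Function.Embedding.refl _))).upd 1 3 3 (le_of_eq hx14)).upd 2 3 1 (le_of_eq hx34)).upd 3 1 1 (le_of_eq hx41)).upd 3 2 1 (le_of_eq hx43)) ![0,3,1,2] (by decide) (by decide) 1 (by decide))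
      · -- 34=(1,2)
        exact False.elim (cert_false T ((skipEmb 2).trans (Function.Embedding.refl _)) (by norm_num) (fun _ => hall _) (((((LB_zero T ((skipEmb 2).trans (Function.Embedding.refl _))).upd 1 3 3 (le_of_eq hx14)).upd 2 3 1 (le_of_eq hx34)).upd 3 1 1 (le_of_eq hx41)).upd 3 2 2 (le_of_eq hx43)) ![0,2,1,2] (by decide) (by decide) 1 (by decide))
      · -- 34=(2,1)
        exact False.elim (cert_false T ((skipEmb 2).trans (Function.Embedding.refl _)) (by norm_num) (fun _ => hall _) (((((LB_zero T ((skipEmb 2).trans (Function.Embedding.refl _))).upd 1 3 3 (le_of_eq hx14)).upd 2 3 2 (le_of_eq hx34)).upd 3 1 1 (le_of_eq hx41)).upd 3 2 1 (le_of_eq hx43)) ![0,1,1,1] (by decide) (by decide) 1 (by decide))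
      · -- 34=(1,3)
        exact False.elim (cert_false T ((skipEmb 2).trans (Function.Embedding.refl _)) (by norm_num) (fun _ => hall _) (((((LB_zero T ((skipEmb 2).trans (Function.Embedding.refl _))).upd 1 3 3 (le_of_eq hx14)).upd 2 3 1 (le_of_eq hx34)).upd 3 1 1 (le_of_eq hx41)).upd 3 2 3 (le_of_eq hx43)) ![0,1,1,2] (by decide) (by decide) 1 (by decide))
      · -- 34=(3,1)
        exact False.elim (cert_false T ((skipEmb 2).trans (Function.Embedding.refl _)) (by norm_num) (fun _ => hall _) (((((LB_zero T ((skipEmb 2).trans (Function.Embedding.refl _))).upd 1 3 3 (le_of_eq hx14)).upd 2 3 3 (le_of_eq hx34)).upd 3 1 1 (le_of_eq hx41)).upd 3 2 1 (le_of_eq hx43)) ![0,1,1,1] (by decide) (by decide) 1 (by decide))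
    · -- 24=(1,1)
      exact False.elim (cert_false T ((skipEmb 3).trans (Function.Embedding.refl _)) (by norm_num) (fun _ => hall _) (((((LB_zero T ((skipEmb 3).trans (Function.Embedding.refl _))).upd 1 3 3 (le_of_eq hx14)).upd 2 3 1 (le_of_eq hx24)).upd 3 1 1 (le_of_eq hx41)).upd 3 2 1 (le_of_eq hx42)) ![0,3,1,2] (by decide) (by decide) 1 (by decide))
    · -- 24=(1,2)
      exact False.elim (cert_false T ((skipEmb 3).trans (Function.Embedding.refl _)) (by norm_num) (fun _ => hall _) (((((LB_zero T ((skipEmb 3).trans (Function.Embedding.refl _))).upd 1 3 3 (le_of_eq hx14)).upd 2 3 1 (le_of_eq hx24)).upd 3 1 1 (le_of_eq hx41)).upd 3 2 2 (le_of_eq hx42)) ![0,2,1,2] (by decide) (by decide) 1 (by decide))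
    · -- 24=(2,1)
      exact False.elim (cert_false T ((skipEmb 3).trans (Function.Embedding.refl _)) (by norm_num) (fun _ => hall _) (((((LB_zero T ((skipEmb 3).trans (Function.Embedding.refl _))).upd 1 3 3 (le_of_eq hx14)).upd 2 3 2 (le_of_eq hx24)).upd 3 1 1 (le_of_eq hx41)).upd 3 2 1 (le_of_eq hx42)) ![0,1,1,1] (by decide) (by decide) 1 (by decide))
    · -- 24=(1,3)
      exact False.elim (cert_false T ((skipEmb 3).trans (Function.Embedding.refl _)) (by norm_num) (fun _ => hall _) (((((LB_zero T ((skipEmb 3).trans (Function.Embedding.refl _))).upd 1 3 3 (le_of_eq hx14)).upd 2 3 1 (le_of_eq hx24)).upd 3 1 1 (le_of_eq hx41)).upd 3 2 3 (le_of_eq hx42)) ![0,1,1,2] (by decide) (by decide) 1 (by decide))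
    · -- 24=(3,1)
      exact False.elim (cert_false T ((skipEmb 3).trans (Function.Embedding.refl _)) (by norm_num) (fun _ => hall _) (((((LB_zero T ((skipEmb 3).trans (Function.Embedding.refl _))).upd 1 3 3 (le_of_eq hx14)).upd 2 3 3 (le_of_eq hx24)).upd 3 1 1 (le_of_eq hx41)).upd 3 2 1 (le_of_eq hx42)) ![0,1,1,1] (by decide) (by decide) 1 (by decide))

theorem case19 (T : NumericalType 5) (hall : ∀ i, T.IsMinusTwo i) (d : SData T)
    (h01 : N T (Function.Embedding.refl _) 0 1 = 0) (h10 : N T (Function.Embedding.refl _) 1 0 = 0)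
    (h02 : N T (Function.Embedding.refl _) 0 2 = 0) (h20 : N T (Function.Embedding.refl _) 2 0 = 0)
    (h12 : N T (Function.Embedding.refl _) 1 2 = 0) (h21 : N T (Function.Embedding.refl _) 2 1 = 0)
    (h03 : N T (Function.Embedding.refl _) 0 3 = 0) (h30 : N T (Function.Embedding.refl _) 3 0 = 0)
    (h13 : N T (Function.Embedding.refl _) 1 3 = 0) (h31 : N T (Function.Embedding.refl _) 3 1 = 0)
    (h23 : N T (Function.Embedding.refl _) 2 3 = 3) (h32 : N T (Function.Embedding.refl _) 3 2 = 1) :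
    Goal T := by
  unfold Goal
  have hd := d
  obtain ⟨x01, x02, x03, x04, x10, x12, x13, x14, x20, x21, x23, x24, x30, x31, x32, x34, x40, x41, x42, x43, hx01, hx02, hx03, hx04, hx10, hx12, hx13, hx14, hx20, hx21, hx23, hx24, hx30, hx31, hx32, hx34, hx40, hx41, hx42, hx43, hw0, hm0, hw1, hm1, hw2, hm2, hw3, hm3, hw4, hm4, a00, a01, a02, a03, a04, a11, a10, a12, a13, a14, a22, a20, a21, a23, a24, a33, a30, a31, a32, a34, a44, a40, a41, a42, a43, wN01, wN02, wN12, wN03, wN13, wN23, wN04, wN14, wN24, wN34, e0, e1, e2, e3, e4, d01, d02, d12, d03, d13, d23, d04, d14, d24, d34⟩ := d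
  obtain rfl : x01 = 0 := hx01.trans h01
  obtain rfl : x10 = 0 := hx10.trans h10
  obtain rfl : x02 = 0 := hx02.trans h02
  obtain rfl : x20 = 0 := hx20.trans h20
  obtain rfl : x12 = 0 := hx12.trans h12
  obtain rfl : x21 = 0 := hx21.trans h21
  obtain rfl : x03 = 0 := hx03.trans h03
  obtain rfl : x30 = 0 := hx30.trans h30
  obtain rfl : x13 = 0 := hx13.trans h13
  obtain rfl : x31 = 0 := hx31.trans h31
  obtain rfl : x23 = 3 := hx23.trans h23
  obtain rfl : x32 = 1 := hx32.trans h32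
  rcases d04 with ⟨rfl, rfl⟩ | ⟨rfl, rfl⟩ | ⟨rfl, rfl⟩ | ⟨rfl, rfl⟩ | ⟨rfl, rfl⟩ | ⟨rfl, rfl⟩
  · -- 04=(0,0)
    exact case20 T hall hd hx01.symm hx10.symm hx02.symm hx20.symm hx12.symm hx21.symm hx03.symm hx30.symm hx13.symm hx31.symm hx23.symm hx32.symm hx04.symm hx40.symm
  · -- 04=(1,1)
    rcases d14 with ⟨rfl, rfl⟩ | ⟨rfl, rfl⟩ | ⟨rfl, rfl⟩ | ⟨rfl, rfl⟩ | ⟨rfl, rfl⟩ | ⟨rfl, rfl⟩
    · -- 14=(0,0)
      rcases d24 with ⟨rfl, rfl⟩ | ⟨rfl, rfl⟩ | ⟨rfl, rfl⟩ | ⟨rfl, rfl⟩ | ⟨rfl, rfl⟩ | ⟨rfl, rfl⟩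
      · -- 24=(0,0)
        rcases d34 with ⟨rfl, rfl⟩ | ⟨rfl, rfl⟩ | ⟨rfl, rfl⟩ | ⟨rfl, rfl⟩ | ⟨rfl, rfl⟩ | ⟨rfl, rfl⟩
        · -- 34=(0,0)
          exfalso; omega
        · -- 34=(1,1)
          exact False.elim (cert_false T ((skipEmb 1).trans (Function.Embedding.refl _)) (by norm_num) (fun _ => hall _) (((((LB_zero T ((skipEmb 1).trans (Function.Embedding.refl _))).upd 1 2 3 (le_of_eq hx23)).upd 2 1 1 (le_of_eq hx32)).upd 2 3 1 (le_of_eq hx34)).upd 3 2 1 (le_of_eq hx43)) ![0,3,2,1] (by decide) (by decide) 1 (by decide))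
        · -- 34=(1,2)
          exact False.elim (cert_false T ((skipEmb 1).trans (Function.Embedding.refl _)) (by norm_num) (fun _ => hall _) (((((LB_zero T ((skipEmb 1).trans (Function.Embedding.refl _))).upd 1 2 3 (le_of_eq hx23)).upd 2 1 1 (le_of_eq hx32)).upd 2 3 1 (le_of_eq hx34)).upd 3 2 2 (le_of_eq hx43)) ![0,1,1,1] (by decide) (by decide) 1 (by decide))
        · -- 34=(2,1)
          exact False.elim (cert_false T ((skipEmb 1).trans (Function.Embedding.refl _)) (by norm_num) (fun _ => hall _) (((((LB_zero T ((skipEmb 1).trans (Function.Embedding.refl _))).upd 1 2 3 (le_of_eq hx23)).upd 2 1 1 (le_of_eq hx32)).upd 2 3 2 (le_of_eq hx34)).upd 3 2 1 (le_of_eq hx43)) ![0,2,2,1] (by decide) (by decide) 1 (by decide))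
        · -- 34=(1,3)
          exact False.elim (cert_false T ((skipEmb 2).trans (Function.Embedding.refl _)) (by norm_num) (fun _ => hall _) (((((LB_zero T ((skipEmb 2).trans (Function.Embedding.refl _))).upd 0 3 1 (le_of_eq hx04)).upd 2 3 1 (le_of_eq hx34)).upd 3 0 1 (le_of_eq hx40)).upd 3 2 3 (le_of_eq hx43)) ![1,0,1,2] (by decide) (by decide) 0 (by decide))
        · -- 34=(3,1)
          exact False.elim (cert_false T ((skipEmb 2).trans (Function.Embedding.refl _)) (by norm_num) (fun _ => hall _) (((((LB_zero T ((skipEmb 2).trans (Function.Embedding.refl _))).upd 0 3 1 (le_of_eq hx04)).upd 2 3 3 (le_of_eq hx34)).upd 3 0 1 (le_of_eq hx40)).upd 3 2 1 (le_of_eq hx43)) ![1,0,3,2] (by decide) (by decide) 0 (by decide))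
      · -- 24=(1,1)
        exact False.elim (cert_false T ((skipEmb 1).trans (Function.Embedding.refl _)) (by norm_num) (fun _ => hall _) (((((LB_zero T ((skipEmb 1).trans (Function.Embedding.refl _))).upd 1 2 3 (le_of_eq hx23)).upd 1 3 1 (le_of_eq hx24)).upd 2 1 1 (le_of_eq hx32)).upd 3 1 1 (le_of_eq hx42)) ![0,2,1,1] (by decide) (by decide) 1 (by decide))
      · -- 24=(1,2)
        exact False.elim (cert_false T ((skipEmb 1).trans (Function.Embedding.refl _)) (by norm_num) (fun _ => hall _) (((((LB_zero T ((skipEmb 1).trans (Function.Embedding.refl _))).upd 1 2 3 (le_of_eq hx23)).upd 1 3 1 (le_of_eq hx24)).upd 2 1 1 (le_of_eq hx32)).upd 3 1 2 (le_of_eq hx42)) ![0,2,1,1] (by decide) (by decide) 1 (by decide))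
      · -- 24=(2,1)
        exact False.elim (cert_false T ((skipEmb 1).trans (Function.Embedding.refl _)) (by norm_num) (fun _ => hall _) (((((LB_zero T ((skipEmb 1).trans (Function.Embedding.refl _))).upd 1 2 3 (le_of_eq hx23)).upd 1 3 2 (le_of_eq hx24)).upd 2 1 1 (le_of_eq hx32)).upd 3 1 1 (le_of_eq hx42)) ![0,2,1,1] (by decide) (by decide) 1 (by decide))
      · -- 24=(1,3)
        exact False.elim (cert_false T ((skipEmb 3).trans (Function.Embedding.refl _)) (by norm_num) (fun _ => hall _) (((((LB_zero T ((skipEmb 3).trans (Function.Embedding.refl _))).upd 0 3 1 (le_of_eq hx04)).upd 2 3 1 (le_of_eq hx24)).upd 3 0 1 (le_of_eq hx40)).upd 3 2 3 (le_of_eq hx42)) ![1,0,1,2] (by decide) (by decide) 0 (by decide))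
      · -- 24=(3,1)
        exact False.elim (cert_false T ((skipEmb 3).trans (Function.Embedding.refl _)) (by norm_num) (fun _ => hall _) (((((LB_zero T ((skipEmb 3).trans (Function.Embedding.refl _))).upd 0 3 1 (le_of_eq hx04)).upd 2 3 3 (le_of_eq hx24)).upd 3 0 1 (le_of_eq hx40)).upd 3 2 1 (le_of_eq hx42)) ![1,0,3,2] (by decide) (by decide) 0 (by decide))
    · -- 14=(1,1)
      rcases d24 with ⟨rfl, rfl⟩ | ⟨rfl, rfl⟩ | ⟨rfl, rfl⟩ | ⟨rfl, rfl⟩ | ⟨rfl, rfl⟩ | ⟨rfl, rfl⟩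
      · -- 24=(0,0)
        rcases d34 with ⟨rfl, rfl⟩ | ⟨rfl, rfl⟩ | ⟨rfl, rfl⟩ | ⟨rfl, rfl⟩ | ⟨rfl, rfl⟩ | ⟨rfl, rfl⟩
        · -- 34=(0,0)
          exfalso; omega
        · -- 34=(1,1)
          exact False.elim (cert_false T ((skipEmb 1).trans (Function.Embedding.refl _)) (by norm_num) (fun _ => hall _) (((((LB_zero T ((skipEmb 1).trans (Function.Embedding.refl _))).upd 1 2 3 (le_of_eq hx23)).upd 2 1 1 (le_of_eq hx32)).upd 2 3 1 (le_of_eq hx34)).upd 3 2 1 (le_of_eq hx43)) ![0,3,2,1] (by decide) (by decide) 1 (by decide))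
        · -- 34=(1,2)
          exact False.elim (cert_false T ((skipEmb 2).trans (Function.Embedding.refl _)) (by norm_num) (fun _ => hall _) (((((((LB_zero T ((skipEmb 2).trans (Function.Embedding.refl _))).upd 0 3 1 (le_of_eq hx04)).upd 1 3 1 (le_of_eq hx14)).upd 2 3 1 (le_of_eq hx34)).upd 3 0 1 (le_of_eq hx40)).upd 3 1 1 (le_of_eq hx41)).upd 3 2 2 (le_of_eq hx43)) ![1,1,1,2] (by decide) (by decide) 0 (by decide))
        · -- 34=(2,1)
          exact False.elim (cert_false T ((skipEmb 2).trans (Function.Embedding.refl _)) (by norm_num) (fun _ => hall _) (((((((LB_zero T ((skipEmb 2).trans (Function.Embedding.refl _))).upd 0 3 1 (le_of_eq hx04)).upd 1 3 1 (le_of_eq hx14)).upd 2 3 2 (le_of_eq hx34)).upd 3 0 1 (le_of_eq hx40)).upd 3 1 1 (le_of_eq hx41)).upd 3 2 1 (le_of_eq hx43)) ![1,1,2,2] (by decide) (by decide) 0 (by decide))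
        · -- 34=(1,3)
          exact False.elim (cert_false T ((skipEmb 2).trans (Function.Embedding.refl _)) (by norm_num) (fun _ => hall _) (((((LB_zero T ((skipEmb 2).trans (Function.Embedding.refl _))).upd 1 3 1 (le_of_eq hx14)).upd 2 3 1 (le_of_eq hx34)).upd 3 1 1 (le_of_eq hx41)).upd 3 2 3 (le_of_eq hx43)) ![0,1,1,2] (by decide) (by decide) 1 (by decide))
        · -- 34=(3,1)
          exact False.elim (cert_false T ((skipEmb 2).trans (Function.Embedding.refl _)) (by norm_num) (fun _ => hall _) (((((((LB_zero T ((skipEmb 2).trans (Function.Embedding.refl _))).upd 0 3 1 (le_of_eq hx04)).upd 1 3 1 (le_of_eq hx14)).upd 2 3 3 (le_of_eq hx34)).upd 3 0 1 (le_of_eq hx40)).upd 3 1 1 (le_of_eq hx41)).upd 3 2 1 (le_of_eq hx43)) ![1,1,2,2] (by decide) (by decide) 0 (by decide))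
      · -- 24=(1,1)
        exact False.elim (cert_false T ((skipEmb 1).trans (Function.Embedding.refl _)) (by norm_num) (fun _ => hall _) (((((LB_zero T ((skipEmb 1).trans (Function.Embedding.refl _))).upd 1 2 3 (le_of_eq hx23)).upd 1 3 1 (le_of_eq hx24)).upd 2 1 1 (le_of_eq hx32)).upd 3 1 1 (le_of_eq hx42)) ![0,2,1,1] (by decide) (by decide) 1 (by decide))
      · -- 24=(1,2)
        exact False.elim (cert_false T ((skipEmb 3).trans (Function.Embedding.refl _)) (by norm_num) (fun _ => hall _) (((((((LB_zero T ((skipEmb 3).trans (Function.Embedding.refl _))).upd 0 3 1 (le_of_eq hx04)).upd 1 3 1 (le_of_eq hx14)).upd 2 3 1 (le_of_eq hx24)).upd 3 0 1 (le_of_eq hx40)).upd 3 1 1 (le_of_eq hx41)).upd 3 2 2 (le_of_eq hx42)) ![1,1,1,2] (by decide) (by decide) 0 (by decide))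
      · -- 24=(2,1)
        exact False.elim (cert_false T ((skipEmb 3).trans (Function.Embedding.refl _)) (by norm_num) (fun _ => hall _) (((((((LB_zero T ((skipEmb 3).trans (Function.Embedding.refl _))).upd 0 3 1 (le_of_eq hx04)).upd 1 3 1 (le_of_eq hx14)).upd 2 3 2 (le_of_eq hx24)).upd 3 0 1 (le_of_eq hx40)).upd 3 1 1 (le_of_eq hx41)).upd 3 2 1 (le_of_eq hx42)) ![1,1,2,2] (by decide) (by decide) 0 (by decide))
      · -- 24=(1,3)
        exact False.elim (cert_false T ((skipEmb 3).trans (Function.Embedding.refl _)) (by norm_num) (fun _ => hall _) (((((LB_zero T ((skipEmb 3).trans (Function.Embedding.refl _))).upd 1 3 1 (le_of_eq hx14)).upd 2 3 1 (le_of_eq hx24)).upd 3 1 1 (le_of_eq hx41)).upd 3 2 3 (le_of_eq hx42)) ![0,1,1,2] (by decide) (by decide) 1 (by decide))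
      · -- 24=(3,1)
        exact False.elim (cert_false T ((skipEmb 3).trans (Function.Embedding.refl _)) (by norm_num) (fun _ => hall _) (((((((LB_zero T ((skipEmb 3).trans (Function.Embedding.refl _))).upd 0 3 1 (le_of_eq hx04)).upd 1 3 1 (le_of_eq hx14)).upd 2 3 3 (le_of_eq hx24)).upd 3 0 1 (le_of_eq hx40)).upd 3 1 1 (le_of_eq hx41)).upd 3 2 1 (le_of_eq hx42)) ![1,1,2,2] (by decide) (by decide) 0 (by decide))
    · -- 14=(1,2)
      rcases d24 with ⟨rfl, rfl⟩ | ⟨rfl, rfl⟩ | ⟨rfl, rfl⟩ | ⟨rfl, rfl⟩ | ⟨rfl, rfl⟩ | ⟨rfl, rfl⟩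
      · -- 24=(0,0)
        rcases d34 with ⟨rfl, rfl⟩ | ⟨rfl, rfl⟩ | ⟨rfl, rfl⟩ | ⟨rfl, rfl⟩ | ⟨rfl, rfl⟩ | ⟨rfl, rfl⟩
        · -- 34=(0,0)
          exfalso; omega
        · -- 34=(1,1)
          exact False.elim (cert_false T ((skipEmb 2).trans (Function.Embedding.refl _)) (by norm_num) (fun _ => hall _) (((((((LB_zero T ((skipEmb 2).trans (Function.Embedding.refl _))).upd 0 3 1 (le_of_eq hx04)).upd 1 3 1 (le_of_eq hx14)).upd 2 3 1 (le_of_eq hx34)).upd 3 0 1 (le_of_eq hx40)).upd 3 1 2 (le_of_eq hx41)).upd 3 2 1 (le_of_eq hx43)) ![1,1,1,2] (by decide) (by decide) 0 (by decide))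
        · -- 34=(1,2)
          exact False.elim (cert_false T ((skipEmb 2).trans (Function.Embedding.refl _)) (by norm_num) (fun _ => hall _) (((((LB_zero T ((skipEmb 2).trans (Function.Embedding.refl _))).upd 1 3 1 (le_of_eq hx14)).upd 2 3 1 (le_of_eq hx34)).upd 3 1 2 (le_of_eq hx41)).upd 3 2 2 (le_of_eq hx43)) ![0,1,1,2] (by decide) (by decide) 1 (by decide))
        · -- 34=(2,1)
          exact False.elim (cert_false T ((skipEmb 2).trans (Function.Embedding.refl _)) (by norm_num) (fun _ => hall _) (((((LB_zero T ((skipEmb 2).trans (Function.Embedding.refl _))).upd 1 3 1 (le_of_eq hx14)).upd 2 3 2 (le_of_eq hx34)).upd 3 1 2 (le_of_eq hx41)).upd 3 2 1 (le_of_eq hx43)) ![0,1,2,2] (by decide) (by decide) 1 (by decide))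
        · -- 34=(1,3)
          exact False.elim (cert_false T ((skipEmb 2).trans (Function.Embedding.refl _)) (by norm_num) (fun _ => hall _) (((((LB_zero T ((skipEmb 2).trans (Function.Embedding.refl _))).upd 1 3 1 (le_of_eq hx14)).upd 2 3 1 (le_of_eq hx34)).upd 3 1 2 (le_of_eq hx41)).upd 3 2 3 (le_of_eq hx43)) ![0,1,1,2] (by decide) (by decide) 1 (by decide))
        · -- 34=(3,1)
          exact False.elim (cert_false T ((skipEmb 2).trans (Function.Embedding.refl _)) (by norm_num) (fun _ => hall _) (((((LB_zero T ((skipEmb 2).trans (Function.Embedding.refl _))).upd 1 3 1 (le_of_eq hx14)).upd 2 3 3 (le_of_eq hx34)).upd 3 1 2 (le_of_eq hx41)).upd 3 2 1 (le_of_eq hx43)) ![0,1,2,2] (by decide) (by decide) 1 (by decide))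
      · -- 24=(1,1)
        exact False.elim (cert_false T ((skipEmb 3).trans (Function.Embedding.refl _)) (by norm_num) (fun _ => hall _) (((((((LB_zero T ((skipEmb 3).trans (Function.Embedding.refl _))).upd 0 3 1 (le_of_eq hx04)).upd 1 3 1 (le_of_eq hx14)).upd 2 3 1 (le_of_eq hx24)).upd 3 0 1 (le_of_eq hx40)).upd 3 1 2 (le_of_eq hx41)).upd 3 2 1 (le_of_eq hx42)) ![1,1,1,2] (by decide) (by decide) 0 (by decide))
      · -- 24=(1,2)
        exact False.elim (cert_false T ((skipEmb 3).trans (Function.Embedding.refl _)) (by norm_num) (fun _ => hall _) (((((LB_zero T ((skipEmb 3).trans (Function.Embedding.refl _))).upd 1 3 1 (le_of_eq hx14)).upd 2 3 1 (le_of_eq hx24)).upd 3 1 2 (le_of_eq hx41)).upd 3 2 2 (le_of_eq hx42)) ![0,1,1,2] (by decide) (by decide) 1 (by decide))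
      · -- 24=(2,1)
        exact False.elim (cert_false T ((skipEmb 3).trans (Function.Embedding.refl _)) (by norm_num) (fun _ => hall _) (((((LB_zero T ((skipEmb 3).trans (Function.Embedding.refl _))).upd 1 3 1 (le_of_eq hx14)).upd 2 3 2 (le_of_eq hx24)).upd 3 1 2 (le_of_eq hx41)).upd 3 2 1 (le_of_eq hx42)) ![0,1,2,2] (by decide) (by decide) 1 (by decide))
      · -- 24=(1,3)
        exact False.elim (cert_false T ((skipEmb 3).trans (Function.Embedding.refl _)) (by norm_num) (fun _ => hall _) (((((LB_zero T ((skipEmb 3).trans (Function.Embedding.refl _))).upd 1 3 1 (le_of_eq hx14)).upd 2 3 1 (le_of_eq hx24)).upd 3 1 2 (le_of_eq hx41)).upd 3 2 3 (le_of_eq hx42)) ![0,1,1,2] (by decide) (by decide) 1 (by decide))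
      · -- 24=(3,1)
        exact False.elim (cert_false T ((skipEmb 3).trans (Function.Embedding.refl _)) (by norm_num) (fun _ => hall _) (((((LB_zero T ((skipEmb 3).trans (Function.Embedding.refl _))).upd 1 3 1 (le_of_eq hx14)).upd 2 3 3 (le_of_eq hx24)).upd 3 1 2 (le_of_eq hx41)).upd 3 2 1 (le_of_eq hx42)) ![0,1,2,2] (by decide) (by decide) 1 (by decide))
    · -- 14=(2,1)
      rcases d24 with ⟨rfl, rfl⟩ | ⟨rfl, rfl⟩ | ⟨rfl, rfl⟩ | ⟨rfl, rfl⟩ | ⟨rfl, rfl⟩ | ⟨rfl, rfl⟩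
      · -- 24=(0,0)
        rcases d34 with ⟨rfl, rfl⟩ | ⟨rfl, rfl⟩ | ⟨rfl, rfl⟩ | ⟨rfl, rfl⟩ | ⟨rfl, rfl⟩ | ⟨rfl, rfl⟩
        · -- 34=(0,0)
          exfalso; omega
        · -- 34=(1,1)
          exact False.elim (cert_false T ((skipEmb 2).trans (Function.Embedding.refl _)) (by norm_num) (fun _ => hall _) (((((((LB_zero T ((skipEmb 2).trans (Function.Embedding.refl _))).upd 0 3 1 (le_of_eq hx04)).upd 1 3 2 (le_of_eq hx14)).upd 2 3 1 (le_of_eq hx34)).upd 3 0 1 (le_of_eq hx40)).upd 3 1 1 (le_of_eq hx41)).upd 3 2 1 (le_of_eq hx43)) ![1,2,1,2] (by decide) (by decide) 0 (by decide))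
        · -- 34=(1,2)
          exact False.elim (cert_false T ((skipEmb 2).trans (Function.Embedding.refl _)) (by norm_num) (fun _ => hall _) (((((LB_zero T ((skipEmb 2).trans (Function.Embedding.refl _))).upd 1 3 2 (le_of_eq hx14)).upd 2 3 1 (le_of_eq hx34)).upd 3 1 1 (le_of_eq hx41)).upd 3 2 2 (le_of_eq hx43)) ![0,2,1,2] (by decide) (by decide) 1 (by decide))
        · -- 34=(2,1)
          exact False.elim (cert_false T ((skipEmb 2).trans (Function.Embedding.refl _)) (by norm_num) (fun _ => hall _) (((((LB_zero T ((skipEmb 2).trans (Function.Embedding.refl _))).upd 1 3 2 (le_of_eq hx14)).upd 2 3 2 (le_of_eq hx34)).upd 3 1 1 (le_of_eq hx41)).upd 3 2 1 (le_of_eq hx43)) ![0,1,1,1] (by decide) (by decide) 1 (by decide))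
        · -- 34=(1,3)
          exact False.elim (cert_false T ((skipEmb 2).trans (Function.Embedding.refl _)) (by norm_num) (fun _ => hall _) (((((LB_zero T ((skipEmb 2).trans (Function.Embedding.refl _))).upd 1 3 2 (le_of_eq hx14)).upd 2 3 1 (le_of_eq hx34)).upd 3 1 1 (le_of_eq hx41)).upd 3 2 3 (le_of_eq hx43)) ![0,1,1,2] (by decide) (by decide) 1 (by decide))
        · -- 34=(3,1)
          exact False.elim (cert_false T ((skipEmb 2).trans (Function.Embedding.refl _)) (by norm_num) (fun _ => hall _) (((((LB_zero T ((skipEmb 2).trans (Function.Embedding.refl _))).upd 1 3 2 (le_of_eq hx14)).upd 2 3 3 (le_of_eq hx34)).upd 3 1 1 (le_of_eq hx41)).upd 3 2 1 (le_of_eq hx43)) ![0,1,1,1] (by decide) (by decide) 1 (by decide))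
      · -- 24=(1,1)
        exact False.elim (cert_false T ((skipEmb 3).trans (Function.Embedding.refl _)) (by norm_num) (fun _ => hall _) (((((((LB_zero T ((skipEmb 3).trans (Function.Embedding.refl _))).upd 0 3 1 (le_of_eq hx04)).upd 1 3 2 (le_of_eq hx14)).upd 2 3 1 (le_of_eq hx24)).upd 3 0 1 (le_of_eq hx40)).upd 3 1 1 (le_of_eq hx41)).upd 3 2 1 (le_of_eq hx42)) ![1,2,1,2] (by decide) (by decide) 0 (by decide))
      · -- 24=(1,2)
        exact False.elim (cert_false T ((skipEmb 3).trans (Function.Embedding.refl _)) (by norm_num) (fun _ => hall _) (((((LB_zero T ((skipEmb 3).trans (Function.Embedding.refl _))).upd 1 3 2 (le_of_eq hx14)).upd 2 3 1 (le_of_eq hx24)).upd 3 1 1 (le_of_eq hx41)).upd 3 2 2 (le_of_eq hx42)) ![0,2,1,2] (by decide) (by decide) 1 (by decide))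
      · -- 24=(2,1)
        exact False.elim (cert_false T ((skipEmb 3).trans (Function.Embedding.refl _)) (by norm_num) (fun _ => hall _) (((((LB_zero T ((skipEmb 3).trans (Function.Embedding.refl _))).upd 1 3 2 (le_of_eq hx14)).upd 2 3 2 (le_of_eq hx24)).upd 3 1 1 (le_of_eq hx41)).upd 3 2 1 (le_of_eq hx42)) ![0,1,1,1] (by decide) (by decide) 1 (by decide))
      · -- 24=(1,3)
        exact False.elim (cert_false T ((skipEmb 3).trans (Function.Embedding.refl _)) (by norm_num) (fun _ => hall _) (((((LB_zero T ((skipEmb 3).trans (Function.Embedding.refl _))).upd 1 3 2 (le_of_eq hx14)).upd 2 3 1 (le_of_eq hx24)).upd 3 1 1 (le_of_eq hx41)).upd 3 2 3 (le_of_eq hx42)) ![0,1,1,2] (by decide) (by decide) 1 (by decide))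
      · -- 24=(3,1)
        exact False.elim (cert_false T ((skipEmb 3).trans (Function.Embedding.refl _)) (by norm_num) (fun _ => hall _) (((((LB_zero T ((skipEmb 3).trans (Function.Embedding.refl _))).upd 1 3 2 (le_of_eq hx14)).upd 2 3 3 (le_of_eq hx24)).upd 3 1 1 (le_of_eq hx41)).upd 3 2 1 (le_of_eq hx42)) ![0,1,1,1] (by decide) (by decide) 1 (by decide))
    · -- 14=(1,3)
      exact False.elim (cert_false T ((skipEmb 3).trans (Function.Embedding.refl _)) (by norm_num) (fun _ => hall _) (((((LB_zero T ((skipEmb 3).trans (Function.Embedding.refl _))).upd 0 3 1 (le_of_eq hx04)).upd 1 3 1 (le_of_eq hx14)).upd 3 0 1 (le_of_eq hx40)).upd 3 1 3 (le_of_eq hx41)) ![1,1,0,2] (by decide) (by decide) 0 (by decide))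
    · -- 14=(3,1)
      exact False.elim (cert_false T ((skipEmb 3).trans (Function.Embedding.refl _)) (by norm_num) (fun _ => hall _) (((((LB_zero T ((skipEmb 3).trans (Function.Embedding.refl _))).upd 0 3 1 (le_of_eq hx04)).upd 1 3 3 (le_of_eq hx14)).upd 3 0 1 (le_of_eq hx40)).upd 3 1 1 (le_of_eq hx41)) ![1,3,0,2] (by decide) (by decide) 0 (by decide))
  · -- 04=(1,2)
    rcases d14 with ⟨rfl, rfl⟩ | ⟨rfl, rfl⟩ | ⟨rfl, rfl⟩ | ⟨rfl, rfl⟩ | ⟨rfl, rfl⟩ | ⟨rfl, rfl⟩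
    · -- 14=(0,0)
      rcases d24 with ⟨rfl, rfl⟩ | ⟨rfl, rfl⟩ | ⟨rfl, rfl⟩ | ⟨rfl, rfl⟩ | ⟨rfl, rfl⟩ | ⟨rfl, rfl⟩
      · -- 24=(0,0)
        rcases d34 with ⟨rfl, rfl⟩ | ⟨rfl, rfl⟩ | ⟨rfl, rfl⟩ | ⟨rfl, rfl⟩ | ⟨rfl, rfl⟩ | ⟨rfl, rfl⟩
        · -- 34=(0,0)
          exfalso; omega
        · -- 34=(1,1)
          exact False.elim (cert_false T ((skipEmb 1).trans (Function.Embedding.refl _)) (by norm_num) (fun _ => hall _) (((((((LB_zero T ((skipEmb 1).trans (Function.Embedding.refl _))).upd 0 3 1 (le_of_eq hx04)).upd 1 2 3 (le_of_eq hx23)).upd 2 1 1 (le_of_eq hx32)).upd 2 3 1 (le_of_eq hx34)).upd 3 0 2 (le_of_eq hx40)).upd 3 2 1 (le_of_eq hx43)) ![1,2,2,2] (by decide) (by decide) 0 (by decide))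
        · -- 34=(1,2)
          exact False.elim (cert_false T ((skipEmb 2).trans (Function.Embedding.refl _)) (by norm_num) (fun _ => hall _) (((((LB_zero T ((skipEmb 2).trans (Function.Embedding.refl _))).upd 0 3 1 (le_of_eq hx04)).upd 2 3 1 (le_of_eq hx34)).upd 3 0 2 (le_of_eq hx40)).upd 3 2 2 (le_of_eq hx43)) ![1,0,1,2] (by decide) (by decide) 0 (by decide))
        · -- 34=(2,1)
          exact False.elim (cert_false T ((skipEmb 2).trans (Function.Embedding.refl _)) (by norm_num) (fun _ => hall _) (((((LB_zero T ((skipEmb 2).trans (Function.Embedding.refl _))).upd 0 3 1 (le_of_eq hx04)).upd 2 3 2 (le_of_eq hx34)).upd 3 0 2 (le_of_eq hx40)).upd 3 2 1 (le_of_eq hx43)) ![1,0,2,2] (by decide) (by decide) 0 (by decide))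
        · -- 34=(1,3)
          exact False.elim (cert_false T ((skipEmb 2).trans (Function.Embedding.refl _)) (by norm_num) (fun _ => hall _) (((((LB_zero T ((skipEmb 2).trans (Function.Embedding.refl _))).upd 0 3 1 (le_of_eq hx04)).upd 2 3 1 (le_of_eq hx34)).upd 3 0 2 (le_of_eq hx40)).upd 3 2 3 (le_of_eq hx43)) ![1,0,1,2] (by decide) (by decide) 0 (by decide))
        · -- 34=(3,1)
          exact False.elim (cert_false T ((skipEmb 2).trans (Function.Embedding.refl _)) (by norm_num) (fun _ => hall _) (((((LB_zero T ((skipEmb 2).trans (Function.Embedding.refl _))).upd 0 3 1 (le_of_eq hx04)).upd 2 3 3 (le_of_eq hx34)).upd 3 0 2 (le_of_eq hx40)).upd 3 2 1 (le_of_eq hx43)) ![1,0,2,2] (by decide) (by decide) 0 (by decide))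
      · -- 24=(1,1)
        exact False.elim (cert_false T ((skipEmb 1).trans (Function.Embedding.refl _)) (by norm_num) (fun _ => hall _) (((((LB_zero T ((skipEmb 1).trans (Function.Embedding.refl _))).upd 1 2 3 (le_of_eq hx23)).upd 1 3 1 (le_of_eq hx24)).upd 2 1 1 (le_of_eq hx32)).upd 3 1 1 (le_of_eq hx42)) ![0,2,1,1] (by decide) (by decide) 1 (by decide))
      · -- 24=(1,2)
        exact False.elim (cert_false T ((skipEmb 3).trans (Function.Embedding.refl _)) (by norm_num) (fun _ => hall _) (((((LB_zero T ((skipEmb 3).trans (Function.Embedding.refl _))).upd 0 3 1 (le_of_eq hx04)).upd 2 3 1 (le_of_eq hx24)).upd 3 0 2 (le_of_eq hx40)).upd 3 2 2 (le_of_eq hx42)) ![1,0,1,2] (by decide) (by decide) 0 (by decide))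
      · -- 24=(2,1)
        exact False.elim (cert_false T ((skipEmb 3).trans (Function.Embedding.refl _)) (by norm_num) (fun _ => hall _) (((((LB_zero T ((skipEmb 3).trans (Function.Embedding.refl _))).upd 0 3 1 (le_of_eq hx04)).upd 2 3 2 (le_of_eq hx24)).upd 3 0 2 (le_of_eq hx40)).upd 3 2 1 (le_of_eq hx42)) ![1,0,2,2] (by decide) (by decide) 0 (by decide))
      · -- 24=(1,3)
        exact False.elim (cert_false T ((skipEmb 3).trans (Function.Embedding.refl _)) (by norm_num) (fun _ => hall _) (((((LB_zero T ((skipEmb 3).trans (Function.Embedding.refl _))).upd 0 3 1 (le_of_eq hx04)).upd 2 3 1 (le_of_eq hx24)).upd 3 0 2 (le_of_eq hx40)).upd 3 2 3 (le_of_eq hx42)) ![1,0,1,2] (by decide) (by decide) 0 (by decide))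
      · -- 24=(3,1)
        exact False.elim (cert_false T ((skipEmb 3).trans (Function.Embedding.refl _)) (by norm_num) (fun _ => hall _) (((((LB_zero T ((skipEmb 3).trans (Function.Embedding.refl _))).upd 0 3 1 (le_of_eq hx04)).upd 2 3 3 (le_of_eq hx24)).upd 3 0 2 (le_of_eq hx40)).upd 3 2 1 (le_of_eq hx42)) ![1,0,2,2] (by decide) (by decide) 0 (by decide))
    · -- 14=(1,1)
      rcases d24 with ⟨rfl, rfl⟩ | ⟨rfl, rfl⟩ | ⟨rfl, rfl⟩ | ⟨rfl, rfl⟩ | ⟨rfl, rfl⟩ | ⟨rfl, rfl⟩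
      · -- 24=(0,0)
        rcases d34 with ⟨rfl, rfl⟩ | ⟨rfl, rfl⟩ | ⟨rfl, rfl⟩ | ⟨rfl, rfl⟩ | ⟨rfl, rfl⟩ | ⟨rfl, rfl⟩
        · -- 34=(0,0)
          exfalso; omega
        · -- 34=(1,1)
          exact False.elim (cert_false T ((skipEmb 2).trans (Function.Embedding.refl _)) (by norm_num) (fun _ => hall _) (((((((LB_zero T ((skipEmb 2).trans (Function.Embedding.refl _))).upd 0 3 1 (le_of_eq hx04)).upd 1 3 1 (le_of_eq hx14)).upd 2 3 1 (le_of_eq hx34)).upd 3 0 2 (le_of_eq hx40)).upd 3 1 1 (le_of_eq hx41)).upd 3 2 1 (le_of_eq hx43)) ![1,1,1,2] (by decide) (by decide) 0 (by decide))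
        · -- 34=(1,2)
          exact False.elim (cert_false T ((skipEmb 2).trans (Function.Embedding.refl _)) (by norm_num) (fun _ => hall _) (((((LB_zero T ((skipEmb 2).trans (Function.Embedding.refl _))).upd 0 3 1 (le_of_eq hx04)).upd 2 3 1 (le_of_eq hx34)).upd 3 0 2 (le_of_eq hx40)).upd 3 2 2 (le_of_eq hx43)) ![1,0,1,2] (by decide) (by decide) 0 (by decide))
        · -- 34=(2,1)
          exact False.elim (cert_false T ((skipEmb 2).trans (Function.Embedding.refl _)) (by norm_num) (fun _ => hall _) (((((LB_zero T ((skipEmb 2).trans (Function.Embedding.refl _))).upd 0 3 1 (le_of_eq hx04)).upd 2 3 2 (le_of_eq hx34)).upd 3 0 2 (le_of_eq hx40)).upd 3 2 1 (le_of_eq hx43)) ![1,0,2,2] (by decide) (by decide) 0 (by decide))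
        · -- 34=(1,3)
          exact False.elim (cert_false T ((skipEmb 2).trans (Function.Embedding.refl _)) (by norm_num) (fun _ => hall _) (((((LB_zero T ((skipEmb 2).trans (Function.Embedding.refl _))).upd 1 3 1 (le_of_eq hx14)).upd 2 3 1 (le_of_eq hx34)).upd 3 1 1 (le_of_eq hx41)).upd 3 2 3 (le_of_eq hx43)) ![0,1,1,2] (by decide) (by decide) 1 (by decide))
        · -- 34=(3,1)
          exact False.elim (cert_false T ((skipEmb 2).trans (Function.Embedding.refl _)) (by norm_num) (fun _ => hall _) (((((LB_zero T ((skipEmb 2).trans (Function.Embedding.refl _))).upd 0 3 1 (le_of_eq hx04)).upd 2 3 3 (le_of_eq hx34)).upd 3 0 2 (le_of_eq hx40)).upd 3 2 1 (le_of_eq hx43)) ![1,0,2,2] (by decide) (by decide) 0 (by decide))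
      · -- 24=(1,1)
        exact False.elim (cert_false T ((skipEmb 3).trans (Function.Embedding.refl _)) (by norm_num) (fun _ => hall _) (((((((LB_zero T ((skipEmb 3).trans (Function.Embedding.refl _))).upd 0 3 1 (le_of_eq hx04)).upd 1 3 1 (le_of_eq hx14)).upd 2 3 1 (le_of_eq hx24)).upd 3 0 2 (le_of_eq hx40)).upd 3 1 1 (le_of_eq hx41)).upd 3 2 1 (le_of_eq hx42)) ![1,1,1,2] (by decide) (by decide) 0 (by decide))
      · -- 24=(1,2)
        exact False.elim (cert_false T ((skipEmb 3).trans (Function.Embedding.refl _)) (by norm_num) (fun _ => hall _) (((((LB_zero T ((skipEmb 3).trans (Function.Embedding.refl _))).upd 0 3 1 (le_of_eq hx04)).upd 2 3 1 (le_of_eq hx24)).upd 3 0 2 (le_of_eq hx40)).upd 3 2 2 (le_of_eq hx42)) ![1,0,1,2] (by decide) (by decide) 0 (by decide))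
      · -- 24=(2,1)
        exact False.elim (cert_false T ((skipEmb 3).trans (Function.Embedding.refl _)) (by norm_num) (fun _ => hall _) (((((LB_zero T ((skipEmb 3).trans (Function.Embedding.refl _))).upd 0 3 1 (le_of_eq hx04)).upd 2 3 2 (le_of_eq hx24)).upd 3 0 2 (le_of_eq hx40)).upd 3 2 1 (le_of_eq hx42)) ![1,0,2,2] (by decide) (by decide) 0 (by decide))
      · -- 24=(1,3)
        exact False.elim (cert_false T ((skipEmb 3).trans (Function.Embedding.refl _)) (by norm_num) (fun _ => hall _) (((((LB_zero T ((skipEmb 3).trans (Function.Embedding.refl _))).upd 1 3 1 (le_of_eq hx14)).upd 2 3 1 (le_of_eq hx24)).upd 3 1 1 (le_of_eq hx41)).upd 3 2 3 (le_of_eq hx42)) ![0,1,1,2] (by decide) (by decide) 1 (by decide))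
      · -- 24=(3,1)
        exact False.elim (cert_false T ((skipEmb 3).trans (Function.Embedding.refl _)) (by norm_num) (fun _ => hall _) (((((LB_zero T ((skipEmb 3).trans (Function.Embedding.refl _))).upd 0 3 1 (le_of_eq hx04)).upd 2 3 3 (le_of_eq hx24)).upd 3 0 2 (le_of_eq hx40)).upd 3 2 1 (le_of_eq hx42)) ![1,0,2,2] (by decide) (by decide) 0 (by decide))
    · -- 14=(1,2)
      exact False.elim (cert_false T ((skipEmb 3).trans (Function.Embedding.refl _)) (by norm_num) (fun _ => hall _) (((((LB_zero T ((skipEmb 3).trans (Function.Embedding.refl _))).upd 0 3 1 (le_of_eq hx04)).upd 1 3 1 (le_of_eq hx14)).upd 3 0 2 (le_of_eq hx40)).upd 3 1 2 (le_of_eq hx41)) ![1,1,0,2] (by decide) (by decide) 0 (by decide))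
    · -- 14=(2,1)
      exact False.elim (cert_false T ((skipEmb 3).trans (Function.Embedding.refl _)) (by norm_num) (fun _ => hall _) (((((LB_zero T ((skipEmb 3).trans (Function.Embedding.refl _))).upd 0 3 1 (le_of_eq hx04)).upd 1 3 2 (le_of_eq hx14)).upd 3 0 2 (le_of_eq hx40)).upd 3 1 1 (le_of_eq hx41)) ![1,2,0,2] (by decide) (by decide) 0 (by decide))
    · -- 14=(1,3)
      exact False.elim (cert_false T ((skipEmb 3).trans (Function.Embedding.refl _)) (by norm_num) (fun _ => hall _) (((((LB_zero T ((skipEmb 3).trans (Function.Embedding.refl _))).upd 0 3 1 (le_of_eq hx04)).upd 1 3 1 (le_of_eq hx14)).upd 3 0 2 (le_of_eq hx40)).upd 3 1 3 (le_of_eq hx41)) ![1,1,0,2] (by decide) (by decide) 0 (by decide))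
    · -- 14=(3,1)
      exact False.elim (cert_false T ((skipEmb 3).trans (Function.Embedding.refl _)) (by norm_num) (fun _ => hall _) (((((LB_zero T ((skipEmb 3).trans (Function.Embedding.refl _))).upd 0 3 1 (le_of_eq hx04)).upd 1 3 3 (le_of_eq hx14)).upd 3 0 2 (le_of_eq hx40)).upd 3 1 1 (le_of_eq hx41)) ![1,2,0,2] (by decide) (by decide) 0 (by decide))
  · -- 04=(2,1)
    rcases d14 with ⟨rfl, rfl⟩ | ⟨rfl, rfl⟩ | ⟨rfl, rfl⟩ | ⟨rfl, rfl⟩ | ⟨rfl, rfl⟩ | ⟨rfl, rfl⟩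
    · -- 14=(0,0)
      rcases d24 with ⟨rfl, rfl⟩ | ⟨rfl, rfl⟩ | ⟨rfl, rfl⟩ | ⟨rfl, rfl⟩ | ⟨rfl, rfl⟩ | ⟨rfl, rfl⟩
      · -- 24=(0,0)
        rcases d34 with ⟨rfl, rfl⟩ | ⟨rfl, rfl⟩ | ⟨rfl, rfl⟩ | ⟨rfl, rfl⟩ | ⟨rfl, rfl⟩ | ⟨rfl, rfl⟩
        · -- 34=(0,0)
          exfalso; omega
        · -- 34=(1,1)
          exact False.elim (cert_false T ((skipEmb 1).trans (Function.Embedding.refl _)) (by norm_num) (fun _ => hall _) (((((((LB_zero T ((skipEmb 1).trans (Function.Embedding.refl _))).upd 0 3 2 (le_of_eq hx04)).upd 1 2 3 (le_of_eq hx23)).upd 2 1 1 (le_of_eq hx32)).upd 2 3 1 (le_of_eq hx34)).upd 3 0 1 (le_of_eq hx40)).upd 3 2 1 (le_of_eq hx43)) ![1,1,1,1] (by decide) (by decide) 0 (by decide))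
        · -- 34=(1,2)
          exact False.elim (cert_false T ((skipEmb 2).trans (Function.Embedding.refl _)) (by norm_num) (fun _ => hall _) (((((LB_zero T ((skipEmb 2).trans (Function.Embedding.refl _))).upd 0 3 2 (le_of_eq hx04)).upd 2 3 1 (le_of_eq hx34)).upd 3 0 1 (le_of_eq hx40)).upd 3 2 2 (le_of_eq hx43)) ![2,0,1,2] (by decide) (by decide) 0 (by decide))
        · -- 34=(2,1)
          exact False.elim (cert_false T ((skipEmb 2).trans (Function.Embedding.refl _)) (by norm_num) (fun _ => hall _) (((((LB_zero T ((skipEmb 2).trans (Function.Embedding.refl _))).upd 0 3 2 (le_of_eq hx04)).upd 2 3 2 (le_of_eq hx34)).upd 3 0 1 (le_of_eq hx40)).upd 3 2 1 (le_of_eq hx43)) ![1,0,1,1] (by decide) (by decide) 0 (by decide))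
        · -- 34=(1,3)
          exact False.elim (cert_false T ((skipEmb 2).trans (Function.Embedding.refl _)) (by norm_num) (fun _ => hall _) (((((LB_zero T ((skipEmb 2).trans (Function.Embedding.refl _))).upd 0 3 2 (le_of_eq hx04)).upd 2 3 1 (le_of_eq hx34)).upd 3 0 1 (le_of_eq hx40)).upd 3 2 3 (le_of_eq hx43)) ![1,0,1,2] (by decide) (by decide) 0 (by decide))
        · -- 34=(3,1)
          exact False.elim (cert_false T ((skipEmb 2).trans (Function.Embedding.refl _)) (by norm_num) (fun _ => hall _) (((((LB_zero T ((skipEmb 2).trans (Function.Embedding.refl _))).upd 0 3 2 (le_of_eq hx04)).upd 2 3 3 (le_of_eq hx34)).upd 3 0 1 (le_of_eq hx40)).upd 3 2 1 (le_of_eq hx43)) ![1,0,1,1] (by decide) (by decide) 0 (by decide))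
      · -- 24=(1,1)
        exact False.elim (cert_false T ((skipEmb 1).trans (Function.Embedding.refl _)) (by norm_num) (fun _ => hall _) (((((LB_zero T ((skipEmb 1).trans (Function.Embedding.refl _))).upd 1 2 3 (le_of_eq hx23)).upd 1 3 1 (le_of_eq hx24)).upd 2 1 1 (le_of_eq hx32)).upd 3 1 1 (le_of_eq hx42)) ![0,2,1,1] (by decide) (by decide) 1 (by decide))
      · -- 24=(1,2)
        exact False.elim (cert_false T ((skipEmb 3).trans (Function.Embedding.refl _)) (by norm_num) (fun _ => hall _) (((((LB_zero T ((skipEmb 3).trans (Function.Embedding.refl _))).upd 0 3 2 (le_of_eq hx04)).upd 2 3 1 (le_of_eq hx24)).upd 3 0 1 (le_of_eq hx40)).upd 3 2 2 (le_of_eq hx42)) ![2,0,1,2] (by decide) (by decide) 0 (by decide))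
      · -- 24=(2,1)
        exact False.elim (cert_false T ((skipEmb 3).trans (Function.Embedding.refl _)) (by norm_num) (fun _ => hall _) (((((LB_zero T ((skipEmb 3).trans (Function.Embedding.refl _))).upd 0 3 2 (le_of_eq hx04)).upd 2 3 2 (le_of_eq hx24)).upd 3 0 1 (le_of_eq hx40)).upd 3 2 1 (le_of_eq hx42)) ![1,0,1,1] (by decide) (by decide) 0 (by decide))
      · -- 24=(1,3)
        exact False.elim (cert_false T ((skipEmb 3).trans (Function.Embedding.refl _)) (by norm_num) (fun _ => hall _) (((((LB_zero T ((skipEmb 3).trans (Function.Embedding.refl _))).upd 0 3 2 (le_of_eq hx04)).upd 2 3 1 (le_of_eq hx24)).upd 3 0 1 (le_of_eq hx40)).upd 3 2 3 (le_of_eq hx42)) ![1,0,1,2] (by decide) (by decide) 0 (by decide))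
      · -- 24=(3,1)
        exact False.elim (cert_false T ((skipEmb 3).trans (Function.Embedding.refl _)) (by norm_num) (fun _ => hall _) (((((LB_zero T ((skipEmb 3).trans (Function.Embedding.refl _))).upd 0 3 2 (le_of_eq hx04)).upd 2 3 3 (le_of_eq hx24)).upd 3 0 1 (le_of_eq hx40)).upd 3 2 1 (le_of_eq hx42)) ![1,0,1,1] (by decide) (by decide) 0 (by decide))
    · -- 14=(1,1)
      rcases d24 with ⟨rfl, rfl⟩ | ⟨rfl, rfl⟩ | ⟨rfl, rfl⟩ | ⟨rfl, rfl⟩ | ⟨rfl, rfl⟩ | ⟨rfl, rfl⟩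
      · -- 24=(0,0)
        rcases d34 with ⟨rfl, rfl⟩ | ⟨rfl, rfl⟩ | ⟨rfl, rfl⟩ | ⟨rfl, rfl⟩ | ⟨rfl, rfl⟩ | ⟨rfl, rfl⟩
        · -- 34=(0,0)
          exfalso; omega
        · -- 34=(1,1)
          exact False.elim (cert_false T ((skipEmb 2).trans (Function.Embedding.refl _)) (by norm_num) (fun _ => hall _) (((((((LB_zero T ((skipEmb 2).trans (Function.Embedding.refl _))).upd 0 3 2 (le_of_eq hx04)).upd 1 3 1 (le_of_eq hx14)).upd 2 3 1 (le_of_eq hx34)).upd 3 0 1 (le_of_eq hx40)).upd 3 1 1 (le_of_eq hx41)).upd 3 2 1 (le_of_eq hx43)) ![2,1,1,2] (by decide) (by decide) 0 (by decide))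
        · -- 34=(1,2)
          exact False.elim (cert_false T ((skipEmb 2).trans (Function.Embedding.refl _)) (by norm_num) (fun _ => hall _) (((((((LB_zero T ((skipEmb 2).trans (Function.Embedding.refl _))).upd 0 3 2 (le_of_eq hx04)).upd 1 3 1 (le_of_eq hx14)).upd 2 3 1 (le_of_eq hx34)).upd 3 0 1 (le_of_eq hx40)).upd 3 1 1 (le_of_eq hx41)).upd 3 2 2 (le_of_eq hx43)) ![1,1,1,2] (by decide) (by decide) 0 (by decide))
        · -- 34=(2,1)
          exact False.elim (cert_false T ((skipEmb 2).trans (Function.Embedding.refl _)) (by norm_num) (fun _ => hall _) (((((LB_zero T ((skipEmb 2).trans (Function.Embedding.refl _))).upd 0 3 2 (le_of_eq hx04)).upd 2 3 2 (le_of_eq hx34)).upd 3 0 1 (le_of_eq hx40)).upd 3 2 1 (le_of_eq hx43)) ![1,0,1,1] (by decide) (by decide) 0 (by decide))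
        · -- 34=(1,3)
          exact False.elim (cert_false T ((skipEmb 2).trans (Function.Embedding.refl _)) (by norm_num) (fun _ => hall _) (((((LB_zero T ((skipEmb 2).trans (Function.Embedding.refl _))).upd 1 3 1 (le_of_eq hx14)).upd 2 3 1 (le_of_eq hx34)).upd 3 1 1 (le_of_eq hx41)).upd 3 2 3 (le_of_eq hx43)) ![0,1,1,2] (by decide) (by decide) 1 (by decide))
        · -- 34=(3,1)
          exact False.elim (cert_false T ((skipEmb 2).trans (Function.Embedding.refl _)) (by norm_num) (fun _ => hall _) (((((LB_zero T ((skipEmb 2).trans (Function.Embedding.refl _))).upd 0 3 2 (le_of_eq hx04)).upd 2 3 3 (le_of_eq hx34)).upd 3 0 1 (le_of_eq hx40)).upd 3 2 1 (le_of_eq hx43)) ![1,0,1,1] (by decide) (by decide) 0 (by decide))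
      · -- 24=(1,1)
        exact False.elim (cert_false T ((skipEmb 3).trans (Function.Embedding.refl _)) (by norm_num) (fun _ => hall _) (((((((LB_zero T ((skipEmb 3).trans (Function.Embedding.refl _))).upd 0 3 2 (le_of_eq hx04)).upd 1 3 1 (le_of_eq hx14)).upd 2 3 1 (le_of_eq hx24)).upd 3 0 1 (le_of_eq hx40)).upd 3 1 1 (le_of_eq hx41)).upd 3 2 1 (le_of_eq hx42)) ![2,1,1,2] (by decide) (by decide) 0 (by decide))
      · -- 24=(1,2)
        exact False.elim (cert_false T ((skipEmb 3).trans (Function.Embedding.refl _)) (by norm_num) (fun _ => hall _) (((((((LB_zero T ((skipEmb 3).trans (Function.Embedding.refl _))).upd 0 3 2 (le_of_eq hx04)).upd 1 3 1 (le_of_eq hx14)).upd 2 3 1 (le_of_eq hx24)).upd 3 0 1 (le_of_eq hx40)).upd 3 1 1 (le_of_eq hx41)).upd 3 2 2 (le_of_eq hx42)) ![1,1,1,2] (by decide) (by decide) 0 (by decide))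
      · -- 24=(2,1)
        exact False.elim (cert_false T ((skipEmb 3).trans (Function.Embedding.refl _)) (by norm_num) (fun _ => hall _) (((((LB_zero T ((skipEmb 3).trans (Function.Embedding.refl _))).upd 0 3 2 (le_of_eq hx04)).upd 2 3 2 (le_of_eq hx24)).upd 3 0 1 (le_of_eq hx40)).upd 3 2 1 (le_of_eq hx42)) ![1,0,1,1] (by decide) (by decide) 0 (by decide))
      · -- 24=(1,3)
        exact False.elim (cert_false T ((skipEmb 3).trans (Function.Embedding.refl _)) (by norm_num) (fun _ => hall _) (((((LB_zero T ((skipEmb 3).trans (Function.Embedding.refl _))).upd 1 3 1 (le_of_eq hx14)).upd 2 3 1 (le_of_eq hx24)).upd 3 1 1 (le_of_eq hx41)).upd 3 2 3 (le_of_eq hx42)) ![0,1,1,2] (by decide) (by decide) 1 (by decide))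
      · -- 24=(3,1)
        exact False.elim (cert_false T ((skipEmb 3).trans (Function.Embedding.refl _)) (by norm_num) (fun _ => hall _) (((((LB_zero T ((skipEmb 3).trans (Function.Embedding.refl _))).upd 0 3 2 (le_of_eq hx04)).upd 2 3 3 (le_of_eq hx24)).upd 3 0 1 (le_of_eq hx40)).upd 3 2 1 (le_of_eq hx42)) ![1,0,1,1] (by decide) (by decide) 0 (by decide))
    · -- 14=(1,2)
      exact False.elim (cert_false T ((skipEmb 3).trans (Function.Embedding.refl _)) (by norm_num) (fun _ => hall _) (((((LB_zero T ((skipEmb 3).trans (Function.Embedding.refl _))).upd 0 3 2 (le_of_eq hx04)).upd 1 3 1 (le_of_eq hx14)).upd 3 0 1 (le_of_eq hx40)).upd 3 1 2 (le_of_eq hx41)) ![2,1,0,2] (by decide) (by decide) 0 (by decide))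
    · -- 14=(2,1)
      exact False.elim (cert_false T ((skipEmb 3).trans (Function.Embedding.refl _)) (by norm_num) (fun _ => hall _) (((((LB_zero T ((skipEmb 3).trans (Function.Embedding.refl _))).upd 0 3 2 (le_of_eq hx04)).upd 1 3 2 (le_of_eq hx14)).upd 3 0 1 (le_of_eq hx40)).upd 3 1 1 (le_of_eq hx41)) ![1,1,0,1] (by decide) (by decide) 0 (by decide))
    · -- 14=(1,3)
      exact False.elim (cert_false T ((skipEmb 3).trans (Function.Embedding.refl _)) (by norm_num) (fun _ => hall _) (((((LB_zero T ((skipEmb 3).trans (Function.Embedding.refl _))).upd 0 3 2 (le_of_eq hx04)).upd 1 3 1 (le_of_eq hx14)).upd 3 0 1 (le_of_eq hx40)).upd 3 1 3 (le_of_eq hx41)) ![1,1,0,2] (by decide) (by decide) 0 (by decide))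
    · -- 14=(3,1)
      exact False.elim (cert_false T ((skipEmb 3).trans (Function.Embedding.refl _)) (by norm_num) (fun _ => hall _) (((((LB_zero T ((skipEmb 3).trans (Function.Embedding.refl _))).upd 0 3 2 (le_of_eq hx04)).upd 1 3 3 (le_of_eq hx14)).upd 3 0 1 (le_of_eq hx40)).upd 3 1 1 (le_of_eq hx41)) ![1,1,0,1] (by decide) (by decide) 0 (by decide))
  · -- 04=(1,3)
    rcases d14 with ⟨rfl, rfl⟩ | ⟨rfl, rfl⟩ | ⟨rfl, rfl⟩ | ⟨rfl, rfl⟩ | ⟨rfl, rfl⟩ | ⟨rfl, rfl⟩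
    · -- 14=(0,0)
      rcases d24 with ⟨rfl, rfl⟩ | ⟨rfl, rfl⟩ | ⟨rfl, rfl⟩ | ⟨rfl, rfl⟩ | ⟨rfl, rfl⟩ | ⟨rfl, rfl⟩
      · -- 24=(0,0)
        rcases d34 with ⟨rfl, rfl⟩ | ⟨rfl, rfl⟩ | ⟨rfl, rfl⟩ | ⟨rfl, rfl⟩ | ⟨rfl, rfl⟩ | ⟨rfl, rfl⟩
        · -- 34=(0,0)
          exfalso; omega
        · -- 34=(1,1)
          exact False.elim (cert_false T ((skipEmb 2).trans (Function.Embedding.refl _)) (by norm_num) (fun _ => hall _) (((((LB_zero T ((skipEmb 2).trans (Function.Embedding.refl _))).upd 0 3 1 (le_of_eq hx04)).upd 2 3 1 (le_of_eq hx34)).upd 3 0 3 (le_of_eq hx40)).upd 3 2 1 (le_of_eq hx43)) ![1,0,1,2] (by decide) (by decide) 0 (by decide))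
        · -- 34=(1,2)
          exact False.elim (cert_false T ((skipEmb 2).trans (Function.Embedding.refl _)) (by norm_num) (fun _ => hall _) (((((LB_zero T ((skipEmb 2).trans (Function.Embedding.refl _))).upd 0 3 1 (le_of_eq hx04)).upd 2 3 1 (le_of_eq hx34)).upd 3 0 3 (le_of_eq hx40)).upd 3 2 2 (le_of_eq hx43)) ![1,0,1,2] (by decide) (by decide) 0 (by decide))
        · -- 34=(2,1)
          exact False.elim (cert_false T ((skipEmb 2).trans (Function.Embedding.refl _)) (by norm_num) (fun _ => hall _) (((((LB_zero T ((skipEmb 2).trans (Function.Embedding.refl _))).upd 0 3 1 (le_of_eq hx04)).upd 2 3 2 (le_of_eq hx34)).upd 3 0 3 (le_of_eq hx40)).upd 3 2 1 (le_of_eq hx43)) ![1,0,1,2] (by decide) (by decide) 0 (by decide))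
        · -- 34=(1,3)
          exact False.elim (cert_false T ((skipEmb 2).trans (Function.Embedding.refl _)) (by norm_num) (fun _ => hall _) (((((LB_zero T ((skipEmb 2).trans (Function.Embedding.refl _))).upd 0 3 1 (le_of_eq hx04)).upd 2 3 1 (le_of_eq hx34)).upd 3 0 3 (le_of_eq hx40)).upd 3 2 3 (le_of_eq hx43)) ![1,0,1,2] (by decide) (by decide) 0 (by decide))
        · -- 34=(3,1)
          exact False.elim (cert_false T ((skipEmb 2).trans (Function.Embedding.refl _)) (by norm_num) (fun _ => hall _) (((((LB_zero T ((skipEmb 2).trans (Function.Embedding.refl _))).upd 0 3 1 (le_of_eq hx04)).upd 2 3 3 (le_of_eq hx34)).upd 3 0 3 (le_of_eq hx40)).upd 3 2 1 (le_of_eq hx43)) ![1,0,1,2] (by decide) (by decide) 0 (by decide))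
      · -- 24=(1,1)
        exact False.elim (cert_false T ((skipEmb 3).trans (Function.Embedding.refl _)) (by norm_num) (fun _ => hall _) (((((LB_zero T ((skipEmb 3).trans (Function.Embedding.refl _))).upd 0 3 1 (le_of_eq hx04)).upd 2 3 1 (le_of_eq hx24)).upd 3 0 3 (le_of_eq hx40)).upd 3 2 1 (le_of_eq hx42)) ![1,0,1,2] (by decide) (by decide) 0 (by decide))
      · -- 24=(1,2)
        exact False.elim (cert_false T ((skipEmb 3).trans (Function.Embedding.refl _)) (by norm_num) (fun _ => hall _) (((((LB_zero T ((skipEmb 3).trans (Function.Embedding.refl _))).upd 0 3 1 (le_of_eq hx04)).upd 2 3 1 (le_of_eq hx24)).upd 3 0 3 (le_of_eq hx40)).upd 3 2 2 (le_of_eq hx42)) ![1,0,1,2] (by decide) (by decide) 0 (by decide))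
      · -- 24=(2,1)
        exact False.elim (cert_false T ((skipEmb 3).trans (Function.Embedding.refl _)) (by norm_num) (fun _ => hall _) (((((LB_zero T ((skipEmb 3).trans (Function.Embedding.refl _))).upd 0 3 1 (le_of_eq hx04)).upd 2 3 2 (le_of_eq hx24)).upd 3 0 3 (le_of_eq hx40)).upd 3 2 1 (le_of_eq hx42)) ![1,0,1,2] (by decide) (by decide) 0 (by decide))
      · -- 24=(1,3)
        exact False.elim (cert_false T ((skipEmb 3).trans (Function.Embedding.refl _)) (by norm_num) (fun _ => hall _) (((((LB_zero T ((skipEmb 3).trans (Function.Embedding.refl _))).upd 0 3 1 (le_of_eq hx04)).upd 2 3 1 (le_of_eq hx24)).upd 3 0 3 (le_of_eq hx40)).upd 3 2 3 (le_of_eq hx42)) ![1,0,1,2] (by decide) (by decide) 0 (by decide))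
      · -- 24=(3,1)
        exact False.elim (cert_false T ((skipEmb 3).trans (Function.Embedding.refl _)) (by norm_num) (fun _ => hall _) (((((LB_zero T ((skipEmb 3).trans (Function.Embedding.refl _))).upd 0 3 1 (le_of_eq hx04)).upd 2 3 3 (le_of_eq hx24)).upd 3 0 3 (le_of_eq hx40)).upd 3 2 1 (le_of_eq hx42)) ![1,0,1,2] (by decide) (by decide) 0 (by decide))
    · -- 14=(1,1)
      exact False.elim (cert_false T ((skipEmb 3).trans (Function.Embedding.refl _)) (by norm_num) (fun _ => hall _) (((((LB_zero T ((skipEmb 3).trans (Function.Embedding.refl _))).upd 0 3 1 (le_of_eq hx04)).upd 1 3 1 (le_of_eq hx14)).upd 3 0 3 (le_of_eq hx40)).upd 3 1 1 (le_of_eq hx41)) ![1,1,0,2] (by decide) (by decide) 0 (by decide))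
    · -- 14=(1,2)
      exact False.elim (cert_false T ((skipEmb 3).trans (Function.Embedding.refl _)) (by norm_num) (fun _ => hall _) (((((LB_zero T ((skipEmb 3).trans (Function.Embedding.refl _))).upd 0 3 1 (le_of_eq hx04)).upd 1 3 1 (le_of_eq hx14)).upd 3 0 3 (le_of_eq hx40)).upd 3 1 2 (le_of_eq hx41)) ![1,1,0,2] (by decide) (by decide) 0 (by decide))
    · -- 14=(2,1)
      exact False.elim (cert_false T ((skipEmb 3).trans (Function.Embedding.refl _)) (by norm_num) (fun _ => hall _) (((((LB_zero T ((skipEmb 3).trans (Function.Embedding.refl _))).upd 0 3 1 (le_of_eq hx04)).upd 1 3 2 (le_of_eq hx14)).upd 3 0 3 (le_of_eq hx40)).upd 3 1 1 (le_of_eq hx41)) ![1,1,0,2] (by decide) (by decide) 0 (by decide))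
    · -- 14=(1,3)
      exact False.elim (cert_false T ((skipEmb 3).trans (Function.Embedding.refl _)) (by norm_num) (fun _ => hall _) (((((LB_zero T ((skipEmb 3).trans (Function.Embedding.refl _))).upd 0 3 1 (le_of_eq hx04)).upd 1 3 1 (le_of_eq hx14)).upd 3 0 3 (le_of_eq hx40)).upd 3 1 3 (le_of_eq hx41)) ![1,1,0,2] (by decide) (by decide) 0 (by decide))
    · -- 14=(3,1)
      exact False.elim (cert_false T ((skipEmb 3).trans (Function.Embedding.refl _)) (by norm_num) (fun _ => hall _) (((((LB_zero T ((skipEmb 3).trans (Function.Embedding.refl _))).upd 0 3 1 (le_of_eq hx04)).upd 1 3 3 (le_of_eq hx14)).upd 3 0 3 (le_of_eq hx40)).upd 3 1 1 (le_of_eq hx41)) ![1,1,0,2] (by decide) (by decide) 0 (by decide))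
  · -- 04=(3,1)
    rcases d14 with ⟨rfl, rfl⟩ | ⟨rfl, rfl⟩ | ⟨rfl, rfl⟩ | ⟨rfl, rfl⟩ | ⟨rfl, rfl⟩ | ⟨rfl, rfl⟩
    · -- 14=(0,0)
      rcases d24 with ⟨rfl, rfl⟩ | ⟨rfl, rfl⟩ | ⟨rfl, rfl⟩ | ⟨rfl, rfl⟩ | ⟨rfl, rfl⟩ | ⟨rfl, rfl⟩
      · -- 24=(0,0)
        rcases d34 with ⟨rfl, rfl⟩ | ⟨rfl, rfl⟩ | ⟨rfl, rfl⟩ | ⟨rfl, rfl⟩ | ⟨rfl, rfl⟩ | ⟨rfl, rfl⟩
        · -- 34=(0,0)
          exfalso; omega
        · -- 34=(1,1)
          exact False.elim (cert_false T ((skipEmb 2).trans (Function.Embedding.refl _)) (by norm_num) (fun _ => hall _) (((((LB_zero T ((skipEmb 2).trans (Function.Embedding.refl _))).upd 0 3 3 (le_of_eq hx04)).upd 2 3 1 (le_of_eq hx34)).upd 3 0 1 (le_of_eq hx40)).upd 3 2 1 (le_of_eq hx43)) ![3,0,1,2] (by decide) (by decide) 0 (by decide))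
        · -- 34=(1,2)
          exact False.elim (cert_false T ((skipEmb 2).trans (Function.Embedding.refl _)) (by norm_num) (fun _ => hall _) (((((LB_zero T ((skipEmb 2).trans (Function.Embedding.refl _))).upd 0 3 3 (le_of_eq hx04)).upd 2 3 1 (le_of_eq hx34)).upd 3 0 1 (le_of_eq hx40)).upd 3 2 2 (le_of_eq hx43)) ![2,0,1,2] (by decide) (by decide) 0 (by decide))
        · -- 34=(2,1)
          exact False.elim (cert_false T ((skipEmb 2).trans (Function.Embedding.refl _)) (by norm_num) (fun _ => hall _) (((((LB_zero T ((skipEmb 2).trans (Function.Embedding.refl _))).upd 0 3 3 (le_of_eq hx04)).upd 2 3 2 (le_of_eq hx34)).upd 3 0 1 (le_of_eq hx40)).upd 3 2 1 (le_of_eq hx43)) ![1,0,1,1] (by decide) (by decide) 0 (by decide))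
        · -- 34=(1,3)
          exact False.elim (cert_false T ((skipEmb 2).trans (Function.Embedding.refl _)) (by norm_num) (fun _ => hall _) (((((LB_zero T ((skipEmb 2).trans (Function.Embedding.refl _))).upd 0 3 3 (le_of_eq hx04)).upd 2 3 1 (le_of_eq hx34)).upd 3 0 1 (le_of_eq hx40)).upd 3 2 3 (le_of_eq hx43)) ![1,0,1,2] (by decide) (by decide) 0 (by decide))
        · -- 34=(3,1)
          exact False.elim (cert_false T ((skipEmb 2).trans (Function.Embedding.refl _)) (by norm_num) (fun _ => hall _) (((((LB_zero T ((skipEmb 2).trans (Function.Embedding.refl _))).upd 0 3 3 (le_of_eq hx04)).upd 2 3 3 (le_of_eq hx34)).upd 3 0 1 (le_of_eq hx40)).upd 3 2 1 (le_of_eq hx43)) ![1,0,1,1] (by decide) (by decide) 0 (by decide))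
      · -- 24=(1,1)
        exact False.elim (cert_false T ((skipEmb 3).trans (Function.Embedding.refl _)) (by norm_num) (fun _ => hall _) (((((LB_zero T ((skipEmb 3).trans (Function.Embedding.refl _))).upd 0 3 3 (le_of_eq hx04)).upd 2 3 1 (le_of_eq hx24)).upd 3 0 1 (le_of_eq hx40)).upd 3 2 1 (le_of_eq hx42)) ![3,0,1,2] (by decide) (by decide) 0 (by decide))
      · -- 24=(1,2)
        exact False.elim (cert_false T ((skipEmb 3).trans (Function.Embedding.refl _)) (by norm_num) (fun _ => hall _) (((((LB_zero T ((skipEmb 3).trans (Function.Embedding.refl _))).upd 0 3 3 (le_of_eq hx04)).upd 2 3 1 (le_of_eq hx24)).upd 3 0 1 (le_of_eq hx40)).upd 3 2 2 (le_of_eq hx42)) ![2,0,1,2] (by decide) (by decide) 0 (by decide))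
      · -- 24=(2,1)
        exact False.elim (cert_false T ((skipEmb 3).trans (Function.Embedding.refl _)) (by norm_num) (fun _ => hall _) (((((LB_zero T ((skipEmb 3).trans (Function.Embedding.refl _))).upd 0 3 3 (le_of_eq hx04)).upd 2 3 2 (le_of_eq hx24)).upd 3 0 1 (le_of_eq hx40)).upd 3 2 1 (le_of_eq hx42)) ![1,0,1,1] (by decide) (by decide) 0 (by decide))
      · -- 24=(1,3)
        exact False.elim (cert_false T ((skipEmb 3).trans (Function.Embedding.refl _)) (by norm_num) (fun _ => hall _) (((((LB_zero T ((skipEmb 3).trans (Function.Embedding.refl _))).upd 0 3 3 (le_of_eq hx04)).upd 2 3 1 (le_of_eq hx24)).upd 3 0 1 (le_of_eq hx40)).upd 3 2 3 (le_of_eq hx42)) ![1,0,1,2] (by decide) (by decide) 0 (by decide))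
      · -- 24=(3,1)
        exact False.elim (cert_false T ((skipEmb 3).trans (Function.Embedding.refl _)) (by norm_num) (fun _ => hall _) (((((LB_zero T ((skipEmb 3).trans (Function.Embedding.refl _))).upd 0 3 3 (le_of_eq hx04)).upd 2 3 3 (le_of_eq hx24)).upd 3 0 1 (le_of_eq hx40)).upd 3 2 1 (le_of_eq hx42)) ![1,0,1,1] (by decide) (by decide) 0 (by decide))
    · -- 14=(1,1)
      exact False.elim (cert_false T ((skipEmb 3).trans (Function.Embedding.refl _)) (by norm_num) (fun _ => hall _) (((((LB_zero T ((skipEmb 3).trans (Function.Embedding.refl _))).upd 0 3 3 (le_of_eq hx04)).upd 1 3 1 (le_of_eq hx14)).upd 3 0 1 (le_of_eq hx40)).upd 3 1 1 (le_of_eq hx41)) ![3,1,0,2] (by decide) (by decide) 0 (by decide))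
    · -- 14=(1,2)
      exact False.elim (cert_false T ((skipEmb 3).trans (Function.Embedding.refl _)) (by norm_num) (fun _ => hall _) (((((LB_zero T ((skipEmb 3).trans (Function.Embedding.refl _))).upd 0 3 3 (le_of_eq hx04)).upd 1 3 1 (le_of_eq hx14)).upd 3 0 1 (le_of_eq hx40)).upd 3 1 2 (le_of_eq hx41)) ![2,1,0,2] (by decide) (by decide) 0 (by decide))
    · -- 14=(2,1)
      exact False.elim (cert_false T ((skipEmb 3).trans (Function.Embedding.refl _)) (by norm_num) (fun _ => hall _) (((((LB_zero T ((skipEmb 3).trans (Function.Embedding.refl _))).upd 0 3 3 (le_of_eq hx04)).upd 1 3 2 (le_of_eq hx14)).upd 3 0 1 (le_of_eq hx40)).upd 3 1 1 (le_of_eq hx41)) ![1,1,0,1] (by decide) (by decide) 0 (by decide))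
    · -- 14=(1,3)
      exact False.elim (cert_false T ((skipEmb 3).trans (Function.Embedding.refl _)) (by norm_num) (fun _ => hall _) (((((LB_zero T ((skipEmb 3).trans (Function.Embedding.refl _))).upd 0 3 3 (le_of_eq hx04)).upd 1 3 1 (le_of_eq hx14)).upd 3 0 1 (le_of_eq hx40)).upd 3 1 3 (le_of_eq hx41)) ![1,1,0,2] (by decide) (by decide) 0 (by decide))
    · -- 14=(3,1)
      exact False.elim (cert_false T ((skipEmb 3).trans (Function.Embedding.refl _)) (by norm_num) (fun _ => hall _) (((((LB_zero T ((skipEmb 3).trans (Function.Embedding.refl _))).upd 0 3 3 (le_of_eq hx04)).upd 1 3 3 (le_of_eq hx14)).upd 3 0 1 (le_of_eq hx40)).upd 3 1 1 (le_of_eq hx41)) ![1,1,0,1] (by decide) (by decide) 0 (by decide))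

theorem case4 (T : NumericalType 5) (hall : ∀ i, T.IsMinusTwo i) (d : SData T)
    (h01 : N T (Function.Embedding.refl _) 0 1 = 0) (h10 : N T (Function.Embedding.refl _) 1 0 = 0)
    (h02 : N T (Function.Embedding.refl _) 0 2 = 0) (h20 : N T (Function.Embedding.refl _) 2 0 = 0)
    (h12 : N T (Function.Embedding.refl _) 1 2 = 0) (h21 : N T (Function.Embedding.refl _) 2 1 = 0)
    (h03 : N T (Function.Embedding.refl _) 0 3 = 0) (h30 : N T (Function.Embedding.refl _) 3 0 = 0)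
    (h13 : N T (Function.Embedding.refl _) 1 3 = 0) (h31 : N T (Function.Embedding.refl _) 3 1 = 0) :
    Goal T := by
  unfold Goal
  have hd := d
  obtain ⟨x01, x02, x03, x04, x10, x12, x13, x14, x20, x21, x23, x24, x30, x31, x32, x34, x40, x41, x42, x43, hx01, hx02, hx03, hx04, hx10, hx12, hx13, hx14, hx20, hx21, hx23, hx24, hx30, hx31, hx32, hx34, hx40, hx41, hx42, hx43, hw0, hm0, hw1, hm1, hw2, hm2, hw3, hm3, hw4, hm4, a00, a01, a02, a03, a04, a11, a10, a12, a13, a14, a22, a20, a21, a23, a24, a33, a30, a31, a32, a34, a44, a40, a41, a42, a43, wN01, wN02, wN12, wN03, wN13, wN23, wN04, wN14, wN24, wN34, e0, e1, e2, e3, e4, d01, d02, d12, d03, d13, d23, d04, d14, d24, d34⟩ := d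
  obtain rfl : x01 = 0 := hx01.trans h01
  obtain rfl : x10 = 0 := hx10.trans h10
  obtain rfl : x02 = 0 := hx02.trans h02
  obtain rfl : x20 = 0 := hx20.trans h20
  obtain rfl : x12 = 0 := hx12.trans h12
  obtain rfl : x21 = 0 := hx21.trans h21
  obtain rfl : x03 = 0 := hx03.trans h03
  obtain rfl : x30 = 0 := hx30.trans h30
  obtain rfl : x13 = 0 := hx13.trans h13
  obtain rfl : x31 = 0 := hx31.trans h31
  rcases d23 with ⟨rfl, rfl⟩ | ⟨rfl, rfl⟩ | ⟨rfl, rfl⟩ | ⟨rfl, rfl⟩ | ⟨rfl, rfl⟩ | ⟨rfl, rfl⟩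
  · -- 23=(0,0)
    exact case5 T hall hd hx01.symm hx10.symm hx02.symm hx20.symm hx12.symm hx21.symm hx03.symm hx30.symm hx13.symm hx31.symm hx23.symm hx32.symm
  · -- 23=(1,1)
    exact case8 T hall hd hx01.symm hx10.symm hx02.symm hx20.symm hx12.symm hx21.symm hx03.symm hx30.symm hx13.symm hx31.symm hx23.symm hx32.symm
  · -- 23=(1,2)
    exact case11 T hall hd hx01.symm hx10.symm hx02.symm hx20.symm hx12.symm hx21.symm hx03.symm hx30.symm hx13.symm hx31.symm hx23.symm hx32.symm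
  · -- 23=(2,1)
    exact case14 T hall hd hx01.symm hx10.symm hx02.symm hx20.symm hx12.symm hx21.symm hx03.symm hx30.symm hx13.symm hx31.symm hx23.symm hx32.symm
  · -- 23=(1,3)
    exact case17 T hall hd hx01.symm hx10.symm hx02.symm hx20.symm hx12.symm hx21.symm hx03.symm hx30.symm hx13.symm hx31.symm hx23.symm hx32.symm
  · -- 23=(3,1)
    exact case19 T hall hd hx01.symm hx10.symm hx02.symm hx20.symm hx12.symm hx21.symm hx03.symm hx30.symm hx13.symm hx31.symm hx23.symm hx32.symm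

theorem case63 (T : NumericalType 5) (hall : ∀ i, T.IsMinusTwo i) (d : SData T)
    (h01 : N T (Function.Embedding.refl _) 0 1 = 0) (h10 : N T (Function.Embedding.refl _) 1 0 = 0)
    (h02 : N T (Function.Embedding.refl _) 0 2 = 0) (h20 : N T (Function.Embedding.refl _) 2 0 = 0)
    (h12 : N T (Function.Embedding.refl _) 1 2 = 0) (h21 : N T (Function.Embedding.refl _) 2 1 = 0)
    (h03 : N T (Function.Embedding.refl _) 0 3 = 1) (h30 : N T (Function.Embedding.refl _) 3 0 = 1)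
    (h13 : N T (Function.Embedding.refl _) 1 3 = 2) (h31 : N T (Function.Embedding.refl _) 3 1 = 1)
    (h23 : N T (Function.Embedding.refl _) 2 3 = 0) (h32 : N T (Function.Embedding.refl _) 3 2 = 0)
    (h04 : N T (Function.Embedding.refl _) 0 4 = 0) (h40 : N T (Function.Embedding.refl _) 4 0 = 0) :
    Goal T := by
  unfold Goal
  have hd := d
  obtain ⟨x01, x02, x03, x04, x10, x12, x13, x14, x20, x21, x23, x24, x30, x31, x32, x34, x40, x41, x42, x43, hx01, hx02, hx03, hx04, hx10, hx12, hx13, hx14, hx20, hx21, hx23, hx24, hx30, hx31, hx32, hx34, hx40, hx41, hx42, hx43, hw0, hm0, hw1, hm1, hw2, hm2, hw3, hm3, hw4, hm4, a00, a01, a02, a03, a04, a11, a10, a12, a13, a14, a22, a20, a21, a23, a24, a33, a30, a31, a32, a34, a44, a40, a41, a42, a43, wN01, wN02, wN12, wN03, wN13, wN23, wN04, wN14, wN24, wN34, e0, e1, e2, e3, e4, d01, d02, d12, d03, d13, d23, d04, d14, d24, d34⟩ := d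
  obtain rfl : x01 = 0 := hx01.trans h01
  obtain rfl : x10 = 0 := hx10.trans h10
  obtain rfl : x02 = 0 := hx02.trans h02
  obtain rfl : x20 = 0 := hx20.trans h20
  obtain rfl : x12 = 0 := hx12.trans h12
  obtain rfl : x21 = 0 := hx21.trans h21
  obtain rfl : x03 = 1 := hx03.trans h03
  obtain rfl : x30 = 1 := hx30.trans h30
  obtain rfl : x13 = 2 := hx13.trans h13
  obtain rfl : x31 = 1 := hx31.trans h31
  obtain rfl : x23 = 0 := hx23.trans h23
  obtain rfl : x32 = 0 := hx32.trans h32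
  obtain rfl : x04 = 0 := hx04.trans h04
  obtain rfl : x40 = 0 := hx40.trans h40
  rcases d14 with ⟨rfl, rfl⟩ | ⟨rfl, rfl⟩ | ⟨rfl, rfl⟩ | ⟨rfl, rfl⟩ | ⟨rfl, rfl⟩ | ⟨rfl, rfl⟩
  · -- 14=(0,0)
    rcases d24 with ⟨rfl, rfl⟩ | ⟨rfl, rfl⟩ | ⟨rfl, rfl⟩ | ⟨rfl, rfl⟩ | ⟨rfl, rfl⟩ | ⟨rfl, rfl⟩
    · -- 24=(0,0)
      rcases d34 with ⟨rfl, rfl⟩ | ⟨rfl, rfl⟩ | ⟨rfl, rfl⟩ | ⟨rfl, rfl⟩ | ⟨rfl, rfl⟩ | ⟨rfl, rfl⟩
      · -- 34=(0,0)
        exfalso; omega
      · -- 34=(1,1)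
        exact False.elim (cert_false T ((skipEmb 2).trans (Function.Embedding.refl _)) (by norm_num) (fun _ => hall _) (((((((LB_zero T ((skipEmb 2).trans (Function.Embedding.refl _))).upd 0 2 1 (le_of_eq hx03)).upd 1 2 2 (le_of_eq hx13)).upd 2 0 1 (le_of_eq hx30)).upd 2 1 1 (le_of_eq hx31)).upd 2 3 1 (le_of_eq hx34)).upd 3 2 1 (le_of_eq hx43)) ![1,2,2,1] (by decide) (by decide) 0 (by decide))
      · -- 34=(1,2)
        exact False.elim (cert_false T ((skipEmb 2).trans (Function.Embedding.refl _)) (by norm_num) (fun _ => hall _) (((((LB_zero T ((skipEmb 2).trans (Function.Embedding.refl _))).upd 1 2 2 (le_of_eq hx13)).upd 2 1 1 (le_of_eq hx31)).upd 2 3 1 (le_of_eq hx34)).upd 3 2 2 (le_of_eq hx43)) ![0,1,1,1] (by decide) (by decide) 1 (by decide))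
      · -- 34=(2,1)
        exact False.elim (cert_false T ((skipEmb 2).trans (Function.Embedding.refl _)) (by norm_num) (fun _ => hall _) (((((LB_zero T ((skipEmb 2).trans (Function.Embedding.refl _))).upd 1 2 2 (le_of_eq hx13)).upd 2 1 1 (le_of_eq hx31)).upd 2 3 2 (le_of_eq hx34)).upd 3 2 1 (le_of_eq hx43)) ![0,2,2,1] (by decide) (by decide) 1 (by decide))
      · -- 34=(1,3)
        exact False.elim (cert_false T ((skipEmb 2).trans (Function.Embedding.refl _)) (by norm_num) (fun _ => hall _) (((((LB_zero T ((skipEmb 2).trans (Function.Embedding.refl _))).upd 1 2 2 (le_of_eq hx13)).upd 2 1 1 (le_of_eq hx31)).upd 2 3 1 (le_of_eq hx34)).upd 3 2 3 (le_of_eq hx43)) ![0,1,1,1] (by decide) (by decide) 1 (by decide))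
      · -- 34=(3,1)
        exact False.elim (cert_false T ((skipEmb 2).trans (Function.Embedding.refl _)) (by norm_num) (fun _ => hall _) (((((LB_zero T ((skipEmb 2).trans (Function.Embedding.refl _))).upd 1 2 2 (le_of_eq hx13)).upd 2 1 1 (le_of_eq hx31)).upd 2 3 3 (le_of_eq hx34)).upd 3 2 1 (le_of_eq hx43)) ![0,1,2,1] (by decide) (by decide) 1 (by decide))
    · -- 24=(1,1)
      rcases d34 with ⟨rfl, rfl⟩ | ⟨rfl, rfl⟩ | ⟨rfl, rfl⟩ | ⟨rfl, rfl⟩ | ⟨rfl, rfl⟩ | ⟨rfl, rfl⟩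
      · -- 34=(0,0)
        exfalso; omega
      · -- 34=(1,1)
        exact False.elim (cert_false T ((skipEmb 2).trans (Function.Embedding.refl _)) (by norm_num) (fun _ => hall _) (((((((LB_zero T ((skipEmb 2).trans (Function.Embedding.refl _))).upd 0 2 1 (le_of_eq hx03)).upd 1 2 2 (le_of_eq hx13)).upd 2 0 1 (le_of_eq hx30)).upd 2 1 1 (le_of_eq hx31)).upd 2 3 1 (le_of_eq hx34)).upd 3 2 1 (le_of_eq hx43)) ![1,2,2,1] (by decide) (by decide) 0 (by decide))
      · -- 34=(1,2)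
        exact False.elim (cert_false T ((skipEmb 2).trans (Function.Embedding.refl _)) (by norm_num) (fun _ => hall _) (((((LB_zero T ((skipEmb 2).trans (Function.Embedding.refl _))).upd 1 2 2 (le_of_eq hx13)).upd 2 1 1 (le_of_eq hx31)).upd 2 3 1 (le_of_eq hx34)).upd 3 2 2 (le_of_eq hx43)) ![0,1,1,1] (by decide) (by decide) 1 (by decide))
      · -- 34=(2,1)
        exact False.elim (cert_false T ((skipEmb 2).trans (Function.Embedding.refl _)) (by norm_num) (fun _ => hall _) (((((LB_zero T ((skipEmb 2).trans (Function.Embedding.refl _))).upd 1 2 2 (le_of_eq hx13)).upd 2 1 1 (le_of_eq hx31)).upd 2 3 2 (le_of_eq hx34)).upd 3 2 1 (le_of_eq hx43)) ![0,2,2,1] (by decide) (by decide) 1 (by decide))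
      · -- 34=(1,3)
        exact False.elim (cert_false T ((skipEmb 2).trans (Function.Embedding.refl _)) (by norm_num) (fun _ => hall _) (((((LB_zero T ((skipEmb 2).trans (Function.Embedding.refl _))).upd 1 2 2 (le_of_eq hx13)).upd 2 1 1 (le_of_eq hx31)).upd 2 3 1 (le_of_eq hx34)).upd 3 2 3 (le_of_eq hx43)) ![0,1,1,1] (by decide) (by decide) 1 (by decide))
      · -- 34=(3,1)
        exact False.elim (cert_false T ((skipEmb 2).trans (Function.Embedding.refl _)) (by norm_num) (fun _ => hall _) (((((LB_zero T ((skipEmb 2).trans (Function.Embedding.refl _))).upd 1 2 2 (le_of_eq hx13)).upd 2 1 1 (le_of_eq hx31)).upd 2 3 3 (le_of_eq hx34)).upd 3 2 1 (le_of_eq hx43)) ![0,1,2,1] (by decide) (by decide) 1 (by decide))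
    · -- 24=(1,2)
      rcases d34 with ⟨rfl, rfl⟩ | ⟨rfl, rfl⟩ | ⟨rfl, rfl⟩ | ⟨rfl, rfl⟩ | ⟨rfl, rfl⟩ | ⟨rfl, rfl⟩
      · -- 34=(0,0)
        exfalso; omega
      · -- 34=(1,1)
        exact False.elim (cert_false T ((skipEmb 2).trans (Function.Embedding.refl _)) (by norm_num) (fun _ => hall _) (((((((LB_zero T ((skipEmb 2).trans (Function.Embedding.refl _))).upd 0 2 1 (le_of_eq hx03)).upd 1 2 2 (le_of_eq hx13)).upd 2 0 1 (le_of_eq hx30)).upd 2 1 1 (le_of_eq hx31)).upd 2 3 1 (le_of_eq hx34)).upd 3 2 1 (le_of_eq hx43)) ![1,2,2,1] (by decide) (by decide) 0 (by decide))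
      · -- 34=(1,2)
        exact False.elim (cert_false T ((skipEmb 2).trans (Function.Embedding.refl _)) (by norm_num) (fun _ => hall _) (((((LB_zero T ((skipEmb 2).trans (Function.Embedding.refl _))).upd 1 2 2 (le_of_eq hx13)).upd 2 1 1 (le_of_eq hx31)).upd 2 3 1 (le_of_eq hx34)).upd 3 2 2 (le_of_eq hx43)) ![0,1,1,1] (by decide) (by decide) 1 (by decide))
      · -- 34=(2,1)
        exact False.elim (cert_false T ((skipEmb 2).trans (Function.Embedding.refl _)) (by norm_num) (fun _ => hall _) (((((LB_zero T ((skipEmb 2).trans (Function.Embedding.refl _))).upd 1 2 2 (le_of_eq hx13)).upd 2 1 1 (le_of_eq hx31)).upd 2 3 2 (le_of_eq hx34)).upd 3 2 1 (le_of_eq hx43)) ![0,2,2,1] (by decide) (by decide) 1 (by decide))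
      · -- 34=(1,3)
        exact False.elim (cert_false T ((skipEmb 2).trans (Function.Embedding.refl _)) (by norm_num) (fun _ => hall _) (((((LB_zero T ((skipEmb 2).trans (Function.Embedding.refl _))).upd 1 2 2 (le_of_eq hx13)).upd 2 1 1 (le_of_eq hx31)).upd 2 3 1 (le_of_eq hx34)).upd 3 2 3 (le_of_eq hx43)) ![0,1,1,1] (by decide) (by decide) 1 (by decide))
      · -- 34=(3,1)
        exact False.elim (cert_false T ((skipEmb 2).trans (Function.Embedding.refl _)) (by norm_num) (fun _ => hall _) (((((LB_zero T ((skipEmb 2).trans (Function.Embedding.refl _))).upd 1 2 2 (le_of_eq hx13)).upd 2 1 1 (le_of_eq hx31)).upd 2 3 3 (le_of_eq hx34)).upd 3 2 1 (le_of_eq hx43)) ![0,1,2,1] (by decide) (by decide) 1 (by decide))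
    · -- 24=(2,1)
      rcases d34 with ⟨rfl, rfl⟩ | ⟨rfl, rfl⟩ | ⟨rfl, rfl⟩ | ⟨rfl, rfl⟩ | ⟨rfl, rfl⟩ | ⟨rfl, rfl⟩
      · -- 34=(0,0)
        exfalso; omega
      · -- 34=(1,1)
        exact False.elim (cert_false T ((skipEmb 2).trans (Function.Embedding.refl _)) (by norm_num) (fun _ => hall _) (((((((LB_zero T ((skipEmb 2).trans (Function.Embedding.refl _))).upd 0 2 1 (le_of_eq hx03)).upd 1 2 2 (le_of_eq hx13)).upd 2 0 1 (le_of_eq hx30)).upd 2 1 1 (le_of_eq hx31)).upd 2 3 1 (le_of_eq hx34)).upd 3 2 1 (le_of_eq hx43)) ![1,2,2,1] (by decide) (by decide) 0 (by decide))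
      · -- 34=(1,2)
        exact False.elim (cert_false T ((skipEmb 2).trans (Function.Embedding.refl _)) (by norm_num) (fun _ => hall _) (((((LB_zero T ((skipEmb 2).trans (Function.Embedding.refl _))).upd 1 2 2 (le_of_eq hx13)).upd 2 1 1 (le_of_eq hx31)).upd 2 3 1 (le_of_eq hx34)).upd 3 2 2 (le_of_eq hx43)) ![0,1,1,1] (by decide) (by decide) 1 (by decide))
      · -- 34=(2,1)
        exact False.elim (cert_false T ((skipEmb 2).trans (Function.Embedding.refl _)) (by norm_num) (fun _ => hall _) (((((LB_zero T ((skipEmb 2).trans (Function.Embedding.refl _))).upd 1 2 2 (le_of_eq hx13)).upd 2 1 1 (le_of_eq hx31)).upd 2 3 2 (le_of_eq hx34)).upd 3 2 1 (le_of_eq hx43)) ![0,2,2,1] (by decide) (by decide) 1 (by decide))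
      · -- 34=(1,3)
        exact False.elim (cert_false T ((skipEmb 2).trans (Function.Embedding.refl _)) (by norm_num) (fun _ => hall _) (((((LB_zero T ((skipEmb 2).trans (Function.Embedding.refl _))).upd 1 2 2 (le_of_eq hx13)).upd 2 1 1 (le_of_eq hx31)).upd 2 3 1 (le_of_eq hx34)).upd 3 2 3 (le_of_eq hx43)) ![0,1,1,1] (by decide) (by decide) 1 (by decide))
      · -- 34=(3,1)
        exact False.elim (cert_false T ((skipEmb 2).trans (Function.Embedding.refl _)) (by norm_num) (fun _ => hall _) (((((LB_zero T ((skipEmb 2).trans (Function.Embedding.refl _))).upd 1 2 2 (le_of_eq hx13)).upd 2 1 1 (le_of_eq hx31)).upd 2 3 3 (le_of_eq hx34)).upd 3 2 1 (le_of_eq hx43)) ![0,1,2,1] (by decide) (by decide) 1 (by decide))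
    · -- 24=(1,3)
      rcases d34 with ⟨rfl, rfl⟩ | ⟨rfl, rfl⟩ | ⟨rfl, rfl⟩ | ⟨rfl, rfl⟩ | ⟨rfl, rfl⟩ | ⟨rfl, rfl⟩
      · -- 34=(0,0)
        exfalso; omega
      · -- 34=(1,1)
        exact False.elim (cert_false T ((skipEmb 2).trans (Function.Embedding.refl _)) (by norm_num) (fun _ => hall _) (((((((LB_zero T ((skipEmb 2).trans (Function.Embedding.refl _))).upd 0 2 1 (le_of_eq hx03)).upd 1 2 2 (le_of_eq hx13)).upd 2 0 1 (le_of_eq hx30)).upd 2 1 1 (le_of_eq hx31)).upd 2 3 1 (le_of_eq hx34)).upd 3 2 1 (le_of_eq hx43)) ![1,2,2,1] (by decide) (by decide) 0 (by decide))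
      · -- 34=(1,2)
        exact False.elim (cert_false T ((skipEmb 2).trans (Function.Embedding.refl _)) (by norm_num) (fun _ => hall _) (((((LB_zero T ((skipEmb 2).trans (Function.Embedding.refl _))).upd 1 2 2 (le_of_eq hx13)).upd 2 1 1 (le_of_eq hx31)).upd 2 3 1 (le_of_eq hx34)).upd 3 2 2 (le_of_eq hx43)) ![0,1,1,1] (by decide) (by decide) 1 (by decide))
      · -- 34=(2,1)
        exact False.elim (cert_false T ((skipEmb 2).trans (Function.Embedding.refl _)) (by norm_num) (fun _ => hall _) (((((LB_zero T ((skipEmb 2).trans (Function.Embedding.refl _))).upd 1 2 2 (le_of_eq hx13)).upd 2 1 1 (le_of_eq hx31)).upd 2 3 2 (le_of_eq hx34)).upd 3 2 1 (le_of_eq hx43)) ![0,2,2,1] (by decide) (by decide) 1 (by decide))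
      · -- 34=(1,3)
        exact False.elim (cert_false T ((skipEmb 2).trans (Function.Embedding.refl _)) (by norm_num) (fun _ => hall _) (((((LB_zero T ((skipEmb 2).trans (Function.Embedding.refl _))).upd 1 2 2 (le_of_eq hx13)).upd 2 1 1 (le_of_eq hx31)).upd 2 3 1 (le_of_eq hx34)).upd 3 2 3 (le_of_eq hx43)) ![0,1,1,1] (by decide) (by decide) 1 (by decide))
      · -- 34=(3,1)
        exact False.elim (cert_false T ((skipEmb 2).trans (Function.Embedding.refl _)) (by norm_num) (fun _ => hall _) (((((LB_zero T ((skipEmb 2).trans (Function.Embedding.refl _))).upd 1 2 2 (le_of_eq hx13)).upd 2 1 1 (le_of_eq hx31)).upd 2 3 3 (le_of_eq hx34)).upd 3 2 1 (le_of_eq hx43)) ![0,1,2,1] (by decide) (by decide) 1 (by decide))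
    · -- 24=(3,1)
      rcases d34 with ⟨rfl, rfl⟩ | ⟨rfl, rfl⟩ | ⟨rfl, rfl⟩ | ⟨rfl, rfl⟩ | ⟨rfl, rfl⟩ | ⟨rfl, rfl⟩
      · -- 34=(0,0)
        exfalso; omega
      · -- 34=(1,1)
        exact False.elim (cert_false T ((skipEmb 2).trans (Function.Embedding.refl _)) (by norm_num) (fun _ => hall _) (((((((LB_zero T ((skipEmb 2).trans (Function.Embedding.refl _))).upd 0 2 1 (le_of_eq hx03)).upd 1 2 2 (le_of_eq hx13)).upd 2 0 1 (le_of_eq hx30)).upd 2 1 1 (le_of_eq hx31)).upd 2 3 1 (le_of_eq hx34)).upd 3 2 1 (le_of_eq hx43)) ![1,2,2,1] (by decide) (by decide) 0 (by decide))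
      · -- 34=(1,2)
        exact False.elim (cert_false T ((skipEmb 2).trans (Function.Embedding.refl _)) (by norm_num) (fun _ => hall _) (((((LB_zero T ((skipEmb 2).trans (Function.Embedding.refl _))).upd 1 2 2 (le_of_eq hx13)).upd 2 1 1 (le_of_eq hx31)).upd 2 3 1 (le_of_eq hx34)).upd 3 2 2 (le_of_eq hx43)) ![0,1,1,1] (by decide) (by decide) 1 (by decide))
      · -- 34=(2,1)
        exact False.elim (cert_false T ((skipEmb 2).trans (Function.Embedding.refl _)) (by norm_num) (fun _ => hall _) (((((LB_zero T ((skipEmb 2).trans (Function.Embedding.refl _))).upd 1 2 2 (le_of_eq hx13)).upd 2 1 1 (le_of_eq hx31)).upd 2 3 2 (le_of_eq hx34)).upd 3 2 1 (le_of_eq hx43)) ![0,2,2,1] (by decide) (by decide) 1 (by decide))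
      · -- 34=(1,3)
        exact False.elim (cert_false T ((skipEmb 2).trans (Function.Embedding.refl _)) (by norm_num) (fun _ => hall _) (((((LB_zero T ((skipEmb 2).trans (Function.Embedding.refl _))).upd 1 2 2 (le_of_eq hx13)).upd 2 1 1 (le_of_eq hx31)).upd 2 3 1 (le_of_eq hx34)).upd 3 2 3 (le_of_eq hx43)) ![0,1,1,1] (by decide) (by decide) 1 (by decide))
      · -- 34=(3,1)
        exact False.elim (cert_false T ((skipEmb 2).trans (Function.Embedding.refl _)) (by norm_num) (fun _ => hall _) (((((LB_zero T ((skipEmb 2).trans (Function.Embedding.refl _))).upd 1 2 2 (le_of_eq hx13)).upd 2 1 1 (le_of_eq hx31)).upd 2 3 3 (le_of_eq hx34)).upd 3 2 1 (le_of_eq hx43)) ![0,1,2,1] (by decide) (by decide) 1 (by decide))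
  · -- 14=(1,1)
    rcases d24 with ⟨rfl, rfl⟩ | ⟨rfl, rfl⟩ | ⟨rfl, rfl⟩ | ⟨rfl, rfl⟩ | ⟨rfl, rfl⟩ | ⟨rfl, rfl⟩
    · -- 24=(0,0)
      rcases d34 with ⟨rfl, rfl⟩ | ⟨rfl, rfl⟩ | ⟨rfl, rfl⟩ | ⟨rfl, rfl⟩ | ⟨rfl, rfl⟩ | ⟨rfl, rfl⟩
      · -- 34=(0,0)
        exfalso; omega
      · -- 34=(1,1)
        exact False.elim (cert_false T ((skipEmb 2).trans (Function.Embedding.refl _)) (by norm_num) (fun _ => hall _) (((((((LB_zero T ((skipEmb 2).trans (Function.Embedding.refl _))).upd 1 2 2 (le_of_eq hx13)).upd 1 3 1 (le_of_eq hx14)).upd 2 1 1 (le_of_eq hx31)).upd 2 3 1 (le_of_eq hx34)).upd 3 1 1 (le_of_eq hx41)).upd 3 2 1 (le_of_eq hx43)) ![0,1,1,1] (by decide) (by decide) 1 (by decide))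
      · -- 34=(1,2)
        exact False.elim (cert_false T ((skipEmb 2).trans (Function.Embedding.refl _)) (by norm_num) (fun _ => hall _) (((((((LB_zero T ((skipEmb 2).trans (Function.Embedding.refl _))).upd 1 2 2 (le_of_eq hx13)).upd 1 3 1 (le_of_eq hx14)).upd 2 1 1 (le_of_eq hx31)).upd 2 3 1 (le_of_eq hx34)).upd 3 1 1 (le_of_eq hx41)).upd 3 2 2 (le_of_eq hx43)) ![0,1,1,1] (by decide) (by decide) 1 (by decide))
      · -- 34=(2,1)
        exact False.elim (cert_false T ((skipEmb 2).trans (Function.Embedding.refl _)) (by norm_num) (fun _ => hall _) (((((((LB_zero T ((skipEmb 2).trans (Function.Embedding.refl _))).upd 1 2 2 (le_of_eq hx13)).upd 1 3 1 (le_of_eq hx14)).upd 2 1 1 (le_of_eq hx31)).upd 2 3 2 (le_of_eq hx34)).upd 3 1 1 (le_of_eq hx41)).upd 3 2 1 (le_of_eq hx43)) ![0,1,1,1] (by decide) (by decide) 1 (by decide))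
      · -- 34=(1,3)
        exact False.elim (cert_false T ((skipEmb 2).trans (Function.Embedding.refl _)) (by norm_num) (fun _ => hall _) (((((((LB_zero T ((skipEmb 2).trans (Function.Embedding.refl _))).upd 1 2 2 (le_of_eq hx13)).upd 1 3 1 (le_of_eq hx14)).upd 2 1 1 (le_of_eq hx31)).upd 2 3 1 (le_of_eq hx34)).upd 3 1 1 (le_of_eq hx41)).upd 3 2 3 (le_of_eq hx43)) ![0,1,1,1] (by decide) (by decide) 1 (by decide))
      · -- 34=(3,1)
        exact False.elim (cert_false T ((skipEmb 2).trans (Function.Embedding.refl _)) (by norm_num) (fun _ => hall _) (((((((LB_zero T ((skipEmb 2).trans (Function.Embedding.refl _))).upd 1 2 2 (le_of_eq hx13)).upd 1 3 1 (le_of_eq hx14)).upd 2 1 1 (le_of_eq hx31)).upd 2 3 3 (le_of_eq hx34)).upd 3 1 1 (le_of_eq hx41)).upd 3 2 1 (le_of_eq hx43)) ![0,1,1,1] (by decide) (by decide) 1 (by decide))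
    · -- 24=(1,1)
      rcases d34 with ⟨rfl, rfl⟩ | ⟨rfl, rfl⟩ | ⟨rfl, rfl⟩ | ⟨rfl, rfl⟩ | ⟨rfl, rfl⟩ | ⟨rfl, rfl⟩
      · -- 34=(0,0)
        refine ⟨(⟨![2, 4, 1, 3, 0], ![4, 2, 0, 3, 1], by decide, by decide⟩ : Equiv.Perm (Fin 5)), T.m 2, T.w 2, Or.inr (Or.inl ?_)⟩
        show T.m 2 = T.m 2 ∧ T.m 4 = 2 * T.m 2 ∧ T.m 1 = 3 * T.m 2 ∧ T.m 3 = 2 * T.m 2 ∧ T.m 0 = T.m 2 ∧ T.w 2 = T.w 2 ∧ T.w 4 = T.w 2 ∧ T.w 1 = T.w 2 ∧ T.w 3 = 2 * T.w 2 ∧ T.w 0 = 2 * T.w 2 ∧ T.a 2 2 = -2 * T.w 2 ∧ T.a 2 4 = T.w 2 ∧ T.a 2 1 = 0 ∧ T.a 2 3 = 0 ∧ T.a 2 0 = 0 ∧ T.a 4 4 = -2 * T.w 2 ∧ T.a 4 1 = T.w 2 ∧ T.a 4 3 = 0 ∧ T.a 4 0 = 0 ∧ T.a 1 1 = -2 * T.w 2 ∧ T.a 1 3 = 2 * T.w 2 ∧ T.a 1 0 = 0 ∧ T.a 3 3 = -4 * T.w 2 ∧ T.a 3 0 = 2 * T.w 2 ∧ T.a 0 0 = -4 * T.w 2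
        refine ⟨?_, ?_, ?_, ?_, ?_, ?_, ?_, ?_, ?_, ?_, ?_, ?_, ?_, ?_, ?_, ?_, ?_, ?_, ?_, ?_, ?_, ?_, ?_, ?_, ?_⟩ <;> omega
      · -- 34=(1,1)
        exact False.elim (cert_false T ((skipEmb 2).trans (Function.Embedding.refl _)) (by norm_num) (fun _ => hall _) (((((((LB_zero T ((skipEmb 2).trans (Function.Embedding.refl _))).upd 1 2 2 (le_of_eq hx13)).upd 1 3 1 (le_of_eq hx14)).upd 2 1 1 (le_of_eq hx31)).upd 2 3 1 (le_of_eq hx34)).upd 3 1 1 (le_of_eq hx41)).upd 3 2 1 (le_of_eq hx43)) ![0,1,1,1] (by decide) (by decide) 1 (by decide))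
      · -- 34=(1,2)
        exact False.elim (cert_false T ((skipEmb 2).trans (Function.Embedding.refl _)) (by norm_num) (fun _ => hall _) (((((((LB_zero T ((skipEmb 2).trans (Function.Embedding.refl _))).upd 1 2 2 (le_of_eq hx13)).upd 1 3 1 (le_of_eq hx14)).upd 2 1 1 (le_of_eq hx31)).upd 2 3 1 (le_of_eq hx34)).upd 3 1 1 (le_of_eq hx41)).upd 3 2 2 (le_of_eq hx43)) ![0,1,1,1] (by decide) (by decide) 1 (by decide))
      · -- 34=(2,1)
        exact False.elim (cert_false T ((skipEmb 2).trans (Function.Embedding.refl _)) (by norm_num) (fun _ => hall _) (((((((LB_zero T ((skipEmb 2).trans (Function.Embedding.refl _))).upd 1 2 2 (le_of_eq hx13)).upd 1 3 1 (le_of_eq hx14)).upd 2 1 1 (le_of_eq hx31)).upd 2 3 2 (le_of_eq hx34)).upd 3 1 1 (le_of_eq hx41)).upd 3 2 1 (le_of_eq hx43)) ![0,1,1,1] (by decide) (by decide) 1 (by decide))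
      · -- 34=(1,3)
        exact False.elim (cert_false T ((skipEmb 2).trans (Function.Embedding.refl _)) (by norm_num) (fun _ => hall _) (((((((LB_zero T ((skipEmb 2).trans (Function.Embedding.refl _))).upd 1 2 2 (le_of_eq hx13)).upd 1 3 1 (le_of_eq hx14)).upd 2 1 1 (le_of_eq hx31)).upd 2 3 1 (le_of_eq hx34)).upd 3 1 1 (le_of_eq hx41)).upd 3 2 3 (le_of_eq hx43)) ![0,1,1,1] (by decide) (by decide) 1 (by decide))
      · -- 34=(3,1)
        exact False.elim (cert_false T ((skipEmb 2).trans (Function.Embedding.refl _)) (by norm_num) (fun _ => hall _) (((((((LB_zero T ((skipEmb 2).trans (Function.Embedding.refl _))).upd 1 2 2 (le_of_eq hx13)).upd 1 3 1 (le_of_eq hx14)).upd 2 1 1 (le_of_eq hx31)).upd 2 3 3 (le_of_eq hx34)).upd 3 1 1 (le_of_eq hx41)).upd 3 2 1 (le_of_eq hx43)) ![0,1,1,1] (by decide) (by decide) 1 (by decide))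
    · -- 24=(1,2)
      exact False.elim (cert_false T ((skipEmb 0).trans (Function.Embedding.refl _)) (by norm_num) (fun _ => hall _) (((((((LB_zero T ((skipEmb 0).trans (Function.Embedding.refl _))).upd 0 2 2 (le_of_eq hx13)).upd 0 3 1 (le_of_eq hx14)).upd 1 3 1 (le_of_eq hx24)).upd 2 0 1 (le_of_eq hx31)).upd 3 0 1 (le_of_eq hx41)).upd 3 1 2 (le_of_eq hx42)) ![2,1,1,2] (by decide) (by decide) 0 (by decide))
    · -- 24=(2,1)
      exact False.elim (cert_false T ((skipEmb 0).trans (Function.Embedding.refl _)) (by norm_num) (fun _ => hall _) (((((((LB_zero T ((skipEmb 0).trans (Function.Embedding.refl _))).upd 0 2 2 (le_of_eq hx13)).upd 0 3 1 (le_of_eq hx14)).upd 1 3 2 (le_of_eq hx24)).upd 2 0 1 (le_of_eq hx31)).upd 3 0 1 (le_of_eq hx41)).upd 3 1 1 (le_of_eq hx42)) ![2,2,1,2] (by decide) (by decide) 0 (by decide))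
    · -- 24=(1,3)
      exact False.elim (cert_false T ((skipEmb 3).trans (Function.Embedding.refl _)) (by norm_num) (fun _ => hall _) (((((LB_zero T ((skipEmb 3).trans (Function.Embedding.refl _))).upd 1 3 1 (le_of_eq hx14)).upd 2 3 1 (le_of_eq hx24)).upd 3 1 1 (le_of_eq hx41)).upd 3 2 3 (le_of_eq hx42)) ![0,1,1,2] (by decide) (by decide) 1 (by decide))
    · -- 24=(3,1)
      exact False.elim (cert_false T ((skipEmb 3).trans (Function.Embedding.refl _)) (by norm_num) (fun _ => hall _) (((((LB_zero T ((skipEmb 3).trans (Function.Embedding.refl _))).upd 1 3 1 (le_of_eq hx14)).upd 2 3 3 (le_of_eq hx24)).upd 3 1 1 (le_of_eq hx41)).upd 3 2 1 (le_of_eq hx42)) ![0,1,3,2] (by decide) (by decide) 1 (by decide))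
  · -- 14=(1,2)
    exact False.elim (cert_false T ((skipEmb 2).trans (Function.Embedding.refl _)) (by norm_num) (fun _ => hall _) (((((LB_zero T ((skipEmb 2).trans (Function.Embedding.refl _))).upd 1 2 2 (le_of_eq hx13)).upd 1 3 1 (le_of_eq hx14)).upd 2 1 1 (le_of_eq hx31)).upd 3 1 2 (le_of_eq hx41)) ![0,2,1,2] (by decide) (by decide) 1 (by decide))
  · -- 14=(2,1)
    exact False.elim (cert_false T ((skipEmb 2).trans (Function.Embedding.refl _)) (by norm_num) (fun _ => hall _) (((((LB_zero T ((skipEmb 2).trans (Function.Embedding.refl _))).upd 1 2 2 (le_of_eq hx13)).upd 1 3 2 (le_of_eq hx14)).upd 2 1 1 (le_of_eq hx31)).upd 3 1 1 (le_of_eq hx41)) ![0,2,1,1] (by decide) (by decide) 1 (by decide))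
  · -- 14=(1,3)
    exact False.elim (cert_false T ((skipEmb 2).trans (Function.Embedding.refl _)) (by norm_num) (fun _ => hall _) (((((LB_zero T ((skipEmb 2).trans (Function.Embedding.refl _))).upd 1 2 2 (le_of_eq hx13)).upd 1 3 1 (le_of_eq hx14)).upd 2 1 1 (le_of_eq hx31)).upd 3 1 3 (le_of_eq hx41)) ![0,2,1,2] (by decide) (by decide) 1 (by decide))
  · -- 14=(3,1)
    exact False.elim (cert_false T ((skipEmb 2).trans (Function.Embedding.refl _)) (by norm_num) (fun _ => hall _) (((((LB_zero T ((skipEmb 2).trans (Function.Embedding.refl _))).upd 1 2 2 (le_of_eq hx13)).upd 1 3 3 (le_of_eq hx14)).upd 2 1 1 (le_of_eq hx31)).upd 3 1 1 (le_of_eq hx41)) ![0,2,1,1] (by decide) (by decide) 1 (by decide))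

theorem case62 (T : NumericalType 5) (hall : ∀ i, T.IsMinusTwo i) (d : SData T)
    (h01 : N T (Function.Embedding.refl _) 0 1 = 0) (h10 : N T (Function.Embedding.refl _) 1 0 = 0)
    (h02 : N T (Function.Embedding.refl _) 0 2 = 0) (h20 : N T (Function.Embedding.refl _) 2 0 = 0)
    (h12 : N T (Function.Embedding.refl _) 1 2 = 0) (h21 : N T (Function.Embedding.refl _) 2 1 = 0)
    (h03 : N T (Function.Embedding.refl _) 0 3 = 1) (h30 : N T (Function.Embedding.refl _) 3 0 = 1)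
    (h13 : N T (Function.Embedding.refl _) 1 3 = 2) (h31 : N T (Function.Embedding.refl _) 3 1 = 1)
    (h23 : N T (Function.Embedding.refl _) 2 3 = 0) (h32 : N T (Function.Embedding.refl _) 3 2 = 0) :
    Goal T := by
  unfold Goal
  have hd := d
  obtain ⟨x01, x02, x03, x04, x10, x12, x13, x14, x20, x21, x23, x24, x30, x31, x32, x34, x40, x41, x42, x43, hx01, hx02, hx03, hx04, hx10, hx12, hx13, hx14, hx20, hx21, hx23, hx24, hx30, hx31, hx32, hx34, hx40, hx41, hx42, hx43, hw0, hm0, hw1, hm1, hw2, hm2, hw3, hm3, hw4, hm4, a00, a01, a02, a03, a04, a11, a10, a12, a13, a14, a22, a20, a21, a23, a24, a33, a30, a31, a32, a34, a44, a40, a41, a42, a43, wN01, wN02, wN12, wN03, wN13, wN23, wN04, wN14, wN24, wN34, e0, e1, e2, e3, e4, d01, d02, d12, d03, d13, d23, d04, d14, d24, d34⟩ := d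
  obtain rfl : x01 = 0 := hx01.trans h01
  obtain rfl : x10 = 0 := hx10.trans h10
  obtain rfl : x02 = 0 := hx02.trans h02
  obtain rfl : x20 = 0 := hx20.trans h20
  obtain rfl : x12 = 0 := hx12.trans h12
  obtain rfl : x21 = 0 := hx21.trans h21
  obtain rfl : x03 = 1 := hx03.trans h03
  obtain rfl : x30 = 1 := hx30.trans h30
  obtain rfl : x13 = 2 := hx13.trans h13
  obtain rfl : x31 = 1 := hx31.trans h31
  obtain rfl : x23 = 0 := hx23.trans h23
  obtain rfl : x32 = 0 := hx32.trans h32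
  rcases d04 with ⟨rfl, rfl⟩ | ⟨rfl, rfl⟩ | ⟨rfl, rfl⟩ | ⟨rfl, rfl⟩ | ⟨rfl, rfl⟩ | ⟨rfl, rfl⟩
  · -- 04=(0,0)
    exact case63 T hall hd hx01.symm hx10.symm hx02.symm hx20.symm hx12.symm hx21.symm hx03.symm hx30.symm hx13.symm hx31.symm hx23.symm hx32.symm hx04.symm hx40.symm
  · -- 04=(1,1)
    rcases d14 with ⟨rfl, rfl⟩ | ⟨rfl, rfl⟩ | ⟨rfl, rfl⟩ | ⟨rfl, rfl⟩ | ⟨rfl, rfl⟩ | ⟨rfl, rfl⟩
    · -- 14=(0,0)
      rcases d24 with ⟨rfl, rfl⟩ | ⟨rfl, rfl⟩ | ⟨rfl, rfl⟩ | ⟨rfl, rfl⟩ | ⟨rfl, rfl⟩ | ⟨rfl, rfl⟩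
      · -- 24=(0,0)
        rcases d34 with ⟨rfl, rfl⟩ | ⟨rfl, rfl⟩ | ⟨rfl, rfl⟩ | ⟨rfl, rfl⟩ | ⟨rfl, rfl⟩ | ⟨rfl, rfl⟩
        · -- 34=(0,0)
          exfalso; omega
        · -- 34=(1,1)
          exact False.elim (cert_false T ((skipEmb 2).trans (Function.Embedding.refl _)) (by norm_num) (fun _ => hall _) (((((((LB_zero T ((skipEmb 2).trans (Function.Embedding.refl _))).upd 0 2 1 (le_of_eq hx03)).upd 0 3 1 (le_of_eq hx04)).upd 2 0 1 (le_of_eq hx30)).upd 2 3 1 (le_of_eq hx34)).upd 3 0 1 (le_of_eq hx40)).upd 3 2 1 (le_of_eq hx43)) ![1,0,1,1] (by decide) (by decide) 0 (by decide))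
        · -- 34=(1,2)
          exact False.elim (cert_false T ((skipEmb 2).trans (Function.Embedding.refl _)) (by norm_num) (fun _ => hall _) (((((LB_zero T ((skipEmb 2).trans (Function.Embedding.refl _))).upd 1 2 2 (le_of_eq hx13)).upd 2 1 1 (le_of_eq hx31)).upd 2 3 1 (le_of_eq hx34)).upd 3 2 2 (le_of_eq hx43)) ![0,1,1,1] (by decide) (by decide) 1 (by decide))
        · -- 34=(2,1)
          exact False.elim (cert_false T ((skipEmb 2).trans (Function.Embedding.refl _)) (by norm_num) (fun _ => hall _) (((((((LB_zero T ((skipEmb 2).trans (Function.Embedding.refl _))).upd 0 2 1 (le_of_eq hx03)).upd 0 3 1 (le_of_eq hx04)).upd 2 0 1 (le_of_eq hx30)).upd 2 3 2 (le_of_eq hx34)).upd 3 0 1 (le_of_eq hx40)).upd 3 2 1 (le_of_eq hx43)) ![1,0,1,1] (by decide) (by decide) 0 (by decide))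
        · -- 34=(1,3)
          exact False.elim (cert_false T ((skipEmb 2).trans (Function.Embedding.refl _)) (by norm_num) (fun _ => hall _) (((((LB_zero T ((skipEmb 2).trans (Function.Embedding.refl _))).upd 1 2 2 (le_of_eq hx13)).upd 2 1 1 (le_of_eq hx31)).upd 2 3 1 (le_of_eq hx34)).upd 3 2 3 (le_of_eq hx43)) ![0,1,1,1] (by decide) (by decide) 1 (by decide))
        · -- 34=(3,1)
          exact False.elim (cert_false T ((skipEmb 2).trans (Function.Embedding.refl _)) (by norm_num) (fun _ => hall _) (((((((LB_zero T ((skipEmb 2).trans (Function.Embedding.refl _))).upd 0 2 1 (le_of_eq hx03)).upd 0 3 1 (le_of_eq hx04)).upd 2 0 1 (le_of_eq hx30)).upd 2 3 3 (le_of_eq hx34)).upd 3 0 1 (le_of_eq hx40)).upd 3 2 1 (le_of_eq hx43)) ![1,0,1,1] (by decide) (by decide) 0 (by decide))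
      · -- 24=(1,1)
        rcases d34 with ⟨rfl, rfl⟩ | ⟨rfl, rfl⟩ | ⟨rfl, rfl⟩ | ⟨rfl, rfl⟩ | ⟨rfl, rfl⟩ | ⟨rfl, rfl⟩
        · -- 34=(0,0)
          exfalso; omega
        · -- 34=(1,1)
          exact False.elim (cert_false T ((skipEmb 2).trans (Function.Embedding.refl _)) (by norm_num) (fun _ => hall _) (((((((LB_zero T ((skipEmb 2).trans (Function.Embedding.refl _))).upd 0 2 1 (le_of_eq hx03)).upd 0 3 1 (le_of_eq hx04)).upd 2 0 1 (le_of_eq hx30)).upd 2 3 1 (le_of_eq hx34)).upd 3 0 1 (le_of_eq hx40)).upd 3 2 1 (le_of_eq hx43)) ![1,0,1,1] (by decide) (by decide) 0 (by decide))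
        · -- 34=(1,2)
          exact False.elim (cert_false T ((skipEmb 2).trans (Function.Embedding.refl _)) (by norm_num) (fun _ => hall _) (((((LB_zero T ((skipEmb 2).trans (Function.Embedding.refl _))).upd 1 2 2 (le_of_eq hx13)).upd 2 1 1 (le_of_eq hx31)).upd 2 3 1 (le_of_eq hx34)).upd 3 2 2 (le_of_eq hx43)) ![0,1,1,1] (by decide) (by decide) 1 (by decide))
        · -- 34=(2,1)
          exact False.elim (cert_false T ((skipEmb 2).trans (Function.Embedding.refl _)) (by norm_num) (fun _ => hall _) (((((((LB_zero T ((skipEmb 2).trans (Function.Embedding.refl _))).upd 0 2 1 (le_of_eq hx03)).upd 0 3 1 (le_of_eq hx04)).upd 2 0 1 (le_of_eq hx30)).upd 2 3 2 (le_of_eq hx34)).upd 3 0 1 (le_of_eq hx40)).upd 3 2 1 (le_of_eq hx43)) ![1,0,1,1] (by decide) (by decide) 0 (by decide))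
        · -- 34=(1,3)
          exact False.elim (cert_false T ((skipEmb 2).trans (Function.Embedding.refl _)) (by norm_num) (fun _ => hall _) (((((LB_zero T ((skipEmb 2).trans (Function.Embedding.refl _))).upd 1 2 2 (le_of_eq hx13)).upd 2 1 1 (le_of_eq hx31)).upd 2 3 1 (le_of_eq hx34)).upd 3 2 3 (le_of_eq hx43)) ![0,1,1,1] (by decide) (by decide) 1 (by decide))
        · -- 34=(3,1)
          exact False.elim (cert_false T ((skipEmb 2).trans (Function.Embedding.refl _)) (by norm_num) (fun _ => hall _) (((((((LB_zero T ((skipEmb 2).trans (Function.Embedding.refl _))).upd 0 2 1 (le_of_eq hx03)).upd 0 3 1 (le_of_eq hx04)).upd 2 0 1 (le_of_eq hx30)).upd 2 3 3 (le_of_eq hx34)).upd 3 0 1 (le_of_eq hx40)).upd 3 2 1 (le_of_eq hx43)) ![1,0,1,1] (by decide) (by decide) 0 (by decide))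
      · -- 24=(1,2)
        rcases d34 with ⟨rfl, rfl⟩ | ⟨rfl, rfl⟩ | ⟨rfl, rfl⟩ | ⟨rfl, rfl⟩ | ⟨rfl, rfl⟩ | ⟨rfl, rfl⟩
        · -- 34=(0,0)
          refine ⟨(⟨![1, 3, 0, 4, 2], ![2, 0, 4, 1, 3], by decide, by decide⟩ : Equiv.Perm (Fin 5)), T.m 2, T.w 1, Or.inr (Or.inr (Or.inr (Or.inl ?_)))⟩
          show T.m 1 = 2 * T.m 2 ∧ T.m 3 = 2 * T.m 2 ∧ T.m 0 = 2 * T.m 2 ∧ T.m 4 = 2 * T.m 2 ∧ T.m 2 = T.m 2 ∧ T.w 1 = T.w 1 ∧ T.w 3 = 2 * T.w 1 ∧ T.w 0 = 2 * T.w 1 ∧ T.w 4 = 2 * T.w 1 ∧ T.w 2 = 4 * T.w 1 ∧ T.a 1 1 = -2 * T.w 1 ∧ T.a 1 3 = 2 * T.w 1 ∧ T.a 1 0 = 0 ∧ T.a 1 4 = 0 ∧ T.a 1 2 = 0 ∧ T.a 3 3 = -4 * T.w 1 ∧ T.a 3 0 = 2 * T.w 1 ∧ T.a 3 4 = 0 ∧ T.a 3 2 = 0 ∧ T.a 0 0 = -4 * T.w 1 ∧ T.a 0 4 = 2 * T.w 1 ∧ T.a 0 2 = 0 ∧ T.a 4 4 = -4 * T.w 1 ∧ T.a 4 2 = 4 * T.w 1 ∧ T.a 2 2 = -8 * T.w 1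
          refine ⟨?_, ?_, ?_, ?_, ?_, ?_, ?_, ?_, ?_, ?_, ?_, ?_, ?_, ?_, ?_, ?_, ?_, ?_, ?_, ?_, ?_, ?_, ?_, ?_, ?_⟩ <;> omega
        · -- 34=(1,1)
          exact False.elim (cert_false T ((skipEmb 2).trans (Function.Embedding.refl _)) (by norm_num) (fun _ => hall _) (((((((LB_zero T ((skipEmb 2).trans (Function.Embedding.refl _))).upd 0 2 1 (le_of_eq hx03)).upd 0 3 1 (le_of_eq hx04)).upd 2 0 1 (le_of_eq hx30)).upd 2 3 1 (le_of_eq hx34)).upd 3 0 1 (le_of_eq hx40)).upd 3 2 1 (le_of_eq hx43)) ![1,0,1,1] (by decide) (by decide) 0 (by decide))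
        · -- 34=(1,2)
          exact False.elim (cert_false T ((skipEmb 2).trans (Function.Embedding.refl _)) (by norm_num) (fun _ => hall _) (((((LB_zero T ((skipEmb 2).trans (Function.Embedding.refl _))).upd 1 2 2 (le_of_eq hx13)).upd 2 1 1 (le_of_eq hx31)).upd 2 3 1 (le_of_eq hx34)).upd 3 2 2 (le_of_eq hx43)) ![0,1,1,1] (by decide) (by decide) 1 (by decide))
        · -- 34=(2,1)
          exact False.elim (cert_false T ((skipEmb 2).trans (Function.Embedding.refl _)) (by norm_num) (fun _ => hall _) (((((((LB_zero T ((skipEmb 2).trans (Function.Embedding.refl _))).upd 0 2 1 (le_of_eq hx03)).upd 0 3 1 (le_of_eq hx04)).upd 2 0 1 (le_of_eq hx30)).upd 2 3 2 (le_of_eq hx34)).upd 3 0 1 (le_of_eq hx40)).upd 3 2 1 (le_of_eq hx43)) ![1,0,1,1] (by decide) (by decide) 0 (by decide))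
        · -- 34=(1,3)
          exact False.elim (cert_false T ((skipEmb 2).trans (Function.Embedding.refl _)) (by norm_num) (fun _ => hall _) (((((LB_zero T ((skipEmb 2).trans (Function.Embedding.refl _))).upd 1 2 2 (le_of_eq hx13)).upd 2 1 1 (le_of_eq hx31)).upd 2 3 1 (le_of_eq hx34)).upd 3 2 3 (le_of_eq hx43)) ![0,1,1,1] (by decide) (by decide) 1 (by decide))
        · -- 34=(3,1)
          exact False.elim (cert_false T ((skipEmb 2).trans (Function.Embedding.refl _)) (by norm_num) (fun _ => hall _) (((((((LB_zero T ((skipEmb 2).trans (Function.Embedding.refl _))).upd 0 2 1 (le_of_eq hx03)).upd 0 3 1 (le_of_eq hx04)).upd 2 0 1 (le_of_eq hx30)).upd 2 3 3 (le_of_eq hx34)).upd 3 0 1 (le_of_eq hx40)).upd 3 2 1 (le_of_eq hx43)) ![1,0,1,1] (by decide) (by decide) 0 (by decide))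
      · -- 24=(2,1)
        rcases d34 with ⟨rfl, rfl⟩ | ⟨rfl, rfl⟩ | ⟨rfl, rfl⟩ | ⟨rfl, rfl⟩ | ⟨rfl, rfl⟩ | ⟨rfl, rfl⟩
        · -- 34=(0,0)
          refine ⟨(⟨![1, 3, 0, 4, 2], ![2, 0, 4, 1, 3], by decide, by decide⟩ : Equiv.Perm (Fin 5)), T.m 1, T.w 1, Or.inr (Or.inr (Or.inr (Or.inr (Or.inl ?_))))⟩
          show T.m 1 = T.m 1 ∧ T.m 3 = T.m 1 ∧ T.m 0 = T.m 1 ∧ T.m 4 = T.m 1 ∧ T.m 2 = T.m 1 ∧ T.w 1 = T.w 1 ∧ T.w 3 = 2 * T.w 1 ∧ T.w 0 = 2 * T.w 1 ∧ T.w 4 = 2 * T.w 1 ∧ T.w 2 = T.w 1 ∧ T.a 1 1 = -2 * T.w 1 ∧ T.a 1 3 = 2 * T.w 1 ∧ T.a 1 0 = 0 ∧ T.a 1 4 = 0 ∧ T.a 1 2 = 0 ∧ T.a 3 3 = -4 * T.w 1 ∧ T.a 3 0 = 2 * T.w 1 ∧ T.a 3 4 = 0 ∧ T.a 3 2 = 0 ∧ T.a 0 0 = -4 * T.w 1 ∧ T.a 0 4 = 2 * T.w 1 ∧ T.a 0 2 = 0 ∧ T.a 4 4 = -4 * T.w 1 ∧ T.a 4 2 = 2 * T.w 1 ∧ T.a 2 2 = -2 * T.w 1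
          refine ⟨?_, ?_, ?_, ?_, ?_, ?_, ?_, ?_, ?_, ?_, ?_, ?_, ?_, ?_, ?_, ?_, ?_, ?_, ?_, ?_, ?_, ?_, ?_, ?_, ?_⟩ <;> omega
        · -- 34=(1,1)
          exact False.elim (cert_false T ((skipEmb 2).trans (Function.Embedding.refl _)) (by norm_num) (fun _ => hall _) (((((((LB_zero T ((skipEmb 2).trans (Function.Embedding.refl _))).upd 0 2 1 (le_of_eq hx03)).upd 0 3 1 (le_of_eq hx04)).upd 2 0 1 (le_of_eq hx30)).upd 2 3 1 (le_of_eq hx34)).upd 3 0 1 (le_of_eq hx40)).upd 3 2 1 (le_of_eq hx43)) ![1,0,1,1] (by decide) (by decide) 0 (by decide))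
        · -- 34=(1,2)
          exact False.elim (cert_false T ((skipEmb 2).trans (Function.Embedding.refl _)) (by norm_num) (fun _ => hall _) (((((LB_zero T ((skipEmb 2).trans (Function.Embedding.refl _))).upd 1 2 2 (le_of_eq hx13)).upd 2 1 1 (le_of_eq hx31)).upd 2 3 1 (le_of_eq hx34)).upd 3 2 2 (le_of_eq hx43)) ![0,1,1,1] (by decide) (by decide) 1 (by decide))
        · -- 34=(2,1)
          exact False.elim (cert_false T ((skipEmb 2).trans (Function.Embedding.refl _)) (by norm_num) (fun _ => hall _) (((((((LB_zero T ((skipEmb 2).trans (Function.Embedding.refl _))).upd 0 2 1 (le_of_eq hx03)).upd 0 3 1 (le_of_eq hx04)).upd 2 0 1 (le_of_eq hx30)).upd 2 3 2 (le_of_eq hx34)).upd 3 0 1 (le_of_eq hx40)).upd 3 2 1 (le_of_eq hx43)) ![1,0,1,1] (by decide) (by decide) 0 (by decide))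
        · -- 34=(1,3)
          exact False.elim (cert_false T ((skipEmb 2).trans (Function.Embedding.refl _)) (by norm_num) (fun _ => hall _) (((((LB_zero T ((skipEmb 2).trans (Function.Embedding.refl _))).upd 1 2 2 (le_of_eq hx13)).upd 2 1 1 (le_of_eq hx31)).upd 2 3 1 (le_of_eq hx34)).upd 3 2 3 (le_of_eq hx43)) ![0,1,1,1] (by decide) (by decide) 1 (by decide))
        · -- 34=(3,1)
          exact False.elim (cert_false T ((skipEmb 2).trans (Function.Embedding.refl _)) (by norm_num) (fun _ => hall _) (((((((LB_zero T ((skipEmb 2).trans (Function.Embedding.refl _))).upd 0 2 1 (le_of_eq hx03)).upd 0 3 1 (le_of_eq hx04)).upd 2 0 1 (le_of_eq hx30)).upd 2 3 3 (le_of_eq hx34)).upd 3 0 1 (le_of_eq hx40)).upd 3 2 1 (le_of_eq hx43)) ![1,0,1,1] (by decide) (by decide) 0 (by decide))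
      · -- 24=(1,3)
        exact False.elim (cert_false T ((skipEmb 3).trans (Function.Embedding.refl _)) (by norm_num) (fun _ => hall _) (((((LB_zero T ((skipEmb 3).trans (Function.Embedding.refl _))).upd 0 3 1 (le_of_eq hx04)).upd 2 3 1 (le_of_eq hx24)).upd 3 0 1 (le_of_eq hx40)).upd 3 2 3 (le_of_eq hx42)) ![1,0,1,2] (by decide) (by decide) 0 (by decide))
      · -- 24=(3,1)
        exact False.elim (cert_false T ((skipEmb 3).trans (Function.Embedding.refl _)) (by norm_num) (fun _ => hall _) (((((LB_zero T ((skipEmb 3).trans (Function.Embedding.refl _))).upd 0 3 1 (le_of_eq hx04)).upd 2 3 3 (le_of_eq hx24)).upd 3 0 1 (le_of_eq hx40)).upd 3 2 1 (le_of_eq hx42)) ![1,0,3,2] (by decide) (by decide) 0 (by decide))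
    · -- 14=(1,1)
      exact False.elim (cert_false T ((skipEmb 2).trans (Function.Embedding.refl _)) (by norm_num) (fun _ => hall _) (((((((((LB_zero T ((skipEmb 2).trans (Function.Embedding.refl _))).upd 0 2 1 (le_of_eq hx03)).upd 0 3 1 (le_of_eq hx04)).upd 1 2 2 (le_of_eq hx13)).upd 1 3 1 (le_of_eq hx14)).upd 2 0 1 (le_of_eq hx30)).upd 2 1 1 (le_of_eq hx31)).upd 3 0 1 (le_of_eq hx40)).upd 3 1 1 (le_of_eq hx41)) ![1,1,1,1] (by decide) (by decide) 0 (by decide))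
    · -- 14=(1,2)
      exact False.elim (cert_false T ((skipEmb 2).trans (Function.Embedding.refl _)) (by norm_num) (fun _ => hall _) (((((((((LB_zero T ((skipEmb 2).trans (Function.Embedding.refl _))).upd 0 2 1 (le_of_eq hx03)).upd 0 3 1 (le_of_eq hx04)).upd 1 2 2 (le_of_eq hx13)).upd 1 3 1 (le_of_eq hx14)).upd 2 0 1 (le_of_eq hx30)).upd 2 1 1 (le_of_eq hx31)).upd 3 0 1 (le_of_eq hx40)).upd 3 1 2 (le_of_eq hx41)) ![1,1,1,1] (by decide) (by decide) 0 (by decide))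
    · -- 14=(2,1)
      exact False.elim (cert_false T ((skipEmb 2).trans (Function.Embedding.refl _)) (by norm_num) (fun _ => hall _) (((((((((LB_zero T ((skipEmb 2).trans (Function.Embedding.refl _))).upd 0 2 1 (le_of_eq hx03)).upd 0 3 1 (le_of_eq hx04)).upd 1 2 2 (le_of_eq hx13)).upd 1 3 2 (le_of_eq hx14)).upd 2 0 1 (le_of_eq hx30)).upd 2 1 1 (le_of_eq hx31)).upd 3 0 1 (le_of_eq hx40)).upd 3 1 1 (le_of_eq hx41)) ![1,1,1,1] (by decide) (by decide) 0 (by decide))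
    · -- 14=(1,3)
      exact False.elim (cert_false T ((skipEmb 3).trans (Function.Embedding.refl _)) (by norm_num) (fun _ => hall _) (((((LB_zero T ((skipEmb 3).trans (Function.Embedding.refl _))).upd 0 3 1 (le_of_eq hx04)).upd 1 3 1 (le_of_eq hx14)).upd 3 0 1 (le_of_eq hx40)).upd 3 1 3 (le_of_eq hx41)) ![1,1,0,2] (by decide) (by decide) 0 (by decide))
    · -- 14=(3,1)
      exact False.elim (cert_false T ((skipEmb 3).trans (Function.Embedding.refl _)) (by norm_num) (fun _ => hall _) (((((LB_zero T ((skipEmb 3).trans (Function.Embedding.refl _))).upd 0 3 1 (le_of_eq hx04)).upd 1 3 3 (le_of_eq hx14)).upd 3 0 1 (le_of_eq hx40)).upd 3 1 1 (le_of_eq hx41)) ![1,3,0,2] (by decide) (by decide) 0 (by decide))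
  · -- 04=(1,2)
    exact False.elim (cert_false T ((skipEmb 2).trans (Function.Embedding.refl _)) (by norm_num) (fun _ => hall _) (((((((LB_zero T ((skipEmb 2).trans (Function.Embedding.refl _))).upd 0 2 1 (le_of_eq hx03)).upd 0 3 1 (le_of_eq hx04)).upd 1 2 2 (le_of_eq hx13)).upd 2 0 1 (le_of_eq hx30)).upd 2 1 1 (le_of_eq hx31)).upd 3 0 2 (le_of_eq hx40)) ![1,1,1,1] (by decide) (by decide) 0 (by decide))
  · -- 04=(2,1)
    exact False.elim (cert_false T ((skipEmb 2).trans (Function.Embedding.refl _)) (by norm_num) (fun _ => hall _) (((((((LB_zero T ((skipEmb 2).trans (Function.Embedding.refl _))).upd 0 2 1 (le_of_eq hx03)).upd 0 3 2 (le_of_eq hx04)).upd 1 2 2 (le_of_eq hx13)).upd 2 0 1 (le_of_eq hx30)).upd 2 1 1 (le_of_eq hx31)).upd 3 0 1 (le_of_eq hx40)) ![2,2,2,1] (by decide) (by decide) 0 (by decide))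
  · -- 04=(1,3)
    exact False.elim (cert_false T ((skipEmb 2).trans (Function.Embedding.refl _)) (by norm_num) (fun _ => hall _) (((((((LB_zero T ((skipEmb 2).trans (Function.Embedding.refl _))).upd 0 2 1 (le_of_eq hx03)).upd 0 3 1 (le_of_eq hx04)).upd 1 2 2 (le_of_eq hx13)).upd 2 0 1 (le_of_eq hx30)).upd 2 1 1 (le_of_eq hx31)).upd 3 0 3 (le_of_eq hx40)) ![1,1,1,1] (by decide) (by decide) 0 (by decide))
  · -- 04=(3,1)
    exact False.elim (cert_false T ((skipEmb 2).trans (Function.Embedding.refl _)) (by norm_num) (fun _ => hall _) (((((LB_zero T ((skipEmb 2).trans (Function.Embedding.refl _))).upd 0 2 1 (le_of_eq hx03)).upd 0 3 3 (le_of_eq hx04)).upd 2 0 1 (le_of_eq hx30)).upd 3 0 1 (le_of_eq hx40)) ![2,0,1,1] (by decide) (by decide) 0 (by decide))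

theorem case61 (T : NumericalType 5) (hall : ∀ i, T.IsMinusTwo i) (d : SData T)
    (h01 : N T (Function.Embedding.refl _) 0 1 = 0) (h10 : N T (Function.Embedding.refl _) 1 0 = 0)
    (h02 : N T (Function.Embedding.refl _) 0 2 = 0) (h20 : N T (Function.Embedding.refl _) 2 0 = 0)
    (h12 : N T (Function.Embedding.refl _) 1 2 = 0) (h21 : N T (Function.Embedding.refl _) 2 1 = 0)
    (h03 : N T (Function.Embedding.refl _) 0 3 = 1) (h30 : N T (Function.Embedding.refl _) 3 0 = 1)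
    (h13 : N T (Function.Embedding.refl _) 1 3 = 2) (h31 : N T (Function.Embedding.refl _) 3 1 = 1) :
    Goal T := by
  unfold Goal
  have hd := d
  obtain ⟨x01, x02, x03, x04, x10, x12, x13, x14, x20, x21, x23, x24, x30, x31, x32, x34, x40, x41, x42, x43, hx01, hx02, hx03, hx04, hx10, hx12, hx13, hx14, hx20, hx21, hx23, hx24, hx30, hx31, hx32, hx34, hx40, hx41, hx42, hx43, hw0, hm0, hw1, hm1, hw2, hm2, hw3, hm3, hw4, hm4, a00, a01, a02, a03, a04, a11, a10, a12, a13, a14, a22, a20, a21, a23, a24, a33, a30, a31, a32, a34, a44, a40, a41, a42, a43, wN01, wN02, wN12, wN03, wN13, wN23, wN04, wN14, wN24, wN34, e0, e1, e2, e3, e4, d01, d02, d12, d03, d13, d23, d04, d14, d24, d34⟩ := d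
  obtain rfl : x01 = 0 := hx01.trans h01
  obtain rfl : x10 = 0 := hx10.trans h10
  obtain rfl : x02 = 0 := hx02.trans h02
  obtain rfl : x20 = 0 := hx20.trans h20
  obtain rfl : x12 = 0 := hx12.trans h12
  obtain rfl : x21 = 0 := hx21.trans h21
  obtain rfl : x03 = 1 := hx03.trans h03
  obtain rfl : x30 = 1 := hx30.trans h30
  obtain rfl : x13 = 2 := hx13.trans h13
  obtain rfl : x31 = 1 := hx31.trans h31
  rcases d23 with ⟨rfl, rfl⟩ | ⟨rfl, rfl⟩ | ⟨rfl, rfl⟩ | ⟨rfl, rfl⟩ | ⟨rfl, rfl⟩ | ⟨rfl, rfl⟩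
  · -- 23=(0,0)
    exact case62 T hall hd hx01.symm hx10.symm hx02.symm hx20.symm hx12.symm hx21.symm hx03.symm hx30.symm hx13.symm hx31.symm hx23.symm hx32.symm
  · -- 23=(1,1)
    exact False.elim (cert_false T ((skipEmb 4).trans (Function.Embedding.refl _)) (by norm_num) (fun _ => hall _) (((((((LB_zero T ((skipEmb 4).trans (Function.Embedding.refl _))).upd 0 3 1 (le_of_eq hx03)).upd 1 3 2 (le_of_eq hx13)).upd 2 3 1 (le_of_eq hx23)).upd 3 0 1 (le_of_eq hx30)).upd 3 1 1 (le_of_eq hx31)).upd 3 2 1 (le_of_eq hx32)) ![1,2,1,2] (by decide) (by decide) 0 (by decide))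
  · -- 23=(1,2)
    exact False.elim (cert_false T ((skipEmb 4).trans (Function.Embedding.refl _)) (by norm_num) (fun _ => hall _) (((((LB_zero T ((skipEmb 4).trans (Function.Embedding.refl _))).upd 1 3 2 (le_of_eq hx13)).upd 2 3 1 (le_of_eq hx23)).upd 3 1 1 (le_of_eq hx31)).upd 3 2 2 (le_of_eq hx32)) ![0,2,1,2] (by decide) (by decide) 1 (by decide))
  · -- 23=(2,1)
    exact False.elim (cert_false T ((skipEmb 4).trans (Function.Embedding.refl _)) (by norm_num) (fun _ => hall _) (((((LB_zero T ((skipEmb 4).trans (Function.Embedding.refl _))).upd 1 3 2 (le_of_eq hx13)).upd 2 3 2 (le_of_eq hx23)).upd 3 1 1 (le_of_eq hx31)).upd 3 2 1 (le_of_eq hx32)) ![0,1,1,1] (by decide) (by decide) 1 (by decide))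
  · -- 23=(1,3)
    exact False.elim (cert_false T ((skipEmb 4).trans (Function.Embedding.refl _)) (by norm_num) (fun _ => hall _) (((((LB_zero T ((skipEmb 4).trans (Function.Embedding.refl _))).upd 1 3 2 (le_of_eq hx13)).upd 2 3 1 (le_of_eq hx23)).upd 3 1 1 (le_of_eq hx31)).upd 3 2 3 (le_of_eq hx32)) ![0,1,1,2] (by decide) (by decide) 1 (by decide))
  · -- 23=(3,1)
    exact False.elim (cert_false T ((skipEmb 4).trans (Function.Embedding.refl _)) (by norm_num) (fun _ => hall _) (((((LB_zero T ((skipEmb 4).trans (Function.Embedding.refl _))).upd 1 3 2 (le_of_eq hx13)).upd 2 3 3 (le_of_eq hx23)).upd 3 1 1 (le_of_eq hx31)).upd 3 2 1 (le_of_eq hx32)) ![0,1,1,1] (by decide) (by decide) 1 (by decide))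

theorem case117 (T : NumericalType 5) (hall : ∀ i, T.IsMinusTwo i) (d : SData T)
    (h01 : N T (Function.Embedding.refl _) 0 1 = 0) (h10 : N T (Function.Embedding.refl _) 1 0 = 0)
    (h02 : N T (Function.Embedding.refl _) 0 2 = 0) (h20 : N T (Function.Embedding.refl _) 2 0 = 0)
    (h12 : N T (Function.Embedding.refl _) 1 2 = 1) (h21 : N T (Function.Embedding.refl _) 2 1 = 1)
    (h03 : N T (Function.Embedding.refl _) 0 3 = 1) (h30 : N T (Function.Embedding.refl _) 3 0 = 1)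
    (h13 : N T (Function.Embedding.refl _) 1 3 = 1) (h31 : N T (Function.Embedding.refl _) 3 1 = 1)
    (h23 : N T (Function.Embedding.refl _) 2 3 = 0) (h32 : N T (Function.Embedding.refl _) 3 2 = 0) :
    Goal T := by
  unfold Goal
  have hd := d
  obtain ⟨x01, x02, x03, x04, x10, x12, x13, x14, x20, x21, x23, x24, x30, x31, x32, x34, x40, x41, x42, x43, hx01, hx02, hx03, hx04, hx10, hx12, hx13, hx14, hx20, hx21, hx23, hx24, hx30, hx31, hx32, hx34, hx40, hx41, hx42, hx43, hw0, hm0, hw1, hm1, hw2, hm2, hw3, hm3, hw4, hm4, a00, a01, a02, a03, a04, a11, a10, a12, a13, a14, a22, a20, a21, a23, a24, a33, a30, a31, a32, a34, a44, a40, a41, a42, a43, wN01, wN02, wN12, wN03, wN13, wN23, wN04, wN14, wN24, wN34, e0, e1, e2, e3, e4, d01, d02, d12, d03, d13, d23, d04, d14, d24, d34⟩ := d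
  obtain rfl : x01 = 0 := hx01.trans h01
  obtain rfl : x10 = 0 := hx10.trans h10
  obtain rfl : x02 = 0 := hx02.trans h02
  obtain rfl : x20 = 0 := hx20.trans h20
  obtain rfl : x12 = 1 := hx12.trans h12
  obtain rfl : x21 = 1 := hx21.trans h21
  obtain rfl : x03 = 1 := hx03.trans h03
  obtain rfl : x30 = 1 := hx30.trans h30
  obtain rfl : x13 = 1 := hx13.trans h13
  obtain rfl : x31 = 1 := hx31.trans h31
  obtain rfl : x23 = 0 := hx23.trans h23
  obtain rfl : x32 = 0 := hx32.trans h32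
  rcases d04 with ⟨rfl, rfl⟩ | ⟨rfl, rfl⟩ | ⟨rfl, rfl⟩ | ⟨rfl, rfl⟩ | ⟨rfl, rfl⟩ | ⟨rfl, rfl⟩
  · -- 04=(0,0)
    rcases d14 with ⟨rfl, rfl⟩ | ⟨rfl, rfl⟩ | ⟨rfl, rfl⟩ | ⟨rfl, rfl⟩ | ⟨rfl, rfl⟩ | ⟨rfl, rfl⟩
    · -- 14=(0,0)
      rcases d24 with ⟨rfl, rfl⟩ | ⟨rfl, rfl⟩ | ⟨rfl, rfl⟩ | ⟨rfl, rfl⟩ | ⟨rfl, rfl⟩ | ⟨rfl, rfl⟩
      · -- 24=(0,0)
        rcases d34 with ⟨rfl, rfl⟩ | ⟨rfl, rfl⟩ | ⟨rfl, rfl⟩ | ⟨rfl, rfl⟩ | ⟨rfl, rfl⟩ | ⟨rfl, rfl⟩
        · -- 34=(0,0)
          exfalso; omega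
        · -- 34=(1,1)
          exfalso; omega
        · -- 34=(1,2)
          exact False.elim (cert_false T ((skipEmb 2).trans (Function.Embedding.refl _)) (by norm_num) (fun _ => hall _) (((((((LB_zero T ((skipEmb 2).trans (Function.Embedding.refl _))).upd 0 2 1 (le_of_eq hx03)).upd 1 2 1 (le_of_eq hx13)).upd 2 0 1 (le_of_eq hx30)).upd 2 1 1 (le_of_eq hx31)).upd 2 3 1 (le_of_eq hx34)).upd 3 2 2 (le_of_eq hx43)) ![1,1,2,2] (by decide) (by decide) 0 (by decide))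
        · -- 34=(2,1)
          exact False.elim (cert_false T ((skipEmb 2).trans (Function.Embedding.refl _)) (by norm_num) (fun _ => hall _) (((((((LB_zero T ((skipEmb 2).trans (Function.Embedding.refl _))).upd 0 2 1 (le_of_eq hx03)).upd 1 2 1 (le_of_eq hx13)).upd 2 0 1 (le_of_eq hx30)).upd 2 1 1 (le_of_eq hx31)).upd 2 3 2 (le_of_eq hx34)).upd 3 2 1 (le_of_eq hx43)) ![1,1,2,1] (by decide) (by decide) 0 (by decide))
        · -- 34=(1,3)
          exact False.elim (cert_false T ((skipEmb 2).trans (Function.Embedding.refl _)) (by norm_num) (fun _ => hall _) (((((((LB_zero T ((skipEmb 2).trans (Function.Embedding.refl _))).upd 0 2 1 (le_of_eq hx03)).upd 1 2 1 (le_of_eq hx13)).upd 2 0 1 (le_of_eq hx30)).upd 2 1 1 (le_of_eq hx31)).upd 2 3 1 (le_of_eq hx34)).upd 3 2 3 (le_of_eq hx43)) ![1,1,2,2] (by decide) (by decide) 0 (by decide))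
        · -- 34=(3,1)
          exact False.elim (cert_false T ((skipEmb 2).trans (Function.Embedding.refl _)) (by norm_num) (fun _ => hall _) (((((LB_zero T ((skipEmb 2).trans (Function.Embedding.refl _))).upd 1 2 1 (le_of_eq hx13)).upd 2 1 1 (le_of_eq hx31)).upd 2 3 3 (le_of_eq hx34)).upd 3 2 1 (le_of_eq hx43)) ![0,1,2,1] (by decide) (by decide) 1 (by decide))
      · -- 24=(1,1)
        rcases d34 with ⟨rfl, rfl⟩ | ⟨rfl, rfl⟩ | ⟨rfl, rfl⟩ | ⟨rfl, rfl⟩ | ⟨rfl, rfl⟩ | ⟨rfl, rfl⟩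
        · -- 34=(0,0)
          exfalso; omega
        · -- 34=(1,1)
          exact False.elim (cert_false T ((skipEmb 0).trans (Function.Embedding.refl _)) (by norm_num) (fun _ => hall _) (((((((((LB_zero T ((skipEmb 0).trans (Function.Embedding.refl _))).upd 0 1 1 (le_of_eq hx12)).upd 0 2 1 (le_of_eq hx13)).upd 1 0 1 (le_of_eq hx21)).upd 1 3 1 (le_of_eq hx24)).upd 2 0 1 (le_of_eq hx31)).upd 2 3 1 (le_of_eq hx34)).upd 3 1 1 (le_of_eq hx42)).upd 3 2 1 (le_of_eq hx43)) ![1,1,1,1] (by decide) (by decide) 0 (by decide))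
        · -- 34=(1,2)
          exact False.elim (cert_false T ((skipEmb 2).trans (Function.Embedding.refl _)) (by norm_num) (fun _ => hall _) (((((((LB_zero T ((skipEmb 2).trans (Function.Embedding.refl _))).upd 0 2 1 (le_of_eq hx03)).upd 1 2 1 (le_of_eq hx13)).upd 2 0 1 (le_of_eq hx30)).upd 2 1 1 (le_of_eq hx31)).upd 2 3 1 (le_of_eq hx34)).upd 3 2 2 (le_of_eq hx43)) ![1,1,2,2] (by decide) (by decide) 0 (by decide))
        · -- 34=(2,1)
          exact False.elim (cert_false T ((skipEmb 2).trans (Function.Embedding.refl _)) (by norm_num) (fun _ => hall _) (((((((LB_zero T ((skipEmb 2).trans (Function.Embedding.refl _))).upd 0 2 1 (le_of_eq hx03)).upd 1 2 1 (le_of_eq hx13)).upd 2 0 1 (le_of_eq hx30)).upd 2 1 1 (le_of_eq hx31)).upd 2 3 2 (le_of_eq hx34)).upd 3 2 1 (le_of_eq hx43)) ![1,1,2,1] (by decide) (by decide) 0 (by decide))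
        · -- 34=(1,3)
          exact False.elim (cert_false T ((skipEmb 2).trans (Function.Embedding.refl _)) (by norm_num) (fun _ => hall _) (((((((LB_zero T ((skipEmb 2).trans (Function.Embedding.refl _))).upd 0 2 1 (le_of_eq hx03)).upd 1 2 1 (le_of_eq hx13)).upd 2 0 1 (le_of_eq hx30)).upd 2 1 1 (le_of_eq hx31)).upd 2 3 1 (le_of_eq hx34)).upd 3 2 3 (le_of_eq hx43)) ![1,1,2,2] (by decide) (by decide) 0 (by decide))
        · -- 34=(3,1)
          exact False.elim (cert_false T ((skipEmb 2).trans (Function.Embedding.refl _)) (by norm_num) (fun _ => hall _) (((((LB_zero T ((skipEmb 2).trans (Function.Embedding.refl _))).upd 1 2 1 (le_of_eq hx13)).upd 2 1 1 (le_of_eq hx31)).upd 2 3 3 (le_of_eq hx34)).upd 3 2 1 (le_of_eq hx43)) ![0,1,2,1] (by decide) (by decide) 1 (by decide))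
      · -- 24=(1,2)
        rcases d34 with ⟨rfl, rfl⟩ | ⟨rfl, rfl⟩ | ⟨rfl, rfl⟩ | ⟨rfl, rfl⟩ | ⟨rfl, rfl⟩ | ⟨rfl, rfl⟩
        · -- 34=(0,0)
          exfalso; omega
        · -- 34=(1,1)
          exact False.elim (cert_false T ((skipEmb 0).trans (Function.Embedding.refl _)) (by norm_num) (fun _ => hall _) (((((((((LB_zero T ((skipEmb 0).trans (Function.Embedding.refl _))).upd 0 1 1 (le_of_eq hx12)).upd 0 2 1 (le_of_eq hx13)).upd 1 0 1 (le_of_eq hx21)).upd 1 3 1 (le_of_eq hx24)).upd 2 0 1 (le_of_eq hx31)).upd 2 3 1 (le_of_eq hx34)).upd 3 1 2 (le_of_eq hx42)).upd 3 2 1 (le_of_eq hx43)) ![1,1,1,1] (by decide) (by decide) 0 (by decide))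
        · -- 34=(1,2)
          exact False.elim (cert_false T ((skipEmb 2).trans (Function.Embedding.refl _)) (by norm_num) (fun _ => hall _) (((((((LB_zero T ((skipEmb 2).trans (Function.Embedding.refl _))).upd 0 2 1 (le_of_eq hx03)).upd 1 2 1 (le_of_eq hx13)).upd 2 0 1 (le_of_eq hx30)).upd 2 1 1 (le_of_eq hx31)).upd 2 3 1 (le_of_eq hx34)).upd 3 2 2 (le_of_eq hx43)) ![1,1,2,2] (by decide) (by decide) 0 (by decide))
        · -- 34=(2,1)
          exact False.elim (cert_false T ((skipEmb 2).trans (Function.Embedding.refl _)) (by norm_num) (fun _ => hall _) (((((((LB_zero T ((skipEmb 2).trans (Function.Embedding.refl _))).upd 0 2 1 (le_of_eq hx03)).upd 1 2 1 (le_of_eq hx13)).upd 2 0 1 (le_of_eq hx30)).upd 2 1 1 (le_of_eq hx31)).upd 2 3 2 (le_of_eq hx34)).upd 3 2 1 (le_of_eq hx43)) ![1,1,2,1] (by decide) (by decide) 0 (by decide))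
        · -- 34=(1,3)
          exact False.elim (cert_false T ((skipEmb 2).trans (Function.Embedding.refl _)) (by norm_num) (fun _ => hall _) (((((((LB_zero T ((skipEmb 2).trans (Function.Embedding.refl _))).upd 0 2 1 (le_of_eq hx03)).upd 1 2 1 (le_of_eq hx13)).upd 2 0 1 (le_of_eq hx30)).upd 2 1 1 (le_of_eq hx31)).upd 2 3 1 (le_of_eq hx34)).upd 3 2 3 (le_of_eq hx43)) ![1,1,2,2] (by decide) (by decide) 0 (by decide))
        · -- 34=(3,1)
          exact False.elim (cert_false T ((skipEmb 2).trans (Function.Embedding.refl _)) (by norm_num) (fun _ => hall _) (((((LB_zero T ((skipEmb 2).trans (Function.Embedding.refl _))).upd 1 2 1 (le_of_eq hx13)).upd 2 1 1 (le_of_eq hx31)).upd 2 3 3 (le_of_eq hx34)).upd 3 2 1 (le_of_eq hx43)) ![0,1,2,1] (by decide) (by decide) 1 (by decide))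
      · -- 24=(2,1)
        rcases d34 with ⟨rfl, rfl⟩ | ⟨rfl, rfl⟩ | ⟨rfl, rfl⟩ | ⟨rfl, rfl⟩ | ⟨rfl, rfl⟩ | ⟨rfl, rfl⟩
        · -- 34=(0,0)
          exfalso; omega
        · -- 34=(1,1)
          exact False.elim (cert_false T ((skipEmb 0).trans (Function.Embedding.refl _)) (by norm_num) (fun _ => hall _) (((((((((LB_zero T ((skipEmb 0).trans (Function.Embedding.refl _))).upd 0 1 1 (le_of_eq hx12)).upd 0 2 1 (le_of_eq hx13)).upd 1 0 1 (le_of_eq hx21)).upd 1 3 2 (le_of_eq hx24)).upd 2 0 1 (le_of_eq hx31)).upd 2 3 1 (le_of_eq hx34)).upd 3 1 1 (le_of_eq hx42)).upd 3 2 1 (le_of_eq hx43)) ![1,1,1,1] (by decide) (by decide) 0 (by decide))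
        · -- 34=(1,2)
          exact False.elim (cert_false T ((skipEmb 2).trans (Function.Embedding.refl _)) (by norm_num) (fun _ => hall _) (((((((LB_zero T ((skipEmb 2).trans (Function.Embedding.refl _))).upd 0 2 1 (le_of_eq hx03)).upd 1 2 1 (le_of_eq hx13)).upd 2 0 1 (le_of_eq hx30)).upd 2 1 1 (le_of_eq hx31)).upd 2 3 1 (le_of_eq hx34)).upd 3 2 2 (le_of_eq hx43)) ![1,1,2,2] (by decide) (by decide) 0 (by decide))
        · -- 34=(2,1)
          exact False.elim (cert_false T ((skipEmb 2).trans (Function.Embedding.refl _)) (by norm_num) (fun _ => hall _) (((((((LB_zero T ((skipEmb 2).trans (Function.Embedding.refl _))).upd 0 2 1 (le_of_eq hx03)).upd 1 2 1 (le_of_eq hx13)).upd 2 0 1 (le_of_eq hx30)).upd 2 1 1 (le_of_eq hx31)).upd 2 3 2 (le_of_eq hx34)).upd 3 2 1 (le_of_eq hx43)) ![1,1,2,1] (by decide) (by decide) 0 (by decide))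
        · -- 34=(1,3)
          exact False.elim (cert_false T ((skipEmb 2).trans (Function.Embedding.refl _)) (by norm_num) (fun _ => hall _) (((((((LB_zero T ((skipEmb 2).trans (Function.Embedding.refl _))).upd 0 2 1 (le_of_eq hx03)).upd 1 2 1 (le_of_eq hx13)).upd 2 0 1 (le_of_eq hx30)).upd 2 1 1 (le_of_eq hx31)).upd 2 3 1 (le_of_eq hx34)).upd 3 2 3 (le_of_eq hx43)) ![1,1,2,2] (by decide) (by decide) 0 (by decide))
        · -- 34=(3,1)
          exact False.elim (cert_false T ((skipEmb 2).trans (Function.Embedding.refl _)) (by norm_num) (fun _ => hall _) (((((LB_zero T ((skipEmb 2).trans (Function.Embedding.refl _))).upd 1 2 1 (le_of_eq hx13)).upd 2 1 1 (le_of_eq hx31)).upd 2 3 3 (le_of_eq hx34)).upd 3 2 1 (le_of_eq hx43)) ![0,1,2,1] (by decide) (by decide) 1 (by decide))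
      · -- 24=(1,3)
        exact False.elim (cert_false T ((skipEmb 3).trans (Function.Embedding.refl _)) (by norm_num) (fun _ => hall _) (((((LB_zero T ((skipEmb 3).trans (Function.Embedding.refl _))).upd 1 2 1 (le_of_eq hx12)).upd 2 1 1 (le_of_eq hx21)).upd 2 3 1 (le_of_eq hx24)).upd 3 2 3 (le_of_eq hx42)) ![0,1,2,3] (by decide) (by decide) 1 (by decide))
      · -- 24=(3,1)
        exact False.elim (cert_false T ((skipEmb 3).trans (Function.Embedding.refl _)) (by norm_num) (fun _ => hall _) (((((LB_zero T ((skipEmb 3).trans (Function.Embedding.refl _))).upd 1 2 1 (le_of_eq hx12)).upd 2 1 1 (le_of_eq hx21)).upd 2 3 3 (le_of_eq hx24)).upd 3 2 1 (le_of_eq hx42)) ![0,1,2,1] (by decide) (by decide) 1 (by decide))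
    · -- 14=(1,1)
      rcases d24 with ⟨rfl, rfl⟩ | ⟨rfl, rfl⟩ | ⟨rfl, rfl⟩ | ⟨rfl, rfl⟩ | ⟨rfl, rfl⟩ | ⟨rfl, rfl⟩
      · -- 24=(0,0)
        rcases d34 with ⟨rfl, rfl⟩ | ⟨rfl, rfl⟩ | ⟨rfl, rfl⟩ | ⟨rfl, rfl⟩ | ⟨rfl, rfl⟩ | ⟨rfl, rfl⟩
        · -- 34=(0,0)
          exfalso; omega
        · -- 34=(1,1)
          exact False.elim (cert_false T ((skipEmb 2).trans (Function.Embedding.refl _)) (by norm_num) (fun _ => hall _) (((((((LB_zero T ((skipEmb 2).trans (Function.Embedding.refl _))).upd 1 2 1 (le_of_eq hx13)).upd 1 3 1 (le_of_eq hx14)).upd 2 1 1 (le_of_eq hx31)).upd 2 3 1 (le_of_eq hx34)).upd 3 1 1 (le_of_eq hx41)).upd 3 2 1 (le_of_eq hx43)) ![0,1,1,1] (by decide) (by decide) 1 (by decide))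
        · -- 34=(1,2)
          exact False.elim (cert_false T ((skipEmb 2).trans (Function.Embedding.refl _)) (by norm_num) (fun _ => hall _) (((((((LB_zero T ((skipEmb 2).trans (Function.Embedding.refl _))).upd 1 2 1 (le_of_eq hx13)).upd 1 3 1 (le_of_eq hx14)).upd 2 1 1 (le_of_eq hx31)).upd 2 3 1 (le_of_eq hx34)).upd 3 1 1 (le_of_eq hx41)).upd 3 2 2 (le_of_eq hx43)) ![0,1,1,1] (by decide) (by decide) 1 (by decide))
        · -- 34=(2,1)
          exact False.elim (cert_false T ((skipEmb 2).trans (Function.Embedding.refl _)) (by norm_num) (fun _ => hall _) (((((((LB_zero T ((skipEmb 2).trans (Function.Embedding.refl _))).upd 1 2 1 (le_of_eq hx13)).upd 1 3 1 (le_of_eq hx14)).upd 2 1 1 (le_of_eq hx31)).upd 2 3 2 (le_of_eq hx34)).upd 3 1 1 (le_of_eq hx41)).upd 3 2 1 (le_of_eq hx43)) ![0,1,1,1] (by decide) (by decide) 1 (by decide))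
        · -- 34=(1,3)
          exact False.elim (cert_false T ((skipEmb 2).trans (Function.Embedding.refl _)) (by norm_num) (fun _ => hall _) (((((((LB_zero T ((skipEmb 2).trans (Function.Embedding.refl _))).upd 1 2 1 (le_of_eq hx13)).upd 1 3 1 (le_of_eq hx14)).upd 2 1 1 (le_of_eq hx31)).upd 2 3 1 (le_of_eq hx34)).upd 3 1 1 (le_of_eq hx41)).upd 3 2 3 (le_of_eq hx43)) ![0,1,1,1] (by decide) (by decide) 1 (by decide))
        · -- 34=(3,1)
          exact False.elim (cert_false T ((skipEmb 2).trans (Function.Embedding.refl _)) (by norm_num) (fun _ => hall _) (((((((LB_zero T ((skipEmb 2).trans (Function.Embedding.refl _))).upd 1 2 1 (le_of_eq hx13)).upd 1 3 1 (le_of_eq hx14)).upd 2 1 1 (le_of_eq hx31)).upd 2 3 3 (le_of_eq hx34)).upd 3 1 1 (le_of_eq hx41)).upd 3 2 1 (le_of_eq hx43)) ![0,1,1,1] (by decide) (by decide) 1 (by decide))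
      · -- 24=(1,1)
        exact False.elim (cert_false T ((skipEmb 3).trans (Function.Embedding.refl _)) (by norm_num) (fun _ => hall _) (((((((LB_zero T ((skipEmb 3).trans (Function.Embedding.refl _))).upd 1 2 1 (le_of_eq hx12)).upd 1 3 1 (le_of_eq hx14)).upd 2 1 1 (le_of_eq hx21)).upd 2 3 1 (le_of_eq hx24)).upd 3 1 1 (le_of_eq hx41)).upd 3 2 1 (le_of_eq hx42)) ![0,1,1,1] (by decide) (by decide) 1 (by decide))
      · -- 24=(1,2)
        exact False.elim (cert_false T ((skipEmb 3).trans (Function.Embedding.refl _)) (by norm_num) (fun _ => hall _) (((((((LB_zero T ((skipEmb 3).trans (Function.Embedding.refl _))).upd 1 2 1 (le_of_eq hx12)).upd 1 3 1 (le_of_eq hx14)).upd 2 1 1 (le_of_eq hx21)).upd 2 3 1 (le_of_eq hx24)).upd 3 1 1 (le_of_eq hx41)).upd 3 2 2 (le_of_eq hx42)) ![0,1,1,1] (by decide) (by decide) 1 (by decide))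
      · -- 24=(2,1)
        exact False.elim (cert_false T ((skipEmb 3).trans (Function.Embedding.refl _)) (by norm_num) (fun _ => hall _) (((((((LB_zero T ((skipEmb 3).trans (Function.Embedding.refl _))).upd 1 2 1 (le_of_eq hx12)).upd 1 3 1 (le_of_eq hx14)).upd 2 1 1 (le_of_eq hx21)).upd 2 3 2 (le_of_eq hx24)).upd 3 1 1 (le_of_eq hx41)).upd 3 2 1 (le_of_eq hx42)) ![0,1,1,1] (by decide) (by decide) 1 (by decide))
      · -- 24=(1,3)
        exact False.elim (cert_false T ((skipEmb 3).trans (Function.Embedding.refl _)) (by norm_num) (fun _ => hall _) (((((((LB_zero T ((skipEmb 3).trans (Function.Embedding.refl _))).upd 1 2 1 (le_of_eq hx12)).upd 1 3 1 (le_of_eq hx14)).upd 2 1 1 (le_of_eq hx21)).upd 2 3 1 (le_of_eq hx24)).upd 3 1 1 (le_of_eq hx41)).upd 3 2 3 (le_of_eq hx42)) ![0,1,1,1] (by decide) (by decide) 1 (by decide))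
      · -- 24=(3,1)
        exact False.elim (cert_false T ((skipEmb 3).trans (Function.Embedding.refl _)) (by norm_num) (fun _ => hall _) (((((((LB_zero T ((skipEmb 3).trans (Function.Embedding.refl _))).upd 1 2 1 (le_of_eq hx12)).upd 1 3 1 (le_of_eq hx14)).upd 2 1 1 (le_of_eq hx21)).upd 2 3 3 (le_of_eq hx24)).upd 3 1 1 (le_of_eq hx41)).upd 3 2 1 (le_of_eq hx42)) ![0,1,1,1] (by decide) (by decide) 1 (by decide))
    · -- 14=(1,2)
      exact False.elim (cert_false T ((skipEmb 0).trans (Function.Embedding.refl _)) (by norm_num) (fun _ => hall _) (((((((LB_zero T ((skipEmb 0).trans (Function.Embedding.refl _))).upd 0 1 1 (le_of_eq hx12)).upd 0 2 1 (le_of_eq hx13)).upd 0 3 1 (le_of_eq hx14)).upd 1 0 1 (le_of_eq hx21)).upd 2 0 1 (le_of_eq hx31)).upd 3 0 2 (le_of_eq hx41)) ![2,1,1,2] (by decide) (by decide) 0 (by decide))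
    · -- 14=(2,1)
      exact False.elim (cert_false T ((skipEmb 0).trans (Function.Embedding.refl _)) (by norm_num) (fun _ => hall _) (((((((LB_zero T ((skipEmb 0).trans (Function.Embedding.refl _))).upd 0 1 1 (le_of_eq hx12)).upd 0 2 1 (le_of_eq hx13)).upd 0 3 2 (le_of_eq hx14)).upd 1 0 1 (le_of_eq hx21)).upd 2 0 1 (le_of_eq hx31)).upd 3 0 1 (le_of_eq hx41)) ![2,1,1,1] (by decide) (by decide) 0 (by decide))
    · -- 14=(1,3)
      exact False.elim (cert_false T ((skipEmb 3).trans (Function.Embedding.refl _)) (by norm_num) (fun _ => hall _) (((((LB_zero T ((skipEmb 3).trans (Function.Embedding.refl _))).upd 1 2 1 (le_of_eq hx12)).upd 1 3 1 (le_of_eq hx14)).upd 2 1 1 (le_of_eq hx21)).upd 3 1 3 (le_of_eq hx41)) ![0,2,1,3] (by decide) (by decide) 1 (by decide))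
    · -- 14=(3,1)
      exact False.elim (cert_false T ((skipEmb 3).trans (Function.Embedding.refl _)) (by norm_num) (fun _ => hall _) (((((LB_zero T ((skipEmb 3).trans (Function.Embedding.refl _))).upd 1 2 1 (le_of_eq hx12)).upd 1 3 3 (le_of_eq hx14)).upd 2 1 1 (le_of_eq hx21)).upd 3 1 1 (le_of_eq hx41)) ![0,2,1,1] (by decide) (by decide) 1 (by decide))
  · -- 04=(1,1)
    rcases d14 with ⟨rfl, rfl⟩ | ⟨rfl, rfl⟩ | ⟨rfl, rfl⟩ | ⟨rfl, rfl⟩ | ⟨rfl, rfl⟩ | ⟨rfl, rfl⟩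
    · -- 14=(0,0)
      rcases d24 with ⟨rfl, rfl⟩ | ⟨rfl, rfl⟩ | ⟨rfl, rfl⟩ | ⟨rfl, rfl⟩ | ⟨rfl, rfl⟩ | ⟨rfl, rfl⟩
      · -- 24=(0,0)
        rcases d34 with ⟨rfl, rfl⟩ | ⟨rfl, rfl⟩ | ⟨rfl, rfl⟩ | ⟨rfl, rfl⟩ | ⟨rfl, rfl⟩ | ⟨rfl, rfl⟩
        · -- 34=(0,0)
          exfalso; omega
        · -- 34=(1,1)
          exact False.elim (cert_false T ((skipEmb 2).trans (Function.Embedding.refl _)) (by norm_num) (fun _ => hall _) (((((((LB_zero T ((skipEmb 2).trans (Function.Embedding.refl _))).upd 0 2 1 (le_of_eq hx03)).upd 0 3 1 (le_of_eq hx04)).upd 2 0 1 (le_of_eq hx30)).upd 2 3 1 (le_of_eq hx34)).upd 3 0 1 (le_of_eq hx40)).upd 3 2 1 (le_of_eq hx43)) ![1,0,1,1] (by decide) (by decide) 0 (by decide))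
        · -- 34=(1,2)
          exact False.elim (cert_false T ((skipEmb 2).trans (Function.Embedding.refl _)) (by norm_num) (fun _ => hall _) (((((((LB_zero T ((skipEmb 2).trans (Function.Embedding.refl _))).upd 0 2 1 (le_of_eq hx03)).upd 0 3 1 (le_of_eq hx04)).upd 2 0 1 (le_of_eq hx30)).upd 2 3 1 (le_of_eq hx34)).upd 3 0 1 (le_of_eq hx40)).upd 3 2 2 (le_of_eq hx43)) ![1,0,1,1] (by decide) (by decide) 0 (by decide))
        · -- 34=(2,1)
          exact False.elim (cert_false T ((skipEmb 2).trans (Function.Embedding.refl _)) (by norm_num) (fun _ => hall _) (((((((LB_zero T ((skipEmb 2).trans (Function.Embedding.refl _))).upd 0 2 1 (le_of_eq hx03)).upd 0 3 1 (le_of_eq hx04)).upd 2 0 1 (le_of_eq hx30)).upd 2 3 2 (le_of_eq hx34)).upd 3 0 1 (le_of_eq hx40)).upd 3 2 1 (le_of_eq hx43)) ![1,0,1,1] (by decide) (by decide) 0 (by decide))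
        · -- 34=(1,3)
          exact False.elim (cert_false T ((skipEmb 2).trans (Function.Embedding.refl _)) (by norm_num) (fun _ => hall _) (((((((LB_zero T ((skipEmb 2).trans (Function.Embedding.refl _))).upd 0 2 1 (le_of_eq hx03)).upd 0 3 1 (le_of_eq hx04)).upd 2 0 1 (le_of_eq hx30)).upd 2 3 1 (le_of_eq hx34)).upd 3 0 1 (le_of_eq hx40)).upd 3 2 3 (le_of_eq hx43)) ![1,0,1,1] (by decide) (by decide) 0 (by decide))
        · -- 34=(3,1)
          exact False.elim (cert_false T ((skipEmb 2).trans (Function.Embedding.refl _)) (by norm_num) (fun _ => hall _) (((((((LB_zero T ((skipEmb 2).trans (Function.Embedding.refl _))).upd 0 2 1 (le_of_eq hx03)).upd 0 3 1 (le_of_eq hx04)).upd 2 0 1 (le_of_eq hx30)).upd 2 3 3 (le_of_eq hx34)).upd 3 0 1 (le_of_eq hx40)).upd 3 2 1 (le_of_eq hx43)) ![1,0,1,1] (by decide) (by decide) 0 (by decide))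
      · -- 24=(1,1)
        rcases d34 with ⟨rfl, rfl⟩ | ⟨rfl, rfl⟩ | ⟨rfl, rfl⟩ | ⟨rfl, rfl⟩ | ⟨rfl, rfl⟩ | ⟨rfl, rfl⟩
        · -- 34=(0,0)
          refine ⟨(⟨![0, 3, 1, 2, 4], ![0, 2, 3, 1, 4], by decide, by decide⟩ : Equiv.Perm (Fin 5)), T.m 0, T.w 0, Or.inl ?_⟩
          show T.m 0 = T.m 0 ∧ T.m 3 = T.m 0 ∧ T.m 1 = T.m 0 ∧ T.m 2 = T.m 0 ∧ T.m 4 = T.m 0 ∧ T.w 0 = T.w 0 ∧ T.w 3 = T.w 0 ∧ T.w 1 = T.w 0 ∧ T.w 2 = T.w 0 ∧ T.w 4 = T.w 0 ∧ T.a 0 0 = -2 * T.w 0 ∧ T.a 0 3 = T.w 0 ∧ T.a 0 1 = 0 ∧ T.a 0 2 = 0 ∧ T.a 0 4 = T.w 0 ∧ T.a 3 3 = -2 * T.w 0 ∧ T.a 3 1 = T.w 0 ∧ T.a 3 2 = 0 ∧ T.a 3 4 = 0 ∧ T.a 1 1 = -2 * T.w 0 ∧ T.a 1 2 = T.w 0 ∧ T.a 1 4 = 0 ∧ T.a 2 2 = -2 * T.w 0 ∧ T.a 2 4 = T.w 0 ∧ T.a 4 4 = -2 * T.w 0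
          refine ⟨?_, ?_, ?_, ?_, ?_, ?_, ?_, ?_, ?_, ?_, ?_, ?_, ?_, ?_, ?_, ?_, ?_, ?_, ?_, ?_, ?_, ?_, ?_, ?_, ?_⟩ <;> omega
        · -- 34=(1,1)
          exact False.elim (cert_false T ((skipEmb 2).trans (Function.Embedding.refl _)) (by norm_num) (fun _ => hall _) (((((((LB_zero T ((skipEmb 2).trans (Function.Embedding.refl _))).upd 0 2 1 (le_of_eq hx03)).upd 0 3 1 (le_of_eq hx04)).upd 2 0 1 (le_of_eq hx30)).upd 2 3 1 (le_of_eq hx34)).upd 3 0 1 (le_of_eq hx40)).upd 3 2 1 (le_of_eq hx43)) ![1,0,1,1] (by decide) (by decide) 0 (by decide))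
        · -- 34=(1,2)
          exact False.elim (cert_false T ((skipEmb 2).trans (Function.Embedding.refl _)) (by norm_num) (fun _ => hall _) (((((((LB_zero T ((skipEmb 2).trans (Function.Embedding.refl _))).upd 0 2 1 (le_of_eq hx03)).upd 0 3 1 (le_of_eq hx04)).upd 2 0 1 (le_of_eq hx30)).upd 2 3 1 (le_of_eq hx34)).upd 3 0 1 (le_of_eq hx40)).upd 3 2 2 (le_of_eq hx43)) ![1,0,1,1] (by decide) (by decide) 0 (by decide))
        · -- 34=(2,1)
          exact False.elim (cert_false T ((skipEmb 2).trans (Function.Embedding.refl _)) (by norm_num) (fun _ => hall _) (((((((LB_zero T ((skipEmb 2).trans (Function.Embedding.refl _))).upd 0 2 1 (le_of_eq hx03)).upd 0 3 1 (le_of_eq hx04)).upd 2 0 1 (le_of_eq hx30)).upd 2 3 2 (le_of_eq hx34)).upd 3 0 1 (le_of_eq hx40)).upd 3 2 1 (le_of_eq hx43)) ![1,0,1,1] (by decide) (by decide) 0 (by decide))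
        · -- 34=(1,3)
          exact False.elim (cert_false T ((skipEmb 2).trans (Function.Embedding.refl _)) (by norm_num) (fun _ => hall _) (((((((LB_zero T ((skipEmb 2).trans (Function.Embedding.refl _))).upd 0 2 1 (le_of_eq hx03)).upd 0 3 1 (le_of_eq hx04)).upd 2 0 1 (le_of_eq hx30)).upd 2 3 1 (le_of_eq hx34)).upd 3 0 1 (le_of_eq hx40)).upd 3 2 3 (le_of_eq hx43)) ![1,0,1,1] (by decide) (by decide) 0 (by decide))
        · -- 34=(3,1)
          exact False.elim (cert_false T ((skipEmb 2).trans (Function.Embedding.refl _)) (by norm_num) (fun _ => hall _) (((((((LB_zero T ((skipEmb 2).trans (Function.Embedding.refl _))).upd 0 2 1 (le_of_eq hx03)).upd 0 3 1 (le_of_eq hx04)).upd 2 0 1 (le_of_eq hx30)).upd 2 3 3 (le_of_eq hx34)).upd 3 0 1 (le_of_eq hx40)).upd 3 2 1 (le_of_eq hx43)) ![1,0,1,1] (by decide) (by decide) 0 (by decide))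
      · -- 24=(1,2)
        rcases d34 with ⟨rfl, rfl⟩ | ⟨rfl, rfl⟩ | ⟨rfl, rfl⟩ | ⟨rfl, rfl⟩ | ⟨rfl, rfl⟩ | ⟨rfl, rfl⟩
        · -- 34=(0,0)
          exfalso; omega
        · -- 34=(1,1)
          exact False.elim (cert_false T ((skipEmb 2).trans (Function.Embedding.refl _)) (by norm_num) (fun _ => hall _) (((((((LB_zero T ((skipEmb 2).trans (Function.Embedding.refl _))).upd 0 2 1 (le_of_eq hx03)).upd 0 3 1 (le_of_eq hx04)).upd 2 0 1 (le_of_eq hx30)).upd 2 3 1 (le_of_eq hx34)).upd 3 0 1 (le_of_eq hx40)).upd 3 2 1 (le_of_eq hx43)) ![1,0,1,1] (by decide) (by decide) 0 (by decide))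
        · -- 34=(1,2)
          exact False.elim (cert_false T ((skipEmb 2).trans (Function.Embedding.refl _)) (by norm_num) (fun _ => hall _) (((((((LB_zero T ((skipEmb 2).trans (Function.Embedding.refl _))).upd 0 2 1 (le_of_eq hx03)).upd 0 3 1 (le_of_eq hx04)).upd 2 0 1 (le_of_eq hx30)).upd 2 3 1 (le_of_eq hx34)).upd 3 0 1 (le_of_eq hx40)).upd 3 2 2 (le_of_eq hx43)) ![1,0,1,1] (by decide) (by decide) 0 (by decide))
        · -- 34=(2,1)
          exact False.elim (cert_false T ((skipEmb 2).trans (Function.Embedding.refl _)) (by norm_num) (fun _ => hall _) (((((((LB_zero T ((skipEmb 2).trans (Function.Embedding.refl _))).upd 0 2 1 (le_of_eq hx03)).upd 0 3 1 (le_of_eq hx04)).upd 2 0 1 (le_of_eq hx30)).upd 2 3 2 (le_of_eq hx34)).upd 3 0 1 (le_of_eq hx40)).upd 3 2 1 (le_of_eq hx43)) ![1,0,1,1] (by decide) (by decide) 0 (by decide))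
        · -- 34=(1,3)
          exact False.elim (cert_false T ((skipEmb 2).trans (Function.Embedding.refl _)) (by norm_num) (fun _ => hall _) (((((((LB_zero T ((skipEmb 2).trans (Function.Embedding.refl _))).upd 0 2 1 (le_of_eq hx03)).upd 0 3 1 (le_of_eq hx04)).upd 2 0 1 (le_of_eq hx30)).upd 2 3 1 (le_of_eq hx34)).upd 3 0 1 (le_of_eq hx40)).upd 3 2 3 (le_of_eq hx43)) ![1,0,1,1] (by decide) (by decide) 0 (by decide))
        · -- 34=(3,1)
          exact False.elim (cert_false T ((skipEmb 2).trans (Function.Embedding.refl _)) (by norm_num) (fun _ => hall _) (((((((LB_zero T ((skipEmb 2).trans (Function.Embedding.refl _))).upd 0 2 1 (le_of_eq hx03)).upd 0 3 1 (le_of_eq hx04)).upd 2 0 1 (le_of_eq hx30)).upd 2 3 3 (le_of_eq hx34)).upd 3 0 1 (le_of_eq hx40)).upd 3 2 1 (le_of_eq hx43)) ![1,0,1,1] (by decide) (by decide) 0 (by decide))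
      · -- 24=(2,1)
        rcases d34 with ⟨rfl, rfl⟩ | ⟨rfl, rfl⟩ | ⟨rfl, rfl⟩ | ⟨rfl, rfl⟩ | ⟨rfl, rfl⟩ | ⟨rfl, rfl⟩
        · -- 34=(0,0)
          exfalso; omega
        · -- 34=(1,1)
          exact False.elim (cert_false T ((skipEmb 2).trans (Function.Embedding.refl _)) (by norm_num) (fun _ => hall _) (((((((LB_zero T ((skipEmb 2).trans (Function.Embedding.refl _))).upd 0 2 1 (le_of_eq hx03)).upd 0 3 1 (le_of_eq hx04)).upd 2 0 1 (le_of_eq hx30)).upd 2 3 1 (le_of_eq hx34)).upd 3 0 1 (le_of_eq hx40)).upd 3 2 1 (le_of_eq hx43)) ![1,0,1,1] (by decide) (by decide) 0 (by decide))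
        · -- 34=(1,2)
          exact False.elim (cert_false T ((skipEmb 2).trans (Function.Embedding.refl _)) (by norm_num) (fun _ => hall _) (((((((LB_zero T ((skipEmb 2).trans (Function.Embedding.refl _))).upd 0 2 1 (le_of_eq hx03)).upd 0 3 1 (le_of_eq hx04)).upd 2 0 1 (le_of_eq hx30)).upd 2 3 1 (le_of_eq hx34)).upd 3 0 1 (le_of_eq hx40)).upd 3 2 2 (le_of_eq hx43)) ![1,0,1,1] (by decide) (by decide) 0 (by decide))
        · -- 34=(2,1)
          exact False.elim (cert_false T ((skipEmb 2).trans (Function.Embedding.refl _)) (by norm_num) (fun _ => hall _) (((((((LB_zero T ((skipEmb 2).trans (Function.Embedding.refl _))).upd 0 2 1 (le_of_eq hx03)).upd 0 3 1 (le_of_eq hx04)).upd 2 0 1 (le_of_eq hx30)).upd 2 3 2 (le_of_eq hx34)).upd 3 0 1 (le_of_eq hx40)).upd 3 2 1 (le_of_eq hx43)) ![1,0,1,1] (by decide) (by decide) 0 (by decide))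
        · -- 34=(1,3)
          exact False.elim (cert_false T ((skipEmb 2).trans (Function.Embedding.refl _)) (by norm_num) (fun _ => hall _) (((((((LB_zero T ((skipEmb 2).trans (Function.Embedding.refl _))).upd 0 2 1 (le_of_eq hx03)).upd 0 3 1 (le_of_eq hx04)).upd 2 0 1 (le_of_eq hx30)).upd 2 3 1 (le_of_eq hx34)).upd 3 0 1 (le_of_eq hx40)).upd 3 2 3 (le_of_eq hx43)) ![1,0,1,1] (by decide) (by decide) 0 (by decide))
        · -- 34=(3,1)
          exact False.elim (cert_false T ((skipEmb 2).trans (Function.Embedding.refl _)) (by norm_num) (fun _ => hall _) (((((((LB_zero T ((skipEmb 2).trans (Function.Embedding.refl _))).upd 0 2 1 (le_of_eq hx03)).upd 0 3 1 (le_of_eq hx04)).upd 2 0 1 (le_of_eq hx30)).upd 2 3 3 (le_of_eq hx34)).upd 3 0 1 (le_of_eq hx40)).upd 3 2 1 (le_of_eq hx43)) ![1,0,1,1] (by decide) (by decide) 0 (by decide))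
      · -- 24=(1,3)
        exact False.elim (cert_false T ((skipEmb 3).trans (Function.Embedding.refl _)) (by norm_num) (fun _ => hall _) (((((LB_zero T ((skipEmb 3).trans (Function.Embedding.refl _))).upd 0 3 1 (le_of_eq hx04)).upd 2 3 1 (le_of_eq hx24)).upd 3 0 1 (le_of_eq hx40)).upd 3 2 3 (le_of_eq hx42)) ![1,0,1,2] (by decide) (by decide) 0 (by decide))
      · -- 24=(3,1)
        exact False.elim (cert_false T ((skipEmb 3).trans (Function.Embedding.refl _)) (by norm_num) (fun _ => hall _) (((((LB_zero T ((skipEmb 3).trans (Function.Embedding.refl _))).upd 1 2 1 (le_of_eq hx12)).upd 2 1 1 (le_of_eq hx21)).upd 2 3 3 (le_of_eq hx24)).upd 3 2 1 (le_of_eq hx42)) ![0,1,2,1] (by decide) (by decide) 1 (by decide))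
    · -- 14=(1,1)
      exact False.elim (cert_false T ((skipEmb 2).trans (Function.Embedding.refl _)) (by norm_num) (fun _ => hall _) (((((((((LB_zero T ((skipEmb 2).trans (Function.Embedding.refl _))).upd 0 2 1 (le_of_eq hx03)).upd 0 3 1 (le_of_eq hx04)).upd 1 2 1 (le_of_eq hx13)).upd 1 3 1 (le_of_eq hx14)).upd 2 0 1 (le_of_eq hx30)).upd 2 1 1 (le_of_eq hx31)).upd 3 0 1 (le_of_eq hx40)).upd 3 1 1 (le_of_eq hx41)) ![1,1,1,1] (by decide) (by decide) 0 (by decide))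
    · -- 14=(1,2)
      exact False.elim (cert_false T ((skipEmb 2).trans (Function.Embedding.refl _)) (by norm_num) (fun _ => hall _) (((((((((LB_zero T ((skipEmb 2).trans (Function.Embedding.refl _))).upd 0 2 1 (le_of_eq hx03)).upd 0 3 1 (le_of_eq hx04)).upd 1 2 1 (le_of_eq hx13)).upd 1 3 1 (le_of_eq hx14)).upd 2 0 1 (le_of_eq hx30)).upd 2 1 1 (le_of_eq hx31)).upd 3 0 1 (le_of_eq hx40)).upd 3 1 2 (le_of_eq hx41)) ![1,1,1,1] (by decide) (by decide) 0 (by decide))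
    · -- 14=(2,1)
      exact False.elim (cert_false T ((skipEmb 2).trans (Function.Embedding.refl _)) (by norm_num) (fun _ => hall _) (((((((((LB_zero T ((skipEmb 2).trans (Function.Embedding.refl _))).upd 0 2 1 (le_of_eq hx03)).upd 0 3 1 (le_of_eq hx04)).upd 1 2 1 (le_of_eq hx13)).upd 1 3 2 (le_of_eq hx14)).upd 2 0 1 (le_of_eq hx30)).upd 2 1 1 (le_of_eq hx31)).upd 3 0 1 (le_of_eq hx40)).upd 3 1 1 (le_of_eq hx41)) ![1,1,1,1] (by decide) (by decide) 0 (by decide))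
    · -- 14=(1,3)
      exact False.elim (cert_false T ((skipEmb 3).trans (Function.Embedding.refl _)) (by norm_num) (fun _ => hall _) (((((LB_zero T ((skipEmb 3).trans (Function.Embedding.refl _))).upd 0 3 1 (le_of_eq hx04)).upd 1 3 1 (le_of_eq hx14)).upd 3 0 1 (le_of_eq hx40)).upd 3 1 3 (le_of_eq hx41)) ![1,1,0,2] (by decide) (by decide) 0 (by decide))
    · -- 14=(3,1)
      exact False.elim (cert_false T ((skipEmb 3).trans (Function.Embedding.refl _)) (by norm_num) (fun _ => hall _) (((((LB_zero T ((skipEmb 3).trans (Function.Embedding.refl _))).upd 1 2 1 (le_of_eq hx12)).upd 1 3 3 (le_of_eq hx14)).upd 2 1 1 (le_of_eq hx21)).upd 3 1 1 (le_of_eq hx41)) ![0,2,1,1] (by decide) (by decide) 1 (by decide))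
  · -- 04=(1,2)
    rcases d14 with ⟨rfl, rfl⟩ | ⟨rfl, rfl⟩ | ⟨rfl, rfl⟩ | ⟨rfl, rfl⟩ | ⟨rfl, rfl⟩ | ⟨rfl, rfl⟩
    · -- 14=(0,0)
      rcases d24 with ⟨rfl, rfl⟩ | ⟨rfl, rfl⟩ | ⟨rfl, rfl⟩ | ⟨rfl, rfl⟩ | ⟨rfl, rfl⟩ | ⟨rfl, rfl⟩
      · -- 24=(0,0)
        rcases d34 with ⟨rfl, rfl⟩ | ⟨rfl, rfl⟩ | ⟨rfl, rfl⟩ | ⟨rfl, rfl⟩ | ⟨rfl, rfl⟩ | ⟨rfl, rfl⟩
        · -- 34=(0,0)
          exfalso; omega
        · -- 34=(1,1)
          exact False.elim (cert_false T ((skipEmb 2).trans (Function.Embedding.refl _)) (by norm_num) (fun _ => hall _) (((((((LB_zero T ((skipEmb 2).trans (Function.Embedding.refl _))).upd 0 2 1 (le_of_eq hx03)).upd 0 3 1 (le_of_eq hx04)).upd 2 0 1 (le_of_eq hx30)).upd 2 3 1 (le_of_eq hx34)).upd 3 0 2 (le_of_eq hx40)).upd 3 2 1 (le_of_eq hx43)) ![1,0,1,1] (by decide) (by decide) 0 (by decide))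
        · -- 34=(1,2)
          exact False.elim (cert_false T ((skipEmb 2).trans (Function.Embedding.refl _)) (by norm_num) (fun _ => hall _) (((((((LB_zero T ((skipEmb 2).trans (Function.Embedding.refl _))).upd 0 2 1 (le_of_eq hx03)).upd 0 3 1 (le_of_eq hx04)).upd 2 0 1 (le_of_eq hx30)).upd 2 3 1 (le_of_eq hx34)).upd 3 0 2 (le_of_eq hx40)).upd 3 2 2 (le_of_eq hx43)) ![1,0,1,1] (by decide) (by decide) 0 (by decide))
        · -- 34=(2,1)
          exact False.elim (cert_false T ((skipEmb 2).trans (Function.Embedding.refl _)) (by norm_num) (fun _ => hall _) (((((((LB_zero T ((skipEmb 2).trans (Function.Embedding.refl _))).upd 0 2 1 (le_of_eq hx03)).upd 0 3 1 (le_of_eq hx04)).upd 2 0 1 (le_of_eq hx30)).upd 2 3 2 (le_of_eq hx34)).upd 3 0 2 (le_of_eq hx40)).upd 3 2 1 (le_of_eq hx43)) ![1,0,1,1] (by decide) (by decide) 0 (by decide))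
        · -- 34=(1,3)
          exact False.elim (cert_false T ((skipEmb 2).trans (Function.Embedding.refl _)) (by norm_num) (fun _ => hall _) (((((((LB_zero T ((skipEmb 2).trans (Function.Embedding.refl _))).upd 0 2 1 (le_of_eq hx03)).upd 0 3 1 (le_of_eq hx04)).upd 2 0 1 (le_of_eq hx30)).upd 2 3 1 (le_of_eq hx34)).upd 3 0 2 (le_of_eq hx40)).upd 3 2 3 (le_of_eq hx43)) ![1,0,1,1] (by decide) (by decide) 0 (by decide))
        · -- 34=(3,1)
          exact False.elim (cert_false T ((skipEmb 2).trans (Function.Embedding.refl _)) (by norm_num) (fun _ => hall _) (((((((LB_zero T ((skipEmb 2).trans (Function.Embedding.refl _))).upd 0 2 1 (le_of_eq hx03)).upd 0 3 1 (le_of_eq hx04)).upd 2 0 1 (le_of_eq hx30)).upd 2 3 3 (le_of_eq hx34)).upd 3 0 2 (le_of_eq hx40)).upd 3 2 1 (le_of_eq hx43)) ![1,0,1,1] (by decide) (by decide) 0 (by decide))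
      · -- 24=(1,1)
        rcases d34 with ⟨rfl, rfl⟩ | ⟨rfl, rfl⟩ | ⟨rfl, rfl⟩ | ⟨rfl, rfl⟩ | ⟨rfl, rfl⟩ | ⟨rfl, rfl⟩
        · -- 34=(0,0)
          exfalso; omega
        · -- 34=(1,1)
          exact False.elim (cert_false T ((skipEmb 2).trans (Function.Embedding.refl _)) (by norm_num) (fun _ => hall _) (((((((LB_zero T ((skipEmb 2).trans (Function.Embedding.refl _))).upd 0 2 1 (le_of_eq hx03)).upd 0 3 1 (le_of_eq hx04)).upd 2 0 1 (le_of_eq hx30)).upd 2 3 1 (le_of_eq hx34)).upd 3 0 2 (le_of_eq hx40)).upd 3 2 1 (le_of_eq hx43)) ![1,0,1,1] (by decide) (by decide) 0 (by decide))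
        · -- 34=(1,2)
          exact False.elim (cert_false T ((skipEmb 2).trans (Function.Embedding.refl _)) (by norm_num) (fun _ => hall _) (((((((LB_zero T ((skipEmb 2).trans (Function.Embedding.refl _))).upd 0 2 1 (le_of_eq hx03)).upd 0 3 1 (le_of_eq hx04)).upd 2 0 1 (le_of_eq hx30)).upd 2 3 1 (le_of_eq hx34)).upd 3 0 2 (le_of_eq hx40)).upd 3 2 2 (le_of_eq hx43)) ![1,0,1,1] (by decide) (by decide) 0 (by decide))
        · -- 34=(2,1)
          exact False.elim (cert_false T ((skipEmb 2).trans (Function.Embedding.refl _)) (by norm_num) (fun _ => hall _) (((((((LB_zero T ((skipEmb 2).trans (Function.Embedding.refl _))).upd 0 2 1 (le_of_eq hx03)).upd 0 3 1 (le_of_eq hx04)).upd 2 0 1 (le_of_eq hx30)).upd 2 3 2 (le_of_eq hx34)).upd 3 0 2 (le_of_eq hx40)).upd 3 2 1 (le_of_eq hx43)) ![1,0,1,1] (by decide) (by decide) 0 (by decide))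
        · -- 34=(1,3)
          exact False.elim (cert_false T ((skipEmb 2).trans (Function.Embedding.refl _)) (by norm_num) (fun _ => hall _) (((((((LB_zero T ((skipEmb 2).trans (Function.Embedding.refl _))).upd 0 2 1 (le_of_eq hx03)).upd 0 3 1 (le_of_eq hx04)).upd 2 0 1 (le_of_eq hx30)).upd 2 3 1 (le_of_eq hx34)).upd 3 0 2 (le_of_eq hx40)).upd 3 2 3 (le_of_eq hx43)) ![1,0,1,1] (by decide) (by decide) 0 (by decide))
        · -- 34=(3,1)
          exact False.elim (cert_false T ((skipEmb 2).trans (Function.Embedding.refl _)) (by norm_num) (fun _ => hall _) (((((((LB_zero T ((skipEmb 2).trans (Function.Embedding.refl _))).upd 0 2 1 (le_of_eq hx03)).upd 0 3 1 (le_of_eq hx04)).upd 2 0 1 (le_of_eq hx30)).upd 2 3 3 (le_of_eq hx34)).upd 3 0 2 (le_of_eq hx40)).upd 3 2 1 (le_of_eq hx43)) ![1,0,1,1] (by decide) (by decide) 0 (by decide))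
      · -- 24=(1,2)
        exact False.elim (cert_false T ((skipEmb 3).trans (Function.Embedding.refl _)) (by norm_num) (fun _ => hall _) (((((LB_zero T ((skipEmb 3).trans (Function.Embedding.refl _))).upd 0 3 1 (le_of_eq hx04)).upd 2 3 1 (le_of_eq hx24)).upd 3 0 2 (le_of_eq hx40)).upd 3 2 2 (le_of_eq hx42)) ![1,0,1,2] (by decide) (by decide) 0 (by decide))
      · -- 24=(2,1)
        exact False.elim (cert_false T ((skipEmb 3).trans (Function.Embedding.refl _)) (by norm_num) (fun _ => hall _) (((((LB_zero T ((skipEmb 3).trans (Function.Embedding.refl _))).upd 0 3 1 (le_of_eq hx04)).upd 2 3 2 (le_of_eq hx24)).upd 3 0 2 (le_of_eq hx40)).upd 3 2 1 (le_of_eq hx42)) ![1,0,2,2] (by decide) (by decide) 0 (by decide))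
      · -- 24=(1,3)
        exact False.elim (cert_false T ((skipEmb 3).trans (Function.Embedding.refl _)) (by norm_num) (fun _ => hall _) (((((LB_zero T ((skipEmb 3).trans (Function.Embedding.refl _))).upd 0 3 1 (le_of_eq hx04)).upd 2 3 1 (le_of_eq hx24)).upd 3 0 2 (le_of_eq hx40)).upd 3 2 3 (le_of_eq hx42)) ![1,0,1,2] (by decide) (by decide) 0 (by decide))
      · -- 24=(3,1)
        exact False.elim (cert_false T ((skipEmb 3).trans (Function.Embedding.refl _)) (by norm_num) (fun _ => hall _) (((((LB_zero T ((skipEmb 3).trans (Function.Embedding.refl _))).upd 0 3 1 (le_of_eq hx04)).upd 2 3 3 (le_of_eq hx24)).upd 3 0 2 (le_of_eq hx40)).upd 3 2 1 (le_of_eq hx42)) ![1,0,2,2] (by decide) (by decide) 0 (by decide))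
    · -- 14=(1,1)
      exact False.elim (cert_false T ((skipEmb 2).trans (Function.Embedding.refl _)) (by norm_num) (fun _ => hall _) (((((((((LB_zero T ((skipEmb 2).trans (Function.Embedding.refl _))).upd 0 2 1 (le_of_eq hx03)).upd 0 3 1 (le_of_eq hx04)).upd 1 2 1 (le_of_eq hx13)).upd 1 3 1 (le_of_eq hx14)).upd 2 0 1 (le_of_eq hx30)).upd 2 1 1 (le_of_eq hx31)).upd 3 0 2 (le_of_eq hx40)).upd 3 1 1 (le_of_eq hx41)) ![1,1,1,1] (by decide) (by decide) 0 (by decide))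
    · -- 14=(1,2)
      exact False.elim (cert_false T ((skipEmb 3).trans (Function.Embedding.refl _)) (by norm_num) (fun _ => hall _) (((((LB_zero T ((skipEmb 3).trans (Function.Embedding.refl _))).upd 0 3 1 (le_of_eq hx04)).upd 1 3 1 (le_of_eq hx14)).upd 3 0 2 (le_of_eq hx40)).upd 3 1 2 (le_of_eq hx41)) ![1,1,0,2] (by decide) (by decide) 0 (by decide))
    · -- 14=(2,1)
      exact False.elim (cert_false T ((skipEmb 3).trans (Function.Embedding.refl _)) (by norm_num) (fun _ => hall _) (((((LB_zero T ((skipEmb 3).trans (Function.Embedding.refl _))).upd 0 3 1 (le_of_eq hx04)).upd 1 3 2 (le_of_eq hx14)).upd 3 0 2 (le_of_eq hx40)).upd 3 1 1 (le_of_eq hx41)) ![1,2,0,2] (by decide) (by decide) 0 (by decide))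
    · -- 14=(1,3)
      exact False.elim (cert_false T ((skipEmb 3).trans (Function.Embedding.refl _)) (by norm_num) (fun _ => hall _) (((((LB_zero T ((skipEmb 3).trans (Function.Embedding.refl _))).upd 0 3 1 (le_of_eq hx04)).upd 1 3 1 (le_of_eq hx14)).upd 3 0 2 (le_of_eq hx40)).upd 3 1 3 (le_of_eq hx41)) ![1,1,0,2] (by decide) (by decide) 0 (by decide))
    · -- 14=(3,1)
      exact False.elim (cert_false T ((skipEmb 3).trans (Function.Embedding.refl _)) (by norm_num) (fun _ => hall _) (((((LB_zero T ((skipEmb 3).trans (Function.Embedding.refl _))).upd 0 3 1 (le_of_eq hx04)).upd 1 3 3 (le_of_eq hx14)).upd 3 0 2 (le_of_eq hx40)).upd 3 1 1 (le_of_eq hx41)) ![1,2,0,2] (by decide) (by decide) 0 (by decide))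
  · -- 04=(2,1)
    rcases d14 with ⟨rfl, rfl⟩ | ⟨rfl, rfl⟩ | ⟨rfl, rfl⟩ | ⟨rfl, rfl⟩ | ⟨rfl, rfl⟩ | ⟨rfl, rfl⟩
    · -- 14=(0,0)
      rcases d24 with ⟨rfl, rfl⟩ | ⟨rfl, rfl⟩ | ⟨rfl, rfl⟩ | ⟨rfl, rfl⟩ | ⟨rfl, rfl⟩ | ⟨rfl, rfl⟩
      · -- 24=(0,0)
        rcases d34 with ⟨rfl, rfl⟩ | ⟨rfl, rfl⟩ | ⟨rfl, rfl⟩ | ⟨rfl, rfl⟩ | ⟨rfl, rfl⟩ | ⟨rfl, rfl⟩
        · -- 34=(0,0)
          exfalso; omega
        · -- 34=(1,1)
          exact False.elim (cert_false T ((skipEmb 2).trans (Function.Embedding.refl _)) (by norm_num) (fun _ => hall _) (((((((LB_zero T ((skipEmb 2).trans (Function.Embedding.refl _))).upd 0 2 1 (le_of_eq hx03)).upd 0 3 2 (le_of_eq hx04)).upd 2 0 1 (le_of_eq hx30)).upd 2 3 1 (le_of_eq hx34)).upd 3 0 1 (le_of_eq hx40)).upd 3 2 1 (le_of_eq hx43)) ![1,0,1,1] (by decide) (by decide) 0 (by decide))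
        · -- 34=(1,2)
          exact False.elim (cert_false T ((skipEmb 2).trans (Function.Embedding.refl _)) (by norm_num) (fun _ => hall _) (((((((LB_zero T ((skipEmb 2).trans (Function.Embedding.refl _))).upd 0 2 1 (le_of_eq hx03)).upd 0 3 2 (le_of_eq hx04)).upd 2 0 1 (le_of_eq hx30)).upd 2 3 1 (le_of_eq hx34)).upd 3 0 1 (le_of_eq hx40)).upd 3 2 2 (le_of_eq hx43)) ![1,0,1,1] (by decide) (by decide) 0 (by decide))
        · -- 34=(2,1)
          exact False.elim (cert_false T ((skipEmb 2).trans (Function.Embedding.refl _)) (by norm_num) (fun _ => hall _) (((((((LB_zero T ((skipEmb 2).trans (Function.Embedding.refl _))).upd 0 2 1 (le_of_eq hx03)).upd 0 3 2 (le_of_eq hx04)).upd 2 0 1 (le_of_eq hx30)).upd 2 3 2 (le_of_eq hx34)).upd 3 0 1 (le_of_eq hx40)).upd 3 2 1 (le_of_eq hx43)) ![1,0,1,1] (by decide) (by decide) 0 (by decide))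
        · -- 34=(1,3)
          exact False.elim (cert_false T ((skipEmb 2).trans (Function.Embedding.refl _)) (by norm_num) (fun _ => hall _) (((((((LB_zero T ((skipEmb 2).trans (Function.Embedding.refl _))).upd 0 2 1 (le_of_eq hx03)).upd 0 3 2 (le_of_eq hx04)).upd 2 0 1 (le_of_eq hx30)).upd 2 3 1 (le_of_eq hx34)).upd 3 0 1 (le_of_eq hx40)).upd 3 2 3 (le_of_eq hx43)) ![1,0,1,1] (by decide) (by decide) 0 (by decide))
        · -- 34=(3,1)
          exact False.elim (cert_false T ((skipEmb 2).trans (Function.Embedding.refl _)) (by norm_num) (fun _ => hall _) (((((((LB_zero T ((skipEmb 2).trans (Function.Embedding.refl _))).upd 0 2 1 (le_of_eq hx03)).upd 0 3 2 (le_of_eq hx04)).upd 2 0 1 (le_of_eq hx30)).upd 2 3 3 (le_of_eq hx34)).upd 3 0 1 (le_of_eq hx40)).upd 3 2 1 (le_of_eq hx43)) ![1,0,1,1] (by decide) (by decide) 0 (by decide))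
      · -- 24=(1,1)
        rcases d34 with ⟨rfl, rfl⟩ | ⟨rfl, rfl⟩ | ⟨rfl, rfl⟩ | ⟨rfl, rfl⟩ | ⟨rfl, rfl⟩ | ⟨rfl, rfl⟩
        · -- 34=(0,0)
          exfalso; omega
        · -- 34=(1,1)
          exact False.elim (cert_false T ((skipEmb 2).trans (Function.Embedding.refl _)) (by norm_num) (fun _ => hall _) (((((((LB_zero T ((skipEmb 2).trans (Function.Embedding.refl _))).upd 0 2 1 (le_of_eq hx03)).upd 0 3 2 (le_of_eq hx04)).upd 2 0 1 (le_of_eq hx30)).upd 2 3 1 (le_of_eq hx34)).upd 3 0 1 (le_of_eq hx40)).upd 3 2 1 (le_of_eq hx43)) ![1,0,1,1] (by decide) (by decide) 0 (by decide))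
        · -- 34=(1,2)
          exact False.elim (cert_false T ((skipEmb 2).trans (Function.Embedding.refl _)) (by norm_num) (fun _ => hall _) (((((((LB_zero T ((skipEmb 2).trans (Function.Embedding.refl _))).upd 0 2 1 (le_of_eq hx03)).upd 0 3 2 (le_of_eq hx04)).upd 2 0 1 (le_of_eq hx30)).upd 2 3 1 (le_of_eq hx34)).upd 3 0 1 (le_of_eq hx40)).upd 3 2 2 (le_of_eq hx43)) ![1,0,1,1] (by decide) (by decide) 0 (by decide))
        · -- 34=(2,1)
          exact False.elim (cert_false T ((skipEmb 2).trans (Function.Embedding.refl _)) (by norm_num) (fun _ => hall _) (((((((LB_zero T ((skipEmb 2).trans (Function.Embedding.refl _))).upd 0 2 1 (le_of_eq hx03)).upd 0 3 2 (le_of_eq hx04)).upd 2 0 1 (le_of_eq hx30)).upd 2 3 2 (le_of_eq hx34)).upd 3 0 1 (le_of_eq hx40)).upd 3 2 1 (le_of_eq hx43)) ![1,0,1,1] (by decide) (by decide) 0 (by decide))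
        · -- 34=(1,3)
          exact False.elim (cert_false T ((skipEmb 2).trans (Function.Embedding.refl _)) (by norm_num) (fun _ => hall _) (((((((LB_zero T ((skipEmb 2).trans (Function.Embedding.refl _))).upd 0 2 1 (le_of_eq hx03)).upd 0 3 2 (le_of_eq hx04)).upd 2 0 1 (le_of_eq hx30)).upd 2 3 1 (le_of_eq hx34)).upd 3 0 1 (le_of_eq hx40)).upd 3 2 3 (le_of_eq hx43)) ![1,0,1,1] (by decide) (by decide) 0 (by decide))
        · -- 34=(3,1)
          exact False.elim (cert_false T ((skipEmb 2).trans (Function.Embedding.refl _)) (by norm_num) (fun _ => hall _) (((((((LB_zero T ((skipEmb 2).trans (Function.Embedding.refl _))).upd 0 2 1 (le_of_eq hx03)).upd 0 3 2 (le_of_eq hx04)).upd 2 0 1 (le_of_eq hx30)).upd 2 3 3 (le_of_eq hx34)).upd 3 0 1 (le_of_eq hx40)).upd 3 2 1 (le_of_eq hx43)) ![1,0,1,1] (by decide) (by decide) 0 (by decide))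
      · -- 24=(1,2)
        exact False.elim (cert_false T ((skipEmb 3).trans (Function.Embedding.refl _)) (by norm_num) (fun _ => hall _) (((((LB_zero T ((skipEmb 3).trans (Function.Embedding.refl _))).upd 0 3 2 (le_of_eq hx04)).upd 2 3 1 (le_of_eq hx24)).upd 3 0 1 (le_of_eq hx40)).upd 3 2 2 (le_of_eq hx42)) ![2,0,1,2] (by decide) (by decide) 0 (by decide))
      · -- 24=(2,1)
        exact False.elim (cert_false T ((skipEmb 3).trans (Function.Embedding.refl _)) (by norm_num) (fun _ => hall _) (((((LB_zero T ((skipEmb 3).trans (Function.Embedding.refl _))).upd 0 3 2 (le_of_eq hx04)).upd 2 3 2 (le_of_eq hx24)).upd 3 0 1 (le_of_eq hx40)).upd 3 2 1 (le_of_eq hx42)) ![1,0,1,1] (by decide) (by decide) 0 (by decide))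
      · -- 24=(1,3)
        exact False.elim (cert_false T ((skipEmb 3).trans (Function.Embedding.refl _)) (by norm_num) (fun _ => hall _) (((((LB_zero T ((skipEmb 3).trans (Function.Embedding.refl _))).upd 0 3 2 (le_of_eq hx04)).upd 2 3 1 (le_of_eq hx24)).upd 3 0 1 (le_of_eq hx40)).upd 3 2 3 (le_of_eq hx42)) ![1,0,1,2] (by decide) (by decide) 0 (by decide))
      · -- 24=(3,1)
        exact False.elim (cert_false T ((skipEmb 3).trans (Function.Embedding.refl _)) (by norm_num) (fun _ => hall _) (((((LB_zero T ((skipEmb 3).trans (Function.Embedding.refl _))).upd 0 3 2 (le_of_eq hx04)).upd 2 3 3 (le_of_eq hx24)).upd 3 0 1 (le_of_eq hx40)).upd 3 2 1 (le_of_eq hx42)) ![1,0,1,1] (by decide) (by decide) 0 (by decide))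
    · -- 14=(1,1)
      exact False.elim (cert_false T ((skipEmb 2).trans (Function.Embedding.refl _)) (by norm_num) (fun _ => hall _) (((((((((LB_zero T ((skipEmb 2).trans (Function.Embedding.refl _))).upd 0 2 1 (le_of_eq hx03)).upd 0 3 2 (le_of_eq hx04)).upd 1 2 1 (le_of_eq hx13)).upd 1 3 1 (le_of_eq hx14)).upd 2 0 1 (le_of_eq hx30)).upd 2 1 1 (le_of_eq hx31)).upd 3 0 1 (le_of_eq hx40)).upd 3 1 1 (le_of_eq hx41)) ![1,1,1,1] (by decide) (by decide) 0 (by decide))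
    · -- 14=(1,2)
      exact False.elim (cert_false T ((skipEmb 3).trans (Function.Embedding.refl _)) (by norm_num) (fun _ => hall _) (((((LB_zero T ((skipEmb 3).trans (Function.Embedding.refl _))).upd 0 3 2 (le_of_eq hx04)).upd 1 3 1 (le_of_eq hx14)).upd 3 0 1 (le_of_eq hx40)).upd 3 1 2 (le_of_eq hx41)) ![2,1,0,2] (by decide) (by decide) 0 (by decide))
    · -- 14=(2,1)
      exact False.elim (cert_false T ((skipEmb 3).trans (Function.Embedding.refl _)) (by norm_num) (fun _ => hall _) (((((LB_zero T ((skipEmb 3).trans (Function.Embedding.refl _))).upd 0 3 2 (le_of_eq hx04)).upd 1 3 2 (le_of_eq hx14)).upd 3 0 1 (le_of_eq hx40)).upd 3 1 1 (le_of_eq hx41)) ![1,1,0,1] (by decide) (by decide) 0 (by decide))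
    · -- 14=(1,3)
      exact False.elim (cert_false T ((skipEmb 3).trans (Function.Embedding.refl _)) (by norm_num) (fun _ => hall _) (((((LB_zero T ((skipEmb 3).trans (Function.Embedding.refl _))).upd 0 3 2 (le_of_eq hx04)).upd 1 3 1 (le_of_eq hx14)).upd 3 0 1 (le_of_eq hx40)).upd 3 1 3 (le_of_eq hx41)) ![1,1,0,2] (by decide) (by decide) 0 (by decide))
    · -- 14=(3,1)
      exact False.elim (cert_false T ((skipEmb 3).trans (Function.Embedding.refl _)) (by norm_num) (fun _ => hall _) (((((LB_zero T ((skipEmb 3).trans (Function.Embedding.refl _))).upd 0 3 2 (le_of_eq hx04)).upd 1 3 3 (le_of_eq hx14)).upd 3 0 1 (le_of_eq hx40)).upd 3 1 1 (le_of_eq hx41)) ![1,1,0,1] (by decide) (by decide) 0 (by decide))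
  · -- 04=(1,3)
    exact False.elim (cert_false T ((skipEmb 2).trans (Function.Embedding.refl _)) (by norm_num) (fun _ => hall _) (((((LB_zero T ((skipEmb 2).trans (Function.Embedding.refl _))).upd 0 2 1 (le_of_eq hx03)).upd 0 3 1 (le_of_eq hx04)).upd 2 0 1 (le_of_eq hx30)).upd 3 0 3 (le_of_eq hx40)) ![2,0,1,3] (by decide) (by decide) 0 (by decide))
  · -- 04=(3,1)
    exact False.elim (cert_false T ((skipEmb 2).trans (Function.Embedding.refl _)) (by norm_num) (fun _ => hall _) (((((LB_zero T ((skipEmb 2).trans (Function.Embedding.refl _))).upd 0 2 1 (le_of_eq hx03)).upd 0 3 3 (le_of_eq hx04)).upd 2 0 1 (le_of_eq hx30)).upd 3 0 1 (le_of_eq hx40)) ![2,0,1,1] (by decide) (by decide) 0 (by decide))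

theorem case116 (T : NumericalType 5) (hall : ∀ i, T.IsMinusTwo i) (d : SData T)
    (h01 : N T (Function.Embedding.refl _) 0 1 = 0) (h10 : N T (Function.Embedding.refl _) 1 0 = 0)
    (h02 : N T (Function.Embedding.refl _) 0 2 = 0) (h20 : N T (Function.Embedding.refl _) 2 0 = 0)
    (h12 : N T (Function.Embedding.refl _) 1 2 = 1) (h21 : N T (Function.Embedding.refl _) 2 1 = 1)
    (h03 : N T (Function.Embedding.refl _) 0 3 = 1) (h30 : N T (Function.Embedding.refl _) 3 0 = 1)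
    (h13 : N T (Function.Embedding.refl _) 1 3 = 1) (h31 : N T (Function.Embedding.refl _) 3 1 = 1) :
    Goal T := by
  unfold Goal
  have hd := d
  obtain ⟨x01, x02, x03, x04, x10, x12, x13, x14, x20, x21, x23, x24, x30, x31, x32, x34, x40, x41, x42, x43, hx01, hx02, hx03, hx04, hx10, hx12, hx13, hx14, hx20, hx21, hx23, hx24, hx30, hx31, hx32, hx34, hx40, hx41, hx42, hx43, hw0, hm0, hw1, hm1, hw2, hm2, hw3, hm3, hw4, hm4, a00, a01, a02, a03, a04, a11, a10, a12, a13, a14, a22, a20, a21, a23, a24, a33, a30, a31, a32, a34, a44, a40, a41, a42, a43, wN01, wN02, wN12, wN03, wN13, wN23, wN04, wN14, wN24, wN34, e0, e1, e2, e3, e4, d01, d02, d12, d03, d13, d23, d04, d14, d24, d34⟩ := d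
  obtain rfl : x01 = 0 := hx01.trans h01
  obtain rfl : x10 = 0 := hx10.trans h10
  obtain rfl : x02 = 0 := hx02.trans h02
  obtain rfl : x20 = 0 := hx20.trans h20
  obtain rfl : x12 = 1 := hx12.trans h12
  obtain rfl : x21 = 1 := hx21.trans h21
  obtain rfl : x03 = 1 := hx03.trans h03
  obtain rfl : x30 = 1 := hx30.trans h30
  obtain rfl : x13 = 1 := hx13.trans h13
  obtain rfl : x31 = 1 := hx31.trans h31
  rcases d23 with ⟨rfl, rfl⟩ | ⟨rfl, rfl⟩ | ⟨rfl, rfl⟩ | ⟨rfl, rfl⟩ | ⟨rfl, rfl⟩ | ⟨rfl, rfl⟩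
  · -- 23=(0,0)
    exact case117 T hall hd hx01.symm hx10.symm hx02.symm hx20.symm hx12.symm hx21.symm hx03.symm hx30.symm hx13.symm hx31.symm hx23.symm hx32.symm
  · -- 23=(1,1)
    exact False.elim (cert_false T ((skipEmb 4).trans (Function.Embedding.refl _)) (by norm_num) (fun _ => hall _) (((((((LB_zero T ((skipEmb 4).trans (Function.Embedding.refl _))).upd 1 2 1 (le_of_eq hx12)).upd 1 3 1 (le_of_eq hx13)).upd 2 1 1 (le_of_eq hx21)).upd 2 3 1 (le_of_eq hx23)).upd 3 1 1 (le_of_eq hx31)).upd 3 2 1 (le_of_eq hx32)) ![0,1,1,1] (by decide) (by decide) 1 (by decide))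
  · -- 23=(1,2)
    exact False.elim (cert_false T ((skipEmb 4).trans (Function.Embedding.refl _)) (by norm_num) (fun _ => hall _) (((((((LB_zero T ((skipEmb 4).trans (Function.Embedding.refl _))).upd 1 2 1 (le_of_eq hx12)).upd 1 3 1 (le_of_eq hx13)).upd 2 1 1 (le_of_eq hx21)).upd 2 3 1 (le_of_eq hx23)).upd 3 1 1 (le_of_eq hx31)).upd 3 2 2 (le_of_eq hx32)) ![0,1,1,1] (by decide) (by decide) 1 (by decide))
  · -- 23=(2,1)
    exact False.elim (cert_false T ((skipEmb 4).trans (Function.Embedding.refl _)) (by norm_num) (fun _ => hall _) (((((((LB_zero T ((skipEmb 4).trans (Function.Embedding.refl _))).upd 1 2 1 (le_of_eq hx12)).upd 1 3 1 (le_of_eq hx13)).upd 2 1 1 (le_of_eq hx21)).upd 2 3 2 (le_of_eq hx23)).upd 3 1 1 (le_of_eq hx31)).upd 3 2 1 (le_of_eq hx32)) ![0,1,1,1] (by decide) (by decide) 1 (by decide))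
  · -- 23=(1,3)
    exact False.elim (cert_false T ((skipEmb 4).trans (Function.Embedding.refl _)) (by norm_num) (fun _ => hall _) (((((((LB_zero T ((skipEmb 4).trans (Function.Embedding.refl _))).upd 1 2 1 (le_of_eq hx12)).upd 1 3 1 (le_of_eq hx13)).upd 2 1 1 (le_of_eq hx21)).upd 2 3 1 (le_of_eq hx23)).upd 3 1 1 (le_of_eq hx31)).upd 3 2 3 (le_of_eq hx32)) ![0,1,1,1] (by decide) (by decide) 1 (by decide))
  · -- 23=(3,1)
    exact False.elim (cert_false T ((skipEmb 4).trans (Function.Embedding.refl _)) (by norm_num) (fun _ => hall _) (((((((LB_zero T ((skipEmb 4).trans (Function.Embedding.refl _))).upd 1 2 1 (le_of_eq hx12)).upd 1 3 1 (le_of_eq hx13)).upd 2 1 1 (le_of_eq hx21)).upd 2 3 3 (le_of_eq hx23)).upd 3 1 1 (le_of_eq hx31)).upd 3 2 1 (le_of_eq hx32)) ![0,1,1,1] (by decide) (by decide) 1 (by decide))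

theorem case119 (T : NumericalType 5) (hall : ∀ i, T.IsMinusTwo i) (d : SData T)
    (h01 : N T (Function.Embedding.refl _) 0 1 = 0) (h10 : N T (Function.Embedding.refl _) 1 0 = 0)
    (h02 : N T (Function.Embedding.refl _) 0 2 = 0) (h20 : N T (Function.Embedding.refl _) 2 0 = 0)
    (h12 : N T (Function.Embedding.refl _) 1 2 = 1) (h21 : N T (Function.Embedding.refl _) 2 1 = 1)
    (h03 : N T (Function.Embedding.refl _) 0 3 = 1) (h30 : N T (Function.Embedding.refl _) 3 0 = 1)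
    (h13 : N T (Function.Embedding.refl _) 1 3 = 2) (h31 : N T (Function.Embedding.refl _) 3 1 = 1) :
    Goal T := by
  unfold Goal
  have hd := d
  obtain ⟨x01, x02, x03, x04, x10, x12, x13, x14, x20, x21, x23, x24, x30, x31, x32, x34, x40, x41, x42, x43, hx01, hx02, hx03, hx04, hx10, hx12, hx13, hx14, hx20, hx21, hx23, hx24, hx30, hx31, hx32, hx34, hx40, hx41, hx42, hx43, hw0, hm0, hw1, hm1, hw2, hm2, hw3, hm3, hw4, hm4, a00, a01, a02, a03, a04, a11, a10, a12, a13, a14, a22, a20, a21, a23, a24, a33, a30, a31, a32, a34, a44, a40, a41, a42, a43, wN01, wN02, wN12, wN03, wN13, wN23, wN04, wN14, wN24, wN34, e0, e1, e2, e3, e4, d01, d02, d12, d03, d13, d23, d04, d14, d24, d34⟩ := d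
  obtain rfl : x01 = 0 := hx01.trans h01
  obtain rfl : x10 = 0 := hx10.trans h10
  obtain rfl : x02 = 0 := hx02.trans h02
  obtain rfl : x20 = 0 := hx20.trans h20
  obtain rfl : x12 = 1 := hx12.trans h12
  obtain rfl : x21 = 1 := hx21.trans h21
  obtain rfl : x03 = 1 := hx03.trans h03
  obtain rfl : x30 = 1 := hx30.trans h30
  obtain rfl : x13 = 2 := hx13.trans h13
  obtain rfl : x31 = 1 := hx31.trans h31
  rcases d23 with ⟨rfl, rfl⟩ | ⟨rfl, rfl⟩ | ⟨rfl, rfl⟩ | ⟨rfl, rfl⟩ | ⟨rfl, rfl⟩ | ⟨rfl, rfl⟩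
  · -- 23=(0,0)
    rcases d04 with ⟨rfl, rfl⟩ | ⟨rfl, rfl⟩ | ⟨rfl, rfl⟩ | ⟨rfl, rfl⟩ | ⟨rfl, rfl⟩ | ⟨rfl, rfl⟩
    · -- 04=(0,0)
      rcases d14 with ⟨rfl, rfl⟩ | ⟨rfl, rfl⟩ | ⟨rfl, rfl⟩ | ⟨rfl, rfl⟩ | ⟨rfl, rfl⟩ | ⟨rfl, rfl⟩
      · -- 14=(0,0)
        rcases d24 with ⟨rfl, rfl⟩ | ⟨rfl, rfl⟩ | ⟨rfl, rfl⟩ | ⟨rfl, rfl⟩ | ⟨rfl, rfl⟩ | ⟨rfl, rfl⟩
        · -- 24=(0,0)
          rcases d34 with ⟨rfl, rfl⟩ | ⟨rfl, rfl⟩ | ⟨rfl, rfl⟩ | ⟨rfl, rfl⟩ | ⟨rfl, rfl⟩ | ⟨rfl, rfl⟩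
          · -- 34=(0,0)
            exfalso; omega
          · -- 34=(1,1)
            exact False.elim (cert_false T ((skipEmb 2).trans (Function.Embedding.refl _)) (by norm_num) (fun _ => hall _) (((((((LB_zero T ((skipEmb 2).trans (Function.Embedding.refl _))).upd 0 2 1 (le_of_eq hx03)).upd 1 2 2 (le_of_eq hx13)).upd 2 0 1 (le_of_eq hx30)).upd 2 1 1 (le_of_eq hx31)).upd 2 3 1 (le_of_eq hx34)).upd 3 2 1 (le_of_eq hx43)) ![1,2,2,1] (by decide) (by decide) 0 (by decide))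
          · -- 34=(1,2)
            exact False.elim (cert_false T ((skipEmb 2).trans (Function.Embedding.refl _)) (by norm_num) (fun _ => hall _) (((((LB_zero T ((skipEmb 2).trans (Function.Embedding.refl _))).upd 1 2 2 (le_of_eq hx13)).upd 2 1 1 (le_of_eq hx31)).upd 2 3 1 (le_of_eq hx34)).upd 3 2 2 (le_of_eq hx43)) ![0,1,1,1] (by decide) (by decide) 1 (by decide))
          · -- 34=(2,1)
            exact False.elim (cert_false T ((skipEmb 2).trans (Function.Embedding.refl _)) (by norm_num) (fun _ => hall _) (((((LB_zero T ((skipEmb 2).trans (Function.Embedding.refl _))).upd 1 2 2 (le_of_eq hx13)).upd 2 1 1 (le_of_eq hx31)).upd 2 3 2 (le_of_eq hx34)).upd 3 2 1 (le_of_eq hx43)) ![0,2,2,1] (by decide) (by decide) 1 (by decide))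
          · -- 34=(1,3)
            exact False.elim (cert_false T ((skipEmb 2).trans (Function.Embedding.refl _)) (by norm_num) (fun _ => hall _) (((((LB_zero T ((skipEmb 2).trans (Function.Embedding.refl _))).upd 1 2 2 (le_of_eq hx13)).upd 2 1 1 (le_of_eq hx31)).upd 2 3 1 (le_of_eq hx34)).upd 3 2 3 (le_of_eq hx43)) ![0,1,1,1] (by decide) (by decide) 1 (by decide))
          · -- 34=(3,1)
            exact False.elim (cert_false T ((skipEmb 2).trans (Function.Embedding.refl _)) (by norm_num) (fun _ => hall _) (((((LB_zero T ((skipEmb 2).trans (Function.Embedding.refl _))).upd 1 2 2 (le_of_eq hx13)).upd 2 1 1 (le_of_eq hx31)).upd 2 3 3 (le_of_eq hx34)).upd 3 2 1 (le_of_eq hx43)) ![0,1,2,1] (by decide) (by decide) 1 (by decide))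
        · -- 24=(1,1)
          rcases d34 with ⟨rfl, rfl⟩ | ⟨rfl, rfl⟩ | ⟨rfl, rfl⟩ | ⟨rfl, rfl⟩ | ⟨rfl, rfl⟩ | ⟨rfl, rfl⟩
          · -- 34=(0,0)
            refine ⟨(⟨![4, 2, 1, 3, 0], ![4, 2, 1, 3, 0], by decide, by decide⟩ : Equiv.Perm (Fin 5)), T.m 4, T.w 4, Or.inr (Or.inl ?_)⟩
            show T.m 4 = T.m 4 ∧ T.m 2 = 2 * T.m 4 ∧ T.m 1 = 3 * T.m 4 ∧ T.m 3 = 2 * T.m 4 ∧ T.m 0 = T.m 4 ∧ T.w 4 = T.w 4 ∧ T.w 2 = T.w 4 ∧ T.w 1 = T.w 4 ∧ T.w 3 = 2 * T.w 4 ∧ T.w 0 = 2 * T.w 4 ∧ T.a 4 4 = -2 * T.w 4 ∧ T.a 4 2 = T.w 4 ∧ T.a 4 1 = 0 ∧ T.a 4 3 = 0 ∧ T.a 4 0 = 0 ∧ T.a 2 2 = -2 * T.w 4 ∧ T.a 2 1 = T.w 4 ∧ T.a 2 3 = 0 ∧ T.a 2 0 = 0 ∧ T.a 1 1 = -2 * T.w 4 ∧ T.a 1 3 = 2 * T.w 4 ∧ T.a 1 0 = 0 ∧ T.a 3 3 = -4 * T.w 4 ∧ T.a 3 0 = 2 * T.w 4 ∧ T.a 0 0 = -4 * T.w 4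
            refine ⟨?_, ?_, ?_, ?_, ?_, ?_, ?_, ?_, ?_, ?_, ?_, ?_, ?_, ?_, ?_, ?_, ?_, ?_, ?_, ?_, ?_, ?_, ?_, ?_, ?_⟩ <;> omega
          · -- 34=(1,1)
            exact False.elim (cert_false T ((skipEmb 2).trans (Function.Embedding.refl _)) (by norm_num) (fun _ => hall _) (((((((LB_zero T ((skipEmb 2).trans (Function.Embedding.refl _))).upd 0 2 1 (le_of_eq hx03)).upd 1 2 2 (le_of_eq hx13)).upd 2 0 1 (le_of_eq hx30)).upd 2 1 1 (le_of_eq hx31)).upd 2 3 1 (le_of_eq hx34)).upd 3 2 1 (le_of_eq hx43)) ![1,2,2,1] (by decide) (by decide) 0 (by decide))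
          · -- 34=(1,2)
            exact False.elim (cert_false T ((skipEmb 2).trans (Function.Embedding.refl _)) (by norm_num) (fun _ => hall _) (((((LB_zero T ((skipEmb 2).trans (Function.Embedding.refl _))).upd 1 2 2 (le_of_eq hx13)).upd 2 1 1 (le_of_eq hx31)).upd 2 3 1 (le_of_eq hx34)).upd 3 2 2 (le_of_eq hx43)) ![0,1,1,1] (by decide) (by decide) 1 (by decide))
          · -- 34=(2,1)
            exact False.elim (cert_false T ((skipEmb 2).trans (Function.Embedding.refl _)) (by norm_num) (fun _ => hall _) (((((LB_zero T ((skipEmb 2).trans (Function.Embedding.refl _))).upd 1 2 2 (le_of_eq hx13)).upd 2 1 1 (le_of_eq hx31)).upd 2 3 2 (le_of_eq hx34)).upd 3 2 1 (le_of_eq hx43)) ![0,2,2,1] (by decide) (by decide) 1 (by decide))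
          · -- 34=(1,3)
            exact False.elim (cert_false T ((skipEmb 2).trans (Function.Embedding.refl _)) (by norm_num) (fun _ => hall _) (((((LB_zero T ((skipEmb 2).trans (Function.Embedding.refl _))).upd 1 2 2 (le_of_eq hx13)).upd 2 1 1 (le_of_eq hx31)).upd 2 3 1 (le_of_eq hx34)).upd 3 2 3 (le_of_eq hx43)) ![0,1,1,1] (by decide) (by decide) 1 (by decide))
          · -- 34=(3,1)
            exact False.elim (cert_false T ((skipEmb 2).trans (Function.Embedding.refl _)) (by norm_num) (fun _ => hall _) (((((LB_zero T ((skipEmb 2).trans (Function.Embedding.refl _))).upd 1 2 2 (le_of_eq hx13)).upd 2 1 1 (le_of_eq hx31)).upd 2 3 3 (le_of_eq hx34)).upd 3 2 1 (le_of_eq hx43)) ![0,1,2,1] (by decide) (by decide) 1 (by decide))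
        · -- 24=(1,2)
          exact False.elim (cert_false T ((skipEmb 0).trans (Function.Embedding.refl _)) (by norm_num) (fun _ => hall _) (((((((LB_zero T ((skipEmb 0).trans (Function.Embedding.refl _))).upd 0 1 1 (le_of_eq hx12)).upd 0 2 2 (le_of_eq hx13)).upd 1 0 1 (le_of_eq hx21)).upd 1 3 1 (le_of_eq hx24)).upd 2 0 1 (le_of_eq hx31)).upd 3 1 2 (le_of_eq hx42)) ![2,2,1,2] (by decide) (by decide) 0 (by decide))
        · -- 24=(2,1)
          exact False.elim (cert_false T ((skipEmb 0).trans (Function.Embedding.refl _)) (by norm_num) (fun _ => hall _) (((((((LB_zero T ((skipEmb 0).trans (Function.Embedding.refl _))).upd 0 1 1 (le_of_eq hx12)).upd 0 2 2 (le_of_eq hx13)).upd 1 0 1 (le_of_eq hx21)).upd 1 3 2 (le_of_eq hx24)).upd 2 0 1 (le_of_eq hx31)).upd 3 1 1 (le_of_eq hx42)) ![2,2,1,1] (by decide) (by decide) 0 (by decide))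
        · -- 24=(1,3)
          exact False.elim (cert_false T ((skipEmb 3).trans (Function.Embedding.refl _)) (by norm_num) (fun _ => hall _) (((((LB_zero T ((skipEmb 3).trans (Function.Embedding.refl _))).upd 1 2 1 (le_of_eq hx12)).upd 2 1 1 (le_of_eq hx21)).upd 2 3 1 (le_of_eq hx24)).upd 3 2 3 (le_of_eq hx42)) ![0,1,2,3] (by decide) (by decide) 1 (by decide))
        · -- 24=(3,1)
          exact False.elim (cert_false T ((skipEmb 3).trans (Function.Embedding.refl _)) (by norm_num) (fun _ => hall _) (((((LB_zero T ((skipEmb 3).trans (Function.Embedding.refl _))).upd 1 2 1 (le_of_eq hx12)).upd 2 1 1 (le_of_eq hx21)).upd 2 3 3 (le_of_eq hx24)).upd 3 2 1 (le_of_eq hx42)) ![0,1,2,1] (by decide) (by decide) 1 (by decide))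
      · -- 14=(1,1)
        exact False.elim (cert_false T ((skipEmb 0).trans (Function.Embedding.refl _)) (by norm_num) (fun _ => hall _) (((((((LB_zero T ((skipEmb 0).trans (Function.Embedding.refl _))).upd 0 1 1 (le_of_eq hx12)).upd 0 2 2 (le_of_eq hx13)).upd 0 3 1 (le_of_eq hx14)).upd 1 0 1 (le_of_eq hx21)).upd 2 0 1 (le_of_eq hx31)).upd 3 0 1 (le_of_eq hx41)) ![2,1,1,1] (by decide) (by decide) 0 (by decide))
      · -- 14=(1,2)
        exact False.elim (cert_false T ((skipEmb 2).trans (Function.Embedding.refl _)) (by norm_num) (fun _ => hall _) (((((LB_zero T ((skipEmb 2).trans (Function.Embedding.refl _))).upd 1 2 2 (le_of_eq hx13)).upd 1 3 1 (le_of_eq hx14)).upd 2 1 1 (le_of_eq hx31)).upd 3 1 2 (le_of_eq hx41)) ![0,2,1,2] (by decide) (by decide) 1 (by decide))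
      · -- 14=(2,1)
        exact False.elim (cert_false T ((skipEmb 2).trans (Function.Embedding.refl _)) (by norm_num) (fun _ => hall _) (((((LB_zero T ((skipEmb 2).trans (Function.Embedding.refl _))).upd 1 2 2 (le_of_eq hx13)).upd 1 3 2 (le_of_eq hx14)).upd 2 1 1 (le_of_eq hx31)).upd 3 1 1 (le_of_eq hx41)) ![0,2,1,1] (by decide) (by decide) 1 (by decide))
      · -- 14=(1,3)
        exact False.elim (cert_false T ((skipEmb 3).trans (Function.Embedding.refl _)) (by norm_num) (fun _ => hall _) (((((LB_zero T ((skipEmb 3).trans (Function.Embedding.refl _))).upd 1 2 1 (le_of_eq hx12)).upd 1 3 1 (le_of_eq hx14)).upd 2 1 1 (le_of_eq hx21)).upd 3 1 3 (le_of_eq hx41)) ![0,2,1,3] (by decide) (by decide) 1 (by decide))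
      · -- 14=(3,1)
        exact False.elim (cert_false T ((skipEmb 3).trans (Function.Embedding.refl _)) (by norm_num) (fun _ => hall _) (((((LB_zero T ((skipEmb 3).trans (Function.Embedding.refl _))).upd 1 2 1 (le_of_eq hx12)).upd 1 3 3 (le_of_eq hx14)).upd 2 1 1 (le_of_eq hx21)).upd 3 1 1 (le_of_eq hx41)) ![0,2,1,1] (by decide) (by decide) 1 (by decide))
    · -- 04=(1,1)
      rcases d14 with ⟨rfl, rfl⟩ | ⟨rfl, rfl⟩ | ⟨rfl, rfl⟩ | ⟨rfl, rfl⟩ | ⟨rfl, rfl⟩ | ⟨rfl, rfl⟩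
      · -- 14=(0,0)
        rcases d24 with ⟨rfl, rfl⟩ | ⟨rfl, rfl⟩ | ⟨rfl, rfl⟩ | ⟨rfl, rfl⟩ | ⟨rfl, rfl⟩ | ⟨rfl, rfl⟩
        · -- 24=(0,0)
          rcases d34 with ⟨rfl, rfl⟩ | ⟨rfl, rfl⟩ | ⟨rfl, rfl⟩ | ⟨rfl, rfl⟩ | ⟨rfl, rfl⟩ | ⟨rfl, rfl⟩
          · -- 34=(0,0)
            refine ⟨(⟨![4, 0, 3, 1, 2], ![1, 3, 4, 2, 0], by decide, by decide⟩ : Equiv.Perm (Fin 5)), T.m 4, T.w 1, Or.inr (Or.inr (Or.inl ?_))⟩
            show T.m 4 = T.m 4 ∧ T.m 0 = 2 * T.m 4 ∧ T.m 3 = 3 * T.m 4 ∧ T.m 1 = 4 * T.m 4 ∧ T.m 2 = 2 * T.m 4 ∧ T.w 4 = 2 * T.w 1 ∧ T.w 0 = 2 * T.w 1 ∧ T.w 3 = 2 * T.w 1 ∧ T.w 1 = T.w 1 ∧ T.w 2 = T.w 1 ∧ T.a 4 4 = -4 * T.w 1 ∧ T.a 4 0 = 2 * T.w 1 ∧ T.a 4 3 = 0 ∧ T.a 4 1 = 0 ∧ T.a 4 2 = 0 ∧ T.a 0 0 = -4 * T.w 1 ∧ T.a 0 3 = 2 * T.w 1 ∧ T.a 0 1 = 0 ∧ T.a 0 2 = 0 ∧ T.a 3 3 = -4 * T.w 1 ∧ T.a 3 1 = 2 * T.w 1 ∧ T.a 3 2 = 0 ∧ T.a 1 1 = -2 * T.w 1 ∧ T.a 1 2 = T.w 1 ∧ T.a 2 2 = -2 * T.w 1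
            refine ⟨?_, ?_, ?_, ?_, ?_, ?_, ?_, ?_, ?_, ?_, ?_, ?_, ?_, ?_, ?_, ?_, ?_, ?_, ?_, ?_, ?_, ?_, ?_, ?_, ?_⟩ <;> omega
          · -- 34=(1,1)
            exact False.elim (cert_false T ((skipEmb 2).trans (Function.Embedding.refl _)) (by norm_num) (fun _ => hall _) (((((((LB_zero T ((skipEmb 2).trans (Function.Embedding.refl _))).upd 0 2 1 (le_of_eq hx03)).upd 0 3 1 (le_of_eq hx04)).upd 2 0 1 (le_of_eq hx30)).upd 2 3 1 (le_of_eq hx34)).upd 3 0 1 (le_of_eq hx40)).upd 3 2 1 (le_of_eq hx43)) ![1,0,1,1] (by decide) (by decide) 0 (by decide))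
          · -- 34=(1,2)
            exact False.elim (cert_false T ((skipEmb 2).trans (Function.Embedding.refl _)) (by norm_num) (fun _ => hall _) (((((LB_zero T ((skipEmb 2).trans (Function.Embedding.refl _))).upd 1 2 2 (le_of_eq hx13)).upd 2 1 1 (le_of_eq hx31)).upd 2 3 1 (le_of_eq hx34)).upd 3 2 2 (le_of_eq hx43)) ![0,1,1,1] (by decide) (by decide) 1 (by decide))
          · -- 34=(2,1)
            exact False.elim (cert_false T ((skipEmb 2).trans (Function.Embedding.refl _)) (by norm_num) (fun _ => hall _) (((((((LB_zero T ((skipEmb 2).trans (Function.Embedding.refl _))).upd 0 2 1 (le_of_eq hx03)).upd 0 3 1 (le_of_eq hx04)).upd 2 0 1 (le_of_eq hx30)).upd 2 3 2 (le_of_eq hx34)).upd 3 0 1 (le_of_eq hx40)).upd 3 2 1 (le_of_eq hx43)) ![1,0,1,1] (by decide) (by decide) 0 (by decide))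
          · -- 34=(1,3)
            exact False.elim (cert_false T ((skipEmb 2).trans (Function.Embedding.refl _)) (by norm_num) (fun _ => hall _) (((((LB_zero T ((skipEmb 2).trans (Function.Embedding.refl _))).upd 1 2 2 (le_of_eq hx13)).upd 2 1 1 (le_of_eq hx31)).upd 2 3 1 (le_of_eq hx34)).upd 3 2 3 (le_of_eq hx43)) ![0,1,1,1] (by decide) (by decide) 1 (by decide))
          · -- 34=(3,1)
            exact False.elim (cert_false T ((skipEmb 2).trans (Function.Embedding.refl _)) (by norm_num) (fun _ => hall _) (((((((LB_zero T ((skipEmb 2).trans (Function.Embedding.refl _))).upd 0 2 1 (le_of_eq hx03)).upd 0 3 1 (le_of_eq hx04)).upd 2 0 1 (le_of_eq hx30)).upd 2 3 3 (le_of_eq hx34)).upd 3 0 1 (le_of_eq hx40)).upd 3 2 1 (le_of_eq hx43)) ![1,0,1,1] (by decide) (by decide) 0 (by decide))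
        · -- 24=(1,1)
          rcases d34 with ⟨rfl, rfl⟩ | ⟨rfl, rfl⟩ | ⟨rfl, rfl⟩ | ⟨rfl, rfl⟩ | ⟨rfl, rfl⟩ | ⟨rfl, rfl⟩
          · -- 34=(0,0)
            exfalso; omega
          · -- 34=(1,1)
            exact False.elim (cert_false T ((skipEmb 2).trans (Function.Embedding.refl _)) (by norm_num) (fun _ => hall _) (((((((LB_zero T ((skipEmb 2).trans (Function.Embedding.refl _))).upd 0 2 1 (le_of_eq hx03)).upd 0 3 1 (le_of_eq hx04)).upd 2 0 1 (le_of_eq hx30)).upd 2 3 1 (le_of_eq hx34)).upd 3 0 1 (le_of_eq hx40)).upd 3 2 1 (le_of_eq hx43)) ![1,0,1,1] (by decide) (by decide) 0 (by decide))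
          · -- 34=(1,2)
            exact False.elim (cert_false T ((skipEmb 2).trans (Function.Embedding.refl _)) (by norm_num) (fun _ => hall _) (((((LB_zero T ((skipEmb 2).trans (Function.Embedding.refl _))).upd 1 2 2 (le_of_eq hx13)).upd 2 1 1 (le_of_eq hx31)).upd 2 3 1 (le_of_eq hx34)).upd 3 2 2 (le_of_eq hx43)) ![0,1,1,1] (by decide) (by decide) 1 (by decide))
          · -- 34=(2,1)
            exact False.elim (cert_false T ((skipEmb 2).trans (Function.Embedding.refl _)) (by norm_num) (fun _ => hall _) (((((((LB_zero T ((skipEmb 2).trans (Function.Embedding.refl _))).upd 0 2 1 (le_of_eq hx03)).upd 0 3 1 (le_of_eq hx04)).upd 2 0 1 (le_of_eq hx30)).upd 2 3 2 (le_of_eq hx34)).upd 3 0 1 (le_of_eq hx40)).upd 3 2 1 (le_of_eq hx43)) ![1,0,1,1] (by decide) (by decide) 0 (by decide))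
          · -- 34=(1,3)
            exact False.elim (cert_false T ((skipEmb 2).trans (Function.Embedding.refl _)) (by norm_num) (fun _ => hall _) (((((LB_zero T ((skipEmb 2).trans (Function.Embedding.refl _))).upd 1 2 2 (le_of_eq hx13)).upd 2 1 1 (le_of_eq hx31)).upd 2 3 1 (le_of_eq hx34)).upd 3 2 3 (le_of_eq hx43)) ![0,1,1,1] (by decide) (by decide) 1 (by decide))
          · -- 34=(3,1)
            exact False.elim (cert_false T ((skipEmb 2).trans (Function.Embedding.refl _)) (by norm_num) (fun _ => hall _) (((((((LB_zero T ((skipEmb 2).trans (Function.Embedding.refl _))).upd 0 2 1 (le_of_eq hx03)).upd 0 3 1 (le_of_eq hx04)).upd 2 0 1 (le_of_eq hx30)).upd 2 3 3 (le_of_eq hx34)).upd 3 0 1 (le_of_eq hx40)).upd 3 2 1 (le_of_eq hx43)) ![1,0,1,1] (by decide) (by decide) 0 (by decide))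
        · -- 24=(1,2)
          exact False.elim (cert_false T ((skipEmb 0).trans (Function.Embedding.refl _)) (by norm_num) (fun _ => hall _) (((((((LB_zero T ((skipEmb 0).trans (Function.Embedding.refl _))).upd 0 1 1 (le_of_eq hx12)).upd 0 2 2 (le_of_eq hx13)).upd 1 0 1 (le_of_eq hx21)).upd 1 3 1 (le_of_eq hx24)).upd 2 0 1 (le_of_eq hx31)).upd 3 1 2 (le_of_eq hx42)) ![2,2,1,2] (by decide) (by decide) 0 (by decide))
        · -- 24=(2,1)
          exact False.elim (cert_false T ((skipEmb 0).trans (Function.Embedding.refl _)) (by norm_num) (fun _ => hall _) (((((((LB_zero T ((skipEmb 0).trans (Function.Embedding.refl _))).upd 0 1 1 (le_of_eq hx12)).upd 0 2 2 (le_of_eq hx13)).upd 1 0 1 (le_of_eq hx21)).upd 1 3 2 (le_of_eq hx24)).upd 2 0 1 (le_of_eq hx31)).upd 3 1 1 (le_of_eq hx42)) ![2,2,1,1] (by decide) (by decide) 0 (by decide))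
        · -- 24=(1,3)
          exact False.elim (cert_false T ((skipEmb 3).trans (Function.Embedding.refl _)) (by norm_num) (fun _ => hall _) (((((LB_zero T ((skipEmb 3).trans (Function.Embedding.refl _))).upd 0 3 1 (le_of_eq hx04)).upd 2 3 1 (le_of_eq hx24)).upd 3 0 1 (le_of_eq hx40)).upd 3 2 3 (le_of_eq hx42)) ![1,0,1,2] (by decide) (by decide) 0 (by decide))
        · -- 24=(3,1)
          exact False.elim (cert_false T ((skipEmb 3).trans (Function.Embedding.refl _)) (by norm_num) (fun _ => hall _) (((((LB_zero T ((skipEmb 3).trans (Function.Embedding.refl _))).upd 1 2 1 (le_of_eq hx12)).upd 2 1 1 (le_of_eq hx21)).upd 2 3 3 (le_of_eq hx24)).upd 3 2 1 (le_of_eq hx42)) ![0,1,2,1] (by decide) (by decide) 1 (by decide))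
      · -- 14=(1,1)
        exact False.elim (cert_false T ((skipEmb 2).trans (Function.Embedding.refl _)) (by norm_num) (fun _ => hall _) (((((((((LB_zero T ((skipEmb 2).trans (Function.Embedding.refl _))).upd 0 2 1 (le_of_eq hx03)).upd 0 3 1 (le_of_eq hx04)).upd 1 2 2 (le_of_eq hx13)).upd 1 3 1 (le_of_eq hx14)).upd 2 0 1 (le_of_eq hx30)).upd 2 1 1 (le_of_eq hx31)).upd 3 0 1 (le_of_eq hx40)).upd 3 1 1 (le_of_eq hx41)) ![1,1,1,1] (by decide) (by decide) 0 (by decide))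
      · -- 14=(1,2)
        exact False.elim (cert_false T ((skipEmb 2).trans (Function.Embedding.refl _)) (by norm_num) (fun _ => hall _) (((((((((LB_zero T ((skipEmb 2).trans (Function.Embedding.refl _))).upd 0 2 1 (le_of_eq hx03)).upd 0 3 1 (le_of_eq hx04)).upd 1 2 2 (le_of_eq hx13)).upd 1 3 1 (le_of_eq hx14)).upd 2 0 1 (le_of_eq hx30)).upd 2 1 1 (le_of_eq hx31)).upd 3 0 1 (le_of_eq hx40)).upd 3 1 2 (le_of_eq hx41)) ![1,1,1,1] (by decide) (by decide) 0 (by decide))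
      · -- 14=(2,1)
        exact False.elim (cert_false T ((skipEmb 2).trans (Function.Embedding.refl _)) (by norm_num) (fun _ => hall _) (((((((((LB_zero T ((skipEmb 2).trans (Function.Embedding.refl _))).upd 0 2 1 (le_of_eq hx03)).upd 0 3 1 (le_of_eq hx04)).upd 1 2 2 (le_of_eq hx13)).upd 1 3 2 (le_of_eq hx14)).upd 2 0 1 (le_of_eq hx30)).upd 2 1 1 (le_of_eq hx31)).upd 3 0 1 (le_of_eq hx40)).upd 3 1 1 (le_of_eq hx41)) ![1,1,1,1] (by decide) (by decide) 0 (by decide))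
      · -- 14=(1,3)
        exact False.elim (cert_false T ((skipEmb 3).trans (Function.Embedding.refl _)) (by norm_num) (fun _ => hall _) (((((LB_zero T ((skipEmb 3).trans (Function.Embedding.refl _))).upd 0 3 1 (le_of_eq hx04)).upd 1 3 1 (le_of_eq hx14)).upd 3 0 1 (le_of_eq hx40)).upd 3 1 3 (le_of_eq hx41)) ![1,1,0,2] (by decide) (by decide) 0 (by decide))
      · -- 14=(3,1)
        exact False.elim (cert_false T ((skipEmb 3).trans (Function.Embedding.refl _)) (by norm_num) (fun _ => hall _) (((((LB_zero T ((skipEmb 3).trans (Function.Embedding.refl _))).upd 1 2 1 (le_of_eq hx12)).upd 1 3 3 (le_of_eq hx14)).upd 2 1 1 (le_of_eq hx21)).upd 3 1 1 (le_of_eq hx41)) ![0,2,1,1] (by decide) (by decide) 1 (by decide))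
    · -- 04=(1,2)
      exact False.elim (cert_false T ((skipEmb 2).trans (Function.Embedding.refl _)) (by norm_num) (fun _ => hall _) (((((((LB_zero T ((skipEmb 2).trans (Function.Embedding.refl _))).upd 0 2 1 (le_of_eq hx03)).upd 0 3 1 (le_of_eq hx04)).upd 1 2 2 (le_of_eq hx13)).upd 2 0 1 (le_of_eq hx30)).upd 2 1 1 (le_of_eq hx31)).upd 3 0 2 (le_of_eq hx40)) ![1,1,1,1] (by decide) (by decide) 0 (by decide))
    · -- 04=(2,1)
      exact False.elim (cert_false T ((skipEmb 2).trans (Function.Embedding.refl _)) (by norm_num) (fun _ => hall _) (((((((LB_zero T ((skipEmb 2).trans (Function.Embedding.refl _))).upd 0 2 1 (le_of_eq hx03)).upd 0 3 2 (le_of_eq hx04)).upd 1 2 2 (le_of_eq hx13)).upd 2 0 1 (le_of_eq hx30)).upd 2 1 1 (le_of_eq hx31)).upd 3 0 1 (le_of_eq hx40)) ![2,2,2,1] (by decide) (by decide) 0 (by decide))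
    · -- 04=(1,3)
      exact False.elim (cert_false T ((skipEmb 2).trans (Function.Embedding.refl _)) (by norm_num) (fun _ => hall _) (((((((LB_zero T ((skipEmb 2).trans (Function.Embedding.refl _))).upd 0 2 1 (le_of_eq hx03)).upd 0 3 1 (le_of_eq hx04)).upd 1 2 2 (le_of_eq hx13)).upd 2 0 1 (le_of_eq hx30)).upd 2 1 1 (le_of_eq hx31)).upd 3 0 3 (le_of_eq hx40)) ![1,1,1,1] (by decide) (by decide) 0 (by decide))
    · -- 04=(3,1)
      exact False.elim (cert_false T ((skipEmb 2).trans (Function.Embedding.refl _)) (by norm_num) (fun _ => hall _) (((((LB_zero T ((skipEmb 2).trans (Function.Embedding.refl _))).upd 0 2 1 (le_of_eq hx03)).upd 0 3 3 (le_of_eq hx04)).upd 2 0 1 (le_of_eq hx30)).upd 3 0 1 (le_of_eq hx40)) ![2,0,1,1] (by decide) (by decide) 0 (by decide))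
  · -- 23=(1,1)
    exact False.elim (cert_false T ((skipEmb 4).trans (Function.Embedding.refl _)) (by norm_num) (fun _ => hall _) (((((((LB_zero T ((skipEmb 4).trans (Function.Embedding.refl _))).upd 1 2 1 (le_of_eq hx12)).upd 1 3 2 (le_of_eq hx13)).upd 2 1 1 (le_of_eq hx21)).upd 2 3 1 (le_of_eq hx23)).upd 3 1 1 (le_of_eq hx31)).upd 3 2 1 (le_of_eq hx32)) ![0,1,1,1] (by decide) (by decide) 1 (by decide))
  · -- 23=(1,2)
    exact False.elim (cert_false T ((skipEmb 4).trans (Function.Embedding.refl _)) (by norm_num) (fun _ => hall _) (((((((LB_zero T ((skipEmb 4).trans (Function.Embedding.refl _))).upd 1 2 1 (le_of_eq hx12)).upd 1 3 2 (le_of_eq hx13)).upd 2 1 1 (le_of_eq hx21)).upd 2 3 1 (le_of_eq hx23)).upd 3 1 1 (le_of_eq hx31)).upd 3 2 2 (le_of_eq hx32)) ![0,1,1,1] (by decide) (by decide) 1 (by decide))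
  · -- 23=(2,1)
    exact False.elim (cert_false T ((skipEmb 4).trans (Function.Embedding.refl _)) (by norm_num) (fun _ => hall _) (((((((LB_zero T ((skipEmb 4).trans (Function.Embedding.refl _))).upd 1 2 1 (le_of_eq hx12)).upd 1 3 2 (le_of_eq hx13)).upd 2 1 1 (le_of_eq hx21)).upd 2 3 2 (le_of_eq hx23)).upd 3 1 1 (le_of_eq hx31)).upd 3 2 1 (le_of_eq hx32)) ![0,1,1,1] (by decide) (by decide) 1 (by decide))
  · -- 23=(1,3)
    exact False.elim (cert_false T ((skipEmb 4).trans (Function.Embedding.refl _)) (by norm_num) (fun _ => hall _) (((((((LB_zero T ((skipEmb 4).trans (Function.Embedding.refl _))).upd 1 2 1 (le_of_eq hx12)).upd 1 3 2 (le_of_eq hx13)).upd 2 1 1 (le_of_eq hx21)).upd 2 3 1 (le_of_eq hx23)).upd 3 1 1 (le_of_eq hx31)).upd 3 2 3 (le_of_eq hx32)) ![0,1,1,1] (by decide) (by decide) 1 (by decide))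
  · -- 23=(3,1)
    exact False.elim (cert_false T ((skipEmb 4).trans (Function.Embedding.refl _)) (by norm_num) (fun _ => hall _) (((((((LB_zero T ((skipEmb 4).trans (Function.Embedding.refl _))).upd 1 2 1 (le_of_eq hx12)).upd 1 3 2 (le_of_eq hx13)).upd 2 1 1 (le_of_eq hx21)).upd 2 3 3 (le_of_eq hx23)).upd 3 1 1 (le_of_eq hx31)).upd 3 2 1 (le_of_eq hx32)) ![0,1,1,1] (by decide) (by decide) 1 (by decide))

theorem case135 (T : NumericalType 5) (hall : ∀ i, T.IsMinusTwo i) (d : SData T)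
    (h01 : N T (Function.Embedding.refl _) 0 1 = 0) (h10 : N T (Function.Embedding.refl _) 1 0 = 0)
    (h02 : N T (Function.Embedding.refl _) 0 2 = 0) (h20 : N T (Function.Embedding.refl _) 2 0 = 0)
    (h12 : N T (Function.Embedding.refl _) 1 2 = 1) (h21 : N T (Function.Embedding.refl _) 2 1 = 1)
    (h03 : N T (Function.Embedding.refl _) 0 3 = 2) (h30 : N T (Function.Embedding.refl _) 3 0 = 1)
    (h13 : N T (Function.Embedding.refl _) 1 3 = 1) (h31 : N T (Function.Embedding.refl _) 3 1 = 1)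
    (h23 : N T (Function.Embedding.refl _) 2 3 = 0) (h32 : N T (Function.Embedding.refl _) 3 2 = 0) :
    Goal T := by
  unfold Goal
  have hd := d
  obtain ⟨x01, x02, x03, x04, x10, x12, x13, x14, x20, x21, x23, x24, x30, x31, x32, x34, x40, x41, x42, x43, hx01, hx02, hx03, hx04, hx10, hx12, hx13, hx14, hx20, hx21, hx23, hx24, hx30, hx31, hx32, hx34, hx40, hx41, hx42, hx43, hw0, hm0, hw1, hm1, hw2, hm2, hw3, hm3, hw4, hm4, a00, a01, a02, a03, a04, a11, a10, a12, a13, a14, a22, a20, a21, a23, a24, a33, a30, a31, a32, a34, a44, a40, a41, a42, a43, wN01, wN02, wN12, wN03, wN13, wN23, wN04, wN14, wN24, wN34, e0, e1, e2, e3, e4, d01, d02, d12, d03, d13, d23, d04, d14, d24, d34⟩ := d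
  obtain rfl : x01 = 0 := hx01.trans h01
  obtain rfl : x10 = 0 := hx10.trans h10
  obtain rfl : x02 = 0 := hx02.trans h02
  obtain rfl : x20 = 0 := hx20.trans h20
  obtain rfl : x12 = 1 := hx12.trans h12
  obtain rfl : x21 = 1 := hx21.trans h21
  obtain rfl : x03 = 2 := hx03.trans h03
  obtain rfl : x30 = 1 := hx30.trans h30
  obtain rfl : x13 = 1 := hx13.trans h13
  obtain rfl : x31 = 1 := hx31.trans h31
  obtain rfl : x23 = 0 := hx23.trans h23
  obtain rfl : x32 = 0 := hx32.trans h32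
  rcases d04 with ⟨rfl, rfl⟩ | ⟨rfl, rfl⟩ | ⟨rfl, rfl⟩ | ⟨rfl, rfl⟩ | ⟨rfl, rfl⟩ | ⟨rfl, rfl⟩
  · -- 04=(0,0)
    rcases d14 with ⟨rfl, rfl⟩ | ⟨rfl, rfl⟩ | ⟨rfl, rfl⟩ | ⟨rfl, rfl⟩ | ⟨rfl, rfl⟩ | ⟨rfl, rfl⟩
    · -- 14=(0,0)
      rcases d24 with ⟨rfl, rfl⟩ | ⟨rfl, rfl⟩ | ⟨rfl, rfl⟩ | ⟨rfl, rfl⟩ | ⟨rfl, rfl⟩ | ⟨rfl, rfl⟩
      · -- 24=(0,0)
        rcases d34 with ⟨rfl, rfl⟩ | ⟨rfl, rfl⟩ | ⟨rfl, rfl⟩ | ⟨rfl, rfl⟩ | ⟨rfl, rfl⟩ | ⟨rfl, rfl⟩
        · -- 34=(0,0)
          exfalso; omega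
        · -- 34=(1,1)
          exact False.elim (cert_false T ((skipEmb 2).trans (Function.Embedding.refl _)) (by norm_num) (fun _ => hall _) (((((((LB_zero T ((skipEmb 2).trans (Function.Embedding.refl _))).upd 0 2 2 (le_of_eq hx03)).upd 1 2 1 (le_of_eq hx13)).upd 2 0 1 (le_of_eq hx30)).upd 2 1 1 (le_of_eq hx31)).upd 2 3 1 (le_of_eq hx34)).upd 3 2 1 (le_of_eq hx43)) ![2,1,2,1] (by decide) (by decide) 0 (by decide))
        · -- 34=(1,2)
          exact False.elim (cert_false T ((skipEmb 2).trans (Function.Embedding.refl _)) (by norm_num) (fun _ => hall _) (((((LB_zero T ((skipEmb 2).trans (Function.Embedding.refl _))).upd 0 2 2 (le_of_eq hx03)).upd 2 0 1 (le_of_eq hx30)).upd 2 3 1 (le_of_eq hx34)).upd 3 2 2 (le_of_eq hx43)) ![1,0,1,1] (by decide) (by decide) 0 (by decide))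
        · -- 34=(2,1)
          exact False.elim (cert_false T ((skipEmb 2).trans (Function.Embedding.refl _)) (by norm_num) (fun _ => hall _) (((((((LB_zero T ((skipEmb 2).trans (Function.Embedding.refl _))).upd 0 2 2 (le_of_eq hx03)).upd 1 2 1 (le_of_eq hx13)).upd 2 0 1 (le_of_eq hx30)).upd 2 1 1 (le_of_eq hx31)).upd 2 3 2 (le_of_eq hx34)).upd 3 2 1 (le_of_eq hx43)) ![1,1,2,1] (by decide) (by decide) 0 (by decide))
        · -- 34=(1,3)
          exact False.elim (cert_false T ((skipEmb 2).trans (Function.Embedding.refl _)) (by norm_num) (fun _ => hall _) (((((LB_zero T ((skipEmb 2).trans (Function.Embedding.refl _))).upd 0 2 2 (le_of_eq hx03)).upd 2 0 1 (le_of_eq hx30)).upd 2 3 1 (le_of_eq hx34)).upd 3 2 3 (le_of_eq hx43)) ![1,0,1,1] (by decide) (by decide) 0 (by decide))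
        · -- 34=(3,1)
          exact False.elim (cert_false T ((skipEmb 2).trans (Function.Embedding.refl _)) (by norm_num) (fun _ => hall _) (((((LB_zero T ((skipEmb 2).trans (Function.Embedding.refl _))).upd 1 2 1 (le_of_eq hx13)).upd 2 1 1 (le_of_eq hx31)).upd 2 3 3 (le_of_eq hx34)).upd 3 2 1 (le_of_eq hx43)) ![0,1,2,1] (by decide) (by decide) 1 (by decide))
      · -- 24=(1,1)
        rcases d34 with ⟨rfl, rfl⟩ | ⟨rfl, rfl⟩ | ⟨rfl, rfl⟩ | ⟨rfl, rfl⟩ | ⟨rfl, rfl⟩ | ⟨rfl, rfl⟩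
        · -- 34=(0,0)
          exfalso; omega
        · -- 34=(1,1)
          exact False.elim (cert_false T ((skipEmb 2).trans (Function.Embedding.refl _)) (by norm_num) (fun _ => hall _) (((((((LB_zero T ((skipEmb 2).trans (Function.Embedding.refl _))).upd 0 2 2 (le_of_eq hx03)).upd 1 2 1 (le_of_eq hx13)).upd 2 0 1 (le_of_eq hx30)).upd 2 1 1 (le_of_eq hx31)).upd 2 3 1 (le_of_eq hx34)).upd 3 2 1 (le_of_eq hx43)) ![2,1,2,1] (by decide) (by decide) 0 (by decide))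
        · -- 34=(1,2)
          exact False.elim (cert_false T ((skipEmb 2).trans (Function.Embedding.refl _)) (by norm_num) (fun _ => hall _) (((((LB_zero T ((skipEmb 2).trans (Function.Embedding.refl _))).upd 0 2 2 (le_of_eq hx03)).upd 2 0 1 (le_of_eq hx30)).upd 2 3 1 (le_of_eq hx34)).upd 3 2 2 (le_of_eq hx43)) ![1,0,1,1] (by decide) (by decide) 0 (by decide))
        · -- 34=(2,1)
          exact False.elim (cert_false T ((skipEmb 2).trans (Function.Embedding.refl _)) (by norm_num) (fun _ => hall _) (((((((LB_zero T ((skipEmb 2).trans (Function.Embedding.refl _))).upd 0 2 2 (le_of_eq hx03)).upd 1 2 1 (le_of_eq hx13)).upd 2 0 1 (le_of_eq hx30)).upd 2 1 1 (le_of_eq hx31)).upd 2 3 2 (le_of_eq hx34)).upd 3 2 1 (le_of_eq hx43)) ![1,1,2,1] (by decide) (by decide) 0 (by decide))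
        · -- 34=(1,3)
          exact False.elim (cert_false T ((skipEmb 2).trans (Function.Embedding.refl _)) (by norm_num) (fun _ => hall _) (((((LB_zero T ((skipEmb 2).trans (Function.Embedding.refl _))).upd 0 2 2 (le_of_eq hx03)).upd 2 0 1 (le_of_eq hx30)).upd 2 3 1 (le_of_eq hx34)).upd 3 2 3 (le_of_eq hx43)) ![1,0,1,1] (by decide) (by decide) 0 (by decide))
        · -- 34=(3,1)
          exact False.elim (cert_false T ((skipEmb 2).trans (Function.Embedding.refl _)) (by norm_num) (fun _ => hall _) (((((LB_zero T ((skipEmb 2).trans (Function.Embedding.refl _))).upd 1 2 1 (le_of_eq hx13)).upd 2 1 1 (le_of_eq hx31)).upd 2 3 3 (le_of_eq hx34)).upd 3 2 1 (le_of_eq hx43)) ![0,1,2,1] (by decide) (by decide) 1 (by decide))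
      · -- 24=(1,2)
        rcases d34 with ⟨rfl, rfl⟩ | ⟨rfl, rfl⟩ | ⟨rfl, rfl⟩ | ⟨rfl, rfl⟩ | ⟨rfl, rfl⟩ | ⟨rfl, rfl⟩
        · -- 34=(0,0)
          refine ⟨(⟨![0, 3, 1, 2, 4], ![0, 2, 3, 1, 4], by decide, by decide⟩ : Equiv.Perm (Fin 5)), T.m 0, T.w 0, Or.inr (Or.inr (Or.inr (Or.inr (Or.inl ?_))))⟩
          show T.m 0 = T.m 0 ∧ T.m 3 = T.m 0 ∧ T.m 1 = T.m 0 ∧ T.m 2 = T.m 0 ∧ T.m 4 = T.m 0 ∧ T.w 0 = T.w 0 ∧ T.w 3 = 2 * T.w 0 ∧ T.w 1 = 2 * T.w 0 ∧ T.w 2 = 2 * T.w 0 ∧ T.w 4 = T.w 0 ∧ T.a 0 0 = -2 * T.w 0 ∧ T.a 0 3 = 2 * T.w 0 ∧ T.a 0 1 = 0 ∧ T.a 0 2 = 0 ∧ T.a 0 4 = 0 ∧ T.a 3 3 = -4 * T.w 0 ∧ T.a 3 1 = 2 * T.w 0 ∧ T.a 3 2 = 0 ∧ T.a 3 4 = 0 ∧ T.a 1 1 = -4 * T.w 0 ∧ T.a 1 2 = 2 * T.w 0 ∧ T.a 1 4 = 0 ∧ T.a 2 2 = -4 * T.w 0 ∧ T.a 2 4 = 2 * T.w 0 ∧ T.a 4 4 = -2 * T.w 0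
          refine ⟨?_, ?_, ?_, ?_, ?_, ?_, ?_, ?_, ?_, ?_, ?_, ?_, ?_, ?_, ?_, ?_, ?_, ?_, ?_, ?_, ?_, ?_, ?_, ?_, ?_⟩ <;> omega
        · -- 34=(1,1)
          exact False.elim (cert_false T ((skipEmb 2).trans (Function.Embedding.refl _)) (by norm_num) (fun _ => hall _) (((((((LB_zero T ((skipEmb 2).trans (Function.Embedding.refl _))).upd 0 2 2 (le_of_eq hx03)).upd 1 2 1 (le_of_eq hx13)).upd 2 0 1 (le_of_eq hx30)).upd 2 1 1 (le_of_eq hx31)).upd 2 3 1 (le_of_eq hx34)).upd 3 2 1 (le_of_eq hx43)) ![2,1,2,1] (by decide) (by decide) 0 (by decide))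
        · -- 34=(1,2)
          exact False.elim (cert_false T ((skipEmb 2).trans (Function.Embedding.refl _)) (by norm_num) (fun _ => hall _) (((((LB_zero T ((skipEmb 2).trans (Function.Embedding.refl _))).upd 0 2 2 (le_of_eq hx03)).upd 2 0 1 (le_of_eq hx30)).upd 2 3 1 (le_of_eq hx34)).upd 3 2 2 (le_of_eq hx43)) ![1,0,1,1] (by decide) (by decide) 0 (by decide))
        · -- 34=(2,1)
          exact False.elim (cert_false T ((skipEmb 2).trans (Function.Embedding.refl _)) (by norm_num) (fun _ => hall _) (((((((LB_zero T ((skipEmb 2).trans (Function.Embedding.refl _))).upd 0 2 2 (le_of_eq hx03)).upd 1 2 1 (le_of_eq hx13)).upd 2 0 1 (le_of_eq hx30)).upd 2 1 1 (le_of_eq hx31)).upd 2 3 2 (le_of_eq hx34)).upd 3 2 1 (le_of_eq hx43)) ![1,1,2,1] (by decide) (by decide) 0 (by decide))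
        · -- 34=(1,3)
          exact False.elim (cert_false T ((skipEmb 2).trans (Function.Embedding.refl _)) (by norm_num) (fun _ => hall _) (((((LB_zero T ((skipEmb 2).trans (Function.Embedding.refl _))).upd 0 2 2 (le_of_eq hx03)).upd 2 0 1 (le_of_eq hx30)).upd 2 3 1 (le_of_eq hx34)).upd 3 2 3 (le_of_eq hx43)) ![1,0,1,1] (by decide) (by decide) 0 (by decide))
        · -- 34=(3,1)
          exact False.elim (cert_false T ((skipEmb 2).trans (Function.Embedding.refl _)) (by norm_num) (fun _ => hall _) (((((LB_zero T ((skipEmb 2).trans (Function.Embedding.refl _))).upd 1 2 1 (le_of_eq hx13)).upd 2 1 1 (le_of_eq hx31)).upd 2 3 3 (le_of_eq hx34)).upd 3 2 1 (le_of_eq hx43)) ![0,1,2,1] (by decide) (by decide) 1 (by decide))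
      · -- 24=(2,1)
        rcases d34 with ⟨rfl, rfl⟩ | ⟨rfl, rfl⟩ | ⟨rfl, rfl⟩ | ⟨rfl, rfl⟩ | ⟨rfl, rfl⟩ | ⟨rfl, rfl⟩
        · -- 34=(0,0)
          refine ⟨(⟨![0, 3, 1, 2, 4], ![0, 2, 3, 1, 4], by decide, by decide⟩ : Equiv.Perm (Fin 5)), T.m 4, T.w 0, Or.inr (Or.inr (Or.inr (Or.inl ?_)))⟩
          show T.m 0 = 2 * T.m 4 ∧ T.m 3 = 2 * T.m 4 ∧ T.m 1 = 2 * T.m 4 ∧ T.m 2 = 2 * T.m 4 ∧ T.m 4 = T.m 4 ∧ T.w 0 = T.w 0 ∧ T.w 3 = 2 * T.w 0 ∧ T.w 1 = 2 * T.w 0 ∧ T.w 2 = 2 * T.w 0 ∧ T.w 4 = 4 * T.w 0 ∧ T.a 0 0 = -2 * T.w 0 ∧ T.a 0 3 = 2 * T.w 0 ∧ T.a 0 1 = 0 ∧ T.a 0 2 = 0 ∧ T.a 0 4 = 0 ∧ T.a 3 3 = -4 * T.w 0 ∧ T.a 3 1 = 2 * T.w 0 ∧ T.a 3 2 = 0 ∧ T.a 3 4 = 0 ∧ T.a 1 1 = -4 * T.w 0 ∧ T.a 1 2 = 2 * T.w 0 ∧ T.a 1 4 = 0 ∧ T.a 2 2 = -4 * T.w 0 ∧ T.a 2 4 = 4 * T.w 0 ∧ T.a 4 4 = -8 * T.w 0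
          refine ⟨?_, ?_, ?_, ?_, ?_, ?_, ?_, ?_, ?_, ?_, ?_, ?_, ?_, ?_, ?_, ?_, ?_, ?_, ?_, ?_, ?_, ?_, ?_, ?_, ?_⟩ <;> omega
        · -- 34=(1,1)
          exact False.elim (cert_false T ((skipEmb 2).trans (Function.Embedding.refl _)) (by norm_num) (fun _ => hall _) (((((((LB_zero T ((skipEmb 2).trans (Function.Embedding.refl _))).upd 0 2 2 (le_of_eq hx03)).upd 1 2 1 (le_of_eq hx13)).upd 2 0 1 (le_of_eq hx30)).upd 2 1 1 (le_of_eq hx31)).upd 2 3 1 (le_of_eq hx34)).upd 3 2 1 (le_of_eq hx43)) ![2,1,2,1] (by decide) (by decide) 0 (by decide))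
        · -- 34=(1,2)
          exact False.elim (cert_false T ((skipEmb 2).trans (Function.Embedding.refl _)) (by norm_num) (fun _ => hall _) (((((LB_zero T ((skipEmb 2).trans (Function.Embedding.refl _))).upd 0 2 2 (le_of_eq hx03)).upd 2 0 1 (le_of_eq hx30)).upd 2 3 1 (le_of_eq hx34)).upd 3 2 2 (le_of_eq hx43)) ![1,0,1,1] (by decide) (by decide) 0 (by decide))
        · -- 34=(2,1)
          exact False.elim (cert_false T ((skipEmb 2).trans (Function.Embedding.refl _)) (by norm_num) (fun _ => hall _) (((((((LB_zero T ((skipEmb 2).trans (Function.Embedding.refl _))).upd 0 2 2 (le_of_eq hx03)).upd 1 2 1 (le_of_eq hx13)).upd 2 0 1 (le_of_eq hx30)).upd 2 1 1 (le_of_eq hx31)).upd 2 3 2 (le_of_eq hx34)).upd 3 2 1 (le_of_eq hx43)) ![1,1,2,1] (by decide) (by decide) 0 (by decide))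
        · -- 34=(1,3)
          exact False.elim (cert_false T ((skipEmb 2).trans (Function.Embedding.refl _)) (by norm_num) (fun _ => hall _) (((((LB_zero T ((skipEmb 2).trans (Function.Embedding.refl _))).upd 0 2 2 (le_of_eq hx03)).upd 2 0 1 (le_of_eq hx30)).upd 2 3 1 (le_of_eq hx34)).upd 3 2 3 (le_of_eq hx43)) ![1,0,1,1] (by decide) (by decide) 0 (by decide))
        · -- 34=(3,1)
          exact False.elim (cert_false T ((skipEmb 2).trans (Function.Embedding.refl _)) (by norm_num) (fun _ => hall _) (((((LB_zero T ((skipEmb 2).trans (Function.Embedding.refl _))).upd 1 2 1 (le_of_eq hx13)).upd 2 1 1 (le_of_eq hx31)).upd 2 3 3 (le_of_eq hx34)).upd 3 2 1 (le_of_eq hx43)) ![0,1,2,1] (by decide) (by decide) 1 (by decide))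
      · -- 24=(1,3)
        exact False.elim (cert_false T ((skipEmb 3).trans (Function.Embedding.refl _)) (by norm_num) (fun _ => hall _) (((((LB_zero T ((skipEmb 3).trans (Function.Embedding.refl _))).upd 1 2 1 (le_of_eq hx12)).upd 2 1 1 (le_of_eq hx21)).upd 2 3 1 (le_of_eq hx24)).upd 3 2 3 (le_of_eq hx42)) ![0,1,2,3] (by decide) (by decide) 1 (by decide))
      · -- 24=(3,1)
        exact False.elim (cert_false T ((skipEmb 3).trans (Function.Embedding.refl _)) (by norm_num) (fun _ => hall _) (((((LB_zero T ((skipEmb 3).trans (Function.Embedding.refl _))).upd 1 2 1 (le_of_eq hx12)).upd 2 1 1 (le_of_eq hx21)).upd 2 3 3 (le_of_eq hx24)).upd 3 2 1 (le_of_eq hx42)) ![0,1,2,1] (by decide) (by decide) 1 (by decide))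
    · -- 14=(1,1)
      rcases d24 with ⟨rfl, rfl⟩ | ⟨rfl, rfl⟩ | ⟨rfl, rfl⟩ | ⟨rfl, rfl⟩ | ⟨rfl, rfl⟩ | ⟨rfl, rfl⟩
      · -- 24=(0,0)
        rcases d34 with ⟨rfl, rfl⟩ | ⟨rfl, rfl⟩ | ⟨rfl, rfl⟩ | ⟨rfl, rfl⟩ | ⟨rfl, rfl⟩ | ⟨rfl, rfl⟩
        · -- 34=(0,0)
          refine ⟨(⟨![0, 3, 1, 2, 4], ![0, 2, 3, 1, 4], by decide, by decide⟩ : Equiv.Perm (Fin 5)), T.m 2, T.w 0, Or.inr (Or.inr (Or.inr (Or.inr (Or.inr (Or.inr (Or.inr (Or.inr (?_))))))))⟩
          show T.m 0 = 2 * T.m 2 ∧ T.m 3 = 2 * T.m 2 ∧ T.m 1 = 2 * T.m 2 ∧ T.m 2 = T.m 2 ∧ T.m 4 = T.m 2 ∧ T.w 0 = T.w 0 ∧ T.w 3 = 2 * T.w 0 ∧ T.w 1 = 2 * T.w 0 ∧ T.w 2 = 2 * T.w 0 ∧ T.w 4 = 2 * T.w 0 ∧ T.a 0 0 = -2 * T.w 0 ∧ T.a 0 3 = 2 * T.w 0 ∧ T.a 0 1 = 0 ∧ T.a 0 2 = 0 ∧ T.a 0 4 = 0 ∧ T.a 3 3 = -4 * T.w 0 ∧ T.a 3 1 = 2 * T.w 0 ∧ T.a 3 2 = 0 ∧ T.a 3 4 = 0 ∧ T.a 1 1 = -4 * T.w 0 ∧ T.a 1 2 = 2 * T.w 0 ∧ T.a 1 4 = 2 * T.w 0 ∧ T.a 2 2 = -4 * T.w 0 ∧ T.a 2 4 = 0 ∧ T.a 4 4 = -4 * T.w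 0
          refine ⟨?_, ?_, ?_, ?_, ?_, ?_, ?_, ?_, ?_, ?_, ?_, ?_, ?_, ?_, ?_, ?_, ?_, ?_, ?_, ?_, ?_, ?_, ?_, ?_, ?_⟩ <;> omega
        · -- 34=(1,1)
          exact False.elim (cert_false T ((skipEmb 2).trans (Function.Embedding.refl _)) (by norm_num) (fun _ => hall _) (((((((LB_zero T ((skipEmb 2).trans (Function.Embedding.refl _))).upd 1 2 1 (le_of_eq hx13)).upd 1 3 1 (le_of_eq hx14)).upd 2 1 1 (le_of_eq hx31)).upd 2 3 1 (le_of_eq hx34)).upd 3 1 1 (le_of_eq hx41)).upd 3 2 1 (le_of_eq hx43)) ![0,1,1,1] (by decide) (by decide) 1 (by decide))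
        · -- 34=(1,2)
          exact False.elim (cert_false T ((skipEmb 2).trans (Function.Embedding.refl _)) (by norm_num) (fun _ => hall _) (((((((LB_zero T ((skipEmb 2).trans (Function.Embedding.refl _))).upd 1 2 1 (le_of_eq hx13)).upd 1 3 1 (le_of_eq hx14)).upd 2 1 1 (le_of_eq hx31)).upd 2 3 1 (le_of_eq hx34)).upd 3 1 1 (le_of_eq hx41)).upd 3 2 2 (le_of_eq hx43)) ![0,1,1,1] (by decide) (by decide) 1 (by decide))
        · -- 34=(2,1)
          exact False.elim (cert_false T ((skipEmb 2).trans (Function.Embedding.refl _)) (by norm_num) (fun _ => hall _) (((((((LB_zero T ((skipEmb 2).trans (Function.Embedding.refl _))).upd 1 2 1 (le_of_eq hx13)).upd 1 3 1 (le_of_eq hx14)).upd 2 1 1 (le_of_eq hx31)).upd 2 3 2 (le_of_eq hx34)).upd 3 1 1 (le_of_eq hx41)).upd 3 2 1 (le_of_eq hx43)) ![0,1,1,1] (by decide) (by decide) 1 (by decide))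
        · -- 34=(1,3)
          exact False.elim (cert_false T ((skipEmb 2).trans (Function.Embedding.refl _)) (by norm_num) (fun _ => hall _) (((((LB_zero T ((skipEmb 2).trans (Function.Embedding.refl _))).upd 0 2 2 (le_of_eq hx03)).upd 2 0 1 (le_of_eq hx30)).upd 2 3 1 (le_of_eq hx34)).upd 3 2 3 (le_of_eq hx43)) ![1,0,1,1] (by decide) (by decide) 0 (by decide))
        · -- 34=(3,1)
          exact False.elim (cert_false T ((skipEmb 2).trans (Function.Embedding.refl _)) (by norm_num) (fun _ => hall _) (((((((LB_zero T ((skipEmb 2).trans (Function.Embedding.refl _))).upd 1 2 1 (le_of_eq hx13)).upd 1 3 1 (le_of_eq hx14)).upd 2 1 1 (le_of_eq hx31)).upd 2 3 3 (le_of_eq hx34)).upd 3 1 1 (le_of_eq hx41)).upd 3 2 1 (le_of_eq hx43)) ![0,1,1,1] (by decide) (by decide) 1 (by decide))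
      · -- 24=(1,1)
        exact False.elim (cert_false T ((skipEmb 3).trans (Function.Embedding.refl _)) (by norm_num) (fun _ => hall _) (((((((LB_zero T ((skipEmb 3).trans (Function.Embedding.refl _))).upd 1 2 1 (le_of_eq hx12)).upd 1 3 1 (le_of_eq hx14)).upd 2 1 1 (le_of_eq hx21)).upd 2 3 1 (le_of_eq hx24)).upd 3 1 1 (le_of_eq hx41)).upd 3 2 1 (le_of_eq hx42)) ![0,1,1,1] (by decide) (by decide) 1 (by decide))
      · -- 24=(1,2)
        exact False.elim (cert_false T ((skipEmb 3).trans (Function.Embedding.refl _)) (by norm_num) (fun _ => hall _) (((((((LB_zero T ((skipEmb 3).trans (Function.Embedding.refl _))).upd 1 2 1 (le_of_eq hx12)).upd 1 3 1 (le_of_eq hx14)).upd 2 1 1 (le_of_eq hx21)).upd 2 3 1 (le_of_eq hx24)).upd 3 1 1 (le_of_eq hx41)).upd 3 2 2 (le_of_eq hx42)) ![0,1,1,1] (by decide) (by decide) 1 (by decide))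
      · -- 24=(2,1)
        exact False.elim (cert_false T ((skipEmb 3).trans (Function.Embedding.refl _)) (by norm_num) (fun _ => hall _) (((((((LB_zero T ((skipEmb 3).trans (Function.Embedding.refl _))).upd 1 2 1 (le_of_eq hx12)).upd 1 3 1 (le_of_eq hx14)).upd 2 1 1 (le_of_eq hx21)).upd 2 3 2 (le_of_eq hx24)).upd 3 1 1 (le_of_eq hx41)).upd 3 2 1 (le_of_eq hx42)) ![0,1,1,1] (by decide) (by decide) 1 (by decide))
      · -- 24=(1,3)
        exact False.elim (cert_false T ((skipEmb 3).trans (Function.Embedding.refl _)) (by norm_num) (fun _ => hall _) (((((((LB_zero T ((skipEmb 3).trans (Function.Embedding.refl _))).upd 1 2 1 (le_of_eq hx12)).upd 1 3 1 (le_of_eq hx14)).upd 2 1 1 (le_of_eq hx21)).upd 2 3 1 (le_of_eq hx24)).upd 3 1 1 (le_of_eq hx41)).upd 3 2 3 (le_of_eq hx42)) ![0,1,1,1] (by decide) (by decide) 1 (by decide))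
      · -- 24=(3,1)
        exact False.elim (cert_false T ((skipEmb 3).trans (Function.Embedding.refl _)) (by norm_num) (fun _ => hall _) (((((((LB_zero T ((skipEmb 3).trans (Function.Embedding.refl _))).upd 1 2 1 (le_of_eq hx12)).upd 1 3 1 (le_of_eq hx14)).upd 2 1 1 (le_of_eq hx21)).upd 2 3 3 (le_of_eq hx24)).upd 3 1 1 (le_of_eq hx41)).upd 3 2 1 (le_of_eq hx42)) ![0,1,1,1] (by decide) (by decide) 1 (by decide))
    · -- 14=(1,2)
      exact False.elim (cert_false T ((skipEmb 2).trans (Function.Embedding.refl _)) (by norm_num) (fun _ => hall _) (((((((LB_zero T ((skipEmb 2).trans (Function.Embedding.refl _))).upd 0 2 2 (le_of_eq hx03)).upd 1 2 1 (le_of_eq hx13)).upd 1 3 1 (le_of_eq hx14)).upd 2 0 1 (le_of_eq hx30)).upd 2 1 1 (le_of_eq hx31)).upd 3 1 2 (le_of_eq hx41)) ![1,1,1,1] (by decide) (by decide) 0 (by decide))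
    · -- 14=(2,1)
      exact False.elim (cert_false T ((skipEmb 2).trans (Function.Embedding.refl _)) (by norm_num) (fun _ => hall _) (((((((LB_zero T ((skipEmb 2).trans (Function.Embedding.refl _))).upd 0 2 2 (le_of_eq hx03)).upd 1 2 1 (le_of_eq hx13)).upd 1 3 2 (le_of_eq hx14)).upd 2 0 1 (le_of_eq hx30)).upd 2 1 1 (le_of_eq hx31)).upd 3 1 1 (le_of_eq hx41)) ![2,2,2,1] (by decide) (by decide) 0 (by decide))
    · -- 14=(1,3)
      exact False.elim (cert_false T ((skipEmb 3).trans (Function.Embedding.refl _)) (by norm_num) (fun _ => hall _) (((((LB_zero T ((skipEmb 3).trans (Function.Embedding.refl _))).upd 1 2 1 (le_of_eq hx12)).upd 1 3 1 (le_of_eq hx14)).upd 2 1 1 (le_of_eq hx21)).upd 3 1 3 (le_of_eq hx41)) ![0,2,1,3] (by decide) (by decide) 1 (by decide))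
    · -- 14=(3,1)
      exact False.elim (cert_false T ((skipEmb 3).trans (Function.Embedding.refl _)) (by norm_num) (fun _ => hall _) (((((LB_zero T ((skipEmb 3).trans (Function.Embedding.refl _))).upd 1 2 1 (le_of_eq hx12)).upd 1 3 3 (le_of_eq hx14)).upd 2 1 1 (le_of_eq hx21)).upd 3 1 1 (le_of_eq hx41)) ![0,2,1,1] (by decide) (by decide) 1 (by decide))
  · -- 04=(1,1)
    rcases d14 with ⟨rfl, rfl⟩ | ⟨rfl, rfl⟩ | ⟨rfl, rfl⟩ | ⟨rfl, rfl⟩ | ⟨rfl, rfl⟩ | ⟨rfl, rfl⟩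
    · -- 14=(0,0)
      rcases d24 with ⟨rfl, rfl⟩ | ⟨rfl, rfl⟩ | ⟨rfl, rfl⟩ | ⟨rfl, rfl⟩ | ⟨rfl, rfl⟩ | ⟨rfl, rfl⟩
      · -- 24=(0,0)
        rcases d34 with ⟨rfl, rfl⟩ | ⟨rfl, rfl⟩ | ⟨rfl, rfl⟩ | ⟨rfl, rfl⟩ | ⟨rfl, rfl⟩ | ⟨rfl, rfl⟩
        · -- 34=(0,0)
          refine ⟨(⟨![2, 1, 3, 0, 4], ![3, 1, 0, 2, 4], by decide, by decide⟩ : Equiv.Perm (Fin 5)), T.m 2, T.w 0, Or.inr (Or.inr (Or.inl ?_))⟩
          show T.m 2 = T.m 2 ∧ T.m 1 = 2 * T.m 2 ∧ T.m 3 = 3 * T.m 2 ∧ T.m 0 = 4 * T.m 2 ∧ T.m 4 = 2 * T.m 2 ∧ T.w 2 = 2 * T.w 0 ∧ T.w 1 = 2 * T.w 0 ∧ T.w 3 = 2 * T.w 0 ∧ T.w 0 = T.w 0 ∧ T.w 4 = T.w 0 ∧ T.a 2 2 = -4 * T.w 0 ∧ T.a 2 1 = 2 * T.w 0 ∧ T.a 2 3 = 0 ∧ T.a 2 0 = 0 ∧ T.a 2 4 = 0 ∧ T.a 1 1 = -4 * T.w 0 ∧ T.a 1 3 = 2 * T.w 0 ∧ T.a 1 0 = 0 ∧ T.a 1 4 = 0 ∧ T.a 3 3 = -4 * T.w 0 ∧ T.a 3 0 = 2 * T.w 0 ∧ T.a 3 4 = 0 ∧ T.a 0 0 = -2 * T.w 0 ∧ T.a 0 4 = T.w 0 ∧ T.a 4 4 = -2 * T.w 0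
          refine ⟨?_, ?_, ?_, ?_, ?_, ?_, ?_, ?_, ?_, ?_, ?_, ?_, ?_, ?_, ?_, ?_, ?_, ?_, ?_, ?_, ?_, ?_, ?_, ?_, ?_⟩ <;> omega
        · -- 34=(1,1)
          exact False.elim (cert_false T ((skipEmb 2).trans (Function.Embedding.refl _)) (by norm_num) (fun _ => hall _) (((((((LB_zero T ((skipEmb 2).trans (Function.Embedding.refl _))).upd 0 2 2 (le_of_eq hx03)).upd 0 3 1 (le_of_eq hx04)).upd 2 0 1 (le_of_eq hx30)).upd 2 3 1 (le_of_eq hx34)).upd 3 0 1 (le_of_eq hx40)).upd 3 2 1 (le_of_eq hx43)) ![1,0,1,1] (by decide) (by decide) 0 (by decide))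
        · -- 34=(1,2)
          exact False.elim (cert_false T ((skipEmb 2).trans (Function.Embedding.refl _)) (by norm_num) (fun _ => hall _) (((((((LB_zero T ((skipEmb 2).trans (Function.Embedding.refl _))).upd 0 2 2 (le_of_eq hx03)).upd 0 3 1 (le_of_eq hx04)).upd 2 0 1 (le_of_eq hx30)).upd 2 3 1 (le_of_eq hx34)).upd 3 0 1 (le_of_eq hx40)).upd 3 2 2 (le_of_eq hx43)) ![1,0,1,1] (by decide) (by decide) 0 (by decide))
        · -- 34=(2,1)
          exact False.elim (cert_false T ((skipEmb 2).trans (Function.Embedding.refl _)) (by norm_num) (fun _ => hall _) (((((((LB_zero T ((skipEmb 2).trans (Function.Embedding.refl _))).upd 0 2 2 (le_of_eq hx03)).upd 0 3 1 (le_of_eq hx04)).upd 2 0 1 (le_of_eq hx30)).upd 2 3 2 (le_of_eq hx34)).upd 3 0 1 (le_of_eq hx40)).upd 3 2 1 (le_of_eq hx43)) ![1,0,1,1] (by decide) (by decide) 0 (by decide))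
        · -- 34=(1,3)
          exact False.elim (cert_false T ((skipEmb 2).trans (Function.Embedding.refl _)) (by norm_num) (fun _ => hall _) (((((((LB_zero T ((skipEmb 2).trans (Function.Embedding.refl _))).upd 0 2 2 (le_of_eq hx03)).upd 0 3 1 (le_of_eq hx04)).upd 2 0 1 (le_of_eq hx30)).upd 2 3 1 (le_of_eq hx34)).upd 3 0 1 (le_of_eq hx40)).upd 3 2 3 (le_of_eq hx43)) ![1,0,1,1] (by decide) (by decide) 0 (by decide))
        · -- 34=(3,1)
          exact False.elim (cert_false T ((skipEmb 2).trans (Function.Embedding.refl _)) (by norm_num) (fun _ => hall _) (((((((LB_zero T ((skipEmb 2).trans (Function.Embedding.refl _))).upd 0 2 2 (le_of_eq hx03)).upd 0 3 1 (le_of_eq hx04)).upd 2 0 1 (le_of_eq hx30)).upd 2 3 3 (le_of_eq hx34)).upd 3 0 1 (le_of_eq hx40)).upd 3 2 1 (le_of_eq hx43)) ![1,0,1,1] (by decide) (by decide) 0 (by decide))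
      · -- 24=(1,1)
        rcases d34 with ⟨rfl, rfl⟩ | ⟨rfl, rfl⟩ | ⟨rfl, rfl⟩ | ⟨rfl, rfl⟩ | ⟨rfl, rfl⟩ | ⟨rfl, rfl⟩
        · -- 34=(0,0)
          exfalso; omega
        · -- 34=(1,1)
          exact False.elim (cert_false T ((skipEmb 2).trans (Function.Embedding.refl _)) (by norm_num) (fun _ => hall _) (((((((LB_zero T ((skipEmb 2).trans (Function.Embedding.refl _))).upd 0 2 2 (le_of_eq hx03)).upd 0 3 1 (le_of_eq hx04)).upd 2 0 1 (le_of_eq hx30)).upd 2 3 1 (le_of_eq hx34)).upd 3 0 1 (le_of_eq hx40)).upd 3 2 1 (le_of_eq hx43)) ![1,0,1,1] (by decide) (by decide) 0 (by decide))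
        · -- 34=(1,2)
          exact False.elim (cert_false T ((skipEmb 2).trans (Function.Embedding.refl _)) (by norm_num) (fun _ => hall _) (((((((LB_zero T ((skipEmb 2).trans (Function.Embedding.refl _))).upd 0 2 2 (le_of_eq hx03)).upd 0 3 1 (le_of_eq hx04)).upd 2 0 1 (le_of_eq hx30)).upd 2 3 1 (le_of_eq hx34)).upd 3 0 1 (le_of_eq hx40)).upd 3 2 2 (le_of_eq hx43)) ![1,0,1,1] (by decide) (by decide) 0 (by decide))
        · -- 34=(2,1)
          exact False.elim (cert_false T ((skipEmb 2).trans (Function.Embedding.refl _)) (by norm_num) (fun _ => hall _) (((((((LB_zero T ((skipEmb 2).trans (Function.Embedding.refl _))).upd 0 2 2 (le_of_eq hx03)).upd 0 3 1 (le_of_eq hx04)).upd 2 0 1 (le_of_eq hx30)).upd 2 3 2 (le_of_eq hx34)).upd 3 0 1 (le_of_eq hx40)).upd 3 2 1 (le_of_eq hx43)) ![1,0,1,1] (by decide) (by decide) 0 (by decide))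
        · -- 34=(1,3)
          exact False.elim (cert_false T ((skipEmb 2).trans (Function.Embedding.refl _)) (by norm_num) (fun _ => hall _) (((((((LB_zero T ((skipEmb 2).trans (Function.Embedding.refl _))).upd 0 2 2 (le_of_eq hx03)).upd 0 3 1 (le_of_eq hx04)).upd 2 0 1 (le_of_eq hx30)).upd 2 3 1 (le_of_eq hx34)).upd 3 0 1 (le_of_eq hx40)).upd 3 2 3 (le_of_eq hx43)) ![1,0,1,1] (by decide) (by decide) 0 (by decide))
        · -- 34=(3,1)
          exact False.elim (cert_false T ((skipEmb 2).trans (Function.Embedding.refl _)) (by norm_num) (fun _ => hall _) (((((((LB_zero T ((skipEmb 2).trans (Function.Embedding.refl _))).upd 0 2 2 (le_of_eq hx03)).upd 0 3 1 (le_of_eq hx04)).upd 2 0 1 (le_of_eq hx30)).upd 2 3 3 (le_of_eq hx34)).upd 3 0 1 (le_of_eq hx40)).upd 3 2 1 (le_of_eq hx43)) ![1,0,1,1] (by decide) (by decide) 0 (by decide))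
      · -- 24=(1,2)
        exact False.elim (cert_false T ((skipEmb 1).trans (Function.Embedding.refl _)) (by norm_num) (fun _ => hall _) (((((((LB_zero T ((skipEmb 1).trans (Function.Embedding.refl _))).upd 0 2 2 (le_of_eq hx03)).upd 0 3 1 (le_of_eq hx04)).upd 1 3 1 (le_of_eq hx24)).upd 2 0 1 (le_of_eq hx30)).upd 3 0 1 (le_of_eq hx40)).upd 3 1 2 (le_of_eq hx42)) ![2,1,1,2] (by decide) (by decide) 0 (by decide))
      · -- 24=(2,1)
        exact False.elim (cert_false T ((skipEmb 1).trans (Function.Embedding.refl _)) (by norm_num) (fun _ => hall _) (((((((LB_zero T ((skipEmb 1).trans (Function.Embedding.refl _))).upd 0 2 2 (le_of_eq hx03)).upd 0 3 1 (le_of_eq hx04)).upd 1 3 2 (le_of_eq hx24)).upd 2 0 1 (le_of_eq hx30)).upd 3 0 1 (le_of_eq hx40)).upd 3 1 1 (le_of_eq hx42)) ![2,2,1,2] (by decide) (by decide) 0 (by decide))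
      · -- 24=(1,3)
        exact False.elim (cert_false T ((skipEmb 3).trans (Function.Embedding.refl _)) (by norm_num) (fun _ => hall _) (((((LB_zero T ((skipEmb 3).trans (Function.Embedding.refl _))).upd 0 3 1 (le_of_eq hx04)).upd 2 3 1 (le_of_eq hx24)).upd 3 0 1 (le_of_eq hx40)).upd 3 2 3 (le_of_eq hx42)) ![1,0,1,2] (by decide) (by decide) 0 (by decide))
      · -- 24=(3,1)
        exact False.elim (cert_false T ((skipEmb 3).trans (Function.Embedding.refl _)) (by norm_num) (fun _ => hall _) (((((LB_zero T ((skipEmb 3).trans (Function.Embedding.refl _))).upd 1 2 1 (le_of_eq hx12)).upd 2 1 1 (le_of_eq hx21)).upd 2 3 3 (le_of_eq hx24)).upd 3 2 1 (le_of_eq hx42)) ![0,1,2,1] (by decide) (by decide) 1 (by decide))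
    · -- 14=(1,1)
      exact False.elim (cert_false T ((skipEmb 2).trans (Function.Embedding.refl _)) (by norm_num) (fun _ => hall _) (((((((((LB_zero T ((skipEmb 2).trans (Function.Embedding.refl _))).upd 0 2 2 (le_of_eq hx03)).upd 0 3 1 (le_of_eq hx04)).upd 1 2 1 (le_of_eq hx13)).upd 1 3 1 (le_of_eq hx14)).upd 2 0 1 (le_of_eq hx30)).upd 2 1 1 (le_of_eq hx31)).upd 3 0 1 (le_of_eq hx40)).upd 3 1 1 (le_of_eq hx41)) ![1,1,1,1] (by decide) (by decide) 0 (by decide))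
    · -- 14=(1,2)
      exact False.elim (cert_false T ((skipEmb 2).trans (Function.Embedding.refl _)) (by norm_num) (fun _ => hall _) (((((((((LB_zero T ((skipEmb 2).trans (Function.Embedding.refl _))).upd 0 2 2 (le_of_eq hx03)).upd 0 3 1 (le_of_eq hx04)).upd 1 2 1 (le_of_eq hx13)).upd 1 3 1 (le_of_eq hx14)).upd 2 0 1 (le_of_eq hx30)).upd 2 1 1 (le_of_eq hx31)).upd 3 0 1 (le_of_eq hx40)).upd 3 1 2 (le_of_eq hx41)) ![1,1,1,1] (by decide) (by decide) 0 (by decide))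
    · -- 14=(2,1)
      exact False.elim (cert_false T ((skipEmb 2).trans (Function.Embedding.refl _)) (by norm_num) (fun _ => hall _) (((((((((LB_zero T ((skipEmb 2).trans (Function.Embedding.refl _))).upd 0 2 2 (le_of_eq hx03)).upd 0 3 1 (le_of_eq hx04)).upd 1 2 1 (le_of_eq hx13)).upd 1 3 2 (le_of_eq hx14)).upd 2 0 1 (le_of_eq hx30)).upd 2 1 1 (le_of_eq hx31)).upd 3 0 1 (le_of_eq hx40)).upd 3 1 1 (le_of_eq hx41)) ![1,1,1,1] (by decide) (by decide) 0 (by decide))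
    · -- 14=(1,3)
      exact False.elim (cert_false T ((skipEmb 3).trans (Function.Embedding.refl _)) (by norm_num) (fun _ => hall _) (((((LB_zero T ((skipEmb 3).trans (Function.Embedding.refl _))).upd 0 3 1 (le_of_eq hx04)).upd 1 3 1 (le_of_eq hx14)).upd 3 0 1 (le_of_eq hx40)).upd 3 1 3 (le_of_eq hx41)) ![1,1,0,2] (by decide) (by decide) 0 (by decide))
    · -- 14=(3,1)
      exact False.elim (cert_false T ((skipEmb 3).trans (Function.Embedding.refl _)) (by norm_num) (fun _ => hall _) (((((LB_zero T ((skipEmb 3).trans (Function.Embedding.refl _))).upd 1 2 1 (le_of_eq hx12)).upd 1 3 3 (le_of_eq hx14)).upd 2 1 1 (le_of_eq hx21)).upd 3 1 1 (le_of_eq hx41)) ![0,2,1,1] (by decide) (by decide) 1 (by decide))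
  · -- 04=(1,2)
    exact False.elim (cert_false T ((skipEmb 2).trans (Function.Embedding.refl _)) (by norm_num) (fun _ => hall _) (((((LB_zero T ((skipEmb 2).trans (Function.Embedding.refl _))).upd 0 2 2 (le_of_eq hx03)).upd 0 3 1 (le_of_eq hx04)).upd 2 0 1 (le_of_eq hx30)).upd 3 0 2 (le_of_eq hx40)) ![2,0,1,2] (by decide) (by decide) 0 (by decide))
  · -- 04=(2,1)
    exact False.elim (cert_false T ((skipEmb 2).trans (Function.Embedding.refl _)) (by norm_num) (fun _ => hall _) (((((LB_zero T ((skipEmb 2).trans (Function.Embedding.refl _))).upd 0 2 2 (le_of_eq hx03)).upd 0 3 2 (le_of_eq hx04)).upd 2 0 1 (le_of_eq hx30)).upd 3 0 1 (le_of_eq hx40)) ![2,0,1,1] (by decide) (by decide) 0 (by decide))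
  · -- 04=(1,3)
    exact False.elim (cert_false T ((skipEmb 2).trans (Function.Embedding.refl _)) (by norm_num) (fun _ => hall _) (((((LB_zero T ((skipEmb 2).trans (Function.Embedding.refl _))).upd 0 2 2 (le_of_eq hx03)).upd 0 3 1 (le_of_eq hx04)).upd 2 0 1 (le_of_eq hx30)).upd 3 0 3 (le_of_eq hx40)) ![2,0,1,2] (by decide) (by decide) 0 (by decide))
  · -- 04=(3,1)
    exact False.elim (cert_false T ((skipEmb 2).trans (Function.Embedding.refl _)) (by norm_num) (fun _ => hall _) (((((LB_zero T ((skipEmb 2).trans (Function.Embedding.refl _))).upd 0 2 2 (le_of_eq hx03)).upd 0 3 3 (le_of_eq hx04)).upd 2 0 1 (le_of_eq hx30)).upd 3 0 1 (le_of_eq hx40)) ![2,0,1,1] (by decide) (by decide) 0 (by decide))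

theorem case134 (T : NumericalType 5) (hall : ∀ i, T.IsMinusTwo i) (d : SData T)
    (h01 : N T (Function.Embedding.refl _) 0 1 = 0) (h10 : N T (Function.Embedding.refl _) 1 0 = 0)
    (h02 : N T (Function.Embedding.refl _) 0 2 = 0) (h20 : N T (Function.Embedding.refl _) 2 0 = 0)
    (h12 : N T (Function.Embedding.refl _) 1 2 = 1) (h21 : N T (Function.Embedding.refl _) 2 1 = 1)
    (h03 : N T (Function.Embedding.refl _) 0 3 = 2) (h30 : N T (Function.Embedding.refl _) 3 0 = 1)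
    (h13 : N T (Function.Embedding.refl _) 1 3 = 1) (h31 : N T (Function.Embedding.refl _) 3 1 = 1) :
    Goal T := by
  unfold Goal
  have hd := d
  obtain ⟨x01, x02, x03, x04, x10, x12, x13, x14, x20, x21, x23, x24, x30, x31, x32, x34, x40, x41, x42, x43, hx01, hx02, hx03, hx04, hx10, hx12, hx13, hx14, hx20, hx21, hx23, hx24, hx30, hx31, hx32, hx34, hx40, hx41, hx42, hx43, hw0, hm0, hw1, hm1, hw2, hm2, hw3, hm3, hw4, hm4, a00, a01, a02, a03, a04, a11, a10, a12, a13, a14, a22, a20, a21, a23, a24, a33, a30, a31, a32, a34, a44, a40, a41, a42, a43, wN01, wN02, wN12, wN03, wN13, wN23, wN04, wN14, wN24, wN34, e0, e1, e2, e3, e4, d01, d02, d12, d03, d13, d23, d04, d14, d24, d34⟩ := d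
  obtain rfl : x01 = 0 := hx01.trans h01
  obtain rfl : x10 = 0 := hx10.trans h10
  obtain rfl : x02 = 0 := hx02.trans h02
  obtain rfl : x20 = 0 := hx20.trans h20
  obtain rfl : x12 = 1 := hx12.trans h12
  obtain rfl : x21 = 1 := hx21.trans h21
  obtain rfl : x03 = 2 := hx03.trans h03
  obtain rfl : x30 = 1 := hx30.trans h30
  obtain rfl : x13 = 1 := hx13.trans h13
  obtain rfl : x31 = 1 := hx31.trans h31
  rcases d23 with ⟨rfl, rfl⟩ | ⟨rfl, rfl⟩ | ⟨rfl, rfl⟩ | ⟨rfl, rfl⟩ | ⟨rfl, rfl⟩ | ⟨rfl, rfl⟩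
  · -- 23=(0,0)
    exact case135 T hall hd hx01.symm hx10.symm hx02.symm hx20.symm hx12.symm hx21.symm hx03.symm hx30.symm hx13.symm hx31.symm hx23.symm hx32.symm
  · -- 23=(1,1)
    exact False.elim (cert_false T ((skipEmb 4).trans (Function.Embedding.refl _)) (by norm_num) (fun _ => hall _) (((((((LB_zero T ((skipEmb 4).trans (Function.Embedding.refl _))).upd 1 2 1 (le_of_eq hx12)).upd 1 3 1 (le_of_eq hx13)).upd 2 1 1 (le_of_eq hx21)).upd 2 3 1 (le_of_eq hx23)).upd 3 1 1 (le_of_eq hx31)).upd 3 2 1 (le_of_eq hx32)) ![0,1,1,1] (by decide) (by decide) 1 (by decide))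
  · -- 23=(1,2)
    exact False.elim (cert_false T ((skipEmb 4).trans (Function.Embedding.refl _)) (by norm_num) (fun _ => hall _) (((((((LB_zero T ((skipEmb 4).trans (Function.Embedding.refl _))).upd 1 2 1 (le_of_eq hx12)).upd 1 3 1 (le_of_eq hx13)).upd 2 1 1 (le_of_eq hx21)).upd 2 3 1 (le_of_eq hx23)).upd 3 1 1 (le_of_eq hx31)).upd 3 2 2 (le_of_eq hx32)) ![0,1,1,1] (by decide) (by decide) 1 (by decide))
  · -- 23=(2,1)
    exact False.elim (cert_false T ((skipEmb 4).trans (Function.Embedding.refl _)) (by norm_num) (fun _ => hall _) (((((LB_zero T ((skipEmb 4).trans (Function.Embedding.refl _))).upd 0 3 2 (le_of_eq hx03)).upd 2 3 2 (le_of_eq hx23)).upd 3 0 1 (le_of_eq hx30)).upd 3 2 1 (le_of_eq hx32)) ![1,0,1,1] (by decide) (by decide) 0 (by decide))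
  · -- 23=(1,3)
    exact False.elim (cert_false T ((skipEmb 4).trans (Function.Embedding.refl _)) (by norm_num) (fun _ => hall _) (((((((LB_zero T ((skipEmb 4).trans (Function.Embedding.refl _))).upd 1 2 1 (le_of_eq hx12)).upd 1 3 1 (le_of_eq hx13)).upd 2 1 1 (le_of_eq hx21)).upd 2 3 1 (le_of_eq hx23)).upd 3 1 1 (le_of_eq hx31)).upd 3 2 3 (le_of_eq hx32)) ![0,1,1,1] (by decide) (by decide) 1 (by decide))
  · -- 23=(3,1)
    exact False.elim (cert_false T ((skipEmb 4).trans (Function.Embedding.refl _)) (by norm_num) (fun _ => hall _) (((((LB_zero T ((skipEmb 4).trans (Function.Embedding.refl _))).upd 0 3 2 (le_of_eq hx03)).upd 2 3 3 (le_of_eq hx23)).upd 3 0 1 (le_of_eq hx30)).upd 3 2 1 (le_of_eq hx32)) ![1,0,1,1] (by decide) (by decide) 0 (by decide))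

theorem case273 (T : NumericalType 5) (hall : ∀ i, T.IsMinusTwo i) (d : SData T)
    (h01 : N T (Function.Embedding.refl _) 0 1 = 0) (h10 : N T (Function.Embedding.refl _) 1 0 = 0)
    (h02 : N T (Function.Embedding.refl _) 0 2 = 1) (h20 : N T (Function.Embedding.refl _) 2 0 = 1)
    (h12 : N T (Function.Embedding.refl _) 1 2 = 1) (h21 : N T (Function.Embedding.refl _) 2 1 = 2)
    (h03 : N T (Function.Embedding.refl _) 0 3 = 1) (h30 : N T (Function.Embedding.refl _) 3 0 = 1)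
    (h13 : N T (Function.Embedding.refl _) 1 3 = 0) (h31 : N T (Function.Embedding.refl _) 3 1 = 0) :
    Goal T := by
  unfold Goal
  have hd := d
  obtain ⟨x01, x02, x03, x04, x10, x12, x13, x14, x20, x21, x23, x24, x30, x31, x32, x34, x40, x41, x42, x43, hx01, hx02, hx03, hx04, hx10, hx12, hx13, hx14, hx20, hx21, hx23, hx24, hx30, hx31, hx32, hx34, hx40, hx41, hx42, hx43, hw0, hm0, hw1, hm1, hw2, hm2, hw3, hm3, hw4, hm4, a00, a01, a02, a03, a04, a11, a10, a12, a13, a14, a22, a20, a21, a23, a24, a33, a30, a31, a32, a34, a44, a40, a41, a42, a43, wN01, wN02, wN12, wN03, wN13, wN23, wN04, wN14, wN24, wN34, e0, e1, e2, e3, e4, d01, d02, d12, d03, d13, d23, d04, d14, d24, d34⟩ := d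
  obtain rfl : x01 = 0 := hx01.trans h01
  obtain rfl : x10 = 0 := hx10.trans h10
  obtain rfl : x02 = 1 := hx02.trans h02
  obtain rfl : x20 = 1 := hx20.trans h20
  obtain rfl : x12 = 1 := hx12.trans h12
  obtain rfl : x21 = 2 := hx21.trans h21
  obtain rfl : x03 = 1 := hx03.trans h03
  obtain rfl : x30 = 1 := hx30.trans h30
  obtain rfl : x13 = 0 := hx13.trans h13
  obtain rfl : x31 = 0 := hx31.trans h31
  rcases d23 with ⟨rfl, rfl⟩ | ⟨rfl, rfl⟩ | ⟨rfl, rfl⟩ | ⟨rfl, rfl⟩ | ⟨rfl, rfl⟩ | ⟨rfl, rfl⟩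
  · -- 23=(0,0)
    rcases d04 with ⟨rfl, rfl⟩ | ⟨rfl, rfl⟩ | ⟨rfl, rfl⟩ | ⟨rfl, rfl⟩ | ⟨rfl, rfl⟩ | ⟨rfl, rfl⟩
    · -- 04=(0,0)
      rcases d14 with ⟨rfl, rfl⟩ | ⟨rfl, rfl⟩ | ⟨rfl, rfl⟩ | ⟨rfl, rfl⟩ | ⟨rfl, rfl⟩ | ⟨rfl, rfl⟩
      · -- 14=(0,0)
        rcases d24 with ⟨rfl, rfl⟩ | ⟨rfl, rfl⟩ | ⟨rfl, rfl⟩ | ⟨rfl, rfl⟩ | ⟨rfl, rfl⟩ | ⟨rfl, rfl⟩
        · -- 24=(0,0)
          rcases d34 with ⟨rfl, rfl⟩ | ⟨rfl, rfl⟩ | ⟨rfl, rfl⟩ | ⟨rfl, rfl⟩ | ⟨rfl, rfl⟩ | ⟨rfl, rfl⟩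
          · -- 34=(0,0)
            exfalso; omega
          · -- 34=(1,1)
            exfalso; omega
          · -- 34=(1,2)
            refine ⟨(⟨![4, 3, 0, 2, 1], ![2, 4, 3, 1, 0], by decide, by decide⟩ : Equiv.Perm (Fin 5)), T.m 1, T.w 4, Or.inr (Or.inr (Or.inr (Or.inl ?_)))⟩
            show T.m 4 = 2 * T.m 1 ∧ T.m 3 = 2 * T.m 1 ∧ T.m 0 = 2 * T.m 1 ∧ T.m 2 = 2 * T.m 1 ∧ T.m 1 = T.m 1 ∧ T.w 4 = T.w 4 ∧ T.w 3 = 2 * T.w 4 ∧ T.w 0 = 2 * T.w 4 ∧ T.w 2 = 2 * T.w 4 ∧ T.w 1 = 4 * T.w 4 ∧ T.a 4 4 = -2 * T.w 4 ∧ T.a 4 3 = 2 * T.w 4 ∧ T.a 4 0 = 0 ∧ T.a 4 2 = 0 ∧ T.a 4 1 = 0 ∧ T.a 3 3 = -4 * T.w 4 ∧ T.a 3 0 = 2 * T.w 4 ∧ T.a 3 2 = 0 ∧ T.a 3 1 = 0 ∧ T.a 0 0 = -4 * T.w 4 ∧ T.a 0 2 = 2 * T.w 4 ∧ T.a 0 1 = 0 ∧ T.a 2 2 = -4 * T.w 4 ∧ T.a 2 1 = 4 * T.w 4 ∧ T.a 1 1 = -8 * T.w 4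
            refine ⟨?_, ?_, ?_, ?_, ?_, ?_, ?_, ?_, ?_, ?_, ?_, ?_, ?_, ?_, ?_, ?_, ?_, ?_, ?_, ?_, ?_, ?_, ?_, ?_, ?_⟩ <;> omega
          · -- 34=(2,1)
            refine ⟨(⟨![1, 2, 0, 3, 4], ![2, 0, 1, 3, 4], by decide, by decide⟩ : Equiv.Perm (Fin 5)), T.m 1, T.w 2, Or.inr (Or.inr (Or.inr (Or.inr (Or.inr (Or.inl ?_)))))⟩
            show T.m 1 = T.m 1 ∧ T.m 2 = 2 * T.m 1 ∧ T.m 0 = 2 * T.m 1 ∧ T.m 3 = 2 * T.m 1 ∧ T.m 4 = T.m 1 ∧ T.w 1 = 2 * T.w 2 ∧ T.w 2 = T.w 2 ∧ T.w 0 = T.w 2 ∧ T.w 3 = T.w 2 ∧ T.w 4 = 2 * T.w 2 ∧ T.a 1 1 = -4 * T.w 2 ∧ T.a 1 2 = 2 * T.w 2 ∧ T.a 1 0 = 0 ∧ T.a 1 3 = 0 ∧ T.a 1 4 = 0 ∧ T.a 2 2 = -2 * T.w 2 ∧ T.a 2 0 = T.w 2 ∧ T.a 2 3 = 0 ∧ T.a 2 4 = 0 ∧ T.a 0 0 = -2 * T.w 2 ∧ T.a 0 3 = T.w 2 ∧ T.a 0 4 = 0 ∧ T.a 3 3 = -2 * T.w 2 ∧ T.a 3 4 = 2 * T.w 2 ∧ T.a 4 4 = -4 * T.w 2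
            refine ⟨?_, ?_, ?_, ?_, ?_, ?_, ?_, ?_, ?_, ?_, ?_, ?_, ?_, ?_, ?_, ?_, ?_, ?_, ?_, ?_, ?_, ?_, ?_, ?_, ?_⟩ <;> omega
          · -- 34=(1,3)
            exact False.elim (cert_false T ((skipEmb 2).trans (Function.Embedding.refl _)) (by norm_num) (fun _ => hall _) (((((LB_zero T ((skipEmb 2).trans (Function.Embedding.refl _))).upd 0 2 1 (le_of_eq hx03)).upd 2 0 1 (le_of_eq hx30)).upd 2 3 1 (le_of_eq hx34)).upd 3 2 3 (le_of_eq hx43)) ![1,0,2,3] (by decide) (by decide) 0 (by decide))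
          · -- 34=(3,1)
            exact False.elim (cert_false T ((skipEmb 2).trans (Function.Embedding.refl _)) (by norm_num) (fun _ => hall _) (((((LB_zero T ((skipEmb 2).trans (Function.Embedding.refl _))).upd 0 2 1 (le_of_eq hx03)).upd 2 0 1 (le_of_eq hx30)).upd 2 3 3 (le_of_eq hx34)).upd 3 2 1 (le_of_eq hx43)) ![1,0,2,1] (by decide) (by decide) 0 (by decide))
        · -- 24=(1,1)
          exact False.elim (cert_false T ((skipEmb 3).trans (Function.Embedding.refl _)) (by norm_num) (fun _ => hall _) (((((((LB_zero T ((skipEmb 3).trans (Function.Embedding.refl _))).upd 0 2 1 (le_of_eq hx02)).upd 1 2 1 (le_of_eq hx12)).upd 2 0 1 (le_of_eq hx20)).upd 2 1 2 (le_of_eq hx21)).upd 2 3 1 (le_of_eq hx24)).upd 3 2 1 (le_of_eq hx42)) ![1,1,2,1] (by decide) (by decide) 0 (by decide))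
        · -- 24=(1,2)
          exact False.elim (cert_false T ((skipEmb 3).trans (Function.Embedding.refl _)) (by norm_num) (fun _ => hall _) (((((LB_zero T ((skipEmb 3).trans (Function.Embedding.refl _))).upd 1 2 1 (le_of_eq hx12)).upd 2 1 2 (le_of_eq hx21)).upd 2 3 1 (le_of_eq hx24)).upd 3 2 2 (le_of_eq hx42)) ![0,1,2,2] (by decide) (by decide) 1 (by decide))
        · -- 24=(2,1)
          exact False.elim (cert_false T ((skipEmb 3).trans (Function.Embedding.refl _)) (by norm_num) (fun _ => hall _) (((((LB_zero T ((skipEmb 3).trans (Function.Embedding.refl _))).upd 1 2 1 (le_of_eq hx12)).upd 2 1 2 (le_of_eq hx21)).upd 2 3 2 (le_of_eq hx24)).upd 3 2 1 (le_of_eq hx42)) ![0,1,2,1] (by decide) (by decide) 1 (by decide))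
        · -- 24=(1,3)
          exact False.elim (cert_false T ((skipEmb 3).trans (Function.Embedding.refl _)) (by norm_num) (fun _ => hall _) (((((LB_zero T ((skipEmb 3).trans (Function.Embedding.refl _))).upd 1 2 1 (le_of_eq hx12)).upd 2 1 2 (le_of_eq hx21)).upd 2 3 1 (le_of_eq hx24)).upd 3 2 3 (le_of_eq hx42)) ![0,1,2,2] (by decide) (by decide) 1 (by decide))
        · -- 24=(3,1)
          exact False.elim (cert_false T ((skipEmb 3).trans (Function.Embedding.refl _)) (by norm_num) (fun _ => hall _) (((((LB_zero T ((skipEmb 3).trans (Function.Embedding.refl _))).upd 1 2 1 (le_of_eq hx12)).upd 2 1 2 (le_of_eq hx21)).upd 2 3 3 (le_of_eq hx24)).upd 3 2 1 (le_of_eq hx42)) ![0,1,2,1] (by decide) (by decide) 1 (by decide))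
      · -- 14=(1,1)
        rcases d24 with ⟨rfl, rfl⟩ | ⟨rfl, rfl⟩ | ⟨rfl, rfl⟩ | ⟨rfl, rfl⟩ | ⟨rfl, rfl⟩ | ⟨rfl, rfl⟩
        · -- 24=(0,0)
          rcases d34 with ⟨rfl, rfl⟩ | ⟨rfl, rfl⟩ | ⟨rfl, rfl⟩ | ⟨rfl, rfl⟩ | ⟨rfl, rfl⟩ | ⟨rfl, rfl⟩
          · -- 34=(0,0)
            refine ⟨(⟨![3, 0, 2, 1, 4], ![1, 3, 2, 0, 4], by decide, by decide⟩ : Equiv.Perm (Fin 5)), T.m 3, T.w 3, Or.inr (Or.inl ?_)⟩
            show T.m 3 = T.m 3 ∧ T.m 0 = 2 * T.m 3 ∧ T.m 2 = 3 * T.m 3 ∧ T.m 1 = 2 * T.m 3 ∧ T.m 4 = T.m 3 ∧ T.w 3 = T.w 3 ∧ T.w 0 = T.w 3 ∧ T.w 2 = T.w 3 ∧ T.w 1 = 2 * T.w 3 ∧ T.w 4 = 2 * T.w 3 ∧ T.a 3 3 = -2 * T.w 3 ∧ T.a 3 0 = T.w 3 ∧ T.a 3 2 = 0 ∧ T.a 3 1 = 0 ∧ T.a 3 4 = 0 ∧ T.a 0 0 = -2 * T.w 3 ∧ T.a 0 2 = T.w 3 ∧ T.a 0 1 = 0 ∧ T.a 0 4 = 0 ∧ T.a 2 2 = -2 * T.w 3 ∧ T.a 2 1 = 2 * T.w 3 ∧ T.a 2 4 = 0 ∧ T.a 1 1 = -4 * T.w 3 ∧ T.a 1 4 = 2 * T.w 3 ∧ T.a 4 4 = -4 * T.w 3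
            refine ⟨?_, ?_, ?_, ?_, ?_, ?_, ?_, ?_, ?_, ?_, ?_, ?_, ?_, ?_, ?_, ?_, ?_, ?_, ?_, ?_, ?_, ?_, ?_, ?_, ?_⟩ <;> omega
          · -- 34=(1,1)
            exfalso; omega
          · -- 34=(1,2)
            exact False.elim (cert_false T ((skipEmb 0).trans (Function.Embedding.refl _)) (by norm_num) (fun _ => hall _) (((((((LB_zero T ((skipEmb 0).trans (Function.Embedding.refl _))).upd 0 1 1 (le_of_eq hx12)).upd 0 3 1 (le_of_eq hx14)).upd 1 0 2 (le_of_eq hx21)).upd 2 3 1 (le_of_eq hx34)).upd 3 0 1 (le_of_eq hx41)).upd 3 2 2 (le_of_eq hx43)) ![2,2,1,2] (by decide) (by decide) 0 (by decide))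
          · -- 34=(2,1)
            exact False.elim (cert_false T ((skipEmb 0).trans (Function.Embedding.refl _)) (by norm_num) (fun _ => hall _) (((((((LB_zero T ((skipEmb 0).trans (Function.Embedding.refl _))).upd 0 1 1 (le_of_eq hx12)).upd 0 3 1 (le_of_eq hx14)).upd 1 0 2 (le_of_eq hx21)).upd 2 3 2 (le_of_eq hx34)).upd 3 0 1 (le_of_eq hx41)).upd 3 2 1 (le_of_eq hx43)) ![1,1,1,1] (by decide) (by decide) 0 (by decide))
          · -- 34=(1,3)
            exact False.elim (cert_false T ((skipEmb 2).trans (Function.Embedding.refl _)) (by norm_num) (fun _ => hall _) (((((LB_zero T ((skipEmb 2).trans (Function.Embedding.refl _))).upd 1 3 1 (le_of_eq hx14)).upd 2 3 1 (le_of_eq hx34)).upd 3 1 1 (le_of_eq hx41)).upd 3 2 3 (le_of_eq hx43)) ![0,1,1,2] (by decide) (by decide) 1 (by decide))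
          · -- 34=(3,1)
            exact False.elim (cert_false T ((skipEmb 2).trans (Function.Embedding.refl _)) (by norm_num) (fun _ => hall _) (((((LB_zero T ((skipEmb 2).trans (Function.Embedding.refl _))).upd 0 2 1 (le_of_eq hx03)).upd 2 0 1 (le_of_eq hx30)).upd 2 3 3 (le_of_eq hx34)).upd 3 2 1 (le_of_eq hx43)) ![1,0,2,1] (by decide) (by decide) 0 (by decide))
        · -- 24=(1,1)
          exact False.elim (cert_false T ((skipEmb 3).trans (Function.Embedding.refl _)) (by norm_num) (fun _ => hall _) (((((((LB_zero T ((skipEmb 3).trans (Function.Embedding.refl _))).upd 1 2 1 (le_of_eq hx12)).upd 1 3 1 (le_of_eq hx14)).upd 2 1 2 (le_of_eq hx21)).upd 2 3 1 (le_of_eq hx24)).upd 3 1 1 (le_of_eq hx41)).upd 3 2 1 (le_of_eq hx42)) ![0,1,1,1] (by decide) (by decide) 1 (by decide))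
        · -- 24=(1,2)
          exact False.elim (cert_false T ((skipEmb 3).trans (Function.Embedding.refl _)) (by norm_num) (fun _ => hall _) (((((((LB_zero T ((skipEmb 3).trans (Function.Embedding.refl _))).upd 1 2 1 (le_of_eq hx12)).upd 1 3 1 (le_of_eq hx14)).upd 2 1 2 (le_of_eq hx21)).upd 2 3 1 (le_of_eq hx24)).upd 3 1 1 (le_of_eq hx41)).upd 3 2 2 (le_of_eq hx42)) ![0,1,1,1] (by decide) (by decide) 1 (by decide))
        · -- 24=(2,1)
          exact False.elim (cert_false T ((skipEmb 3).trans (Function.Embedding.refl _)) (by norm_num) (fun _ => hall _) (((((((LB_zero T ((skipEmb 3).trans (Function.Embedding.refl _))).upd 1 2 1 (le_of_eq hx12)).upd 1 3 1 (le_of_eq hx14)).upd 2 1 2 (le_of_eq hx21)).upd 2 3 2 (le_of_eq hx24)).upd 3 1 1 (le_of_eq hx41)).upd 3 2 1 (le_of_eq hx42)) ![0,1,1,1] (by decide) (by decide) 1 (by decide))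
        · -- 24=(1,3)
          exact False.elim (cert_false T ((skipEmb 3).trans (Function.Embedding.refl _)) (by norm_num) (fun _ => hall _) (((((((LB_zero T ((skipEmb 3).trans (Function.Embedding.refl _))).upd 1 2 1 (le_of_eq hx12)).upd 1 3 1 (le_of_eq hx14)).upd 2 1 2 (le_of_eq hx21)).upd 2 3 1 (le_of_eq hx24)).upd 3 1 1 (le_of_eq hx41)).upd 3 2 3 (le_of_eq hx42)) ![0,1,1,1] (by decide) (by decide) 1 (by decide))
        · -- 24=(3,1)
          exact False.elim (cert_false T ((skipEmb 3).trans (Function.Embedding.refl _)) (by norm_num) (fun _ => hall _) (((((((LB_zero T ((skipEmb 3).trans (Function.Embedding.refl _))).upd 1 2 1 (le_of_eq hx12)).upd 1 3 1 (le_of_eq hx14)).upd 2 1 2 (le_of_eq hx21)).upd 2 3 3 (le_of_eq hx24)).upd 3 1 1 (le_of_eq hx41)).upd 3 2 1 (le_of_eq hx42)) ![0,1,1,1] (by decide) (by decide) 1 (by decide))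
      · -- 14=(1,2)
        exact False.elim (cert_false T ((skipEmb 3).trans (Function.Embedding.refl _)) (by norm_num) (fun _ => hall _) (((((LB_zero T ((skipEmb 3).trans (Function.Embedding.refl _))).upd 1 2 1 (le_of_eq hx12)).upd 1 3 1 (le_of_eq hx14)).upd 2 1 2 (le_of_eq hx21)).upd 3 1 2 (le_of_eq hx41)) ![0,1,1,1] (by decide) (by decide) 1 (by decide))
      · -- 14=(2,1)
        exact False.elim (cert_false T ((skipEmb 3).trans (Function.Embedding.refl _)) (by norm_num) (fun _ => hall _) (((((LB_zero T ((skipEmb 3).trans (Function.Embedding.refl _))).upd 1 2 1 (le_of_eq hx12)).upd 1 3 2 (le_of_eq hx14)).upd 2 1 2 (le_of_eq hx21)).upd 3 1 1 (le_of_eq hx41)) ![0,2,2,1] (by decide) (by decide) 1 (by decide))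
      · -- 14=(1,3)
        exact False.elim (cert_false T ((skipEmb 3).trans (Function.Embedding.refl _)) (by norm_num) (fun _ => hall _) (((((LB_zero T ((skipEmb 3).trans (Function.Embedding.refl _))).upd 1 2 1 (le_of_eq hx12)).upd 1 3 1 (le_of_eq hx14)).upd 2 1 2 (le_of_eq hx21)).upd 3 1 3 (le_of_eq hx41)) ![0,1,1,1] (by decide) (by decide) 1 (by decide))
      · -- 14=(3,1)
        exact False.elim (cert_false T ((skipEmb 3).trans (Function.Embedding.refl _)) (by norm_num) (fun _ => hall _) (((((LB_zero T ((skipEmb 3).trans (Function.Embedding.refl _))).upd 1 2 1 (le_of_eq hx12)).upd 1 3 3 (le_of_eq hx14)).upd 2 1 2 (le_of_eq hx21)).upd 3 1 1 (le_of_eq hx41)) ![0,2,1,1] (by decide) (by decide) 1 (by decide))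
    · -- 04=(1,1)
      rcases d14 with ⟨rfl, rfl⟩ | ⟨rfl, rfl⟩ | ⟨rfl, rfl⟩ | ⟨rfl, rfl⟩ | ⟨rfl, rfl⟩ | ⟨rfl, rfl⟩
      · -- 14=(0,0)
        rcases d24 with ⟨rfl, rfl⟩ | ⟨rfl, rfl⟩ | ⟨rfl, rfl⟩ | ⟨rfl, rfl⟩ | ⟨rfl, rfl⟩ | ⟨rfl, rfl⟩
        · -- 24=(0,0)
          rcases d34 with ⟨rfl, rfl⟩ | ⟨rfl, rfl⟩ | ⟨rfl, rfl⟩ | ⟨rfl, rfl⟩ | ⟨rfl, rfl⟩ | ⟨rfl, rfl⟩
          · -- 34=(0,0)
            refine ⟨(⟨![1, 2, 0, 3, 4], ![2, 0, 1, 3, 4], by decide, by decide⟩ : Equiv.Perm (Fin 5)), T.m 1, T.w 2, Or.inr (Or.inr (Or.inr (Or.inr (Or.inr (Or.inr (Or.inr (Or.inl ?_)))))))⟩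
            show T.m 1 = T.m 1 ∧ T.m 2 = 2 * T.m 1 ∧ T.m 0 = 2 * T.m 1 ∧ T.m 3 = T.m 1 ∧ T.m 4 = T.m 1 ∧ T.w 1 = 2 * T.w 2 ∧ T.w 2 = T.w 2 ∧ T.w 0 = T.w 2 ∧ T.w 3 = T.w 2 ∧ T.w 4 = T.w 2 ∧ T.a 1 1 = -4 * T.w 2 ∧ T.a 1 2 = 2 * T.w 2 ∧ T.a 1 0 = 0 ∧ T.a 1 3 = 0 ∧ T.a 1 4 = 0 ∧ T.a 2 2 = -2 * T.w 2 ∧ T.a 2 0 = T.w 2 ∧ T.a 2 3 = 0 ∧ T.a 2 4 = 0 ∧ T.a 0 0 = -2 * T.w 2 ∧ T.a 0 3 = T.w 2 ∧ T.a 0 4 = T.w 2 ∧ T.a 3 3 = -2 * T.w 2 ∧ T.a 3 4 = 0 ∧ T.a 4 4 = -2 * T.w 2
            refine ⟨?_, ?_, ?_, ?_, ?_, ?_, ?_, ?_, ?_, ?_, ?_, ?_, ?_, ?_, ?_, ?_, ?_, ?_, ?_, ?_, ?_, ?_, ?_, ?_, ?_⟩ <;> omega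
          · -- 34=(1,1)
            exact False.elim (cert_false T ((skipEmb 2).trans (Function.Embedding.refl _)) (by norm_num) (fun _ => hall _) (((((((LB_zero T ((skipEmb 2).trans (Function.Embedding.refl _))).upd 0 2 1 (le_of_eq hx03)).upd 0 3 1 (le_of_eq hx04)).upd 2 0 1 (le_of_eq hx30)).upd 2 3 1 (le_of_eq hx34)).upd 3 0 1 (le_of_eq hx40)).upd 3 2 1 (le_of_eq hx43)) ![1,0,1,1] (by decide) (by decide) 0 (by decide))
          · -- 34=(1,2)
            exact False.elim (cert_false T ((skipEmb 2).trans (Function.Embedding.refl _)) (by norm_num) (fun _ => hall _) (((((((LB_zero T ((skipEmb 2).trans (Function.Embedding.refl _))).upd 0 2 1 (le_of_eq hx03)).upd 0 3 1 (le_of_eq hx04)).upd 2 0 1 (le_of_eq hx30)).upd 2 3 1 (le_of_eq hx34)).upd 3 0 1 (le_of_eq hx40)).upd 3 2 2 (le_of_eq hx43)) ![1,0,1,1] (by decide) (by decide) 0 (by decide))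
          · -- 34=(2,1)
            exact False.elim (cert_false T ((skipEmb 2).trans (Function.Embedding.refl _)) (by norm_num) (fun _ => hall _) (((((((LB_zero T ((skipEmb 2).trans (Function.Embedding.refl _))).upd 0 2 1 (le_of_eq hx03)).upd 0 3 1 (le_of_eq hx04)).upd 2 0 1 (le_of_eq hx30)).upd 2 3 2 (le_of_eq hx34)).upd 3 0 1 (le_of_eq hx40)).upd 3 2 1 (le_of_eq hx43)) ![1,0,1,1] (by decide) (by decide) 0 (by decide))
          · -- 34=(1,3)
            exact False.elim (cert_false T ((skipEmb 2).trans (Function.Embedding.refl _)) (by norm_num) (fun _ => hall _) (((((((LB_zero T ((skipEmb 2).trans (Function.Embedding.refl _))).upd 0 2 1 (le_of_eq hx03)).upd 0 3 1 (le_of_eq hx04)).upd 2 0 1 (le_of_eq hx30)).upd 2 3 1 (le_of_eq hx34)).upd 3 0 1 (le_of_eq hx40)).upd 3 2 3 (le_of_eq hx43)) ![1,0,1,1] (by decide) (by decide) 0 (by decide))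
          · -- 34=(3,1)
            exact False.elim (cert_false T ((skipEmb 2).trans (Function.Embedding.refl _)) (by norm_num) (fun _ => hall _) (((((((LB_zero T ((skipEmb 2).trans (Function.Embedding.refl _))).upd 0 2 1 (le_of_eq hx03)).upd 0 3 1 (le_of_eq hx04)).upd 2 0 1 (le_of_eq hx30)).upd 2 3 3 (le_of_eq hx34)).upd 3 0 1 (le_of_eq hx40)).upd 3 2 1 (le_of_eq hx43)) ![1,0,1,1] (by decide) (by decide) 0 (by decide))
        · -- 24=(1,1)
          exact False.elim (cert_false T ((skipEmb 3).trans (Function.Embedding.refl _)) (by norm_num) (fun _ => hall _) (((((((LB_zero T ((skipEmb 3).trans (Function.Embedding.refl _))).upd 0 2 1 (le_of_eq hx02)).upd 0 3 1 (le_of_eq hx04)).upd 2 0 1 (le_of_eq hx20)).upd 2 3 1 (le_of_eq hx24)).upd 3 0 1 (le_of_eq hx40)).upd 3 2 1 (le_of_eq hx42)) ![1,0,1,1] (by decide) (by decide) 0 (by decide))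
        · -- 24=(1,2)
          exact False.elim (cert_false T ((skipEmb 3).trans (Function.Embedding.refl _)) (by norm_num) (fun _ => hall _) (((((((LB_zero T ((skipEmb 3).trans (Function.Embedding.refl _))).upd 0 2 1 (le_of_eq hx02)).upd 0 3 1 (le_of_eq hx04)).upd 2 0 1 (le_of_eq hx20)).upd 2 3 1 (le_of_eq hx24)).upd 3 0 1 (le_of_eq hx40)).upd 3 2 2 (le_of_eq hx42)) ![1,0,1,1] (by decide) (by decide) 0 (by decide))
        · -- 24=(2,1)
          exact False.elim (cert_false T ((skipEmb 3).trans (Function.Embedding.refl _)) (by norm_num) (fun _ => hall _) (((((((LB_zero T ((skipEmb 3).trans (Function.Embedding.refl _))).upd 0 2 1 (le_of_eq hx02)).upd 0 3 1 (le_of_eq hx04)).upd 2 0 1 (le_of_eq hx20)).upd 2 3 2 (le_of_eq hx24)).upd 3 0 1 (le_of_eq hx40)).upd 3 2 1 (le_of_eq hx42)) ![1,0,1,1] (by decide) (by decide) 0 (by decide))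
        · -- 24=(1,3)
          exact False.elim (cert_false T ((skipEmb 3).trans (Function.Embedding.refl _)) (by norm_num) (fun _ => hall _) (((((((LB_zero T ((skipEmb 3).trans (Function.Embedding.refl _))).upd 0 2 1 (le_of_eq hx02)).upd 0 3 1 (le_of_eq hx04)).upd 2 0 1 (le_of_eq hx20)).upd 2 3 1 (le_of_eq hx24)).upd 3 0 1 (le_of_eq hx40)).upd 3 2 3 (le_of_eq hx42)) ![1,0,1,1] (by decide) (by decide) 0 (by decide))
        · -- 24=(3,1)
          exact False.elim (cert_false T ((skipEmb 3).trans (Function.Embedding.refl _)) (by norm_num) (fun _ => hall _) (((((((LB_zero T ((skipEmb 3).trans (Function.Embedding.refl _))).upd 0 2 1 (le_of_eq hx02)).upd 0 3 1 (le_of_eq hx04)).upd 2 0 1 (le_of_eq hx20)).upd 2 3 3 (le_of_eq hx24)).upd 3 0 1 (le_of_eq hx40)).upd 3 2 1 (le_of_eq hx42)) ![1,0,1,1] (by decide) (by decide) 0 (by decide))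
      · -- 14=(1,1)
        exact False.elim (cert_false T ((skipEmb 3).trans (Function.Embedding.refl _)) (by norm_num) (fun _ => hall _) (((((((((LB_zero T ((skipEmb 3).trans (Function.Embedding.refl _))).upd 0 2 1 (le_of_eq hx02)).upd 0 3 1 (le_of_eq hx04)).upd 1 2 1 (le_of_eq hx12)).upd 1 3 1 (le_of_eq hx14)).upd 2 0 1 (le_of_eq hx20)).upd 2 1 2 (le_of_eq hx21)).upd 3 0 1 (le_of_eq hx40)).upd 3 1 1 (le_of_eq hx41)) ![1,1,1,1] (by decide) (by decide) 0 (by decide))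
      · -- 14=(1,2)
        exact False.elim (cert_false T ((skipEmb 3).trans (Function.Embedding.refl _)) (by norm_num) (fun _ => hall _) (((((LB_zero T ((skipEmb 3).trans (Function.Embedding.refl _))).upd 1 2 1 (le_of_eq hx12)).upd 1 3 1 (le_of_eq hx14)).upd 2 1 2 (le_of_eq hx21)).upd 3 1 2 (le_of_eq hx41)) ![0,1,1,1] (by decide) (by decide) 1 (by decide))
      · -- 14=(2,1)
        exact False.elim (cert_false T ((skipEmb 3).trans (Function.Embedding.refl _)) (by norm_num) (fun _ => hall _) (((((((((LB_zero T ((skipEmb 3).trans (Function.Embedding.refl _))).upd 0 2 1 (le_of_eq hx02)).upd 0 3 1 (le_of_eq hx04)).upd 1 2 1 (le_of_eq hx12)).upd 1 3 2 (le_of_eq hx14)).upd 2 0 1 (le_of_eq hx20)).upd 2 1 2 (le_of_eq hx21)).upd 3 0 1 (le_of_eq hx40)).upd 3 1 1 (le_of_eq hx41)) ![1,1,1,1] (by decide) (by decide) 0 (by decide))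
      · -- 14=(1,3)
        exact False.elim (cert_false T ((skipEmb 3).trans (Function.Embedding.refl _)) (by norm_num) (fun _ => hall _) (((((LB_zero T ((skipEmb 3).trans (Function.Embedding.refl _))).upd 1 2 1 (le_of_eq hx12)).upd 1 3 1 (le_of_eq hx14)).upd 2 1 2 (le_of_eq hx21)).upd 3 1 3 (le_of_eq hx41)) ![0,1,1,1] (by decide) (by decide) 1 (by decide))
      · -- 14=(3,1)
        exact False.elim (cert_false T ((skipEmb 3).trans (Function.Embedding.refl _)) (by norm_num) (fun _ => hall _) (((((((((LB_zero T ((skipEmb 3).trans (Function.Embedding.refl _))).upd 0 2 1 (le_of_eq hx02)).upd 0 3 1 (le_of_eq hx04)).upd 1 2 1 (le_of_eq hx12)).upd 1 3 3 (le_of_eq hx14)).upd 2 0 1 (le_of_eq hx20)).upd 2 1 2 (le_of_eq hx21)).upd 3 0 1 (le_of_eq hx40)).upd 3 1 1 (le_of_eq hx41)) ![1,1,1,1] (by decide) (by decide) 0 (by decide))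
    · -- 04=(1,2)
      exact False.elim (cert_false T ((skipEmb 3).trans (Function.Embedding.refl _)) (by norm_num) (fun _ => hall _) (((((((LB_zero T ((skipEmb 3).trans (Function.Embedding.refl _))).upd 0 2 1 (le_of_eq hx02)).upd 0 3 1 (le_of_eq hx04)).upd 1 2 1 (le_of_eq hx12)).upd 2 0 1 (le_of_eq hx20)).upd 2 1 2 (le_of_eq hx21)).upd 3 0 2 (le_of_eq hx40)) ![2,1,2,2] (by decide) (by decide) 0 (by decide))
    · -- 04=(2,1)
      exact False.elim (cert_false T ((skipEmb 3).trans (Function.Embedding.refl _)) (by norm_num) (fun _ => hall _) (((((((LB_zero T ((skipEmb 3).trans (Function.Embedding.refl _))).upd 0 2 1 (le_of_eq hx02)).upd 0 3 2 (le_of_eq hx04)).upd 1 2 1 (le_of_eq hx12)).upd 2 0 1 (le_of_eq hx20)).upd 2 1 2 (le_of_eq hx21)).upd 3 0 1 (le_of_eq hx40)) ![2,1,2,1] (by decide) (by decide) 0 (by decide))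
    · -- 04=(1,3)
      exact False.elim (cert_false T ((skipEmb 3).trans (Function.Embedding.refl _)) (by norm_num) (fun _ => hall _) (((((((LB_zero T ((skipEmb 3).trans (Function.Embedding.refl _))).upd 0 2 1 (le_of_eq hx02)).upd 0 3 1 (le_of_eq hx04)).upd 1 2 1 (le_of_eq hx12)).upd 2 0 1 (le_of_eq hx20)).upd 2 1 2 (le_of_eq hx21)).upd 3 0 3 (le_of_eq hx40)) ![2,1,2,2] (by decide) (by decide) 0 (by decide))
    · -- 04=(3,1)
      exact False.elim (cert_false T ((skipEmb 3).trans (Function.Embedding.refl _)) (by norm_num) (fun _ => hall _) (((((LB_zero T ((skipEmb 3).trans (Function.Embedding.refl _))).upd 0 2 1 (le_of_eq hx02)).upd 0 3 3 (le_of_eq hx04)).upd 2 0 1 (le_of_eq hx20)).upd 3 0 1 (le_of_eq hx40)) ![2,0,1,1] (by decide) (by decide) 0 (by decide))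
  · -- 23=(1,1)
    exact False.elim (cert_false T ((skipEmb 4).trans (Function.Embedding.refl _)) (by norm_num) (fun _ => hall _) (((((((LB_zero T ((skipEmb 4).trans (Function.Embedding.refl _))).upd 0 2 1 (le_of_eq hx02)).upd 0 3 1 (le_of_eq hx03)).upd 2 0 1 (le_of_eq hx20)).upd 2 3 1 (le_of_eq hx23)).upd 3 0 1 (le_of_eq hx30)).upd 3 2 1 (le_of_eq hx32)) ![1,0,1,1] (by decide) (by decide) 0 (by decide))
  · -- 23=(1,2)
    exact False.elim (cert_false T ((skipEmb 4).trans (Function.Embedding.refl _)) (by norm_num) (fun _ => hall _) (((((((LB_zero T ((skipEmb 4).trans (Function.Embedding.refl _))).upd 0 2 1 (le_of_eq hx02)).upd 0 3 1 (le_of_eq hx03)).upd 2 0 1 (le_of_eq hx20)).upd 2 3 1 (le_of_eq hx23)).upd 3 0 1 (le_of_eq hx30)).upd 3 2 2 (le_of_eq hx32)) ![1,0,1,1] (by decide) (by decide) 0 (by decide))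
  · -- 23=(2,1)
    exact False.elim (cert_false T ((skipEmb 4).trans (Function.Embedding.refl _)) (by norm_num) (fun _ => hall _) (((((((LB_zero T ((skipEmb 4).trans (Function.Embedding.refl _))).upd 0 2 1 (le_of_eq hx02)).upd 0 3 1 (le_of_eq hx03)).upd 2 0 1 (le_of_eq hx20)).upd 2 3 2 (le_of_eq hx23)).upd 3 0 1 (le_of_eq hx30)).upd 3 2 1 (le_of_eq hx32)) ![1,0,1,1] (by decide) (by decide) 0 (by decide))
  · -- 23=(1,3)
    exact False.elim (cert_false T ((skipEmb 4).trans (Function.Embedding.refl _)) (by norm_num) (fun _ => hall _) (((((((LB_zero T ((skipEmb 4).trans (Function.Embedding.refl _))).upd 0 2 1 (le_of_eq hx02)).upd 0 3 1 (le_of_eq hx03)).upd 2 0 1 (le_of_eq hx20)).upd 2 3 1 (le_of_eq hx23)).upd 3 0 1 (le_of_eq hx30)).upd 3 2 3 (le_of_eq hx32)) ![1,0,1,1] (by decide) (by decide) 0 (by decide))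
  · -- 23=(3,1)
    exact False.elim (cert_false T ((skipEmb 4).trans (Function.Embedding.refl _)) (by norm_num) (fun _ => hall _) (((((((LB_zero T ((skipEmb 4).trans (Function.Embedding.refl _))).upd 0 2 1 (le_of_eq hx02)).upd 0 3 1 (le_of_eq hx03)).upd 2 0 1 (le_of_eq hx20)).upd 2 3 3 (le_of_eq hx23)).upd 3 0 1 (le_of_eq hx30)).upd 3 2 1 (le_of_eq hx32)) ![1,0,1,1] (by decide) (by decide) 0 (by decide))

theorem case278 (T : NumericalType 5) (hall : ∀ i, T.IsMinusTwo i) (d : SData T)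
    (h01 : N T (Function.Embedding.refl _) 0 1 = 0) (h10 : N T (Function.Embedding.refl _) 1 0 = 0)
    (h02 : N T (Function.Embedding.refl _) 0 2 = 1) (h20 : N T (Function.Embedding.refl _) 2 0 = 1)
    (h12 : N T (Function.Embedding.refl _) 1 2 = 2) (h21 : N T (Function.Embedding.refl _) 2 1 = 1)
    (h03 : N T (Function.Embedding.refl _) 0 3 = 1) (h30 : N T (Function.Embedding.refl _) 3 0 = 1)
    (h13 : N T (Function.Embedding.refl _) 1 3 = 0) (h31 : N T (Function.Embedding.refl _) 3 1 = 0) :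
    Goal T := by
  unfold Goal
  have hd := d
  obtain ⟨x01, x02, x03, x04, x10, x12, x13, x14, x20, x21, x23, x24, x30, x31, x32, x34, x40, x41, x42, x43, hx01, hx02, hx03, hx04, hx10, hx12, hx13, hx14, hx20, hx21, hx23, hx24, hx30, hx31, hx32, hx34, hx40, hx41, hx42, hx43, hw0, hm0, hw1, hm1, hw2, hm2, hw3, hm3, hw4, hm4, a00, a01, a02, a03, a04, a11, a10, a12, a13, a14, a22, a20, a21, a23, a24, a33, a30, a31, a32, a34, a44, a40, a41, a42, a43, wN01, wN02, wN12, wN03, wN13, wN23, wN04, wN14, wN24, wN34, e0, e1, e2, e3, e4, d01, d02, d12, d03, d13, d23, d04, d14, d24, d34⟩ := d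
  obtain rfl : x01 = 0 := hx01.trans h01
  obtain rfl : x10 = 0 := hx10.trans h10
  obtain rfl : x02 = 1 := hx02.trans h02
  obtain rfl : x20 = 1 := hx20.trans h20
  obtain rfl : x12 = 2 := hx12.trans h12
  obtain rfl : x21 = 1 := hx21.trans h21
  obtain rfl : x03 = 1 := hx03.trans h03
  obtain rfl : x30 = 1 := hx30.trans h30
  obtain rfl : x13 = 0 := hx13.trans h13
  obtain rfl : x31 = 0 := hx31.trans h31
  rcases d23 with ⟨rfl, rfl⟩ | ⟨rfl, rfl⟩ | ⟨rfl, rfl⟩ | ⟨rfl, rfl⟩ | ⟨rfl, rfl⟩ | ⟨rfl, rfl⟩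
  · -- 23=(0,0)
    rcases d04 with ⟨rfl, rfl⟩ | ⟨rfl, rfl⟩ | ⟨rfl, rfl⟩ | ⟨rfl, rfl⟩ | ⟨rfl, rfl⟩ | ⟨rfl, rfl⟩
    · -- 04=(0,0)
      rcases d14 with ⟨rfl, rfl⟩ | ⟨rfl, rfl⟩ | ⟨rfl, rfl⟩ | ⟨rfl, rfl⟩ | ⟨rfl, rfl⟩ | ⟨rfl, rfl⟩
      · -- 14=(0,0)
        rcases d24 with ⟨rfl, rfl⟩ | ⟨rfl, rfl⟩ | ⟨rfl, rfl⟩ | ⟨rfl, rfl⟩ | ⟨rfl, rfl⟩ | ⟨rfl, rfl⟩
        · -- 24=(0,0)
          rcases d34 with ⟨rfl, rfl⟩ | ⟨rfl, rfl⟩ | ⟨rfl, rfl⟩ | ⟨rfl, rfl⟩ | ⟨rfl, rfl⟩ | ⟨rfl, rfl⟩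
          · -- 34=(0,0)
            exfalso; omega
          · -- 34=(1,1)
            exfalso; omega
          · -- 34=(1,2)
            refine ⟨(⟨![1, 2, 0, 3, 4], ![2, 0, 1, 3, 4], by decide, by decide⟩ : Equiv.Perm (Fin 5)), T.m 1, T.w 1, Or.inr (Or.inr (Or.inr (Or.inr (Or.inl ?_))))⟩
            show T.m 1 = T.m 1 ∧ T.m 2 = T.m 1 ∧ T.m 0 = T.m 1 ∧ T.m 3 = T.m 1 ∧ T.m 4 = T.m 1 ∧ T.w 1 = T.w 1 ∧ T.w 2 = 2 * T.w 1 ∧ T.w 0 = 2 * T.w 1 ∧ T.w 3 = 2 * T.w 1 ∧ T.w 4 = T.w 1 ∧ T.a 1 1 = -2 * T.w 1 ∧ T.a 1 2 = 2 * T.w 1 ∧ T.a 1 0 = 0 ∧ T.a 1 3 = 0 ∧ T.a 1 4 = 0 ∧ T.a 2 2 = -4 * T.w 1 ∧ T.a 2 0 = 2 * T.w 1 ∧ T.a 2 3 = 0 ∧ T.a 2 4 = 0 ∧ T.a 0 0 = -4 * T.w 1 ∧ T.a 0 3 = 2 * T.w 1 ∧ T.a 0 4 = 0 ∧ T.a 3 3 = -4 * T.w 1 ∧ T.a 3 4 = 2 * T.w 1 ∧ T.a 4 4 = -2 * T.w 1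
            refine ⟨?_, ?_, ?_, ?_, ?_, ?_, ?_, ?_, ?_, ?_, ?_, ?_, ?_, ?_, ?_, ?_, ?_, ?_, ?_, ?_, ?_, ?_, ?_, ?_, ?_⟩ <;> omega
          · -- 34=(2,1)
            refine ⟨(⟨![1, 2, 0, 3, 4], ![2, 0, 1, 3, 4], by decide, by decide⟩ : Equiv.Perm (Fin 5)), T.m 4, T.w 1, Or.inr (Or.inr (Or.inr (Or.inl ?_)))⟩
            show T.m 1 = 2 * T.m 4 ∧ T.m 2 = 2 * T.m 4 ∧ T.m 0 = 2 * T.m 4 ∧ T.m 3 = 2 * T.m 4 ∧ T.m 4 = T.m 4 ∧ T.w 1 = T.w 1 ∧ T.w 2 = 2 * T.w 1 ∧ T.w 0 = 2 * T.w 1 ∧ T.w 3 = 2 * T.w 1 ∧ T.w 4 = 4 * T.w 1 ∧ T.a 1 1 = -2 * T.w 1 ∧ T.a 1 2 = 2 * T.w 1 ∧ T.a 1 0 = 0 ∧ T.a 1 3 = 0 ∧ T.a 1 4 = 0 ∧ T.a 2 2 = -4 * T.w 1 ∧ T.a 2 0 = 2 * T.w 1 ∧ T.a 2 3 = 0 ∧ T.a 2 4 = 0 ∧ T.a 0 0 = -4 * T.w 1 ∧ T.a 0 3 = 2 * T.w 1 ∧ T.a 0 4 = 0 ∧ T.a 3 3 = -4 * T.w 1 ∧ T.a 3 4 = 4 * T.w 1 ∧ T.a 4 4 = -8 * T.w 1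
            refine ⟨?_, ?_, ?_, ?_, ?_, ?_, ?_, ?_, ?_, ?_, ?_, ?_, ?_, ?_, ?_, ?_, ?_, ?_, ?_, ?_, ?_, ?_, ?_, ?_, ?_⟩ <;> omega
          · -- 34=(1,3)
            exact False.elim (cert_false T ((skipEmb 2).trans (Function.Embedding.refl _)) (by norm_num) (fun _ => hall _) (((((LB_zero T ((skipEmb 2).trans (Function.Embedding.refl _))).upd 0 2 1 (le_of_eq hx03)).upd 2 0 1 (le_of_eq hx30)).upd 2 3 1 (le_of_eq hx34)).upd 3 2 3 (le_of_eq hx43)) ![1,0,2,3] (by decide) (by decide) 0 (by decide))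
          · -- 34=(3,1)
            exact False.elim (cert_false T ((skipEmb 2).trans (Function.Embedding.refl _)) (by norm_num) (fun _ => hall _) (((((LB_zero T ((skipEmb 2).trans (Function.Embedding.refl _))).upd 0 2 1 (le_of_eq hx03)).upd 2 0 1 (le_of_eq hx30)).upd 2 3 3 (le_of_eq hx34)).upd 3 2 1 (le_of_eq hx43)) ![1,0,2,1] (by decide) (by decide) 0 (by decide))
        · -- 24=(1,1)
          exact False.elim (cert_false T ((skipEmb 3).trans (Function.Embedding.refl _)) (by norm_num) (fun _ => hall _) (((((((LB_zero T ((skipEmb 3).trans (Function.Embedding.refl _))).upd 0 2 1 (le_of_eq hx02)).upd 1 2 2 (le_of_eq hx12)).upd 2 0 1 (le_of_eq hx20)).upd 2 1 1 (le_of_eq hx21)).upd 2 3 1 (le_of_eq hx24)).upd 3 2 1 (le_of_eq hx42)) ![1,2,2,1] (by decide) (by decide) 0 (by decide))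
        · -- 24=(1,2)
          exact False.elim (cert_false T ((skipEmb 3).trans (Function.Embedding.refl _)) (by norm_num) (fun _ => hall _) (((((LB_zero T ((skipEmb 3).trans (Function.Embedding.refl _))).upd 1 2 2 (le_of_eq hx12)).upd 2 1 1 (le_of_eq hx21)).upd 2 3 1 (le_of_eq hx24)).upd 3 2 2 (le_of_eq hx42)) ![0,1,1,1] (by decide) (by decide) 1 (by decide))
        · -- 24=(2,1)
          exact False.elim (cert_false T ((skipEmb 3).trans (Function.Embedding.refl _)) (by norm_num) (fun _ => hall _) (((((LB_zero T ((skipEmb 3).trans (Function.Embedding.refl _))).upd 1 2 2 (le_of_eq hx12)).upd 2 1 1 (le_of_eq hx21)).upd 2 3 2 (le_of_eq hx24)).upd 3 2 1 (le_of_eq hx42)) ![0,2,2,1] (by decide) (by decide) 1 (by decide))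
        · -- 24=(1,3)
          exact False.elim (cert_false T ((skipEmb 3).trans (Function.Embedding.refl _)) (by norm_num) (fun _ => hall _) (((((LB_zero T ((skipEmb 3).trans (Function.Embedding.refl _))).upd 1 2 2 (le_of_eq hx12)).upd 2 1 1 (le_of_eq hx21)).upd 2 3 1 (le_of_eq hx24)).upd 3 2 3 (le_of_eq hx42)) ![0,1,1,1] (by decide) (by decide) 1 (by decide))
        · -- 24=(3,1)
          exact False.elim (cert_false T ((skipEmb 3).trans (Function.Embedding.refl _)) (by norm_num) (fun _ => hall _) (((((LB_zero T ((skipEmb 3).trans (Function.Embedding.refl _))).upd 1 2 2 (le_of_eq hx12)).upd 2 1 1 (le_of_eq hx21)).upd 2 3 3 (le_of_eq hx24)).upd 3 2 1 (le_of_eq hx42)) ![0,1,2,1] (by decide) (by decide) 1 (by decide))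
      · -- 14=(1,1)
        rcases d24 with ⟨rfl, rfl⟩ | ⟨rfl, rfl⟩ | ⟨rfl, rfl⟩ | ⟨rfl, rfl⟩ | ⟨rfl, rfl⟩ | ⟨rfl, rfl⟩
        · -- 24=(0,0)
          rcases d34 with ⟨rfl, rfl⟩ | ⟨rfl, rfl⟩ | ⟨rfl, rfl⟩ | ⟨rfl, rfl⟩ | ⟨rfl, rfl⟩ | ⟨rfl, rfl⟩
          · -- 34=(0,0)
            refine ⟨(⟨![3, 0, 2, 1, 4], ![1, 3, 2, 0, 4], by decide, by decide⟩ : Equiv.Perm (Fin 5)), T.m 3, T.w 1, Or.inr (Or.inr (Or.inl ?_))⟩
            show T.m 3 = T.m 3 ∧ T.m 0 = 2 * T.m 3 ∧ T.m 2 = 3 * T.m 3 ∧ T.m 1 = 4 * T.m 3 ∧ T.m 4 = 2 * T.m 3 ∧ T.w 3 = 2 * T.w 1 ∧ T.w 0 = 2 * T.w 1 ∧ T.w 2 = 2 * T.w 1 ∧ T.w 1 = T.w 1 ∧ T.w 4 = T.w 1 ∧ T.a 3 3 = -4 * T.w 1 ∧ T.a 3 0 = 2 * T.w 1 ∧ T.a 3 2 = 0 ∧ T.a 3 1 = 0 ∧ T.a 3 4 = 0 ∧ T.a 0 0 = -4 * T.w 1 ∧ T.a 0 2 = 2 * T.w 1 ∧ T.a 0 1 = 0 ∧ T.a 0 4 = 0 ∧ T.a 2 2 = -4 * T.w 1 ∧ T.a 2 1 = 2 * T.w 1 ∧ T.a 2 4 = 0 ∧ T.a 1 1 = -2 * T.w 1 ∧ T.a 1 4 = T.w 1 ∧ T.a 4 4 = -2 * T.w 1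
            refine ⟨?_, ?_, ?_, ?_, ?_, ?_, ?_, ?_, ?_, ?_, ?_, ?_, ?_, ?_, ?_, ?_, ?_, ?_, ?_, ?_, ?_, ?_, ?_, ?_, ?_⟩ <;> omega
          · -- 34=(1,1)
            exfalso; omega
          · -- 34=(1,2)
            exact False.elim (cert_false T ((skipEmb 0).trans (Function.Embedding.refl _)) (by norm_num) (fun _ => hall _) (((((((LB_zero T ((skipEmb 0).trans (Function.Embedding.refl _))).upd 0 1 2 (le_of_eq hx12)).upd 0 3 1 (le_of_eq hx14)).upd 1 0 1 (le_of_eq hx21)).upd 2 3 1 (le_of_eq hx34)).upd 3 0 1 (le_of_eq hx41)).upd 3 2 2 (le_of_eq hx43)) ![2,1,1,2] (by decide) (by decide) 0 (by decide))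
          · -- 34=(2,1)
            exact False.elim (cert_false T ((skipEmb 0).trans (Function.Embedding.refl _)) (by norm_num) (fun _ => hall _) (((((((LB_zero T ((skipEmb 0).trans (Function.Embedding.refl _))).upd 0 1 2 (le_of_eq hx12)).upd 0 3 1 (le_of_eq hx14)).upd 1 0 1 (le_of_eq hx21)).upd 2 3 2 (le_of_eq hx34)).upd 3 0 1 (le_of_eq hx41)).upd 3 2 1 (le_of_eq hx43)) ![2,1,2,2] (by decide) (by decide) 0 (by decide))
          · -- 34=(1,3)
            exact False.elim (cert_false T ((skipEmb 2).trans (Function.Embedding.refl _)) (by norm_num) (fun _ => hall _) (((((LB_zero T ((skipEmb 2).trans (Function.Embedding.refl _))).upd 1 3 1 (le_of_eq hx14)).upd 2 3 1 (le_of_eq hx34)).upd 3 1 1 (le_of_eq hx41)).upd 3 2 3 (le_of_eq hx43)) ![0,1,1,2] (by decide) (by decide) 1 (by decide))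
          · -- 34=(3,1)
            exact False.elim (cert_false T ((skipEmb 2).trans (Function.Embedding.refl _)) (by norm_num) (fun _ => hall _) (((((LB_zero T ((skipEmb 2).trans (Function.Embedding.refl _))).upd 0 2 1 (le_of_eq hx03)).upd 2 0 1 (le_of_eq hx30)).upd 2 3 3 (le_of_eq hx34)).upd 3 2 1 (le_of_eq hx43)) ![1,0,2,1] (by decide) (by decide) 0 (by decide))
        · -- 24=(1,1)
          exact False.elim (cert_false T ((skipEmb 3).trans (Function.Embedding.refl _)) (by norm_num) (fun _ => hall _) (((((((LB_zero T ((skipEmb 3).trans (Function.Embedding.refl _))).upd 1 2 2 (le_of_eq hx12)).upd 1 3 1 (le_of_eq hx14)).upd 2 1 1 (le_of_eq hx21)).upd 2 3 1 (le_of_eq hx24)).upd 3 1 1 (le_of_eq hx41)).upd 3 2 1 (le_of_eq hx42)) ![0,1,1,1] (by decide) (by decide) 1 (by decide))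
        · -- 24=(1,2)
          exact False.elim (cert_false T ((skipEmb 3).trans (Function.Embedding.refl _)) (by norm_num) (fun _ => hall _) (((((((LB_zero T ((skipEmb 3).trans (Function.Embedding.refl _))).upd 1 2 2 (le_of_eq hx12)).upd 1 3 1 (le_of_eq hx14)).upd 2 1 1 (le_of_eq hx21)).upd 2 3 1 (le_of_eq hx24)).upd 3 1 1 (le_of_eq hx41)).upd 3 2 2 (le_of_eq hx42)) ![0,1,1,1] (by decide) (by decide) 1 (by decide))
        · -- 24=(2,1)
          exact False.elim (cert_false T ((skipEmb 3).trans (Function.Embedding.refl _)) (by norm_num) (fun _ => hall _) (((((((LB_zero T ((skipEmb 3).trans (Function.Embedding.refl _))).upd 1 2 2 (le_of_eq hx12)).upd 1 3 1 (le_of_eq hx14)).upd 2 1 1 (le_of_eq hx21)).upd 2 3 2 (le_of_eq hx24)).upd 3 1 1 (le_of_eq hx41)).upd 3 2 1 (le_of_eq hx42)) ![0,1,1,1] (by decide) (by decide) 1 (by decide))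
        · -- 24=(1,3)
          exact False.elim (cert_false T ((skipEmb 3).trans (Function.Embedding.refl _)) (by norm_num) (fun _ => hall _) (((((((LB_zero T ((skipEmb 3).trans (Function.Embedding.refl _))).upd 1 2 2 (le_of_eq hx12)).upd 1 3 1 (le_of_eq hx14)).upd 2 1 1 (le_of_eq hx21)).upd 2 3 1 (le_of_eq hx24)).upd 3 1 1 (le_of_eq hx41)).upd 3 2 3 (le_of_eq hx42)) ![0,1,1,1] (by decide) (by decide) 1 (by decide))
        · -- 24=(3,1)
          exact False.elim (cert_false T ((skipEmb 3).trans (Function.Embedding.refl _)) (by norm_num) (fun _ => hall _) (((((((LB_zero T ((skipEmb 3).trans (Function.Embedding.refl _))).upd 1 2 2 (le_of_eq hx12)).upd 1 3 1 (le_of_eq hx14)).upd 2 1 1 (le_of_eq hx21)).upd 2 3 3 (le_of_eq hx24)).upd 3 1 1 (le_of_eq hx41)).upd 3 2 1 (le_of_eq hx42)) ![0,1,1,1] (by decide) (by decide) 1 (by decide))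
      · -- 14=(1,2)
        exact False.elim (cert_false T ((skipEmb 3).trans (Function.Embedding.refl _)) (by norm_num) (fun _ => hall _) (((((LB_zero T ((skipEmb 3).trans (Function.Embedding.refl _))).upd 1 2 2 (le_of_eq hx12)).upd 1 3 1 (le_of_eq hx14)).upd 2 1 1 (le_of_eq hx21)).upd 3 1 2 (le_of_eq hx41)) ![0,2,1,2] (by decide) (by decide) 1 (by decide))
      · -- 14=(2,1)
        exact False.elim (cert_false T ((skipEmb 3).trans (Function.Embedding.refl _)) (by norm_num) (fun _ => hall _) (((((LB_zero T ((skipEmb 3).trans (Function.Embedding.refl _))).upd 1 2 2 (le_of_eq hx12)).upd 1 3 2 (le_of_eq hx14)).upd 2 1 1 (le_of_eq hx21)).upd 3 1 1 (le_of_eq hx41)) ![0,2,1,1] (by decide) (by decide) 1 (by decide))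
      · -- 14=(1,3)
        exact False.elim (cert_false T ((skipEmb 3).trans (Function.Embedding.refl _)) (by norm_num) (fun _ => hall _) (((((LB_zero T ((skipEmb 3).trans (Function.Embedding.refl _))).upd 1 2 2 (le_of_eq hx12)).upd 1 3 1 (le_of_eq hx14)).upd 2 1 1 (le_of_eq hx21)).upd 3 1 3 (le_of_eq hx41)) ![0,2,1,2] (by decide) (by decide) 1 (by decide))
      · -- 14=(3,1)
        exact False.elim (cert_false T ((skipEmb 3).trans (Function.Embedding.refl _)) (by norm_num) (fun _ => hall _) (((((LB_zero T ((skipEmb 3).trans (Function.Embedding.refl _))).upd 1 2 2 (le_of_eq hx12)).upd 1 3 3 (le_of_eq hx14)).upd 2 1 1 (le_of_eq hx21)).upd 3 1 1 (le_of_eq hx41)) ![0,2,1,1] (by decide) (by decide) 1 (by decide))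
    · -- 04=(1,1)
      rcases d14 with ⟨rfl, rfl⟩ | ⟨rfl, rfl⟩ | ⟨rfl, rfl⟩ | ⟨rfl, rfl⟩ | ⟨rfl, rfl⟩ | ⟨rfl, rfl⟩
      · -- 14=(0,0)
        rcases d24 with ⟨rfl, rfl⟩ | ⟨rfl, rfl⟩ | ⟨rfl, rfl⟩ | ⟨rfl, rfl⟩ | ⟨rfl, rfl⟩ | ⟨rfl, rfl⟩
        · -- 24=(0,0)
          rcases d34 with ⟨rfl, rfl⟩ | ⟨rfl, rfl⟩ | ⟨rfl, rfl⟩ | ⟨rfl, rfl⟩ | ⟨rfl, rfl⟩ | ⟨rfl, rfl⟩
          · -- 34=(0,0)
            refine ⟨(⟨![1, 2, 0, 3, 4], ![2, 0, 1, 3, 4], by decide, by decide⟩ : Equiv.Perm (Fin 5)), T.m 3, T.w 1, Or.inr (Or.inr (Or.inr (Or.inr (Or.inr (Or.inr (Or.inr (Or.inr (?_))))))))⟩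
            show T.m 1 = 2 * T.m 3 ∧ T.m 2 = 2 * T.m 3 ∧ T.m 0 = 2 * T.m 3 ∧ T.m 3 = T.m 3 ∧ T.m 4 = T.m 3 ∧ T.w 1 = T.w 1 ∧ T.w 2 = 2 * T.w 1 ∧ T.w 0 = 2 * T.w 1 ∧ T.w 3 = 2 * T.w 1 ∧ T.w 4 = 2 * T.w 1 ∧ T.a 1 1 = -2 * T.w 1 ∧ T.a 1 2 = 2 * T.w 1 ∧ T.a 1 0 = 0 ∧ T.a 1 3 = 0 ∧ T.a 1 4 = 0 ∧ T.a 2 2 = -4 * T.w 1 ∧ T.a 2 0 = 2 * T.w 1 ∧ T.a 2 3 = 0 ∧ T.a 2 4 = 0 ∧ T.a 0 0 = -4 * T.w 1 ∧ T.a 0 3 = 2 * T.w 1 ∧ T.a 0 4 = 2 * T.w 1 ∧ T.a 3 3 = -4 * T.w 1 ∧ T.a 3 4 = 0 ∧ T.a 4 4 = -4 * T.w 1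
            refine ⟨?_, ?_, ?_, ?_, ?_, ?_, ?_, ?_, ?_, ?_, ?_, ?_, ?_, ?_, ?_, ?_, ?_, ?_, ?_, ?_, ?_, ?_, ?_, ?_, ?_⟩ <;> omega
          · -- 34=(1,1)
            exact False.elim (cert_false T ((skipEmb 2).trans (Function.Embedding.refl _)) (by norm_num) (fun _ => hall _) (((((((LB_zero T ((skipEmb 2).trans (Function.Embedding.refl _))).upd 0 2 1 (le_of_eq hx03)).upd 0 3 1 (le_of_eq hx04)).upd 2 0 1 (le_of_eq hx30)).upd 2 3 1 (le_of_eq hx34)).upd 3 0 1 (le_of_eq hx40)).upd 3 2 1 (le_of_eq hx43)) ![1,0,1,1] (by decide) (by decide) 0 (by decide))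
          · -- 34=(1,2)
            exact False.elim (cert_false T ((skipEmb 2).trans (Function.Embedding.refl _)) (by norm_num) (fun _ => hall _) (((((((LB_zero T ((skipEmb 2).trans (Function.Embedding.refl _))).upd 0 2 1 (le_of_eq hx03)).upd 0 3 1 (le_of_eq hx04)).upd 2 0 1 (le_of_eq hx30)).upd 2 3 1 (le_of_eq hx34)).upd 3 0 1 (le_of_eq hx40)).upd 3 2 2 (le_of_eq hx43)) ![1,0,1,1] (by decide) (by decide) 0 (by decide))
          · -- 34=(2,1)
            exact False.elim (cert_false T ((skipEmb 2).trans (Function.Embedding.refl _)) (by norm_num) (fun _ => hall _) (((((((LB_zero T ((skipEmb 2).trans (Function.Embedding.refl _))).upd 0 2 1 (le_of_eq hx03)).upd 0 3 1 (le_of_eq hx04)).upd 2 0 1 (le_of_eq hx30)).upd 2 3 2 (le_of_eq hx34)).upd 3 0 1 (le_of_eq hx40)).upd 3 2 1 (le_of_eq hx43)) ![1,0,1,1] (by decide) (by decide) 0 (by decide))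
          · -- 34=(1,3)
            exact False.elim (cert_false T ((skipEmb 2).trans (Function.Embedding.refl _)) (by norm_num) (fun _ => hall _) (((((((LB_zero T ((skipEmb 2).trans (Function.Embedding.refl _))).upd 0 2 1 (le_of_eq hx03)).upd 0 3 1 (le_of_eq hx04)).upd 2 0 1 (le_of_eq hx30)).upd 2 3 1 (le_of_eq hx34)).upd 3 0 1 (le_of_eq hx40)).upd 3 2 3 (le_of_eq hx43)) ![1,0,1,1] (by decide) (by decide) 0 (by decide))
          · -- 34=(3,1)
            exact False.elim (cert_false T ((skipEmb 2).trans (Function.Embedding.refl _)) (by norm_num) (fun _ => hall _) (((((((LB_zero T ((skipEmb 2).trans (Function.Embedding.refl _))).upd 0 2 1 (le_of_eq hx03)).upd 0 3 1 (le_of_eq hx04)).upd 2 0 1 (le_of_eq hx30)).upd 2 3 3 (le_of_eq hx34)).upd 3 0 1 (le_of_eq hx40)).upd 3 2 1 (le_of_eq hx43)) ![1,0,1,1] (by decide) (by decide) 0 (by decide))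
        · -- 24=(1,1)
          exact False.elim (cert_false T ((skipEmb 3).trans (Function.Embedding.refl _)) (by norm_num) (fun _ => hall _) (((((((LB_zero T ((skipEmb 3).trans (Function.Embedding.refl _))).upd 0 2 1 (le_of_eq hx02)).upd 0 3 1 (le_of_eq hx04)).upd 2 0 1 (le_of_eq hx20)).upd 2 3 1 (le_of_eq hx24)).upd 3 0 1 (le_of_eq hx40)).upd 3 2 1 (le_of_eq hx42)) ![1,0,1,1] (by decide) (by decide) 0 (by decide))
        · -- 24=(1,2)
          exact False.elim (cert_false T ((skipEmb 3).trans (Function.Embedding.refl _)) (by norm_num) (fun _ => hall _) (((((LB_zero T ((skipEmb 3).trans (Function.Embedding.refl _))).upd 1 2 2 (le_of_eq hx12)).upd 2 1 1 (le_of_eq hx21)).upd 2 3 1 (le_of_eq hx24)).upd 3 2 2 (le_of_eq hx42)) ![0,1,1,1] (by decide) (by decide) 1 (by decide))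
        · -- 24=(2,1)
          exact False.elim (cert_false T ((skipEmb 3).trans (Function.Embedding.refl _)) (by norm_num) (fun _ => hall _) (((((((LB_zero T ((skipEmb 3).trans (Function.Embedding.refl _))).upd 0 2 1 (le_of_eq hx02)).upd 0 3 1 (le_of_eq hx04)).upd 2 0 1 (le_of_eq hx20)).upd 2 3 2 (le_of_eq hx24)).upd 3 0 1 (le_of_eq hx40)).upd 3 2 1 (le_of_eq hx42)) ![1,0,1,1] (by decide) (by decide) 0 (by decide))
        · -- 24=(1,3)
          exact False.elim (cert_false T ((skipEmb 3).trans (Function.Embedding.refl _)) (by norm_num) (fun _ => hall _) (((((LB_zero T ((skipEmb 3).trans (Function.Embedding.refl _))).upd 1 2 2 (le_of_eq hx12)).upd 2 1 1 (le_of_eq hx21)).upd 2 3 1 (le_of_eq hx24)).upd 3 2 3 (le_of_eq hx42)) ![0,1,1,1] (by decide) (by decide) 1 (by decide))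
        · -- 24=(3,1)
          exact False.elim (cert_false T ((skipEmb 3).trans (Function.Embedding.refl _)) (by norm_num) (fun _ => hall _) (((((((LB_zero T ((skipEmb 3).trans (Function.Embedding.refl _))).upd 0 2 1 (le_of_eq hx02)).upd 0 3 1 (le_of_eq hx04)).upd 2 0 1 (le_of_eq hx20)).upd 2 3 3 (le_of_eq hx24)).upd 3 0 1 (le_of_eq hx40)).upd 3 2 1 (le_of_eq hx42)) ![1,0,1,1] (by decide) (by decide) 0 (by decide))
      · -- 14=(1,1)
        exact False.elim (cert_false T ((skipEmb 3).trans (Function.Embedding.refl _)) (by norm_num) (fun _ => hall _) (((((((((LB_zero T ((skipEmb 3).trans (Function.Embedding.refl _))).upd 0 2 1 (le_of_eq hx02)).upd 0 3 1 (le_of_eq hx04)).upd 1 2 2 (le_of_eq hx12)).upd 1 3 1 (le_of_eq hx14)).upd 2 0 1 (le_of_eq hx20)).upd 2 1 1 (le_of_eq hx21)).upd 3 0 1 (le_of_eq hx40)).upd 3 1 1 (le_of_eq hx41)) ![1,1,1,1] (by decide) (by decide) 0 (by decide))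
      · -- 14=(1,2)
        exact False.elim (cert_false T ((skipEmb 3).trans (Function.Embedding.refl _)) (by norm_num) (fun _ => hall _) (((((((((LB_zero T ((skipEmb 3).trans (Function.Embedding.refl _))).upd 0 2 1 (le_of_eq hx02)).upd 0 3 1 (le_of_eq hx04)).upd 1 2 2 (le_of_eq hx12)).upd 1 3 1 (le_of_eq hx14)).upd 2 0 1 (le_of_eq hx20)).upd 2 1 1 (le_of_eq hx21)).upd 3 0 1 (le_of_eq hx40)).upd 3 1 2 (le_of_eq hx41)) ![1,1,1,1] (by decide) (by decide) 0 (by decide))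
      · -- 14=(2,1)
        exact False.elim (cert_false T ((skipEmb 3).trans (Function.Embedding.refl _)) (by norm_num) (fun _ => hall _) (((((((((LB_zero T ((skipEmb 3).trans (Function.Embedding.refl _))).upd 0 2 1 (le_of_eq hx02)).upd 0 3 1 (le_of_eq hx04)).upd 1 2 2 (le_of_eq hx12)).upd 1 3 2 (le_of_eq hx14)).upd 2 0 1 (le_of_eq hx20)).upd 2 1 1 (le_of_eq hx21)).upd 3 0 1 (le_of_eq hx40)).upd 3 1 1 (le_of_eq hx41)) ![1,1,1,1] (by decide) (by decide) 0 (by decide))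
      · -- 14=(1,3)
        exact False.elim (cert_false T ((skipEmb 3).trans (Function.Embedding.refl _)) (by norm_num) (fun _ => hall _) (((((((((LB_zero T ((skipEmb 3).trans (Function.Embedding.refl _))).upd 0 2 1 (le_of_eq hx02)).upd 0 3 1 (le_of_eq hx04)).upd 1 2 2 (le_of_eq hx12)).upd 1 3 1 (le_of_eq hx14)).upd 2 0 1 (le_of_eq hx20)).upd 2 1 1 (le_of_eq hx21)).upd 3 0 1 (le_of_eq hx40)).upd 3 1 3 (le_of_eq hx41)) ![1,1,1,1] (by decide) (by decide) 0 (by decide))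
      · -- 14=(3,1)
        exact False.elim (cert_false T ((skipEmb 3).trans (Function.Embedding.refl _)) (by norm_num) (fun _ => hall _) (((((((((LB_zero T ((skipEmb 3).trans (Function.Embedding.refl _))).upd 0 2 1 (le_of_eq hx02)).upd 0 3 1 (le_of_eq hx04)).upd 1 2 2 (le_of_eq hx12)).upd 1 3 3 (le_of_eq hx14)).upd 2 0 1 (le_of_eq hx20)).upd 2 1 1 (le_of_eq hx21)).upd 3 0 1 (le_of_eq hx40)).upd 3 1 1 (le_of_eq hx41)) ![1,1,1,1] (by decide) (by decide) 0 (by decide))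
    · -- 04=(1,2)
      exact False.elim (cert_false T ((skipEmb 3).trans (Function.Embedding.refl _)) (by norm_num) (fun _ => hall _) (((((((LB_zero T ((skipEmb 3).trans (Function.Embedding.refl _))).upd 0 2 1 (le_of_eq hx02)).upd 0 3 1 (le_of_eq hx04)).upd 1 2 2 (le_of_eq hx12)).upd 2 0 1 (le_of_eq hx20)).upd 2 1 1 (le_of_eq hx21)).upd 3 0 2 (le_of_eq hx40)) ![1,1,1,1] (by decide) (by decide) 0 (by decide))
    · -- 04=(2,1)
      exact False.elim (cert_false T ((skipEmb 3).trans (Function.Embedding.refl _)) (by norm_num) (fun _ => hall _) (((((((LB_zero T ((skipEmb 3).trans (Function.Embedding.refl _))).upd 0 2 1 (le_of_eq hx02)).upd 0 3 2 (le_of_eq hx04)).upd 1 2 2 (le_of_eq hx12)).upd 2 0 1 (le_of_eq hx20)).upd 2 1 1 (le_of_eq hx21)).upd 3 0 1 (le_of_eq hx40)) ![2,2,2,1] (by decide) (by decide) 0 (by decide))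
    · -- 04=(1,3)
      exact False.elim (cert_false T ((skipEmb 3).trans (Function.Embedding.refl _)) (by norm_num) (fun _ => hall _) (((((((LB_zero T ((skipEmb 3).trans (Function.Embedding.refl _))).upd 0 2 1 (le_of_eq hx02)).upd 0 3 1 (le_of_eq hx04)).upd 1 2 2 (le_of_eq hx12)).upd 2 0 1 (le_of_eq hx20)).upd 2 1 1 (le_of_eq hx21)).upd 3 0 3 (le_of_eq hx40)) ![1,1,1,1] (by decide) (by decide) 0 (by decide))
    · -- 04=(3,1)
      exact False.elim (cert_false T ((skipEmb 3).trans (Function.Embedding.refl _)) (by norm_num) (fun _ => hall _) (((((LB_zero T ((skipEmb 3).trans (Function.Embedding.refl _))).upd 0 2 1 (le_of_eq hx02)).upd 0 3 3 (le_of_eq hx04)).upd 2 0 1 (le_of_eq hx20)).upd 3 0 1 (le_of_eq hx40)) ![2,0,1,1] (by decide) (by decide) 0 (by decide))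
  · -- 23=(1,1)
    exact False.elim (cert_false T ((skipEmb 4).trans (Function.Embedding.refl _)) (by norm_num) (fun _ => hall _) (((((((LB_zero T ((skipEmb 4).trans (Function.Embedding.refl _))).upd 0 2 1 (le_of_eq hx02)).upd 0 3 1 (le_of_eq hx03)).upd 2 0 1 (le_of_eq hx20)).upd 2 3 1 (le_of_eq hx23)).upd 3 0 1 (le_of_eq hx30)).upd 3 2 1 (le_of_eq hx32)) ![1,0,1,1] (by decide) (by decide) 0 (by decide))
  · -- 23=(1,2)
    exact False.elim (cert_false T ((skipEmb 4).trans (Function.Embedding.refl _)) (by norm_num) (fun _ => hall _) (((((LB_zero T ((skipEmb 4).trans (Function.Embedding.refl _))).upd 1 2 2 (le_of_eq hx12)).upd 2 1 1 (le_of_eq hx21)).upd 2 3 1 (le_of_eq hx23)).upd 3 2 2 (le_of_eq hx32)) ![0,1,1,1] (by decide) (by decide) 1 (by decide))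
  · -- 23=(2,1)
    exact False.elim (cert_false T ((skipEmb 4).trans (Function.Embedding.refl _)) (by norm_num) (fun _ => hall _) (((((((LB_zero T ((skipEmb 4).trans (Function.Embedding.refl _))).upd 0 2 1 (le_of_eq hx02)).upd 0 3 1 (le_of_eq hx03)).upd 2 0 1 (le_of_eq hx20)).upd 2 3 2 (le_of_eq hx23)).upd 3 0 1 (le_of_eq hx30)).upd 3 2 1 (le_of_eq hx32)) ![1,0,1,1] (by decide) (by decide) 0 (by decide))
  · -- 23=(1,3)
    exact False.elim (cert_false T ((skipEmb 4).trans (Function.Embedding.refl _)) (by norm_num) (fun _ => hall _) (((((LB_zero T ((skipEmb 4).trans (Function.Embedding.refl _))).upd 1 2 2 (le_of_eq hx12)).upd 2 1 1 (le_of_eq hx21)).upd 2 3 1 (le_of_eq hx23)).upd 3 2 3 (le_of_eq hx32)) ![0,1,1,1] (by decide) (by decide) 1 (by decide))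
  · -- 23=(3,1)
    exact False.elim (cert_false T ((skipEmb 4).trans (Function.Embedding.refl _)) (by norm_num) (fun _ => hall _) (((((((LB_zero T ((skipEmb 4).trans (Function.Embedding.refl _))).upd 0 2 1 (le_of_eq hx02)).upd 0 3 1 (le_of_eq hx03)).upd 2 0 1 (le_of_eq hx20)).upd 2 3 3 (le_of_eq hx23)).upd 3 0 1 (le_of_eq hx30)).upd 3 2 1 (le_of_eq hx32)) ![1,0,1,1] (by decide) (by decide) 0 (by decide))

theorem case321 (T : NumericalType 5) (hall : ∀ i, T.IsMinusTwo i) (d : SData T)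
    (h01 : N T (Function.Embedding.refl _) 0 1 = 0) (h10 : N T (Function.Embedding.refl _) 1 0 = 0)
    (h02 : N T (Function.Embedding.refl _) 0 2 = 2) (h20 : N T (Function.Embedding.refl _) 2 0 = 1)
    (h12 : N T (Function.Embedding.refl _) 1 2 = 0) (h21 : N T (Function.Embedding.refl _) 2 1 = 0)
    (h03 : N T (Function.Embedding.refl _) 0 3 = 0) (h30 : N T (Function.Embedding.refl _) 3 0 = 0)
    (h13 : N T (Function.Embedding.refl _) 1 3 = 2) (h31 : N T (Function.Embedding.refl _) 3 1 = 1)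
    (h23 : N T (Function.Embedding.refl _) 2 3 = 0) (h32 : N T (Function.Embedding.refl _) 3 2 = 0) :
    Goal T := by
  unfold Goal
  have hd := d
  obtain ⟨x01, x02, x03, x04, x10, x12, x13, x14, x20, x21, x23, x24, x30, x31, x32, x34, x40, x41, x42, x43, hx01, hx02, hx03, hx04, hx10, hx12, hx13, hx14, hx20, hx21, hx23, hx24, hx30, hx31, hx32, hx34, hx40, hx41, hx42, hx43, hw0, hm0, hw1, hm1, hw2, hm2, hw3, hm3, hw4, hm4, a00, a01, a02, a03, a04, a11, a10, a12, a13, a14, a22, a20, a21, a23, a24, a33, a30, a31, a32, a34, a44, a40, a41, a42, a43, wN01, wN02, wN12, wN03, wN13, wN23, wN04, wN14, wN24, wN34, e0, e1, e2, e3, e4, d01, d02, d12, d03, d13, d23, d04, d14, d24, d34⟩ := d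
  obtain rfl : x01 = 0 := hx01.trans h01
  obtain rfl : x10 = 0 := hx10.trans h10
  obtain rfl : x02 = 2 := hx02.trans h02
  obtain rfl : x20 = 1 := hx20.trans h20
  obtain rfl : x12 = 0 := hx12.trans h12
  obtain rfl : x21 = 0 := hx21.trans h21
  obtain rfl : x03 = 0 := hx03.trans h03
  obtain rfl : x30 = 0 := hx30.trans h30
  obtain rfl : x13 = 2 := hx13.trans h13
  obtain rfl : x31 = 1 := hx31.trans h31
  obtain rfl : x23 = 0 := hx23.trans h23
  obtain rfl : x32 = 0 := hx32.trans h32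
  rcases d04 with ⟨rfl, rfl⟩ | ⟨rfl, rfl⟩ | ⟨rfl, rfl⟩ | ⟨rfl, rfl⟩ | ⟨rfl, rfl⟩ | ⟨rfl, rfl⟩
  · -- 04=(0,0)
    rcases d14 with ⟨rfl, rfl⟩ | ⟨rfl, rfl⟩ | ⟨rfl, rfl⟩ | ⟨rfl, rfl⟩ | ⟨rfl, rfl⟩ | ⟨rfl, rfl⟩
    · -- 14=(0,0)
      rcases d24 with ⟨rfl, rfl⟩ | ⟨rfl, rfl⟩ | ⟨rfl, rfl⟩ | ⟨rfl, rfl⟩ | ⟨rfl, rfl⟩ | ⟨rfl, rfl⟩
      · -- 24=(0,0)
        rcases d34 with ⟨rfl, rfl⟩ | ⟨rfl, rfl⟩ | ⟨rfl, rfl⟩ | ⟨rfl, rfl⟩ | ⟨rfl, rfl⟩ | ⟨rfl, rfl⟩
        · -- 34=(0,0)
          exfalso; omega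
        · -- 34=(1,1)
          exfalso; omega
        · -- 34=(1,2)
          exact False.elim (cert_false T ((skipEmb 2).trans (Function.Embedding.refl _)) (by norm_num) (fun _ => hall _) (((((LB_zero T ((skipEmb 2).trans (Function.Embedding.refl _))).upd 1 2 2 (le_of_eq hx13)).upd 2 1 1 (le_of_eq hx31)).upd 2 3 1 (le_of_eq hx34)).upd 3 2 2 (le_of_eq hx43)) ![0,1,1,1] (by decide) (by decide) 1 (by decide))
        · -- 34=(2,1)
          exact False.elim (cert_false T ((skipEmb 2).trans (Function.Embedding.refl _)) (by norm_num) (fun _ => hall _) (((((LB_zero T ((skipEmb 2).trans (Function.Embedding.refl _))).upd 1 2 2 (le_of_eq hx13)).upd 2 1 1 (le_of_eq hx31)).upd 2 3 2 (le_of_eq hx34)).upd 3 2 1 (le_of_eq hx43)) ![0,2,2,1] (by decide) (by decide) 1 (by decide))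
        · -- 34=(1,3)
          exact False.elim (cert_false T ((skipEmb 2).trans (Function.Embedding.refl _)) (by norm_num) (fun _ => hall _) (((((LB_zero T ((skipEmb 2).trans (Function.Embedding.refl _))).upd 1 2 2 (le_of_eq hx13)).upd 2 1 1 (le_of_eq hx31)).upd 2 3 1 (le_of_eq hx34)).upd 3 2 3 (le_of_eq hx43)) ![0,1,1,1] (by decide) (by decide) 1 (by decide))
        · -- 34=(3,1)
          exact False.elim (cert_false T ((skipEmb 2).trans (Function.Embedding.refl _)) (by norm_num) (fun _ => hall _) (((((LB_zero T ((skipEmb 2).trans (Function.Embedding.refl _))).upd 1 2 2 (le_of_eq hx13)).upd 2 1 1 (le_of_eq hx31)).upd 2 3 3 (le_of_eq hx34)).upd 3 2 1 (le_of_eq hx43)) ![0,1,2,1] (by decide) (by decide) 1 (by decide))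
      · -- 24=(1,1)
        rcases d34 with ⟨rfl, rfl⟩ | ⟨rfl, rfl⟩ | ⟨rfl, rfl⟩ | ⟨rfl, rfl⟩ | ⟨rfl, rfl⟩ | ⟨rfl, rfl⟩
        · -- 34=(0,0)
          exfalso; omega
        · -- 34=(1,1)
          refine ⟨(⟨![0, 2, 4, 3, 1], ![0, 4, 1, 3, 2], by decide, by decide⟩ : Equiv.Perm (Fin 5)), T.m 0, T.w 0, Or.inr (Or.inr (Or.inr (Or.inr (Or.inl ?_))))⟩
          show T.m 0 = T.m 0 ∧ T.m 2 = T.m 0 ∧ T.m 4 = T.m 0 ∧ T.m 3 = T.m 0 ∧ T.m 1 = T.m 0 ∧ T.w 0 = T.w 0 ∧ T.w 2 = 2 * T.w 0 ∧ T.w 4 = 2 * T.w 0 ∧ T.w 3 = 2 * T.w 0 ∧ T.w 1 = T.w 0 ∧ T.a 0 0 = -2 * T.w 0 ∧ T.a 0 2 = 2 * T.w 0 ∧ T.a 0 4 = 0 ∧ T.a 0 3 = 0 ∧ T.a 0 1 = 0 ∧ T.a 2 2 = -4 * T.w 0 ∧ T.a 2 4 = 2 * T.w 0 ∧ T.a 2 3 = 0 ∧ T.a 2 1 = 0 ∧ T.a 4 4 = -4 * T.w 0 ∧ T.a 4 3 = 2 * T.w 0 ∧ T.a 4 1 = 0 ∧ T.a 3 3 = -4 * T.w 0 ∧ T.a 3 1 = 2 * T.w 0 ∧ T.a 1 1 = -2 * T.w 0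
          refine ⟨?_, ?_, ?_, ?_, ?_, ?_, ?_, ?_, ?_, ?_, ?_, ?_, ?_, ?_, ?_, ?_, ?_, ?_, ?_, ?_, ?_, ?_, ?_, ?_, ?_⟩ <;> omega
        · -- 34=(1,2)
          exact False.elim (cert_false T ((skipEmb 2).trans (Function.Embedding.refl _)) (by norm_num) (fun _ => hall _) (((((LB_zero T ((skipEmb 2).trans (Function.Embedding.refl _))).upd 1 2 2 (le_of_eq hx13)).upd 2 1 1 (le_of_eq hx31)).upd 2 3 1 (le_of_eq hx34)).upd 3 2 2 (le_of_eq hx43)) ![0,1,1,1] (by decide) (by decide) 1 (by decide))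
        · -- 34=(2,1)
          exact False.elim (cert_false T ((skipEmb 2).trans (Function.Embedding.refl _)) (by norm_num) (fun _ => hall _) (((((LB_zero T ((skipEmb 2).trans (Function.Embedding.refl _))).upd 1 2 2 (le_of_eq hx13)).upd 2 1 1 (le_of_eq hx31)).upd 2 3 2 (le_of_eq hx34)).upd 3 2 1 (le_of_eq hx43)) ![0,2,2,1] (by decide) (by decide) 1 (by decide))
        · -- 34=(1,3)
          exact False.elim (cert_false T ((skipEmb 2).trans (Function.Embedding.refl _)) (by norm_num) (fun _ => hall _) (((((LB_zero T ((skipEmb 2).trans (Function.Embedding.refl _))).upd 1 2 2 (le_of_eq hx13)).upd 2 1 1 (le_of_eq hx31)).upd 2 3 1 (le_of_eq hx34)).upd 3 2 3 (le_of_eq hx43)) ![0,1,1,1] (by decide) (by decide) 1 (by decide))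
        · -- 34=(3,1)
          exact False.elim (cert_false T ((skipEmb 2).trans (Function.Embedding.refl _)) (by norm_num) (fun _ => hall _) (((((LB_zero T ((skipEmb 2).trans (Function.Embedding.refl _))).upd 1 2 2 (le_of_eq hx13)).upd 2 1 1 (le_of_eq hx31)).upd 2 3 3 (le_of_eq hx34)).upd 3 2 1 (le_of_eq hx43)) ![0,1,2,1] (by decide) (by decide) 1 (by decide))
      · -- 24=(1,2)
        exact False.elim (cert_false T ((skipEmb 3).trans (Function.Embedding.refl _)) (by norm_num) (fun _ => hall _) (((((LB_zero T ((skipEmb 3).trans (Function.Embedding.refl _))).upd 0 2 2 (le_of_eq hx02)).upd 2 0 1 (le_of_eq hx20)).upd 2 3 1 (le_of_eq hx24)).upd 3 2 2 (le_of_eq hx42)) ![1,0,1,1] (by decide) (by decide) 0 (by decide))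
      · -- 24=(2,1)
        exact False.elim (cert_false T ((skipEmb 3).trans (Function.Embedding.refl _)) (by norm_num) (fun _ => hall _) (((((LB_zero T ((skipEmb 3).trans (Function.Embedding.refl _))).upd 0 2 2 (le_of_eq hx02)).upd 2 0 1 (le_of_eq hx20)).upd 2 3 2 (le_of_eq hx24)).upd 3 2 1 (le_of_eq hx42)) ![2,0,2,1] (by decide) (by decide) 0 (by decide))
      · -- 24=(1,3)
        exact False.elim (cert_false T ((skipEmb 3).trans (Function.Embedding.refl _)) (by norm_num) (fun _ => hall _) (((((LB_zero T ((skipEmb 3).trans (Function.Embedding.refl _))).upd 0 2 2 (le_of_eq hx02)).upd 2 0 1 (le_of_eq hx20)).upd 2 3 1 (le_of_eq hx24)).upd 3 2 3 (le_of_eq hx42)) ![1,0,1,1] (by decide) (by decide) 0 (by decide))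
      · -- 24=(3,1)
        exact False.elim (cert_false T ((skipEmb 3).trans (Function.Embedding.refl _)) (by norm_num) (fun _ => hall _) (((((LB_zero T ((skipEmb 3).trans (Function.Embedding.refl _))).upd 0 2 2 (le_of_eq hx02)).upd 2 0 1 (le_of_eq hx20)).upd 2 3 3 (le_of_eq hx24)).upd 3 2 1 (le_of_eq hx42)) ![1,0,2,1] (by decide) (by decide) 0 (by decide))
    · -- 14=(1,1)
      rcases d24 with ⟨rfl, rfl⟩ | ⟨rfl, rfl⟩ | ⟨rfl, rfl⟩ | ⟨rfl, rfl⟩ | ⟨rfl, rfl⟩ | ⟨rfl, rfl⟩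
      · -- 24=(0,0)
        rcases d34 with ⟨rfl, rfl⟩ | ⟨rfl, rfl⟩ | ⟨rfl, rfl⟩ | ⟨rfl, rfl⟩ | ⟨rfl, rfl⟩ | ⟨rfl, rfl⟩
        · -- 34=(0,0)
          exfalso; omega
        · -- 34=(1,1)
          exact False.elim (cert_false T ((skipEmb 2).trans (Function.Embedding.refl _)) (by norm_num) (fun _ => hall _) (((((((LB_zero T ((skipEmb 2).trans (Function.Embedding.refl _))).upd 1 2 2 (le_of_eq hx13)).upd 1 3 1 (le_of_eq hx14)).upd 2 1 1 (le_of_eq hx31)).upd 2 3 1 (le_of_eq hx34)).upd 3 1 1 (le_of_eq hx41)).upd 3 2 1 (le_of_eq hx43)) ![0,1,1,1] (by decide) (by decide) 1 (by decide))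
        · -- 34=(1,2)
          exact False.elim (cert_false T ((skipEmb 2).trans (Function.Embedding.refl _)) (by norm_num) (fun _ => hall _) (((((((LB_zero T ((skipEmb 2).trans (Function.Embedding.refl _))).upd 1 2 2 (le_of_eq hx13)).upd 1 3 1 (le_of_eq hx14)).upd 2 1 1 (le_of_eq hx31)).upd 2 3 1 (le_of_eq hx34)).upd 3 1 1 (le_of_eq hx41)).upd 3 2 2 (le_of_eq hx43)) ![0,1,1,1] (by decide) (by decide) 1 (by decide))
        · -- 34=(2,1)
          exact False.elim (cert_false T ((skipEmb 2).trans (Function.Embedding.refl _)) (by norm_num) (fun _ => hall _) (((((((LB_zero T ((skipEmb 2).trans (Function.Embedding.refl _))).upd 1 2 2 (le_of_eq hx13)).upd 1 3 1 (le_of_eq hx14)).upd 2 1 1 (le_of_eq hx31)).upd 2 3 2 (le_of_eq hx34)).upd 3 1 1 (le_of_eq hx41)).upd 3 2 1 (le_of_eq hx43)) ![0,1,1,1] (by decide) (by decide) 1 (by decide))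
        · -- 34=(1,3)
          exact False.elim (cert_false T ((skipEmb 2).trans (Function.Embedding.refl _)) (by norm_num) (fun _ => hall _) (((((((LB_zero T ((skipEmb 2).trans (Function.Embedding.refl _))).upd 1 2 2 (le_of_eq hx13)).upd 1 3 1 (le_of_eq hx14)).upd 2 1 1 (le_of_eq hx31)).upd 2 3 1 (le_of_eq hx34)).upd 3 1 1 (le_of_eq hx41)).upd 3 2 3 (le_of_eq hx43)) ![0,1,1,1] (by decide) (by decide) 1 (by decide))
        · -- 34=(3,1)
          exact False.elim (cert_false T ((skipEmb 2).trans (Function.Embedding.refl _)) (by norm_num) (fun _ => hall _) (((((((LB_zero T ((skipEmb 2).trans (Function.Embedding.refl _))).upd 1 2 2 (le_of_eq hx13)).upd 1 3 1 (le_of_eq hx14)).upd 2 1 1 (le_of_eq hx31)).upd 2 3 3 (le_of_eq hx34)).upd 3 1 1 (le_of_eq hx41)).upd 3 2 1 (le_of_eq hx43)) ![0,1,1,1] (by decide) (by decide) 1 (by decide))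
      · -- 24=(1,1)
        rcases d34 with ⟨rfl, rfl⟩ | ⟨rfl, rfl⟩ | ⟨rfl, rfl⟩ | ⟨rfl, rfl⟩ | ⟨rfl, rfl⟩ | ⟨rfl, rfl⟩
        · -- 34=(0,0)
          refine ⟨(⟨![0, 2, 4, 1, 3], ![0, 3, 1, 4, 2], by decide, by decide⟩ : Equiv.Perm (Fin 5)), T.m 3, T.w 0, Or.inr (Or.inr (Or.inr (Or.inl ?_)))⟩
          show T.m 0 = 2 * T.m 3 ∧ T.m 2 = 2 * T.m 3 ∧ T.m 4 = 2 * T.m 3 ∧ T.m 1 = 2 * T.m 3 ∧ T.m 3 = T.m 3 ∧ T.w 0 = T.w 0 ∧ T.w 2 = 2 * T.w 0 ∧ T.w 4 = 2 * T.w 0 ∧ T.w 1 = 2 * T.w 0 ∧ T.w 3 = 4 * T.w 0 ∧ T.a 0 0 = -2 * T.w 0 ∧ T.a 0 2 = 2 * T.w 0 ∧ T.a 0 4 = 0 ∧ T.a 0 1 = 0 ∧ T.a 0 3 = 0 ∧ T.a 2 2 = -4 * T.w 0 ∧ T.a 2 4 = 2 * T.w 0 ∧ T.a 2 1 = 0 ∧ T.a 2 3 = 0 ∧ T.a 4 4 = -4 * T.w 0 ∧ T.a 4 1 = 2 * T.w 0 ∧ T.a 4 3 = 0 ∧ T.a 1 1 = -4 * T.w 0 ∧ T.a 1 3 = 4 * T.w 0 ∧ T.a 3 3 = -8 * T.w 0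
          refine ⟨?_, ?_, ?_, ?_, ?_, ?_, ?_, ?_, ?_, ?_, ?_, ?_, ?_, ?_, ?_, ?_, ?_, ?_, ?_, ?_, ?_, ?_, ?_, ?_, ?_⟩ <;> omega
        · -- 34=(1,1)
          exact False.elim (cert_false T ((skipEmb 2).trans (Function.Embedding.refl _)) (by norm_num) (fun _ => hall _) (((((((LB_zero T ((skipEmb 2).trans (Function.Embedding.refl _))).upd 1 2 2 (le_of_eq hx13)).upd 1 3 1 (le_of_eq hx14)).upd 2 1 1 (le_of_eq hx31)).upd 2 3 1 (le_of_eq hx34)).upd 3 1 1 (le_of_eq hx41)).upd 3 2 1 (le_of_eq hx43)) ![0,1,1,1] (by decide) (by decide) 1 (by decide))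
        · -- 34=(1,2)
          exact False.elim (cert_false T ((skipEmb 2).trans (Function.Embedding.refl _)) (by norm_num) (fun _ => hall _) (((((((LB_zero T ((skipEmb 2).trans (Function.Embedding.refl _))).upd 1 2 2 (le_of_eq hx13)).upd 1 3 1 (le_of_eq hx14)).upd 2 1 1 (le_of_eq hx31)).upd 2 3 1 (le_of_eq hx34)).upd 3 1 1 (le_of_eq hx41)).upd 3 2 2 (le_of_eq hx43)) ![0,1,1,1] (by decide) (by decide) 1 (by decide))
        · -- 34=(2,1)
          exact False.elim (cert_false T ((skipEmb 2).trans (Function.Embedding.refl _)) (by norm_num) (fun _ => hall _) (((((((LB_zero T ((skipEmb 2).trans (Function.Embedding.refl _))).upd 1 2 2 (le_of_eq hx13)).upd 1 3 1 (le_of_eq hx14)).upd 2 1 1 (le_of_eq hx31)).upd 2 3 2 (le_of_eq hx34)).upd 3 1 1 (le_of_eq hx41)).upd 3 2 1 (le_of_eq hx43)) ![0,1,1,1] (by decide) (by decide) 1 (by decide))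
        · -- 34=(1,3)
          exact False.elim (cert_false T ((skipEmb 2).trans (Function.Embedding.refl _)) (by norm_num) (fun _ => hall _) (((((((LB_zero T ((skipEmb 2).trans (Function.Embedding.refl _))).upd 1 2 2 (le_of_eq hx13)).upd 1 3 1 (le_of_eq hx14)).upd 2 1 1 (le_of_eq hx31)).upd 2 3 1 (le_of_eq hx34)).upd 3 1 1 (le_of_eq hx41)).upd 3 2 3 (le_of_eq hx43)) ![0,1,1,1] (by decide) (by decide) 1 (by decide))
        · -- 34=(3,1)
          exact False.elim (cert_false T ((skipEmb 2).trans (Function.Embedding.refl _)) (by norm_num) (fun _ => hall _) (((((((LB_zero T ((skipEmb 2).trans (Function.Embedding.refl _))).upd 1 2 2 (le_of_eq hx13)).upd 1 3 1 (le_of_eq hx14)).upd 2 1 1 (le_of_eq hx31)).upd 2 3 3 (le_of_eq hx34)).upd 3 1 1 (le_of_eq hx41)).upd 3 2 1 (le_of_eq hx43)) ![0,1,1,1] (by decide) (by decide) 1 (by decide))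
      · -- 24=(1,2)
        exact False.elim (cert_false T ((skipEmb 3).trans (Function.Embedding.refl _)) (by norm_num) (fun _ => hall _) (((((LB_zero T ((skipEmb 3).trans (Function.Embedding.refl _))).upd 0 2 2 (le_of_eq hx02)).upd 2 0 1 (le_of_eq hx20)).upd 2 3 1 (le_of_eq hx24)).upd 3 2 2 (le_of_eq hx42)) ![1,0,1,1] (by decide) (by decide) 0 (by decide))
      · -- 24=(2,1)
        exact False.elim (cert_false T ((skipEmb 3).trans (Function.Embedding.refl _)) (by norm_num) (fun _ => hall _) (((((LB_zero T ((skipEmb 3).trans (Function.Embedding.refl _))).upd 0 2 2 (le_of_eq hx02)).upd 2 0 1 (le_of_eq hx20)).upd 2 3 2 (le_of_eq hx24)).upd 3 2 1 (le_of_eq hx42)) ![2,0,2,1] (by decide) (by decide) 0 (by decide))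
      · -- 24=(1,3)
        exact False.elim (cert_false T ((skipEmb 3).trans (Function.Embedding.refl _)) (by norm_num) (fun _ => hall _) (((((LB_zero T ((skipEmb 3).trans (Function.Embedding.refl _))).upd 0 2 2 (le_of_eq hx02)).upd 2 0 1 (le_of_eq hx20)).upd 2 3 1 (le_of_eq hx24)).upd 3 2 3 (le_of_eq hx42)) ![1,0,1,1] (by decide) (by decide) 0 (by decide))
      · -- 24=(3,1)
        exact False.elim (cert_false T ((skipEmb 3).trans (Function.Embedding.refl _)) (by norm_num) (fun _ => hall _) (((((LB_zero T ((skipEmb 3).trans (Function.Embedding.refl _))).upd 0 2 2 (le_of_eq hx02)).upd 2 0 1 (le_of_eq hx20)).upd 2 3 3 (le_of_eq hx24)).upd 3 2 1 (le_of_eq hx42)) ![1,0,2,1] (by decide) (by decide) 0 (by decide))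
    · -- 14=(1,2)
      exact False.elim (cert_false T ((skipEmb 2).trans (Function.Embedding.refl _)) (by norm_num) (fun _ => hall _) (((((LB_zero T ((skipEmb 2).trans (Function.Embedding.refl _))).upd 1 2 2 (le_of_eq hx13)).upd 1 3 1 (le_of_eq hx14)).upd 2 1 1 (le_of_eq hx31)).upd 3 1 2 (le_of_eq hx41)) ![0,2,1,2] (by decide) (by decide) 1 (by decide))
    · -- 14=(2,1)
      exact False.elim (cert_false T ((skipEmb 2).trans (Function.Embedding.refl _)) (by norm_num) (fun _ => hall _) (((((LB_zero T ((skipEmb 2).trans (Function.Embedding.refl _))).upd 1 2 2 (le_of_eq hx13)).upd 1 3 2 (le_of_eq hx14)).upd 2 1 1 (le_of_eq hx31)).upd 3 1 1 (le_of_eq hx41)) ![0,2,1,1] (by decide) (by decide) 1 (by decide))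
    · -- 14=(1,3)
      exact False.elim (cert_false T ((skipEmb 2).trans (Function.Embedding.refl _)) (by norm_num) (fun _ => hall _) (((((LB_zero T ((skipEmb 2).trans (Function.Embedding.refl _))).upd 1 2 2 (le_of_eq hx13)).upd 1 3 1 (le_of_eq hx14)).upd 2 1 1 (le_of_eq hx31)).upd 3 1 3 (le_of_eq hx41)) ![0,2,1,2] (by decide) (by decide) 1 (by decide))
    · -- 14=(3,1)
      exact False.elim (cert_false T ((skipEmb 2).trans (Function.Embedding.refl _)) (by norm_num) (fun _ => hall _) (((((LB_zero T ((skipEmb 2).trans (Function.Embedding.refl _))).upd 1 2 2 (le_of_eq hx13)).upd 1 3 3 (le_of_eq hx14)).upd 2 1 1 (le_of_eq hx31)).upd 3 1 1 (le_of_eq hx41)) ![0,2,1,1] (by decide) (by decide) 1 (by decide))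
  · -- 04=(1,1)
    rcases d14 with ⟨rfl, rfl⟩ | ⟨rfl, rfl⟩ | ⟨rfl, rfl⟩ | ⟨rfl, rfl⟩ | ⟨rfl, rfl⟩ | ⟨rfl, rfl⟩
    · -- 14=(0,0)
      rcases d24 with ⟨rfl, rfl⟩ | ⟨rfl, rfl⟩ | ⟨rfl, rfl⟩ | ⟨rfl, rfl⟩ | ⟨rfl, rfl⟩ | ⟨rfl, rfl⟩
      · -- 24=(0,0)
        rcases d34 with ⟨rfl, rfl⟩ | ⟨rfl, rfl⟩ | ⟨rfl, rfl⟩ | ⟨rfl, rfl⟩ | ⟨rfl, rfl⟩ | ⟨rfl, rfl⟩
        · -- 34=(0,0)
          exfalso; omega
        · -- 34=(1,1)
          refine ⟨(⟨![1, 3, 4, 0, 2], ![3, 0, 4, 1, 2], by decide, by decide⟩ : Equiv.Perm (Fin 5)), T.m 2, T.w 1, Or.inr (Or.inr (Or.inr (Or.inl ?_)))⟩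
          show T.m 1 = 2 * T.m 2 ∧ T.m 3 = 2 * T.m 2 ∧ T.m 4 = 2 * T.m 2 ∧ T.m 0 = 2 * T.m 2 ∧ T.m 2 = T.m 2 ∧ T.w 1 = T.w 1 ∧ T.w 3 = 2 * T.w 1 ∧ T.w 4 = 2 * T.w 1 ∧ T.w 0 = 2 * T.w 1 ∧ T.w 2 = 4 * T.w 1 ∧ T.a 1 1 = -2 * T.w 1 ∧ T.a 1 3 = 2 * T.w 1 ∧ T.a 1 4 = 0 ∧ T.a 1 0 = 0 ∧ T.a 1 2 = 0 ∧ T.a 3 3 = -4 * T.w 1 ∧ T.a 3 4 = 2 * T.w 1 ∧ T.a 3 0 = 0 ∧ T.a 3 2 = 0 ∧ T.a 4 4 = -4 * T.w 1 ∧ T.a 4 0 = 2 * T.w 1 ∧ T.a 4 2 = 0 ∧ T.a 0 0 = -4 * T.w 1 ∧ T.a 0 2 = 4 * T.w 1 ∧ T.a 2 2 = -8 * T.w 1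
          refine ⟨?_, ?_, ?_, ?_, ?_, ?_, ?_, ?_, ?_, ?_, ?_, ?_, ?_, ?_, ?_, ?_, ?_, ?_, ?_, ?_, ?_, ?_, ?_, ?_, ?_⟩ <;> omega
        · -- 34=(1,2)
          exact False.elim (cert_false T ((skipEmb 2).trans (Function.Embedding.refl _)) (by norm_num) (fun _ => hall _) (((((LB_zero T ((skipEmb 2).trans (Function.Embedding.refl _))).upd 1 2 2 (le_of_eq hx13)).upd 2 1 1 (le_of_eq hx31)).upd 2 3 1 (le_of_eq hx34)).upd 3 2 2 (le_of_eq hx43)) ![0,1,1,1] (by decide) (by decide) 1 (by decide))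
        · -- 34=(2,1)
          exact False.elim (cert_false T ((skipEmb 2).trans (Function.Embedding.refl _)) (by norm_num) (fun _ => hall _) (((((LB_zero T ((skipEmb 2).trans (Function.Embedding.refl _))).upd 1 2 2 (le_of_eq hx13)).upd 2 1 1 (le_of_eq hx31)).upd 2 3 2 (le_of_eq hx34)).upd 3 2 1 (le_of_eq hx43)) ![0,2,2,1] (by decide) (by decide) 1 (by decide))
        · -- 34=(1,3)
          exact False.elim (cert_false T ((skipEmb 2).trans (Function.Embedding.refl _)) (by norm_num) (fun _ => hall _) (((((LB_zero T ((skipEmb 2).trans (Function.Embedding.refl _))).upd 1 2 2 (le_of_eq hx13)).upd 2 1 1 (le_of_eq hx31)).upd 2 3 1 (le_of_eq hx34)).upd 3 2 3 (le_of_eq hx43)) ![0,1,1,1] (by decide) (by decide) 1 (by decide))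
        · -- 34=(3,1)
          exact False.elim (cert_false T ((skipEmb 2).trans (Function.Embedding.refl _)) (by norm_num) (fun _ => hall _) (((((LB_zero T ((skipEmb 2).trans (Function.Embedding.refl _))).upd 1 2 2 (le_of_eq hx13)).upd 2 1 1 (le_of_eq hx31)).upd 2 3 3 (le_of_eq hx34)).upd 3 2 1 (le_of_eq hx43)) ![0,1,2,1] (by decide) (by decide) 1 (by decide))
      · -- 24=(1,1)
        exact False.elim (cert_false T ((skipEmb 3).trans (Function.Embedding.refl _)) (by norm_num) (fun _ => hall _) (((((((LB_zero T ((skipEmb 3).trans (Function.Embedding.refl _))).upd 0 2 2 (le_of_eq hx02)).upd 0 3 1 (le_of_eq hx04)).upd 2 0 1 (le_of_eq hx20)).upd 2 3 1 (le_of_eq hx24)).upd 3 0 1 (le_of_eq hx40)).upd 3 2 1 (le_of_eq hx42)) ![1,0,1,1] (by decide) (by decide) 0 (by decide))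
      · -- 24=(1,2)
        exact False.elim (cert_false T ((skipEmb 3).trans (Function.Embedding.refl _)) (by norm_num) (fun _ => hall _) (((((((LB_zero T ((skipEmb 3).trans (Function.Embedding.refl _))).upd 0 2 2 (le_of_eq hx02)).upd 0 3 1 (le_of_eq hx04)).upd 2 0 1 (le_of_eq hx20)).upd 2 3 1 (le_of_eq hx24)).upd 3 0 1 (le_of_eq hx40)).upd 3 2 2 (le_of_eq hx42)) ![1,0,1,1] (by decide) (by decide) 0 (by decide))
      · -- 24=(2,1)
        exact False.elim (cert_false T ((skipEmb 3).trans (Function.Embedding.refl _)) (by norm_num) (fun _ => hall _) (((((((LB_zero T ((skipEmb 3).trans (Function.Embedding.refl _))).upd 0 2 2 (le_of_eq hx02)).upd 0 3 1 (le_of_eq hx04)).upd 2 0 1 (le_of_eq hx20)).upd 2 3 2 (le_of_eq hx24)).upd 3 0 1 (le_of_eq hx40)).upd 3 2 1 (le_of_eq hx42)) ![1,0,1,1] (by decide) (by decide) 0 (by decide))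
      · -- 24=(1,3)
        exact False.elim (cert_false T ((skipEmb 3).trans (Function.Embedding.refl _)) (by norm_num) (fun _ => hall _) (((((((LB_zero T ((skipEmb 3).trans (Function.Embedding.refl _))).upd 0 2 2 (le_of_eq hx02)).upd 0 3 1 (le_of_eq hx04)).upd 2 0 1 (le_of_eq hx20)).upd 2 3 1 (le_of_eq hx24)).upd 3 0 1 (le_of_eq hx40)).upd 3 2 3 (le_of_eq hx42)) ![1,0,1,1] (by decide) (by decide) 0 (by decide))
      · -- 24=(3,1)
        exact False.elim (cert_false T ((skipEmb 3).trans (Function.Embedding.refl _)) (by norm_num) (fun _ => hall _) (((((((LB_zero T ((skipEmb 3).trans (Function.Embedding.refl _))).upd 0 2 2 (le_of_eq hx02)).upd 0 3 1 (le_of_eq hx04)).upd 2 0 1 (le_of_eq hx20)).upd 2 3 3 (le_of_eq hx24)).upd 3 0 1 (le_of_eq hx40)).upd 3 2 1 (le_of_eq hx42)) ![1,0,1,1] (by decide) (by decide) 0 (by decide))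
    · -- 14=(1,1)
      rcases d24 with ⟨rfl, rfl⟩ | ⟨rfl, rfl⟩ | ⟨rfl, rfl⟩ | ⟨rfl, rfl⟩ | ⟨rfl, rfl⟩ | ⟨rfl, rfl⟩
      · -- 24=(0,0)
        rcases d34 with ⟨rfl, rfl⟩ | ⟨rfl, rfl⟩ | ⟨rfl, rfl⟩ | ⟨rfl, rfl⟩ | ⟨rfl, rfl⟩ | ⟨rfl, rfl⟩
        · -- 34=(0,0)
          refine ⟨(⟨![2, 0, 4, 1, 3], ![1, 3, 0, 4, 2], by decide, by decide⟩ : Equiv.Perm (Fin 5)), T.m 2, T.w 0, Or.inr (Or.inr (Or.inr (Or.inr (Or.inr (Or.inl ?_)))))⟩
          show T.m 2 = T.m 2 ∧ T.m 0 = 2 * T.m 2 ∧ T.m 4 = 2 * T.m 2 ∧ T.m 1 = 2 * T.m 2 ∧ T.m 3 = T.m 2 ∧ T.w 2 = 2 * T.w 0 ∧ T.w 0 = T.w 0 ∧ T.w 4 = T.w 0 ∧ T.w 1 = T.w 0 ∧ T.w 3 = 2 * T.w 0 ∧ T.a 2 2 = -4 * T.w 0 ∧ T.a 2 0 = 2 * T.w 0 ∧ T.a 2 4 = 0 ∧ T.a 2 1 = 0 ∧ T.a 2 3 = 0 ∧ T.a 0 0 = -2 * T.w 0 ∧ T.a 0 4 = T.w 0 ∧ T.a 0 1 = 0 ∧ T.a 0 3 = 0 ∧ T.a 4 4 = -2 * T.w 0 ∧ T.a 4 1 = T.w 0 ∧ T.a 4 3 = 0 ∧ T.a 1 1 = -2 * T.w 0 ∧ T.a 1 3 = 2 * T.w 0 ∧ T.a 3 3 = -4 * T.w 0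
          refine ⟨?_, ?_, ?_, ?_, ?_, ?_, ?_, ?_, ?_, ?_, ?_, ?_, ?_, ?_, ?_, ?_, ?_, ?_, ?_, ?_, ?_, ?_, ?_, ?_, ?_⟩ <;> omega
        · -- 34=(1,1)
          exact False.elim (cert_false T ((skipEmb 2).trans (Function.Embedding.refl _)) (by norm_num) (fun _ => hall _) (((((((LB_zero T ((skipEmb 2).trans (Function.Embedding.refl _))).upd 1 2 2 (le_of_eq hx13)).upd 1 3 1 (le_of_eq hx14)).upd 2 1 1 (le_of_eq hx31)).upd 2 3 1 (le_of_eq hx34)).upd 3 1 1 (le_of_eq hx41)).upd 3 2 1 (le_of_eq hx43)) ![0,1,1,1] (by decide) (by decide) 1 (by decide))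
        · -- 34=(1,2)
          exact False.elim (cert_false T ((skipEmb 2).trans (Function.Embedding.refl _)) (by norm_num) (fun _ => hall _) (((((((LB_zero T ((skipEmb 2).trans (Function.Embedding.refl _))).upd 1 2 2 (le_of_eq hx13)).upd 1 3 1 (le_of_eq hx14)).upd 2 1 1 (le_of_eq hx31)).upd 2 3 1 (le_of_eq hx34)).upd 3 1 1 (le_of_eq hx41)).upd 3 2 2 (le_of_eq hx43)) ![0,1,1,1] (by decide) (by decide) 1 (by decide))
        · -- 34=(2,1)
          exact False.elim (cert_false T ((skipEmb 2).trans (Function.Embedding.refl _)) (by norm_num) (fun _ => hall _) (((((((LB_zero T ((skipEmb 2).trans (Function.Embedding.refl _))).upd 1 2 2 (le_of_eq hx13)).upd 1 3 1 (le_of_eq hx14)).upd 2 1 1 (le_of_eq hx31)).upd 2 3 2 (le_of_eq hx34)).upd 3 1 1 (le_of_eq hx41)).upd 3 2 1 (le_of_eq hx43)) ![0,1,1,1] (by decide) (by decide) 1 (by decide))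
        · -- 34=(1,3)
          exact False.elim (cert_false T ((skipEmb 2).trans (Function.Embedding.refl _)) (by norm_num) (fun _ => hall _) (((((((LB_zero T ((skipEmb 2).trans (Function.Embedding.refl _))).upd 1 2 2 (le_of_eq hx13)).upd 1 3 1 (le_of_eq hx14)).upd 2 1 1 (le_of_eq hx31)).upd 2 3 1 (le_of_eq hx34)).upd 3 1 1 (le_of_eq hx41)).upd 3 2 3 (le_of_eq hx43)) ![0,1,1,1] (by decide) (by decide) 1 (by decide))
        · -- 34=(3,1)
          exact False.elim (cert_false T ((skipEmb 2).trans (Function.Embedding.refl _)) (by norm_num) (fun _ => hall _) (((((((LB_zero T ((skipEmb 2).trans (Function.Embedding.refl _))).upd 1 2 2 (le_of_eq hx13)).upd 1 3 1 (le_of_eq hx14)).upd 2 1 1 (le_of_eq hx31)).upd 2 3 3 (le_of_eq hx34)).upd 3 1 1 (le_of_eq hx41)).upd 3 2 1 (le_of_eq hx43)) ![0,1,1,1] (by decide) (by decide) 1 (by decide))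
      · -- 24=(1,1)
        exact False.elim (cert_false T ((skipEmb 3).trans (Function.Embedding.refl _)) (by norm_num) (fun _ => hall _) (((((((LB_zero T ((skipEmb 3).trans (Function.Embedding.refl _))).upd 0 2 2 (le_of_eq hx02)).upd 0 3 1 (le_of_eq hx04)).upd 2 0 1 (le_of_eq hx20)).upd 2 3 1 (le_of_eq hx24)).upd 3 0 1 (le_of_eq hx40)).upd 3 2 1 (le_of_eq hx42)) ![1,0,1,1] (by decide) (by decide) 0 (by decide))
      · -- 24=(1,2)
        exact False.elim (cert_false T ((skipEmb 3).trans (Function.Embedding.refl _)) (by norm_num) (fun _ => hall _) (((((((LB_zero T ((skipEmb 3).trans (Function.Embedding.refl _))).upd 0 2 2 (le_of_eq hx02)).upd 0 3 1 (le_of_eq hx04)).upd 2 0 1 (le_of_eq hx20)).upd 2 3 1 (le_of_eq hx24)).upd 3 0 1 (le_of_eq hx40)).upd 3 2 2 (le_of_eq hx42)) ![1,0,1,1] (by decide) (by decide) 0 (by decide))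
      · -- 24=(2,1)
        exact False.elim (cert_false T ((skipEmb 3).trans (Function.Embedding.refl _)) (by norm_num) (fun _ => hall _) (((((((LB_zero T ((skipEmb 3).trans (Function.Embedding.refl _))).upd 0 2 2 (le_of_eq hx02)).upd 0 3 1 (le_of_eq hx04)).upd 2 0 1 (le_of_eq hx20)).upd 2 3 2 (le_of_eq hx24)).upd 3 0 1 (le_of_eq hx40)).upd 3 2 1 (le_of_eq hx42)) ![1,0,1,1] (by decide) (by decide) 0 (by decide))
      · -- 24=(1,3)
        exact False.elim (cert_false T ((skipEmb 3).trans (Function.Embedding.refl _)) (by norm_num) (fun _ => hall _) (((((((LB_zero T ((skipEmb 3).trans (Function.Embedding.refl _))).upd 0 2 2 (le_of_eq hx02)).upd 0 3 1 (le_of_eq hx04)).upd 2 0 1 (le_of_eq hx20)).upd 2 3 1 (le_of_eq hx24)).upd 3 0 1 (le_of_eq hx40)).upd 3 2 3 (le_of_eq hx42)) ![1,0,1,1] (by decide) (by decide) 0 (by decide))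
      · -- 24=(3,1)
        exact False.elim (cert_false T ((skipEmb 3).trans (Function.Embedding.refl _)) (by norm_num) (fun _ => hall _) (((((((LB_zero T ((skipEmb 3).trans (Function.Embedding.refl _))).upd 0 2 2 (le_of_eq hx02)).upd 0 3 1 (le_of_eq hx04)).upd 2 0 1 (le_of_eq hx20)).upd 2 3 3 (le_of_eq hx24)).upd 3 0 1 (le_of_eq hx40)).upd 3 2 1 (le_of_eq hx42)) ![1,0,1,1] (by decide) (by decide) 0 (by decide))
    · -- 14=(1,2)
      exact False.elim (cert_false T ((skipEmb 3).trans (Function.Embedding.refl _)) (by norm_num) (fun _ => hall _) (((((((LB_zero T ((skipEmb 3).trans (Function.Embedding.refl _))).upd 0 2 2 (le_of_eq hx02)).upd 0 3 1 (le_of_eq hx04)).upd 1 3 1 (le_of_eq hx14)).upd 2 0 1 (le_of_eq hx20)).upd 3 0 1 (le_of_eq hx40)).upd 3 1 2 (le_of_eq hx41)) ![2,1,1,2] (by decide) (by decide) 0 (by decide))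
    · -- 14=(2,1)
      exact False.elim (cert_false T ((skipEmb 3).trans (Function.Embedding.refl _)) (by norm_num) (fun _ => hall _) (((((((LB_zero T ((skipEmb 3).trans (Function.Embedding.refl _))).upd 0 2 2 (le_of_eq hx02)).upd 0 3 1 (le_of_eq hx04)).upd 1 3 2 (le_of_eq hx14)).upd 2 0 1 (le_of_eq hx20)).upd 3 0 1 (le_of_eq hx40)).upd 3 1 1 (le_of_eq hx41)) ![2,2,1,2] (by decide) (by decide) 0 (by decide))
    · -- 14=(1,3)
      exact False.elim (cert_false T ((skipEmb 3).trans (Function.Embedding.refl _)) (by norm_num) (fun _ => hall _) (((((LB_zero T ((skipEmb 3).trans (Function.Embedding.refl _))).upd 0 3 1 (le_of_eq hx04)).upd 1 3 1 (le_of_eq hx14)).upd 3 0 1 (le_of_eq hx40)).upd 3 1 3 (le_of_eq hx41)) ![1,1,0,2] (by decide) (by decide) 0 (by decide))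
    · -- 14=(3,1)
      exact False.elim (cert_false T ((skipEmb 3).trans (Function.Embedding.refl _)) (by norm_num) (fun _ => hall _) (((((((LB_zero T ((skipEmb 3).trans (Function.Embedding.refl _))).upd 0 2 2 (le_of_eq hx02)).upd 0 3 1 (le_of_eq hx04)).upd 1 3 3 (le_of_eq hx14)).upd 2 0 1 (le_of_eq hx20)).upd 3 0 1 (le_of_eq hx40)).upd 3 1 1 (le_of_eq hx41)) ![2,2,1,2] (by decide) (by decide) 0 (by decide))
  · -- 04=(1,2)
    exact False.elim (cert_false T ((skipEmb 3).trans (Function.Embedding.refl _)) (by norm_num) (fun _ => hall _) (((((LB_zero T ((skipEmb 3).trans (Function.Embedding.refl _))).upd 0 2 2 (le_of_eq hx02)).upd 0 3 1 (le_of_eq hx04)).upd 2 0 1 (le_of_eq hx20)).upd 3 0 2 (le_of_eq hx40)) ![2,0,1,2] (by decide) (by decide) 0 (by decide))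
  · -- 04=(2,1)
    exact False.elim (cert_false T ((skipEmb 3).trans (Function.Embedding.refl _)) (by norm_num) (fun _ => hall _) (((((LB_zero T ((skipEmb 3).trans (Function.Embedding.refl _))).upd 0 2 2 (le_of_eq hx02)).upd 0 3 2 (le_of_eq hx04)).upd 2 0 1 (le_of_eq hx20)).upd 3 0 1 (le_of_eq hx40)) ![2,0,1,1] (by decide) (by decide) 0 (by decide))
  · -- 04=(1,3)
    exact False.elim (cert_false T ((skipEmb 3).trans (Function.Embedding.refl _)) (by norm_num) (fun _ => hall _) (((((LB_zero T ((skipEmb 3).trans (Function.Embedding.refl _))).upd 0 2 2 (le_of_eq hx02)).upd 0 3 1 (le_of_eq hx04)).upd 2 0 1 (le_of_eq hx20)).upd 3 0 3 (le_of_eq hx40)) ![2,0,1,2] (by decide) (by decide) 0 (by decide))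
  · -- 04=(3,1)
    exact False.elim (cert_false T ((skipEmb 3).trans (Function.Embedding.refl _)) (by norm_num) (fun _ => hall _) (((((LB_zero T ((skipEmb 3).trans (Function.Embedding.refl _))).upd 0 2 2 (le_of_eq hx02)).upd 0 3 3 (le_of_eq hx04)).upd 2 0 1 (le_of_eq hx20)).upd 3 0 1 (le_of_eq hx40)) ![2,0,1,1] (by decide) (by decide) 0 (by decide))

theorem case320 (T : NumericalType 5) (hall : ∀ i, T.IsMinusTwo i) (d : SData T)
    (h01 : N T (Function.Embedding.refl _) 0 1 = 0) (h10 : N T (Function.Embedding.refl _) 1 0 = 0)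
    (h02 : N T (Function.Embedding.refl _) 0 2 = 2) (h20 : N T (Function.Embedding.refl _) 2 0 = 1)
    (h12 : N T (Function.Embedding.refl _) 1 2 = 0) (h21 : N T (Function.Embedding.refl _) 2 1 = 0)
    (h03 : N T (Function.Embedding.refl _) 0 3 = 0) (h30 : N T (Function.Embedding.refl _) 3 0 = 0)
    (h13 : N T (Function.Embedding.refl _) 1 3 = 2) (h31 : N T (Function.Embedding.refl _) 3 1 = 1) :
    Goal T := by
  unfold Goal
  have hd := d
  obtain ⟨x01, x02, x03, x04, x10, x12, x13, x14, x20, x21, x23, x24, x30, x31, x32, x34, x40, x41, x42, x43, hx01, hx02, hx03, hx04, hx10, hx12, hx13, hx14, hx20, hx21, hx23, hx24, hx30, hx31, hx32, hx34, hx40, hx41, hx42, hx43, hw0, hm0, hw1, hm1, hw2, hm2, hw3, hm3, hw4, hm4, a00, a01, a02, a03, a04, a11, a10, a12, a13, a14, a22, a20, a21, a23, a24, a33, a30, a31, a32, a34, a44, a40, a41, a42, a43, wN01, wN02, wN12, wN03, wN13, wN23, wN04, wN14, wN24, wN34, e0, e1, e2, e3, e4, d01,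 d02, d12, d03, d13, d23, d04, d14, d24, d34⟩ := d
  obtain rfl : x01 = 0 := hx01.trans h01
  obtain rfl : x10 = 0 := hx10.trans h10
  obtain rfl : x02 = 2 := hx02.trans h02
  obtain rfl : x20 = 1 := hx20.trans h20
  obtain rfl : x12 = 0 := hx12.trans h12
  obtain rfl : x21 = 0 := hx21.trans h21
  obtain rfl : x03 = 0 := hx03.trans h03
  obtain rfl : x30 = 0 := hx30.trans h30
  obtain rfl : x13 = 2 := hx13.trans h13
  obtain rfl : x31 = 1 := hx31.trans h31
  rcases d23 with ⟨rfl, rfl⟩ | ⟨rfl, rfl⟩ | ⟨rfl, rfl⟩ | ⟨rfl, rfl⟩ | ⟨rfl, rfl⟩ | ⟨rfl, rfl⟩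
  · -- 23=(0,0)
    exact case321 T hall hd hx01.symm hx10.symm hx02.symm hx20.symm hx12.symm hx21.symm hx03.symm hx30.symm hx13.symm hx31.symm hx23.symm hx32.symm
  · -- 23=(1,1)
    exact False.elim (cert_false T ((skipEmb 4).trans (Function.Embedding.refl _)) (by norm_num) (fun _ => hall _) (((((((LB_zero T ((skipEmb 4).trans (Function.Embedding.refl _))).upd 0 2 2 (le_of_eq hx02)).upd 1 3 2 (le_of_eq hx13)).upd 2 0 1 (le_of_eq hx20)).upd 2 3 1 (le_of_eq hx23)).upd 3 1 1 (le_of_eq hx31)).upd 3 2 1 (le_of_eq hx32)) ![1,1,1,1] (by decide) (by decide) 0 (by decide))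
  · -- 23=(1,2)
    exact False.elim (cert_false T ((skipEmb 4).trans (Function.Embedding.refl _)) (by norm_num) (fun _ => hall _) (((((LB_zero T ((skipEmb 4).trans (Function.Embedding.refl _))).upd 0 2 2 (le_of_eq hx02)).upd 2 0 1 (le_of_eq hx20)).upd 2 3 1 (le_of_eq hx23)).upd 3 2 2 (le_of_eq hx32)) ![1,0,1,1] (by decide) (by decide) 0 (by decide))
  · -- 23=(2,1)
    exact False.elim (cert_false T ((skipEmb 4).trans (Function.Embedding.refl _)) (by norm_num) (fun _ => hall _) (((((LB_zero T ((skipEmb 4).trans (Function.Embedding.refl _))).upd 1 3 2 (le_of_eq hx13)).upd 2 3 2 (le_of_eq hx23)).upd 3 1 1 (le_of_eq hx31)).upd 3 2 1 (le_of_eq hx32)) ![0,1,1,1] (by decide) (by decide) 1 (by decide))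
  · -- 23=(1,3)
    exact False.elim (cert_false T ((skipEmb 4).trans (Function.Embedding.refl _)) (by norm_num) (fun _ => hall _) (((((LB_zero T ((skipEmb 4).trans (Function.Embedding.refl _))).upd 0 2 2 (le_of_eq hx02)).upd 2 0 1 (le_of_eq hx20)).upd 2 3 1 (le_of_eq hx23)).upd 3 2 3 (le_of_eq hx32)) ![1,0,1,1] (by decide) (by decide) 0 (by decide))
  · -- 23=(3,1)
    exact False.elim (cert_false T ((skipEmb 4).trans (Function.Embedding.refl _)) (by norm_num) (fun _ => hall _) (((((LB_zero T ((skipEmb 4).trans (Function.Embedding.refl _))).upd 1 3 2 (le_of_eq hx13)).upd 2 3 3 (le_of_eq hx23)).upd 3 1 1 (le_of_eq hx31)).upd 3 2 1 (le_of_eq hx32)) ![0,1,1,1] (by decide) (by decide) 1 (by decide))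

theorem case468 (T : NumericalType 5) (hall : ∀ i, T.IsMinusTwo i) (d : SData T)
    (h01 : N T (Function.Embedding.refl _) 0 1 = 1) (h10 : N T (Function.Embedding.refl _) 1 0 = 2)
    (h02 : N T (Function.Embedding.refl _) 0 2 = 1) (h20 : N T (Function.Embedding.refl _) 2 0 = 1)
    (h12 : N T (Function.Embedding.refl _) 1 2 = 0) (h21 : N T (Function.Embedding.refl _) 2 1 = 0)
    (h03 : N T (Function.Embedding.refl _) 0 3 = 0) (h30 : N T (Function.Embedding.refl _) 3 0 = 0)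
    (h13 : N T (Function.Embedding.refl _) 1 3 = 0) (h31 : N T (Function.Embedding.refl _) 3 1 = 0) :
    Goal T := by
  unfold Goal
  have hd := d
  obtain ⟨x01, x02, x03, x04, x10, x12, x13, x14, x20, x21, x23, x24, x30, x31, x32, x34, x40, x41, x42, x43, hx01, hx02, hx03, hx04, hx10, hx12, hx13, hx14, hx20, hx21, hx23, hx24, hx30, hx31, hx32, hx34, hx40, hx41, hx42, hx43, hw0, hm0, hw1, hm1, hw2, hm2, hw3, hm3, hw4, hm4, a00, a01, a02, a03, a04, a11, a10, a12, a13, a14, a22, a20, a21, a23, a24, a33, a30, a31, a32, a34, a44, a40, a41, a42, a43, wN01, wN02, wN12, wN03, wN13, wN23, wN04, wN14, wN24, wN34, e0, e1, e2, e3, e4, d01, d02, d12, d03, d13, d23, d04, d14, d24, d34⟩ := d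
  obtain rfl : x01 = 1 := hx01.trans h01
  obtain rfl : x10 = 2 := hx10.trans h10
  obtain rfl : x02 = 1 := hx02.trans h02
  obtain rfl : x20 = 1 := hx20.trans h20
  obtain rfl : x12 = 0 := hx12.trans h12
  obtain rfl : x21 = 0 := hx21.trans h21
  obtain rfl : x03 = 0 := hx03.trans h03
  obtain rfl : x30 = 0 := hx30.trans h30
  obtain rfl : x13 = 0 := hx13.trans h13
  obtain rfl : x31 = 0 := hx31.trans h31
  rcases d23 with ⟨rfl, rfl⟩ | ⟨rfl, rfl⟩ | ⟨rfl, rfl⟩ | ⟨rfl, rfl⟩ | ⟨rfl, rfl⟩ | ⟨rfl, rfl⟩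
  · -- 23=(0,0)
    rcases d04 with ⟨rfl, rfl⟩ | ⟨rfl, rfl⟩ | ⟨rfl, rfl⟩ | ⟨rfl, rfl⟩ | ⟨rfl, rfl⟩ | ⟨rfl, rfl⟩
    · -- 04=(0,0)
      rcases d14 with ⟨rfl, rfl⟩ | ⟨rfl, rfl⟩ | ⟨rfl, rfl⟩ | ⟨rfl, rfl⟩ | ⟨rfl, rfl⟩ | ⟨rfl, rfl⟩
      · -- 14=(0,0)
        rcases d24 with ⟨rfl, rfl⟩ | ⟨rfl, rfl⟩ | ⟨rfl, rfl⟩ | ⟨rfl, rfl⟩ | ⟨rfl, rfl⟩ | ⟨rfl, rfl⟩
        · -- 24=(0,0)
          rcases d34 with ⟨rfl, rfl⟩ | ⟨rfl, rfl⟩ | ⟨rfl, rfl⟩ | ⟨rfl, rfl⟩ | ⟨rfl, rfl⟩ | ⟨rfl, rfl⟩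
          · -- 34=(0,0)
            exfalso; omega
          · -- 34=(1,1)
            exfalso; omega
          · -- 34=(1,2)
            exfalso; omega
          · -- 34=(2,1)
            exfalso; omega
          · -- 34=(1,3)
            exfalso; omega
          · -- 34=(3,1)
            exfalso; omega
        · -- 24=(1,1)
          rcases d34 with ⟨rfl, rfl⟩ | ⟨rfl, rfl⟩ | ⟨rfl, rfl⟩ | ⟨rfl, rfl⟩ | ⟨rfl, rfl⟩ | ⟨rfl, rfl⟩
          · -- 34=(0,0)
            exfalso; omega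
          · -- 34=(1,1)
            exfalso; omega
          · -- 34=(1,2)
            refine ⟨(⟨![1, 0, 2, 4, 3], ![1, 0, 2, 4, 3], by decide, by decide⟩ : Equiv.Perm (Fin 5)), T.m 3, T.w 1, Or.inr (Or.inr (Or.inr (Or.inl ?_)))⟩
            show T.m 1 = 2 * T.m 3 ∧ T.m 0 = 2 * T.m 3 ∧ T.m 2 = 2 * T.m 3 ∧ T.m 4 = 2 * T.m 3 ∧ T.m 3 = T.m 3 ∧ T.w 1 = T.w 1 ∧ T.w 0 = 2 * T.w 1 ∧ T.w 2 = 2 * T.w 1 ∧ T.w 4 = 2 * T.w 1 ∧ T.w 3 = 4 * T.w 1 ∧ T.a 1 1 = -2 * T.w 1 ∧ T.a 1 0 = 2 * T.w 1 ∧ T.a 1 2 = 0 ∧ T.a 1 4 = 0 ∧ T.a 1 3 = 0 ∧ T.a 0 0 = -4 * T.w 1 ∧ T.a 0 2 = 2 * T.w 1 ∧ T.a 0 4 = 0 ∧ T.a 0 3 = 0 ∧ T.a 2 2 = -4 * T.w 1 ∧ T.a 2 4 = 2 * T.w 1 ∧ T.a 2 3 = 0 ∧ T.a 4 4 = -4 * T.w 1 ∧ T.a 4 3 = 4 * T.w 1 ∧ T.a 3 3 = -8 * T.w 1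
            refine ⟨?_, ?_, ?_, ?_, ?_, ?_, ?_, ?_, ?_, ?_, ?_, ?_, ?_, ?_, ?_, ?_, ?_, ?_, ?_, ?_, ?_, ?_, ?_, ?_, ?_⟩ <;> omega
          · -- 34=(2,1)
            refine ⟨(⟨![1, 0, 2, 4, 3], ![1, 0, 2, 4, 3], by decide, by decide⟩ : Equiv.Perm (Fin 5)), T.m 1, T.w 1, Or.inr (Or.inr (Or.inr (Or.inr (Or.inl ?_))))⟩
            show T.m 1 = T.m 1 ∧ T.m 0 = T.m 1 ∧ T.m 2 = T.m 1 ∧ T.m 4 = T.m 1 ∧ T.m 3 = T.m 1 ∧ T.w 1 = T.w 1 ∧ T.w 0 = 2 * T.w 1 ∧ T.w 2 = 2 * T.w 1 ∧ T.w 4 = 2 * T.w 1 ∧ T.w 3 = T.w 1 ∧ T.a 1 1 = -2 * T.w 1 ∧ T.a 1 0 = 2 * T.w 1 ∧ T.a 1 2 = 0 ∧ T.a 1 4 = 0 ∧ T.a 1 3 = 0 ∧ T.a 0 0 = -4 * T.w 1 ∧ T.a 0 2 = 2 * T.w 1 ∧ T.a 0 4 = 0 ∧ T.a 0 3 = 0 ∧ T.a 2 2 = -4 * T.w 1 ∧ T.a 2 4 = 2 * T.w 1 ∧ T.a 2 3 = 0 ∧ T.a 4 4 = -4 * T.w 1 ∧ T.a 4 3 = 2 * T.w 1 ∧ T.a 3 3 = -2 * T.w 1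
            refine ⟨?_, ?_, ?_, ?_, ?_, ?_, ?_, ?_, ?_, ?_, ?_, ?_, ?_, ?_, ?_, ?_, ?_, ?_, ?_, ?_, ?_, ?_, ?_, ?_, ?_⟩ <;> omega
          · -- 34=(1,3)
            exact False.elim (cert_false T ((skipEmb 1).trans (Function.Embedding.refl _)) (by norm_num) (fun _ => hall _) (((((LB_zero T ((skipEmb 1).trans (Function.Embedding.refl _))).upd 1 3 1 (le_of_eq hx24)).upd 2 3 1 (le_of_eq hx34)).upd 3 1 1 (le_of_eq hx42)).upd 3 2 3 (le_of_eq hx43)) ![0,1,1,2] (by decide) (by decide) 1 (by decide))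
          · -- 34=(3,1)
            exact False.elim (cert_false T ((skipEmb 1).trans (Function.Embedding.refl _)) (by norm_num) (fun _ => hall _) (((((LB_zero T ((skipEmb 1).trans (Function.Embedding.refl _))).upd 1 3 1 (le_of_eq hx24)).upd 2 3 3 (le_of_eq hx34)).upd 3 1 1 (le_of_eq hx42)).upd 3 2 1 (le_of_eq hx43)) ![0,1,3,2] (by decide) (by decide) 1 (by decide))
        · -- 24=(1,2)
          exact False.elim (cert_false T ((skipEmb 3).trans (Function.Embedding.refl _)) (by norm_num) (fun _ => hall _) (((((((LB_zero T ((skipEmb 3).trans (Function.Embedding.refl _))).upd 0 1 1 (le_of_eq hx01)).upd 0 2 1 (le_of_eq hx02)).upd 1 0 2 (le_of_eq hx10)).upd 2 0 1 (le_of_eq hx20)).upd 2 3 1 (le_of_eq hx24)).upd 3 2 2 (le_of_eq hx42)) ![1,1,1,1] (by decide) (by decide) 0 (by decide))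
        · -- 24=(2,1)
          exact False.elim (cert_false T ((skipEmb 3).trans (Function.Embedding.refl _)) (by norm_num) (fun _ => hall _) (((((((LB_zero T ((skipEmb 3).trans (Function.Embedding.refl _))).upd 0 1 1 (le_of_eq hx01)).upd 0 2 1 (le_of_eq hx02)).upd 1 0 2 (le_of_eq hx10)).upd 2 0 1 (le_of_eq hx20)).upd 2 3 2 (le_of_eq hx24)).upd 3 2 1 (le_of_eq hx42)) ![2,2,2,1] (by decide) (by decide) 0 (by decide))
        · -- 24=(1,3)
          exact False.elim (cert_false T ((skipEmb 3).trans (Function.Embedding.refl _)) (by norm_num) (fun _ => hall _) (((((((LB_zero T ((skipEmb 3).trans (Function.Embedding.refl _))).upd 0 1 1 (le_of_eq hx01)).upd 0 2 1 (le_of_eq hx02)).upd 1 0 2 (le_of_eq hx10)).upd 2 0 1 (le_of_eq hx20)).upd 2 3 1 (le_of_eq hx24)).upd 3 2 3 (le_of_eq hx42)) ![1,1,1,1] (by decide) (by decide) 0 (by decide))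
        · -- 24=(3,1)
          exact False.elim (cert_false T ((skipEmb 3).trans (Function.Embedding.refl _)) (by norm_num) (fun _ => hall _) (((((LB_zero T ((skipEmb 3).trans (Function.Embedding.refl _))).upd 0 2 1 (le_of_eq hx02)).upd 2 0 1 (le_of_eq hx20)).upd 2 3 3 (le_of_eq hx24)).upd 3 2 1 (le_of_eq hx42)) ![1,0,2,1] (by decide) (by decide) 0 (by decide))
      · -- 14=(1,1)
        rcases d24 with ⟨rfl, rfl⟩ | ⟨rfl, rfl⟩ | ⟨rfl, rfl⟩ | ⟨rfl, rfl⟩ | ⟨rfl, rfl⟩ | ⟨rfl, rfl⟩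
        · -- 24=(0,0)
          rcases d34 with ⟨rfl, rfl⟩ | ⟨rfl, rfl⟩ | ⟨rfl, rfl⟩ | ⟨rfl, rfl⟩ | ⟨rfl, rfl⟩ | ⟨rfl, rfl⟩
          · -- 34=(0,0)
            exfalso; omega
          · -- 34=(1,1)
            refine ⟨(⟨![3, 4, 1, 0, 2], ![3, 2, 4, 0, 1], by decide, by decide⟩ : Equiv.Perm (Fin 5)), T.m 3, T.w 3, Or.inr (Or.inl ?_)⟩
            show T.m 3 = T.m 3 ∧ T.m 4 = 2 * T.m 3 ∧ T.m 1 = 3 * T.m 3 ∧ T.m 0 = 2 * T.m 3 ∧ T.m 2 = T.m 3 ∧ T.w 3 = T.w 3 ∧ T.w 4 = T.w 3 ∧ T.w 1 = T.w 3 ∧ T.w 0 = 2 * T.w 3 ∧ T.w 2 = 2 * T.w 3 ∧ T.a 3 3 = -2 * T.w 3 ∧ T.a 3 4 = T.w 3 ∧ T.a 3 1 = 0 ∧ T.a 3 0 = 0 ∧ T.a 3 2 = 0 ∧ T.a 4 4 = -2 * T.w 3 ∧ T.a 4 1 = T.w 3 ∧ T.a 4 0 = 0 ∧ T.a 4 2 = 0 ∧ T.a 1 1 = -2 * T.w 3 ∧ T.a 1 0 = 2 * T.w 3 ∧ T.a 1 2 = 0 ∧ T.a 0 0 = -4 * T.w 3 ∧ T.a 0 2 = 2 * T.w 3 ∧ T.a 2 2 = -4 * T.w 3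
            refine ⟨?_, ?_, ?_, ?_, ?_, ?_, ?_, ?_, ?_, ?_, ?_, ?_, ?_, ?_, ?_, ?_, ?_, ?_, ?_, ?_, ?_, ?_, ?_, ?_, ?_⟩ <;> omega
          · -- 34=(1,2)
            exact False.elim (cert_false T ((skipEmb 2).trans (Function.Embedding.refl _)) (by norm_num) (fun _ => hall _) (((((((LB_zero T ((skipEmb 2).trans (Function.Embedding.refl _))).upd 0 1 1 (le_of_eq hx01)).upd 1 0 2 (le_of_eq hx10)).upd 1 3 1 (le_of_eq hx14)).upd 2 3 1 (le_of_eq hx34)).upd 3 1 1 (le_of_eq hx41)).upd 3 2 2 (le_of_eq hx43)) ![1,2,1,2] (by decide) (by decide) 0 (by decide))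
          · -- 34=(2,1)
            exact False.elim (cert_false T ((skipEmb 2).trans (Function.Embedding.refl _)) (by norm_num) (fun _ => hall _) (((((((LB_zero T ((skipEmb 2).trans (Function.Embedding.refl _))).upd 0 1 1 (le_of_eq hx01)).upd 1 0 2 (le_of_eq hx10)).upd 1 3 1 (le_of_eq hx14)).upd 2 3 2 (le_of_eq hx34)).upd 3 1 1 (le_of_eq hx41)).upd 3 2 1 (le_of_eq hx43)) ![1,2,2,2] (by decide) (by decide) 0 (by decide))
          · -- 34=(1,3)
            exact False.elim (cert_false T ((skipEmb 2).trans (Function.Embedding.refl _)) (by norm_num) (fun _ => hall _) (((((LB_zero T ((skipEmb 2).trans (Function.Embedding.refl _))).upd 1 3 1 (le_of_eq hx14)).upd 2 3 1 (le_of_eq hx34)).upd 3 1 1 (le_of_eq hx41)).upd 3 2 3 (le_of_eq hx43)) ![0,1,1,2] (by decide) (by decide) 1 (by decide))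
          · -- 34=(3,1)
            exact False.elim (cert_false T ((skipEmb 2).trans (Function.Embedding.refl _)) (by norm_num) (fun _ => hall _) (((((((LB_zero T ((skipEmb 2).trans (Function.Embedding.refl _))).upd 0 1 1 (le_of_eq hx01)).upd 1 0 2 (le_of_eq hx10)).upd 1 3 1 (le_of_eq hx14)).upd 2 3 3 (le_of_eq hx34)).upd 3 1 1 (le_of_eq hx41)).upd 3 2 1 (le_of_eq hx43)) ![1,2,2,2] (by decide) (by decide) 0 (by decide))
        · -- 24=(1,1)
          exact False.elim (cert_false T ((skipEmb 3).trans (Function.Embedding.refl _)) (by norm_num) (fun _ => hall _) (((((((((LB_zero T ((skipEmb 3).trans (Function.Embedding.refl _))).upd 0 1 1 (le_of_eq hx01)).upd 0 2 1 (le_of_eq hx02)).upd 1 0 2 (le_of_eq hx10)).upd 1 3 1 (le_of_eq hx14)).upd 2 0 1 (le_of_eq hx20)).upd 2 3 1 (le_of_eq hx24)).upd 3 1 1 (le_of_eq hx41)).upd 3 2 1 (le_of_eq hx42)) ![1,1,1,1] (by decide) (by decide) 0 (by decide))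
        · -- 24=(1,2)
          exact False.elim (cert_false T ((skipEmb 3).trans (Function.Embedding.refl _)) (by norm_num) (fun _ => hall _) (((((((((LB_zero T ((skipEmb 3).trans (Function.Embedding.refl _))).upd 0 1 1 (le_of_eq hx01)).upd 0 2 1 (le_of_eq hx02)).upd 1 0 2 (le_of_eq hx10)).upd 1 3 1 (le_of_eq hx14)).upd 2 0 1 (le_of_eq hx20)).upd 2 3 1 (le_of_eq hx24)).upd 3 1 1 (le_of_eq hx41)).upd 3 2 2 (le_of_eq hx42)) ![1,1,1,1] (by decide) (by decide) 0 (by decide))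
        · -- 24=(2,1)
          exact False.elim (cert_false T ((skipEmb 3).trans (Function.Embedding.refl _)) (by norm_num) (fun _ => hall _) (((((((((LB_zero T ((skipEmb 3).trans (Function.Embedding.refl _))).upd 0 1 1 (le_of_eq hx01)).upd 0 2 1 (le_of_eq hx02)).upd 1 0 2 (le_of_eq hx10)).upd 1 3 1 (le_of_eq hx14)).upd 2 0 1 (le_of_eq hx20)).upd 2 3 2 (le_of_eq hx24)).upd 3 1 1 (le_of_eq hx41)).upd 3 2 1 (le_of_eq hx42)) ![1,1,1,1] (by decide) (by decide) 0 (by decide))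
        · -- 24=(1,3)
          exact False.elim (cert_false T ((skipEmb 3).trans (Function.Embedding.refl _)) (by norm_num) (fun _ => hall _) (((((((((LB_zero T ((skipEmb 3).trans (Function.Embedding.refl _))).upd 0 1 1 (le_of_eq hx01)).upd 0 2 1 (le_of_eq hx02)).upd 1 0 2 (le_of_eq hx10)).upd 1 3 1 (le_of_eq hx14)).upd 2 0 1 (le_of_eq hx20)).upd 2 3 1 (le_of_eq hx24)).upd 3 1 1 (le_of_eq hx41)).upd 3 2 3 (le_of_eq hx42)) ![1,1,1,1] (by decide) (by decide) 0 (by decide))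
        · -- 24=(3,1)
          exact False.elim (cert_false T ((skipEmb 3).trans (Function.Embedding.refl _)) (by norm_num) (fun _ => hall _) (((((((((LB_zero T ((skipEmb 3).trans (Function.Embedding.refl _))).upd 0 1 1 (le_of_eq hx01)).upd 0 2 1 (le_of_eq hx02)).upd 1 0 2 (le_of_eq hx10)).upd 1 3 1 (le_of_eq hx14)).upd 2 0 1 (le_of_eq hx20)).upd 2 3 3 (le_of_eq hx24)).upd 3 1 1 (le_of_eq hx41)).upd 3 2 1 (le_of_eq hx42)) ![1,1,1,1] (by decide) (by decide) 0 (by decide))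
      · -- 14=(1,2)
        exact False.elim (cert_false T ((skipEmb 3).trans (Function.Embedding.refl _)) (by norm_num) (fun _ => hall _) (((((LB_zero T ((skipEmb 3).trans (Function.Embedding.refl _))).upd 0 1 1 (le_of_eq hx01)).upd 1 0 2 (le_of_eq hx10)).upd 1 3 1 (le_of_eq hx14)).upd 3 1 2 (le_of_eq hx41)) ![1,2,0,2] (by decide) (by decide) 0 (by decide))
      · -- 14=(2,1)
        exact False.elim (cert_false T ((skipEmb 3).trans (Function.Embedding.refl _)) (by norm_num) (fun _ => hall _) (((((LB_zero T ((skipEmb 3).trans (Function.Embedding.refl _))).upd 0 1 1 (le_of_eq hx01)).upd 1 0 2 (le_of_eq hx10)).upd 1 3 2 (le_of_eq hx14)).upd 3 1 1 (le_of_eq hx41)) ![1,2,0,1] (by decide) (by decide) 0 (by decide))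
      · -- 14=(1,3)
        exact False.elim (cert_false T ((skipEmb 3).trans (Function.Embedding.refl _)) (by norm_num) (fun _ => hall _) (((((LB_zero T ((skipEmb 3).trans (Function.Embedding.refl _))).upd 0 1 1 (le_of_eq hx01)).upd 1 0 2 (le_of_eq hx10)).upd 1 3 1 (le_of_eq hx14)).upd 3 1 3 (le_of_eq hx41)) ![1,2,0,2] (by decide) (by decide) 0 (by decide))
      · -- 14=(3,1)
        exact False.elim (cert_false T ((skipEmb 3).trans (Function.Embedding.refl _)) (by norm_num) (fun _ => hall _) (((((LB_zero T ((skipEmb 3).trans (Function.Embedding.refl _))).upd 0 1 1 (le_of_eq hx01)).upd 1 0 2 (le_of_eq hx10)).upd 1 3 3 (le_of_eq hx14)).upd 3 1 1 (le_of_eq hx41)) ![1,2,0,1] (by decide) (by decide) 0 (by decide))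
    · -- 04=(1,1)
      exact False.elim (cert_false T ((skipEmb 3).trans (Function.Embedding.refl _)) (by norm_num) (fun _ => hall _) (((((((LB_zero T ((skipEmb 3).trans (Function.Embedding.refl _))).upd 0 1 1 (le_of_eq hx01)).upd 0 2 1 (le_of_eq hx02)).upd 0 3 1 (le_of_eq hx04)).upd 1 0 2 (le_of_eq hx10)).upd 2 0 1 (le_of_eq hx20)).upd 3 0 1 (le_of_eq hx40)) ![2,2,1,1] (by decide) (by decide) 0 (by decide))
    · -- 04=(1,2)
      exact False.elim (cert_false T ((skipEmb 3).trans (Function.Embedding.refl _)) (by norm_num) (fun _ => hall _) (((((LB_zero T ((skipEmb 3).trans (Function.Embedding.refl _))).upd 0 1 1 (le_of_eq hx01)).upd 0 3 1 (le_of_eq hx04)).upd 1 0 2 (le_of_eq hx10)).upd 3 0 2 (le_of_eq hx40)) ![1,1,0,1] (by decide) (by decide) 0 (by decide))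
    · -- 04=(2,1)
      exact False.elim (cert_false T ((skipEmb 3).trans (Function.Embedding.refl _)) (by norm_num) (fun _ => hall _) (((((((LB_zero T ((skipEmb 3).trans (Function.Embedding.refl _))).upd 0 1 1 (le_of_eq hx01)).upd 0 2 1 (le_of_eq hx02)).upd 0 3 2 (le_of_eq hx04)).upd 1 0 2 (le_of_eq hx10)).upd 2 0 1 (le_of_eq hx20)).upd 3 0 1 (le_of_eq hx40)) ![2,1,1,1] (by decide) (by decide) 0 (by decide))
    · -- 04=(1,3)
      exact False.elim (cert_false T ((skipEmb 3).trans (Function.Embedding.refl _)) (by norm_num) (fun _ => hall _) (((((LB_zero T ((skipEmb 3).trans (Function.Embedding.refl _))).upd 0 1 1 (le_of_eq hx01)).upd 0 3 1 (le_of_eq hx04)).upd 1 0 2 (le_of_eq hx10)).upd 3 0 3 (le_of_eq hx40)) ![1,1,0,1] (by decide) (by decide) 0 (by decide))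
    · -- 04=(3,1)
      exact False.elim (cert_false T ((skipEmb 3).trans (Function.Embedding.refl _)) (by norm_num) (fun _ => hall _) (((((LB_zero T ((skipEmb 3).trans (Function.Embedding.refl _))).upd 0 2 1 (le_of_eq hx02)).upd 0 3 3 (le_of_eq hx04)).upd 2 0 1 (le_of_eq hx20)).upd 3 0 1 (le_of_eq hx40)) ![2,0,1,1] (by decide) (by decide) 0 (by decide))
  · -- 23=(1,1)
    rcases d04 with ⟨rfl, rfl⟩ | ⟨rfl, rfl⟩ | ⟨rfl, rfl⟩ | ⟨rfl, rfl⟩ | ⟨rfl, rfl⟩ | ⟨rfl, rfl⟩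
    · -- 04=(0,0)
      rcases d14 with ⟨rfl, rfl⟩ | ⟨rfl, rfl⟩ | ⟨rfl, rfl⟩ | ⟨rfl, rfl⟩ | ⟨rfl, rfl⟩ | ⟨rfl, rfl⟩
      · -- 14=(0,0)
        rcases d24 with ⟨rfl, rfl⟩ | ⟨rfl, rfl⟩ | ⟨rfl, rfl⟩ | ⟨rfl, rfl⟩ | ⟨rfl, rfl⟩ | ⟨rfl, rfl⟩
        · -- 24=(0,0)
          rcases d34 with ⟨rfl, rfl⟩ | ⟨rfl, rfl⟩ | ⟨rfl, rfl⟩ | ⟨rfl, rfl⟩ | ⟨rfl, rfl⟩ | ⟨rfl, rfl⟩
          · -- 34=(0,0)
            exfalso; omega
          · -- 34=(1,1)
            exfalso; omega
          · -- 34=(1,2)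
            refine ⟨(⟨![1, 0, 2, 3, 4], ![1, 0, 2, 3, 4], by decide, by decide⟩ : Equiv.Perm (Fin 5)), T.m 1, T.w 1, Or.inr (Or.inr (Or.inr (Or.inr (Or.inl ?_))))⟩
            show T.m 1 = T.m 1 ∧ T.m 0 = T.m 1 ∧ T.m 2 = T.m 1 ∧ T.m 3 = T.m 1 ∧ T.m 4 = T.m 1 ∧ T.w 1 = T.w 1 ∧ T.w 0 = 2 * T.w 1 ∧ T.w 2 = 2 * T.w 1 ∧ T.w 3 = 2 * T.w 1 ∧ T.w 4 = T.w 1 ∧ T.a 1 1 = -2 * T.w 1 ∧ T.a 1 0 = 2 * T.w 1 ∧ T.a 1 2 = 0 ∧ T.a 1 3 = 0 ∧ T.a 1 4 = 0 ∧ T.a 0 0 = -4 * T.w 1 ∧ T.a 0 2 = 2 * T.w 1 ∧ T.a 0 3 = 0 ∧ T.a 0 4 = 0 ∧ T.a 2 2 = -4 * T.w 1 ∧ T.a 2 3 = 2 * T.w 1 ∧ T.a 2 4 = 0 ∧ T.a 3 3 = -4 * T.w 1 ∧ T.a 3 4 = 2 * T.w 1 ∧ T.a 4 4 = -2 * T.w 1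
            refine ⟨?_, ?_, ?_, ?_, ?_, ?_, ?_, ?_, ?_, ?_, ?_, ?_, ?_, ?_, ?_, ?_, ?_, ?_, ?_, ?_, ?_, ?_, ?_, ?_, ?_⟩ <;> omega
          · -- 34=(2,1)
            refine ⟨(⟨![1, 0, 2, 3, 4], ![1, 0, 2, 3, 4], by decide, by decide⟩ : Equiv.Perm (Fin 5)), T.m 4, T.w 1, Or.inr (Or.inr (Or.inr (Or.inl ?_)))⟩
            show T.m 1 = 2 * T.m 4 ∧ T.m 0 = 2 * T.m 4 ∧ T.m 2 = 2 * T.m 4 ∧ T.m 3 = 2 * T.m 4 ∧ T.m 4 = T.m 4 ∧ T.w 1 = T.w 1 ∧ T.w 0 = 2 * T.w 1 ∧ T.w 2 = 2 * T.w 1 ∧ T.w 3 = 2 * T.w 1 ∧ T.w 4 = 4 * T.w 1 ∧ T.a 1 1 = -2 * T.w 1 ∧ T.a 1 0 = 2 * T.w 1 ∧ T.a 1 2 = 0 ∧ T.a 1 3 = 0 ∧ T.a 1 4 = 0 ∧ T.a 0 0 = -4 * T.w 1 ∧ T.a 0 2 = 2 * T.w 1 ∧ T.a 0 3 = 0 ∧ T.a 0 4 = 0 ∧ T.a 2 2 = -4 * T.w 1 ∧ T.a 2 3 = 2 * T.w 1 ∧ T.a 2 4 = 0 ∧ T.a 3 3 = -4 * T.w 1 ∧ T.a 3 4 = 4 * T.w 1 ∧ T.a 4 4 = -8 * T.w 1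
            refine ⟨?_, ?_, ?_, ?_, ?_, ?_, ?_, ?_, ?_, ?_, ?_, ?_, ?_, ?_, ?_, ?_, ?_, ?_, ?_, ?_, ?_, ?_, ?_, ?_, ?_⟩ <;> omega
          · -- 34=(1,3)
            exact False.elim (cert_false T ((skipEmb 1).trans (Function.Embedding.refl _)) (by norm_num) (fun _ => hall _) (((((LB_zero T ((skipEmb 1).trans (Function.Embedding.refl _))).upd 1 2 1 (le_of_eq hx23)).upd 2 1 1 (le_of_eq hx32)).upd 2 3 1 (le_of_eq hx34)).upd 3 2 3 (le_of_eq hx43)) ![0,1,2,3] (by decide) (by decide) 1 (by decide))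
          · -- 34=(3,1)
            exact False.elim (cert_false T ((skipEmb 1).trans (Function.Embedding.refl _)) (by norm_num) (fun _ => hall _) (((((LB_zero T ((skipEmb 1).trans (Function.Embedding.refl _))).upd 1 2 1 (le_of_eq hx23)).upd 2 1 1 (le_of_eq hx32)).upd 2 3 3 (le_of_eq hx34)).upd 3 2 1 (le_of_eq hx43)) ![0,1,2,1] (by decide) (by decide) 1 (by decide))
        · -- 24=(1,1)
          rcases d34 with ⟨rfl, rfl⟩ | ⟨rfl, rfl⟩ | ⟨rfl, rfl⟩ | ⟨rfl, rfl⟩ | ⟨rfl, rfl⟩ | ⟨rfl, rfl⟩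
          · -- 34=(0,0)
            refine ⟨(⟨![1, 0, 2, 3, 4], ![1, 0, 2, 3, 4], by decide, by decide⟩ : Equiv.Perm (Fin 5)), T.m 3, T.w 1, Or.inr (Or.inr (Or.inr (Or.inr (Or.inr (Or.inr (Or.inr (Or.inr (?_))))))))⟩
            show T.m 1 = 2 * T.m 3 ∧ T.m 0 = 2 * T.m 3 ∧ T.m 2 = 2 * T.m 3 ∧ T.m 3 = T.m 3 ∧ T.m 4 = T.m 3 ∧ T.w 1 = T.w 1 ∧ T.w 0 = 2 * T.w 1 ∧ T.w 2 = 2 * T.w 1 ∧ T.w 3 = 2 * T.w 1 ∧ T.w 4 = 2 * T.w 1 ∧ T.a 1 1 = -2 * T.w 1 ∧ T.a 1 0 = 2 * T.w 1 ∧ T.a 1 2 = 0 ∧ T.a 1 3 = 0 ∧ T.a 1 4 = 0 ∧ T.a 0 0 = -4 * T.w 1 ∧ T.a 0 2 = 2 * T.w 1 ∧ T.a 0 3 = 0 ∧ T.a 0 4 = 0 ∧ T.a 2 2 = -4 * T.w 1 ∧ T.a 2 3 = 2 * T.w 1 ∧ T.a 2 4 = 2 * T.w 1 ∧ T.a 3 3 = -4 * T.w 1 ∧ T.a 3 4 = 0 ∧ T.a 4 4 = -4 * T.w 1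
            refine ⟨?_, ?_, ?_, ?_, ?_, ?_, ?_, ?_, ?_, ?_, ?_, ?_, ?_, ?_, ?_, ?_, ?_, ?_, ?_, ?_, ?_, ?_, ?_, ?_, ?_⟩ <;> omega
          · -- 34=(1,1)
            exact False.elim (cert_false T ((skipEmb 1).trans (Function.Embedding.refl _)) (by norm_num) (fun _ => hall _) (((((((LB_zero T ((skipEmb 1).trans (Function.Embedding.refl _))).upd 1 2 1 (le_of_eq hx23)).upd 1 3 1 (le_of_eq hx24)).upd 2 1 1 (le_of_eq hx32)).upd 2 3 1 (le_of_eq hx34)).upd 3 1 1 (le_of_eq hx42)).upd 3 2 1 (le_of_eq hx43)) ![0,1,1,1] (by decide) (by decide) 1 (by decide))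
          · -- 34=(1,2)
            exact False.elim (cert_false T ((skipEmb 1).trans (Function.Embedding.refl _)) (by norm_num) (fun _ => hall _) (((((((LB_zero T ((skipEmb 1).trans (Function.Embedding.refl _))).upd 1 2 1 (le_of_eq hx23)).upd 1 3 1 (le_of_eq hx24)).upd 2 1 1 (le_of_eq hx32)).upd 2 3 1 (le_of_eq hx34)).upd 3 1 1 (le_of_eq hx42)).upd 3 2 2 (le_of_eq hx43)) ![0,1,1,1] (by decide) (by decide) 1 (by decide))
          · -- 34=(2,1)
            exact False.elim (cert_false T ((skipEmb 1).trans (Function.Embedding.refl _)) (by norm_num) (fun _ => hall _) (((((((LB_zero T ((skipEmb 1).trans (Function.Embedding.refl _))).upd 1 2 1 (le_of_eq hx23)).upd 1 3 1 (le_of_eq hx24)).upd 2 1 1 (le_of_eq hx32)).upd 2 3 2 (le_of_eq hx34)).upd 3 1 1 (le_of_eq hx42)).upd 3 2 1 (le_of_eq hx43)) ![0,1,1,1] (by decide) (by decide) 1 (by decide))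
          · -- 34=(1,3)
            exact False.elim (cert_false T ((skipEmb 1).trans (Function.Embedding.refl _)) (by norm_num) (fun _ => hall _) (((((((LB_zero T ((skipEmb 1).trans (Function.Embedding.refl _))).upd 1 2 1 (le_of_eq hx23)).upd 1 3 1 (le_of_eq hx24)).upd 2 1 1 (le_of_eq hx32)).upd 2 3 1 (le_of_eq hx34)).upd 3 1 1 (le_of_eq hx42)).upd 3 2 3 (le_of_eq hx43)) ![0,1,1,1] (by decide) (by decide) 1 (by decide))
          · -- 34=(3,1)
            exact False.elim (cert_false T ((skipEmb 1).trans (Function.Embedding.refl _)) (by norm_num) (fun _ => hall _) (((((((LB_zero T ((skipEmb 1).trans (Function.Embedding.refl _))).upd 1 2 1 (le_of_eq hx23)).upd 1 3 1 (le_of_eq hx24)).upd 2 1 1 (le_of_eq hx32)).upd 2 3 3 (le_of_eq hx34)).upd 3 1 1 (le_of_eq hx42)).upd 3 2 1 (le_of_eq hx43)) ![0,1,1,1] (by decide) (by decide) 1 (by decide))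
        · -- 24=(1,2)
          exact False.elim (cert_false T ((skipEmb 3).trans (Function.Embedding.refl _)) (by norm_num) (fun _ => hall _) (((((((LB_zero T ((skipEmb 3).trans (Function.Embedding.refl _))).upd 0 1 1 (le_of_eq hx01)).upd 0 2 1 (le_of_eq hx02)).upd 1 0 2 (le_of_eq hx10)).upd 2 0 1 (le_of_eq hx20)).upd 2 3 1 (le_of_eq hx24)).upd 3 2 2 (le_of_eq hx42)) ![1,1,1,1] (by decide) (by decide) 0 (by decide))
        · -- 24=(2,1)
          exact False.elim (cert_false T ((skipEmb 3).trans (Function.Embedding.refl _)) (by norm_num) (fun _ => hall _) (((((((LB_zero T ((skipEmb 3).trans (Function.Embedding.refl _))).upd 0 1 1 (le_of_eq hx01)).upd 0 2 1 (le_of_eq hx02)).upd 1 0 2 (le_of_eq hx10)).upd 2 0 1 (le_of_eq hx20)).upd 2 3 2 (le_of_eq hx24)).upd 3 2 1 (le_of_eq hx42)) ![2,2,2,1] (by decide) (by decide) 0 (by decide))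
        · -- 24=(1,3)
          exact False.elim (cert_false T ((skipEmb 3).trans (Function.Embedding.refl _)) (by norm_num) (fun _ => hall _) (((((((LB_zero T ((skipEmb 3).trans (Function.Embedding.refl _))).upd 0 1 1 (le_of_eq hx01)).upd 0 2 1 (le_of_eq hx02)).upd 1 0 2 (le_of_eq hx10)).upd 2 0 1 (le_of_eq hx20)).upd 2 3 1 (le_of_eq hx24)).upd 3 2 3 (le_of_eq hx42)) ![1,1,1,1] (by decide) (by decide) 0 (by decide))
        · -- 24=(3,1)
          exact False.elim (cert_false T ((skipEmb 3).trans (Function.Embedding.refl _)) (by norm_num) (fun _ => hall _) (((((LB_zero T ((skipEmb 3).trans (Function.Embedding.refl _))).upd 0 2 1 (le_of_eq hx02)).upd 2 0 1 (le_of_eq hx20)).upd 2 3 3 (le_of_eq hx24)).upd 3 2 1 (le_of_eq hx42)) ![1,0,2,1] (by decide) (by decide) 0 (by decide))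
      · -- 14=(1,1)
        rcases d24 with ⟨rfl, rfl⟩ | ⟨rfl, rfl⟩ | ⟨rfl, rfl⟩ | ⟨rfl, rfl⟩ | ⟨rfl, rfl⟩ | ⟨rfl, rfl⟩
        · -- 24=(0,0)
          rcases d34 with ⟨rfl, rfl⟩ | ⟨rfl, rfl⟩ | ⟨rfl, rfl⟩ | ⟨rfl, rfl⟩ | ⟨rfl, rfl⟩ | ⟨rfl, rfl⟩
          · -- 34=(0,0)
            refine ⟨(⟨![3, 2, 0, 1, 4], ![2, 3, 1, 0, 4], by decide, by decide⟩ : Equiv.Perm (Fin 5)), T.m 3, T.w 1, Or.inr (Or.inr (Or.inl ?_))⟩
            show T.m 3 = T.m 3 ∧ T.m 2 = 2 * T.m 3 ∧ T.m 0 = 3 * T.m 3 ∧ T.m 1 = 4 * T.m 3 ∧ T.m 4 = 2 * T.m 3 ∧ T.w 3 = 2 * T.w 1 ∧ T.w 2 = 2 * T.w 1 ∧ T.w 0 = 2 * T.w 1 ∧ T.w 1 = T.w 1 ∧ T.w 4 = T.w 1 ∧ T.a 3 3 = -4 * T.w 1 ∧ T.a 3 2 = 2 * T.w 1 ∧ T.a 3 0 = 0 ∧ T.a 3 1 = 0 ∧ T.a 3 4 = 0 ∧ T.a 2 2 = -4 * T.w 1 ∧ T.a 2 0 = 2 * T.w 1 ∧ T.a 2 1 = 0 ∧ T.a 2 4 = 0 ∧ T.a 0 0 = -4 * T.w 1 ∧ T.a 0 1 = 2 * T.w 1 ∧ T.a 0 4 = 0 ∧ T.a 1 1 = -2 * T.w 1 ∧ T.a 1 4 = T.w 1 ∧ T.a 4 4 = -2 * T.w 1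
            refine ⟨?_, ?_, ?_, ?_, ?_, ?_, ?_, ?_, ?_, ?_, ?_, ?_, ?_, ?_, ?_, ?_, ?_, ?_, ?_, ?_, ?_, ?_, ?_, ?_, ?_⟩ <;> omega
          · -- 34=(1,1)
            exfalso; omega
          · -- 34=(1,2)
            exact False.elim (cert_false T ((skipEmb 2).trans (Function.Embedding.refl _)) (by norm_num) (fun _ => hall _) (((((((LB_zero T ((skipEmb 2).trans (Function.Embedding.refl _))).upd 0 1 1 (le_of_eq hx01)).upd 1 0 2 (le_of_eq hx10)).upd 1 3 1 (le_of_eq hx14)).upd 2 3 1 (le_of_eq hx34)).upd 3 1 1 (le_of_eq hx41)).upd 3 2 2 (le_of_eq hx43)) ![1,2,1,2] (by decide) (by decide) 0 (by decide))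
          · -- 34=(2,1)
            exact False.elim (cert_false T ((skipEmb 2).trans (Function.Embedding.refl _)) (by norm_num) (fun _ => hall _) (((((((LB_zero T ((skipEmb 2).trans (Function.Embedding.refl _))).upd 0 1 1 (le_of_eq hx01)).upd 1 0 2 (le_of_eq hx10)).upd 1 3 1 (le_of_eq hx14)).upd 2 3 2 (le_of_eq hx34)).upd 3 1 1 (le_of_eq hx41)).upd 3 2 1 (le_of_eq hx43)) ![1,2,2,2] (by decide) (by decide) 0 (by decide))
          · -- 34=(1,3)
            exact False.elim (cert_false T ((skipEmb 2).trans (Function.Embedding.refl _)) (by norm_num) (fun _ => hall _) (((((LB_zero T ((skipEmb 2).trans (Function.Embedding.refl _))).upd 1 3 1 (le_of_eq hx14)).upd 2 3 1 (le_of_eq hx34)).upd 3 1 1 (le_of_eq hx41)).upd 3 2 3 (le_of_eq hx43)) ![0,1,1,2] (by decide) (by decide) 1 (by decide))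
          · -- 34=(3,1)
            exact False.elim (cert_false T ((skipEmb 2).trans (Function.Embedding.refl _)) (by norm_num) (fun _ => hall _) (((((((LB_zero T ((skipEmb 2).trans (Function.Embedding.refl _))).upd 0 1 1 (le_of_eq hx01)).upd 1 0 2 (le_of_eq hx10)).upd 1 3 1 (le_of_eq hx14)).upd 2 3 3 (le_of_eq hx34)).upd 3 1 1 (le_of_eq hx41)).upd 3 2 1 (le_of_eq hx43)) ![1,2,2,2] (by decide) (by decide) 0 (by decide))
        · -- 24=(1,1)
          exact False.elim (cert_false T ((skipEmb 3).trans (Function.Embedding.refl _)) (by norm_num) (fun _ => hall _) (((((((((LB_zero T ((skipEmb 3).trans (Function.Embedding.refl _))).upd 0 1 1 (le_of_eq hx01)).upd 0 2 1 (le_of_eq hx02)).upd 1 0 2 (le_of_eq hx10)).upd 1 3 1 (le_of_eq hx14)).upd 2 0 1 (le_of_eq hx20)).upd 2 3 1 (le_of_eq hx24)).upd 3 1 1 (le_of_eq hx41)).upd 3 2 1 (le_of_eq hx42)) ![1,1,1,1] (by decide) (by decide) 0 (by decide))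
        · -- 24=(1,2)
          exact False.elim (cert_false T ((skipEmb 3).trans (Function.Embedding.refl _)) (by norm_num) (fun _ => hall _) (((((((((LB_zero T ((skipEmb 3).trans (Function.Embedding.refl _))).upd 0 1 1 (le_of_eq hx01)).upd 0 2 1 (le_of_eq hx02)).upd 1 0 2 (le_of_eq hx10)).upd 1 3 1 (le_of_eq hx14)).upd 2 0 1 (le_of_eq hx20)).upd 2 3 1 (le_of_eq hx24)).upd 3 1 1 (le_of_eq hx41)).upd 3 2 2 (le_of_eq hx42)) ![1,1,1,1] (by decide) (by decide) 0 (by decide))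
        · -- 24=(2,1)
          exact False.elim (cert_false T ((skipEmb 3).trans (Function.Embedding.refl _)) (by norm_num) (fun _ => hall _) (((((((((LB_zero T ((skipEmb 3).trans (Function.Embedding.refl _))).upd 0 1 1 (le_of_eq hx01)).upd 0 2 1 (le_of_eq hx02)).upd 1 0 2 (le_of_eq hx10)).upd 1 3 1 (le_of_eq hx14)).upd 2 0 1 (le_of_eq hx20)).upd 2 3 2 (le_of_eq hx24)).upd 3 1 1 (le_of_eq hx41)).upd 3 2 1 (le_of_eq hx42)) ![1,1,1,1] (by decide) (by decide) 0 (by decide))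
        · -- 24=(1,3)
          exact False.elim (cert_false T ((skipEmb 3).trans (Function.Embedding.refl _)) (by norm_num) (fun _ => hall _) (((((((((LB_zero T ((skipEmb 3).trans (Function.Embedding.refl _))).upd 0 1 1 (le_of_eq hx01)).upd 0 2 1 (le_of_eq hx02)).upd 1 0 2 (le_of_eq hx10)).upd 1 3 1 (le_of_eq hx14)).upd 2 0 1 (le_of_eq hx20)).upd 2 3 1 (le_of_eq hx24)).upd 3 1 1 (le_of_eq hx41)).upd 3 2 3 (le_of_eq hx42)) ![1,1,1,1] (by decide) (by decide) 0 (by decide))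
        · -- 24=(3,1)
          exact False.elim (cert_false T ((skipEmb 3).trans (Function.Embedding.refl _)) (by norm_num) (fun _ => hall _) (((((((((LB_zero T ((skipEmb 3).trans (Function.Embedding.refl _))).upd 0 1 1 (le_of_eq hx01)).upd 0 2 1 (le_of_eq hx02)).upd 1 0 2 (le_of_eq hx10)).upd 1 3 1 (le_of_eq hx14)).upd 2 0 1 (le_of_eq hx20)).upd 2 3 3 (le_of_eq hx24)).upd 3 1 1 (le_of_eq hx41)).upd 3 2 1 (le_of_eq hx42)) ![1,1,1,1] (by decide) (by decide) 0 (by decide))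
      · -- 14=(1,2)
        exact False.elim (cert_false T ((skipEmb 3).trans (Function.Embedding.refl _)) (by norm_num) (fun _ => hall _) (((((LB_zero T ((skipEmb 3).trans (Function.Embedding.refl _))).upd 0 1 1 (le_of_eq hx01)).upd 1 0 2 (le_of_eq hx10)).upd 1 3 1 (le_of_eq hx14)).upd 3 1 2 (le_of_eq hx41)) ![1,2,0,2] (by decide) (by decide) 0 (by decide))
      · -- 14=(2,1)
        exact False.elim (cert_false T ((skipEmb 3).trans (Function.Embedding.refl _)) (by norm_num) (fun _ => hall _) (((((LB_zero T ((skipEmb 3).trans (Function.Embedding.refl _))).upd 0 1 1 (le_of_eq hx01)).upd 1 0 2 (le_of_eq hx10)).upd 1 3 2 (le_of_eq hx14)).upd 3 1 1 (le_of_eq hx41)) ![1,2,0,1] (by decide) (by decide) 0 (by decide))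
      · -- 14=(1,3)
        exact False.elim (cert_false T ((skipEmb 3).trans (Function.Embedding.refl _)) (by norm_num) (fun _ => hall _) (((((LB_zero T ((skipEmb 3).trans (Function.Embedding.refl _))).upd 0 1 1 (le_of_eq hx01)).upd 1 0 2 (le_of_eq hx10)).upd 1 3 1 (le_of_eq hx14)).upd 3 1 3 (le_of_eq hx41)) ![1,2,0,2] (by decide) (by decide) 0 (by decide))
      · -- 14=(3,1)
        exact False.elim (cert_false T ((skipEmb 3).trans (Function.Embedding.refl _)) (by norm_num) (fun _ => hall _) (((((LB_zero T ((skipEmb 3).trans (Function.Embedding.refl _))).upd 0 1 1 (le_of_eq hx01)).upd 1 0 2 (le_of_eq hx10)).upd 1 3 3 (le_of_eq hx14)).upd 3 1 1 (le_of_eq hx41)) ![1,2,0,1] (by decide) (by decide) 0 (by decide))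
    · -- 04=(1,1)
      exact False.elim (cert_false T ((skipEmb 3).trans (Function.Embedding.refl _)) (by norm_num) (fun _ => hall _) (((((((LB_zero T ((skipEmb 3).trans (Function.Embedding.refl _))).upd 0 1 1 (le_of_eq hx01)).upd 0 2 1 (le_of_eq hx02)).upd 0 3 1 (le_of_eq hx04)).upd 1 0 2 (le_of_eq hx10)).upd 2 0 1 (le_of_eq hx20)).upd 3 0 1 (le_of_eq hx40)) ![2,2,1,1] (by decide) (by decide) 0 (by decide))
    · -- 04=(1,2)
      exact False.elim (cert_false T ((skipEmb 3).trans (Function.Embedding.refl _)) (by norm_num) (fun _ => hall _) (((((LB_zero T ((skipEmb 3).trans (Function.Embedding.refl _))).upd 0 1 1 (le_of_eq hx01)).upd 0 3 1 (le_of_eq hx04)).upd 1 0 2 (le_of_eq hx10)).upd 3 0 2 (le_of_eq hx40)) ![1,1,0,1] (by decide) (by decide) 0 (by decide))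
    · -- 04=(2,1)
      exact False.elim (cert_false T ((skipEmb 3).trans (Function.Embedding.refl _)) (by norm_num) (fun _ => hall _) (((((((LB_zero T ((skipEmb 3).trans (Function.Embedding.refl _))).upd 0 1 1 (le_of_eq hx01)).upd 0 2 1 (le_of_eq hx02)).upd 0 3 2 (le_of_eq hx04)).upd 1 0 2 (le_of_eq hx10)).upd 2 0 1 (le_of_eq hx20)).upd 3 0 1 (le_of_eq hx40)) ![2,1,1,1] (by decide) (by decide) 0 (by decide))
    · -- 04=(1,3)
      exact False.elim (cert_false T ((skipEmb 3).trans (Function.Embedding.refl _)) (by norm_num) (fun _ => hall _) (((((LB_zero T ((skipEmb 3).trans (Function.Embedding.refl _))).upd 0 1 1 (le_of_eq hx01)).upd 0 3 1 (le_of_eq hx04)).upd 1 0 2 (le_of_eq hx10)).upd 3 0 3 (le_of_eq hx40)) ![1,1,0,1] (by decide) (by decide) 0 (by decide))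
    · -- 04=(3,1)
      exact False.elim (cert_false T ((skipEmb 3).trans (Function.Embedding.refl _)) (by norm_num) (fun _ => hall _) (((((LB_zero T ((skipEmb 3).trans (Function.Embedding.refl _))).upd 0 2 1 (le_of_eq hx02)).upd 0 3 3 (le_of_eq hx04)).upd 2 0 1 (le_of_eq hx20)).upd 3 0 1 (le_of_eq hx40)) ![2,0,1,1] (by decide) (by decide) 0 (by decide))
  · -- 23=(1,2)
    exact False.elim (cert_false T ((skipEmb 4).trans (Function.Embedding.refl _)) (by norm_num) (fun _ => hall _) (((((((LB_zero T ((skipEmb 4).trans (Function.Embedding.refl _))).upd 0 1 1 (le_of_eq hx01)).upd 0 2 1 (le_of_eq hx02)).upd 1 0 2 (le_of_eq hx10)).upd 2 0 1 (le_of_eq hx20)).upd 2 3 1 (le_of_eq hx23)).upd 3 2 2 (le_of_eq hx32)) ![1,1,1,1] (by decide) (by decide) 0 (by decide))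
  · -- 23=(2,1)
    exact False.elim (cert_false T ((skipEmb 4).trans (Function.Embedding.refl _)) (by norm_num) (fun _ => hall _) (((((((LB_zero T ((skipEmb 4).trans (Function.Embedding.refl _))).upd 0 1 1 (le_of_eq hx01)).upd 0 2 1 (le_of_eq hx02)).upd 1 0 2 (le_of_eq hx10)).upd 2 0 1 (le_of_eq hx20)).upd 2 3 2 (le_of_eq hx23)).upd 3 2 1 (le_of_eq hx32)) ![2,2,2,1] (by decide) (by decide) 0 (by decide))
  · -- 23=(1,3)
    exact False.elim (cert_false T ((skipEmb 4).trans (Function.Embedding.refl _)) (by norm_num) (fun _ => hall _) (((((((LB_zero T ((skipEmb 4).trans (Function.Embedding.refl _))).upd 0 1 1 (le_of_eq hx01)).upd 0 2 1 (le_of_eq hx02)).upd 1 0 2 (le_of_eq hx10)).upd 2 0 1 (le_of_eq hx20)).upd 2 3 1 (le_of_eq hx23)).upd 3 2 3 (le_of_eq hx32)) ![1,1,1,1] (by decide) (by decide) 0 (by decide))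
  · -- 23=(3,1)
    exact False.elim (cert_false T ((skipEmb 4).trans (Function.Embedding.refl _)) (by norm_num) (fun _ => hall _) (((((LB_zero T ((skipEmb 4).trans (Function.Embedding.refl _))).upd 0 2 1 (le_of_eq hx02)).upd 2 0 1 (le_of_eq hx20)).upd 2 3 3 (le_of_eq hx23)).upd 3 2 1 (le_of_eq hx32)) ![1,0,2,1] (by decide) (by decide) 0 (by decide))

theorem case489 (T : NumericalType 5) (hall : ∀ i, T.IsMinusTwo i) (d : SData T)
    (h01 : N T (Function.Embedding.refl _) 0 1 = 2) (h10 : N T (Function.Embedding.refl _) 1 0 = 1)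
    (h02 : N T (Function.Embedding.refl _) 0 2 = 0) (h20 : N T (Function.Embedding.refl _) 2 0 = 0)
    (h12 : N T (Function.Embedding.refl _) 1 2 = 1) (h21 : N T (Function.Embedding.refl _) 2 1 = 1)
    (h03 : N T (Function.Embedding.refl _) 0 3 = 0) (h30 : N T (Function.Embedding.refl _) 3 0 = 0)
    (h13 : N T (Function.Embedding.refl _) 1 3 = 0) (h31 : N T (Function.Embedding.refl _) 3 1 = 0) :
    Goal T := by
  unfold Goal
  have hd := d
  obtain ⟨x01, x02, x03, x04, x10, x12, x13, x14, x20, x21, x23, x24, x30, x31, x32, x34, x40, x41, x42, x43, hx01, hx02, hx03, hx04, hx10, hx12, hx13, hx14, hx20, hx21, hx23, hx24, hx30, hx31, hx32, hx34, hx40, hx41, hx42, hx43, hw0, hm0, hw1, hm1, hw2, hm2, hw3, hm3, hw4, hm4, a00, a01, a02, a03, a04, a11, a10, a12, a13, a14, a22, a20, a21, a23, a24, a33, a30, a31, a32, a34, a44, a40, a41, a42, a43, wN01, wN02, wN12, wN03, wN13, wN23, wN04, wN14, wN24, wN34, e0, e1, e2, e3, e4, d01,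 d02, d12, d03, d13, d23, d04, d14, d24, d34⟩ := d
  obtain rfl : x01 = 2 := hx01.trans h01
  obtain rfl : x10 = 1 := hx10.trans h10
  obtain rfl : x02 = 0 := hx02.trans h02
  obtain rfl : x20 = 0 := hx20.trans h20
  obtain rfl : x12 = 1 := hx12.trans h12
  obtain rfl : x21 = 1 := hx21.trans h21
  obtain rfl : x03 = 0 := hx03.trans h03
  obtain rfl : x30 = 0 := hx30.trans h30
  obtain rfl : x13 = 0 := hx13.trans h13
  obtain rfl : x31 = 0 := hx31.trans h31
  rcases d23 with ⟨rfl, rfl⟩ | ⟨rfl, rfl⟩ | ⟨rfl, rfl⟩ | ⟨rfl, rfl⟩ | ⟨rfl, rfl⟩ | ⟨rfl, rfl⟩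
  · -- 23=(0,0)
    rcases d04 with ⟨rfl, rfl⟩ | ⟨rfl, rfl⟩ | ⟨rfl, rfl⟩ | ⟨rfl, rfl⟩ | ⟨rfl, rfl⟩ | ⟨rfl, rfl⟩
    · -- 04=(0,0)
      rcases d14 with ⟨rfl, rfl⟩ | ⟨rfl, rfl⟩ | ⟨rfl, rfl⟩ | ⟨rfl, rfl⟩ | ⟨rfl, rfl⟩ | ⟨rfl, rfl⟩
      · -- 14=(0,0)
        rcases d24 with ⟨rfl, rfl⟩ | ⟨rfl, rfl⟩ | ⟨rfl, rfl⟩ | ⟨rfl, rfl⟩ | ⟨rfl, rfl⟩ | ⟨rfl, rfl⟩
        · -- 24=(0,0)
          rcases d34 with ⟨rfl, rfl⟩ | ⟨rfl, rfl⟩ | ⟨rfl, rfl⟩ | ⟨rfl, rfl⟩ | ⟨rfl, rfl⟩ | ⟨rfl, rfl⟩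
          · -- 34=(0,0)
            exfalso; omega
          · -- 34=(1,1)
            exfalso; omega
          · -- 34=(1,2)
            exfalso; omega
          · -- 34=(2,1)
            exfalso; omega
          · -- 34=(1,3)
            exfalso; omega
          · -- 34=(3,1)
            exfalso; omega
        · -- 24=(1,1)
          rcases d34 with ⟨rfl, rfl⟩ | ⟨rfl, rfl⟩ | ⟨rfl, rfl⟩ | ⟨rfl, rfl⟩ | ⟨rfl, rfl⟩ | ⟨rfl, rfl⟩
          · -- 34=(0,0)
            exfalso; omega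
          · -- 34=(1,1)
            exfalso; omega
          · -- 34=(1,2)
            refine ⟨(⟨![0, 1, 2, 4, 3], ![0, 1, 2, 4, 3], by decide, by decide⟩ : Equiv.Perm (Fin 5)), T.m 3, T.w 0, Or.inr (Or.inr (Or.inr (Or.inl ?_)))⟩
            show T.m 0 = 2 * T.m 3 ∧ T.m 1 = 2 * T.m 3 ∧ T.m 2 = 2 * T.m 3 ∧ T.m 4 = 2 * T.m 3 ∧ T.m 3 = T.m 3 ∧ T.w 0 = T.w 0 ∧ T.w 1 = 2 * T.w 0 ∧ T.w 2 = 2 * T.w 0 ∧ T.w 4 = 2 * T.w 0 ∧ T.w 3 = 4 * T.w 0 ∧ T.a 0 0 = -2 * T.w 0 ∧ T.a 0 1 = 2 * T.w 0 ∧ T.a 0 2 = 0 ∧ T.a 0 4 = 0 ∧ T.a 0 3 = 0 ∧ T.a 1 1 = -4 * T.w 0 ∧ T.a 1 2 = 2 * T.w 0 ∧ T.a 1 4 = 0 ∧ T.a 1 3 = 0 ∧ T.a 2 2 = -4 * T.w 0 ∧ T.a 2 4 = 2 * T.w 0 ∧ T.a 2 3 = 0 ∧ T.a 4 4 = -4 * T.w 0 ∧ T.a 4 3 = 4 * T.w 0 ∧ T.a 3 3 = -8 * T.w 0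
            refine ⟨?_, ?_, ?_, ?_, ?_, ?_, ?_, ?_, ?_, ?_, ?_, ?_, ?_, ?_, ?_, ?_, ?_, ?_, ?_, ?_, ?_, ?_, ?_, ?_, ?_⟩ <;> omega
          · -- 34=(2,1)
            refine ⟨(⟨![0, 1, 2, 4, 3], ![0, 1, 2, 4, 3], by decide, by decide⟩ : Equiv.Perm (Fin 5)), T.m 0, T.w 0, Or.inr (Or.inr (Or.inr (Or.inr (Or.inl ?_))))⟩
            show T.m 0 = T.m 0 ∧ T.m 1 = T.m 0 ∧ T.m 2 = T.m 0 ∧ T.m 4 = T.m 0 ∧ T.m 3 = T.m 0 ∧ T.w 0 = T.w 0 ∧ T.w 1 = 2 * T.w 0 ∧ T.w 2 = 2 * T.w 0 ∧ T.w 4 = 2 * T.w 0 ∧ T.w 3 = T.w 0 ∧ T.a 0 0 = -2 * T.w 0 ∧ T.a 0 1 = 2 * T.w 0 ∧ T.a 0 2 = 0 ∧ T.a 0 4 = 0 ∧ T.a 0 3 = 0 ∧ T.a 1 1 = -4 * T.w 0 ∧ T.a 1 2 = 2 * T.w 0 ∧ T.a 1 4 = 0 ∧ T.a 1 3 = 0 ∧ T.a 2 2 = -4 * T.w 0 ∧ T.a 2 4 = 2 * T.w 0 ∧ T.a 2 3 = 0 ∧ T.a 4 4 = -4 * T.w 0 ∧ T.a 4 3 = 2 * T.w 0 ∧ T.a 3 3 = -2 * T.w 0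
            refine ⟨?_, ?_, ?_, ?_, ?_, ?_, ?_, ?_, ?_, ?_, ?_, ?_, ?_, ?_, ?_, ?_, ?_, ?_, ?_, ?_, ?_, ?_, ?_, ?_, ?_⟩ <;> omega
          · -- 34=(1,3)
            exact False.elim (cert_false T ((skipEmb 1).trans (Function.Embedding.refl _)) (by norm_num) (fun _ => hall _) (((((LB_zero T ((skipEmb 1).trans (Function.Embedding.refl _))).upd 1 3 1 (le_of_eq hx24)).upd 2 3 1 (le_of_eq hx34)).upd 3 1 1 (le_of_eq hx42)).upd 3 2 3 (le_of_eq hx43)) ![0,1,1,2] (by decide) (by decide) 1 (by decide))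
          · -- 34=(3,1)
            exact False.elim (cert_false T ((skipEmb 1).trans (Function.Embedding.refl _)) (by norm_num) (fun _ => hall _) (((((LB_zero T ((skipEmb 1).trans (Function.Embedding.refl _))).upd 1 3 1 (le_of_eq hx24)).upd 2 3 3 (le_of_eq hx34)).upd 3 1 1 (le_of_eq hx42)).upd 3 2 1 (le_of_eq hx43)) ![0,1,3,2] (by decide) (by decide) 1 (by decide))
        · -- 24=(1,2)
          exact False.elim (cert_false T ((skipEmb 3).trans (Function.Embedding.refl _)) (by norm_num) (fun _ => hall _) (((((((LB_zero T ((skipEmb 3).trans (Function.Embedding.refl _))).upd 0 1 2 (le_of_eq hx01)).upd 1 0 1 (le_of_eq hx10)).upd 1 2 1 (le_of_eq hx12)).upd 2 1 1 (le_of_eq hx21)).upd 2 3 1 (le_of_eq hx24)).upd 3 2 2 (le_of_eq hx42)) ![1,1,1,1] (by decide) (by decide) 0 (by decide))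
        · -- 24=(2,1)
          exact False.elim (cert_false T ((skipEmb 3).trans (Function.Embedding.refl _)) (by norm_num) (fun _ => hall _) (((((((LB_zero T ((skipEmb 3).trans (Function.Embedding.refl _))).upd 0 1 2 (le_of_eq hx01)).upd 1 0 1 (le_of_eq hx10)).upd 1 2 1 (le_of_eq hx12)).upd 2 1 1 (le_of_eq hx21)).upd 2 3 2 (le_of_eq hx24)).upd 3 2 1 (le_of_eq hx42)) ![2,2,2,1] (by decide) (by decide) 0 (by decide))
        · -- 24=(1,3)
          exact False.elim (cert_false T ((skipEmb 3).trans (Function.Embedding.refl _)) (by norm_num) (fun _ => hall _) (((((((LB_zero T ((skipEmb 3).trans (Function.Embedding.refl _))).upd 0 1 2 (le_of_eq hx01)).upd 1 0 1 (le_of_eq hx10)).upd 1 2 1 (le_of_eq hx12)).upd 2 1 1 (le_of_eq hx21)).upd 2 3 1 (le_of_eq hx24)).upd 3 2 3 (le_of_eq hx42)) ![1,1,1,1] (by decide) (by decide) 0 (by decide))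
        · -- 24=(3,1)
          exact False.elim (cert_false T ((skipEmb 3).trans (Function.Embedding.refl _)) (by norm_num) (fun _ => hall _) (((((LB_zero T ((skipEmb 3).trans (Function.Embedding.refl _))).upd 1 2 1 (le_of_eq hx12)).upd 2 1 1 (le_of_eq hx21)).upd 2 3 3 (le_of_eq hx24)).upd 3 2 1 (le_of_eq hx42)) ![0,1,2,1] (by decide) (by decide) 1 (by decide))
      · -- 14=(1,1)
        exact False.elim (cert_false T ((skipEmb 3).trans (Function.Embedding.refl _)) (by norm_num) (fun _ => hall _) (((((((LB_zero T ((skipEmb 3).trans (Function.Embedding.refl _))).upd 0 1 2 (le_of_eq hx01)).upd 1 0 1 (le_of_eq hx10)).upd 1 2 1 (le_of_eq hx12)).upd 1 3 1 (le_of_eq hx14)).upd 2 1 1 (le_of_eq hx21)).upd 3 1 1 (le_of_eq hx41)) ![2,2,1,1] (by decide) (by decide) 0 (by decide))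
      · -- 14=(1,2)
        exact False.elim (cert_false T ((skipEmb 3).trans (Function.Embedding.refl _)) (by norm_num) (fun _ => hall _) (((((LB_zero T ((skipEmb 3).trans (Function.Embedding.refl _))).upd 0 1 2 (le_of_eq hx01)).upd 1 0 1 (le_of_eq hx10)).upd 1 3 1 (le_of_eq hx14)).upd 3 1 2 (le_of_eq hx41)) ![1,1,0,1] (by decide) (by decide) 0 (by decide))
      · -- 14=(2,1)
        exact False.elim (cert_false T ((skipEmb 3).trans (Function.Embedding.refl _)) (by norm_num) (fun _ => hall _) (((((((LB_zero T ((skipEmb 3).trans (Function.Embedding.refl _))).upd 0 1 2 (le_of_eq hx01)).upd 1 0 1 (le_of_eq hx10)).upd 1 2 1 (le_of_eq hx12)).upd 1 3 2 (le_of_eq hx14)).upd 2 1 1 (le_of_eq hx21)).upd 3 1 1 (le_of_eq hx41)) ![1,2,1,1] (by decide) (by decide) 0 (by decide))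
      · -- 14=(1,3)
        exact False.elim (cert_false T ((skipEmb 3).trans (Function.Embedding.refl _)) (by norm_num) (fun _ => hall _) (((((LB_zero T ((skipEmb 3).trans (Function.Embedding.refl _))).upd 0 1 2 (le_of_eq hx01)).upd 1 0 1 (le_of_eq hx10)).upd 1 3 1 (le_of_eq hx14)).upd 3 1 3 (le_of_eq hx41)) ![1,1,0,1] (by decide) (by decide) 0 (by decide))
      · -- 14=(3,1)
        exact False.elim (cert_false T ((skipEmb 3).trans (Function.Embedding.refl _)) (by norm_num) (fun _ => hall _) (((((LB_zero T ((skipEmb 3).trans (Function.Embedding.refl _))).upd 1 2 1 (le_of_eq hx12)).upd 1 3 3 (le_of_eq hx14)).upd 2 1 1 (le_of_eq hx21)).upd 3 1 1 (le_of_eq hx41)) ![0,2,1,1] (by decide) (by decide) 1 (by decide))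
    · -- 04=(1,1)
      rcases d14 with ⟨rfl, rfl⟩ | ⟨rfl, rfl⟩ | ⟨rfl, rfl⟩ | ⟨rfl, rfl⟩ | ⟨rfl, rfl⟩ | ⟨rfl, rfl⟩
      · -- 14=(0,0)
        rcases d24 with ⟨rfl, rfl⟩ | ⟨rfl, rfl⟩ | ⟨rfl, rfl⟩ | ⟨rfl, rfl⟩ | ⟨rfl, rfl⟩ | ⟨rfl, rfl⟩
        · -- 24=(0,0)
          rcases d34 with ⟨rfl, rfl⟩ | ⟨rfl, rfl⟩ | ⟨rfl, rfl⟩ | ⟨rfl, rfl⟩ | ⟨rfl, rfl⟩ | ⟨rfl, rfl⟩
          · -- 34=(0,0)
            exfalso; omega
          · -- 34=(1,1)
            refine ⟨(⟨![3, 4, 0, 1, 2], ![2, 3, 4, 0, 1], by decide, by decide⟩ : Equiv.Perm (Fin 5)), T.m 3, T.w 3, Or.inr (Or.inl ?_)⟩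
            show T.m 3 = T.m 3 ∧ T.m 4 = 2 * T.m 3 ∧ T.m 0 = 3 * T.m 3 ∧ T.m 1 = 2 * T.m 3 ∧ T.m 2 = T.m 3 ∧ T.w 3 = T.w 3 ∧ T.w 4 = T.w 3 ∧ T.w 0 = T.w 3 ∧ T.w 1 = 2 * T.w 3 ∧ T.w 2 = 2 * T.w 3 ∧ T.a 3 3 = -2 * T.w 3 ∧ T.a 3 4 = T.w 3 ∧ T.a 3 0 = 0 ∧ T.a 3 1 = 0 ∧ T.a 3 2 = 0 ∧ T.a 4 4 = -2 * T.w 3 ∧ T.a 4 0 = T.w 3 ∧ T.a 4 1 = 0 ∧ T.a 4 2 = 0 ∧ T.a 0 0 = -2 * T.w 3 ∧ T.a 0 1 = 2 * T.w 3 ∧ T.a 0 2 = 0 ∧ T.a 1 1 = -4 * T.w 3 ∧ T.a 1 2 = 2 * T.w 3 ∧ T.a 2 2 = -4 * T.w 3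
            refine ⟨?_, ?_, ?_, ?_, ?_, ?_, ?_, ?_, ?_, ?_, ?_, ?_, ?_, ?_, ?_, ?_, ?_, ?_, ?_, ?_, ?_, ?_, ?_, ?_, ?_⟩ <;> omega
          · -- 34=(1,2)
            exact False.elim (cert_false T ((skipEmb 2).trans (Function.Embedding.refl _)) (by norm_num) (fun _ => hall _) (((((((LB_zero T ((skipEmb 2).trans (Function.Embedding.refl _))).upd 0 1 2 (le_of_eq hx01)).upd 0 3 1 (le_of_eq hx04)).upd 1 0 1 (le_of_eq hx10)).upd 2 3 1 (le_of_eq hx34)).upd 3 0 1 (le_of_eq hx40)).upd 3 2 2 (le_of_eq hx43)) ![2,1,1,2] (by decide) (by decide) 0 (by decide))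
          · -- 34=(2,1)
            exact False.elim (cert_false T ((skipEmb 2).trans (Function.Embedding.refl _)) (by norm_num) (fun _ => hall _) (((((((LB_zero T ((skipEmb 2).trans (Function.Embedding.refl _))).upd 0 1 2 (le_of_eq hx01)).upd 0 3 1 (le_of_eq hx04)).upd 1 0 1 (le_of_eq hx10)).upd 2 3 2 (le_of_eq hx34)).upd 3 0 1 (le_of_eq hx40)).upd 3 2 1 (le_of_eq hx43)) ![2,1,2,2] (by decide) (by decide) 0 (by decide))
          · -- 34=(1,3)
            exact False.elim (cert_false T ((skipEmb 2).trans (Function.Embedding.refl _)) (by norm_num) (fun _ => hall _) (((((LB_zero T ((skipEmb 2).trans (Function.Embedding.refl _))).upd 0 3 1 (le_of_eq hx04)).upd 2 3 1 (le_of_eq hx34)).upd 3 0 1 (le_of_eq hx40)).upd 3 2 3 (le_of_eq hx43)) ![1,0,1,2] (by decide) (by decide) 0 (by decide))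
          · -- 34=(3,1)
            exact False.elim (cert_false T ((skipEmb 2).trans (Function.Embedding.refl _)) (by norm_num) (fun _ => hall _) (((((((LB_zero T ((skipEmb 2).trans (Function.Embedding.refl _))).upd 0 1 2 (le_of_eq hx01)).upd 0 3 1 (le_of_eq hx04)).upd 1 0 1 (le_of_eq hx10)).upd 2 3 3 (le_of_eq hx34)).upd 3 0 1 (le_of_eq hx40)).upd 3 2 1 (le_of_eq hx43)) ![2,1,2,2] (by decide) (by decide) 0 (by decide))
        · -- 24=(1,1)
          exact False.elim (cert_false T ((skipEmb 3).trans (Function.Embedding.refl _)) (by norm_num) (fun _ => hall _) (((((((((LB_zero T ((skipEmb 3).trans (Function.Embedding.refl _))).upd 0 1 2 (le_of_eq hx01)).upd 0 3 1 (le_of_eq hx04)).upd 1 0 1 (le_of_eq hx10)).upd 1 2 1 (le_of_eq hx12)).upd 2 1 1 (le_of_eq hx21)).upd 2 3 1 (le_of_eq hx24)).upd 3 0 1 (le_of_eq hx40)).upd 3 2 1 (le_of_eq hx42)) ![1,1,1,1] (by decide) (by decide) 0 (by decide))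
        · -- 24=(1,2)
          exact False.elim (cert_false T ((skipEmb 3).trans (Function.Embedding.refl _)) (by norm_num) (fun _ => hall _) (((((((((LB_zero T ((skipEmb 3).trans (Function.Embedding.refl _))).upd 0 1 2 (le_of_eq hx01)).upd 0 3 1 (le_of_eq hx04)).upd 1 0 1 (le_of_eq hx10)).upd 1 2 1 (le_of_eq hx12)).upd 2 1 1 (le_of_eq hx21)).upd 2 3 1 (le_of_eq hx24)).upd 3 0 1 (le_of_eq hx40)).upd 3 2 2 (le_of_eq hx42)) ![1,1,1,1] (by decide) (by decide) 0 (by decide))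
        · -- 24=(2,1)
          exact False.elim (cert_false T ((skipEmb 3).trans (Function.Embedding.refl _)) (by norm_num) (fun _ => hall _) (((((((((LB_zero T ((skipEmb 3).trans (Function.Embedding.refl _))).upd 0 1 2 (le_of_eq hx01)).upd 0 3 1 (le_of_eq hx04)).upd 1 0 1 (le_of_eq hx10)).upd 1 2 1 (le_of_eq hx12)).upd 2 1 1 (le_of_eq hx21)).upd 2 3 2 (le_of_eq hx24)).upd 3 0 1 (le_of_eq hx40)).upd 3 2 1 (le_of_eq hx42)) ![1,1,1,1] (by decide) (by decide) 0 (by decide))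
        · -- 24=(1,3)
          exact False.elim (cert_false T ((skipEmb 3).trans (Function.Embedding.refl _)) (by norm_num) (fun _ => hall _) (((((((((LB_zero T ((skipEmb 3).trans (Function.Embedding.refl _))).upd 0 1 2 (le_of_eq hx01)).upd 0 3 1 (le_of_eq hx04)).upd 1 0 1 (le_of_eq hx10)).upd 1 2 1 (le_of_eq hx12)).upd 2 1 1 (le_of_eq hx21)).upd 2 3 1 (le_of_eq hx24)).upd 3 0 1 (le_of_eq hx40)).upd 3 2 3 (le_of_eq hx42)) ![1,1,1,1] (by decide) (by decide) 0 (by decide))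
        · -- 24=(3,1)
          exact False.elim (cert_false T ((skipEmb 3).trans (Function.Embedding.refl _)) (by norm_num) (fun _ => hall _) (((((((((LB_zero T ((skipEmb 3).trans (Function.Embedding.refl _))).upd 0 1 2 (le_of_eq hx01)).upd 0 3 1 (le_of_eq hx04)).upd 1 0 1 (le_of_eq hx10)).upd 1 2 1 (le_of_eq hx12)).upd 2 1 1 (le_of_eq hx21)).upd 2 3 3 (le_of_eq hx24)).upd 3 0 1 (le_of_eq hx40)).upd 3 2 1 (le_of_eq hx42)) ![1,1,1,1] (by decide) (by decide) 0 (by decide))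
      · -- 14=(1,1)
        exact False.elim (cert_false T ((skipEmb 3).trans (Function.Embedding.refl _)) (by norm_num) (fun _ => hall _) (((((((LB_zero T ((skipEmb 3).trans (Function.Embedding.refl _))).upd 0 1 2 (le_of_eq hx01)).upd 0 3 1 (le_of_eq hx04)).upd 1 0 1 (le_of_eq hx10)).upd 1 3 1 (le_of_eq hx14)).upd 3 0 1 (le_of_eq hx40)).upd 3 1 1 (le_of_eq hx41)) ![1,1,0,1] (by decide) (by decide) 0 (by decide))
      · -- 14=(1,2)
        exact False.elim (cert_false T ((skipEmb 3).trans (Function.Embedding.refl _)) (by norm_num) (fun _ => hall _) (((((((LB_zero T ((skipEmb 3).trans (Function.Embedding.refl _))).upd 0 1 2 (le_of_eq hx01)).upd 0 3 1 (le_of_eq hx04)).upd 1 0 1 (le_of_eq hx10)).upd 1 3 1 (le_of_eq hx14)).upd 3 0 1 (le_of_eq hx40)).upd 3 1 2 (le_of_eq hx41)) ![1,1,0,1] (by decide) (by decide) 0 (by decide))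
      · -- 14=(2,1)
        exact False.elim (cert_false T ((skipEmb 3).trans (Function.Embedding.refl _)) (by norm_num) (fun _ => hall _) (((((((LB_zero T ((skipEmb 3).trans (Function.Embedding.refl _))).upd 0 1 2 (le_of_eq hx01)).upd 0 3 1 (le_of_eq hx04)).upd 1 0 1 (le_of_eq hx10)).upd 1 3 2 (le_of_eq hx14)).upd 3 0 1 (le_of_eq hx40)).upd 3 1 1 (le_of_eq hx41)) ![1,1,0,1] (by decide) (by decide) 0 (by decide))
      · -- 14=(1,3)
        exact False.elim (cert_false T ((skipEmb 3).trans (Function.Embedding.refl _)) (by norm_num) (fun _ => hall _) (((((((LB_zero T ((skipEmb 3).trans (Function.Embedding.refl _))).upd 0 1 2 (le_of_eq hx01)).upd 0 3 1 (le_of_eq hx04)).upd 1 0 1 (le_of_eq hx10)).upd 1 3 1 (le_of_eq hx14)).upd 3 0 1 (le_of_eq hx40)).upd 3 1 3 (le_of_eq hx41)) ![1,1,0,1] (by decide) (by decide) 0 (by decide))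
      · -- 14=(3,1)
        exact False.elim (cert_false T ((skipEmb 3).trans (Function.Embedding.refl _)) (by norm_num) (fun _ => hall _) (((((((LB_zero T ((skipEmb 3).trans (Function.Embedding.refl _))).upd 0 1 2 (le_of_eq hx01)).upd 0 3 1 (le_of_eq hx04)).upd 1 0 1 (le_of_eq hx10)).upd 1 3 3 (le_of_eq hx14)).upd 3 0 1 (le_of_eq hx40)).upd 3 1 1 (le_of_eq hx41)) ![1,1,0,1] (by decide) (by decide) 0 (by decide))
    · -- 04=(1,2)
      exact False.elim (cert_false T ((skipEmb 3).trans (Function.Embedding.refl _)) (by norm_num) (fun _ => hall _) (((((LB_zero T ((skipEmb 3).trans (Function.Embedding.refl _))).upd 0 1 2 (le_of_eq hx01)).upd 0 3 1 (le_of_eq hx04)).upd 1 0 1 (le_of_eq hx10)).upd 3 0 2 (le_of_eq hx40)) ![2,1,0,2] (by decide) (by decide) 0 (by decide))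
    · -- 04=(2,1)
      exact False.elim (cert_false T ((skipEmb 3).trans (Function.Embedding.refl _)) (by norm_num) (fun _ => hall _) (((((LB_zero T ((skipEmb 3).trans (Function.Embedding.refl _))).upd 0 1 2 (le_of_eq hx01)).upd 0 3 2 (le_of_eq hx04)).upd 1 0 1 (le_of_eq hx10)).upd 3 0 1 (le_of_eq hx40)) ![2,1,0,1] (by decide) (by decide) 0 (by decide))
    · -- 04=(1,3)
      exact False.elim (cert_false T ((skipEmb 3).trans (Function.Embedding.refl _)) (by norm_num) (fun _ => hall _) (((((LB_zero T ((skipEmb 3).trans (Function.Embedding.refl _))).upd 0 1 2 (le_of_eq hx01)).upd 0 3 1 (le_of_eq hx04)).upd 1 0 1 (le_of_eq hx10)).upd 3 0 3 (le_of_eq hx40)) ![2,1,0,2] (by decide) (by decide) 0 (by decide))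
    · -- 04=(3,1)
      exact False.elim (cert_false T ((skipEmb 3).trans (Function.Embedding.refl _)) (by norm_num) (fun _ => hall _) (((((LB_zero T ((skipEmb 3).trans (Function.Embedding.refl _))).upd 0 1 2 (le_of_eq hx01)).upd 0 3 3 (le_of_eq hx04)).upd 1 0 1 (le_of_eq hx10)).upd 3 0 1 (le_of_eq hx40)) ![2,1,0,1] (by decide) (by decide) 0 (by decide))
  · -- 23=(1,1)
    rcases d04 with ⟨rfl, rfl⟩ | ⟨rfl, rfl⟩ | ⟨rfl, rfl⟩ | ⟨rfl, rfl⟩ | ⟨rfl, rfl⟩ | ⟨rfl, rfl⟩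
    · -- 04=(0,0)
      rcases d14 with ⟨rfl, rfl⟩ | ⟨rfl, rfl⟩ | ⟨rfl, rfl⟩ | ⟨rfl, rfl⟩ | ⟨rfl, rfl⟩ | ⟨rfl, rfl⟩
      · -- 14=(0,0)
        rcases d24 with ⟨rfl, rfl⟩ | ⟨rfl, rfl⟩ | ⟨rfl, rfl⟩ | ⟨rfl, rfl⟩ | ⟨rfl, rfl⟩ | ⟨rfl, rfl⟩
        · -- 24=(0,0)
          rcases d34 with ⟨rfl, rfl⟩ | ⟨rfl, rfl⟩ | ⟨rfl, rfl⟩ | ⟨rfl, rfl⟩ | ⟨rfl, rfl⟩ | ⟨rfl, rfl⟩
          · -- 34=(0,0)
            exfalso; omega
          · -- 34=(1,1)
            exfalso; omega
          · -- 34=(1,2)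
            refine ⟨(⟨![0, 1, 2, 3, 4], ![0, 1, 2, 3, 4], by decide, by decide⟩ : Equiv.Perm (Fin 5)), T.m 0, T.w 0, Or.inr (Or.inr (Or.inr (Or.inr (Or.inl ?_))))⟩
            show T.m 0 = T.m 0 ∧ T.m 1 = T.m 0 ∧ T.m 2 = T.m 0 ∧ T.m 3 = T.m 0 ∧ T.m 4 = T.m 0 ∧ T.w 0 = T.w 0 ∧ T.w 1 = 2 * T.w 0 ∧ T.w 2 = 2 * T.w 0 ∧ T.w 3 = 2 * T.w 0 ∧ T.w 4 = T.w 0 ∧ T.a 0 0 = -2 * T.w 0 ∧ T.a 0 1 = 2 * T.w 0 ∧ T.a 0 2 = 0 ∧ T.a 0 3 = 0 ∧ T.a 0 4 = 0 ∧ T.a 1 1 = -4 * T.w 0 ∧ T.a 1 2 = 2 * T.w 0 ∧ T.a 1 3 = 0 ∧ T.a 1 4 = 0 ∧ T.a 2 2 = -4 * T.w 0 ∧ T.a 2 3 = 2 * T.w 0 ∧ T.a 2 4 = 0 ∧ T.a 3 3 = -4 * T.w 0 ∧ T.a 3 4 = 2 * T.w 0 ∧ T.a 4 4 = -2 * T.w 0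
            refine ⟨?_, ?_, ?_, ?_, ?_, ?_, ?_, ?_, ?_, ?_, ?_, ?_, ?_, ?_, ?_, ?_, ?_, ?_, ?_, ?_, ?_, ?_, ?_, ?_, ?_⟩ <;> omega
          · -- 34=(2,1)
            refine ⟨(⟨![0, 1, 2, 3, 4], ![0, 1, 2, 3, 4], by decide, by decide⟩ : Equiv.Perm (Fin 5)), T.m 4, T.w 0, Or.inr (Or.inr (Or.inr (Or.inl ?_)))⟩
            show T.m 0 = 2 * T.m 4 ∧ T.m 1 = 2 * T.m 4 ∧ T.m 2 = 2 * T.m 4 ∧ T.m 3 = 2 * T.m 4 ∧ T.m 4 = T.m 4 ∧ T.w 0 = T.w 0 ∧ T.w 1 = 2 * T.w 0 ∧ T.w 2 = 2 * T.w 0 ∧ T.w 3 = 2 * T.w 0 ∧ T.w 4 = 4 * T.w 0 ∧ T.a 0 0 = -2 * T.w 0 ∧ T.a 0 1 = 2 * T.w 0 ∧ T.a 0 2 = 0 ∧ T.a 0 3 = 0 ∧ T.a 0 4 = 0 ∧ T.a 1 1 = -4 * T.w 0 ∧ T.a 1 2 = 2 * T.w 0 ∧ T.a 1 3 = 0 ∧ T.a 1 4 = 0 ∧ T.a 2 2 = -4 * T.w 0 ∧ T.a 2 3 = 2 * T.w 0 ∧ T.a 2 4 = 0 ∧ T.a 3 3 = -4 * T.w 0 ∧ T.a 3 4 = 4 * T.w 0 ∧ T.a 4 4 = -8 * T.w 0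
            refine ⟨?_, ?_, ?_, ?_, ?_, ?_, ?_, ?_, ?_, ?_, ?_, ?_, ?_, ?_, ?_, ?_, ?_, ?_, ?_, ?_, ?_, ?_, ?_, ?_, ?_⟩ <;> omega
          · -- 34=(1,3)
            exact False.elim (cert_false T ((skipEmb 1).trans (Function.Embedding.refl _)) (by norm_num) (fun _ => hall _) (((((LB_zero T ((skipEmb 1).trans (Function.Embedding.refl _))).upd 1 2 1 (le_of_eq hx23)).upd 2 1 1 (le_of_eq hx32)).upd 2 3 1 (le_of_eq hx34)).upd 3 2 3 (le_of_eq hx43)) ![0,1,2,3] (by decide) (by decide) 1 (by decide))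
          · -- 34=(3,1)
            exact False.elim (cert_false T ((skipEmb 1).trans (Function.Embedding.refl _)) (by norm_num) (fun _ => hall _) (((((LB_zero T ((skipEmb 1).trans (Function.Embedding.refl _))).upd 1 2 1 (le_of_eq hx23)).upd 2 1 1 (le_of_eq hx32)).upd 2 3 3 (le_of_eq hx34)).upd 3 2 1 (le_of_eq hx43)) ![0,1,2,1] (by decide) (by decide) 1 (by decide))
        · -- 24=(1,1)
          rcases d34 with ⟨rfl, rfl⟩ | ⟨rfl, rfl⟩ | ⟨rfl, rfl⟩ | ⟨rfl, rfl⟩ | ⟨rfl, rfl⟩ | ⟨rfl, rfl⟩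
          · -- 34=(0,0)
            refine ⟨(⟨![0, 1, 2, 3, 4], ![0, 1, 2, 3, 4], by decide, by decide⟩ : Equiv.Perm (Fin 5)), T.m 3, T.w 0, Or.inr (Or.inr (Or.inr (Or.inr (Or.inr (Or.inr (Or.inr (Or.inr (?_))))))))⟩
            show T.m 0 = 2 * T.m 3 ∧ T.m 1 = 2 * T.m 3 ∧ T.m 2 = 2 * T.m 3 ∧ T.m 3 = T.m 3 ∧ T.m 4 = T.m 3 ∧ T.w 0 = T.w 0 ∧ T.w 1 = 2 * T.w 0 ∧ T.w 2 = 2 * T.w 0 ∧ T.w 3 = 2 * T.w 0 ∧ T.w 4 = 2 * T.w 0 ∧ T.a 0 0 = -2 * T.w 0 ∧ T.a 0 1 = 2 * T.w 0 ∧ T.a 0 2 = 0 ∧ T.a 0 3 = 0 ∧ T.a 0 4 = 0 ∧ T.a 1 1 = -4 * T.w 0 ∧ T.a 1 2 = 2 * T.w 0 ∧ T.a 1 3 = 0 ∧ T.a 1 4 = 0 ∧ T.a 2 2 = -4 * T.w 0 ∧ T.a 2 3 = 2 * T.w 0 ∧ T.a 2 4 = 2 * T.w 0 ∧ T.a 3 3 = -4 * T.w 0 ∧ T.a 3 4 = 0 ∧ T.a 4 4 = -4 * T.w 0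
            refine ⟨?_, ?_, ?_, ?_, ?_, ?_, ?_, ?_, ?_, ?_, ?_, ?_, ?_, ?_, ?_, ?_, ?_, ?_, ?_, ?_, ?_, ?_, ?_, ?_, ?_⟩ <;> omega
          · -- 34=(1,1)
            exact False.elim (cert_false T ((skipEmb 1).trans (Function.Embedding.refl _)) (by norm_num) (fun _ => hall _) (((((((LB_zero T ((skipEmb 1).trans (Function.Embedding.refl _))).upd 1 2 1 (le_of_eq hx23)).upd 1 3 1 (le_of_eq hx24)).upd 2 1 1 (le_of_eq hx32)).upd 2 3 1 (le_of_eq hx34)).upd 3 1 1 (le_of_eq hx42)).upd 3 2 1 (le_of_eq hx43)) ![0,1,1,1] (by decide) (by decide) 1 (by decide))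
          · -- 34=(1,2)
            exact False.elim (cert_false T ((skipEmb 1).trans (Function.Embedding.refl _)) (by norm_num) (fun _ => hall _) (((((((LB_zero T ((skipEmb 1).trans (Function.Embedding.refl _))).upd 1 2 1 (le_of_eq hx23)).upd 1 3 1 (le_of_eq hx24)).upd 2 1 1 (le_of_eq hx32)).upd 2 3 1 (le_of_eq hx34)).upd 3 1 1 (le_of_eq hx42)).upd 3 2 2 (le_of_eq hx43)) ![0,1,1,1] (by decide) (by decide) 1 (by decide))
          · -- 34=(2,1)
            exact False.elim (cert_false T ((skipEmb 1).trans (Function.Embedding.refl _)) (by norm_num) (fun _ => hall _) (((((((LB_zero T ((skipEmb 1).trans (Function.Embedding.refl _))).upd 1 2 1 (le_of_eq hx23)).upd 1 3 1 (le_of_eq hx24)).upd 2 1 1 (le_of_eq hx32)).upd 2 3 2 (le_of_eq hx34)).upd 3 1 1 (le_of_eq hx42)).upd 3 2 1 (le_of_eq hx43)) ![0,1,1,1] (by decide) (by decide) 1 (by decide))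
          · -- 34=(1,3)
            exact False.elim (cert_false T ((skipEmb 1).trans (Function.Embedding.refl _)) (by norm_num) (fun _ => hall _) (((((((LB_zero T ((skipEmb 1).trans (Function.Embedding.refl _))).upd 1 2 1 (le_of_eq hx23)).upd 1 3 1 (le_of_eq hx24)).upd 2 1 1 (le_of_eq hx32)).upd 2 3 1 (le_of_eq hx34)).upd 3 1 1 (le_of_eq hx42)).upd 3 2 3 (le_of_eq hx43)) ![0,1,1,1] (by decide) (by decide) 1 (by decide))
          · -- 34=(3,1)
            exact False.elim (cert_false T ((skipEmb 1).trans (Function.Embedding.refl _)) (by norm_num) (fun _ => hall _) (((((((LB_zero T ((skipEmb 1).trans (Function.Embedding.refl _))).upd 1 2 1 (le_of_eq hx23)).upd 1 3 1 (le_of_eq hx24)).upd 2 1 1 (le_of_eq hx32)).upd 2 3 3 (le_of_eq hx34)).upd 3 1 1 (le_of_eq hx42)).upd 3 2 1 (le_of_eq hx43)) ![0,1,1,1] (by decide) (by decide) 1 (by decide))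
        · -- 24=(1,2)
          exact False.elim (cert_false T ((skipEmb 3).trans (Function.Embedding.refl _)) (by norm_num) (fun _ => hall _) (((((((LB_zero T ((skipEmb 3).trans (Function.Embedding.refl _))).upd 0 1 2 (le_of_eq hx01)).upd 1 0 1 (le_of_eq hx10)).upd 1 2 1 (le_of_eq hx12)).upd 2 1 1 (le_of_eq hx21)).upd 2 3 1 (le_of_eq hx24)).upd 3 2 2 (le_of_eq hx42)) ![1,1,1,1] (by decide) (by decide) 0 (by decide))
        · -- 24=(2,1)
          exact False.elim (cert_false T ((skipEmb 3).trans (Function.Embedding.refl _)) (by norm_num) (fun _ => hall _) (((((((LB_zero T ((skipEmb 3).trans (Function.Embedding.refl _))).upd 0 1 2 (le_of_eq hx01)).upd 1 0 1 (le_of_eq hx10)).upd 1 2 1 (le_of_eq hx12)).upd 2 1 1 (le_of_eq hx21)).upd 2 3 2 (le_of_eq hx24)).upd 3 2 1 (le_of_eq hx42)) ![2,2,2,1] (by decide) (by decide) 0 (by decide))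
        · -- 24=(1,3)
          exact False.elim (cert_false T ((skipEmb 3).trans (Function.Embedding.refl _)) (by norm_num) (fun _ => hall _) (((((((LB_zero T ((skipEmb 3).trans (Function.Embedding.refl _))).upd 0 1 2 (le_of_eq hx01)).upd 1 0 1 (le_of_eq hx10)).upd 1 2 1 (le_of_eq hx12)).upd 2 1 1 (le_of_eq hx21)).upd 2 3 1 (le_of_eq hx24)).upd 3 2 3 (le_of_eq hx42)) ![1,1,1,1] (by decide) (by decide) 0 (by decide))
        · -- 24=(3,1)
          exact False.elim (cert_false T ((skipEmb 3).trans (Function.Embedding.refl _)) (by norm_num) (fun _ => hall _) (((((LB_zero T ((skipEmb 3).trans (Function.Embedding.refl _))).upd 1 2 1 (le_of_eq hx12)).upd 2 1 1 (le_of_eq hx21)).upd 2 3 3 (le_of_eq hx24)).upd 3 2 1 (le_of_eq hx42)) ![0,1,2,1] (by decide) (by decide) 1 (by decide))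
      · -- 14=(1,1)
        exact False.elim (cert_false T ((skipEmb 3).trans (Function.Embedding.refl _)) (by norm_num) (fun _ => hall _) (((((((LB_zero T ((skipEmb 3).trans (Function.Embedding.refl _))).upd 0 1 2 (le_of_eq hx01)).upd 1 0 1 (le_of_eq hx10)).upd 1 2 1 (le_of_eq hx12)).upd 1 3 1 (le_of_eq hx14)).upd 2 1 1 (le_of_eq hx21)).upd 3 1 1 (le_of_eq hx41)) ![2,2,1,1] (by decide) (by decide) 0 (by decide))
      · -- 14=(1,2)
        exact False.elim (cert_false T ((skipEmb 3).trans (Function.Embedding.refl _)) (by norm_num) (fun _ => hall _) (((((LB_zero T ((skipEmb 3).trans (Function.Embedding.refl _))).upd 0 1 2 (le_of_eq hx01)).upd 1 0 1 (le_of_eq hx10)).upd 1 3 1 (le_of_eq hx14)).upd 3 1 2 (le_of_eq hx41)) ![1,1,0,1] (by decide) (by decide) 0 (by decide))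
      · -- 14=(2,1)
        exact False.elim (cert_false T ((skipEmb 3).trans (Function.Embedding.refl _)) (by norm_num) (fun _ => hall _) (((((((LB_zero T ((skipEmb 3).trans (Function.Embedding.refl _))).upd 0 1 2 (le_of_eq hx01)).upd 1 0 1 (le_of_eq hx10)).upd 1 2 1 (le_of_eq hx12)).upd 1 3 2 (le_of_eq hx14)).upd 2 1 1 (le_of_eq hx21)).upd 3 1 1 (le_of_eq hx41)) ![1,2,1,1] (by decide) (by decide) 0 (by decide))
      · -- 14=(1,3)
        exact False.elim (cert_false T ((skipEmb 3).trans (Function.Embedding.refl _)) (by norm_num) (fun _ => hall _) (((((LB_zero T ((skipEmb 3).trans (Function.Embedding.refl _))).upd 0 1 2 (le_of_eq hx01)).upd 1 0 1 (le_of_eq hx10)).upd 1 3 1 (le_of_eq hx14)).upd 3 1 3 (le_of_eq hx41)) ![1,1,0,1] (by decide) (by decide) 0 (by decide))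
      · -- 14=(3,1)
        exact False.elim (cert_false T ((skipEmb 3).trans (Function.Embedding.refl _)) (by norm_num) (fun _ => hall _) (((((LB_zero T ((skipEmb 3).trans (Function.Embedding.refl _))).upd 1 2 1 (le_of_eq hx12)).upd 1 3 3 (le_of_eq hx14)).upd 2 1 1 (le_of_eq hx21)).upd 3 1 1 (le_of_eq hx41)) ![0,2,1,1] (by decide) (by decide) 1 (by decide))
    · -- 04=(1,1)
      rcases d14 with ⟨rfl, rfl⟩ | ⟨rfl, rfl⟩ | ⟨rfl, rfl⟩ | ⟨rfl, rfl⟩ | ⟨rfl, rfl⟩ | ⟨rfl, rfl⟩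
      · -- 14=(0,0)
        rcases d24 with ⟨rfl, rfl⟩ | ⟨rfl, rfl⟩ | ⟨rfl, rfl⟩ | ⟨rfl, rfl⟩ | ⟨rfl, rfl⟩ | ⟨rfl, rfl⟩
        · -- 24=(0,0)
          rcases d34 with ⟨rfl, rfl⟩ | ⟨rfl, rfl⟩ | ⟨rfl, rfl⟩ | ⟨rfl, rfl⟩ | ⟨rfl, rfl⟩ | ⟨rfl, rfl⟩
          · -- 34=(0,0)
            refine ⟨(⟨![3, 2, 1, 0, 4], ![3, 2, 1, 0, 4], by decide, by decide⟩ : Equiv.Perm (Fin 5)), T.m 3, T.w 0, Or.inr (Or.inr (Or.inl ?_))⟩
            show T.m 3 = T.m 3 ∧ T.m 2 = 2 * T.m 3 ∧ T.m 1 = 3 * T.m 3 ∧ T.m 0 = 4 * T.m 3 ∧ T.m 4 = 2 * T.m 3 ∧ T.w 3 = 2 * T.w 0 ∧ T.w 2 = 2 * T.w 0 ∧ T.w 1 = 2 * T.w 0 ∧ T.w 0 = T.w 0 ∧ T.w 4 = T.w 0 ∧ T.a 3 3 = -4 * T.w 0 ∧ T.a 3 2 = 2 * T.w 0 ∧ T.a 3 1 = 0 ∧ T.a 3 0 = 0 ∧ T.a 3 4 = 0 ∧ T.a 2 2 = -4 * T.w 0 ∧ T.a 2 1 = 2 * T.w 0 ∧ T.a 2 0 = 0 ∧ T.a 2 4 = 0 ∧ T.a 1 1 = -4 * T.w 0 ∧ T.a 1 0 = 2 * T.w 0 ∧ T.a 1 4 = 0 ∧ T.a 0 0 = -2 * T.w 0 ∧ T.a 0 4 = T.w 0 ∧ T.a 4 4 = -2 * T.w 0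
            refine ⟨?_, ?_, ?_, ?_, ?_, ?_, ?_, ?_, ?_, ?_, ?_, ?_, ?_, ?_, ?_, ?_, ?_, ?_, ?_, ?_, ?_, ?_, ?_, ?_, ?_⟩ <;> omega
          · -- 34=(1,1)
            exfalso; omega
          · -- 34=(1,2)
            exact False.elim (cert_false T ((skipEmb 2).trans (Function.Embedding.refl _)) (by norm_num) (fun _ => hall _) (((((((LB_zero T ((skipEmb 2).trans (Function.Embedding.refl _))).upd 0 1 2 (le_of_eq hx01)).upd 0 3 1 (le_of_eq hx04)).upd 1 0 1 (le_of_eq hx10)).upd 2 3 1 (le_of_eq hx34)).upd 3 0 1 (le_of_eq hx40)).upd 3 2 2 (le_of_eq hx43)) ![2,1,1,2] (by decide) (by decide) 0 (by decide))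
          · -- 34=(2,1)
            exact False.elim (cert_false T ((skipEmb 2).trans (Function.Embedding.refl _)) (by norm_num) (fun _ => hall _) (((((((LB_zero T ((skipEmb 2).trans (Function.Embedding.refl _))).upd 0 1 2 (le_of_eq hx01)).upd 0 3 1 (le_of_eq hx04)).upd 1 0 1 (le_of_eq hx10)).upd 2 3 2 (le_of_eq hx34)).upd 3 0 1 (le_of_eq hx40)).upd 3 2 1 (le_of_eq hx43)) ![2,1,2,2] (by decide) (by decide) 0 (by decide))
          · -- 34=(1,3)
            exact False.elim (cert_false T ((skipEmb 2).trans (Function.Embedding.refl _)) (by norm_num) (fun _ => hall _) (((((LB_zero T ((skipEmb 2).trans (Function.Embedding.refl _))).upd 0 3 1 (le_of_eq hx04)).upd 2 3 1 (le_of_eq hx34)).upd 3 0 1 (le_of_eq hx40)).upd 3 2 3 (le_of_eq hx43)) ![1,0,1,2] (by decide) (by decide) 0 (by decide))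
          · -- 34=(3,1)
            exact False.elim (cert_false T ((skipEmb 2).trans (Function.Embedding.refl _)) (by norm_num) (fun _ => hall _) (((((((LB_zero T ((skipEmb 2).trans (Function.Embedding.refl _))).upd 0 1 2 (le_of_eq hx01)).upd 0 3 1 (le_of_eq hx04)).upd 1 0 1 (le_of_eq hx10)).upd 2 3 3 (le_of_eq hx34)).upd 3 0 1 (le_of_eq hx40)).upd 3 2 1 (le_of_eq hx43)) ![2,1,2,2] (by decide) (by decide) 0 (by decide))
        · -- 24=(1,1)
          exact False.elim (cert_false T ((skipEmb 3).trans (Function.Embedding.refl _)) (by norm_num) (fun _ => hall _) (((((((((LB_zero T ((skipEmb 3).trans (Function.Embedding.refl _))).upd 0 1 2 (le_of_eq hx01)).upd 0 3 1 (le_of_eq hx04)).upd 1 0 1 (le_of_eq hx10)).upd 1 2 1 (le_of_eq hx12)).upd 2 1 1 (le_of_eq hx21)).upd 2 3 1 (le_of_eq hx24)).upd 3 0 1 (le_of_eq hx40)).upd 3 2 1 (le_of_eq hx42)) ![1,1,1,1] (by decide) (by decide) 0 (by decide))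
        · -- 24=(1,2)
          exact False.elim (cert_false T ((skipEmb 3).trans (Function.Embedding.refl _)) (by norm_num) (fun _ => hall _) (((((((((LB_zero T ((skipEmb 3).trans (Function.Embedding.refl _))).upd 0 1 2 (le_of_eq hx01)).upd 0 3 1 (le_of_eq hx04)).upd 1 0 1 (le_of_eq hx10)).upd 1 2 1 (le_of_eq hx12)).upd 2 1 1 (le_of_eq hx21)).upd 2 3 1 (le_of_eq hx24)).upd 3 0 1 (le_of_eq hx40)).upd 3 2 2 (le_of_eq hx42)) ![1,1,1,1] (by decide) (by decide) 0 (by decide))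
        · -- 24=(2,1)
          exact False.elim (cert_false T ((skipEmb 3).trans (Function.Embedding.refl _)) (by norm_num) (fun _ => hall _) (((((((((LB_zero T ((skipEmb 3).trans (Function.Embedding.refl _))).upd 0 1 2 (le_of_eq hx01)).upd 0 3 1 (le_of_eq hx04)).upd 1 0 1 (le_of_eq hx10)).upd 1 2 1 (le_of_eq hx12)).upd 2 1 1 (le_of_eq hx21)).upd 2 3 2 (le_of_eq hx24)).upd 3 0 1 (le_of_eq hx40)).upd 3 2 1 (le_of_eq hx42)) ![1,1,1,1] (by decide) (by decide) 0 (by decide))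
        · -- 24=(1,3)
          exact False.elim (cert_false T ((skipEmb 3).trans (Function.Embedding.refl _)) (by norm_num) (fun _ => hall _) (((((((((LB_zero T ((skipEmb 3).trans (Function.Embedding.refl _))).upd 0 1 2 (le_of_eq hx01)).upd 0 3 1 (le_of_eq hx04)).upd 1 0 1 (le_of_eq hx10)).upd 1 2 1 (le_of_eq hx12)).upd 2 1 1 (le_of_eq hx21)).upd 2 3 1 (le_of_eq hx24)).upd 3 0 1 (le_of_eq hx40)).upd 3 2 3 (le_of_eq hx42)) ![1,1,1,1] (by decide) (by decide) 0 (by decide))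
        · -- 24=(3,1)
          exact False.elim (cert_false T ((skipEmb 3).trans (Function.Embedding.refl _)) (by norm_num) (fun _ => hall _) (((((((((LB_zero T ((skipEmb 3).trans (Function.Embedding.refl _))).upd 0 1 2 (le_of_eq hx01)).upd 0 3 1 (le_of_eq hx04)).upd 1 0 1 (le_of_eq hx10)).upd 1 2 1 (le_of_eq hx12)).upd 2 1 1 (le_of_eq hx21)).upd 2 3 3 (le_of_eq hx24)).upd 3 0 1 (le_of_eq hx40)).upd 3 2 1 (le_of_eq hx42)) ![1,1,1,1] (by decide) (by decide) 0 (by decide))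
      · -- 14=(1,1)
        exact False.elim (cert_false T ((skipEmb 3).trans (Function.Embedding.refl _)) (by norm_num) (fun _ => hall _) (((((((LB_zero T ((skipEmb 3).trans (Function.Embedding.refl _))).upd 0 1 2 (le_of_eq hx01)).upd 0 3 1 (le_of_eq hx04)).upd 1 0 1 (le_of_eq hx10)).upd 1 3 1 (le_of_eq hx14)).upd 3 0 1 (le_of_eq hx40)).upd 3 1 1 (le_of_eq hx41)) ![1,1,0,1] (by decide) (by decide) 0 (by decide))
      · -- 14=(1,2)
        exact False.elim (cert_false T ((skipEmb 3).trans (Function.Embedding.refl _)) (by norm_num) (fun _ => hall _) (((((((LB_zero T ((skipEmb 3).trans (Function.Embedding.refl _))).upd 0 1 2 (le_of_eq hx01)).upd 0 3 1 (le_of_eq hx04)).upd 1 0 1 (le_of_eq hx10)).upd 1 3 1 (le_of_eq hx14)).upd 3 0 1 (le_of_eq hx40)).upd 3 1 2 (le_of_eq hx41)) ![1,1,0,1] (by decide) (by decide) 0 (by decide))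
      · -- 14=(2,1)
        exact False.elim (cert_false T ((skipEmb 3).trans (Function.Embedding.refl _)) (by norm_num) (fun _ => hall _) (((((((LB_zero T ((skipEmb 3).trans (Function.Embedding.refl _))).upd 0 1 2 (le_of_eq hx01)).upd 0 3 1 (le_of_eq hx04)).upd 1 0 1 (le_of_eq hx10)).upd 1 3 2 (le_of_eq hx14)).upd 3 0 1 (le_of_eq hx40)).upd 3 1 1 (le_of_eq hx41)) ![1,1,0,1] (by decide) (by decide) 0 (by decide))
      · -- 14=(1,3)
        exact False.elim (cert_false T ((skipEmb 3).trans (Function.Embedding.refl _)) (by norm_num) (fun _ => hall _) (((((((LB_zero T ((skipEmb 3).trans (Function.Embedding.refl _))).upd 0 1 2 (le_of_eq hx01)).upd 0 3 1 (le_of_eq hx04)).upd 1 0 1 (le_of_eq hx10)).upd 1 3 1 (le_of_eq hx14)).upd 3 0 1 (le_of_eq hx40)).upd 3 1 3 (le_of_eq hx41)) ![1,1,0,1] (by decide) (by decide) 0 (by decide))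
      · -- 14=(3,1)
        exact False.elim (cert_false T ((skipEmb 3).trans (Function.Embedding.refl _)) (by norm_num) (fun _ => hall _) (((((((LB_zero T ((skipEmb 3).trans (Function.Embedding.refl _))).upd 0 1 2 (le_of_eq hx01)).upd 0 3 1 (le_of_eq hx04)).upd 1 0 1 (le_of_eq hx10)).upd 1 3 3 (le_of_eq hx14)).upd 3 0 1 (le_of_eq hx40)).upd 3 1 1 (le_of_eq hx41)) ![1,1,0,1] (by decide) (by decide) 0 (by decide))
    · -- 04=(1,2)
      exact False.elim (cert_false T ((skipEmb 3).trans (Function.Embedding.refl _)) (by norm_num) (fun _ => hall _) (((((LB_zero T ((skipEmb 3).trans (Function.Embedding.refl _))).upd 0 1 2 (le_of_eq hx01)).upd 0 3 1 (le_of_eq hx04)).upd 1 0 1 (le_of_eq hx10)).upd 3 0 2 (le_of_eq hx40)) ![2,1,0,2] (by decide) (by decide) 0 (by decide))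
    · -- 04=(2,1)
      exact False.elim (cert_false T ((skipEmb 3).trans (Function.Embedding.refl _)) (by norm_num) (fun _ => hall _) (((((LB_zero T ((skipEmb 3).trans (Function.Embedding.refl _))).upd 0 1 2 (le_of_eq hx01)).upd 0 3 2 (le_of_eq hx04)).upd 1 0 1 (le_of_eq hx10)).upd 3 0 1 (le_of_eq hx40)) ![2,1,0,1] (by decide) (by decide) 0 (by decide))
    · -- 04=(1,3)
      exact False.elim (cert_false T ((skipEmb 3).trans (Function.Embedding.refl _)) (by norm_num) (fun _ => hall _) (((((LB_zero T ((skipEmb 3).trans (Function.Embedding.refl _))).upd 0 1 2 (le_of_eq hx01)).upd 0 3 1 (le_of_eq hx04)).upd 1 0 1 (le_of_eq hx10)).upd 3 0 3 (le_of_eq hx40)) ![2,1,0,2] (by decide) (by decide) 0 (by decide))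
    · -- 04=(3,1)
      exact False.elim (cert_false T ((skipEmb 3).trans (Function.Embedding.refl _)) (by norm_num) (fun _ => hall _) (((((LB_zero T ((skipEmb 3).trans (Function.Embedding.refl _))).upd 0 1 2 (le_of_eq hx01)).upd 0 3 3 (le_of_eq hx04)).upd 1 0 1 (le_of_eq hx10)).upd 3 0 1 (le_of_eq hx40)) ![2,1,0,1] (by decide) (by decide) 0 (by decide))
  · -- 23=(1,2)
    exact False.elim (cert_false T ((skipEmb 4).trans (Function.Embedding.refl _)) (by norm_num) (fun _ => hall _) (((((((LB_zero T ((skipEmb 4).trans (Function.Embedding.refl _))).upd 0 1 2 (le_of_eq hx01)).upd 1 0 1 (le_of_eq hx10)).upd 1 2 1 (le_of_eq hx12)).upd 2 1 1 (le_of_eq hx21)).upd 2 3 1 (le_of_eq hx23)).upd 3 2 2 (le_of_eq hx32)) ![1,1,1,1] (by decide) (by decide) 0 (by decide))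
  · -- 23=(2,1)
    exact False.elim (cert_false T ((skipEmb 4).trans (Function.Embedding.refl _)) (by norm_num) (fun _ => hall _) (((((((LB_zero T ((skipEmb 4).trans (Function.Embedding.refl _))).upd 0 1 2 (le_of_eq hx01)).upd 1 0 1 (le_of_eq hx10)).upd 1 2 1 (le_of_eq hx12)).upd 2 1 1 (le_of_eq hx21)).upd 2 3 2 (le_of_eq hx23)).upd 3 2 1 (le_of_eq hx32)) ![2,2,2,1] (by decide) (by decide) 0 (by decide))
  · -- 23=(1,3)
    exact False.elim (cert_false T ((skipEmb 4).trans (Function.Embedding.refl _)) (by norm_num) (fun _ => hall _) (((((((LB_zero T ((skipEmb 4).trans (Function.Embedding.refl _))).upd 0 1 2 (le_of_eq hx01)).upd 1 0 1 (le_of_eq hx10)).upd 1 2 1 (le_of_eq hx12)).upd 2 1 1 (le_of_eq hx21)).upd 2 3 1 (le_of_eq hx23)).upd 3 2 3 (le_of_eq hx32)) ![1,1,1,1] (by decide) (by decide) 0 (by decide))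
  · -- 23=(3,1)
    exact False.elim (cert_false T ((skipEmb 4).trans (Function.Embedding.refl _)) (by norm_num) (fun _ => hall _) (((((LB_zero T ((skipEmb 4).trans (Function.Embedding.refl _))).upd 1 2 1 (le_of_eq hx12)).upd 2 1 1 (le_of_eq hx21)).upd 2 3 3 (le_of_eq hx23)).upd 3 2 1 (le_of_eq hx32)) ![0,1,2,1] (by decide) (by decide) 1 (by decide))

end Groth.Agent.Lib.helper11.G5
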