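import Groth.Agent.Lib.helper11.G5.Setup

set_option autoImplicit false
set_option maxRecDepth 4000

namespace Groth.Agent.Lib.helper11.G5

open Models Groth.Agent.Lib.helper11.NumType

theorem case23 (T : NumericalType 5) (hall : ∀ i, T.IsMinusTwo i) (d : SData T)
    (h01 : N T (Function.Embedding.refl _) 0 1 = 0) (h10 : N T (Function.Embedding.refl _) 1 0 = 0)
    (h02 : N T (Function.Embedding.refl _) 0 2 = 0) (h20 : N T (Function.Embedding.refl _) 2 0 = 0)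
    (h12 : N T (Function.Embedding.refl _) 1 2 = 0) (h21 : N T (Function.Embedding.refl _) 2 1 = 0)
    (h03 : N T (Function.Embedding.refl _) 0 3 = 0) (h30 : N T (Function.Embedding.refl _) 3 0 = 0)
    (h13 : N T (Function.Embedding.refl _) 1 3 = 1) (h31 : N T (Function.Embedding.refl _) 3 1 = 1)
    (h23 : N T (Function.Embedding.refl _) 2 3 = 0) (h32 : N T (Function.Embedding.refl _) 3 2 = 0)
    (h04 : N T (Function.Embedding.refl _) 0 4 = 0) (h40 : N T (Function.Embedding.refl _) 4 0 = 0) :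
    Goal T := by
  unfold Goal
  have hd := d
  obtain ⟨x01, x02, x03, x04, x10, x12, x13, x14, x20, x21, x23, x24, x30, x31, x32, x34, x40, x41, x42, x43, hx01, hx02, hx03, hx04, hx10, hx12, hx13, hx14, hx20, hx21, hx23, hx24, hx30, hx31, hx32, hx34, hx40, hx41, hx42, hx43, hw0, hm0, hw1, hm1, hw2, hm2, hw3, hm3, hw4, hm4, a00, a01, a02, a03, a04, a11, a10, a12, a13, a14, a22, a20, a21, a23, a24, a33, a30, a31, a32, a34, a44, a40, a41, a42, a43, wN01, wN02, wN12, wN03, wN13, wN23, wN04, wN14, wN24, wN34, e0, e1, e2, e3, e4, d01, d02, d12, d03, d13, d23, d04, d14, d24, d34⟩ := d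
  obtain rfl : x01 = 0 := hx01.trans h01
  obtain rfl : x10 = 0 := hx10.trans h10
  obtain rfl : x02 = 0 := hx02.trans h02
  obtain rfl : x20 = 0 := hx20.trans h20
  obtain rfl : x12 = 0 := hx12.trans h12
  obtain rfl : x21 = 0 := hx21.trans h21
  obtain rfl : x03 = 0 := hx03.trans h03
  obtain rfl : x30 = 0 := hx30.trans h30
  obtain rfl : x13 = 1 := hx13.trans h13
  obtain rfl : x31 = 1 := hx31.trans h31
  obtain rfl : x23 = 0 := hx23.trans h23
  obtain rfl : x32 = 0 := hx32.trans h32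
  obtain rfl : x04 = 0 := hx04.trans h04
  obtain rfl : x40 = 0 := hx40.trans h40
  rcases d14 with ⟨rfl, rfl⟩ | ⟨rfl, rfl⟩ | ⟨rfl, rfl⟩ | ⟨rfl, rfl⟩ | ⟨rfl, rfl⟩ | ⟨rfl, rfl⟩
  · -- 14=(0,0)
    rcases d24 with ⟨rfl, rfl⟩ | ⟨rfl, rfl⟩ | ⟨rfl, rfl⟩ | ⟨rfl, rfl⟩ | ⟨rfl, rfl⟩ | ⟨rfl, rfl⟩
    · -- 24=(0,0)
      rcases d34 with ⟨rfl, rfl⟩ | ⟨rfl, rfl⟩ | ⟨rfl, rfl⟩ | ⟨rfl, rfl⟩ | ⟨rfl, rfl⟩ | ⟨rfl, rfl⟩
      · -- 34=(0,0)
        exfalso; omega
      · -- 34=(1,1)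
        exfalso; omega
      · -- 34=(1,2)
        exfalso; omega
      · -- 34=(2,1)
        exfalso; omega
      · -- 34=(1,3)
        exact False.elim (cert_false T ((skipEmb 2).trans (Function.Embedding.refl _)) (by norm_num) (fun _ => hall _) (((((LB_zero T ((skipEmb 2).trans (Function.Embedding.refl _))).upd 1 2 1 (le_of_eq hx13)).upd 2 1 1 (le_of_eq hx31)).upd 2 3 1 (le_of_eq hx34)).upd 3 2 3 (le_of_eq hx43)) ![0,1,2,3] (by decide) (by decide) 1 (by decide))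
      · -- 34=(3,1)
        exact False.elim (cert_false T ((skipEmb 2).trans (Function.Embedding.refl _)) (by norm_num) (fun _ => hall _) (((((LB_zero T ((skipEmb 2).trans (Function.Embedding.refl _))).upd 1 2 1 (le_of_eq hx13)).upd 2 1 1 (le_of_eq hx31)).upd 2 3 3 (le_of_eq hx34)).upd 3 2 1 (le_of_eq hx43)) ![0,1,2,1] (by decide) (by decide) 1 (by decide))
    · -- 24=(1,1)
      rcases d34 with ⟨rfl, rfl⟩ | ⟨rfl, rfl⟩ | ⟨rfl, rfl⟩ | ⟨rfl, rfl⟩ | ⟨rfl, rfl⟩ | ⟨rfl, rfl⟩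
      · -- 34=(0,0)
        exfalso; omega
      · -- 34=(1,1)
        exfalso; omega
      · -- 34=(1,2)
        exfalso; omega
      · -- 34=(2,1)
        exfalso; omega
      · -- 34=(1,3)
        exact False.elim (cert_false T ((skipEmb 2).trans (Function.Embedding.refl _)) (by norm_num) (fun _ => hall _) (((((LB_zero T ((skipEmb 2).trans (Function.Embedding.refl _))).upd 1 2 1 (le_of_eq hx13)).upd 2 1 1 (le_of_eq hx31)).upd 2 3 1 (le_of_eq hx34)).upd 3 2 3 (le_of_eq hx43)) ![0,1,2,3] (by decide) (by decide) 1 (by decide))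
      · -- 34=(3,1)
        exact False.elim (cert_false T ((skipEmb 2).trans (Function.Embedding.refl _)) (by norm_num) (fun _ => hall _) (((((LB_zero T ((skipEmb 2).trans (Function.Embedding.refl _))).upd 1 2 1 (le_of_eq hx13)).upd 2 1 1 (le_of_eq hx31)).upd 2 3 3 (le_of_eq hx34)).upd 3 2 1 (le_of_eq hx43)) ![0,1,2,1] (by decide) (by decide) 1 (by decide))
    · -- 24=(1,2)
      rcases d34 with ⟨rfl, rfl⟩ | ⟨rfl, rfl⟩ | ⟨rfl, rfl⟩ | ⟨rfl, rfl⟩ | ⟨rfl, rfl⟩ | ⟨rfl, rfl⟩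
      · -- 34=(0,0)
        exfalso; omega
      · -- 34=(1,1)
        exfalso; omega
      · -- 34=(1,2)
        exact False.elim (cert_false T ((skipEmb 1).trans (Function.Embedding.refl _)) (by norm_num) (fun _ => hall _) (((((LB_zero T ((skipEmb 1).trans (Function.Embedding.refl _))).upd 1 3 1 (le_of_eq hx24)).upd 2 3 1 (le_of_eq hx34)).upd 3 1 2 (le_of_eq hx42)).upd 3 2 2 (le_of_eq hx43)) ![0,1,1,2] (by decide) (by decide) 1 (by decide))
      · -- 34=(2,1)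
        exact False.elim (cert_false T ((skipEmb 1).trans (Function.Embedding.refl _)) (by norm_num) (fun _ => hall _) (((((LB_zero T ((skipEmb 1).trans (Function.Embedding.refl _))).upd 1 3 1 (le_of_eq hx24)).upd 2 3 2 (le_of_eq hx34)).upd 3 1 2 (le_of_eq hx42)).upd 3 2 1 (le_of_eq hx43)) ![0,1,2,2] (by decide) (by decide) 1 (by decide))
      · -- 34=(1,3)
        exact False.elim (cert_false T ((skipEmb 2).trans (Function.Embedding.refl _)) (by norm_num) (fun _ => hall _) (((((LB_zero T ((skipEmb 2).trans (Function.Embedding.refl _))).upd 1 2 1 (le_of_eq hx13)).upd 2 1 1 (le_of_eq hx31)).upd 2 3 1 (le_of_eq hx34)).upd 3 2 3 (le_of_eq hx43)) ![0,1,2,3] (by decide) (by decide) 1 (by decide))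
      · -- 34=(3,1)
        exact False.elim (cert_false T ((skipEmb 2).trans (Function.Embedding.refl _)) (by norm_num) (fun _ => hall _) (((((LB_zero T ((skipEmb 2).trans (Function.Embedding.refl _))).upd 1 2 1 (le_of_eq hx13)).upd 2 1 1 (le_of_eq hx31)).upd 2 3 3 (le_of_eq hx34)).upd 3 2 1 (le_of_eq hx43)) ![0,1,2,1] (by decide) (by decide) 1 (by decide))
    · -- 24=(2,1)
      rcases d34 with ⟨rfl, rfl⟩ | ⟨rfl, rfl⟩ | ⟨rfl, rfl⟩ | ⟨rfl, rfl⟩ | ⟨rfl, rfl⟩ | ⟨rfl, rfl⟩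
      · -- 34=(0,0)
        exfalso; omega
      · -- 34=(1,1)
        exfalso; omega
      · -- 34=(1,2)
        exact False.elim (cert_false T ((skipEmb 1).trans (Function.Embedding.refl _)) (by norm_num) (fun _ => hall _) (((((LB_zero T ((skipEmb 1).trans (Function.Embedding.refl _))).upd 1 3 2 (le_of_eq hx24)).upd 2 3 1 (le_of_eq hx34)).upd 3 1 1 (le_of_eq hx42)).upd 3 2 2 (le_of_eq hx43)) ![0,2,1,2] (by decide) (by decide) 1 (by decide))
      · -- 34=(2,1)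
        exact False.elim (cert_false T ((skipEmb 1).trans (Function.Embedding.refl _)) (by norm_num) (fun _ => hall _) (((((LB_zero T ((skipEmb 1).trans (Function.Embedding.refl _))).upd 1 3 2 (le_of_eq hx24)).upd 2 3 2 (le_of_eq hx34)).upd 3 1 1 (le_of_eq hx42)).upd 3 2 1 (le_of_eq hx43)) ![0,1,1,1] (by decide) (by decide) 1 (by decide))
      · -- 34=(1,3)
        exact False.elim (cert_false T ((skipEmb 2).trans (Function.Embedding.refl _)) (by norm_num) (fun _ => hall _) (((((LB_zero T ((skipEmb 2).trans (Function.Embedding.refl _))).upd 1 2 1 (le_of_eq hx13)).upd 2 1 1 (le_of_eq hx31)).upd 2 3 1 (le_of_eq hx34)).upd 3 2 3 (le_of_eq hx43)) ![0,1,2,3] (by decide) (by decide) 1 (by decide))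
      · -- 34=(3,1)
        exact False.elim (cert_false T ((skipEmb 2).trans (Function.Embedding.refl _)) (by norm_num) (fun _ => hall _) (((((LB_zero T ((skipEmb 2).trans (Function.Embedding.refl _))).upd 1 2 1 (le_of_eq hx13)).upd 2 1 1 (le_of_eq hx31)).upd 2 3 3 (le_of_eq hx34)).upd 3 2 1 (le_of_eq hx43)) ![0,1,2,1] (by decide) (by decide) 1 (by decide))
    · -- 24=(1,3)
      rcases d34 with ⟨rfl, rfl⟩ | ⟨rfl, rfl⟩ | ⟨rfl, rfl⟩ | ⟨rfl, rfl⟩ | ⟨rfl, rfl⟩ | ⟨rfl, rfl⟩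
      · -- 34=(0,0)
        exfalso; omega
      · -- 34=(1,1)
        exact False.elim (cert_false T ((skipEmb 1).trans (Function.Embedding.refl _)) (by norm_num) (fun _ => hall _) (((((LB_zero T ((skipEmb 1).trans (Function.Embedding.refl _))).upd 1 3 1 (le_of_eq hx24)).upd 2 3 1 (le_of_eq hx34)).upd 3 1 3 (le_of_eq hx42)).upd 3 2 1 (le_of_eq hx43)) ![0,1,1,2] (by decide) (by decide) 1 (by decide))
      · -- 34=(1,2)
        exact False.elim (cert_false T ((skipEmb 1).trans (Function.Embedding.refl _)) (by norm_num) (fun _ => hall _) (((((LB_zero T ((skipEmb 1).trans (Function.Embedding.refl _))).upd 1 3 1 (le_of_eq hx24)).upd 2 3 1 (le_of_eq hx34)).upd 3 1 3 (le_of_eq hx42)).upd 3 2 2 (le_of_eq hx43)) ![0,1,1,2] (by decide) (by decide) 1 (by decide))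
      · -- 34=(2,1)
        exact False.elim (cert_false T ((skipEmb 1).trans (Function.Embedding.refl _)) (by norm_num) (fun _ => hall _) (((((LB_zero T ((skipEmb 1).trans (Function.Embedding.refl _))).upd 1 3 1 (le_of_eq hx24)).upd 2 3 2 (le_of_eq hx34)).upd 3 1 3 (le_of_eq hx42)).upd 3 2 1 (le_of_eq hx43)) ![0,1,1,2] (by decide) (by decide) 1 (by decide))
      · -- 34=(1,3)
        exact False.elim (cert_false T ((skipEmb 2).trans (Function.Embedding.refl _)) (by norm_num) (fun _ => hall _) (((((LB_zero T ((skipEmb 2).trans (Function.Embedding.refl _))).upd 1 2 1 (le_of_eq hx13)).upd 2 1 1 (le_of_eq hx31)).upd 2 3 1 (le_of_eq hx34)).upd 3 2 3 (le_of_eq hx43)) ![0,1,2,3] (by decide) (by decide) 1 (by decide))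
      · -- 34=(3,1)
        exact False.elim (cert_false T ((skipEmb 2).trans (Function.Embedding.refl _)) (by norm_num) (fun _ => hall _) (((((LB_zero T ((skipEmb 2).trans (Function.Embedding.refl _))).upd 1 2 1 (le_of_eq hx13)).upd 2 1 1 (le_of_eq hx31)).upd 2 3 3 (le_of_eq hx34)).upd 3 2 1 (le_of_eq hx43)) ![0,1,2,1] (by decide) (by decide) 1 (by decide))
    · -- 24=(3,1)
      rcases d34 with ⟨rfl, rfl⟩ | ⟨rfl, rfl⟩ | ⟨rfl, rfl⟩ | ⟨rfl, rfl⟩ | ⟨rfl, rfl⟩ | ⟨rfl, rfl⟩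
      · -- 34=(0,0)
        exfalso; omega
      · -- 34=(1,1)
        exact False.elim (cert_false T ((skipEmb 1).trans (Function.Embedding.refl _)) (by norm_num) (fun _ => hall _) (((((LB_zero T ((skipEmb 1).trans (Function.Embedding.refl _))).upd 1 3 3 (le_of_eq hx24)).upd 2 3 1 (le_of_eq hx34)).upd 3 1 1 (le_of_eq hx42)).upd 3 2 1 (le_of_eq hx43)) ![0,3,1,2] (by decide) (by decide) 1 (by decide))
      · -- 34=(1,2)
        exact False.elim (cert_false T ((skipEmb 1).trans (Function.Embedding.refl _)) (by norm_num) (fun _ => hall _) (((((LB_zero T ((skipEmb 1).trans (Function.Embedding.refl _))).upd 1 3 3 (le_of_eq hx24)).upd 2 3 1 (le_of_eq hx34)).upd 3 1 1 (le_of_eq hx42)).upd 3 2 2 (le_of_eq hx43)) ![0,2,1,2] (by decide) (by decide) 1 (by decide))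
      · -- 34=(2,1)
        exact False.elim (cert_false T ((skipEmb 1).trans (Function.Embedding.refl _)) (by norm_num) (fun _ => hall _) (((((LB_zero T ((skipEmb 1).trans (Function.Embedding.refl _))).upd 1 3 3 (le_of_eq hx24)).upd 2 3 2 (le_of_eq hx34)).upd 3 1 1 (le_of_eq hx42)).upd 3 2 1 (le_of_eq hx43)) ![0,1,1,1] (by decide) (by decide) 1 (by decide))
      · -- 34=(1,3)
        exact False.elim (cert_false T ((skipEmb 2).trans (Function.Embedding.refl _)) (by norm_num) (fun _ => hall _) (((((LB_zero T ((skipEmb 2).trans (Function.Embedding.refl _))).upd 1 2 1 (le_of_eq hx13)).upd 2 1 1 (le_of_eq hx31)).upd 2 3 1 (le_of_eq hx34)).upd 3 2 3 (le_of_eq hx43)) ![0,1,2,3] (by decide) (by decide) 1 (by decide))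
      · -- 34=(3,1)
        exact False.elim (cert_false T ((skipEmb 2).trans (Function.Embedding.refl _)) (by norm_num) (fun _ => hall _) (((((LB_zero T ((skipEmb 2).trans (Function.Embedding.refl _))).upd 1 2 1 (le_of_eq hx13)).upd 2 1 1 (le_of_eq hx31)).upd 2 3 3 (le_of_eq hx34)).upd 3 2 1 (le_of_eq hx43)) ![0,1,2,1] (by decide) (by decide) 1 (by decide))
  · -- 14=(1,1)
    rcases d24 with ⟨rfl, rfl⟩ | ⟨rfl, rfl⟩ | ⟨rfl, rfl⟩ | ⟨rfl, rfl⟩ | ⟨rfl, rfl⟩ | ⟨rfl, rfl⟩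
    · -- 24=(0,0)
      rcases d34 with ⟨rfl, rfl⟩ | ⟨rfl, rfl⟩ | ⟨rfl, rfl⟩ | ⟨rfl, rfl⟩ | ⟨rfl, rfl⟩ | ⟨rfl, rfl⟩
      · -- 34=(0,0)
        exfalso; omega
      · -- 34=(1,1)
        exact False.elim (cert_false T ((skipEmb 2).trans (Function.Embedding.refl _)) (by norm_num) (fun _ => hall _) (((((((LB_zero T ((skipEmb 2).trans (Function.Embedding.refl _))).upd 1 2 1 (le_of_eq hx13)).upd 1 3 1 (le_of_eq hx14)).upd 2 1 1 (le_of_eq hx31)).upd 2 3 1 (le_of_eq hx34)).upd 3 1 1 (le_of_eq hx41)).upd 3 2 1 (le_of_eq hx43)) ![0,1,1,1] (by decide) (by decide) 1 (by decide))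
      · -- 34=(1,2)
        exact False.elim (cert_false T ((skipEmb 2).trans (Function.Embedding.refl _)) (by norm_num) (fun _ => hall _) (((((((LB_zero T ((skipEmb 2).trans (Function.Embedding.refl _))).upd 1 2 1 (le_of_eq hx13)).upd 1 3 1 (le_of_eq hx14)).upd 2 1 1 (le_of_eq hx31)).upd 2 3 1 (le_of_eq hx34)).upd 3 1 1 (le_of_eq hx41)).upd 3 2 2 (le_of_eq hx43)) ![0,1,1,1] (by decide) (by decide) 1 (by decide))
      · -- 34=(2,1)
        exact False.elim (cert_false T ((skipEmb 2).trans (Function.Embedding.refl _)) (by norm_num) (fun _ => hall _) (((((((LB_zero T ((skipEmb 2).trans (Function.Embedding.refl _))).upd 1 2 1 (le_of_eq hx13)).upd 1 3 1 (le_of_eq hx14)).upd 2 1 1 (le_of_eq hx31)).upd 2 3 2 (le_of_eq hx34)).upd 3 1 1 (le_of_eq hx41)).upd 3 2 1 (le_of_eq hx43)) ![0,1,1,1] (by decide) (by decide) 1 (by decide))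
      · -- 34=(1,3)
        exact False.elim (cert_false T ((skipEmb 2).trans (Function.Embedding.refl _)) (by norm_num) (fun _ => hall _) (((((((LB_zero T ((skipEmb 2).trans (Function.Embedding.refl _))).upd 1 2 1 (le_of_eq hx13)).upd 1 3 1 (le_of_eq hx14)).upd 2 1 1 (le_of_eq hx31)).upd 2 3 1 (le_of_eq hx34)).upd 3 1 1 (le_of_eq hx41)).upd 3 2 3 (le_of_eq hx43)) ![0,1,1,1] (by decide) (by decide) 1 (by decide))
      · -- 34=(3,1)
        exact False.elim (cert_false T ((skipEmb 2).trans (Function.Embedding.refl _)) (by norm_num) (fun _ => hall _) (((((((LB_zero T ((skipEmb 2).trans (Function.Embedding.refl _))).upd 1 2 1 (le_of_eq hx13)).upd 1 3 1 (le_of_eq hx14)).upd 2 1 1 (le_of_eq hx31)).upd 2 3 3 (le_of_eq hx34)).upd 3 1 1 (le_of_eq hx41)).upd 3 2 1 (le_of_eq hx43)) ![0,1,1,1] (by decide) (by decide) 1 (by decide))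
    · -- 24=(1,1)
      rcases d34 with ⟨rfl, rfl⟩ | ⟨rfl, rfl⟩ | ⟨rfl, rfl⟩ | ⟨rfl, rfl⟩ | ⟨rfl, rfl⟩ | ⟨rfl, rfl⟩
      · -- 34=(0,0)
        exfalso; omega
      · -- 34=(1,1)
        exact False.elim (cert_false T ((skipEmb 2).trans (Function.Embedding.refl _)) (by norm_num) (fun _ => hall _) (((((((LB_zero T ((skipEmb 2).trans (Function.Embedding.refl _))).upd 1 2 1 (le_of_eq hx13)).upd 1 3 1 (le_of_eq hx14)).upd 2 1 1 (le_of_eq hx31)).upd 2 3 1 (le_of_eq hx34)).upd 3 1 1 (le_of_eq hx41)).upd 3 2 1 (le_of_eq hx43)) ![0,1,1,1] (by decide) (by decide) 1 (by decide))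
      · -- 34=(1,2)
        exact False.elim (cert_false T ((skipEmb 2).trans (Function.Embedding.refl _)) (by norm_num) (fun _ => hall _) (((((((LB_zero T ((skipEmb 2).trans (Function.Embedding.refl _))).upd 1 2 1 (le_of_eq hx13)).upd 1 3 1 (le_of_eq hx14)).upd 2 1 1 (le_of_eq hx31)).upd 2 3 1 (le_of_eq hx34)).upd 3 1 1 (le_of_eq hx41)).upd 3 2 2 (le_of_eq hx43)) ![0,1,1,1] (by decide) (by decide) 1 (by decide))
      · -- 34=(2,1)
        exact False.elim (cert_false T ((skipEmb 2).trans (Function.Embedding.refl _)) (by norm_num) (fun _ => hall _) (((((((LB_zero T ((skipEmb 2).trans (Function.Embedding.refl _))).upd 1 2 1 (le_of_eq hx13)).upd 1 3 1 (le_of_eq hx14)).upd 2 1 1 (le_of_eq hx31)).upd 2 3 2 (le_of_eq hx34)).upd 3 1 1 (le_of_eq hx41)).upd 3 2 1 (le_of_eq hx43)) ![0,1,1,1] (by decide) (by decide) 1 (by decide))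
      · -- 34=(1,3)
        exact False.elim (cert_false T ((skipEmb 2).trans (Function.Embedding.refl _)) (by norm_num) (fun _ => hall _) (((((((LB_zero T ((skipEmb 2).trans (Function.Embedding.refl _))).upd 1 2 1 (le_of_eq hx13)).upd 1 3 1 (le_of_eq hx14)).upd 2 1 1 (le_of_eq hx31)).upd 2 3 1 (le_of_eq hx34)).upd 3 1 1 (le_of_eq hx41)).upd 3 2 3 (le_of_eq hx43)) ![0,1,1,1] (by decide) (by decide) 1 (by decide))
      · -- 34=(3,1)
        exact False.elim (cert_false T ((skipEmb 2).trans (Function.Embedding.refl _)) (by norm_num) (fun _ => hall _) (((((((LB_zero T ((skipEmb 2).trans (Function.Embedding.refl _))).upd 1 2 1 (le_of_eq hx13)).upd 1 3 1 (le_of_eq hx14)).upd 2 1 1 (le_of_eq hx31)).upd 2 3 3 (le_of_eq hx34)).upd 3 1 1 (le_of_eq hx41)).upd 3 2 1 (le_of_eq hx43)) ![0,1,1,1] (by decide) (by decide) 1 (by decide))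
    · -- 24=(1,2)
      rcases d34 with ⟨rfl, rfl⟩ | ⟨rfl, rfl⟩ | ⟨rfl, rfl⟩ | ⟨rfl, rfl⟩ | ⟨rfl, rfl⟩ | ⟨rfl, rfl⟩
      · -- 34=(0,0)
        exfalso; omega
      · -- 34=(1,1)
        exact False.elim (cert_false T ((skipEmb 2).trans (Function.Embedding.refl _)) (by norm_num) (fun _ => hall _) (((((((LB_zero T ((skipEmb 2).trans (Function.Embedding.refl _))).upd 1 2 1 (le_of_eq hx13)).upd 1 3 1 (le_of_eq hx14)).upd 2 1 1 (le_of_eq hx31)).upd 2 3 1 (le_of_eq hx34)).upd 3 1 1 (le_of_eq hx41)).upd 3 2 1 (le_of_eq hx43)) ![0,1,1,1] (by decide) (by decide) 1 (by decide))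
      · -- 34=(1,2)
        exact False.elim (cert_false T ((skipEmb 2).trans (Function.Embedding.refl _)) (by norm_num) (fun _ => hall _) (((((((LB_zero T ((skipEmb 2).trans (Function.Embedding.refl _))).upd 1 2 1 (le_of_eq hx13)).upd 1 3 1 (le_of_eq hx14)).upd 2 1 1 (le_of_eq hx31)).upd 2 3 1 (le_of_eq hx34)).upd 3 1 1 (le_of_eq hx41)).upd 3 2 2 (le_of_eq hx43)) ![0,1,1,1] (by decide) (by decide) 1 (by decide))
      · -- 34=(2,1)
        exact False.elim (cert_false T ((skipEmb 2).trans (Function.Embedding.refl _)) (by norm_num) (fun _ => hall _) (((((((LB_zero T ((skipEmb 2).trans (Function.Embedding.refl _))).upd 1 2 1 (le_of_eq hx13)).upd 1 3 1 (le_of_eq hx14)).upd 2 1 1 (le_of_eq hx31)).upd 2 3 2 (le_of_eq hx34)).upd 3 1 1 (le_of_eq hx41)).upd 3 2 1 (le_of_eq hx43)) ![0,1,1,1] (by decide) (by decide) 1 (by decide))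
      · -- 34=(1,3)
        exact False.elim (cert_false T ((skipEmb 2).trans (Function.Embedding.refl _)) (by norm_num) (fun _ => hall _) (((((((LB_zero T ((skipEmb 2).trans (Function.Embedding.refl _))).upd 1 2 1 (le_of_eq hx13)).upd 1 3 1 (le_of_eq hx14)).upd 2 1 1 (le_of_eq hx31)).upd 2 3 1 (le_of_eq hx34)).upd 3 1 1 (le_of_eq hx41)).upd 3 2 3 (le_of_eq hx43)) ![0,1,1,1] (by decide) (by decide) 1 (by decide))
      · -- 34=(3,1)
        exact False.elim (cert_false T ((skipEmb 2).trans (Function.Embedding.refl _)) (by norm_num) (fun _ => hall _) (((((((LB_zero T ((skipEmb 2).trans (Function.Embedding.refl _))).upd 1 2 1 (le_of_eq hx13)).upd 1 3 1 (le_of_eq hx14)).upd 2 1 1 (le_of_eq hx31)).upd 2 3 3 (le_of_eq hx34)).upd 3 1 1 (le_of_eq hx41)).upd 3 2 1 (le_of_eq hx43)) ![0,1,1,1] (by decide) (by decide) 1 (by decide))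
    · -- 24=(2,1)
      rcases d34 with ⟨rfl, rfl⟩ | ⟨rfl, rfl⟩ | ⟨rfl, rfl⟩ | ⟨rfl, rfl⟩ | ⟨rfl, rfl⟩ | ⟨rfl, rfl⟩
      · -- 34=(0,0)
        exfalso; omega
      · -- 34=(1,1)
        exact False.elim (cert_false T ((skipEmb 2).trans (Function.Embedding.refl _)) (by norm_num) (fun _ => hall _) (((((((LB_zero T ((skipEmb 2).trans (Function.Embedding.refl _))).upd 1 2 1 (le_of_eq hx13)).upd 1 3 1 (le_of_eq hx14)).upd 2 1 1 (le_of_eq hx31)).upd 2 3 1 (le_of_eq hx34)).upd 3 1 1 (le_of_eq hx41)).upd 3 2 1 (le_of_eq hx43)) ![0,1,1,1] (by decide) (by decide) 1 (by decide))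
      · -- 34=(1,2)
        exact False.elim (cert_false T ((skipEmb 2).trans (Function.Embedding.refl _)) (by norm_num) (fun _ => hall _) (((((((LB_zero T ((skipEmb 2).trans (Function.Embedding.refl _))).upd 1 2 1 (le_of_eq hx13)).upd 1 3 1 (le_of_eq hx14)).upd 2 1 1 (le_of_eq hx31)).upd 2 3 1 (le_of_eq hx34)).upd 3 1 1 (le_of_eq hx41)).upd 3 2 2 (le_of_eq hx43)) ![0,1,1,1] (by decide) (by decide) 1 (by decide))
      · -- 34=(2,1)
        exact False.elim (cert_false T ((skipEmb 2).trans (Function.Embedding.refl _)) (by norm_num) (fun _ => hall _) (((((((LB_zero T ((skipEmb 2).trans (Function.Embedding.refl _))).upd 1 2 1 (le_of_eq hx13)).upd 1 3 1 (le_of_eq hx14)).upd 2 1 1 (le_of_eq hx31)).upd 2 3 2 (le_of_eq hx34)).upd 3 1 1 (le_of_eq hx41)).upd 3 2 1 (le_of_eq hx43)) ![0,1,1,1] (by decide) (by decide) 1 (by decide))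
      · -- 34=(1,3)
        exact False.elim (cert_false T ((skipEmb 2).trans (Function.Embedding.refl _)) (by norm_num) (fun _ => hall _) (((((((LB_zero T ((skipEmb 2).trans (Function.Embedding.refl _))).upd 1 2 1 (le_of_eq hx13)).upd 1 3 1 (le_of_eq hx14)).upd 2 1 1 (le_of_eq hx31)).upd 2 3 1 (le_of_eq hx34)).upd 3 1 1 (le_of_eq hx41)).upd 3 2 3 (le_of_eq hx43)) ![0,1,1,1] (by decide) (by decide) 1 (by decide))
      · -- 34=(3,1)
        exact False.elim (cert_false T ((skipEmb 2).trans (Function.Embedding.refl _)) (by norm_num) (fun _ => hall _) (((((((LB_zero T ((skipEmb 2).trans (Function.Embedding.refl _))).upd 1 2 1 (le_of_eq hx13)).upd 1 3 1 (le_of_eq hx14)).upd 2 1 1 (le_of_eq hx31)).upd 2 3 3 (le_of_eq hx34)).upd 3 1 1 (le_of_eq hx41)).upd 3 2 1 (le_of_eq hx43)) ![0,1,1,1] (by decide) (by decide) 1 (by decide))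
    · -- 24=(1,3)
      exact False.elim (cert_false T ((skipEmb 3).trans (Function.Embedding.refl _)) (by norm_num) (fun _ => hall _) (((((LB_zero T ((skipEmb 3).trans (Function.Embedding.refl _))).upd 1 3 1 (le_of_eq hx14)).upd 2 3 1 (le_of_eq hx24)).upd 3 1 1 (le_of_eq hx41)).upd 3 2 3 (le_of_eq hx42)) ![0,1,1,2] (by decide) (by decide) 1 (by decide))
    · -- 24=(3,1)
      exact False.elim (cert_false T ((skipEmb 3).trans (Function.Embedding.refl _)) (by norm_num) (fun _ => hall _) (((((LB_zero T ((skipEmb 3).trans (Function.Embedding.refl _))).upd 1 3 1 (le_of_eq hx14)).upd 2 3 3 (le_of_eq hx24)).upd 3 1 1 (le_of_eq hx41)).upd 3 2 1 (le_of_eq hx42)) ![0,1,3,2] (by decide) (by decide) 1 (by decide))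
  · -- 14=(1,2)
    rcases d24 with ⟨rfl, rfl⟩ | ⟨rfl, rfl⟩ | ⟨rfl, rfl⟩ | ⟨rfl, rfl⟩ | ⟨rfl, rfl⟩ | ⟨rfl, rfl⟩
    · -- 24=(0,0)
      rcases d34 with ⟨rfl, rfl⟩ | ⟨rfl, rfl⟩ | ⟨rfl, rfl⟩ | ⟨rfl, rfl⟩ | ⟨rfl, rfl⟩ | ⟨rfl, rfl⟩
      · -- 34=(0,0)
        exfalso; omega
      · -- 34=(1,1)
        exact False.elim (cert_false T ((skipEmb 2).trans (Function.Embedding.refl _)) (by norm_num) (fun _ => hall _) (((((((LB_zero T ((skipEmb 2).trans (Function.Embedding.refl _))).upd 1 2 1 (le_of_eq hx13)).upd 1 3 1 (le_of_eq hx14)).upd 2 1 1 (le_of_eq hx31)).upd 2 3 1 (le_of_eq hx34)).upd 3 1 2 (le_of_eq hx41)).upd 3 2 1 (le_of_eq hx43)) ![0,1,1,1] (by decide) (by decide) 1 (by decide))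
      · -- 34=(1,2)
        exact False.elim (cert_false T ((skipEmb 2).trans (Function.Embedding.refl _)) (by norm_num) (fun _ => hall _) (((((((LB_zero T ((skipEmb 2).trans (Function.Embedding.refl _))).upd 1 2 1 (le_of_eq hx13)).upd 1 3 1 (le_of_eq hx14)).upd 2 1 1 (le_of_eq hx31)).upd 2 3 1 (le_of_eq hx34)).upd 3 1 2 (le_of_eq hx41)).upd 3 2 2 (le_of_eq hx43)) ![0,1,1,1] (by decide) (by decide) 1 (by decide))
      · -- 34=(2,1)
        exact False.elim (cert_false T ((skipEmb 2).trans (Function.Embedding.refl _)) (by norm_num) (fun _ => hall _) (((((((LB_zero T ((skipEmb 2).trans (Function.Embedding.refl _))).upd 1 2 1 (le_of_eq hx13)).upd 1 3 1 (le_of_eq hx14)).upd 2 1 1 (le_of_eq hx31)).upd 2 3 2 (le_of_eq hx34)).upd 3 1 2 (le_of_eq hx41)).upd 3 2 1 (le_of_eq hx43)) ![0,1,1,1] (by decide) (by decide) 1 (by decide))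
      · -- 34=(1,3)
        exact False.elim (cert_false T ((skipEmb 2).trans (Function.Embedding.refl _)) (by norm_num) (fun _ => hall _) (((((((LB_zero T ((skipEmb 2).trans (Function.Embedding.refl _))).upd 1 2 1 (le_of_eq hx13)).upd 1 3 1 (le_of_eq hx14)).upd 2 1 1 (le_of_eq hx31)).upd 2 3 1 (le_of_eq hx34)).upd 3 1 2 (le_of_eq hx41)).upd 3 2 3 (le_of_eq hx43)) ![0,1,1,1] (by decide) (by decide) 1 (by decide))
      · -- 34=(3,1)
        exact False.elim (cert_false T ((skipEmb 2).trans (Function.Embedding.refl _)) (by norm_num) (fun _ => hall _) (((((((LB_zero T ((skipEmb 2).trans (Function.Embedding.refl _))).upd 1 2 1 (le_of_eq hx13)).upd 1 3 1 (le_of_eq hx14)).upd 2 1 1 (le_of_eq hx31)).upd 2 3 3 (le_of_eq hx34)).upd 3 1 2 (le_of_eq hx41)).upd 3 2 1 (le_of_eq hx43)) ![0,1,1,1] (by decide) (by decide) 1 (by decide))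
    · -- 24=(1,1)
      rcases d34 with ⟨rfl, rfl⟩ | ⟨rfl, rfl⟩ | ⟨rfl, rfl⟩ | ⟨rfl, rfl⟩ | ⟨rfl, rfl⟩ | ⟨rfl, rfl⟩
      · -- 34=(0,0)
        exfalso; omega
      · -- 34=(1,1)
        exact False.elim (cert_false T ((skipEmb 2).trans (Function.Embedding.refl _)) (by norm_num) (fun _ => hall _) (((((((LB_zero T ((skipEmb 2).trans (Function.Embedding.refl _))).upd 1 2 1 (le_of_eq hx13)).upd 1 3 1 (le_of_eq hx14)).upd 2 1 1 (le_of_eq hx31)).upd 2 3 1 (le_of_eq hx34)).upd 3 1 2 (le_of_eq hx41)).upd 3 2 1 (le_of_eq hx43)) ![0,1,1,1] (by decide) (by decide) 1 (by decide))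
      · -- 34=(1,2)
        exact False.elim (cert_false T ((skipEmb 2).trans (Function.Embedding.refl _)) (by norm_num) (fun _ => hall _) (((((((LB_zero T ((skipEmb 2).trans (Function.Embedding.refl _))).upd 1 2 1 (le_of_eq hx13)).upd 1 3 1 (le_of_eq hx14)).upd 2 1 1 (le_of_eq hx31)).upd 2 3 1 (le_of_eq hx34)).upd 3 1 2 (le_of_eq hx41)).upd 3 2 2 (le_of_eq hx43)) ![0,1,1,1] (by decide) (by decide) 1 (by decide))
      · -- 34=(2,1)
        exact False.elim (cert_false T ((skipEmb 2).trans (Function.Embedding.refl _)) (by norm_num) (fun _ => hall _) (((((((LB_zero T ((skipEmb 2).trans (Function.Embedding.refl _))).upd 1 2 1 (le_of_eq hx13)).upd 1 3 1 (le_of_eq hx14)).upd 2 1 1 (le_of_eq hx31)).upd 2 3 2 (le_of_eq hx34)).upd 3 1 2 (le_of_eq hx41)).upd 3 2 1 (le_of_eq hx43)) ![0,1,1,1] (by decide) (by decide) 1 (by decide))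
      · -- 34=(1,3)
        exact False.elim (cert_false T ((skipEmb 2).trans (Function.Embedding.refl _)) (by norm_num) (fun _ => hall _) (((((((LB_zero T ((skipEmb 2).trans (Function.Embedding.refl _))).upd 1 2 1 (le_of_eq hx13)).upd 1 3 1 (le_of_eq hx14)).upd 2 1 1 (le_of_eq hx31)).upd 2 3 1 (le_of_eq hx34)).upd 3 1 2 (le_of_eq hx41)).upd 3 2 3 (le_of_eq hx43)) ![0,1,1,1] (by decide) (by decide) 1 (by decide))
      · -- 34=(3,1)
        exact False.elim (cert_false T ((skipEmb 2).trans (Function.Embedding.refl _)) (by norm_num) (fun _ => hall _) (((((((LB_zero T ((skipEmb 2).trans (Function.Embedding.refl _))).upd 1 2 1 (le_of_eq hx13)).upd 1 3 1 (le_of_eq hx14)).upd 2 1 1 (le_of_eq hx31)).upd 2 3 3 (le_of_eq hx34)).upd 3 1 2 (le_of_eq hx41)).upd 3 2 1 (le_of_eq hx43)) ![0,1,1,1] (by decide) (by decide) 1 (by decide))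
    · -- 24=(1,2)
      exact False.elim (cert_false T ((skipEmb 3).trans (Function.Embedding.refl _)) (by norm_num) (fun _ => hall _) (((((LB_zero T ((skipEmb 3).trans (Function.Embedding.refl _))).upd 1 3 1 (le_of_eq hx14)).upd 2 3 1 (le_of_eq hx24)).upd 3 1 2 (le_of_eq hx41)).upd 3 2 2 (le_of_eq hx42)) ![0,1,1,2] (by decide) (by decide) 1 (by decide))
    · -- 24=(2,1)
      exact False.elim (cert_false T ((skipEmb 3).trans (Function.Embedding.refl _)) (by norm_num) (fun _ => hall _) (((((LB_zero T ((skipEmb 3).trans (Function.Embedding.refl _))).upd 1 3 1 (le_of_eq hx14)).upd 2 3 2 (le_of_eq hx24)).upd 3 1 2 (le_of_eq hx41)).upd 3 2 1 (le_of_eq hx42)) ![0,1,2,2] (by decide) (by decide) 1 (by decide))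
    · -- 24=(1,3)
      exact False.elim (cert_false T ((skipEmb 3).trans (Function.Embedding.refl _)) (by norm_num) (fun _ => hall _) (((((LB_zero T ((skipEmb 3).trans (Function.Embedding.refl _))).upd 1 3 1 (le_of_eq hx14)).upd 2 3 1 (le_of_eq hx24)).upd 3 1 2 (le_of_eq hx41)).upd 3 2 3 (le_of_eq hx42)) ![0,1,1,2] (by decide) (by decide) 1 (by decide))
    · -- 24=(3,1)
      exact False.elim (cert_false T ((skipEmb 3).trans (Function.Embedding.refl _)) (by norm_num) (fun _ => hall _) (((((LB_zero T ((skipEmb 3).trans (Function.Embedding.refl _))).upd 1 3 1 (le_of_eq hx14)).upd 2 3 3 (le_of_eq hx24)).upd 3 1 2 (le_of_eq hx41)).upd 3 2 1 (le_of_eq hx42)) ![0,1,2,2] (by decide) (by decide) 1 (by decide))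
  · -- 14=(2,1)
    rcases d24 with ⟨rfl, rfl⟩ | ⟨rfl, rfl⟩ | ⟨rfl, rfl⟩ | ⟨rfl, rfl⟩ | ⟨rfl, rfl⟩ | ⟨rfl, rfl⟩
    · -- 24=(0,0)
      rcases d34 with ⟨rfl, rfl⟩ | ⟨rfl, rfl⟩ | ⟨rfl, rfl⟩ | ⟨rfl, rfl⟩ | ⟨rfl, rfl⟩ | ⟨rfl, rfl⟩
      · -- 34=(0,0)
        exfalso; omega
      · -- 34=(1,1)
        exact False.elim (cert_false T ((skipEmb 2).trans (Function.Embedding.refl _)) (by norm_num) (fun _ => hall _) (((((((LB_zero T ((skipEmb 2).trans (Function.Embedding.refl _))).upd 1 2 1 (le_of_eq hx13)).upd 1 3 2 (le_of_eq hx14)).upd 2 1 1 (le_of_eq hx31)).upd 2 3 1 (le_of_eq hx34)).upd 3 1 1 (le_of_eq hx41)).upd 3 2 1 (le_of_eq hx43)) ![0,1,1,1] (by decide) (by decide) 1 (by decide))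
      · -- 34=(1,2)
        exact False.elim (cert_false T ((skipEmb 2).trans (Function.Embedding.refl _)) (by norm_num) (fun _ => hall _) (((((((LB_zero T ((skipEmb 2).trans (Function.Embedding.refl _))).upd 1 2 1 (le_of_eq hx13)).upd 1 3 2 (le_of_eq hx14)).upd 2 1 1 (le_of_eq hx31)).upd 2 3 1 (le_of_eq hx34)).upd 3 1 1 (le_of_eq hx41)).upd 3 2 2 (le_of_eq hx43)) ![0,1,1,1] (by decide) (by decide) 1 (by decide))
      · -- 34=(2,1)
        exact False.elim (cert_false T ((skipEmb 2).trans (Function.Embedding.refl _)) (by norm_num) (fun _ => hall _) (((((((LB_zero T ((skipEmb 2).trans (Function.Embedding.refl _))).upd 1 2 1 (le_of_eq hx13)).upd 1 3 2 (le_of_eq hx14)).upd 2 1 1 (le_of_eq hx31)).upd 2 3 2 (le_of_eq hx34)).upd 3 1 1 (le_of_eq hx41)).upd 3 2 1 (le_of_eq hx43)) ![0,1,1,1] (by decide) (by decide) 1 (by decide))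
      · -- 34=(1,3)
        exact False.elim (cert_false T ((skipEmb 2).trans (Function.Embedding.refl _)) (by norm_num) (fun _ => hall _) (((((((LB_zero T ((skipEmb 2).trans (Function.Embedding.refl _))).upd 1 2 1 (le_of_eq hx13)).upd 1 3 2 (le_of_eq hx14)).upd 2 1 1 (le_of_eq hx31)).upd 2 3 1 (le_of_eq hx34)).upd 3 1 1 (le_of_eq hx41)).upd 3 2 3 (le_of_eq hx43)) ![0,1,1,1] (by decide) (by decide) 1 (by decide))
      · -- 34=(3,1)
        exact False.elim (cert_false T ((skipEmb 2).trans (Function.Embedding.refl _)) (by norm_num) (fun _ => hall _) (((((((LB_zero T ((skipEmb 2).trans (Function.Embedding.refl _))).upd 1 2 1 (le_of_eq hx13)).upd 1 3 2 (le_of_eq hx14)).upd 2 1 1 (le_of_eq hx31)).upd 2 3 3 (le_of_eq hx34)).upd 3 1 1 (le_of_eq hx41)).upd 3 2 1 (le_of_eq hx43)) ![0,1,1,1] (by decide) (by decide) 1 (by decide))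
    · -- 24=(1,1)
      rcases d34 with ⟨rfl, rfl⟩ | ⟨rfl, rfl⟩ | ⟨rfl, rfl⟩ | ⟨rfl, rfl⟩ | ⟨rfl, rfl⟩ | ⟨rfl, rfl⟩
      · -- 34=(0,0)
        exfalso; omega
      · -- 34=(1,1)
        exact False.elim (cert_false T ((skipEmb 2).trans (Function.Embedding.refl _)) (by norm_num) (fun _ => hall _) (((((((LB_zero T ((skipEmb 2).trans (Function.Embedding.refl _))).upd 1 2 1 (le_of_eq hx13)).upd 1 3 2 (le_of_eq hx14)).upd 2 1 1 (le_of_eq hx31)).upd 2 3 1 (le_of_eq hx34)).upd 3 1 1 (le_of_eq hx41)).upd 3 2 1 (le_of_eq hx43)) ![0,1,1,1] (by decide) (by decide) 1 (by decide))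
      · -- 34=(1,2)
        exact False.elim (cert_false T ((skipEmb 2).trans (Function.Embedding.refl _)) (by norm_num) (fun _ => hall _) (((((((LB_zero T ((skipEmb 2).trans (Function.Embedding.refl _))).upd 1 2 1 (le_of_eq hx13)).upd 1 3 2 (le_of_eq hx14)).upd 2 1 1 (le_of_eq hx31)).upd 2 3 1 (le_of_eq hx34)).upd 3 1 1 (le_of_eq hx41)).upd 3 2 2 (le_of_eq hx43)) ![0,1,1,1] (by decide) (by decide) 1 (by decide))
      · -- 34=(2,1)
        exact False.elim (cert_false T ((skipEmb 2).trans (Function.Embedding.refl _)) (by norm_num) (fun _ => hall _) (((((((LB_zero T ((skipEmb 2).trans (Function.Embedding.refl _))).upd 1 2 1 (le_of_eq hx13)).upd 1 3 2 (le_of_eq hx14)).upd 2 1 1 (le_of_eq hx31)).upd 2 3 2 (le_of_eq hx34)).upd 3 1 1 (le_of_eq hx41)).upd 3 2 1 (le_of_eq hx43)) ![0,1,1,1] (by decide) (by decide) 1 (by decide))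
      · -- 34=(1,3)
        exact False.elim (cert_false T ((skipEmb 2).trans (Function.Embedding.refl _)) (by norm_num) (fun _ => hall _) (((((((LB_zero T ((skipEmb 2).trans (Function.Embedding.refl _))).upd 1 2 1 (le_of_eq hx13)).upd 1 3 2 (le_of_eq hx14)).upd 2 1 1 (le_of_eq hx31)).upd 2 3 1 (le_of_eq hx34)).upd 3 1 1 (le_of_eq hx41)).upd 3 2 3 (le_of_eq hx43)) ![0,1,1,1] (by decide) (by decide) 1 (by decide))
      · -- 34=(3,1)
        exact False.elim (cert_false T ((skipEmb 2).trans (Function.Embedding.refl _)) (by norm_num) (fun _ => hall _) (((((((LB_zero T ((skipEmb 2).trans (Function.Embedding.refl _))).upd 1 2 1 (le_of_eq hx13)).upd 1 3 2 (le_of_eq hx14)).upd 2 1 1 (le_of_eq hx31)).upd 2 3 3 (le_of_eq hx34)).upd 3 1 1 (le_of_eq hx41)).upd 3 2 1 (le_of_eq hx43)) ![0,1,1,1] (by decide) (by decide) 1 (by decide))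
    · -- 24=(1,2)
      exact False.elim (cert_false T ((skipEmb 3).trans (Function.Embedding.refl _)) (by norm_num) (fun _ => hall _) (((((LB_zero T ((skipEmb 3).trans (Function.Embedding.refl _))).upd 1 3 2 (le_of_eq hx14)).upd 2 3 1 (le_of_eq hx24)).upd 3 1 1 (le_of_eq hx41)).upd 3 2 2 (le_of_eq hx42)) ![0,2,1,2] (by decide) (by decide) 1 (by decide))
    · -- 24=(2,1)
      exact False.elim (cert_false T ((skipEmb 3).trans (Function.Embedding.refl _)) (by norm_num) (fun _ => hall _) (((((LB_zero T ((skipEmb 3).trans (Function.Embedding.refl _))).upd 1 3 2 (le_of_eq hx14)).upd 2 3 2 (le_of_eq hx24)).upd 3 1 1 (le_of_eq hx41)).upd 3 2 1 (le_of_eq hx42)) ![0,1,1,1] (by decide) (by decide) 1 (by decide))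
    · -- 24=(1,3)
      exact False.elim (cert_false T ((skipEmb 3).trans (Function.Embedding.refl _)) (by norm_num) (fun _ => hall _) (((((LB_zero T ((skipEmb 3).trans (Function.Embedding.refl _))).upd 1 3 2 (le_of_eq hx14)).upd 2 3 1 (le_of_eq hx24)).upd 3 1 1 (le_of_eq hx41)).upd 3 2 3 (le_of_eq hx42)) ![0,1,1,2] (by decide) (by decide) 1 (by decide))
    · -- 24=(3,1)
      exact False.elim (cert_false T ((skipEmb 3).trans (Function.Embedding.refl _)) (by norm_num) (fun _ => hall _) (((((LB_zero T ((skipEmb 3).trans (Function.Embedding.refl _))).upd 1 3 2 (le_of_eq hx14)).upd 2 3 3 (le_of_eq hx24)).upd 3 1 1 (le_of_eq hx41)).upd 3 2 1 (le_of_eq hx42)) ![0,1,1,1] (by decide) (by decide) 1 (by decide))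
  · -- 14=(1,3)
    exact False.elim (cert_false T ((skipEmb 2).trans (Function.Embedding.refl _)) (by norm_num) (fun _ => hall _) (((((LB_zero T ((skipEmb 2).trans (Function.Embedding.refl _))).upd 1 2 1 (le_of_eq hx13)).upd 1 3 1 (le_of_eq hx14)).upd 2 1 1 (le_of_eq hx31)).upd 3 1 3 (le_of_eq hx41)) ![0,2,1,3] (by decide) (by decide) 1 (by decide))
  · -- 14=(3,1)
    exact False.elim (cert_false T ((skipEmb 2).trans (Function.Embedding.refl _)) (by norm_num) (fun _ => hall _) (((((LB_zero T ((skipEmb 2).trans (Function.Embedding.refl _))).upd 1 2 1 (le_of_eq hx13)).upd 1 3 3 (le_of_eq hx14)).upd 2 1 1 (le_of_eq hx31)).upd 3 1 1 (le_of_eq hx41)) ![0,2,1,1] (by decide) (by decide) 1 (by decide))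

theorem case24 (T : NumericalType 5) (hall : ∀ i, T.IsMinusTwo i) (d : SData T)
    (h01 : N T (Function.Embedding.refl _) 0 1 = 0) (h10 : N T (Function.Embedding.refl _) 1 0 = 0)
    (h02 : N T (Function.Embedding.refl _) 0 2 = 0) (h20 : N T (Function.Embedding.refl _) 2 0 = 0)
    (h12 : N T (Function.Embedding.refl _) 1 2 = 0) (h21 : N T (Function.Embedding.refl _) 2 1 = 0)
    (h03 : N T (Function.Embedding.refl _) 0 3 = 0) (h30 : N T (Function.Embedding.refl _) 3 0 = 0)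
    (h13 : N T (Function.Embedding.refl _) 1 3 = 1) (h31 : N T (Function.Embedding.refl _) 3 1 = 1)
    (h23 : N T (Function.Embedding.refl _) 2 3 = 0) (h32 : N T (Function.Embedding.refl _) 3 2 = 0)
    (h04 : N T (Function.Embedding.refl _) 0 4 = 1) (h40 : N T (Function.Embedding.refl _) 4 0 = 1) :
    Goal T := by
  unfold Goal
  have hd := d
  obtain ⟨x01, x02, x03, x04, x10, x12, x13, x14, x20, x21, x23, x24, x30, x31, x32, x34, x40, x41, x42, x43, hx01, hx02, hx03, hx04, hx10, hx12, hx13, hx14, hx20, hx21, hx23, hx24, hx30, hx31, hx32, hx34, hx40, hx41, hx42, hx43, hw0, hm0, hw1, hm1, hw2, hm2, hw3, hm3, hw4, hm4, a00, a01, a02, a03, a04, a11, a10, a12, a13, a14, a22, a20, a21, a23, a24, a33, a30, a31, a32, a34, a44, a40, a41, a42, a43, wN01, wN02, wN12, wN03, wN13, wN23, wN04, wN14, wN24, wN34, e0, e1, e2, e3, e4, d01, d02, d12, d03, d13, d23, d04, d14, d24, d34⟩ := d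
  obtain rfl : x01 = 0 := hx01.trans h01
  obtain rfl : x10 = 0 := hx10.trans h10
  obtain rfl : x02 = 0 := hx02.trans h02
  obtain rfl : x20 = 0 := hx20.trans h20
  obtain rfl : x12 = 0 := hx12.trans h12
  obtain rfl : x21 = 0 := hx21.trans h21
  obtain rfl : x03 = 0 := hx03.trans h03
  obtain rfl : x30 = 0 := hx30.trans h30
  obtain rfl : x13 = 1 := hx13.trans h13
  obtain rfl : x31 = 1 := hx31.trans h31
  obtain rfl : x23 = 0 := hx23.trans h23
  obtain rfl : x32 = 0 := hx32.trans h32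
  obtain rfl : x04 = 1 := hx04.trans h04
  obtain rfl : x40 = 1 := hx40.trans h40
  rcases d14 with ⟨rfl, rfl⟩ | ⟨rfl, rfl⟩ | ⟨rfl, rfl⟩ | ⟨rfl, rfl⟩ | ⟨rfl, rfl⟩ | ⟨rfl, rfl⟩
  · -- 14=(0,0)
    rcases d24 with ⟨rfl, rfl⟩ | ⟨rfl, rfl⟩ | ⟨rfl, rfl⟩ | ⟨rfl, rfl⟩ | ⟨rfl, rfl⟩ | ⟨rfl, rfl⟩
    · -- 24=(0,0)
      rcases d34 with ⟨rfl, rfl⟩ | ⟨rfl, rfl⟩ | ⟨rfl, rfl⟩ | ⟨rfl, rfl⟩ | ⟨rfl, rfl⟩ | ⟨rfl, rfl⟩
      · -- 34=(0,0)
        exfalso; omega
      · -- 34=(1,1)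
        exfalso; omega
      · -- 34=(1,2)
        exfalso; omega
      · -- 34=(2,1)
        exfalso; omega
      · -- 34=(1,3)
        exact False.elim (cert_false T ((skipEmb 2).trans (Function.Embedding.refl _)) (by norm_num) (fun _ => hall _) (((((LB_zero T ((skipEmb 2).trans (Function.Embedding.refl _))).upd 0 3 1 (le_of_eq hx04)).upd 2 3 1 (le_of_eq hx34)).upd 3 0 1 (le_of_eq hx40)).upd 3 2 3 (le_of_eq hx43)) ![1,0,1,2] (by decide) (by decide) 0 (by decide))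
      · -- 34=(3,1)
        exact False.elim (cert_false T ((skipEmb 2).trans (Function.Embedding.refl _)) (by norm_num) (fun _ => hall _) (((((LB_zero T ((skipEmb 2).trans (Function.Embedding.refl _))).upd 1 2 1 (le_of_eq hx13)).upd 2 1 1 (le_of_eq hx31)).upd 2 3 3 (le_of_eq hx34)).upd 3 2 1 (le_of_eq hx43)) ![0,1,2,1] (by decide) (by decide) 1 (by decide))
    · -- 24=(1,1)
      rcases d34 with ⟨rfl, rfl⟩ | ⟨rfl, rfl⟩ | ⟨rfl, rfl⟩ | ⟨rfl, rfl⟩ | ⟨rfl, rfl⟩ | ⟨rfl, rfl⟩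
      · -- 34=(0,0)
        exfalso; omega
      · -- 34=(1,1)
        exfalso; omega
      · -- 34=(1,2)
        exact False.elim (cert_false T ((skipEmb 1).trans (Function.Embedding.refl _)) (by norm_num) (fun _ => hall _) (((((((LB_zero T ((skipEmb 1).trans (Function.Embedding.refl _))).upd 0 3 1 (le_of_eq hx04)).upd 1 3 1 (le_of_eq hx24)).upd 2 3 1 (le_of_eq hx34)).upd 3 0 1 (le_of_eq hx40)).upd 3 1 1 (le_of_eq hx42)).upd 3 2 2 (le_of_eq hx43)) ![1,1,1,2] (by decide) (by decide) 0 (by decide))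
      · -- 34=(2,1)
        exact False.elim (cert_false T ((skipEmb 1).trans (Function.Embedding.refl _)) (by norm_num) (fun _ => hall _) (((((((LB_zero T ((skipEmb 1).trans (Function.Embedding.refl _))).upd 0 3 1 (le_of_eq hx04)).upd 1 3 1 (le_of_eq hx24)).upd 2 3 2 (le_of_eq hx34)).upd 3 0 1 (le_of_eq hx40)).upd 3 1 1 (le_of_eq hx42)).upd 3 2 1 (le_of_eq hx43)) ![1,1,2,2] (by decide) (by decide) 0 (by decide))
      · -- 34=(1,3)
        exact False.elim (cert_false T ((skipEmb 2).trans (Function.Embedding.refl _)) (by norm_num) (fun _ => hall _) (((((LB_zero T ((skipEmb 2).trans (Function.Embedding.refl _))).upd 0 3 1 (le_of_eq hx04)).upd 2 3 1 (le_of_eq hx34)).upd 3 0 1 (le_of_eq hx40)).upd 3 2 3 (le_of_eq hx43)) ![1,0,1,2] (by decide) (by decide) 0 (by decide))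
      · -- 34=(3,1)
        exact False.elim (cert_false T ((skipEmb 2).trans (Function.Embedding.refl _)) (by norm_num) (fun _ => hall _) (((((LB_zero T ((skipEmb 2).trans (Function.Embedding.refl _))).upd 1 2 1 (le_of_eq hx13)).upd 2 1 1 (le_of_eq hx31)).upd 2 3 3 (le_of_eq hx34)).upd 3 2 1 (le_of_eq hx43)) ![0,1,2,1] (by decide) (by decide) 1 (by decide))
    · -- 24=(1,2)
      rcases d34 with ⟨rfl, rfl⟩ | ⟨rfl, rfl⟩ | ⟨rfl, rfl⟩ | ⟨rfl, rfl⟩ | ⟨rfl, rfl⟩ | ⟨rfl, rfl⟩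
      · -- 34=(0,0)
        exfalso; omega
      · -- 34=(1,1)
        exact False.elim (cert_false T ((skipEmb 1).trans (Function.Embedding.refl _)) (by norm_num) (fun _ => hall _) (((((((LB_zero T ((skipEmb 1).trans (Function.Embedding.refl _))).upd 0 3 1 (le_of_eq hx04)).upd 1 3 1 (le_of_eq hx24)).upd 2 3 1 (le_of_eq hx34)).upd 3 0 1 (le_of_eq hx40)).upd 3 1 2 (le_of_eq hx42)).upd 3 2 1 (le_of_eq hx43)) ![1,1,1,2] (by decide) (by decide) 0 (by decide))
      · -- 34=(1,2)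
        exact False.elim (cert_false T ((skipEmb 1).trans (Function.Embedding.refl _)) (by norm_num) (fun _ => hall _) (((((LB_zero T ((skipEmb 1).trans (Function.Embedding.refl _))).upd 1 3 1 (le_of_eq hx24)).upd 2 3 1 (le_of_eq hx34)).upd 3 1 2 (le_of_eq hx42)).upd 3 2 2 (le_of_eq hx43)) ![0,1,1,2] (by decide) (by decide) 1 (by decide))
      · -- 34=(2,1)
        exact False.elim (cert_false T ((skipEmb 1).trans (Function.Embedding.refl _)) (by norm_num) (fun _ => hall _) (((((LB_zero T ((skipEmb 1).trans (Function.Embedding.refl _))).upd 1 3 1 (le_of_eq hx24)).upd 2 3 2 (le_of_eq hx34)).upd 3 1 2 (le_of_eq hx42)).upd 3 2 1 (le_of_eq hx43)) ![0,1,2,2] (by decide) (by decide) 1 (by decide))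
      · -- 34=(1,3)
        exact False.elim (cert_false T ((skipEmb 2).trans (Function.Embedding.refl _)) (by norm_num) (fun _ => hall _) (((((LB_zero T ((skipEmb 2).trans (Function.Embedding.refl _))).upd 0 3 1 (le_of_eq hx04)).upd 2 3 1 (le_of_eq hx34)).upd 3 0 1 (le_of_eq hx40)).upd 3 2 3 (le_of_eq hx43)) ![1,0,1,2] (by decide) (by decide) 0 (by decide))
      · -- 34=(3,1)
        exact False.elim (cert_false T ((skipEmb 2).trans (Function.Embedding.refl _)) (by norm_num) (fun _ => hall _) (((((LB_zero T ((skipEmb 2).trans (Function.Embedding.refl _))).upd 1 2 1 (le_of_eq hx13)).upd 2 1 1 (le_of_eq hx31)).upd 2 3 3 (le_of_eq hx34)).upd 3 2 1 (le_of_eq hx43)) ![0,1,2,1] (by decide) (by decide) 1 (by decide))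
    · -- 24=(2,1)
      rcases d34 with ⟨rfl, rfl⟩ | ⟨rfl, rfl⟩ | ⟨rfl, rfl⟩ | ⟨rfl, rfl⟩ | ⟨rfl, rfl⟩ | ⟨rfl, rfl⟩
      · -- 34=(0,0)
        exfalso; omega
      · -- 34=(1,1)
        exact False.elim (cert_false T ((skipEmb 1).trans (Function.Embedding.refl _)) (by norm_num) (fun _ => hall _) (((((((LB_zero T ((skipEmb 1).trans (Function.Embedding.refl _))).upd 0 3 1 (le_of_eq hx04)).upd 1 3 2 (le_of_eq hx24)).upd 2 3 1 (le_of_eq hx34)).upd 3 0 1 (le_of_eq hx40)).upd 3 1 1 (le_of_eq hx42)).upd 3 2 1 (le_of_eq hx43)) ![1,2,1,2] (by decide) (by decide) 0 (by decide))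
      · -- 34=(1,2)
        exact False.elim (cert_false T ((skipEmb 1).trans (Function.Embedding.refl _)) (by norm_num) (fun _ => hall _) (((((LB_zero T ((skipEmb 1).trans (Function.Embedding.refl _))).upd 1 3 2 (le_of_eq hx24)).upd 2 3 1 (le_of_eq hx34)).upd 3 1 1 (le_of_eq hx42)).upd 3 2 2 (le_of_eq hx43)) ![0,2,1,2] (by decide) (by decide) 1 (by decide))
      · -- 34=(2,1)
        exact False.elim (cert_false T ((skipEmb 1).trans (Function.Embedding.refl _)) (by norm_num) (fun _ => hall _) (((((LB_zero T ((skipEmb 1).trans (Function.Embedding.refl _))).upd 1 3 2 (le_of_eq hx24)).upd 2 3 2 (le_of_eq hx34)).upd 3 1 1 (le_of_eq hx42)).upd 3 2 1 (le_of_eq hx43)) ![0,1,1,1] (by decide) (by decide) 1 (by decide))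
      · -- 34=(1,3)
        exact False.elim (cert_false T ((skipEmb 2).trans (Function.Embedding.refl _)) (by norm_num) (fun _ => hall _) (((((LB_zero T ((skipEmb 2).trans (Function.Embedding.refl _))).upd 0 3 1 (le_of_eq hx04)).upd 2 3 1 (le_of_eq hx34)).upd 3 0 1 (le_of_eq hx40)).upd 3 2 3 (le_of_eq hx43)) ![1,0,1,2] (by decide) (by decide) 0 (by decide))
      · -- 34=(3,1)
        exact False.elim (cert_false T ((skipEmb 2).trans (Function.Embedding.refl _)) (by norm_num) (fun _ => hall _) (((((LB_zero T ((skipEmb 2).trans (Function.Embedding.refl _))).upd 1 2 1 (le_of_eq hx13)).upd 2 1 1 (le_of_eq hx31)).upd 2 3 3 (le_of_eq hx34)).upd 3 2 1 (le_of_eq hx43)) ![0,1,2,1] (by decide) (by decide) 1 (by decide))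
    · -- 24=(1,3)
      exact False.elim (cert_false T ((skipEmb 3).trans (Function.Embedding.refl _)) (by norm_num) (fun _ => hall _) (((((LB_zero T ((skipEmb 3).trans (Function.Embedding.refl _))).upd 0 3 1 (le_of_eq hx04)).upd 2 3 1 (le_of_eq hx24)).upd 3 0 1 (le_of_eq hx40)).upd 3 2 3 (le_of_eq hx42)) ![1,0,1,2] (by decide) (by decide) 0 (by decide))
    · -- 24=(3,1)
      exact False.elim (cert_false T ((skipEmb 3).trans (Function.Embedding.refl _)) (by norm_num) (fun _ => hall _) (((((LB_zero T ((skipEmb 3).trans (Function.Embedding.refl _))).upd 0 3 1 (le_of_eq hx04)).upd 2 3 3 (le_of_eq hx24)).upd 3 0 1 (le_of_eq hx40)).upd 3 2 1 (le_of_eq hx42)) ![1,0,3,2] (by decide) (by decide) 0 (by decide))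
  · -- 14=(1,1)
    rcases d24 with ⟨rfl, rfl⟩ | ⟨rfl, rfl⟩ | ⟨rfl, rfl⟩ | ⟨rfl, rfl⟩ | ⟨rfl, rfl⟩ | ⟨rfl, rfl⟩
    · -- 24=(0,0)
      rcases d34 with ⟨rfl, rfl⟩ | ⟨rfl, rfl⟩ | ⟨rfl, rfl⟩ | ⟨rfl, rfl⟩ | ⟨rfl, rfl⟩ | ⟨rfl, rfl⟩
      · -- 34=(0,0)
        exfalso; omega
      · -- 34=(1,1)
        exact False.elim (cert_false T ((skipEmb 2).trans (Function.Embedding.refl _)) (by norm_num) (fun _ => hall _) (((((((LB_zero T ((skipEmb 2).trans (Function.Embedding.refl _))).upd 1 2 1 (le_of_eq hx13)).upd 1 3 1 (le_of_eq hx14)).upd 2 1 1 (le_of_eq hx31)).upd 2 3 1 (le_of_eq hx34)).upd 3 1 1 (le_of_eq hx41)).upd 3 2 1 (le_of_eq hx43)) ![0,1,1,1] (by decide) (by decide) 1 (by decide))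
      · -- 34=(1,2)
        exact False.elim (cert_false T ((skipEmb 2).trans (Function.Embedding.refl _)) (by norm_num) (fun _ => hall _) (((((((LB_zero T ((skipEmb 2).trans (Function.Embedding.refl _))).upd 1 2 1 (le_of_eq hx13)).upd 1 3 1 (le_of_eq hx14)).upd 2 1 1 (le_of_eq hx31)).upd 2 3 1 (le_of_eq hx34)).upd 3 1 1 (le_of_eq hx41)).upd 3 2 2 (le_of_eq hx43)) ![0,1,1,1] (by decide) (by decide) 1 (by decide))
      · -- 34=(2,1)
        exact False.elim (cert_false T ((skipEmb 2).trans (Function.Embedding.refl _)) (by norm_num) (fun _ => hall _) (((((((LB_zero T ((skipEmb 2).trans (Function.Embedding.refl _))).upd 1 2 1 (le_of_eq hx13)).upd 1 3 1 (le_of_eq hx14)).upd 2 1 1 (le_of_eq hx31)).upd 2 3 2 (le_of_eq hx34)).upd 3 1 1 (le_of_eq hx41)).upd 3 2 1 (le_of_eq hx43)) ![0,1,1,1] (by decide) (by decide) 1 (by decide))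
      · -- 34=(1,3)
        exact False.elim (cert_false T ((skipEmb 2).trans (Function.Embedding.refl _)) (by norm_num) (fun _ => hall _) (((((((LB_zero T ((skipEmb 2).trans (Function.Embedding.refl _))).upd 1 2 1 (le_of_eq hx13)).upd 1 3 1 (le_of_eq hx14)).upd 2 1 1 (le_of_eq hx31)).upd 2 3 1 (le_of_eq hx34)).upd 3 1 1 (le_of_eq hx41)).upd 3 2 3 (le_of_eq hx43)) ![0,1,1,1] (by decide) (by decide) 1 (by decide))
      · -- 34=(3,1)
        exact False.elim (cert_false T ((skipEmb 2).trans (Function.Embedding.refl _)) (by norm_num) (fun _ => hall _) (((((((LB_zero T ((skipEmb 2).trans (Function.Embedding.refl _))).upd 1 2 1 (le_of_eq hx13)).upd 1 3 1 (le_of_eq hx14)).upd 2 1 1 (le_of_eq hx31)).upd 2 3 3 (le_of_eq hx34)).upd 3 1 1 (le_of_eq hx41)).upd 3 2 1 (le_of_eq hx43)) ![0,1,1,1] (by decide) (by decide) 1 (by decide))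
    · -- 24=(1,1)
      rcases d34 with ⟨rfl, rfl⟩ | ⟨rfl, rfl⟩ | ⟨rfl, rfl⟩ | ⟨rfl, rfl⟩ | ⟨rfl, rfl⟩ | ⟨rfl, rfl⟩
      · -- 34=(0,0)
        exfalso; omega
      · -- 34=(1,1)
        exact False.elim (cert_false T ((skipEmb 2).trans (Function.Embedding.refl _)) (by norm_num) (fun _ => hall _) (((((((LB_zero T ((skipEmb 2).trans (Function.Embedding.refl _))).upd 1 2 1 (le_of_eq hx13)).upd 1 3 1 (le_of_eq hx14)).upd 2 1 1 (le_of_eq hx31)).upd 2 3 1 (le_of_eq hx34)).upd 3 1 1 (le_of_eq hx41)).upd 3 2 1 (le_of_eq hx43)) ![0,1,1,1] (by decide) (by decide) 1 (by decide))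
      · -- 34=(1,2)
        exact False.elim (cert_false T ((skipEmb 2).trans (Function.Embedding.refl _)) (by norm_num) (fun _ => hall _) (((((((LB_zero T ((skipEmb 2).trans (Function.Embedding.refl _))).upd 1 2 1 (le_of_eq hx13)).upd 1 3 1 (le_of_eq hx14)).upd 2 1 1 (le_of_eq hx31)).upd 2 3 1 (le_of_eq hx34)).upd 3 1 1 (le_of_eq hx41)).upd 3 2 2 (le_of_eq hx43)) ![0,1,1,1] (by decide) (by decide) 1 (by decide))
      · -- 34=(2,1)
        exact False.elim (cert_false T ((skipEmb 2).trans (Function.Embedding.refl _)) (by norm_num) (fun _ => hall _) (((((((LB_zero T ((skipEmb 2).trans (Function.Embedding.refl _))).upd 1 2 1 (le_of_eq hx13)).upd 1 3 1 (le_of_eq hx14)).upd 2 1 1 (le_of_eq hx31)).upd 2 3 2 (le_of_eq hx34)).upd 3 1 1 (le_of_eq hx41)).upd 3 2 1 (le_of_eq hx43)) ![0,1,1,1] (by decide) (by decide) 1 (by decide))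
      · -- 34=(1,3)
        exact False.elim (cert_false T ((skipEmb 2).trans (Function.Embedding.refl _)) (by norm_num) (fun _ => hall _) (((((((LB_zero T ((skipEmb 2).trans (Function.Embedding.refl _))).upd 1 2 1 (le_of_eq hx13)).upd 1 3 1 (le_of_eq hx14)).upd 2 1 1 (le_of_eq hx31)).upd 2 3 1 (le_of_eq hx34)).upd 3 1 1 (le_of_eq hx41)).upd 3 2 3 (le_of_eq hx43)) ![0,1,1,1] (by decide) (by decide) 1 (by decide))
      · -- 34=(3,1)
        exact False.elim (cert_false T ((skipEmb 2).trans (Function.Embedding.refl _)) (by norm_num) (fun _ => hall _) (((((((LB_zero T ((skipEmb 2).trans (Function.Embedding.refl _))).upd 1 2 1 (le_of_eq hx13)).upd 1 3 1 (le_of_eq hx14)).upd 2 1 1 (le_of_eq hx31)).upd 2 3 3 (le_of_eq hx34)).upd 3 1 1 (le_of_eq hx41)).upd 3 2 1 (le_of_eq hx43)) ![0,1,1,1] (by decide) (by decide) 1 (by decide))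
    · -- 24=(1,2)
      exact False.elim (cert_false T ((skipEmb 3).trans (Function.Embedding.refl _)) (by norm_num) (fun _ => hall _) (((((((LB_zero T ((skipEmb 3).trans (Function.Embedding.refl _))).upd 0 3 1 (le_of_eq hx04)).upd 1 3 1 (le_of_eq hx14)).upd 2 3 1 (le_of_eq hx24)).upd 3 0 1 (le_of_eq hx40)).upd 3 1 1 (le_of_eq hx41)).upd 3 2 2 (le_of_eq hx42)) ![1,1,1,2] (by decide) (by decide) 0 (by decide))
    · -- 24=(2,1)
      exact False.elim (cert_false T ((skipEmb 3).trans (Function.Embedding.refl _)) (by norm_num) (fun _ => hall _) (((((((LB_zero T ((skipEmb 3).trans (Function.Embedding.refl _))).upd 0 3 1 (le_of_eq hx04)).upd 1 3 1 (le_of_eq hx14)).upd 2 3 2 (le_of_eq hx24)).upd 3 0 1 (le_of_eq hx40)).upd 3 1 1 (le_of_eq hx41)).upd 3 2 1 (le_of_eq hx42)) ![1,1,2,2] (by decide) (by decide) 0 (by decide))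
    · -- 24=(1,3)
      exact False.elim (cert_false T ((skipEmb 3).trans (Function.Embedding.refl _)) (by norm_num) (fun _ => hall _) (((((LB_zero T ((skipEmb 3).trans (Function.Embedding.refl _))).upd 1 3 1 (le_of_eq hx14)).upd 2 3 1 (le_of_eq hx24)).upd 3 1 1 (le_of_eq hx41)).upd 3 2 3 (le_of_eq hx42)) ![0,1,1,2] (by decide) (by decide) 1 (by decide))
    · -- 24=(3,1)
      exact False.elim (cert_false T ((skipEmb 3).trans (Function.Embedding.refl _)) (by norm_num) (fun _ => hall _) (((((((LB_zero T ((skipEmb 3).trans (Function.Embedding.refl _))).upd 0 3 1 (le_of_eq hx04)).upd 1 3 1 (le_of_eq hx14)).upd 2 3 3 (le_of_eq hx24)).upd 3 0 1 (le_of_eq hx40)).upd 3 1 1 (le_of_eq hx41)).upd 3 2 1 (le_of_eq hx42)) ![1,1,2,2] (by decide) (by decide) 0 (by decide))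
  · -- 14=(1,2)
    rcases d24 with ⟨rfl, rfl⟩ | ⟨rfl, rfl⟩ | ⟨rfl, rfl⟩ | ⟨rfl, rfl⟩ | ⟨rfl, rfl⟩ | ⟨rfl, rfl⟩
    · -- 24=(0,0)
      rcases d34 with ⟨rfl, rfl⟩ | ⟨rfl, rfl⟩ | ⟨rfl, rfl⟩ | ⟨rfl, rfl⟩ | ⟨rfl, rfl⟩ | ⟨rfl, rfl⟩
      · -- 34=(0,0)
        exfalso; omega
      · -- 34=(1,1)
        exact False.elim (cert_false T ((skipEmb 2).trans (Function.Embedding.refl _)) (by norm_num) (fun _ => hall _) (((((((LB_zero T ((skipEmb 2).trans (Function.Embedding.refl _))).upd 1 2 1 (le_of_eq hx13)).upd 1 3 1 (le_of_eq hx14)).upd 2 1 1 (le_of_eq hx31)).upd 2 3 1 (le_of_eq hx34)).upd 3 1 2 (le_of_eq hx41)).upd 3 2 1 (le_of_eq hx43)) ![0,1,1,1] (by decide) (by decide) 1 (by decide))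
      · -- 34=(1,2)
        exact False.elim (cert_false T ((skipEmb 2).trans (Function.Embedding.refl _)) (by norm_num) (fun _ => hall _) (((((((LB_zero T ((skipEmb 2).trans (Function.Embedding.refl _))).upd 1 2 1 (le_of_eq hx13)).upd 1 3 1 (le_of_eq hx14)).upd 2 1 1 (le_of_eq hx31)).upd 2 3 1 (le_of_eq hx34)).upd 3 1 2 (le_of_eq hx41)).upd 3 2 2 (le_of_eq hx43)) ![0,1,1,1] (by decide) (by decide) 1 (by decide))
      · -- 34=(2,1)
        exact False.elim (cert_false T ((skipEmb 2).trans (Function.Embedding.refl _)) (by norm_num) (fun _ => hall _) (((((((LB_zero T ((skipEmb 2).trans (Function.Embedding.refl _))).upd 1 2 1 (le_of_eq hx13)).upd 1 3 1 (le_of_eq hx14)).upd 2 1 1 (le_of_eq hx31)).upd 2 3 2 (le_of_eq hx34)).upd 3 1 2 (le_of_eq hx41)).upd 3 2 1 (le_of_eq hx43)) ![0,1,1,1] (by decide) (by decide) 1 (by decide))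
      · -- 34=(1,3)
        exact False.elim (cert_false T ((skipEmb 2).trans (Function.Embedding.refl _)) (by norm_num) (fun _ => hall _) (((((((LB_zero T ((skipEmb 2).trans (Function.Embedding.refl _))).upd 1 2 1 (le_of_eq hx13)).upd 1 3 1 (le_of_eq hx14)).upd 2 1 1 (le_of_eq hx31)).upd 2 3 1 (le_of_eq hx34)).upd 3 1 2 (le_of_eq hx41)).upd 3 2 3 (le_of_eq hx43)) ![0,1,1,1] (by decide) (by decide) 1 (by decide))
      · -- 34=(3,1)
        exact False.elim (cert_false T ((skipEmb 2).trans (Function.Embedding.refl _)) (by norm_num) (fun _ => hall _) (((((((LB_zero T ((skipEmb 2).trans (Function.Embedding.refl _))).upd 1 2 1 (le_of_eq hx13)).upd 1 3 1 (le_of_eq hx14)).upd 2 1 1 (le_of_eq hx31)).upd 2 3 3 (le_of_eq hx34)).upd 3 1 2 (le_of_eq hx41)).upd 3 2 1 (le_of_eq hx43)) ![0,1,1,1] (by decide) (by decide) 1 (by decide))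
    · -- 24=(1,1)
      exact False.elim (cert_false T ((skipEmb 3).trans (Function.Embedding.refl _)) (by norm_num) (fun _ => hall _) (((((((LB_zero T ((skipEmb 3).trans (Function.Embedding.refl _))).upd 0 3 1 (le_of_eq hx04)).upd 1 3 1 (le_of_eq hx14)).upd 2 3 1 (le_of_eq hx24)).upd 3 0 1 (le_of_eq hx40)).upd 3 1 2 (le_of_eq hx41)).upd 3 2 1 (le_of_eq hx42)) ![1,1,1,2] (by decide) (by decide) 0 (by decide))
    · -- 24=(1,2)
      exact False.elim (cert_false T ((skipEmb 3).trans (Function.Embedding.refl _)) (by norm_num) (fun _ => hall _) (((((LB_zero T ((skipEmb 3).trans (Function.Embedding.refl _))).upd 1 3 1 (le_of_eq hx14)).upd 2 3 1 (le_of_eq hx24)).upd 3 1 2 (le_of_eq hx41)).upd 3 2 2 (le_of_eq hx42)) ![0,1,1,2] (by decide) (by decide) 1 (by decide))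
    · -- 24=(2,1)
      exact False.elim (cert_false T ((skipEmb 3).trans (Function.Embedding.refl _)) (by norm_num) (fun _ => hall _) (((((LB_zero T ((skipEmb 3).trans (Function.Embedding.refl _))).upd 1 3 1 (le_of_eq hx14)).upd 2 3 2 (le_of_eq hx24)).upd 3 1 2 (le_of_eq hx41)).upd 3 2 1 (le_of_eq hx42)) ![0,1,2,2] (by decide) (by decide) 1 (by decide))
    · -- 24=(1,3)
      exact False.elim (cert_false T ((skipEmb 3).trans (Function.Embedding.refl _)) (by norm_num) (fun _ => hall _) (((((LB_zero T ((skipEmb 3).trans (Function.Embedding.refl _))).upd 1 3 1 (le_of_eq hx14)).upd 2 3 1 (le_of_eq hx24)).upd 3 1 2 (le_of_eq hx41)).upd 3 2 3 (le_of_eq hx42)) ![0,1,1,2] (by decide) (by decide) 1 (by decide))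
    · -- 24=(3,1)
      exact False.elim (cert_false T ((skipEmb 3).trans (Function.Embedding.refl _)) (by norm_num) (fun _ => hall _) (((((LB_zero T ((skipEmb 3).trans (Function.Embedding.refl _))).upd 1 3 1 (le_of_eq hx14)).upd 2 3 3 (le_of_eq hx24)).upd 3 1 2 (le_of_eq hx41)).upd 3 2 1 (le_of_eq hx42)) ![0,1,2,2] (by decide) (by decide) 1 (by decide))
  · -- 14=(2,1)
    rcases d24 with ⟨rfl, rfl⟩ | ⟨rfl, rfl⟩ | ⟨rfl, rfl⟩ | ⟨rfl, rfl⟩ | ⟨rfl, rfl⟩ | ⟨rfl, rfl⟩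
    · -- 24=(0,0)
      rcases d34 with ⟨rfl, rfl⟩ | ⟨rfl, rfl⟩ | ⟨rfl, rfl⟩ | ⟨rfl, rfl⟩ | ⟨rfl, rfl⟩ | ⟨rfl, rfl⟩
      · -- 34=(0,0)
        exfalso; omega
      · -- 34=(1,1)
        exact False.elim (cert_false T ((skipEmb 2).trans (Function.Embedding.refl _)) (by norm_num) (fun _ => hall _) (((((((LB_zero T ((skipEmb 2).trans (Function.Embedding.refl _))).upd 1 2 1 (le_of_eq hx13)).upd 1 3 2 (le_of_eq hx14)).upd 2 1 1 (le_of_eq hx31)).upd 2 3 1 (le_of_eq hx34)).upd 3 1 1 (le_of_eq hx41)).upd 3 2 1 (le_of_eq hx43)) ![0,1,1,1] (by decide) (by decide) 1 (by decide))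
      · -- 34=(1,2)
        exact False.elim (cert_false T ((skipEmb 2).trans (Function.Embedding.refl _)) (by norm_num) (fun _ => hall _) (((((((LB_zero T ((skipEmb 2).trans (Function.Embedding.refl _))).upd 1 2 1 (le_of_eq hx13)).upd 1 3 2 (le_of_eq hx14)).upd 2 1 1 (le_of_eq hx31)).upd 2 3 1 (le_of_eq hx34)).upd 3 1 1 (le_of_eq hx41)).upd 3 2 2 (le_of_eq hx43)) ![0,1,1,1] (by decide) (by decide) 1 (by decide))
      · -- 34=(2,1)
        exact False.elim (cert_false T ((skipEmb 2).trans (Function.Embedding.refl _)) (by norm_num) (fun _ => hall _) (((((((LB_zero T ((skipEmb 2).trans (Function.Embedding.refl _))).upd 1 2 1 (le_of_eq hx13)).upd 1 3 2 (le_of_eq hx14)).upd 2 1 1 (le_of_eq hx31)).upd 2 3 2 (le_of_eq hx34)).upd 3 1 1 (le_of_eq hx41)).upd 3 2 1 (le_of_eq hx43)) ![0,1,1,1] (by decide) (by decide) 1 (by decide))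
      · -- 34=(1,3)
        exact False.elim (cert_false T ((skipEmb 2).trans (Function.Embedding.refl _)) (by norm_num) (fun _ => hall _) (((((((LB_zero T ((skipEmb 2).trans (Function.Embedding.refl _))).upd 1 2 1 (le_of_eq hx13)).upd 1 3 2 (le_of_eq hx14)).upd 2 1 1 (le_of_eq hx31)).upd 2 3 1 (le_of_eq hx34)).upd 3 1 1 (le_of_eq hx41)).upd 3 2 3 (le_of_eq hx43)) ![0,1,1,1] (by decide) (by decide) 1 (by decide))
      · -- 34=(3,1)
        exact False.elim (cert_false T ((skipEmb 2).trans (Function.Embedding.refl _)) (by norm_num) (fun _ => hall _) (((((((LB_zero T ((skipEmb 2).trans (Function.Embedding.refl _))).upd 1 2 1 (le_of_eq hx13)).upd 1 3 2 (le_of_eq hx14)).upd 2 1 1 (le_of_eq hx31)).upd 2 3 3 (le_of_eq hx34)).upd 3 1 1 (le_of_eq hx41)).upd 3 2 1 (le_of_eq hx43)) ![0,1,1,1] (by decide) (by decide) 1 (by decide))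
    · -- 24=(1,1)
      exact False.elim (cert_false T ((skipEmb 3).trans (Function.Embedding.refl _)) (by norm_num) (fun _ => hall _) (((((((LB_zero T ((skipEmb 3).trans (Function.Embedding.refl _))).upd 0 3 1 (le_of_eq hx04)).upd 1 3 2 (le_of_eq hx14)).upd 2 3 1 (le_of_eq hx24)).upd 3 0 1 (le_of_eq hx40)).upd 3 1 1 (le_of_eq hx41)).upd 3 2 1 (le_of_eq hx42)) ![1,2,1,2] (by decide) (by decide) 0 (by decide))
    · -- 24=(1,2)
      exact False.elim (cert_false T ((skipEmb 3).trans (Function.Embedding.refl _)) (by norm_num) (fun _ => hall _) (((((LB_zero T ((skipEmb 3).trans (Function.Embedding.refl _))).upd 1 3 2 (le_of_eq hx14)).upd 2 3 1 (le_of_eq hx24)).upd 3 1 1 (le_of_eq hx41)).upd 3 2 2 (le_of_eq hx42)) ![0,2,1,2] (by decide) (by decide) 1 (by decide))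
    · -- 24=(2,1)
      exact False.elim (cert_false T ((skipEmb 3).trans (Function.Embedding.refl _)) (by norm_num) (fun _ => hall _) (((((LB_zero T ((skipEmb 3).trans (Function.Embedding.refl _))).upd 1 3 2 (le_of_eq hx14)).upd 2 3 2 (le_of_eq hx24)).upd 3 1 1 (le_of_eq hx41)).upd 3 2 1 (le_of_eq hx42)) ![0,1,1,1] (by decide) (by decide) 1 (by decide))
    · -- 24=(1,3)
      exact False.elim (cert_false T ((skipEmb 3).trans (Function.Embedding.refl _)) (by norm_num) (fun _ => hall _) (((((LB_zero T ((skipEmb 3).trans (Function.Embedding.refl _))).upd 1 3 2 (le_of_eq hx14)).upd 2 3 1 (le_of_eq hx24)).upd 3 1 1 (le_of_eq hx41)).upd 3 2 3 (le_of_eq hx42)) ![0,1,1,2] (by decide) (by decide) 1 (by decide))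
    · -- 24=(3,1)
      exact False.elim (cert_false T ((skipEmb 3).trans (Function.Embedding.refl _)) (by norm_num) (fun _ => hall _) (((((LB_zero T ((skipEmb 3).trans (Function.Embedding.refl _))).upd 1 3 2 (le_of_eq hx14)).upd 2 3 3 (le_of_eq hx24)).upd 3 1 1 (le_of_eq hx41)).upd 3 2 1 (le_of_eq hx42)) ![0,1,1,1] (by decide) (by decide) 1 (by decide))
  · -- 14=(1,3)
    exact False.elim (cert_false T ((skipEmb 3).trans (Function.Embedding.refl _)) (by norm_num) (fun _ => hall _) (((((LB_zero T ((skipEmb 3).trans (Function.Embedding.refl _))).upd 0 3 1 (le_of_eq hx04)).upd 1 3 1 (le_of_eq hx14)).upd 3 0 1 (le_of_eq hx40)).upd 3 1 3 (le_of_eq hx41)) ![1,1,0,2] (by decide) (by decide) 0 (by decide))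
  · -- 14=(3,1)
    exact False.elim (cert_false T ((skipEmb 3).trans (Function.Embedding.refl _)) (by norm_num) (fun _ => hall _) (((((LB_zero T ((skipEmb 3).trans (Function.Embedding.refl _))).upd 0 3 1 (le_of_eq hx04)).upd 1 3 3 (le_of_eq hx14)).upd 3 0 1 (le_of_eq hx40)).upd 3 1 1 (le_of_eq hx41)) ![1,3,0,2] (by decide) (by decide) 0 (by decide))

theorem case22 (T : NumericalType 5) (hall : ∀ i, T.IsMinusTwo i) (d : SData T)
    (h01 : N T (Function.Embedding.refl _) 0 1 = 0) (h10 : N T (Function.Embedding.refl _) 1 0 = 0)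
    (h02 : N T (Function.Embedding.refl _) 0 2 = 0) (h20 : N T (Function.Embedding.refl _) 2 0 = 0)
    (h12 : N T (Function.Embedding.refl _) 1 2 = 0) (h21 : N T (Function.Embedding.refl _) 2 1 = 0)
    (h03 : N T (Function.Embedding.refl _) 0 3 = 0) (h30 : N T (Function.Embedding.refl _) 3 0 = 0)
    (h13 : N T (Function.Embedding.refl _) 1 3 = 1) (h31 : N T (Function.Embedding.refl _) 3 1 = 1)
    (h23 : N T (Function.Embedding.refl _) 2 3 = 0) (h32 : N T (Function.Embedding.refl _) 3 2 = 0) :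
    Goal T := by
  unfold Goal
  have hd := d
  obtain ⟨x01, x02, x03, x04, x10, x12, x13, x14, x20, x21, x23, x24, x30, x31, x32, x34, x40, x41, x42, x43, hx01, hx02, hx03, hx04, hx10, hx12, hx13, hx14, hx20, hx21, hx23, hx24, hx30, hx31, hx32, hx34, hx40, hx41, hx42, hx43, hw0, hm0, hw1, hm1, hw2, hm2, hw3, hm3, hw4, hm4, a00, a01, a02, a03, a04, a11, a10, a12, a13, a14, a22, a20, a21, a23, a24, a33, a30, a31, a32, a34, a44, a40, a41, a42, a43, wN01, wN02, wN12, wN03, wN13, wN23, wN04, wN14, wN24, wN34, e0, e1, e2, e3, e4, d01, d02, d12, d03, d13, d23, d04, d14, d24, d34⟩ := d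
  obtain rfl : x01 = 0 := hx01.trans h01
  obtain rfl : x10 = 0 := hx10.trans h10
  obtain rfl : x02 = 0 := hx02.trans h02
  obtain rfl : x20 = 0 := hx20.trans h20
  obtain rfl : x12 = 0 := hx12.trans h12
  obtain rfl : x21 = 0 := hx21.trans h21
  obtain rfl : x03 = 0 := hx03.trans h03
  obtain rfl : x30 = 0 := hx30.trans h30
  obtain rfl : x13 = 1 := hx13.trans h13
  obtain rfl : x31 = 1 := hx31.trans h31
  obtain rfl : x23 = 0 := hx23.trans h23
  obtain rfl : x32 = 0 := hx32.trans h32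
  rcases d04 with ⟨rfl, rfl⟩ | ⟨rfl, rfl⟩ | ⟨rfl, rfl⟩ | ⟨rfl, rfl⟩ | ⟨rfl, rfl⟩ | ⟨rfl, rfl⟩
  · -- 04=(0,0)
    exact case23 T hall hd hx01.symm hx10.symm hx02.symm hx20.symm hx12.symm hx21.symm hx03.symm hx30.symm hx13.symm hx31.symm hx23.symm hx32.symm hx04.symm hx40.symm
  · -- 04=(1,1)
    exact case24 T hall hd hx01.symm hx10.symm hx02.symm hx20.symm hx12.symm hx21.symm hx03.symm hx30.symm hx13.symm hx31.symm hx23.symm hx32.symm hx04.symm hx40.symm
  · -- 04=(1,2)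
    rcases d14 with ⟨rfl, rfl⟩ | ⟨rfl, rfl⟩ | ⟨rfl, rfl⟩ | ⟨rfl, rfl⟩ | ⟨rfl, rfl⟩ | ⟨rfl, rfl⟩
    · -- 14=(0,0)
      rcases d24 with ⟨rfl, rfl⟩ | ⟨rfl, rfl⟩ | ⟨rfl, rfl⟩ | ⟨rfl, rfl⟩ | ⟨rfl, rfl⟩ | ⟨rfl, rfl⟩
      · -- 24=(0,0)
        rcases d34 with ⟨rfl, rfl⟩ | ⟨rfl, rfl⟩ | ⟨rfl, rfl⟩ | ⟨rfl, rfl⟩ | ⟨rfl, rfl⟩ | ⟨rfl, rfl⟩
        · -- 34=(0,0)
          exfalso; omega
        · -- 34=(1,1)
          exfalso; omega
        · -- 34=(1,2)
          exact False.elim (cert_false T ((skipEmb 2).trans (Function.Embedding.refl _)) (by norm_num) (fun _ => hall _) (((((LB_zero T ((skipEmb 2).trans (Function.Embedding.refl _))).upd 0 3 1 (le_of_eq hx04)).upd 2 3 1 (le_of_eq hx34)).upd 3 0 2 (le_of_eq hx40)).upd 3 2 2 (le_of_eq hx43)) ![1,0,1,2] (by decide) (by decide) 0 (by decide))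
        · -- 34=(2,1)
          exact False.elim (cert_false T ((skipEmb 2).trans (Function.Embedding.refl _)) (by norm_num) (fun _ => hall _) (((((LB_zero T ((skipEmb 2).trans (Function.Embedding.refl _))).upd 0 3 1 (le_of_eq hx04)).upd 2 3 2 (le_of_eq hx34)).upd 3 0 2 (le_of_eq hx40)).upd 3 2 1 (le_of_eq hx43)) ![1,0,2,2] (by decide) (by decide) 0 (by decide))
        · -- 34=(1,3)
          exact False.elim (cert_false T ((skipEmb 2).trans (Function.Embedding.refl _)) (by norm_num) (fun _ => hall _) (((((LB_zero T ((skipEmb 2).trans (Function.Embedding.refl _))).upd 0 3 1 (le_of_eq hx04)).upd 2 3 1 (le_of_eq hx34)).upd 3 0 2 (le_of_eq hx40)).upd 3 2 3 (le_of_eq hx43)) ![1,0,1,2] (by decide) (by decide) 0 (by decide))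
        · -- 34=(3,1)
          exact False.elim (cert_false T ((skipEmb 2).trans (Function.Embedding.refl _)) (by norm_num) (fun _ => hall _) (((((LB_zero T ((skipEmb 2).trans (Function.Embedding.refl _))).upd 0 3 1 (le_of_eq hx04)).upd 2 3 3 (le_of_eq hx34)).upd 3 0 2 (le_of_eq hx40)).upd 3 2 1 (le_of_eq hx43)) ![1,0,2,2] (by decide) (by decide) 0 (by decide))
      · -- 24=(1,1)
        rcases d34 with ⟨rfl, rfl⟩ | ⟨rfl, rfl⟩ | ⟨rfl, rfl⟩ | ⟨rfl, rfl⟩ | ⟨rfl, rfl⟩ | ⟨rfl, rfl⟩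
        · -- 34=(0,0)
          exfalso; omega
        · -- 34=(1,1)
          exact False.elim (cert_false T ((skipEmb 1).trans (Function.Embedding.refl _)) (by norm_num) (fun _ => hall _) (((((((LB_zero T ((skipEmb 1).trans (Function.Embedding.refl _))).upd 0 3 1 (le_of_eq hx04)).upd 1 3 1 (le_of_eq hx24)).upd 2 3 1 (le_of_eq hx34)).upd 3 0 2 (le_of_eq hx40)).upd 3 1 1 (le_of_eq hx42)).upd 3 2 1 (le_of_eq hx43)) ![1,1,1,2] (by decide) (by decide) 0 (by decide))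
        · -- 34=(1,2)
          exact False.elim (cert_false T ((skipEmb 2).trans (Function.Embedding.refl _)) (by norm_num) (fun _ => hall _) (((((LB_zero T ((skipEmb 2).trans (Function.Embedding.refl _))).upd 0 3 1 (le_of_eq hx04)).upd 2 3 1 (le_of_eq hx34)).upd 3 0 2 (le_of_eq hx40)).upd 3 2 2 (le_of_eq hx43)) ![1,0,1,2] (by decide) (by decide) 0 (by decide))
        · -- 34=(2,1)
          exact False.elim (cert_false T ((skipEmb 2).trans (Function.Embedding.refl _)) (by norm_num) (fun _ => hall _) (((((LB_zero T ((skipEmb 2).trans (Function.Embedding.refl _))).upd 0 3 1 (le_of_eq hx04)).upd 2 3 2 (le_of_eq hx34)).upd 3 0 2 (le_of_eq hx40)).upd 3 2 1 (le_of_eq hx43)) ![1,0,2,2] (by decide) (by decide) 0 (by decide))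
        · -- 34=(1,3)
          exact False.elim (cert_false T ((skipEmb 2).trans (Function.Embedding.refl _)) (by norm_num) (fun _ => hall _) (((((LB_zero T ((skipEmb 2).trans (Function.Embedding.refl _))).upd 0 3 1 (le_of_eq hx04)).upd 2 3 1 (le_of_eq hx34)).upd 3 0 2 (le_of_eq hx40)).upd 3 2 3 (le_of_eq hx43)) ![1,0,1,2] (by decide) (by decide) 0 (by decide))
        · -- 34=(3,1)
          exact False.elim (cert_false T ((skipEmb 2).trans (Function.Embedding.refl _)) (by norm_num) (fun _ => hall _) (((((LB_zero T ((skipEmb 2).trans (Function.Embedding.refl _))).upd 0 3 1 (le_of_eq hx04)).upd 2 3 3 (le_of_eq hx34)).upd 3 0 2 (le_of_eq hx40)).upd 3 2 1 (le_of_eq hx43)) ![1,0,2,2] (by decide) (by decide) 0 (by decide))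
      · -- 24=(1,2)
        exact False.elim (cert_false T ((skipEmb 3).trans (Function.Embedding.refl _)) (by norm_num) (fun _ => hall _) (((((LB_zero T ((skipEmb 3).trans (Function.Embedding.refl _))).upd 0 3 1 (le_of_eq hx04)).upd 2 3 1 (le_of_eq hx24)).upd 3 0 2 (le_of_eq hx40)).upd 3 2 2 (le_of_eq hx42)) ![1,0,1,2] (by decide) (by decide) 0 (by decide))
      · -- 24=(2,1)
        exact False.elim (cert_false T ((skipEmb 3).trans (Function.Embedding.refl _)) (by norm_num) (fun _ => hall _) (((((LB_zero T ((skipEmb 3).trans (Function.Embedding.refl _))).upd 0 3 1 (le_of_eq hx04)).upd 2 3 2 (le_of_eq hx24)).upd 3 0 2 (le_of_eq hx40)).upd 3 2 1 (le_of_eq hx42)) ![1,0,2,2] (by decide) (by decide) 0 (by decide))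
      · -- 24=(1,3)
        exact False.elim (cert_false T ((skipEmb 3).trans (Function.Embedding.refl _)) (by norm_num) (fun _ => hall _) (((((LB_zero T ((skipEmb 3).trans (Function.Embedding.refl _))).upd 0 3 1 (le_of_eq hx04)).upd 2 3 1 (le_of_eq hx24)).upd 3 0 2 (le_of_eq hx40)).upd 3 2 3 (le_of_eq hx42)) ![1,0,1,2] (by decide) (by decide) 0 (by decide))
      · -- 24=(3,1)
        exact False.elim (cert_false T ((skipEmb 3).trans (Function.Embedding.refl _)) (by norm_num) (fun _ => hall _) (((((LB_zero T ((skipEmb 3).trans (Function.Embedding.refl _))).upd 0 3 1 (le_of_eq hx04)).upd 2 3 3 (le_of_eq hx24)).upd 3 0 2 (le_of_eq hx40)).upd 3 2 1 (le_of_eq hx42)) ![1,0,2,2] (by decide) (by decide) 0 (by decide))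
    · -- 14=(1,1)
      rcases d24 with ⟨rfl, rfl⟩ | ⟨rfl, rfl⟩ | ⟨rfl, rfl⟩ | ⟨rfl, rfl⟩ | ⟨rfl, rfl⟩ | ⟨rfl, rfl⟩
      · -- 24=(0,0)
        rcases d34 with ⟨rfl, rfl⟩ | ⟨rfl, rfl⟩ | ⟨rfl, rfl⟩ | ⟨rfl, rfl⟩ | ⟨rfl, rfl⟩ | ⟨rfl, rfl⟩
        · -- 34=(0,0)
          exfalso; omega
        · -- 34=(1,1)
          exact False.elim (cert_false T ((skipEmb 2).trans (Function.Embedding.refl _)) (by norm_num) (fun _ => hall _) (((((((LB_zero T ((skipEmb 2).trans (Function.Embedding.refl _))).upd 1 2 1 (le_of_eq hx13)).upd 1 3 1 (le_of_eq hx14)).upd 2 1 1 (le_of_eq hx31)).upd 2 3 1 (le_of_eq hx34)).upd 3 1 1 (le_of_eq hx41)).upd 3 2 1 (le_of_eq hx43)) ![0,1,1,1] (by decide) (by decide) 1 (by decide))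
        · -- 34=(1,2)
          exact False.elim (cert_false T ((skipEmb 2).trans (Function.Embedding.refl _)) (by norm_num) (fun _ => hall _) (((((((LB_zero T ((skipEmb 2).trans (Function.Embedding.refl _))).upd 1 2 1 (le_of_eq hx13)).upd 1 3 1 (le_of_eq hx14)).upd 2 1 1 (le_of_eq hx31)).upd 2 3 1 (le_of_eq hx34)).upd 3 1 1 (le_of_eq hx41)).upd 3 2 2 (le_of_eq hx43)) ![0,1,1,1] (by decide) (by decide) 1 (by decide))
        · -- 34=(2,1)
          exact False.elim (cert_false T ((skipEmb 2).trans (Function.Embedding.refl _)) (by norm_num) (fun _ => hall _) (((((((LB_zero T ((skipEmb 2).trans (Function.Embedding.refl _))).upd 1 2 1 (le_of_eq hx13)).upd 1 3 1 (le_of_eq hx14)).upd 2 1 1 (le_of_eq hx31)).upd 2 3 2 (le_of_eq hx34)).upd 3 1 1 (le_of_eq hx41)).upd 3 2 1 (le_of_eq hx43)) ![0,1,1,1] (by decide) (by decide) 1 (by decide))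
        · -- 34=(1,3)
          exact False.elim (cert_false T ((skipEmb 2).trans (Function.Embedding.refl _)) (by norm_num) (fun _ => hall _) (((((((LB_zero T ((skipEmb 2).trans (Function.Embedding.refl _))).upd 1 2 1 (le_of_eq hx13)).upd 1 3 1 (le_of_eq hx14)).upd 2 1 1 (le_of_eq hx31)).upd 2 3 1 (le_of_eq hx34)).upd 3 1 1 (le_of_eq hx41)).upd 3 2 3 (le_of_eq hx43)) ![0,1,1,1] (by decide) (by decide) 1 (by decide))
        · -- 34=(3,1)
          exact False.elim (cert_false T ((skipEmb 2).trans (Function.Embedding.refl _)) (by norm_num) (fun _ => hall _) (((((((LB_zero T ((skipEmb 2).trans (Function.Embedding.refl _))).upd 1 2 1 (le_of_eq hx13)).upd 1 3 1 (le_of_eq hx14)).upd 2 1 1 (le_of_eq hx31)).upd 2 3 3 (le_of_eq hx34)).upd 3 1 1 (le_of_eq hx41)).upd 3 2 1 (le_of_eq hx43)) ![0,1,1,1] (by decide) (by decide) 1 (by decide))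
      · -- 24=(1,1)
        exact False.elim (cert_false T ((skipEmb 3).trans (Function.Embedding.refl _)) (by norm_num) (fun _ => hall _) (((((((LB_zero T ((skipEmb 3).trans (Function.Embedding.refl _))).upd 0 3 1 (le_of_eq hx04)).upd 1 3 1 (le_of_eq hx14)).upd 2 3 1 (le_of_eq hx24)).upd 3 0 2 (le_of_eq hx40)).upd 3 1 1 (le_of_eq hx41)).upd 3 2 1 (le_of_eq hx42)) ![1,1,1,2] (by decide) (by decide) 0 (by decide))
      · -- 24=(1,2)
        exact False.elim (cert_false T ((skipEmb 3).trans (Function.Embedding.refl _)) (by norm_num) (fun _ => hall _) (((((LB_zero T ((skipEmb 3).trans (Function.Embedding.refl _))).upd 0 3 1 (le_of_eq hx04)).upd 2 3 1 (le_of_eq hx24)).upd 3 0 2 (le_of_eq hx40)).upd 3 2 2 (le_of_eq hx42)) ![1,0,1,2] (by decide) (by decide) 0 (by decide))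
      · -- 24=(2,1)
        exact False.elim (cert_false T ((skipEmb 3).trans (Function.Embedding.refl _)) (by norm_num) (fun _ => hall _) (((((LB_zero T ((skipEmb 3).trans (Function.Embedding.refl _))).upd 0 3 1 (le_of_eq hx04)).upd 2 3 2 (le_of_eq hx24)).upd 3 0 2 (le_of_eq hx40)).upd 3 2 1 (le_of_eq hx42)) ![1,0,2,2] (by decide) (by decide) 0 (by decide))
      · -- 24=(1,3)
        exact False.elim (cert_false T ((skipEmb 3).trans (Function.Embedding.refl _)) (by norm_num) (fun _ => hall _) (((((LB_zero T ((skipEmb 3).trans (Function.Embedding.refl _))).upd 1 3 1 (le_of_eq hx14)).upd 2 3 1 (le_of_eq hx24)).upd 3 1 1 (le_of_eq hx41)).upd 3 2 3 (le_of_eq hx42)) ![0,1,1,2] (by decide) (by decide) 1 (by decide))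
      · -- 24=(3,1)
        exact False.elim (cert_false T ((skipEmb 3).trans (Function.Embedding.refl _)) (by norm_num) (fun _ => hall _) (((((LB_zero T ((skipEmb 3).trans (Function.Embedding.refl _))).upd 0 3 1 (le_of_eq hx04)).upd 2 3 3 (le_of_eq hx24)).upd 3 0 2 (le_of_eq hx40)).upd 3 2 1 (le_of_eq hx42)) ![1,0,2,2] (by decide) (by decide) 0 (by decide))
    · -- 14=(1,2)
      exact False.elim (cert_false T ((skipEmb 3).trans (Function.Embedding.refl _)) (by norm_num) (fun _ => hall _) (((((LB_zero T ((skipEmb 3).trans (Function.Embedding.refl _))).upd 0 3 1 (le_of_eq hx04)).upd 1 3 1 (le_of_eq hx14)).upd 3 0 2 (le_of_eq hx40)).upd 3 1 2 (le_of_eq hx41)) ![1,1,0,2] (by decide) (by decide) 0 (by decide))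
    · -- 14=(2,1)
      exact False.elim (cert_false T ((skipEmb 3).trans (Function.Embedding.refl _)) (by norm_num) (fun _ => hall _) (((((LB_zero T ((skipEmb 3).trans (Function.Embedding.refl _))).upd 0 3 1 (le_of_eq hx04)).upd 1 3 2 (le_of_eq hx14)).upd 3 0 2 (le_of_eq hx40)).upd 3 1 1 (le_of_eq hx41)) ![1,2,0,2] (by decide) (by decide) 0 (by decide))
    · -- 14=(1,3)
      exact False.elim (cert_false T ((skipEmb 3).trans (Function.Embedding.refl _)) (by norm_num) (fun _ => hall _) (((((LB_zero T ((skipEmb 3).trans (Function.Embedding.refl _))).upd 0 3 1 (le_of_eq hx04)).upd 1 3 1 (le_of_eq hx14)).upd 3 0 2 (le_of_eq hx40)).upd 3 1 3 (le_of_eq hx41)) ![1,1,0,2] (by decide) (by decide) 0 (by decide))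
    · -- 14=(3,1)
      exact False.elim (cert_false T ((skipEmb 3).trans (Function.Embedding.refl _)) (by norm_num) (fun _ => hall _) (((((LB_zero T ((skipEmb 3).trans (Function.Embedding.refl _))).upd 0 3 1 (le_of_eq hx04)).upd 1 3 3 (le_of_eq hx14)).upd 3 0 2 (le_of_eq hx40)).upd 3 1 1 (le_of_eq hx41)) ![1,2,0,2] (by decide) (by decide) 0 (by decide))
  · -- 04=(2,1)
    rcases d14 with ⟨rfl, rfl⟩ | ⟨rfl, rfl⟩ | ⟨rfl, rfl⟩ | ⟨rfl, rfl⟩ | ⟨rfl, rfl⟩ | ⟨rfl, rfl⟩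
    · -- 14=(0,0)
      rcases d24 with ⟨rfl, rfl⟩ | ⟨rfl, rfl⟩ | ⟨rfl, rfl⟩ | ⟨rfl, rfl⟩ | ⟨rfl, rfl⟩ | ⟨rfl, rfl⟩
      · -- 24=(0,0)
        rcases d34 with ⟨rfl, rfl⟩ | ⟨rfl, rfl⟩ | ⟨rfl, rfl⟩ | ⟨rfl, rfl⟩ | ⟨rfl, rfl⟩ | ⟨rfl, rfl⟩
        · -- 34=(0,0)
          exfalso; omega
        · -- 34=(1,1)
          exfalso; omega
        · -- 34=(1,2)
          exact False.elim (cert_false T ((skipEmb 2).trans (Function.Embedding.refl _)) (by norm_num) (fun _ => hall _) (((((LB_zero T ((skipEmb 2).trans (Function.Embedding.refl _))).upd 0 3 2 (le_of_eq hx04)).upd 2 3 1 (le_of_eq hx34)).upd 3 0 1 (le_of_eq hx40)).upd 3 2 2 (le_of_eq hx43)) ![2,0,1,2] (by decide) (by decide) 0 (by decide))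
        · -- 34=(2,1)
          exact False.elim (cert_false T ((skipEmb 2).trans (Function.Embedding.refl _)) (by norm_num) (fun _ => hall _) (((((LB_zero T ((skipEmb 2).trans (Function.Embedding.refl _))).upd 0 3 2 (le_of_eq hx04)).upd 2 3 2 (le_of_eq hx34)).upd 3 0 1 (le_of_eq hx40)).upd 3 2 1 (le_of_eq hx43)) ![1,0,1,1] (by decide) (by decide) 0 (by decide))
        · -- 34=(1,3)
          exact False.elim (cert_false T ((skipEmb 2).trans (Function.Embedding.refl _)) (by norm_num) (fun _ => hall _) (((((LB_zero T ((skipEmb 2).trans (Function.Embedding.refl _))).upd 0 3 2 (le_of_eq hx04)).upd 2 3 1 (le_of_eq hx34)).upd 3 0 1 (le_of_eq hx40)).upd 3 2 3 (le_of_eq hx43)) ![1,0,1,2] (by decide) (by decide) 0 (by decide))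
        · -- 34=(3,1)
          exact False.elim (cert_false T ((skipEmb 2).trans (Function.Embedding.refl _)) (by norm_num) (fun _ => hall _) (((((LB_zero T ((skipEmb 2).trans (Function.Embedding.refl _))).upd 0 3 2 (le_of_eq hx04)).upd 2 3 3 (le_of_eq hx34)).upd 3 0 1 (le_of_eq hx40)).upd 3 2 1 (le_of_eq hx43)) ![1,0,1,1] (by decide) (by decide) 0 (by decide))
      · -- 24=(1,1)
        rcases d34 with ⟨rfl, rfl⟩ | ⟨rfl, rfl⟩ | ⟨rfl, rfl⟩ | ⟨rfl, rfl⟩ | ⟨rfl, rfl⟩ | ⟨rfl, rfl⟩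
        · -- 34=(0,0)
          exfalso; omega
        · -- 34=(1,1)
          exact False.elim (cert_false T ((skipEmb 1).trans (Function.Embedding.refl _)) (by norm_num) (fun _ => hall _) (((((((LB_zero T ((skipEmb 1).trans (Function.Embedding.refl _))).upd 0 3 2 (le_of_eq hx04)).upd 1 3 1 (le_of_eq hx24)).upd 2 3 1 (le_of_eq hx34)).upd 3 0 1 (le_of_eq hx40)).upd 3 1 1 (le_of_eq hx42)).upd 3 2 1 (le_of_eq hx43)) ![2,1,1,2] (by decide) (by decide) 0 (by decide))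
        · -- 34=(1,2)
          exact False.elim (cert_false T ((skipEmb 2).trans (Function.Embedding.refl _)) (by norm_num) (fun _ => hall _) (((((LB_zero T ((skipEmb 2).trans (Function.Embedding.refl _))).upd 0 3 2 (le_of_eq hx04)).upd 2 3 1 (le_of_eq hx34)).upd 3 0 1 (le_of_eq hx40)).upd 3 2 2 (le_of_eq hx43)) ![2,0,1,2] (by decide) (by decide) 0 (by decide))
        · -- 34=(2,1)
          exact False.elim (cert_false T ((skipEmb 2).trans (Function.Embedding.refl _)) (by norm_num) (fun _ => hall _) (((((LB_zero T ((skipEmb 2).trans (Function.Embedding.refl _))).upd 0 3 2 (le_of_eq hx04)).upd 2 3 2 (le_of_eq hx34)).upd 3 0 1 (le_of_eq hx40)).upd 3 2 1 (le_of_eq hx43)) ![1,0,1,1] (by decide) (by decide) 0 (by decide))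
        · -- 34=(1,3)
          exact False.elim (cert_false T ((skipEmb 2).trans (Function.Embedding.refl _)) (by norm_num) (fun _ => hall _) (((((LB_zero T ((skipEmb 2).trans (Function.Embedding.refl _))).upd 0 3 2 (le_of_eq hx04)).upd 2 3 1 (le_of_eq hx34)).upd 3 0 1 (le_of_eq hx40)).upd 3 2 3 (le_of_eq hx43)) ![1,0,1,2] (by decide) (by decide) 0 (by decide))
        · -- 34=(3,1)
          exact False.elim (cert_false T ((skipEmb 2).trans (Function.Embedding.refl _)) (by norm_num) (fun _ => hall _) (((((LB_zero T ((skipEmb 2).trans (Function.Embedding.refl _))).upd 0 3 2 (le_of_eq hx04)).upd 2 3 3 (le_of_eq hx34)).upd 3 0 1 (le_of_eq hx40)).upd 3 2 1 (le_of_eq hx43)) ![1,0,1,1] (by decide) (by decide) 0 (by decide))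
      · -- 24=(1,2)
        exact False.elim (cert_false T ((skipEmb 3).trans (Function.Embedding.refl _)) (by norm_num) (fun _ => hall _) (((((LB_zero T ((skipEmb 3).trans (Function.Embedding.refl _))).upd 0 3 2 (le_of_eq hx04)).upd 2 3 1 (le_of_eq hx24)).upd 3 0 1 (le_of_eq hx40)).upd 3 2 2 (le_of_eq hx42)) ![2,0,1,2] (by decide) (by decide) 0 (by decide))
      · -- 24=(2,1)
        exact False.elim (cert_false T ((skipEmb 3).trans (Function.Embedding.refl _)) (by norm_num) (fun _ => hall _) (((((LB_zero T ((skipEmb 3).trans (Function.Embedding.refl _))).upd 0 3 2 (le_of_eq hx04)).upd 2 3 2 (le_of_eq hx24)).upd 3 0 1 (le_of_eq hx40)).upd 3 2 1 (le_of_eq hx42)) ![1,0,1,1] (by decide) (by decide) 0 (by decide))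
      · -- 24=(1,3)
        exact False.elim (cert_false T ((skipEmb 3).trans (Function.Embedding.refl _)) (by norm_num) (fun _ => hall _) (((((LB_zero T ((skipEmb 3).trans (Function.Embedding.refl _))).upd 0 3 2 (le_of_eq hx04)).upd 2 3 1 (le_of_eq hx24)).upd 3 0 1 (le_of_eq hx40)).upd 3 2 3 (le_of_eq hx42)) ![1,0,1,2] (by decide) (by decide) 0 (by decide))
      · -- 24=(3,1)
        exact False.elim (cert_false T ((skipEmb 3).trans (Function.Embedding.refl _)) (by norm_num) (fun _ => hall _) (((((LB_zero T ((skipEmb 3).trans (Function.Embedding.refl _))).upd 0 3 2 (le_of_eq hx04)).upd 2 3 3 (le_of_eq hx24)).upd 3 0 1 (le_of_eq hx40)).upd 3 2 1 (le_of_eq hx42)) ![1,0,1,1] (by decide) (by decide) 0 (by decide))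
    · -- 14=(1,1)
      rcases d24 with ⟨rfl, rfl⟩ | ⟨rfl, rfl⟩ | ⟨rfl, rfl⟩ | ⟨rfl, rfl⟩ | ⟨rfl, rfl⟩ | ⟨rfl, rfl⟩
      · -- 24=(0,0)
        rcases d34 with ⟨rfl, rfl⟩ | ⟨rfl, rfl⟩ | ⟨rfl, rfl⟩ | ⟨rfl, rfl⟩ | ⟨rfl, rfl⟩ | ⟨rfl, rfl⟩
        · -- 34=(0,0)
          exfalso; omega
        · -- 34=(1,1)
          exact False.elim (cert_false T ((skipEmb 2).trans (Function.Embedding.refl _)) (by norm_num) (fun _ => hall _) (((((((LB_zero T ((skipEmb 2).trans (Function.Embedding.refl _))).upd 1 2 1 (le_of_eq hx13)).upd 1 3 1 (le_of_eq hx14)).upd 2 1 1 (le_of_eq hx31)).upd 2 3 1 (le_of_eq hx34)).upd 3 1 1 (le_of_eq hx41)).upd 3 2 1 (le_of_eq hx43)) ![0,1,1,1] (by decide) (by decide) 1 (by decide))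
        · -- 34=(1,2)
          exact False.elim (cert_false T ((skipEmb 2).trans (Function.Embedding.refl _)) (by norm_num) (fun _ => hall _) (((((((LB_zero T ((skipEmb 2).trans (Function.Embedding.refl _))).upd 1 2 1 (le_of_eq hx13)).upd 1 3 1 (le_of_eq hx14)).upd 2 1 1 (le_of_eq hx31)).upd 2 3 1 (le_of_eq hx34)).upd 3 1 1 (le_of_eq hx41)).upd 3 2 2 (le_of_eq hx43)) ![0,1,1,1] (by decide) (by decide) 1 (by decide))
        · -- 34=(2,1)
          exact False.elim (cert_false T ((skipEmb 2).trans (Function.Embedding.refl _)) (by norm_num) (fun _ => hall _) (((((LB_zero T ((skipEmb 2).trans (Function.Embedding.refl _))).upd 0 3 2 (le_of_eq hx04)).upd 2 3 2 (le_of_eq hx34)).upd 3 0 1 (le_of_eq hx40)).upd 3 2 1 (le_of_eq hx43)) ![1,0,1,1] (by decide) (by decide) 0 (by decide))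
        · -- 34=(1,3)
          exact False.elim (cert_false T ((skipEmb 2).trans (Function.Embedding.refl _)) (by norm_num) (fun _ => hall _) (((((((LB_zero T ((skipEmb 2).trans (Function.Embedding.refl _))).upd 1 2 1 (le_of_eq hx13)).upd 1 3 1 (le_of_eq hx14)).upd 2 1 1 (le_of_eq hx31)).upd 2 3 1 (le_of_eq hx34)).upd 3 1 1 (le_of_eq hx41)).upd 3 2 3 (le_of_eq hx43)) ![0,1,1,1] (by decide) (by decide) 1 (by decide))
        · -- 34=(3,1)
          exact False.elim (cert_false T ((skipEmb 2).trans (Function.Embedding.refl _)) (by norm_num) (fun _ => hall _) (((((LB_zero T ((skipEmb 2).trans (Function.Embedding.refl _))).upd 0 3 2 (le_of_eq hx04)).upd 2 3 3 (le_of_eq hx34)).upd 3 0 1 (le_of_eq hx40)).upd 3 2 1 (le_of_eq hx43)) ![1,0,1,1] (by decide) (by decide) 0 (by decide))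
      · -- 24=(1,1)
        exact False.elim (cert_false T ((skipEmb 3).trans (Function.Embedding.refl _)) (by norm_num) (fun _ => hall _) (((((((LB_zero T ((skipEmb 3).trans (Function.Embedding.refl _))).upd 0 3 2 (le_of_eq hx04)).upd 1 3 1 (le_of_eq hx14)).upd 2 3 1 (le_of_eq hx24)).upd 3 0 1 (le_of_eq hx40)).upd 3 1 1 (le_of_eq hx41)).upd 3 2 1 (le_of_eq hx42)) ![2,1,1,2] (by decide) (by decide) 0 (by decide))
      · -- 24=(1,2)
        exact False.elim (cert_false T ((skipEmb 3).trans (Function.Embedding.refl _)) (by norm_num) (fun _ => hall _) (((((((LB_zero T ((skipEmb 3).trans (Function.Embedding.refl _))).upd 0 3 2 (le_of_eq hx04)).upd 1 3 1 (le_of_eq hx14)).upd 2 3 1 (le_of_eq hx24)).upd 3 0 1 (le_of_eq hx40)).upd 3 1 1 (le_of_eq hx41)).upd 3 2 2 (le_of_eq hx42)) ![1,1,1,2] (by decide) (by decide) 0 (by decide))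
      · -- 24=(2,1)
        exact False.elim (cert_false T ((skipEmb 3).trans (Function.Embedding.refl _)) (by norm_num) (fun _ => hall _) (((((LB_zero T ((skipEmb 3).trans (Function.Embedding.refl _))).upd 0 3 2 (le_of_eq hx04)).upd 2 3 2 (le_of_eq hx24)).upd 3 0 1 (le_of_eq hx40)).upd 3 2 1 (le_of_eq hx42)) ![1,0,1,1] (by decide) (by decide) 0 (by decide))
      · -- 24=(1,3)
        exact False.elim (cert_false T ((skipEmb 3).trans (Function.Embedding.refl _)) (by norm_num) (fun _ => hall _) (((((LB_zero T ((skipEmb 3).trans (Function.Embedding.refl _))).upd 1 3 1 (le_of_eq hx14)).upd 2 3 1 (le_of_eq hx24)).upd 3 1 1 (le_of_eq hx41)).upd 3 2 3 (le_of_eq hx42)) ![0,1,1,2] (by decide) (by decide) 1 (by decide))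
      · -- 24=(3,1)
        exact False.elim (cert_false T ((skipEmb 3).trans (Function.Embedding.refl _)) (by norm_num) (fun _ => hall _) (((((LB_zero T ((skipEmb 3).trans (Function.Embedding.refl _))).upd 0 3 2 (le_of_eq hx04)).upd 2 3 3 (le_of_eq hx24)).upd 3 0 1 (le_of_eq hx40)).upd 3 2 1 (le_of_eq hx42)) ![1,0,1,1] (by decide) (by decide) 0 (by decide))
    · -- 14=(1,2)
      exact False.elim (cert_false T ((skipEmb 3).trans (Function.Embedding.refl _)) (by norm_num) (fun _ => hall _) (((((LB_zero T ((skipEmb 3).trans (Function.Embedding.refl _))).upd 0 3 2 (le_of_eq hx04)).upd 1 3 1 (le_of_eq hx14)).upd 3 0 1 (le_of_eq hx40)).upd 3 1 2 (le_of_eq hx41)) ![2,1,0,2] (by decide) (by decide) 0 (by decide))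
    · -- 14=(2,1)
      exact False.elim (cert_false T ((skipEmb 3).trans (Function.Embedding.refl _)) (by norm_num) (fun _ => hall _) (((((LB_zero T ((skipEmb 3).trans (Function.Embedding.refl _))).upd 0 3 2 (le_of_eq hx04)).upd 1 3 2 (le_of_eq hx14)).upd 3 0 1 (le_of_eq hx40)).upd 3 1 1 (le_of_eq hx41)) ![1,1,0,1] (by decide) (by decide) 0 (by decide))
    · -- 14=(1,3)
      exact False.elim (cert_false T ((skipEmb 3).trans (Function.Embedding.refl _)) (by norm_num) (fun _ => hall _) (((((LB_zero T ((skipEmb 3).trans (Function.Embedding.refl _))).upd 0 3 2 (le_of_eq hx04)).upd 1 3 1 (le_of_eq hx14)).upd 3 0 1 (le_of_eq hx40)).upd 3 1 3 (le_of_eq hx41)) ![1,1,0,2] (by decide) (by decide) 0 (by decide))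
    · -- 14=(3,1)
      exact False.elim (cert_false T ((skipEmb 3).trans (Function.Embedding.refl _)) (by norm_num) (fun _ => hall _) (((((LB_zero T ((skipEmb 3).trans (Function.Embedding.refl _))).upd 0 3 2 (le_of_eq hx04)).upd 1 3 3 (le_of_eq hx14)).upd 3 0 1 (le_of_eq hx40)).upd 3 1 1 (le_of_eq hx41)) ![1,1,0,1] (by decide) (by decide) 0 (by decide))
  · -- 04=(1,3)
    rcases d14 with ⟨rfl, rfl⟩ | ⟨rfl, rfl⟩ | ⟨rfl, rfl⟩ | ⟨rfl, rfl⟩ | ⟨rfl, rfl⟩ | ⟨rfl, rfl⟩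
    · -- 14=(0,0)
      rcases d24 with ⟨rfl, rfl⟩ | ⟨rfl, rfl⟩ | ⟨rfl, rfl⟩ | ⟨rfl, rfl⟩ | ⟨rfl, rfl⟩ | ⟨rfl, rfl⟩
      · -- 24=(0,0)
        rcases d34 with ⟨rfl, rfl⟩ | ⟨rfl, rfl⟩ | ⟨rfl, rfl⟩ | ⟨rfl, rfl⟩ | ⟨rfl, rfl⟩ | ⟨rfl, rfl⟩
        · -- 34=(0,0)
          exfalso; omega
        · -- 34=(1,1)
          exact False.elim (cert_false T ((skipEmb 2).trans (Function.Embedding.refl _)) (by norm_num) (fun _ => hall _) (((((LB_zero T ((skipEmb 2).trans (Function.Embedding.refl _))).upd 0 3 1 (le_of_eq hx04)).upd 2 3 1 (le_of_eq hx34)).upd 3 0 3 (le_of_eq hx40)).upd 3 2 1 (le_of_eq hx43)) ![1,0,1,2] (by decide) (by decide) 0 (by decide))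
        · -- 34=(1,2)
          exact False.elim (cert_false T ((skipEmb 2).trans (Function.Embedding.refl _)) (by norm_num) (fun _ => hall _) (((((LB_zero T ((skipEmb 2).trans (Function.Embedding.refl _))).upd 0 3 1 (le_of_eq hx04)).upd 2 3 1 (le_of_eq hx34)).upd 3 0 3 (le_of_eq hx40)).upd 3 2 2 (le_of_eq hx43)) ![1,0,1,2] (by decide) (by decide) 0 (by decide))
        · -- 34=(2,1)
          exact False.elim (cert_false T ((skipEmb 2).trans (Function.Embedding.refl _)) (by norm_num) (fun _ => hall _) (((((LB_zero T ((skipEmb 2).trans (Function.Embedding.refl _))).upd 0 3 1 (le_of_eq hx04)).upd 2 3 2 (le_of_eq hx34)).upd 3 0 3 (le_of_eq hx40)).upd 3 2 1 (le_of_eq hx43)) ![1,0,1,2] (by decide) (by decide) 0 (by decide))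
        · -- 34=(1,3)
          exact False.elim (cert_false T ((skipEmb 2).trans (Function.Embedding.refl _)) (by norm_num) (fun _ => hall _) (((((LB_zero T ((skipEmb 2).trans (Function.Embedding.refl _))).upd 0 3 1 (le_of_eq hx04)).upd 2 3 1 (le_of_eq hx34)).upd 3 0 3 (le_of_eq hx40)).upd 3 2 3 (le_of_eq hx43)) ![1,0,1,2] (by decide) (by decide) 0 (by decide))
        · -- 34=(3,1)
          exact False.elim (cert_false T ((skipEmb 2).trans (Function.Embedding.refl _)) (by norm_num) (fun _ => hall _) (((((LB_zero T ((skipEmb 2).trans (Function.Embedding.refl _))).upd 0 3 1 (le_of_eq hx04)).upd 2 3 3 (le_of_eq hx34)).upd 3 0 3 (le_of_eq hx40)).upd 3 2 1 (le_of_eq hx43)) ![1,0,1,2] (by decide) (by decide) 0 (by decide))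
      · -- 24=(1,1)
        exact False.elim (cert_false T ((skipEmb 3).trans (Function.Embedding.refl _)) (by norm_num) (fun _ => hall _) (((((LB_zero T ((skipEmb 3).trans (Function.Embedding.refl _))).upd 0 3 1 (le_of_eq hx04)).upd 2 3 1 (le_of_eq hx24)).upd 3 0 3 (le_of_eq hx40)).upd 3 2 1 (le_of_eq hx42)) ![1,0,1,2] (by decide) (by decide) 0 (by decide))
      · -- 24=(1,2)
        exact False.elim (cert_false T ((skipEmb 3).trans (Function.Embedding.refl _)) (by norm_num) (fun _ => hall _) (((((LB_zero T ((skipEmb 3).trans (Function.Embedding.refl _))).upd 0 3 1 (le_of_eq hx04)).upd 2 3 1 (le_of_eq hx24)).upd 3 0 3 (le_of_eq hx40)).upd 3 2 2 (le_of_eq hx42)) ![1,0,1,2] (by decide) (by decide) 0 (by decide))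
      · -- 24=(2,1)
        exact False.elim (cert_false T ((skipEmb 3).trans (Function.Embedding.refl _)) (by norm_num) (fun _ => hall _) (((((LB_zero T ((skipEmb 3).trans (Function.Embedding.refl _))).upd 0 3 1 (le_of_eq hx04)).upd 2 3 2 (le_of_eq hx24)).upd 3 0 3 (le_of_eq hx40)).upd 3 2 1 (le_of_eq hx42)) ![1,0,1,2] (by decide) (by decide) 0 (by decide))
      · -- 24=(1,3)
        exact False.elim (cert_false T ((skipEmb 3).trans (Function.Embedding.refl _)) (by norm_num) (fun _ => hall _) (((((LB_zero T ((skipEmb 3).trans (Function.Embedding.refl _))).upd 0 3 1 (le_of_eq hx04)).upd 2 3 1 (le_of_eq hx24)).upd 3 0 3 (le_of_eq hx40)).upd 3 2 3 (le_of_eq hx42)) ![1,0,1,2] (by decide) (by decide) 0 (by decide))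
      · -- 24=(3,1)
        exact False.elim (cert_false T ((skipEmb 3).trans (Function.Embedding.refl _)) (by norm_num) (fun _ => hall _) (((((LB_zero T ((skipEmb 3).trans (Function.Embedding.refl _))).upd 0 3 1 (le_of_eq hx04)).upd 2 3 3 (le_of_eq hx24)).upd 3 0 3 (le_of_eq hx40)).upd 3 2 1 (le_of_eq hx42)) ![1,0,1,2] (by decide) (by decide) 0 (by decide))
    · -- 14=(1,1)
      exact False.elim (cert_false T ((skipEmb 3).trans (Function.Embedding.refl _)) (by norm_num) (fun _ => hall _) (((((LB_zero T ((skipEmb 3).trans (Function.Embedding.refl _))).upd 0 3 1 (le_of_eq hx04)).upd 1 3 1 (le_of_eq hx14)).upd 3 0 3 (le_of_eq hx40)).upd 3 1 1 (le_of_eq hx41)) ![1,1,0,2] (by decide) (by decide) 0 (by decide))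
    · -- 14=(1,2)
      exact False.elim (cert_false T ((skipEmb 3).trans (Function.Embedding.refl _)) (by norm_num) (fun _ => hall _) (((((LB_zero T ((skipEmb 3).trans (Function.Embedding.refl _))).upd 0 3 1 (le_of_eq hx04)).upd 1 3 1 (le_of_eq hx14)).upd 3 0 3 (le_of_eq hx40)).upd 3 1 2 (le_of_eq hx41)) ![1,1,0,2] (by decide) (by decide) 0 (by decide))
    · -- 14=(2,1)
      exact False.elim (cert_false T ((skipEmb 3).trans (Function.Embedding.refl _)) (by norm_num) (fun _ => hall _) (((((LB_zero T ((skipEmb 3).trans (Function.Embedding.refl _))).upd 0 3 1 (le_of_eq hx04)).upd 1 3 2 (le_of_eq hx14)).upd 3 0 3 (le_of_eq hx40)).upd 3 1 1 (le_of_eq hx41)) ![1,1,0,2] (by decide) (by decide) 0 (by decide))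
    · -- 14=(1,3)
      exact False.elim (cert_false T ((skipEmb 3).trans (Function.Embedding.refl _)) (by norm_num) (fun _ => hall _) (((((LB_zero T ((skipEmb 3).trans (Function.Embedding.refl _))).upd 0 3 1 (le_of_eq hx04)).upd 1 3 1 (le_of_eq hx14)).upd 3 0 3 (le_of_eq hx40)).upd 3 1 3 (le_of_eq hx41)) ![1,1,0,2] (by decide) (by decide) 0 (by decide))
    · -- 14=(3,1)
      exact False.elim (cert_false T ((skipEmb 3).trans (Function.Embedding.refl _)) (by norm_num) (fun _ => hall _) (((((LB_zero T ((skipEmb 3).trans (Function.Embedding.refl _))).upd 0 3 1 (le_of_eq hx04)).upd 1 3 3 (le_of_eq hx14)).upd 3 0 3 (le_of_eq hx40)).upd 3 1 1 (le_of_eq hx41)) ![1,1,0,2] (by decide) (by decide) 0 (by decide))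
  · -- 04=(3,1)
    rcases d14 with ⟨rfl, rfl⟩ | ⟨rfl, rfl⟩ | ⟨rfl, rfl⟩ | ⟨rfl, rfl⟩ | ⟨rfl, rfl⟩ | ⟨rfl, rfl⟩
    · -- 14=(0,0)
      rcases d24 with ⟨rfl, rfl⟩ | ⟨rfl, rfl⟩ | ⟨rfl, rfl⟩ | ⟨rfl, rfl⟩ | ⟨rfl, rfl⟩ | ⟨rfl, rfl⟩
      · -- 24=(0,0)
        rcases d34 with ⟨rfl, rfl⟩ | ⟨rfl, rfl⟩ | ⟨rfl, rfl⟩ | ⟨rfl, rfl⟩ | ⟨rfl, rfl⟩ | ⟨rfl, rfl⟩
        · -- 34=(0,0)
          exfalso; omega
        · -- 34=(1,1)
          exact False.elim (cert_false T ((skipEmb 2).trans (Function.Embedding.refl _)) (by norm_num) (fun _ => hall _) (((((LB_zero T ((skipEmb 2).trans (Function.Embedding.refl _))).upd 0 3 3 (le_of_eq hx04)).upd 2 3 1 (le_of_eq hx34)).upd 3 0 1 (le_of_eq hx40)).upd 3 2 1 (le_of_eq hx43)) ![3,0,1,2] (by decide) (by decide) 0 (by decide))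
        · -- 34=(1,2)
          exact False.elim (cert_false T ((skipEmb 2).trans (Function.Embedding.refl _)) (by norm_num) (fun _ => hall _) (((((LB_zero T ((skipEmb 2).trans (Function.Embedding.refl _))).upd 0 3 3 (le_of_eq hx04)).upd 2 3 1 (le_of_eq hx34)).upd 3 0 1 (le_of_eq hx40)).upd 3 2 2 (le_of_eq hx43)) ![2,0,1,2] (by decide) (by decide) 0 (by decide))
        · -- 34=(2,1)
          exact False.elim (cert_false T ((skipEmb 2).trans (Function.Embedding.refl _)) (by norm_num) (fun _ => hall _) (((((LB_zero T ((skipEmb 2).trans (Function.Embedding.refl _))).upd 0 3 3 (le_of_eq hx04)).upd 2 3 2 (le_of_eq hx34)).upd 3 0 1 (le_of_eq hx40)).upd 3 2 1 (le_of_eq hx43)) ![1,0,1,1] (by decide) (by decide) 0 (by decide))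
        · -- 34=(1,3)
          exact False.elim (cert_false T ((skipEmb 2).trans (Function.Embedding.refl _)) (by norm_num) (fun _ => hall _) (((((LB_zero T ((skipEmb 2).trans (Function.Embedding.refl _))).upd 0 3 3 (le_of_eq hx04)).upd 2 3 1 (le_of_eq hx34)).upd 3 0 1 (le_of_eq hx40)).upd 3 2 3 (le_of_eq hx43)) ![1,0,1,2] (by decide) (by decide) 0 (by decide))
        · -- 34=(3,1)
          exact False.elim (cert_false T ((skipEmb 2).trans (Function.Embedding.refl _)) (by norm_num) (fun _ => hall _) (((((LB_zero T ((skipEmb 2).trans (Function.Embedding.refl _))).upd 0 3 3 (le_of_eq hx04)).upd 2 3 3 (le_of_eq hx34)).upd 3 0 1 (le_of_eq hx40)).upd 3 2 1 (le_of_eq hx43)) ![1,0,1,1] (by decide) (by decide) 0 (by decide))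
      · -- 24=(1,1)
        exact False.elim (cert_false T ((skipEmb 3).trans (Function.Embedding.refl _)) (by norm_num) (fun _ => hall _) (((((LB_zero T ((skipEmb 3).trans (Function.Embedding.refl _))).upd 0 3 3 (le_of_eq hx04)).upd 2 3 1 (le_of_eq hx24)).upd 3 0 1 (le_of_eq hx40)).upd 3 2 1 (le_of_eq hx42)) ![3,0,1,2] (by decide) (by decide) 0 (by decide))
      · -- 24=(1,2)
        exact False.elim (cert_false T ((skipEmb 3).trans (Function.Embedding.refl _)) (by norm_num) (fun _ => hall _) (((((LB_zero T ((skipEmb 3).trans (Function.Embedding.refl _))).upd 0 3 3 (le_of_eq hx04)).upd 2 3 1 (le_of_eq hx24)).upd 3 0 1 (le_of_eq hx40)).upd 3 2 2 (le_of_eq hx42)) ![2,0,1,2] (by decide) (by decide) 0 (by decide))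
      · -- 24=(2,1)
        exact False.elim (cert_false T ((skipEmb 3).trans (Function.Embedding.refl _)) (by norm_num) (fun _ => hall _) (((((LB_zero T ((skipEmb 3).trans (Function.Embedding.refl _))).upd 0 3 3 (le_of_eq hx04)).upd 2 3 2 (le_of_eq hx24)).upd 3 0 1 (le_of_eq hx40)).upd 3 2 1 (le_of_eq hx42)) ![1,0,1,1] (by decide) (by decide) 0 (by decide))
      · -- 24=(1,3)
        exact False.elim (cert_false T ((skipEmb 3).trans (Function.Embedding.refl _)) (by norm_num) (fun _ => hall _) (((((LB_zero T ((skipEmb 3).trans (Function.Embedding.refl _))).upd 0 3 3 (le_of_eq hx04)).upd 2 3 1 (le_of_eq hx24)).upd 3 0 1 (le_of_eq hx40)).upd 3 2 3 (le_of_eq hx42)) ![1,0,1,2] (by decide) (by decide) 0 (by decide))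
      · -- 24=(3,1)
        exact False.elim (cert_false T ((skipEmb 3).trans (Function.Embedding.refl _)) (by norm_num) (fun _ => hall _) (((((LB_zero T ((skipEmb 3).trans (Function.Embedding.refl _))).upd 0 3 3 (le_of_eq hx04)).upd 2 3 3 (le_of_eq hx24)).upd 3 0 1 (le_of_eq hx40)).upd 3 2 1 (le_of_eq hx42)) ![1,0,1,1] (by decide) (by decide) 0 (by decide))
    · -- 14=(1,1)
      exact False.elim (cert_false T ((skipEmb 3).trans (Function.Embedding.refl _)) (by norm_num) (fun _ => hall _) (((((LB_zero T ((skipEmb 3).trans (Function.Embedding.refl _))).upd 0 3 3 (le_of_eq hx04)).upd 1 3 1 (le_of_eq hx14)).upd 3 0 1 (le_of_eq hx40)).upd 3 1 1 (le_of_eq hx41)) ![3,1,0,2] (by decide) (by decide) 0 (by decide))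
    · -- 14=(1,2)
      exact False.elim (cert_false T ((skipEmb 3).trans (Function.Embedding.refl _)) (by norm_num) (fun _ => hall _) (((((LB_zero T ((skipEmb 3).trans (Function.Embedding.refl _))).upd 0 3 3 (le_of_eq hx04)).upd 1 3 1 (le_of_eq hx14)).upd 3 0 1 (le_of_eq hx40)).upd 3 1 2 (le_of_eq hx41)) ![2,1,0,2] (by decide) (by decide) 0 (by decide))
    · -- 14=(2,1)
      exact False.elim (cert_false T ((skipEmb 3).trans (Function.Embedding.refl _)) (by norm_num) (fun _ => hall _) (((((LB_zero T ((skipEmb 3).trans (Function.Embedding.refl _))).upd 0 3 3 (le_of_eq hx04)).upd 1 3 2 (le_of_eq hx14)).upd 3 0 1 (le_of_eq hx40)).upd 3 1 1 (le_of_eq hx41)) ![1,1,0,1] (by decide) (by decide) 0 (by decide))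
    · -- 14=(1,3)
      exact False.elim (cert_false T ((skipEmb 3).trans (Function.Embedding.refl _)) (by norm_num) (fun _ => hall _) (((((LB_zero T ((skipEmb 3).trans (Function.Embedding.refl _))).upd 0 3 3 (le_of_eq hx04)).upd 1 3 1 (le_of_eq hx14)).upd 3 0 1 (le_of_eq hx40)).upd 3 1 3 (le_of_eq hx41)) ![1,1,0,2] (by decide) (by decide) 0 (by decide))
    · -- 14=(3,1)
      exact False.elim (cert_false T ((skipEmb 3).trans (Function.Embedding.refl _)) (by norm_num) (fun _ => hall _) (((((LB_zero T ((skipEmb 3).trans (Function.Embedding.refl _))).upd 0 3 3 (le_of_eq hx04)).upd 1 3 3 (le_of_eq hx14)).upd 3 0 1 (le_of_eq hx40)).upd 3 1 1 (le_of_eq hx41)) ![1,1,0,1] (by decide) (by decide) 0 (by decide))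

theorem case26 (T : NumericalType 5) (hall : ∀ i, T.IsMinusTwo i) (d : SData T)
    (h01 : N T (Function.Embedding.refl _) 0 1 = 0) (h10 : N T (Function.Embedding.refl _) 1 0 = 0)
    (h02 : N T (Function.Embedding.refl _) 0 2 = 0) (h20 : N T (Function.Embedding.refl _) 2 0 = 0)
    (h12 : N T (Function.Embedding.refl _) 1 2 = 0) (h21 : N T (Function.Embedding.refl _) 2 1 = 0)
    (h03 : N T (Function.Embedding.refl _) 0 3 = 0) (h30 : N T (Function.Embedding.refl _) 3 0 = 0)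
    (h13 : N T (Function.Embedding.refl _) 1 3 = 1) (h31 : N T (Function.Embedding.refl _) 3 1 = 1)
    (h23 : N T (Function.Embedding.refl _) 2 3 = 1) (h32 : N T (Function.Embedding.refl _) 3 2 = 1)
    (h04 : N T (Function.Embedding.refl _) 0 4 = 0) (h40 : N T (Function.Embedding.refl _) 4 0 = 0) :
    Goal T := by
  unfold Goal
  have hd := d
  obtain ⟨x01, x02, x03, x04, x10, x12, x13, x14, x20, x21, x23, x24, x30, x31, x32, x34, x40, x41, x42, x43, hx01, hx02, hx03, hx04, hx10, hx12, hx13, hx14, hx20, hx21, hx23, hx24, hx30, hx31, hx32, hx34, hx40, hx41, hx42, hx43, hw0, hm0, hw1, hm1, hw2, hm2, hw3, hm3, hw4, hm4, a00, a01, a02, a03, a04, a11, a10, a12, a13, a14, a22, a20, a21, a23, a24, a33, a30, a31, a32, a34, a44, a40, a41, a42, a43, wN01, wN02, wN12, wN03, wN13, wN23, wN04, wN14, wN24, wN34, e0, e1, e2, e3, e4, d01, d02, d12, d03, d13, d23, d04, d14, d24, d34⟩ := d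
  obtain rfl : x01 = 0 := hx01.trans h01
  obtain rfl : x10 = 0 := hx10.trans h10
  obtain rfl : x02 = 0 := hx02.trans h02
  obtain rfl : x20 = 0 := hx20.trans h20
  obtain rfl : x12 = 0 := hx12.trans h12
  obtain rfl : x21 = 0 := hx21.trans h21
  obtain rfl : x03 = 0 := hx03.trans h03
  obtain rfl : x30 = 0 := hx30.trans h30
  obtain rfl : x13 = 1 := hx13.trans h13
  obtain rfl : x31 = 1 := hx31.trans h31
  obtain rfl : x23 = 1 := hx23.trans h23
  obtain rfl : x32 = 1 := hx32.trans h32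
  obtain rfl : x04 = 0 := hx04.trans h04
  obtain rfl : x40 = 0 := hx40.trans h40
  rcases d14 with ⟨rfl, rfl⟩ | ⟨rfl, rfl⟩ | ⟨rfl, rfl⟩ | ⟨rfl, rfl⟩ | ⟨rfl, rfl⟩ | ⟨rfl, rfl⟩
  · -- 14=(0,0)
    rcases d24 with ⟨rfl, rfl⟩ | ⟨rfl, rfl⟩ | ⟨rfl, rfl⟩ | ⟨rfl, rfl⟩ | ⟨rfl, rfl⟩ | ⟨rfl, rfl⟩
    · -- 24=(0,0)
      rcases d34 with ⟨rfl, rfl⟩ | ⟨rfl, rfl⟩ | ⟨rfl, rfl⟩ | ⟨rfl, rfl⟩ | ⟨rfl, rfl⟩ | ⟨rfl, rfl⟩
      · -- 34=(0,0)
        exfalso; omega
      · -- 34=(1,1)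
        exfalso; omega
      · -- 34=(1,2)
        exact False.elim (cert_false T ((skipEmb 0).trans (Function.Embedding.refl _)) (by norm_num) (fun _ => hall _) (((((((LB_zero T ((skipEmb 0).trans (Function.Embedding.refl _))).upd 0 2 1 (le_of_eq hx13)).upd 1 2 1 (le_of_eq hx23)).upd 2 0 1 (le_of_eq hx31)).upd 2 1 1 (le_of_eq hx32)).upd 2 3 1 (le_of_eq hx34)).upd 3 2 2 (le_of_eq hx43)) ![1,1,2,2] (by decide) (by decide) 0 (by decide))
      · -- 34=(2,1)
        exact False.elim (cert_false T ((skipEmb 0).trans (Function.Embedding.refl _)) (by norm_num) (fun _ => hall _) (((((((LB_zero T ((skipEmb 0).trans (Function.Embedding.refl _))).upd 0 2 1 (le_of_eq hx13)).upd 1 2 1 (le_of_eq hx23)).upd 2 0 1 (le_of_eq hx31)).upd 2 1 1 (le_of_eq hx32)).upd 2 3 2 (le_of_eq hx34)).upd 3 2 1 (le_of_eq hx43)) ![1,1,2,1] (by decide) (by decide) 0 (by decide))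
      · -- 34=(1,3)
        exact False.elim (cert_false T ((skipEmb 2).trans (Function.Embedding.refl _)) (by norm_num) (fun _ => hall _) (((((LB_zero T ((skipEmb 2).trans (Function.Embedding.refl _))).upd 1 2 1 (le_of_eq hx13)).upd 2 1 1 (le_of_eq hx31)).upd 2 3 1 (le_of_eq hx34)).upd 3 2 3 (le_of_eq hx43)) ![0,1,2,3] (by decide) (by decide) 1 (by decide))
      · -- 34=(3,1)
        exact False.elim (cert_false T ((skipEmb 2).trans (Function.Embedding.refl _)) (by norm_num) (fun _ => hall _) (((((LB_zero T ((skipEmb 2).trans (Function.Embedding.refl _))).upd 1 2 1 (le_of_eq hx13)).upd 2 1 1 (le_of_eq hx31)).upd 2 3 3 (le_of_eq hx34)).upd 3 2 1 (le_of_eq hx43)) ![0,1,2,1] (by decide) (by decide) 1 (by decide))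
    · -- 24=(1,1)
      rcases d34 with ⟨rfl, rfl⟩ | ⟨rfl, rfl⟩ | ⟨rfl, rfl⟩ | ⟨rfl, rfl⟩ | ⟨rfl, rfl⟩ | ⟨rfl, rfl⟩
      · -- 34=(0,0)
        exfalso; omega
      · -- 34=(1,1)
        exact False.elim (cert_false T ((skipEmb 1).trans (Function.Embedding.refl _)) (by norm_num) (fun _ => hall _) (((((((LB_zero T ((skipEmb 1).trans (Function.Embedding.refl _))).upd 1 2 1 (le_of_eq hx23)).upd 1 3 1 (le_of_eq hx24)).upd 2 1 1 (le_of_eq hx32)).upd 2 3 1 (le_of_eq hx34)).upd 3 1 1 (le_of_eq hx42)).upd 3 2 1 (le_of_eq hx43)) ![0,1,1,1] (by decide) (by decide) 1 (by decide))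
      · -- 34=(1,2)
        exact False.elim (cert_false T ((skipEmb 1).trans (Function.Embedding.refl _)) (by norm_num) (fun _ => hall _) (((((((LB_zero T ((skipEmb 1).trans (Function.Embedding.refl _))).upd 1 2 1 (le_of_eq hx23)).upd 1 3 1 (le_of_eq hx24)).upd 2 1 1 (le_of_eq hx32)).upd 2 3 1 (le_of_eq hx34)).upd 3 1 1 (le_of_eq hx42)).upd 3 2 2 (le_of_eq hx43)) ![0,1,1,1] (by decide) (by decide) 1 (by decide))
      · -- 34=(2,1)
        exact False.elim (cert_false T ((skipEmb 1).trans (Function.Embedding.refl _)) (by norm_num) (fun _ => hall _) (((((((LB_zero T ((skipEmb 1).trans (Function.Embedding.refl _))).upd 1 2 1 (le_of_eq hx23)).upd 1 3 1 (le_of_eq hx24)).upd 2 1 1 (le_of_eq hx32)).upd 2 3 2 (le_of_eq hx34)).upd 3 1 1 (le_of_eq hx42)).upd 3 2 1 (le_of_eq hx43)) ![0,1,1,1] (by decide) (by decide) 1 (by decide))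
      · -- 34=(1,3)
        exact False.elim (cert_false T ((skipEmb 2).trans (Function.Embedding.refl _)) (by norm_num) (fun _ => hall _) (((((LB_zero T ((skipEmb 2).trans (Function.Embedding.refl _))).upd 1 2 1 (le_of_eq hx13)).upd 2 1 1 (le_of_eq hx31)).upd 2 3 1 (le_of_eq hx34)).upd 3 2 3 (le_of_eq hx43)) ![0,1,2,3] (by decide) (by decide) 1 (by decide))
      · -- 34=(3,1)
        exact False.elim (cert_false T ((skipEmb 2).trans (Function.Embedding.refl _)) (by norm_num) (fun _ => hall _) (((((LB_zero T ((skipEmb 2).trans (Function.Embedding.refl _))).upd 1 2 1 (le_of_eq hx13)).upd 2 1 1 (le_of_eq hx31)).upd 2 3 3 (le_of_eq hx34)).upd 3 2 1 (le_of_eq hx43)) ![0,1,2,1] (by decide) (by decide) 1 (by decide))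
    · -- 24=(1,2)
      rcases d34 with ⟨rfl, rfl⟩ | ⟨rfl, rfl⟩ | ⟨rfl, rfl⟩ | ⟨rfl, rfl⟩ | ⟨rfl, rfl⟩ | ⟨rfl, rfl⟩
      · -- 34=(0,0)
        exfalso; omega
      · -- 34=(1,1)
        exact False.elim (cert_false T ((skipEmb 1).trans (Function.Embedding.refl _)) (by norm_num) (fun _ => hall _) (((((((LB_zero T ((skipEmb 1).trans (Function.Embedding.refl _))).upd 1 2 1 (le_of_eq hx23)).upd 1 3 1 (le_of_eq hx24)).upd 2 1 1 (le_of_eq hx32)).upd 2 3 1 (le_of_eq hx34)).upd 3 1 2 (le_of_eq hx42)).upd 3 2 1 (le_of_eq hx43)) ![0,1,1,1] (by decide) (by decide) 1 (by decide))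
      · -- 34=(1,2)
        exact False.elim (cert_false T ((skipEmb 1).trans (Function.Embedding.refl _)) (by norm_num) (fun _ => hall _) (((((((LB_zero T ((skipEmb 1).trans (Function.Embedding.refl _))).upd 1 2 1 (le_of_eq hx23)).upd 1 3 1 (le_of_eq hx24)).upd 2 1 1 (le_of_eq hx32)).upd 2 3 1 (le_of_eq hx34)).upd 3 1 2 (le_of_eq hx42)).upd 3 2 2 (le_of_eq hx43)) ![0,1,1,1] (by decide) (by decide) 1 (by decide))
      · -- 34=(2,1)
        exact False.elim (cert_false T ((skipEmb 1).trans (Function.Embedding.refl _)) (by norm_num) (fun _ => hall _) (((((((LB_zero T ((skipEmb 1).trans (Function.Embedding.refl _))).upd 1 2 1 (le_of_eq hx23)).upd 1 3 1 (le_of_eq hx24)).upd 2 1 1 (le_of_eq hx32)).upd 2 3 2 (le_of_eq hx34)).upd 3 1 2 (le_of_eq hx42)).upd 3 2 1 (le_of_eq hx43)) ![0,1,1,1] (by decide) (by decide) 1 (by decide))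
      · -- 34=(1,3)
        exact False.elim (cert_false T ((skipEmb 2).trans (Function.Embedding.refl _)) (by norm_num) (fun _ => hall _) (((((LB_zero T ((skipEmb 2).trans (Function.Embedding.refl _))).upd 1 2 1 (le_of_eq hx13)).upd 2 1 1 (le_of_eq hx31)).upd 2 3 1 (le_of_eq hx34)).upd 3 2 3 (le_of_eq hx43)) ![0,1,2,3] (by decide) (by decide) 1 (by decide))
      · -- 34=(3,1)
        exact False.elim (cert_false T ((skipEmb 2).trans (Function.Embedding.refl _)) (by norm_num) (fun _ => hall _) (((((LB_zero T ((skipEmb 2).trans (Function.Embedding.refl _))).upd 1 2 1 (le_of_eq hx13)).upd 2 1 1 (le_of_eq hx31)).upd 2 3 3 (le_of_eq hx34)).upd 3 2 1 (le_of_eq hx43)) ![0,1,2,1] (by decide) (by decide) 1 (by decide))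
    · -- 24=(2,1)
      rcases d34 with ⟨rfl, rfl⟩ | ⟨rfl, rfl⟩ | ⟨rfl, rfl⟩ | ⟨rfl, rfl⟩ | ⟨rfl, rfl⟩ | ⟨rfl, rfl⟩
      · -- 34=(0,0)
        exfalso; omega
      · -- 34=(1,1)
        exact False.elim (cert_false T ((skipEmb 1).trans (Function.Embedding.refl _)) (by norm_num) (fun _ => hall _) (((((((LB_zero T ((skipEmb 1).trans (Function.Embedding.refl _))).upd 1 2 1 (le_of_eq hx23)).upd 1 3 2 (le_of_eq hx24)).upd 2 1 1 (le_of_eq hx32)).upd 2 3 1 (le_of_eq hx34)).upd 3 1 1 (le_of_eq hx42)).upd 3 2 1 (le_of_eq hx43)) ![0,1,1,1] (by decide) (by decide) 1 (by decide))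
      · -- 34=(1,2)
        exact False.elim (cert_false T ((skipEmb 1).trans (Function.Embedding.refl _)) (by norm_num) (fun _ => hall _) (((((((LB_zero T ((skipEmb 1).trans (Function.Embedding.refl _))).upd 1 2 1 (le_of_eq hx23)).upd 1 3 2 (le_of_eq hx24)).upd 2 1 1 (le_of_eq hx32)).upd 2 3 1 (le_of_eq hx34)).upd 3 1 1 (le_of_eq hx42)).upd 3 2 2 (le_of_eq hx43)) ![0,1,1,1] (by decide) (by decide) 1 (by decide))
      · -- 34=(2,1)
        exact False.elim (cert_false T ((skipEmb 1).trans (Function.Embedding.refl _)) (by norm_num) (fun _ => hall _) (((((((LB_zero T ((skipEmb 1).trans (Function.Embedding.refl _))).upd 1 2 1 (le_of_eq hx23)).upd 1 3 2 (le_of_eq hx24)).upd 2 1 1 (le_of_eq hx32)).upd 2 3 2 (le_of_eq hx34)).upd 3 1 1 (le_of_eq hx42)).upd 3 2 1 (le_of_eq hx43)) ![0,1,1,1] (by decide) (by decide) 1 (by decide))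
      · -- 34=(1,3)
        exact False.elim (cert_false T ((skipEmb 2).trans (Function.Embedding.refl _)) (by norm_num) (fun _ => hall _) (((((LB_zero T ((skipEmb 2).trans (Function.Embedding.refl _))).upd 1 2 1 (le_of_eq hx13)).upd 2 1 1 (le_of_eq hx31)).upd 2 3 1 (le_of_eq hx34)).upd 3 2 3 (le_of_eq hx43)) ![0,1,2,3] (by decide) (by decide) 1 (by decide))
      · -- 34=(3,1)
        exact False.elim (cert_false T ((skipEmb 2).trans (Function.Embedding.refl _)) (by norm_num) (fun _ => hall _) (((((LB_zero T ((skipEmb 2).trans (Function.Embedding.refl _))).upd 1 2 1 (le_of_eq hx13)).upd 2 1 1 (le_of_eq hx31)).upd 2 3 3 (le_of_eq hx34)).upd 3 2 1 (le_of_eq hx43)) ![0,1,2,1] (by decide) (by decide) 1 (by decide))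
    · -- 24=(1,3)
      exact False.elim (cert_false T ((skipEmb 1).trans (Function.Embedding.refl _)) (by norm_num) (fun _ => hall _) (((((LB_zero T ((skipEmb 1).trans (Function.Embedding.refl _))).upd 1 2 1 (le_of_eq hx23)).upd 1 3 1 (le_of_eq hx24)).upd 2 1 1 (le_of_eq hx32)).upd 3 1 3 (le_of_eq hx42)) ![0,2,1,3] (by decide) (by decide) 1 (by decide))
    · -- 24=(3,1)
      exact False.elim (cert_false T ((skipEmb 1).trans (Function.Embedding.refl _)) (by norm_num) (fun _ => hall _) (((((LB_zero T ((skipEmb 1).trans (Function.Embedding.refl _))).upd 1 2 1 (le_of_eq hx23)).upd 1 3 3 (le_of_eq hx24)).upd 2 1 1 (le_of_eq hx32)).upd 3 1 1 (le_of_eq hx42)) ![0,2,1,1] (by decide) (by decide) 1 (by decide))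
  · -- 14=(1,1)
    rcases d24 with ⟨rfl, rfl⟩ | ⟨rfl, rfl⟩ | ⟨rfl, rfl⟩ | ⟨rfl, rfl⟩ | ⟨rfl, rfl⟩ | ⟨rfl, rfl⟩
    · -- 24=(0,0)
      rcases d34 with ⟨rfl, rfl⟩ | ⟨rfl, rfl⟩ | ⟨rfl, rfl⟩ | ⟨rfl, rfl⟩ | ⟨rfl, rfl⟩ | ⟨rfl, rfl⟩
      · -- 34=(0,0)
        exfalso; omega
      · -- 34=(1,1)
        exact False.elim (cert_false T ((skipEmb 2).trans (Function.Embedding.refl _)) (by norm_num) (fun _ => hall _) (((((((LB_zero T ((skipEmb 2).trans (Function.Embedding.refl _))).upd 1 2 1 (le_of_eq hx13)).upd 1 3 1 (le_of_eq hx14)).upd 2 1 1 (le_of_eq hx31)).upd 2 3 1 (le_of_eq hx34)).upd 3 1 1 (le_of_eq hx41)).upd 3 2 1 (le_of_eq hx43)) ![0,1,1,1] (by decide) (by decide) 1 (by decide))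
      · -- 34=(1,2)
        exact False.elim (cert_false T ((skipEmb 2).trans (Function.Embedding.refl _)) (by norm_num) (fun _ => hall _) (((((((LB_zero T ((skipEmb 2).trans (Function.Embedding.refl _))).upd 1 2 1 (le_of_eq hx13)).upd 1 3 1 (le_of_eq hx14)).upd 2 1 1 (le_of_eq hx31)).upd 2 3 1 (le_of_eq hx34)).upd 3 1 1 (le_of_eq hx41)).upd 3 2 2 (le_of_eq hx43)) ![0,1,1,1] (by decide) (by decide) 1 (by decide))
      · -- 34=(2,1)
        exact False.elim (cert_false T ((skipEmb 2).trans (Function.Embedding.refl _)) (by norm_num) (fun _ => hall _) (((((((LB_zero T ((skipEmb 2).trans (Function.Embedding.refl _))).upd 1 2 1 (le_of_eq hx13)).upd 1 3 1 (le_of_eq hx14)).upd 2 1 1 (le_of_eq hx31)).upd 2 3 2 (le_of_eq hx34)).upd 3 1 1 (le_of_eq hx41)).upd 3 2 1 (le_of_eq hx43)) ![0,1,1,1] (by decide) (by decide) 1 (by decide))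
      · -- 34=(1,3)
        exact False.elim (cert_false T ((skipEmb 2).trans (Function.Embedding.refl _)) (by norm_num) (fun _ => hall _) (((((((LB_zero T ((skipEmb 2).trans (Function.Embedding.refl _))).upd 1 2 1 (le_of_eq hx13)).upd 1 3 1 (le_of_eq hx14)).upd 2 1 1 (le_of_eq hx31)).upd 2 3 1 (le_of_eq hx34)).upd 3 1 1 (le_of_eq hx41)).upd 3 2 3 (le_of_eq hx43)) ![0,1,1,1] (by decide) (by decide) 1 (by decide))
      · -- 34=(3,1)
        exact False.elim (cert_false T ((skipEmb 2).trans (Function.Embedding.refl _)) (by norm_num) (fun _ => hall _) (((((((LB_zero T ((skipEmb 2).trans (Function.Embedding.refl _))).upd 1 2 1 (le_of_eq hx13)).upd 1 3 1 (le_of_eq hx14)).upd 2 1 1 (le_of_eq hx31)).upd 2 3 3 (le_of_eq hx34)).upd 3 1 1 (le_of_eq hx41)).upd 3 2 1 (le_of_eq hx43)) ![0,1,1,1] (by decide) (by decide) 1 (by decide))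
    · -- 24=(1,1)
      exact False.elim (cert_false T ((skipEmb 0).trans (Function.Embedding.refl _)) (by norm_num) (fun _ => hall _) (((((((((LB_zero T ((skipEmb 0).trans (Function.Embedding.refl _))).upd 0 2 1 (le_of_eq hx13)).upd 0 3 1 (le_of_eq hx14)).upd 1 2 1 (le_of_eq hx23)).upd 1 3 1 (le_of_eq hx24)).upd 2 0 1 (le_of_eq hx31)).upd 2 1 1 (le_of_eq hx32)).upd 3 0 1 (le_of_eq hx41)).upd 3 1 1 (le_of_eq hx42)) ![1,1,1,1] (by decide) (by decide) 0 (by decide))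
    · -- 24=(1,2)
      exact False.elim (cert_false T ((skipEmb 0).trans (Function.Embedding.refl _)) (by norm_num) (fun _ => hall _) (((((((((LB_zero T ((skipEmb 0).trans (Function.Embedding.refl _))).upd 0 2 1 (le_of_eq hx13)).upd 0 3 1 (le_of_eq hx14)).upd 1 2 1 (le_of_eq hx23)).upd 1 3 1 (le_of_eq hx24)).upd 2 0 1 (le_of_eq hx31)).upd 2 1 1 (le_of_eq hx32)).upd 3 0 1 (le_of_eq hx41)).upd 3 1 2 (le_of_eq hx42)) ![1,1,1,1] (by decide) (by decide) 0 (by decide))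
    · -- 24=(2,1)
      exact False.elim (cert_false T ((skipEmb 0).trans (Function.Embedding.refl _)) (by norm_num) (fun _ => hall _) (((((((((LB_zero T ((skipEmb 0).trans (Function.Embedding.refl _))).upd 0 2 1 (le_of_eq hx13)).upd 0 3 1 (le_of_eq hx14)).upd 1 2 1 (le_of_eq hx23)).upd 1 3 2 (le_of_eq hx24)).upd 2 0 1 (le_of_eq hx31)).upd 2 1 1 (le_of_eq hx32)).upd 3 0 1 (le_of_eq hx41)).upd 3 1 1 (le_of_eq hx42)) ![1,1,1,1] (by decide) (by decide) 0 (by decide))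
    · -- 24=(1,3)
      exact False.elim (cert_false T ((skipEmb 3).trans (Function.Embedding.refl _)) (by norm_num) (fun _ => hall _) (((((LB_zero T ((skipEmb 3).trans (Function.Embedding.refl _))).upd 1 3 1 (le_of_eq hx14)).upd 2 3 1 (le_of_eq hx24)).upd 3 1 1 (le_of_eq hx41)).upd 3 2 3 (le_of_eq hx42)) ![0,1,1,2] (by decide) (by decide) 1 (by decide))
    · -- 24=(3,1)
      exact False.elim (cert_false T ((skipEmb 3).trans (Function.Embedding.refl _)) (by norm_num) (fun _ => hall _) (((((LB_zero T ((skipEmb 3).trans (Function.Embedding.refl _))).upd 1 3 1 (le_of_eq hx14)).upd 2 3 3 (le_of_eq hx24)).upd 3 1 1 (le_of_eq hx41)).upd 3 2 1 (le_of_eq hx42)) ![0,1,3,2] (by decide) (by decide) 1 (by decide))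
  · -- 14=(1,2)
    rcases d24 with ⟨rfl, rfl⟩ | ⟨rfl, rfl⟩ | ⟨rfl, rfl⟩ | ⟨rfl, rfl⟩ | ⟨rfl, rfl⟩ | ⟨rfl, rfl⟩
    · -- 24=(0,0)
      rcases d34 with ⟨rfl, rfl⟩ | ⟨rfl, rfl⟩ | ⟨rfl, rfl⟩ | ⟨rfl, rfl⟩ | ⟨rfl, rfl⟩ | ⟨rfl, rfl⟩
      · -- 34=(0,0)
        exfalso; omega
      · -- 34=(1,1)
        exact False.elim (cert_false T ((skipEmb 2).trans (Function.Embedding.refl _)) (by norm_num) (fun _ => hall _) (((((((LB_zero T ((skipEmb 2).trans (Function.Embedding.refl _))).upd 1 2 1 (le_of_eq hx13)).upd 1 3 1 (le_of_eq hx14)).upd 2 1 1 (le_of_eq hx31)).upd 2 3 1 (le_of_eq hx34)).upd 3 1 2 (le_of_eq hx41)).upd 3 2 1 (le_of_eq hx43)) ![0,1,1,1] (by decide) (by decide) 1 (by decide))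
      · -- 34=(1,2)
        exact False.elim (cert_false T ((skipEmb 2).trans (Function.Embedding.refl _)) (by norm_num) (fun _ => hall _) (((((((LB_zero T ((skipEmb 2).trans (Function.Embedding.refl _))).upd 1 2 1 (le_of_eq hx13)).upd 1 3 1 (le_of_eq hx14)).upd 2 1 1 (le_of_eq hx31)).upd 2 3 1 (le_of_eq hx34)).upd 3 1 2 (le_of_eq hx41)).upd 3 2 2 (le_of_eq hx43)) ![0,1,1,1] (by decide) (by decide) 1 (by decide))
      · -- 34=(2,1)
        exact False.elim (cert_false T ((skipEmb 2).trans (Function.Embedding.refl _)) (by norm_num) (fun _ => hall _) (((((((LB_zero T ((skipEmb 2).trans (Function.Embedding.refl _))).upd 1 2 1 (le_of_eq hx13)).upd 1 3 1 (le_of_eq hx14)).upd 2 1 1 (le_of_eq hx31)).upd 2 3 2 (le_of_eq hx34)).upd 3 1 2 (le_of_eq hx41)).upd 3 2 1 (le_of_eq hx43)) ![0,1,1,1] (by decide) (by decide) 1 (by decide))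
      · -- 34=(1,3)
        exact False.elim (cert_false T ((skipEmb 2).trans (Function.Embedding.refl _)) (by norm_num) (fun _ => hall _) (((((((LB_zero T ((skipEmb 2).trans (Function.Embedding.refl _))).upd 1 2 1 (le_of_eq hx13)).upd 1 3 1 (le_of_eq hx14)).upd 2 1 1 (le_of_eq hx31)).upd 2 3 1 (le_of_eq hx34)).upd 3 1 2 (le_of_eq hx41)).upd 3 2 3 (le_of_eq hx43)) ![0,1,1,1] (by decide) (by decide) 1 (by decide))
      · -- 34=(3,1)
        exact False.elim (cert_false T ((skipEmb 2).trans (Function.Embedding.refl _)) (by norm_num) (fun _ => hall _) (((((((LB_zero T ((skipEmb 2).trans (Function.Embedding.refl _))).upd 1 2 1 (le_of_eq hx13)).upd 1 3 1 (le_of_eq hx14)).upd 2 1 1 (le_of_eq hx31)).upd 2 3 3 (le_of_eq hx34)).upd 3 1 2 (le_of_eq hx41)).upd 3 2 1 (le_of_eq hx43)) ![0,1,1,1] (by decide) (by decide) 1 (by decide))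
    · -- 24=(1,1)
      exact False.elim (cert_false T ((skipEmb 0).trans (Function.Embedding.refl _)) (by norm_num) (fun _ => hall _) (((((((((LB_zero T ((skipEmb 0).trans (Function.Embedding.refl _))).upd 0 2 1 (le_of_eq hx13)).upd 0 3 1 (le_of_eq hx14)).upd 1 2 1 (le_of_eq hx23)).upd 1 3 1 (le_of_eq hx24)).upd 2 0 1 (le_of_eq hx31)).upd 2 1 1 (le_of_eq hx32)).upd 3 0 2 (le_of_eq hx41)).upd 3 1 1 (le_of_eq hx42)) ![1,1,1,1] (by decide) (by decide) 0 (by decide))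
    · -- 24=(1,2)
      exact False.elim (cert_false T ((skipEmb 3).trans (Function.Embedding.refl _)) (by norm_num) (fun _ => hall _) (((((LB_zero T ((skipEmb 3).trans (Function.Embedding.refl _))).upd 1 3 1 (le_of_eq hx14)).upd 2 3 1 (le_of_eq hx24)).upd 3 1 2 (le_of_eq hx41)).upd 3 2 2 (le_of_eq hx42)) ![0,1,1,2] (by decide) (by decide) 1 (by decide))
    · -- 24=(2,1)
      exact False.elim (cert_false T ((skipEmb 3).trans (Function.Embedding.refl _)) (by norm_num) (fun _ => hall _) (((((LB_zero T ((skipEmb 3).trans (Function.Embedding.refl _))).upd 1 3 1 (le_of_eq hx14)).upd 2 3 2 (le_of_eq hx24)).upd 3 1 2 (le_of_eq hx41)).upd 3 2 1 (le_of_eq hx42)) ![0,1,2,2] (by decide) (by decide) 1 (by decide))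
    · -- 24=(1,3)
      exact False.elim (cert_false T ((skipEmb 3).trans (Function.Embedding.refl _)) (by norm_num) (fun _ => hall _) (((((LB_zero T ((skipEmb 3).trans (Function.Embedding.refl _))).upd 1 3 1 (le_of_eq hx14)).upd 2 3 1 (le_of_eq hx24)).upd 3 1 2 (le_of_eq hx41)).upd 3 2 3 (le_of_eq hx42)) ![0,1,1,2] (by decide) (by decide) 1 (by decide))
    · -- 24=(3,1)
      exact False.elim (cert_false T ((skipEmb 3).trans (Function.Embedding.refl _)) (by norm_num) (fun _ => hall _) (((((LB_zero T ((skipEmb 3).trans (Function.Embedding.refl _))).upd 1 3 1 (le_of_eq hx14)).upd 2 3 3 (le_of_eq hx24)).upd 3 1 2 (le_of_eq hx41)).upd 3 2 1 (le_of_eq hx42)) ![0,1,2,2] (by decide) (by decide) 1 (by decide))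
  · -- 14=(2,1)
    rcases d24 with ⟨rfl, rfl⟩ | ⟨rfl, rfl⟩ | ⟨rfl, rfl⟩ | ⟨rfl, rfl⟩ | ⟨rfl, rfl⟩ | ⟨rfl, rfl⟩
    · -- 24=(0,0)
      rcases d34 with ⟨rfl, rfl⟩ | ⟨rfl, rfl⟩ | ⟨rfl, rfl⟩ | ⟨rfl, rfl⟩ | ⟨rfl, rfl⟩ | ⟨rfl, rfl⟩
      · -- 34=(0,0)
        exfalso; omega
      · -- 34=(1,1)
        exact False.elim (cert_false T ((skipEmb 2).trans (Function.Embedding.refl _)) (by norm_num) (fun _ => hall _) (((((((LB_zero T ((skipEmb 2).trans (Function.Embedding.refl _))).upd 1 2 1 (le_of_eq hx13)).upd 1 3 2 (le_of_eq hx14)).upd 2 1 1 (le_of_eq hx31)).upd 2 3 1 (le_of_eq hx34)).upd 3 1 1 (le_of_eq hx41)).upd 3 2 1 (le_of_eq hx43)) ![0,1,1,1] (by decide) (by decide) 1 (by decide))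
      · -- 34=(1,2)
        exact False.elim (cert_false T ((skipEmb 2).trans (Function.Embedding.refl _)) (by norm_num) (fun _ => hall _) (((((((LB_zero T ((skipEmb 2).trans (Function.Embedding.refl _))).upd 1 2 1 (le_of_eq hx13)).upd 1 3 2 (le_of_eq hx14)).upd 2 1 1 (le_of_eq hx31)).upd 2 3 1 (le_of_eq hx34)).upd 3 1 1 (le_of_eq hx41)).upd 3 2 2 (le_of_eq hx43)) ![0,1,1,1] (by decide) (by decide) 1 (by decide))
      · -- 34=(2,1)
        exact False.elim (cert_false T ((skipEmb 2).trans (Function.Embedding.refl _)) (by norm_num) (fun _ => hall _) (((((((LB_zero T ((skipEmb 2).trans (Function.Embedding.refl _))).upd 1 2 1 (le_of_eq hx13)).upd 1 3 2 (le_of_eq hx14)).upd 2 1 1 (le_of_eq hx31)).upd 2 3 2 (le_of_eq hx34)).upd 3 1 1 (le_of_eq hx41)).upd 3 2 1 (le_of_eq hx43)) ![0,1,1,1] (by decide) (by decide) 1 (by decide))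
      · -- 34=(1,3)
        exact False.elim (cert_false T ((skipEmb 2).trans (Function.Embedding.refl _)) (by norm_num) (fun _ => hall _) (((((((LB_zero T ((skipEmb 2).trans (Function.Embedding.refl _))).upd 1 2 1 (le_of_eq hx13)).upd 1 3 2 (le_of_eq hx14)).upd 2 1 1 (le_of_eq hx31)).upd 2 3 1 (le_of_eq hx34)).upd 3 1 1 (le_of_eq hx41)).upd 3 2 3 (le_of_eq hx43)) ![0,1,1,1] (by decide) (by decide) 1 (by decide))
      · -- 34=(3,1)
        exact False.elim (cert_false T ((skipEmb 2).trans (Function.Embedding.refl _)) (by norm_num) (fun _ => hall _) (((((((LB_zero T ((skipEmb 2).trans (Function.Embedding.refl _))).upd 1 2 1 (le_of_eq hx13)).upd 1 3 2 (le_of_eq hx14)).upd 2 1 1 (le_of_eq hx31)).upd 2 3 3 (le_of_eq hx34)).upd 3 1 1 (le_of_eq hx41)).upd 3 2 1 (le_of_eq hx43)) ![0,1,1,1] (by decide) (by decide) 1 (by decide))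
    · -- 24=(1,1)
      exact False.elim (cert_false T ((skipEmb 0).trans (Function.Embedding.refl _)) (by norm_num) (fun _ => hall _) (((((((((LB_zero T ((skipEmb 0).trans (Function.Embedding.refl _))).upd 0 2 1 (le_of_eq hx13)).upd 0 3 2 (le_of_eq hx14)).upd 1 2 1 (le_of_eq hx23)).upd 1 3 1 (le_of_eq hx24)).upd 2 0 1 (le_of_eq hx31)).upd 2 1 1 (le_of_eq hx32)).upd 3 0 1 (le_of_eq hx41)).upd 3 1 1 (le_of_eq hx42)) ![1,1,1,1] (by decide) (by decide) 0 (by decide))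
    · -- 24=(1,2)
      exact False.elim (cert_false T ((skipEmb 3).trans (Function.Embedding.refl _)) (by norm_num) (fun _ => hall _) (((((LB_zero T ((skipEmb 3).trans (Function.Embedding.refl _))).upd 1 3 2 (le_of_eq hx14)).upd 2 3 1 (le_of_eq hx24)).upd 3 1 1 (le_of_eq hx41)).upd 3 2 2 (le_of_eq hx42)) ![0,2,1,2] (by decide) (by decide) 1 (by decide))
    · -- 24=(2,1)
      exact False.elim (cert_false T ((skipEmb 3).trans (Function.Embedding.refl _)) (by norm_num) (fun _ => hall _) (((((LB_zero T ((skipEmb 3).trans (Function.Embedding.refl _))).upd 1 3 2 (le_of_eq hx14)).upd 2 3 2 (le_of_eq hx24)).upd 3 1 1 (le_of_eq hx41)).upd 3 2 1 (le_of_eq hx42)) ![0,1,1,1] (by decide) (by decide) 1 (by decide))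
    · -- 24=(1,3)
      exact False.elim (cert_false T ((skipEmb 3).trans (Function.Embedding.refl _)) (by norm_num) (fun _ => hall _) (((((LB_zero T ((skipEmb 3).trans (Function.Embedding.refl _))).upd 1 3 2 (le_of_eq hx14)).upd 2 3 1 (le_of_eq hx24)).upd 3 1 1 (le_of_eq hx41)).upd 3 2 3 (le_of_eq hx42)) ![0,1,1,2] (by decide) (by decide) 1 (by decide))
    · -- 24=(3,1)
      exact False.elim (cert_false T ((skipEmb 3).trans (Function.Embedding.refl _)) (by norm_num) (fun _ => hall _) (((((LB_zero T ((skipEmb 3).trans (Function.Embedding.refl _))).upd 1 3 2 (le_of_eq hx14)).upd 2 3 3 (le_of_eq hx24)).upd 3 1 1 (le_of_eq hx41)).upd 3 2 1 (le_of_eq hx42)) ![0,1,1,1] (by decide) (by decide) 1 (by decide))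
  · -- 14=(1,3)
    exact False.elim (cert_false T ((skipEmb 2).trans (Function.Embedding.refl _)) (by norm_num) (fun _ => hall _) (((((LB_zero T ((skipEmb 2).trans (Function.Embedding.refl _))).upd 1 2 1 (le_of_eq hx13)).upd 1 3 1 (le_of_eq hx14)).upd 2 1 1 (le_of_eq hx31)).upd 3 1 3 (le_of_eq hx41)) ![0,2,1,3] (by decide) (by decide) 1 (by decide))
  · -- 14=(3,1)
    exact False.elim (cert_false T ((skipEmb 2).trans (Function.Embedding.refl _)) (by norm_num) (fun _ => hall _) (((((LB_zero T ((skipEmb 2).trans (Function.Embedding.refl _))).upd 1 2 1 (le_of_eq hx13)).upd 1 3 3 (le_of_eq hx14)).upd 2 1 1 (le_of_eq hx31)).upd 3 1 1 (le_of_eq hx41)) ![0,2,1,1] (by decide) (by decide) 1 (by decide))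

theorem case27 (T : NumericalType 5) (hall : ∀ i, T.IsMinusTwo i) (d : SData T)
    (h01 : N T (Function.Embedding.refl _) 0 1 = 0) (h10 : N T (Function.Embedding.refl _) 1 0 = 0)
    (h02 : N T (Function.Embedding.refl _) 0 2 = 0) (h20 : N T (Function.Embedding.refl _) 2 0 = 0)
    (h12 : N T (Function.Embedding.refl _) 1 2 = 0) (h21 : N T (Function.Embedding.refl _) 2 1 = 0)
    (h03 : N T (Function.Embedding.refl _) 0 3 = 0) (h30 : N T (Function.Embedding.refl _) 3 0 = 0)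
    (h13 : N T (Function.Embedding.refl _) 1 3 = 1) (h31 : N T (Function.Embedding.refl _) 3 1 = 1)
    (h23 : N T (Function.Embedding.refl _) 2 3 = 1) (h32 : N T (Function.Embedding.refl _) 3 2 = 1)
    (h04 : N T (Function.Embedding.refl _) 0 4 = 1) (h40 : N T (Function.Embedding.refl _) 4 0 = 1) :
    Goal T := by
  unfold Goal
  have hd := d
  obtain ⟨x01, x02, x03, x04, x10, x12, x13, x14, x20, x21, x23, x24, x30, x31, x32, x34, x40, x41, x42, x43, hx01, hx02, hx03, hx04, hx10, hx12, hx13, hx14, hx20, hx21, hx23, hx24, hx30, hx31, hx32, hx34, hx40, hx41, hx42, hx43, hw0, hm0, hw1, hm1, hw2, hm2, hw3, hm3, hw4, hm4, a00, a01, a02, a03, a04, a11, a10, a12, a13, a14, a22, a20, a21, a23, a24, a33, a30, a31, a32, a34, a44, a40, a41, a42, a43, wN01, wN02, wN12, wN03, wN13, wN23, wN04, wN14, wN24, wN34, e0, e1, e2, e3, e4, d01, d02, d12, d03, d13, d23, d04, d14, d24, d34⟩ := d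
  obtain rfl : x01 = 0 := hx01.trans h01
  obtain rfl : x10 = 0 := hx10.trans h10
  obtain rfl : x02 = 0 := hx02.trans h02
  obtain rfl : x20 = 0 := hx20.trans h20
  obtain rfl : x12 = 0 := hx12.trans h12
  obtain rfl : x21 = 0 := hx21.trans h21
  obtain rfl : x03 = 0 := hx03.trans h03
  obtain rfl : x30 = 0 := hx30.trans h30
  obtain rfl : x13 = 1 := hx13.trans h13
  obtain rfl : x31 = 1 := hx31.trans h31
  obtain rfl : x23 = 1 := hx23.trans h23
  obtain rfl : x32 = 1 := hx32.trans h32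
  obtain rfl : x04 = 1 := hx04.trans h04
  obtain rfl : x40 = 1 := hx40.trans h40
  rcases d14 with ⟨rfl, rfl⟩ | ⟨rfl, rfl⟩ | ⟨rfl, rfl⟩ | ⟨rfl, rfl⟩ | ⟨rfl, rfl⟩ | ⟨rfl, rfl⟩
  · -- 14=(0,0)
    rcases d24 with ⟨rfl, rfl⟩ | ⟨rfl, rfl⟩ | ⟨rfl, rfl⟩ | ⟨rfl, rfl⟩ | ⟨rfl, rfl⟩ | ⟨rfl, rfl⟩
    · -- 24=(0,0)
      rcases d34 with ⟨rfl, rfl⟩ | ⟨rfl, rfl⟩ | ⟨rfl, rfl⟩ | ⟨rfl, rfl⟩ | ⟨rfl, rfl⟩ | ⟨rfl, rfl⟩
      · -- 34=(0,0)
        exfalso; omega
      · -- 34=(1,1)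
        exfalso; omega
      · -- 34=(1,2)
        exact False.elim (cert_false T ((skipEmb 0).trans (Function.Embedding.refl _)) (by norm_num) (fun _ => hall _) (((((((LB_zero T ((skipEmb 0).trans (Function.Embedding.refl _))).upd 0 2 1 (le_of_eq hx13)).upd 1 2 1 (le_of_eq hx23)).upd 2 0 1 (le_of_eq hx31)).upd 2 1 1 (le_of_eq hx32)).upd 2 3 1 (le_of_eq hx34)).upd 3 2 2 (le_of_eq hx43)) ![1,1,2,2] (by decide) (by decide) 0 (by decide))
      · -- 34=(2,1)
        exact False.elim (cert_false T ((skipEmb 0).trans (Function.Embedding.refl _)) (by norm_num) (fun _ => hall _) (((((((LB_zero T ((skipEmb 0).trans (Function.Embedding.refl _))).upd 0 2 1 (le_of_eq hx13)).upd 1 2 1 (le_of_eq hx23)).upd 2 0 1 (le_of_eq hx31)).upd 2 1 1 (le_of_eq hx32)).upd 2 3 2 (le_of_eq hx34)).upd 3 2 1 (le_of_eq hx43)) ![1,1,2,1] (by decide) (by decide) 0 (by decide))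
      · -- 34=(1,3)
        exact False.elim (cert_false T ((skipEmb 2).trans (Function.Embedding.refl _)) (by norm_num) (fun _ => hall _) (((((LB_zero T ((skipEmb 2).trans (Function.Embedding.refl _))).upd 0 3 1 (le_of_eq hx04)).upd 2 3 1 (le_of_eq hx34)).upd 3 0 1 (le_of_eq hx40)).upd 3 2 3 (le_of_eq hx43)) ![1,0,1,2] (by decide) (by decide) 0 (by decide))
      · -- 34=(3,1)
        exact False.elim (cert_false T ((skipEmb 2).trans (Function.Embedding.refl _)) (by norm_num) (fun _ => hall _) (((((LB_zero T ((skipEmb 2).trans (Function.Embedding.refl _))).upd 1 2 1 (le_of_eq hx13)).upd 2 1 1 (le_of_eq hx31)).upd 2 3 3 (le_of_eq hx34)).upd 3 2 1 (le_of_eq hx43)) ![0,1,2,1] (by decide) (by decide) 1 (by decide))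
    · -- 24=(1,1)
      rcases d34 with ⟨rfl, rfl⟩ | ⟨rfl, rfl⟩ | ⟨rfl, rfl⟩ | ⟨rfl, rfl⟩ | ⟨rfl, rfl⟩ | ⟨rfl, rfl⟩
      · -- 34=(0,0)
        exfalso; omega
      · -- 34=(1,1)
        exact False.elim (cert_false T ((skipEmb 1).trans (Function.Embedding.refl _)) (by norm_num) (fun _ => hall _) (((((((LB_zero T ((skipEmb 1).trans (Function.Embedding.refl _))).upd 1 2 1 (le_of_eq hx23)).upd 1 3 1 (le_of_eq hx24)).upd 2 1 1 (le_of_eq hx32)).upd 2 3 1 (le_of_eq hx34)).upd 3 1 1 (le_of_eq hx42)).upd 3 2 1 (le_of_eq hx43)) ![0,1,1,1] (by decide) (by decide) 1 (by decide))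
      · -- 34=(1,2)
        exact False.elim (cert_false T ((skipEmb 1).trans (Function.Embedding.refl _)) (by norm_num) (fun _ => hall _) (((((((LB_zero T ((skipEmb 1).trans (Function.Embedding.refl _))).upd 1 2 1 (le_of_eq hx23)).upd 1 3 1 (le_of_eq hx24)).upd 2 1 1 (le_of_eq hx32)).upd 2 3 1 (le_of_eq hx34)).upd 3 1 1 (le_of_eq hx42)).upd 3 2 2 (le_of_eq hx43)) ![0,1,1,1] (by decide) (by decide) 1 (by decide))
      · -- 34=(2,1)
        exact False.elim (cert_false T ((skipEmb 1).trans (Function.Embedding.refl _)) (by norm_num) (fun _ => hall _) (((((((LB_zero T ((skipEmb 1).trans (Function.Embedding.refl _))).upd 1 2 1 (le_of_eq hx23)).upd 1 3 1 (le_of_eq hx24)).upd 2 1 1 (le_of_eq hx32)).upd 2 3 2 (le_of_eq hx34)).upd 3 1 1 (le_of_eq hx42)).upd 3 2 1 (le_of_eq hx43)) ![0,1,1,1] (by decide) (by decide) 1 (by decide))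
      · -- 34=(1,3)
        exact False.elim (cert_false T ((skipEmb 2).trans (Function.Embedding.refl _)) (by norm_num) (fun _ => hall _) (((((LB_zero T ((skipEmb 2).trans (Function.Embedding.refl _))).upd 0 3 1 (le_of_eq hx04)).upd 2 3 1 (le_of_eq hx34)).upd 3 0 1 (le_of_eq hx40)).upd 3 2 3 (le_of_eq hx43)) ![1,0,1,2] (by decide) (by decide) 0 (by decide))
      · -- 34=(3,1)
        exact False.elim (cert_false T ((skipEmb 2).trans (Function.Embedding.refl _)) (by norm_num) (fun _ => hall _) (((((LB_zero T ((skipEmb 2).trans (Function.Embedding.refl _))).upd 1 2 1 (le_of_eq hx13)).upd 2 1 1 (le_of_eq hx31)).upd 2 3 3 (le_of_eq hx34)).upd 3 2 1 (le_of_eq hx43)) ![0,1,2,1] (by decide) (by decide) 1 (by decide))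
    · -- 24=(1,2)
      rcases d34 with ⟨rfl, rfl⟩ | ⟨rfl, rfl⟩ | ⟨rfl, rfl⟩ | ⟨rfl, rfl⟩ | ⟨rfl, rfl⟩ | ⟨rfl, rfl⟩
      · -- 34=(0,0)
        refine ⟨(⟨![1, 3, 2, 4, 0], ![4, 0, 2, 1, 3], by decide, by decide⟩ : Equiv.Perm (Fin 5)), T.m 1, T.w 4, Or.inr (Or.inr (Or.inl ?_))⟩
        show T.m 1 = T.m 1 ∧ T.m 3 = 2 * T.m 1 ∧ T.m 2 = 3 * T.m 1 ∧ T.m 4 = 4 * T.m 1 ∧ T.m 0 = 2 * T.m 1 ∧ T.w 1 = 2 * T.w 4 ∧ T.w 3 = 2 * T.w 4 ∧ T.w 2 = 2 * T.w 4 ∧ T.w 4 = T.w 4 ∧ T.w 0 = T.w 4 ∧ T.a 1 1 = -4 * T.w 4 ∧ T.a 1 3 = 2 * T.w 4 ∧ T.a 1 2 = 0 ∧ T.a 1 4 = 0 ∧ T.a 1 0 = 0 ∧ T.a 3 3 = -4 * T.w 4 ∧ T.a 3 2 = 2 * T.w 4 ∧ T.a 3 4 = 0 ∧ T.a 3 0 = 0 ∧ T.a 2 2 = -4 * T.w 4 ∧ T.a 2 4 = 2 * T.w 4 ∧ T.a 2 0 = 0 ∧ T.a 4 4 = -2 * T.w 4 ∧ T.a 4 0 = T.w 4 ∧ T.a 0 0 = -2 * T.w 4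
        refine ⟨?_, ?_, ?_, ?_, ?_, ?_, ?_, ?_, ?_, ?_, ?_, ?_, ?_, ?_, ?_, ?_, ?_, ?_, ?_, ?_, ?_, ?_, ?_, ?_, ?_⟩ <;> omega
      · -- 34=(1,1)
        exact False.elim (cert_false T ((skipEmb 1).trans (Function.Embedding.refl _)) (by norm_num) (fun _ => hall _) (((((((LB_zero T ((skipEmb 1).trans (Function.Embedding.refl _))).upd 1 2 1 (le_of_eq hx23)).upd 1 3 1 (le_of_eq hx24)).upd 2 1 1 (le_of_eq hx32)).upd 2 3 1 (le_of_eq hx34)).upd 3 1 2 (le_of_eq hx42)).upd 3 2 1 (le_of_eq hx43)) ![0,1,1,1] (by decide) (by decide) 1 (by decide))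
      · -- 34=(1,2)
        exact False.elim (cert_false T ((skipEmb 1).trans (Function.Embedding.refl _)) (by norm_num) (fun _ => hall _) (((((((LB_zero T ((skipEmb 1).trans (Function.Embedding.refl _))).upd 1 2 1 (le_of_eq hx23)).upd 1 3 1 (le_of_eq hx24)).upd 2 1 1 (le_of_eq hx32)).upd 2 3 1 (le_of_eq hx34)).upd 3 1 2 (le_of_eq hx42)).upd 3 2 2 (le_of_eq hx43)) ![0,1,1,1] (by decide) (by decide) 1 (by decide))
      · -- 34=(2,1)
        exact False.elim (cert_false T ((skipEmb 1).trans (Function.Embedding.refl _)) (by norm_num) (fun _ => hall _) (((((((LB_zero T ((skipEmb 1).trans (Function.Embedding.refl _))).upd 1 2 1 (le_of_eq hx23)).upd 1 3 1 (le_of_eq hx24)).upd 2 1 1 (le_of_eq hx32)).upd 2 3 2 (le_of_eq hx34)).upd 3 1 2 (le_of_eq hx42)).upd 3 2 1 (le_of_eq hx43)) ![0,1,1,1] (by decide) (by decide) 1 (by decide))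
      · -- 34=(1,3)
        exact False.elim (cert_false T ((skipEmb 2).trans (Function.Embedding.refl _)) (by norm_num) (fun _ => hall _) (((((LB_zero T ((skipEmb 2).trans (Function.Embedding.refl _))).upd 0 3 1 (le_of_eq hx04)).upd 2 3 1 (le_of_eq hx34)).upd 3 0 1 (le_of_eq hx40)).upd 3 2 3 (le_of_eq hx43)) ![1,0,1,2] (by decide) (by decide) 0 (by decide))
      · -- 34=(3,1)
        exact False.elim (cert_false T ((skipEmb 2).trans (Function.Embedding.refl _)) (by norm_num) (fun _ => hall _) (((((LB_zero T ((skipEmb 2).trans (Function.Embedding.refl _))).upd 1 2 1 (le_of_eq hx13)).upd 2 1 1 (le_of_eq hx31)).upd 2 3 3 (le_of_eq hx34)).upd 3 2 1 (le_of_eq hx43)) ![0,1,2,1] (by decide) (by decide) 1 (by decide))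
    · -- 24=(2,1)
      rcases d34 with ⟨rfl, rfl⟩ | ⟨rfl, rfl⟩ | ⟨rfl, rfl⟩ | ⟨rfl, rfl⟩ | ⟨rfl, rfl⟩ | ⟨rfl, rfl⟩
      · -- 34=(0,0)
        refine ⟨(⟨![1, 3, 2, 4, 0], ![4, 0, 2, 1, 3], by decide, by decide⟩ : Equiv.Perm (Fin 5)), T.m 1, T.w 1, Or.inr (Or.inl ?_)⟩
        show T.m 1 = T.m 1 ∧ T.m 3 = 2 * T.m 1 ∧ T.m 2 = 3 * T.m 1 ∧ T.m 4 = 2 * T.m 1 ∧ T.m 0 = T.m 1 ∧ T.w 1 = T.w 1 ∧ T.w 3 = T.w 1 ∧ T.w 2 = T.w 1 ∧ T.w 4 = 2 * T.w 1 ∧ T.w 0 = 2 * T.w 1 ∧ T.a 1 1 = -2 * T.w 1 ∧ T.a 1 3 = T.w 1 ∧ T.a 1 2 = 0 ∧ T.a 1 4 = 0 ∧ T.a 1 0 = 0 ∧ T.a 3 3 = -2 * T.w 1 ∧ T.a 3 2 = T.w 1 ∧ T.a 3 4 = 0 ∧ T.a 3 0 = 0 ∧ T.a 2 2 = -2 * T.w 1 ∧ T.a 2 4 = 2 * T.w 1 ∧ T.a 2 0 = 0 ∧ T.a 4 4 = -4 * T.w 1 ∧ T.a 4 0 = 2 * T.w 1 ∧ T.a 0 0 = -4 * T.w 1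
        refine ⟨?_, ?_, ?_, ?_, ?_, ?_, ?_, ?_, ?_, ?_, ?_, ?_, ?_, ?_, ?_, ?_, ?_, ?_, ?_, ?_, ?_, ?_, ?_, ?_, ?_⟩ <;> omega
      · -- 34=(1,1)
        exact False.elim (cert_false T ((skipEmb 1).trans (Function.Embedding.refl _)) (by norm_num) (fun _ => hall _) (((((((LB_zero T ((skipEmb 1).trans (Function.Embedding.refl _))).upd 1 2 1 (le_of_eq hx23)).upd 1 3 2 (le_of_eq hx24)).upd 2 1 1 (le_of_eq hx32)).upd 2 3 1 (le_of_eq hx34)).upd 3 1 1 (le_of_eq hx42)).upd 3 2 1 (le_of_eq hx43)) ![0,1,1,1] (by decide) (by decide) 1 (by decide))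
      · -- 34=(1,2)
        exact False.elim (cert_false T ((skipEmb 1).trans (Function.Embedding.refl _)) (by norm_num) (fun _ => hall _) (((((((LB_zero T ((skipEmb 1).trans (Function.Embedding.refl _))).upd 1 2 1 (le_of_eq hx23)).upd 1 3 2 (le_of_eq hx24)).upd 2 1 1 (le_of_eq hx32)).upd 2 3 1 (le_of_eq hx34)).upd 3 1 1 (le_of_eq hx42)).upd 3 2 2 (le_of_eq hx43)) ![0,1,1,1] (by decide) (by decide) 1 (by decide))
      · -- 34=(2,1)
        exact False.elim (cert_false T ((skipEmb 1).trans (Function.Embedding.refl _)) (by norm_num) (fun _ => hall _) (((((((LB_zero T ((skipEmb 1).trans (Function.Embedding.refl _))).upd 1 2 1 (le_of_eq hx23)).upd 1 3 2 (le_of_eq hx24)).upd 2 1 1 (le_of_eq hx32)).upd 2 3 2 (le_of_eq hx34)).upd 3 1 1 (le_of_eq hx42)).upd 3 2 1 (le_of_eq hx43)) ![0,1,1,1] (by decide) (by decide) 1 (by decide))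
      · -- 34=(1,3)
        exact False.elim (cert_false T ((skipEmb 2).trans (Function.Embedding.refl _)) (by norm_num) (fun _ => hall _) (((((LB_zero T ((skipEmb 2).trans (Function.Embedding.refl _))).upd 0 3 1 (le_of_eq hx04)).upd 2 3 1 (le_of_eq hx34)).upd 3 0 1 (le_of_eq hx40)).upd 3 2 3 (le_of_eq hx43)) ![1,0,1,2] (by decide) (by decide) 0 (by decide))
      · -- 34=(3,1)
        exact False.elim (cert_false T ((skipEmb 2).trans (Function.Embedding.refl _)) (by norm_num) (fun _ => hall _) (((((LB_zero T ((skipEmb 2).trans (Function.Embedding.refl _))).upd 1 2 1 (le_of_eq hx13)).upd 2 1 1 (le_of_eq hx31)).upd 2 3 3 (le_of_eq hx34)).upd 3 2 1 (le_of_eq hx43)) ![0,1,2,1] (by decide) (by decide) 1 (by decide))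
    · -- 24=(1,3)
      exact False.elim (cert_false T ((skipEmb 3).trans (Function.Embedding.refl _)) (by norm_num) (fun _ => hall _) (((((LB_zero T ((skipEmb 3).trans (Function.Embedding.refl _))).upd 0 3 1 (le_of_eq hx04)).upd 2 3 1 (le_of_eq hx24)).upd 3 0 1 (le_of_eq hx40)).upd 3 2 3 (le_of_eq hx42)) ![1,0,1,2] (by decide) (by decide) 0 (by decide))
    · -- 24=(3,1)
      exact False.elim (cert_false T ((skipEmb 3).trans (Function.Embedding.refl _)) (by norm_num) (fun _ => hall _) (((((LB_zero T ((skipEmb 3).trans (Function.Embedding.refl _))).upd 0 3 1 (le_of_eq hx04)).upd 2 3 3 (le_of_eq hx24)).upd 3 0 1 (le_of_eq hx40)).upd 3 2 1 (le_of_eq hx42)) ![1,0,3,2] (by decide) (by decide) 0 (by decide))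
  · -- 14=(1,1)
    rcases d24 with ⟨rfl, rfl⟩ | ⟨rfl, rfl⟩ | ⟨rfl, rfl⟩ | ⟨rfl, rfl⟩ | ⟨rfl, rfl⟩ | ⟨rfl, rfl⟩
    · -- 24=(0,0)
      rcases d34 with ⟨rfl, rfl⟩ | ⟨rfl, rfl⟩ | ⟨rfl, rfl⟩ | ⟨rfl, rfl⟩ | ⟨rfl, rfl⟩ | ⟨rfl, rfl⟩
      · -- 34=(0,0)
        exfalso; omega
      · -- 34=(1,1)
        exact False.elim (cert_false T ((skipEmb 2).trans (Function.Embedding.refl _)) (by norm_num) (fun _ => hall _) (((((((LB_zero T ((skipEmb 2).trans (Function.Embedding.refl _))).upd 1 2 1 (le_of_eq hx13)).upd 1 3 1 (le_of_eq hx14)).upd 2 1 1 (le_of_eq hx31)).upd 2 3 1 (le_of_eq hx34)).upd 3 1 1 (le_of_eq hx41)).upd 3 2 1 (le_of_eq hx43)) ![0,1,1,1] (by decide) (by decide) 1 (by decide))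
      · -- 34=(1,2)
        exact False.elim (cert_false T ((skipEmb 2).trans (Function.Embedding.refl _)) (by norm_num) (fun _ => hall _) (((((((LB_zero T ((skipEmb 2).trans (Function.Embedding.refl _))).upd 1 2 1 (le_of_eq hx13)).upd 1 3 1 (le_of_eq hx14)).upd 2 1 1 (le_of_eq hx31)).upd 2 3 1 (le_of_eq hx34)).upd 3 1 1 (le_of_eq hx41)).upd 3 2 2 (le_of_eq hx43)) ![0,1,1,1] (by decide) (by decide) 1 (by decide))
      · -- 34=(2,1)
        exact False.elim (cert_false T ((skipEmb 2).trans (Function.Embedding.refl _)) (by norm_num) (fun _ => hall _) (((((((LB_zero T ((skipEmb 2).trans (Function.Embedding.refl _))).upd 1 2 1 (le_of_eq hx13)).upd 1 3 1 (le_of_eq hx14)).upd 2 1 1 (le_of_eq hx31)).upd 2 3 2 (le_of_eq hx34)).upd 3 1 1 (le_of_eq hx41)).upd 3 2 1 (le_of_eq hx43)) ![0,1,1,1] (by decide) (by decide) 1 (by decide))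
      · -- 34=(1,3)
        exact False.elim (cert_false T ((skipEmb 2).trans (Function.Embedding.refl _)) (by norm_num) (fun _ => hall _) (((((((LB_zero T ((skipEmb 2).trans (Function.Embedding.refl _))).upd 1 2 1 (le_of_eq hx13)).upd 1 3 1 (le_of_eq hx14)).upd 2 1 1 (le_of_eq hx31)).upd 2 3 1 (le_of_eq hx34)).upd 3 1 1 (le_of_eq hx41)).upd 3 2 3 (le_of_eq hx43)) ![0,1,1,1] (by decide) (by decide) 1 (by decide))
      · -- 34=(3,1)
        exact False.elim (cert_false T ((skipEmb 2).trans (Function.Embedding.refl _)) (by norm_num) (fun _ => hall _) (((((((LB_zero T ((skipEmb 2).trans (Function.Embedding.refl _))).upd 1 2 1 (le_of_eq hx13)).upd 1 3 1 (le_of_eq hx14)).upd 2 1 1 (le_of_eq hx31)).upd 2 3 3 (le_of_eq hx34)).upd 3 1 1 (le_of_eq hx41)).upd 3 2 1 (le_of_eq hx43)) ![0,1,1,1] (by decide) (by decide) 1 (by decide))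
    · -- 24=(1,1)
      exact False.elim (cert_false T ((skipEmb 0).trans (Function.Embedding.refl _)) (by norm_num) (fun _ => hall _) (((((((((LB_zero T ((skipEmb 0).trans (Function.Embedding.refl _))).upd 0 2 1 (le_of_eq hx13)).upd 0 3 1 (le_of_eq hx14)).upd 1 2 1 (le_of_eq hx23)).upd 1 3 1 (le_of_eq hx24)).upd 2 0 1 (le_of_eq hx31)).upd 2 1 1 (le_of_eq hx32)).upd 3 0 1 (le_of_eq hx41)).upd 3 1 1 (le_of_eq hx42)) ![1,1,1,1] (by decide) (by decide) 0 (by decide))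
    · -- 24=(1,2)
      exact False.elim (cert_false T ((skipEmb 3).trans (Function.Embedding.refl _)) (by norm_num) (fun _ => hall _) (((((((LB_zero T ((skipEmb 3).trans (Function.Embedding.refl _))).upd 0 3 1 (le_of_eq hx04)).upd 1 3 1 (le_of_eq hx14)).upd 2 3 1 (le_of_eq hx24)).upd 3 0 1 (le_of_eq hx40)).upd 3 1 1 (le_of_eq hx41)).upd 3 2 2 (le_of_eq hx42)) ![1,1,1,2] (by decide) (by decide) 0 (by decide))
    · -- 24=(2,1)
      exact False.elim (cert_false T ((skipEmb 3).trans (Function.Embedding.refl _)) (by norm_num) (fun _ => hall _) (((((((LB_zero T ((skipEmb 3).trans (Function.Embedding.refl _))).upd 0 3 1 (le_of_eq hx04)).upd 1 3 1 (le_of_eq hx14)).upd 2 3 2 (le_of_eq hx24)).upd 3 0 1 (le_of_eq hx40)).upd 3 1 1 (le_of_eq hx41)).upd 3 2 1 (le_of_eq hx42)) ![1,1,2,2] (by decide) (by decide) 0 (by decide))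
    · -- 24=(1,3)
      exact False.elim (cert_false T ((skipEmb 3).trans (Function.Embedding.refl _)) (by norm_num) (fun _ => hall _) (((((LB_zero T ((skipEmb 3).trans (Function.Embedding.refl _))).upd 1 3 1 (le_of_eq hx14)).upd 2 3 1 (le_of_eq hx24)).upd 3 1 1 (le_of_eq hx41)).upd 3 2 3 (le_of_eq hx42)) ![0,1,1,2] (by decide) (by decide) 1 (by decide))
    · -- 24=(3,1)
      exact False.elim (cert_false T ((skipEmb 3).trans (Function.Embedding.refl _)) (by norm_num) (fun _ => hall _) (((((((LB_zero T ((skipEmb 3).trans (Function.Embedding.refl _))).upd 0 3 1 (le_of_eq hx04)).upd 1 3 1 (le_of_eq hx14)).upd 2 3 3 (le_of_eq hx24)).upd 3 0 1 (le_of_eq hx40)).upd 3 1 1 (le_of_eq hx41)).upd 3 2 1 (le_of_eq hx42)) ![1,1,2,2] (by decide) (by decide) 0 (by decide))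
  · -- 14=(1,2)
    rcases d24 with ⟨rfl, rfl⟩ | ⟨rfl, rfl⟩ | ⟨rfl, rfl⟩ | ⟨rfl, rfl⟩ | ⟨rfl, rfl⟩ | ⟨rfl, rfl⟩
    · -- 24=(0,0)
      rcases d34 with ⟨rfl, rfl⟩ | ⟨rfl, rfl⟩ | ⟨rfl, rfl⟩ | ⟨rfl, rfl⟩ | ⟨rfl, rfl⟩ | ⟨rfl, rfl⟩
      · -- 34=(0,0)
        refine ⟨(⟨![2, 3, 1, 4, 0], ![4, 2, 0, 1, 3], by decide, by decide⟩ : Equiv.Perm (Fin 5)), T.m 2, T.w 4, Or.inr (Or.inr (Or.inl ?_))⟩
        show T.m 2 = T.m 2 ∧ T.m 3 = 2 * T.m 2 ∧ T.m 1 = 3 * T.m 2 ∧ T.m 4 = 4 * T.m 2 ∧ T.m 0 = 2 * T.m 2 ∧ T.w 2 = 2 * T.w 4 ∧ T.w 3 = 2 * T.w 4 ∧ T.w 1 = 2 * T.w 4 ∧ T.w 4 = T.w 4 ∧ T.w 0 = T.w 4 ∧ T.a 2 2 = -4 * T.w 4 ∧ T.a 2 3 = 2 * T.w 4 ∧ T.a 2 1 = 0 ∧ T.a 2 4 = 0 ∧ T.a 2 0 = 0 ∧ T.a 3 3 = -4 * T.w 4 ∧ T.a 3 1 = 2 * T.w 4 ∧ T.a 3 4 = 0 ∧ T.a 3 0 = 0 ∧ T.a 1 1 = -4 * T.w 4 ∧ T.a 1 4 = 2 * T.w 4 ∧ T.a 1 0 = 0 ∧ T.a 4 4 = -2 * T.w 4 ∧ T.a 4 0 = T.w 4 ∧ T.a 0 0 = -2 * T.w 4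
        refine ⟨?_, ?_, ?_, ?_, ?_, ?_, ?_, ?_, ?_, ?_, ?_, ?_, ?_, ?_, ?_, ?_, ?_, ?_, ?_, ?_, ?_, ?_, ?_, ?_, ?_⟩ <;> omega
      · -- 34=(1,1)
        exact False.elim (cert_false T ((skipEmb 2).trans (Function.Embedding.refl _)) (by norm_num) (fun _ => hall _) (((((((LB_zero T ((skipEmb 2).trans (Function.Embedding.refl _))).upd 1 2 1 (le_of_eq hx13)).upd 1 3 1 (le_of_eq hx14)).upd 2 1 1 (le_of_eq hx31)).upd 2 3 1 (le_of_eq hx34)).upd 3 1 2 (le_of_eq hx41)).upd 3 2 1 (le_of_eq hx43)) ![0,1,1,1] (by decide) (by decide) 1 (by decide))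
      · -- 34=(1,2)
        exact False.elim (cert_false T ((skipEmb 2).trans (Function.Embedding.refl _)) (by norm_num) (fun _ => hall _) (((((((LB_zero T ((skipEmb 2).trans (Function.Embedding.refl _))).upd 1 2 1 (le_of_eq hx13)).upd 1 3 1 (le_of_eq hx14)).upd 2 1 1 (le_of_eq hx31)).upd 2 3 1 (le_of_eq hx34)).upd 3 1 2 (le_of_eq hx41)).upd 3 2 2 (le_of_eq hx43)) ![0,1,1,1] (by decide) (by decide) 1 (by decide))
      · -- 34=(2,1)
        exact False.elim (cert_false T ((skipEmb 2).trans (Function.Embedding.refl _)) (by norm_num) (fun _ => hall _) (((((((LB_zero T ((skipEmb 2).trans (Function.Embedding.refl _))).upd 1 2 1 (le_of_eq hx13)).upd 1 3 1 (le_of_eq hx14)).upd 2 1 1 (le_of_eq hx31)).upd 2 3 2 (le_of_eq hx34)).upd 3 1 2 (le_of_eq hx41)).upd 3 2 1 (le_of_eq hx43)) ![0,1,1,1] (by decide) (by decide) 1 (by decide))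
      · -- 34=(1,3)
        exact False.elim (cert_false T ((skipEmb 2).trans (Function.Embedding.refl _)) (by norm_num) (fun _ => hall _) (((((((LB_zero T ((skipEmb 2).trans (Function.Embedding.refl _))).upd 1 2 1 (le_of_eq hx13)).upd 1 3 1 (le_of_eq hx14)).upd 2 1 1 (le_of_eq hx31)).upd 2 3 1 (le_of_eq hx34)).upd 3 1 2 (le_of_eq hx41)).upd 3 2 3 (le_of_eq hx43)) ![0,1,1,1] (by decide) (by decide) 1 (by decide))
      · -- 34=(3,1)
        exact False.elim (cert_false T ((skipEmb 2).trans (Function.Embedding.refl _)) (by norm_num) (fun _ => hall _) (((((((LB_zero T ((skipEmb 2).trans (Function.Embedding.refl _))).upd 1 2 1 (le_of_eq hx13)).upd 1 3 1 (le_of_eq hx14)).upd 2 1 1 (le_of_eq hx31)).upd 2 3 3 (le_of_eq hx34)).upd 3 1 2 (le_of_eq hx41)).upd 3 2 1 (le_of_eq hx43)) ![0,1,1,1] (by decide) (by decide) 1 (by decide))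
    · -- 24=(1,1)
      exact False.elim (cert_false T ((skipEmb 3).trans (Function.Embedding.refl _)) (by norm_num) (fun _ => hall _) (((((((LB_zero T ((skipEmb 3).trans (Function.Embedding.refl _))).upd 0 3 1 (le_of_eq hx04)).upd 1 3 1 (le_of_eq hx14)).upd 2 3 1 (le_of_eq hx24)).upd 3 0 1 (le_of_eq hx40)).upd 3 1 2 (le_of_eq hx41)).upd 3 2 1 (le_of_eq hx42)) ![1,1,1,2] (by decide) (by decide) 0 (by decide))
    · -- 24=(1,2)
      exact False.elim (cert_false T ((skipEmb 3).trans (Function.Embedding.refl _)) (by norm_num) (fun _ => hall _) (((((LB_zero T ((skipEmb 3).trans (Function.Embedding.refl _))).upd 1 3 1 (le_of_eq hx14)).upd 2 3 1 (le_of_eq hx24)).upd 3 1 2 (le_of_eq hx41)).upd 3 2 2 (le_of_eq hx42)) ![0,1,1,2] (by decide) (by decide) 1 (by decide))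
    · -- 24=(2,1)
      exact False.elim (cert_false T ((skipEmb 3).trans (Function.Embedding.refl _)) (by norm_num) (fun _ => hall _) (((((LB_zero T ((skipEmb 3).trans (Function.Embedding.refl _))).upd 1 3 1 (le_of_eq hx14)).upd 2 3 2 (le_of_eq hx24)).upd 3 1 2 (le_of_eq hx41)).upd 3 2 1 (le_of_eq hx42)) ![0,1,2,2] (by decide) (by decide) 1 (by decide))
    · -- 24=(1,3)
      exact False.elim (cert_false T ((skipEmb 3).trans (Function.Embedding.refl _)) (by norm_num) (fun _ => hall _) (((((LB_zero T ((skipEmb 3).trans (Function.Embedding.refl _))).upd 1 3 1 (le_of_eq hx14)).upd 2 3 1 (le_of_eq hx24)).upd 3 1 2 (le_of_eq hx41)).upd 3 2 3 (le_of_eq hx42)) ![0,1,1,2] (by decide) (by decide) 1 (by decide))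
    · -- 24=(3,1)
      exact False.elim (cert_false T ((skipEmb 3).trans (Function.Embedding.refl _)) (by norm_num) (fun _ => hall _) (((((LB_zero T ((skipEmb 3).trans (Function.Embedding.refl _))).upd 1 3 1 (le_of_eq hx14)).upd 2 3 3 (le_of_eq hx24)).upd 3 1 2 (le_of_eq hx41)).upd 3 2 1 (le_of_eq hx42)) ![0,1,2,2] (by decide) (by decide) 1 (by decide))
  · -- 14=(2,1)
    rcases d24 with ⟨rfl, rfl⟩ | ⟨rfl, rfl⟩ | ⟨rfl, rfl⟩ | ⟨rfl, rfl⟩ | ⟨rfl, rfl⟩ | ⟨rfl, rfl⟩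
    · -- 24=(0,0)
      rcases d34 with ⟨rfl, rfl⟩ | ⟨rfl, rfl⟩ | ⟨rfl, rfl⟩ | ⟨rfl, rfl⟩ | ⟨rfl, rfl⟩ | ⟨rfl, rfl⟩
      · -- 34=(0,0)
        refine ⟨(⟨![2, 3, 1, 4, 0], ![4, 2, 0, 1, 3], by decide, by decide⟩ : Equiv.Perm (Fin 5)), T.m 2, T.w 2, Or.inr (Or.inl ?_)⟩
        show T.m 2 = T.m 2 ∧ T.m 3 = 2 * T.m 2 ∧ T.m 1 = 3 * T.m 2 ∧ T.m 4 = 2 * T.m 2 ∧ T.m 0 = T.m 2 ∧ T.w 2 = T.w 2 ∧ T.w 3 = T.w 2 ∧ T.w 1 = T.w 2 ∧ T.w 4 = 2 * T.w 2 ∧ T.w 0 = 2 * T.w 2 ∧ T.a 2 2 = -2 * T.w 2 ∧ T.a 2 3 = T.w 2 ∧ T.a 2 1 = 0 ∧ T.a 2 4 = 0 ∧ T.a 2 0 = 0 ∧ T.a 3 3 = -2 * T.w 2 ∧ T.a 3 1 = T.w 2 ∧ T.a 3 4 = 0 ∧ T.a 3 0 = 0 ∧ T.a 1 1 = -2 * T.w 2 ∧ T.a 1 4 = 2 * T.w 2 ∧ T.a 1 0 = 0 ∧ T.a 4 4 = -4 * T.w 2 ∧ T.a 4 0 = 2 * T.w 2 ∧ T.a 0 0 = -4 * T.w 2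
        refine ⟨?_, ?_, ?_, ?_, ?_, ?_, ?_, ?_, ?_, ?_, ?_, ?_, ?_, ?_, ?_, ?_, ?_, ?_, ?_, ?_, ?_, ?_, ?_, ?_, ?_⟩ <;> omega
      · -- 34=(1,1)
        exact False.elim (cert_false T ((skipEmb 2).trans (Function.Embedding.refl _)) (by norm_num) (fun _ => hall _) (((((((LB_zero T ((skipEmb 2).trans (Function.Embedding.refl _))).upd 1 2 1 (le_of_eq hx13)).upd 1 3 2 (le_of_eq hx14)).upd 2 1 1 (le_of_eq hx31)).upd 2 3 1 (le_of_eq hx34)).upd 3 1 1 (le_of_eq hx41)).upd 3 2 1 (le_of_eq hx43)) ![0,1,1,1] (by decide) (by decide) 1 (by decide))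
      · -- 34=(1,2)
        exact False.elim (cert_false T ((skipEmb 2).trans (Function.Embedding.refl _)) (by norm_num) (fun _ => hall _) (((((((LB_zero T ((skipEmb 2).trans (Function.Embedding.refl _))).upd 1 2 1 (le_of_eq hx13)).upd 1 3 2 (le_of_eq hx14)).upd 2 1 1 (le_of_eq hx31)).upd 2 3 1 (le_of_eq hx34)).upd 3 1 1 (le_of_eq hx41)).upd 3 2 2 (le_of_eq hx43)) ![0,1,1,1] (by decide) (by decide) 1 (by decide))
      · -- 34=(2,1)
        exact False.elim (cert_false T ((skipEmb 2).trans (Function.Embedding.refl _)) (by norm_num) (fun _ => hall _) (((((((LB_zero T ((skipEmb 2).trans (Function.Embedding.refl _))).upd 1 2 1 (le_of_eq hx13)).upd 1 3 2 (le_of_eq hx14)).upd 2 1 1 (le_of_eq hx31)).upd 2 3 2 (le_of_eq hx34)).upd 3 1 1 (le_of_eq hx41)).upd 3 2 1 (le_of_eq hx43)) ![0,1,1,1] (by decide) (by decide) 1 (by decide))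
      · -- 34=(1,3)
        exact False.elim (cert_false T ((skipEmb 2).trans (Function.Embedding.refl _)) (by norm_num) (fun _ => hall _) (((((((LB_zero T ((skipEmb 2).trans (Function.Embedding.refl _))).upd 1 2 1 (le_of_eq hx13)).upd 1 3 2 (le_of_eq hx14)).upd 2 1 1 (le_of_eq hx31)).upd 2 3 1 (le_of_eq hx34)).upd 3 1 1 (le_of_eq hx41)).upd 3 2 3 (le_of_eq hx43)) ![0,1,1,1] (by decide) (by decide) 1 (by decide))
      · -- 34=(3,1)
        exact False.elim (cert_false T ((skipEmb 2).trans (Function.Embedding.refl _)) (by norm_num) (fun _ => hall _) (((((((LB_zero T ((skipEmb 2).trans (Function.Embedding.refl _))).upd 1 2 1 (le_of_eq hx13)).upd 1 3 2 (le_of_eq hx14)).upd 2 1 1 (le_of_eq hx31)).upd 2 3 3 (le_of_eq hx34)).upd 3 1 1 (le_of_eq hx41)).upd 3 2 1 (le_of_eq hx43)) ![0,1,1,1] (by decide) (by decide) 1 (by decide))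
    · -- 24=(1,1)
      exact False.elim (cert_false T ((skipEmb 3).trans (Function.Embedding.refl _)) (by norm_num) (fun _ => hall _) (((((((LB_zero T ((skipEmb 3).trans (Function.Embedding.refl _))).upd 0 3 1 (le_of_eq hx04)).upd 1 3 2 (le_of_eq hx14)).upd 2 3 1 (le_of_eq hx24)).upd 3 0 1 (le_of_eq hx40)).upd 3 1 1 (le_of_eq hx41)).upd 3 2 1 (le_of_eq hx42)) ![1,2,1,2] (by decide) (by decide) 0 (by decide))
    · -- 24=(1,2)
      exact False.elim (cert_false T ((skipEmb 3).trans (Function.Embedding.refl _)) (by norm_num) (fun _ => hall _) (((((LB_zero T ((skipEmb 3).trans (Function.Embedding.refl _))).upd 1 3 2 (le_of_eq hx14)).upd 2 3 1 (le_of_eq hx24)).upd 3 1 1 (le_of_eq hx41)).upd 3 2 2 (le_of_eq hx42)) ![0,2,1,2] (by decide) (by decide) 1 (by decide))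
    · -- 24=(2,1)
      exact False.elim (cert_false T ((skipEmb 3).trans (Function.Embedding.refl _)) (by norm_num) (fun _ => hall _) (((((LB_zero T ((skipEmb 3).trans (Function.Embedding.refl _))).upd 1 3 2 (le_of_eq hx14)).upd 2 3 2 (le_of_eq hx24)).upd 3 1 1 (le_of_eq hx41)).upd 3 2 1 (le_of_eq hx42)) ![0,1,1,1] (by decide) (by decide) 1 (by decide))
    · -- 24=(1,3)
      exact False.elim (cert_false T ((skipEmb 3).trans (Function.Embedding.refl _)) (by norm_num) (fun _ => hall _) (((((LB_zero T ((skipEmb 3).trans (Function.Embedding.refl _))).upd 1 3 2 (le_of_eq hx14)).upd 2 3 1 (le_of_eq hx24)).upd 3 1 1 (le_of_eq hx41)).upd 3 2 3 (le_of_eq hx42)) ![0,1,1,2] (by decide) (by decide) 1 (by decide))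
    · -- 24=(3,1)
      exact False.elim (cert_false T ((skipEmb 3).trans (Function.Embedding.refl _)) (by norm_num) (fun _ => hall _) (((((LB_zero T ((skipEmb 3).trans (Function.Embedding.refl _))).upd 1 3 2 (le_of_eq hx14)).upd 2 3 3 (le_of_eq hx24)).upd 3 1 1 (le_of_eq hx41)).upd 3 2 1 (le_of_eq hx42)) ![0,1,1,1] (by decide) (by decide) 1 (by decide))
  · -- 14=(1,3)
    exact False.elim (cert_false T ((skipEmb 3).trans (Function.Embedding.refl _)) (by norm_num) (fun _ => hall _) (((((LB_zero T ((skipEmb 3).trans (Function.Embedding.refl _))).upd 0 3 1 (le_of_eq hx04)).upd 1 3 1 (le_of_eq hx14)).upd 3 0 1 (le_of_eq hx40)).upd 3 1 3 (le_of_eq hx41)) ![1,1,0,2] (by decide) (by decide) 0 (by decide))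
  · -- 14=(3,1)
    exact False.elim (cert_false T ((skipEmb 3).trans (Function.Embedding.refl _)) (by norm_num) (fun _ => hall _) (((((LB_zero T ((skipEmb 3).trans (Function.Embedding.refl _))).upd 0 3 1 (le_of_eq hx04)).upd 1 3 3 (le_of_eq hx14)).upd 3 0 1 (le_of_eq hx40)).upd 3 1 1 (le_of_eq hx41)) ![1,3,0,2] (by decide) (by decide) 0 (by decide))

theorem case25 (T : NumericalType 5) (hall : ∀ i, T.IsMinusTwo i) (d : SData T)
    (h01 : N T (Function.Embedding.refl _) 0 1 = 0) (h10 : N T (Function.Embedding.refl _) 1 0 = 0)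
    (h02 : N T (Function.Embedding.refl _) 0 2 = 0) (h20 : N T (Function.Embedding.refl _) 2 0 = 0)
    (h12 : N T (Function.Embedding.refl _) 1 2 = 0) (h21 : N T (Function.Embedding.refl _) 2 1 = 0)
    (h03 : N T (Function.Embedding.refl _) 0 3 = 0) (h30 : N T (Function.Embedding.refl _) 3 0 = 0)
    (h13 : N T (Function.Embedding.refl _) 1 3 = 1) (h31 : N T (Function.Embedding.refl _) 3 1 = 1)
    (h23 : N T (Function.Embedding.refl _) 2 3 = 1) (h32 : N T (Function.Embedding.refl _) 3 2 = 1) :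
    Goal T := by
  unfold Goal
  have hd := d
  obtain ⟨x01, x02, x03, x04, x10, x12, x13, x14, x20, x21, x23, x24, x30, x31, x32, x34, x40, x41, x42, x43, hx01, hx02, hx03, hx04, hx10, hx12, hx13, hx14, hx20, hx21, hx23, hx24, hx30, hx31, hx32, hx34, hx40, hx41, hx42, hx43, hw0, hm0, hw1, hm1, hw2, hm2, hw3, hm3, hw4, hm4, a00, a01, a02, a03, a04, a11, a10, a12, a13, a14, a22, a20, a21, a23, a24, a33, a30, a31, a32, a34, a44, a40, a41, a42, a43, wN01, wN02, wN12, wN03, wN13, wN23, wN04, wN14, wN24, wN34, e0, e1, e2, e3, e4, d01, d02, d12, d03, d13, d23, d04, d14, d24, d34⟩ := d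
  obtain rfl : x01 = 0 := hx01.trans h01
  obtain rfl : x10 = 0 := hx10.trans h10
  obtain rfl : x02 = 0 := hx02.trans h02
  obtain rfl : x20 = 0 := hx20.trans h20
  obtain rfl : x12 = 0 := hx12.trans h12
  obtain rfl : x21 = 0 := hx21.trans h21
  obtain rfl : x03 = 0 := hx03.trans h03
  obtain rfl : x30 = 0 := hx30.trans h30
  obtain rfl : x13 = 1 := hx13.trans h13
  obtain rfl : x31 = 1 := hx31.trans h31
  obtain rfl : x23 = 1 := hx23.trans h23
  obtain rfl : x32 = 1 := hx32.trans h32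
  rcases d04 with ⟨rfl, rfl⟩ | ⟨rfl, rfl⟩ | ⟨rfl, rfl⟩ | ⟨rfl, rfl⟩ | ⟨rfl, rfl⟩ | ⟨rfl, rfl⟩
  · -- 04=(0,0)
    exact case26 T hall hd hx01.symm hx10.symm hx02.symm hx20.symm hx12.symm hx21.symm hx03.symm hx30.symm hx13.symm hx31.symm hx23.symm hx32.symm hx04.symm hx40.symm
  · -- 04=(1,1)
    exact case27 T hall hd hx01.symm hx10.symm hx02.symm hx20.symm hx12.symm hx21.symm hx03.symm hx30.symm hx13.symm hx31.symm hx23.symm hx32.symm hx04.symm hx40.symm
  · -- 04=(1,2)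
    rcases d14 with ⟨rfl, rfl⟩ | ⟨rfl, rfl⟩ | ⟨rfl, rfl⟩ | ⟨rfl, rfl⟩ | ⟨rfl, rfl⟩ | ⟨rfl, rfl⟩
    · -- 14=(0,0)
      rcases d24 with ⟨rfl, rfl⟩ | ⟨rfl, rfl⟩ | ⟨rfl, rfl⟩ | ⟨rfl, rfl⟩ | ⟨rfl, rfl⟩ | ⟨rfl, rfl⟩
      · -- 24=(0,0)
        rcases d34 with ⟨rfl, rfl⟩ | ⟨rfl, rfl⟩ | ⟨rfl, rfl⟩ | ⟨rfl, rfl⟩ | ⟨rfl, rfl⟩ | ⟨rfl, rfl⟩
        · -- 34=(0,0)
          exfalso; omega
        · -- 34=(1,1)
          refine ⟨(⟨![0, 4, 3, 1, 2], ![0, 3, 4, 2, 1], by decide, by decide⟩ : Equiv.Perm (Fin 5)), T.m 0, T.w 4, Or.inr (Or.inr (Or.inr (Or.inr (Or.inr (Or.inr (Or.inr (Or.inl ?_)))))))⟩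
          show T.m 0 = T.m 0 ∧ T.m 4 = 2 * T.m 0 ∧ T.m 3 = 2 * T.m 0 ∧ T.m 1 = T.m 0 ∧ T.m 2 = T.m 0 ∧ T.w 0 = 2 * T.w 4 ∧ T.w 4 = T.w 4 ∧ T.w 3 = T.w 4 ∧ T.w 1 = T.w 4 ∧ T.w 2 = T.w 4 ∧ T.a 0 0 = -4 * T.w 4 ∧ T.a 0 4 = 2 * T.w 4 ∧ T.a 0 3 = 0 ∧ T.a 0 1 = 0 ∧ T.a 0 2 = 0 ∧ T.a 4 4 = -2 * T.w 4 ∧ T.a 4 3 = T.w 4 ∧ T.a 4 1 = 0 ∧ T.a 4 2 = 0 ∧ T.a 3 3 = -2 * T.w 4 ∧ T.a 3 1 = T.w 4 ∧ T.a 3 2 = T.w 4 ∧ T.a 1 1 = -2 * T.w 4 ∧ T.a 1 2 = 0 ∧ T.a 2 2 = -2 * T.w 4
          refine ⟨?_, ?_, ?_, ?_, ?_, ?_, ?_, ?_, ?_, ?_, ?_, ?_, ?_, ?_, ?_, ?_, ?_, ?_, ?_, ?_, ?_, ?_, ?_, ?_, ?_⟩ <;> omega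
        · -- 34=(1,2)
          exact False.elim (cert_false T ((skipEmb 2).trans (Function.Embedding.refl _)) (by norm_num) (fun _ => hall _) (((((LB_zero T ((skipEmb 2).trans (Function.Embedding.refl _))).upd 0 3 1 (le_of_eq hx04)).upd 2 3 1 (le_of_eq hx34)).upd 3 0 2 (le_of_eq hx40)).upd 3 2 2 (le_of_eq hx43)) ![1,0,1,2] (by decide) (by decide) 0 (by decide))
        · -- 34=(2,1)
          exact False.elim (cert_false T ((skipEmb 2).trans (Function.Embedding.refl _)) (by norm_num) (fun _ => hall _) (((((LB_zero T ((skipEmb 2).trans (Function.Embedding.refl _))).upd 0 3 1 (le_of_eq hx04)).upd 2 3 2 (le_of_eq hx34)).upd 3 0 2 (le_of_eq hx40)).upd 3 2 1 (le_of_eq hx43)) ![1,0,2,2] (by decide) (by decide) 0 (by decide))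
        · -- 34=(1,3)
          exact False.elim (cert_false T ((skipEmb 2).trans (Function.Embedding.refl _)) (by norm_num) (fun _ => hall _) (((((LB_zero T ((skipEmb 2).trans (Function.Embedding.refl _))).upd 0 3 1 (le_of_eq hx04)).upd 2 3 1 (le_of_eq hx34)).upd 3 0 2 (le_of_eq hx40)).upd 3 2 3 (le_of_eq hx43)) ![1,0,1,2] (by decide) (by decide) 0 (by decide))
        · -- 34=(3,1)
          exact False.elim (cert_false T ((skipEmb 2).trans (Function.Embedding.refl _)) (by norm_num) (fun _ => hall _) (((((LB_zero T ((skipEmb 2).trans (Function.Embedding.refl _))).upd 0 3 1 (le_of_eq hx04)).upd 2 3 3 (le_of_eq hx34)).upd 3 0 2 (le_of_eq hx40)).upd 3 2 1 (le_of_eq hx43)) ![1,0,2,2] (by decide) (by decide) 0 (by decide))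
      · -- 24=(1,1)
        rcases d34 with ⟨rfl, rfl⟩ | ⟨rfl, rfl⟩ | ⟨rfl, rfl⟩ | ⟨rfl, rfl⟩ | ⟨rfl, rfl⟩ | ⟨rfl, rfl⟩
        · -- 34=(0,0)
          exfalso; omega
        · -- 34=(1,1)
          exact False.elim (cert_false T ((skipEmb 1).trans (Function.Embedding.refl _)) (by norm_num) (fun _ => hall _) (((((((LB_zero T ((skipEmb 1).trans (Function.Embedding.refl _))).upd 1 2 1 (le_of_eq hx23)).upd 1 3 1 (le_of_eq hx24)).upd 2 1 1 (le_of_eq hx32)).upd 2 3 1 (le_of_eq hx34)).upd 3 1 1 (le_of_eq hx42)).upd 3 2 1 (le_of_eq hx43)) ![0,1,1,1] (by decide) (by decide) 1 (by decide))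
        · -- 34=(1,2)
          exact False.elim (cert_false T ((skipEmb 2).trans (Function.Embedding.refl _)) (by norm_num) (fun _ => hall _) (((((LB_zero T ((skipEmb 2).trans (Function.Embedding.refl _))).upd 0 3 1 (le_of_eq hx04)).upd 2 3 1 (le_of_eq hx34)).upd 3 0 2 (le_of_eq hx40)).upd 3 2 2 (le_of_eq hx43)) ![1,0,1,2] (by decide) (by decide) 0 (by decide))
        · -- 34=(2,1)
          exact False.elim (cert_false T ((skipEmb 2).trans (Function.Embedding.refl _)) (by norm_num) (fun _ => hall _) (((((LB_zero T ((skipEmb 2).trans (Function.Embedding.refl _))).upd 0 3 1 (le_of_eq hx04)).upd 2 3 2 (le_of_eq hx34)).upd 3 0 2 (le_of_eq hx40)).upd 3 2 1 (le_of_eq hx43)) ![1,0,2,2] (by decide) (by decide) 0 (by decide))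
        · -- 34=(1,3)
          exact False.elim (cert_false T ((skipEmb 2).trans (Function.Embedding.refl _)) (by norm_num) (fun _ => hall _) (((((LB_zero T ((skipEmb 2).trans (Function.Embedding.refl _))).upd 0 3 1 (le_of_eq hx04)).upd 2 3 1 (le_of_eq hx34)).upd 3 0 2 (le_of_eq hx40)).upd 3 2 3 (le_of_eq hx43)) ![1,0,1,2] (by decide) (by decide) 0 (by decide))
        · -- 34=(3,1)
          exact False.elim (cert_false T ((skipEmb 2).trans (Function.Embedding.refl _)) (by norm_num) (fun _ => hall _) (((((LB_zero T ((skipEmb 2).trans (Function.Embedding.refl _))).upd 0 3 1 (le_of_eq hx04)).upd 2 3 3 (le_of_eq hx34)).upd 3 0 2 (le_of_eq hx40)).upd 3 2 1 (le_of_eq hx43)) ![1,0,2,2] (by decide) (by decide) 0 (by decide))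
      · -- 24=(1,2)
        exact False.elim (cert_false T ((skipEmb 3).trans (Function.Embedding.refl _)) (by norm_num) (fun _ => hall _) (((((LB_zero T ((skipEmb 3).trans (Function.Embedding.refl _))).upd 0 3 1 (le_of_eq hx04)).upd 2 3 1 (le_of_eq hx24)).upd 3 0 2 (le_of_eq hx40)).upd 3 2 2 (le_of_eq hx42)) ![1,0,1,2] (by decide) (by decide) 0 (by decide))
      · -- 24=(2,1)
        exact False.elim (cert_false T ((skipEmb 3).trans (Function.Embedding.refl _)) (by norm_num) (fun _ => hall _) (((((LB_zero T ((skipEmb 3).trans (Function.Embedding.refl _))).upd 0 3 1 (le_of_eq hx04)).upd 2 3 2 (le_of_eq hx24)).upd 3 0 2 (le_of_eq hx40)).upd 3 2 1 (le_of_eq hx42)) ![1,0,2,2] (by decide) (by decide) 0 (by decide))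
      · -- 24=(1,3)
        exact False.elim (cert_false T ((skipEmb 3).trans (Function.Embedding.refl _)) (by norm_num) (fun _ => hall _) (((((LB_zero T ((skipEmb 3).trans (Function.Embedding.refl _))).upd 0 3 1 (le_of_eq hx04)).upd 2 3 1 (le_of_eq hx24)).upd 3 0 2 (le_of_eq hx40)).upd 3 2 3 (le_of_eq hx42)) ![1,0,1,2] (by decide) (by decide) 0 (by decide))
      · -- 24=(3,1)
        exact False.elim (cert_false T ((skipEmb 3).trans (Function.Embedding.refl _)) (by norm_num) (fun _ => hall _) (((((LB_zero T ((skipEmb 3).trans (Function.Embedding.refl _))).upd 0 3 1 (le_of_eq hx04)).upd 2 3 3 (le_of_eq hx24)).upd 3 0 2 (le_of_eq hx40)).upd 3 2 1 (le_of_eq hx42)) ![1,0,2,2] (by decide) (by decide) 0 (by decide))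
    · -- 14=(1,1)
      rcases d24 with ⟨rfl, rfl⟩ | ⟨rfl, rfl⟩ | ⟨rfl, rfl⟩ | ⟨rfl, rfl⟩ | ⟨rfl, rfl⟩ | ⟨rfl, rfl⟩
      · -- 24=(0,0)
        rcases d34 with ⟨rfl, rfl⟩ | ⟨rfl, rfl⟩ | ⟨rfl, rfl⟩ | ⟨rfl, rfl⟩ | ⟨rfl, rfl⟩ | ⟨rfl, rfl⟩
        · -- 34=(0,0)
          exfalso; omega
        · -- 34=(1,1)
          exact False.elim (cert_false T ((skipEmb 2).trans (Function.Embedding.refl _)) (by norm_num) (fun _ => hall _) (((((((LB_zero T ((skipEmb 2).trans (Function.Embedding.refl _))).upd 1 2 1 (le_of_eq hx13)).upd 1 3 1 (le_of_eq hx14)).upd 2 1 1 (le_of_eq hx31)).upd 2 3 1 (le_of_eq hx34)).upd 3 1 1 (le_of_eq hx41)).upd 3 2 1 (le_of_eq hx43)) ![0,1,1,1] (by decide) (by decide) 1 (by decide))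
        · -- 34=(1,2)
          exact False.elim (cert_false T ((skipEmb 2).trans (Function.Embedding.refl _)) (by norm_num) (fun _ => hall _) (((((((LB_zero T ((skipEmb 2).trans (Function.Embedding.refl _))).upd 1 2 1 (le_of_eq hx13)).upd 1 3 1 (le_of_eq hx14)).upd 2 1 1 (le_of_eq hx31)).upd 2 3 1 (le_of_eq hx34)).upd 3 1 1 (le_of_eq hx41)).upd 3 2 2 (le_of_eq hx43)) ![0,1,1,1] (by decide) (by decide) 1 (by decide))
        · -- 34=(2,1)
          exact False.elim (cert_false T ((skipEmb 2).trans (Function.Embedding.refl _)) (by norm_num) (fun _ => hall _) (((((((LB_zero T ((skipEmb 2).trans (Function.Embedding.refl _))).upd 1 2 1 (le_of_eq hx13)).upd 1 3 1 (le_of_eq hx14)).upd 2 1 1 (le_of_eq hx31)).upd 2 3 2 (le_of_eq hx34)).upd 3 1 1 (le_of_eq hx41)).upd 3 2 1 (le_of_eq hx43)) ![0,1,1,1] (by decide) (by decide) 1 (by decide))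
        · -- 34=(1,3)
          exact False.elim (cert_false T ((skipEmb 2).trans (Function.Embedding.refl _)) (by norm_num) (fun _ => hall _) (((((((LB_zero T ((skipEmb 2).trans (Function.Embedding.refl _))).upd 1 2 1 (le_of_eq hx13)).upd 1 3 1 (le_of_eq hx14)).upd 2 1 1 (le_of_eq hx31)).upd 2 3 1 (le_of_eq hx34)).upd 3 1 1 (le_of_eq hx41)).upd 3 2 3 (le_of_eq hx43)) ![0,1,1,1] (by decide) (by decide) 1 (by decide))
        · -- 34=(3,1)
          exact False.elim (cert_false T ((skipEmb 2).trans (Function.Embedding.refl _)) (by norm_num) (fun _ => hall _) (((((((LB_zero T ((skipEmb 2).trans (Function.Embedding.refl _))).upd 1 2 1 (le_of_eq hx13)).upd 1 3 1 (le_of_eq hx14)).upd 2 1 1 (le_of_eq hx31)).upd 2 3 3 (le_of_eq hx34)).upd 3 1 1 (le_of_eq hx41)).upd 3 2 1 (le_of_eq hx43)) ![0,1,1,1] (by decide) (by decide) 1 (by decide))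
      · -- 24=(1,1)
        exact False.elim (cert_false T ((skipEmb 3).trans (Function.Embedding.refl _)) (by norm_num) (fun _ => hall _) (((((((LB_zero T ((skipEmb 3).trans (Function.Embedding.refl _))).upd 0 3 1 (le_of_eq hx04)).upd 1 3 1 (le_of_eq hx14)).upd 2 3 1 (le_of_eq hx24)).upd 3 0 2 (le_of_eq hx40)).upd 3 1 1 (le_of_eq hx41)).upd 3 2 1 (le_of_eq hx42)) ![1,1,1,2] (by decide) (by decide) 0 (by decide))
      · -- 24=(1,2)
        exact False.elim (cert_false T ((skipEmb 3).trans (Function.Embedding.refl _)) (by norm_num) (fun _ => hall _) (((((LB_zero T ((skipEmb 3).trans (Function.Embedding.refl _))).upd 0 3 1 (le_of_eq hx04)).upd 2 3 1 (le_of_eq hx24)).upd 3 0 2 (le_of_eq hx40)).upd 3 2 2 (le_of_eq hx42)) ![1,0,1,2] (by decide) (by decide) 0 (by decide))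
      · -- 24=(2,1)
        exact False.elim (cert_false T ((skipEmb 3).trans (Function.Embedding.refl _)) (by norm_num) (fun _ => hall _) (((((LB_zero T ((skipEmb 3).trans (Function.Embedding.refl _))).upd 0 3 1 (le_of_eq hx04)).upd 2 3 2 (le_of_eq hx24)).upd 3 0 2 (le_of_eq hx40)).upd 3 2 1 (le_of_eq hx42)) ![1,0,2,2] (by decide) (by decide) 0 (by decide))
      · -- 24=(1,3)
        exact False.elim (cert_false T ((skipEmb 3).trans (Function.Embedding.refl _)) (by norm_num) (fun _ => hall _) (((((LB_zero T ((skipEmb 3).trans (Function.Embedding.refl _))).upd 1 3 1 (le_of_eq hx14)).upd 2 3 1 (le_of_eq hx24)).upd 3 1 1 (le_of_eq hx41)).upd 3 2 3 (le_of_eq hx42)) ![0,1,1,2] (by decide) (by decide) 1 (by decide))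
      · -- 24=(3,1)
        exact False.elim (cert_false T ((skipEmb 3).trans (Function.Embedding.refl _)) (by norm_num) (fun _ => hall _) (((((LB_zero T ((skipEmb 3).trans (Function.Embedding.refl _))).upd 0 3 1 (le_of_eq hx04)).upd 2 3 3 (le_of_eq hx24)).upd 3 0 2 (le_of_eq hx40)).upd 3 2 1 (le_of_eq hx42)) ![1,0,2,2] (by decide) (by decide) 0 (by decide))
    · -- 14=(1,2)
      exact False.elim (cert_false T ((skipEmb 3).trans (Function.Embedding.refl _)) (by norm_num) (fun _ => hall _) (((((LB_zero T ((skipEmb 3).trans (Function.Embedding.refl _))).upd 0 3 1 (le_of_eq hx04)).upd 1 3 1 (le_of_eq hx14)).upd 3 0 2 (le_of_eq hx40)).upd 3 1 2 (le_of_eq hx41)) ![1,1,0,2] (by decide) (by decide) 0 (by decide))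
    · -- 14=(2,1)
      exact False.elim (cert_false T ((skipEmb 3).trans (Function.Embedding.refl _)) (by norm_num) (fun _ => hall _) (((((LB_zero T ((skipEmb 3).trans (Function.Embedding.refl _))).upd 0 3 1 (le_of_eq hx04)).upd 1 3 2 (le_of_eq hx14)).upd 3 0 2 (le_of_eq hx40)).upd 3 1 1 (le_of_eq hx41)) ![1,2,0,2] (by decide) (by decide) 0 (by decide))
    · -- 14=(1,3)
      exact False.elim (cert_false T ((skipEmb 3).trans (Function.Embedding.refl _)) (by norm_num) (fun _ => hall _) (((((LB_zero T ((skipEmb 3).trans (Function.Embedding.refl _))).upd 0 3 1 (le_of_eq hx04)).upd 1 3 1 (le_of_eq hx14)).upd 3 0 2 (le_of_eq hx40)).upd 3 1 3 (le_of_eq hx41)) ![1,1,0,2] (by decide) (by decide) 0 (by decide))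
    · -- 14=(3,1)
      exact False.elim (cert_false T ((skipEmb 3).trans (Function.Embedding.refl _)) (by norm_num) (fun _ => hall _) (((((LB_zero T ((skipEmb 3).trans (Function.Embedding.refl _))).upd 0 3 1 (le_of_eq hx04)).upd 1 3 3 (le_of_eq hx14)).upd 3 0 2 (le_of_eq hx40)).upd 3 1 1 (le_of_eq hx41)) ![1,2,0,2] (by decide) (by decide) 0 (by decide))
  · -- 04=(2,1)
    rcases d14 with ⟨rfl, rfl⟩ | ⟨rfl, rfl⟩ | ⟨rfl, rfl⟩ | ⟨rfl, rfl⟩ | ⟨rfl, rfl⟩ | ⟨rfl, rfl⟩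
    · -- 14=(0,0)
      rcases d24 with ⟨rfl, rfl⟩ | ⟨rfl, rfl⟩ | ⟨rfl, rfl⟩ | ⟨rfl, rfl⟩ | ⟨rfl, rfl⟩ | ⟨rfl, rfl⟩
      · -- 24=(0,0)
        rcases d34 with ⟨rfl, rfl⟩ | ⟨rfl, rfl⟩ | ⟨rfl, rfl⟩ | ⟨rfl, rfl⟩ | ⟨rfl, rfl⟩ | ⟨rfl, rfl⟩
        · -- 34=(0,0)
          exfalso; omega
        · -- 34=(1,1)
          refine ⟨(⟨![0, 4, 3, 1, 2], ![0, 3, 4, 2, 1], by decide, by decide⟩ : Equiv.Perm (Fin 5)), T.m 1, T.w 0, Or.inr (Or.inr (Or.inr (Or.inr (Or.inr (Or.inr (Or.inr (Or.inr (?_))))))))⟩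
          show T.m 0 = 2 * T.m 1 ∧ T.m 4 = 2 * T.m 1 ∧ T.m 3 = 2 * T.m 1 ∧ T.m 1 = T.m 1 ∧ T.m 2 = T.m 1 ∧ T.w 0 = T.w 0 ∧ T.w 4 = 2 * T.w 0 ∧ T.w 3 = 2 * T.w 0 ∧ T.w 1 = 2 * T.w 0 ∧ T.w 2 = 2 * T.w 0 ∧ T.a 0 0 = -2 * T.w 0 ∧ T.a 0 4 = 2 * T.w 0 ∧ T.a 0 3 = 0 ∧ T.a 0 1 = 0 ∧ T.a 0 2 = 0 ∧ T.a 4 4 = -4 * T.w 0 ∧ T.a 4 3 = 2 * T.w 0 ∧ T.a 4 1 = 0 ∧ T.a 4 2 = 0 ∧ T.a 3 3 = -4 * T.w 0 ∧ T.a 3 1 = 2 * T.w 0 ∧ T.a 3 2 = 2 * T.w 0 ∧ T.a 1 1 = -4 * T.w 0 ∧ T.a 1 2 = 0 ∧ T.a 2 2 = -4 * T.w 0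
          refine ⟨?_, ?_, ?_, ?_, ?_, ?_, ?_, ?_, ?_, ?_, ?_, ?_, ?_, ?_, ?_, ?_, ?_, ?_, ?_, ?_, ?_, ?_, ?_, ?_, ?_⟩ <;> omega
        · -- 34=(1,2)
          exact False.elim (cert_false T ((skipEmb 2).trans (Function.Embedding.refl _)) (by norm_num) (fun _ => hall _) (((((LB_zero T ((skipEmb 2).trans (Function.Embedding.refl _))).upd 0 3 2 (le_of_eq hx04)).upd 2 3 1 (le_of_eq hx34)).upd 3 0 1 (le_of_eq hx40)).upd 3 2 2 (le_of_eq hx43)) ![2,0,1,2] (by decide) (by decide) 0 (by decide))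
        · -- 34=(2,1)
          exact False.elim (cert_false T ((skipEmb 2).trans (Function.Embedding.refl _)) (by norm_num) (fun _ => hall _) (((((LB_zero T ((skipEmb 2).trans (Function.Embedding.refl _))).upd 0 3 2 (le_of_eq hx04)).upd 2 3 2 (le_of_eq hx34)).upd 3 0 1 (le_of_eq hx40)).upd 3 2 1 (le_of_eq hx43)) ![1,0,1,1] (by decide) (by decide) 0 (by decide))
        · -- 34=(1,3)
          exact False.elim (cert_false T ((skipEmb 2).trans (Function.Embedding.refl _)) (by norm_num) (fun _ => hall _) (((((LB_zero T ((skipEmb 2).trans (Function.Embedding.refl _))).upd 0 3 2 (le_of_eq hx04)).upd 2 3 1 (le_of_eq hx34)).upd 3 0 1 (le_of_eq hx40)).upd 3 2 3 (le_of_eq hx43)) ![1,0,1,2] (by decide) (by decide) 0 (by decide))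
        · -- 34=(3,1)
          exact False.elim (cert_false T ((skipEmb 2).trans (Function.Embedding.refl _)) (by norm_num) (fun _ => hall _) (((((LB_zero T ((skipEmb 2).trans (Function.Embedding.refl _))).upd 0 3 2 (le_of_eq hx04)).upd 2 3 3 (le_of_eq hx34)).upd 3 0 1 (le_of_eq hx40)).upd 3 2 1 (le_of_eq hx43)) ![1,0,1,1] (by decide) (by decide) 0 (by decide))
      · -- 24=(1,1)
        rcases d34 with ⟨rfl, rfl⟩ | ⟨rfl, rfl⟩ | ⟨rfl, rfl⟩ | ⟨rfl, rfl⟩ | ⟨rfl, rfl⟩ | ⟨rfl, rfl⟩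
        · -- 34=(0,0)
          exfalso; omega
        · -- 34=(1,1)
          exact False.elim (cert_false T ((skipEmb 1).trans (Function.Embedding.refl _)) (by norm_num) (fun _ => hall _) (((((((LB_zero T ((skipEmb 1).trans (Function.Embedding.refl _))).upd 1 2 1 (le_of_eq hx23)).upd 1 3 1 (le_of_eq hx24)).upd 2 1 1 (le_of_eq hx32)).upd 2 3 1 (le_of_eq hx34)).upd 3 1 1 (le_of_eq hx42)).upd 3 2 1 (le_of_eq hx43)) ![0,1,1,1] (by decide) (by decide) 1 (by decide))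
        · -- 34=(1,2)
          exact False.elim (cert_false T ((skipEmb 2).trans (Function.Embedding.refl _)) (by norm_num) (fun _ => hall _) (((((LB_zero T ((skipEmb 2).trans (Function.Embedding.refl _))).upd 0 3 2 (le_of_eq hx04)).upd 2 3 1 (le_of_eq hx34)).upd 3 0 1 (le_of_eq hx40)).upd 3 2 2 (le_of_eq hx43)) ![2,0,1,2] (by decide) (by decide) 0 (by decide))
        · -- 34=(2,1)
          exact False.elim (cert_false T ((skipEmb 2).trans (Function.Embedding.refl _)) (by norm_num) (fun _ => hall _) (((((LB_zero T ((skipEmb 2).trans (Function.Embedding.refl _))).upd 0 3 2 (le_of_eq hx04)).upd 2 3 2 (le_of_eq hx34)).upd 3 0 1 (le_of_eq hx40)).upd 3 2 1 (le_of_eq hx43)) ![1,0,1,1] (by decide) (by decide) 0 (by decide))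
        · -- 34=(1,3)
          exact False.elim (cert_false T ((skipEmb 2).trans (Function.Embedding.refl _)) (by norm_num) (fun _ => hall _) (((((LB_zero T ((skipEmb 2).trans (Function.Embedding.refl _))).upd 0 3 2 (le_of_eq hx04)).upd 2 3 1 (le_of_eq hx34)).upd 3 0 1 (le_of_eq hx40)).upd 3 2 3 (le_of_eq hx43)) ![1,0,1,2] (by decide) (by decide) 0 (by decide))
        · -- 34=(3,1)
          exact False.elim (cert_false T ((skipEmb 2).trans (Function.Embedding.refl _)) (by norm_num) (fun _ => hall _) (((((LB_zero T ((skipEmb 2).trans (Function.Embedding.refl _))).upd 0 3 2 (le_of_eq hx04)).upd 2 3 3 (le_of_eq hx34)).upd 3 0 1 (le_of_eq hx40)).upd 3 2 1 (le_of_eq hx43)) ![1,0,1,1] (by decide) (by decide) 0 (by decide))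
      · -- 24=(1,2)
        exact False.elim (cert_false T ((skipEmb 3).trans (Function.Embedding.refl _)) (by norm_num) (fun _ => hall _) (((((LB_zero T ((skipEmb 3).trans (Function.Embedding.refl _))).upd 0 3 2 (le_of_eq hx04)).upd 2 3 1 (le_of_eq hx24)).upd 3 0 1 (le_of_eq hx40)).upd 3 2 2 (le_of_eq hx42)) ![2,0,1,2] (by decide) (by decide) 0 (by decide))
      · -- 24=(2,1)
        exact False.elim (cert_false T ((skipEmb 3).trans (Function.Embedding.refl _)) (by norm_num) (fun _ => hall _) (((((LB_zero T ((skipEmb 3).trans (Function.Embedding.refl _))).upd 0 3 2 (le_of_eq hx04)).upd 2 3 2 (le_of_eq hx24)).upd 3 0 1 (le_of_eq hx40)).upd 3 2 1 (le_of_eq hx42)) ![1,0,1,1] (by decide) (by decide) 0 (by decide))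
      · -- 24=(1,3)
        exact False.elim (cert_false T ((skipEmb 3).trans (Function.Embedding.refl _)) (by norm_num) (fun _ => hall _) (((((LB_zero T ((skipEmb 3).trans (Function.Embedding.refl _))).upd 0 3 2 (le_of_eq hx04)).upd 2 3 1 (le_of_eq hx24)).upd 3 0 1 (le_of_eq hx40)).upd 3 2 3 (le_of_eq hx42)) ![1,0,1,2] (by decide) (by decide) 0 (by decide))
      · -- 24=(3,1)
        exact False.elim (cert_false T ((skipEmb 3).trans (Function.Embedding.refl _)) (by norm_num) (fun _ => hall _) (((((LB_zero T ((skipEmb 3).trans (Function.Embedding.refl _))).upd 0 3 2 (le_of_eq hx04)).upd 2 3 3 (le_of_eq hx24)).upd 3 0 1 (le_of_eq hx40)).upd 3 2 1 (le_of_eq hx42)) ![1,0,1,1] (by decide) (by decide) 0 (by decide))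
    · -- 14=(1,1)
      rcases d24 with ⟨rfl, rfl⟩ | ⟨rfl, rfl⟩ | ⟨rfl, rfl⟩ | ⟨rfl, rfl⟩ | ⟨rfl, rfl⟩ | ⟨rfl, rfl⟩
      · -- 24=(0,0)
        rcases d34 with ⟨rfl, rfl⟩ | ⟨rfl, rfl⟩ | ⟨rfl, rfl⟩ | ⟨rfl, rfl⟩ | ⟨rfl, rfl⟩ | ⟨rfl, rfl⟩
        · -- 34=(0,0)
          exfalso; omega
        · -- 34=(1,1)
          exact False.elim (cert_false T ((skipEmb 2).trans (Function.Embedding.refl _)) (by norm_num) (fun _ => hall _) (((((((LB_zero T ((skipEmb 2).trans (Function.Embedding.refl _))).upd 1 2 1 (le_of_eq hx13)).upd 1 3 1 (le_of_eq hx14)).upd 2 1 1 (le_of_eq hx31)).upd 2 3 1 (le_of_eq hx34)).upd 3 1 1 (le_of_eq hx41)).upd 3 2 1 (le_of_eq hx43)) ![0,1,1,1] (by decide) (by decide) 1 (by decide))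
        · -- 34=(1,2)
          exact False.elim (cert_false T ((skipEmb 2).trans (Function.Embedding.refl _)) (by norm_num) (fun _ => hall _) (((((((LB_zero T ((skipEmb 2).trans (Function.Embedding.refl _))).upd 1 2 1 (le_of_eq hx13)).upd 1 3 1 (le_of_eq hx14)).upd 2 1 1 (le_of_eq hx31)).upd 2 3 1 (le_of_eq hx34)).upd 3 1 1 (le_of_eq hx41)).upd 3 2 2 (le_of_eq hx43)) ![0,1,1,1] (by decide) (by decide) 1 (by decide))
        · -- 34=(2,1)
          exact False.elim (cert_false T ((skipEmb 2).trans (Function.Embedding.refl _)) (by norm_num) (fun _ => hall _) (((((LB_zero T ((skipEmb 2).trans (Function.Embedding.refl _))).upd 0 3 2 (le_of_eq hx04)).upd 2 3 2 (le_of_eq hx34)).upd 3 0 1 (le_of_eq hx40)).upd 3 2 1 (le_of_eq hx43)) ![1,0,1,1] (by decide) (by decide) 0 (by decide))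
        · -- 34=(1,3)
          exact False.elim (cert_false T ((skipEmb 2).trans (Function.Embedding.refl _)) (by norm_num) (fun _ => hall _) (((((((LB_zero T ((skipEmb 2).trans (Function.Embedding.refl _))).upd 1 2 1 (le_of_eq hx13)).upd 1 3 1 (le_of_eq hx14)).upd 2 1 1 (le_of_eq hx31)).upd 2 3 1 (le_of_eq hx34)).upd 3 1 1 (le_of_eq hx41)).upd 3 2 3 (le_of_eq hx43)) ![0,1,1,1] (by decide) (by decide) 1 (by decide))
        · -- 34=(3,1)
          exact False.elim (cert_false T ((skipEmb 2).trans (Function.Embedding.refl _)) (by norm_num) (fun _ => hall _) (((((LB_zero T ((skipEmb 2).trans (Function.Embedding.refl _))).upd 0 3 2 (le_of_eq hx04)).upd 2 3 3 (le_of_eq hx34)).upd 3 0 1 (le_of_eq hx40)).upd 3 2 1 (le_of_eq hx43)) ![1,0,1,1] (by decide) (by decide) 0 (by decide))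
      · -- 24=(1,1)
        exact False.elim (cert_false T ((skipEmb 3).trans (Function.Embedding.refl _)) (by norm_num) (fun _ => hall _) (((((((LB_zero T ((skipEmb 3).trans (Function.Embedding.refl _))).upd 0 3 2 (le_of_eq hx04)).upd 1 3 1 (le_of_eq hx14)).upd 2 3 1 (le_of_eq hx24)).upd 3 0 1 (le_of_eq hx40)).upd 3 1 1 (le_of_eq hx41)).upd 3 2 1 (le_of_eq hx42)) ![2,1,1,2] (by decide) (by decide) 0 (by decide))
      · -- 24=(1,2)
        exact False.elim (cert_false T ((skipEmb 3).trans (Function.Embedding.refl _)) (by norm_num) (fun _ => hall _) (((((((LB_zero T ((skipEmb 3).trans (Function.Embedding.refl _))).upd 0 3 2 (le_of_eq hx04)).upd 1 3 1 (le_of_eq hx14)).upd 2 3 1 (le_of_eq hx24)).upd 3 0 1 (le_of_eq hx40)).upd 3 1 1 (le_of_eq hx41)).upd 3 2 2 (le_of_eq hx42)) ![1,1,1,2] (by decide) (by decide) 0 (by decide))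
      · -- 24=(2,1)
        exact False.elim (cert_false T ((skipEmb 3).trans (Function.Embedding.refl _)) (by norm_num) (fun _ => hall _) (((((LB_zero T ((skipEmb 3).trans (Function.Embedding.refl _))).upd 0 3 2 (le_of_eq hx04)).upd 2 3 2 (le_of_eq hx24)).upd 3 0 1 (le_of_eq hx40)).upd 3 2 1 (le_of_eq hx42)) ![1,0,1,1] (by decide) (by decide) 0 (by decide))
      · -- 24=(1,3)
        exact False.elim (cert_false T ((skipEmb 3).trans (Function.Embedding.refl _)) (by norm_num) (fun _ => hall _) (((((LB_zero T ((skipEmb 3).trans (Function.Embedding.refl _))).upd 1 3 1 (le_of_eq hx14)).upd 2 3 1 (le_of_eq hx24)).upd 3 1 1 (le_of_eq hx41)).upd 3 2 3 (le_of_eq hx42)) ![0,1,1,2] (by decide) (by decide) 1 (by decide))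
      · -- 24=(3,1)
        exact False.elim (cert_false T ((skipEmb 3).trans (Function.Embedding.refl _)) (by norm_num) (fun _ => hall _) (((((LB_zero T ((skipEmb 3).trans (Function.Embedding.refl _))).upd 0 3 2 (le_of_eq hx04)).upd 2 3 3 (le_of_eq hx24)).upd 3 0 1 (le_of_eq hx40)).upd 3 2 1 (le_of_eq hx42)) ![1,0,1,1] (by decide) (by decide) 0 (by decide))
    · -- 14=(1,2)
      exact False.elim (cert_false T ((skipEmb 3).trans (Function.Embedding.refl _)) (by norm_num) (fun _ => hall _) (((((LB_zero T ((skipEmb 3).trans (Function.Embedding.refl _))).upd 0 3 2 (le_of_eq hx04)).upd 1 3 1 (le_of_eq hx14)).upd 3 0 1 (le_of_eq hx40)).upd 3 1 2 (le_of_eq hx41)) ![2,1,0,2] (by decide) (by decide) 0 (by decide))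
    · -- 14=(2,1)
      exact False.elim (cert_false T ((skipEmb 3).trans (Function.Embedding.refl _)) (by norm_num) (fun _ => hall _) (((((LB_zero T ((skipEmb 3).trans (Function.Embedding.refl _))).upd 0 3 2 (le_of_eq hx04)).upd 1 3 2 (le_of_eq hx14)).upd 3 0 1 (le_of_eq hx40)).upd 3 1 1 (le_of_eq hx41)) ![1,1,0,1] (by decide) (by decide) 0 (by decide))
    · -- 14=(1,3)
      exact False.elim (cert_false T ((skipEmb 3).trans (Function.Embedding.refl _)) (by norm_num) (fun _ => hall _) (((((LB_zero T ((skipEmb 3).trans (Function.Embedding.refl _))).upd 0 3 2 (le_of_eq hx04)).upd 1 3 1 (le_of_eq hx14)).upd 3 0 1 (le_of_eq hx40)).upd 3 1 3 (le_of_eq hx41)) ![1,1,0,2] (by decide) (by decide) 0 (by decide))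
    · -- 14=(3,1)
      exact False.elim (cert_false T ((skipEmb 3).trans (Function.Embedding.refl _)) (by norm_num) (fun _ => hall _) (((((LB_zero T ((skipEmb 3).trans (Function.Embedding.refl _))).upd 0 3 2 (le_of_eq hx04)).upd 1 3 3 (le_of_eq hx14)).upd 3 0 1 (le_of_eq hx40)).upd 3 1 1 (le_of_eq hx41)) ![1,1,0,1] (by decide) (by decide) 0 (by decide))
  · -- 04=(1,3)
    rcases d14 with ⟨rfl, rfl⟩ | ⟨rfl, rfl⟩ | ⟨rfl, rfl⟩ | ⟨rfl, rfl⟩ | ⟨rfl, rfl⟩ | ⟨rfl, rfl⟩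
    · -- 14=(0,0)
      rcases d24 with ⟨rfl, rfl⟩ | ⟨rfl, rfl⟩ | ⟨rfl, rfl⟩ | ⟨rfl, rfl⟩ | ⟨rfl, rfl⟩ | ⟨rfl, rfl⟩
      · -- 24=(0,0)
        rcases d34 with ⟨rfl, rfl⟩ | ⟨rfl, rfl⟩ | ⟨rfl, rfl⟩ | ⟨rfl, rfl⟩ | ⟨rfl, rfl⟩ | ⟨rfl, rfl⟩
        · -- 34=(0,0)
          exfalso; omega
        · -- 34=(1,1)
          exact False.elim (cert_false T ((skipEmb 2).trans (Function.Embedding.refl _)) (by norm_num) (fun _ => hall _) (((((LB_zero T ((skipEmb 2).trans (Function.Embedding.refl _))).upd 0 3 1 (le_of_eq hx04)).upd 2 3 1 (le_of_eq hx34)).upd 3 0 3 (le_of_eq hx40)).upd 3 2 1 (le_of_eq hx43)) ![1,0,1,2] (by decide) (by decide) 0 (by decide))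
        · -- 34=(1,2)
          exact False.elim (cert_false T ((skipEmb 2).trans (Function.Embedding.refl _)) (by norm_num) (fun _ => hall _) (((((LB_zero T ((skipEmb 2).trans (Function.Embedding.refl _))).upd 0 3 1 (le_of_eq hx04)).upd 2 3 1 (le_of_eq hx34)).upd 3 0 3 (le_of_eq hx40)).upd 3 2 2 (le_of_eq hx43)) ![1,0,1,2] (by decide) (by decide) 0 (by decide))
        · -- 34=(2,1)
          exact False.elim (cert_false T ((skipEmb 2).trans (Function.Embedding.refl _)) (by norm_num) (fun _ => hall _) (((((LB_zero T ((skipEmb 2).trans (Function.Embedding.refl _))).upd 0 3 1 (le_of_eq hx04)).upd 2 3 2 (le_of_eq hx34)).upd 3 0 3 (le_of_eq hx40)).upd 3 2 1 (le_of_eq hx43)) ![1,0,1,2] (by decide) (by decide) 0 (by decide))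
        · -- 34=(1,3)
          exact False.elim (cert_false T ((skipEmb 2).trans (Function.Embedding.refl _)) (by norm_num) (fun _ => hall _) (((((LB_zero T ((skipEmb 2).trans (Function.Embedding.refl _))).upd 0 3 1 (le_of_eq hx04)).upd 2 3 1 (le_of_eq hx34)).upd 3 0 3 (le_of_eq hx40)).upd 3 2 3 (le_of_eq hx43)) ![1,0,1,2] (by decide) (by decide) 0 (by decide))
        · -- 34=(3,1)
          exact False.elim (cert_false T ((skipEmb 2).trans (Function.Embedding.refl _)) (by norm_num) (fun _ => hall _) (((((LB_zero T ((skipEmb 2).trans (Function.Embedding.refl _))).upd 0 3 1 (le_of_eq hx04)).upd 2 3 3 (le_of_eq hx34)).upd 3 0 3 (le_of_eq hx40)).upd 3 2 1 (le_of_eq hx43)) ![1,0,1,2] (by decide) (by decide) 0 (by decide))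
      · -- 24=(1,1)
        exact False.elim (cert_false T ((skipEmb 3).trans (Function.Embedding.refl _)) (by norm_num) (fun _ => hall _) (((((LB_zero T ((skipEmb 3).trans (Function.Embedding.refl _))).upd 0 3 1 (le_of_eq hx04)).upd 2 3 1 (le_of_eq hx24)).upd 3 0 3 (le_of_eq hx40)).upd 3 2 1 (le_of_eq hx42)) ![1,0,1,2] (by decide) (by decide) 0 (by decide))
      · -- 24=(1,2)
        exact False.elim (cert_false T ((skipEmb 3).trans (Function.Embedding.refl _)) (by norm_num) (fun _ => hall _) (((((LB_zero T ((skipEmb 3).trans (Function.Embedding.refl _))).upd 0 3 1 (le_of_eq hx04)).upd 2 3 1 (le_of_eq hx24)).upd 3 0 3 (le_of_eq hx40)).upd 3 2 2 (le_of_eq hx42)) ![1,0,1,2] (by decide) (by decide) 0 (by decide))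
      · -- 24=(2,1)
        exact False.elim (cert_false T ((skipEmb 3).trans (Function.Embedding.refl _)) (by norm_num) (fun _ => hall _) (((((LB_zero T ((skipEmb 3).trans (Function.Embedding.refl _))).upd 0 3 1 (le_of_eq hx04)).upd 2 3 2 (le_of_eq hx24)).upd 3 0 3 (le_of_eq hx40)).upd 3 2 1 (le_of_eq hx42)) ![1,0,1,2] (by decide) (by decide) 0 (by decide))
      · -- 24=(1,3)
        exact False.elim (cert_false T ((skipEmb 3).trans (Function.Embedding.refl _)) (by norm_num) (fun _ => hall _) (((((LB_zero T ((skipEmb 3).trans (Function.Embedding.refl _))).upd 0 3 1 (le_of_eq hx04)).upd 2 3 1 (le_of_eq hx24)).upd 3 0 3 (le_of_eq hx40)).upd 3 2 3 (le_of_eq hx42)) ![1,0,1,2] (by decide) (by decide) 0 (by decide))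
      · -- 24=(3,1)
        exact False.elim (cert_false T ((skipEmb 3).trans (Function.Embedding.refl _)) (by norm_num) (fun _ => hall _) (((((LB_zero T ((skipEmb 3).trans (Function.Embedding.refl _))).upd 0 3 1 (le_of_eq hx04)).upd 2 3 3 (le_of_eq hx24)).upd 3 0 3 (le_of_eq hx40)).upd 3 2 1 (le_of_eq hx42)) ![1,0,1,2] (by decide) (by decide) 0 (by decide))
    · -- 14=(1,1)
      exact False.elim (cert_false T ((skipEmb 3).trans (Function.Embedding.refl _)) (by norm_num) (fun _ => hall _) (((((LB_zero T ((skipEmb 3).trans (Function.Embedding.refl _))).upd 0 3 1 (le_of_eq hx04)).upd 1 3 1 (le_of_eq hx14)).upd 3 0 3 (le_of_eq hx40)).upd 3 1 1 (le_of_eq hx41)) ![1,1,0,2] (by decide) (by decide) 0 (by decide))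
    · -- 14=(1,2)
      exact False.elim (cert_false T ((skipEmb 3).trans (Function.Embedding.refl _)) (by norm_num) (fun _ => hall _) (((((LB_zero T ((skipEmb 3).trans (Function.Embedding.refl _))).upd 0 3 1 (le_of_eq hx04)).upd 1 3 1 (le_of_eq hx14)).upd 3 0 3 (le_of_eq hx40)).upd 3 1 2 (le_of_eq hx41)) ![1,1,0,2] (by decide) (by decide) 0 (by decide))
    · -- 14=(2,1)
      exact False.elim (cert_false T ((skipEmb 3).trans (Function.Embedding.refl _)) (by norm_num) (fun _ => hall _) (((((LB_zero T ((skipEmb 3).trans (Function.Embedding.refl _))).upd 0 3 1 (le_of_eq hx04)).upd 1 3 2 (le_of_eq hx14)).upd 3 0 3 (le_of_eq hx40)).upd 3 1 1 (le_of_eq hx41)) ![1,1,0,2] (by decide) (by decide) 0 (by decide))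
    · -- 14=(1,3)
      exact False.elim (cert_false T ((skipEmb 3).trans (Function.Embedding.refl _)) (by norm_num) (fun _ => hall _) (((((LB_zero T ((skipEmb 3).trans (Function.Embedding.refl _))).upd 0 3 1 (le_of_eq hx04)).upd 1 3 1 (le_of_eq hx14)).upd 3 0 3 (le_of_eq hx40)).upd 3 1 3 (le_of_eq hx41)) ![1,1,0,2] (by decide) (by decide) 0 (by decide))
    · -- 14=(3,1)
      exact False.elim (cert_false T ((skipEmb 3).trans (Function.Embedding.refl _)) (by norm_num) (fun _ => hall _) (((((LB_zero T ((skipEmb 3).trans (Function.Embedding.refl _))).upd 0 3 1 (le_of_eq hx04)).upd 1 3 3 (le_of_eq hx14)).upd 3 0 3 (le_of_eq hx40)).upd 3 1 1 (le_of_eq hx41)) ![1,1,0,2] (by decide) (by decide) 0 (by decide))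
  · -- 04=(3,1)
    rcases d14 with ⟨rfl, rfl⟩ | ⟨rfl, rfl⟩ | ⟨rfl, rfl⟩ | ⟨rfl, rfl⟩ | ⟨rfl, rfl⟩ | ⟨rfl, rfl⟩
    · -- 14=(0,0)
      rcases d24 with ⟨rfl, rfl⟩ | ⟨rfl, rfl⟩ | ⟨rfl, rfl⟩ | ⟨rfl, rfl⟩ | ⟨rfl, rfl⟩ | ⟨rfl, rfl⟩
      · -- 24=(0,0)
        rcases d34 with ⟨rfl, rfl⟩ | ⟨rfl, rfl⟩ | ⟨rfl, rfl⟩ | ⟨rfl, rfl⟩ | ⟨rfl, rfl⟩ | ⟨rfl, rfl⟩
        · -- 34=(0,0)
          exfalso; omega
        · -- 34=(1,1)
          exact False.elim (cert_false T ((skipEmb 2).trans (Function.Embedding.refl _)) (by norm_num) (fun _ => hall _) (((((LB_zero T ((skipEmb 2).trans (Function.Embedding.refl _))).upd 0 3 3 (le_of_eq hx04)).upd 2 3 1 (le_of_eq hx34)).upd 3 0 1 (le_of_eq hx40)).upd 3 2 1 (le_of_eq hx43)) ![3,0,1,2] (by decide) (by decide) 0 (by decide))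
        · -- 34=(1,2)
          exact False.elim (cert_false T ((skipEmb 2).trans (Function.Embedding.refl _)) (by norm_num) (fun _ => hall _) (((((LB_zero T ((skipEmb 2).trans (Function.Embedding.refl _))).upd 0 3 3 (le_of_eq hx04)).upd 2 3 1 (le_of_eq hx34)).upd 3 0 1 (le_of_eq hx40)).upd 3 2 2 (le_of_eq hx43)) ![2,0,1,2] (by decide) (by decide) 0 (by decide))
        · -- 34=(2,1)
          exact False.elim (cert_false T ((skipEmb 2).trans (Function.Embedding.refl _)) (by norm_num) (fun _ => hall _) (((((LB_zero T ((skipEmb 2).trans (Function.Embedding.refl _))).upd 0 3 3 (le_of_eq hx04)).upd 2 3 2 (le_of_eq hx34)).upd 3 0 1 (le_of_eq hx40)).upd 3 2 1 (le_of_eq hx43)) ![1,0,1,1] (by decide) (by decide) 0 (by decide))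
        · -- 34=(1,3)
          exact False.elim (cert_false T ((skipEmb 2).trans (Function.Embedding.refl _)) (by norm_num) (fun _ => hall _) (((((LB_zero T ((skipEmb 2).trans (Function.Embedding.refl _))).upd 0 3 3 (le_of_eq hx04)).upd 2 3 1 (le_of_eq hx34)).upd 3 0 1 (le_of_eq hx40)).upd 3 2 3 (le_of_eq hx43)) ![1,0,1,2] (by decide) (by decide) 0 (by decide))
        · -- 34=(3,1)
          exact False.elim (cert_false T ((skipEmb 2).trans (Function.Embedding.refl _)) (by norm_num) (fun _ => hall _) (((((LB_zero T ((skipEmb 2).trans (Function.Embedding.refl _))).upd 0 3 3 (le_of_eq hx04)).upd 2 3 3 (le_of_eq hx34)).upd 3 0 1 (le_of_eq hx40)).upd 3 2 1 (le_of_eq hx43)) ![1,0,1,1] (by decide) (by decide) 0 (by decide))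
      · -- 24=(1,1)
        exact False.elim (cert_false T ((skipEmb 3).trans (Function.Embedding.refl _)) (by norm_num) (fun _ => hall _) (((((LB_zero T ((skipEmb 3).trans (Function.Embedding.refl _))).upd 0 3 3 (le_of_eq hx04)).upd 2 3 1 (le_of_eq hx24)).upd 3 0 1 (le_of_eq hx40)).upd 3 2 1 (le_of_eq hx42)) ![3,0,1,2] (by decide) (by decide) 0 (by decide))
      · -- 24=(1,2)
        exact False.elim (cert_false T ((skipEmb 3).trans (Function.Embedding.refl _)) (by norm_num) (fun _ => hall _) (((((LB_zero T ((skipEmb 3).trans (Function.Embedding.refl _))).upd 0 3 3 (le_of_eq hx04)).upd 2 3 1 (le_of_eq hx24)).upd 3 0 1 (le_of_eq hx40)).upd 3 2 2 (le_of_eq hx42)) ![2,0,1,2] (by decide) (by decide) 0 (by decide))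
      · -- 24=(2,1)
        exact False.elim (cert_false T ((skipEmb 3).trans (Function.Embedding.refl _)) (by norm_num) (fun _ => hall _) (((((LB_zero T ((skipEmb 3).trans (Function.Embedding.refl _))).upd 0 3 3 (le_of_eq hx04)).upd 2 3 2 (le_of_eq hx24)).upd 3 0 1 (le_of_eq hx40)).upd 3 2 1 (le_of_eq hx42)) ![1,0,1,1] (by decide) (by decide) 0 (by decide))
      · -- 24=(1,3)
        exact False.elim (cert_false T ((skipEmb 3).trans (Function.Embedding.refl _)) (by norm_num) (fun _ => hall _) (((((LB_zero T ((skipEmb 3).trans (Function.Embedding.refl _))).upd 0 3 3 (le_of_eq hx04)).upd 2 3 1 (le_of_eq hx24)).upd 3 0 1 (le_of_eq hx40)).upd 3 2 3 (le_of_eq hx42)) ![1,0,1,2] (by decide) (by decide) 0 (by decide))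
      · -- 24=(3,1)
        exact False.elim (cert_false T ((skipEmb 3).trans (Function.Embedding.refl _)) (by norm_num) (fun _ => hall _) (((((LB_zero T ((skipEmb 3).trans (Function.Embedding.refl _))).upd 0 3 3 (le_of_eq hx04)).upd 2 3 3 (le_of_eq hx24)).upd 3 0 1 (le_of_eq hx40)).upd 3 2 1 (le_of_eq hx42)) ![1,0,1,1] (by decide) (by decide) 0 (by decide))
    · -- 14=(1,1)
      exact False.elim (cert_false T ((skipEmb 3).trans (Function.Embedding.refl _)) (by norm_num) (fun _ => hall _) (((((LB_zero T ((skipEmb 3).trans (Function.Embedding.refl _))).upd 0 3 3 (le_of_eq hx04)).upd 1 3 1 (le_of_eq hx14)).upd 3 0 1 (le_of_eq hx40)).upd 3 1 1 (le_of_eq hx41)) ![3,1,0,2] (by decide) (by decide) 0 (by decide))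
    · -- 14=(1,2)
      exact False.elim (cert_false T ((skipEmb 3).trans (Function.Embedding.refl _)) (by norm_num) (fun _ => hall _) (((((LB_zero T ((skipEmb 3).trans (Function.Embedding.refl _))).upd 0 3 3 (le_of_eq hx04)).upd 1 3 1 (le_of_eq hx14)).upd 3 0 1 (le_of_eq hx40)).upd 3 1 2 (le_of_eq hx41)) ![2,1,0,2] (by decide) (by decide) 0 (by decide))
    · -- 14=(2,1)
      exact False.elim (cert_false T ((skipEmb 3).trans (Function.Embedding.refl _)) (by norm_num) (fun _ => hall _) (((((LB_zero T ((skipEmb 3).trans (Function.Embedding.refl _))).upd 0 3 3 (le_of_eq hx04)).upd 1 3 2 (le_of_eq hx14)).upd 3 0 1 (le_of_eq hx40)).upd 3 1 1 (le_of_eq hx41)) ![1,1,0,1] (by decide) (by decide) 0 (by decide))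
    · -- 14=(1,3)
      exact False.elim (cert_false T ((skipEmb 3).trans (Function.Embedding.refl _)) (by norm_num) (fun _ => hall _) (((((LB_zero T ((skipEmb 3).trans (Function.Embedding.refl _))).upd 0 3 3 (le_of_eq hx04)).upd 1 3 1 (le_of_eq hx14)).upd 3 0 1 (le_of_eq hx40)).upd 3 1 3 (le_of_eq hx41)) ![1,1,0,2] (by decide) (by decide) 0 (by decide))
    · -- 14=(3,1)
      exact False.elim (cert_false T ((skipEmb 3).trans (Function.Embedding.refl _)) (by norm_num) (fun _ => hall _) (((((LB_zero T ((skipEmb 3).trans (Function.Embedding.refl _))).upd 0 3 3 (le_of_eq hx04)).upd 1 3 3 (le_of_eq hx14)).upd 3 0 1 (le_of_eq hx40)).upd 3 1 1 (le_of_eq hx41)) ![1,1,0,1] (by decide) (by decide) 0 (by decide))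

theorem case28 (T : NumericalType 5) (hall : ∀ i, T.IsMinusTwo i) (d : SData T)
    (h01 : N T (Function.Embedding.refl _) 0 1 = 0) (h10 : N T (Function.Embedding.refl _) 1 0 = 0)
    (h02 : N T (Function.Embedding.refl _) 0 2 = 0) (h20 : N T (Function.Embedding.refl _) 2 0 = 0)
    (h12 : N T (Function.Embedding.refl _) 1 2 = 0) (h21 : N T (Function.Embedding.refl _) 2 1 = 0)
    (h03 : N T (Function.Embedding.refl _) 0 3 = 0) (h30 : N T (Function.Embedding.refl _) 3 0 = 0)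
    (h13 : N T (Function.Embedding.refl _) 1 3 = 1) (h31 : N T (Function.Embedding.refl _) 3 1 = 1)
    (h23 : N T (Function.Embedding.refl _) 2 3 = 1) (h32 : N T (Function.Embedding.refl _) 3 2 = 2) :
    Goal T := by
  unfold Goal
  have hd := d
  obtain ⟨x01, x02, x03, x04, x10, x12, x13, x14, x20, x21, x23, x24, x30, x31, x32, x34, x40, x41, x42, x43, hx01, hx02, hx03, hx04, hx10, hx12, hx13, hx14, hx20, hx21, hx23, hx24, hx30, hx31, hx32, hx34, hx40, hx41, hx42, hx43, hw0, hm0, hw1, hm1, hw2, hm2, hw3, hm3, hw4, hm4, a00, a01, a02, a03, a04, a11, a10, a12, a13, a14, a22, a20, a21, a23, a24, a33, a30, a31, a32, a34, a44, a40, a41, a42, a43, wN01, wN02, wN12, wN03, wN13, wN23, wN04, wN14, wN24, wN34, e0, e1, e2, e3, e4, d01, d02, d12, d03, d13, d23, d04, d14, d24, d34⟩ := d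
  obtain rfl : x01 = 0 := hx01.trans h01
  obtain rfl : x10 = 0 := hx10.trans h10
  obtain rfl : x02 = 0 := hx02.trans h02
  obtain rfl : x20 = 0 := hx20.trans h20
  obtain rfl : x12 = 0 := hx12.trans h12
  obtain rfl : x21 = 0 := hx21.trans h21
  obtain rfl : x03 = 0 := hx03.trans h03
  obtain rfl : x30 = 0 := hx30.trans h30
  obtain rfl : x13 = 1 := hx13.trans h13
  obtain rfl : x31 = 1 := hx31.trans h31
  obtain rfl : x23 = 1 := hx23.trans h23
  obtain rfl : x32 = 2 := hx32.trans h32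
  rcases d04 with ⟨rfl, rfl⟩ | ⟨rfl, rfl⟩ | ⟨rfl, rfl⟩ | ⟨rfl, rfl⟩ | ⟨rfl, rfl⟩ | ⟨rfl, rfl⟩
  · -- 04=(0,0)
    rcases d14 with ⟨rfl, rfl⟩ | ⟨rfl, rfl⟩ | ⟨rfl, rfl⟩ | ⟨rfl, rfl⟩ | ⟨rfl, rfl⟩ | ⟨rfl, rfl⟩
    · -- 14=(0,0)
      rcases d24 with ⟨rfl, rfl⟩ | ⟨rfl, rfl⟩ | ⟨rfl, rfl⟩ | ⟨rfl, rfl⟩ | ⟨rfl, rfl⟩ | ⟨rfl, rfl⟩
      · -- 24=(0,0)
        rcases d34 with ⟨rfl, rfl⟩ | ⟨rfl, rfl⟩ | ⟨rfl, rfl⟩ | ⟨rfl, rfl⟩ | ⟨rfl, rfl⟩ | ⟨rfl, rfl⟩
        · -- 34=(0,0)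
          exfalso; omega
        · -- 34=(1,1)
          exact False.elim (cert_false T ((skipEmb 0).trans (Function.Embedding.refl _)) (by norm_num) (fun _ => hall _) (((((((LB_zero T ((skipEmb 0).trans (Function.Embedding.refl _))).upd 0 2 1 (le_of_eq hx13)).upd 1 2 1 (le_of_eq hx23)).upd 2 0 1 (le_of_eq hx31)).upd 2 1 2 (le_of_eq hx32)).upd 2 3 1 (le_of_eq hx34)).upd 3 2 1 (le_of_eq hx43)) ![1,1,2,1] (by decide) (by decide) 0 (by decide))
        · -- 34=(1,2)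
          exact False.elim (cert_false T ((skipEmb 1).trans (Function.Embedding.refl _)) (by norm_num) (fun _ => hall _) (((((LB_zero T ((skipEmb 1).trans (Function.Embedding.refl _))).upd 1 2 1 (le_of_eq hx23)).upd 2 1 2 (le_of_eq hx32)).upd 2 3 1 (le_of_eq hx34)).upd 3 2 2 (le_of_eq hx43)) ![0,1,2,2] (by decide) (by decide) 1 (by decide))
        · -- 34=(2,1)
          exact False.elim (cert_false T ((skipEmb 1).trans (Function.Embedding.refl _)) (by norm_num) (fun _ => hall _) (((((LB_zero T ((skipEmb 1).trans (Function.Embedding.refl _))).upd 1 2 1 (le_of_eq hx23)).upd 2 1 2 (le_of_eq hx32)).upd 2 3 2 (le_of_eq hx34)).upd 3 2 1 (le_of_eq hx43)) ![0,1,2,1] (by decide) (by decide) 1 (by decide))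
        · -- 34=(1,3)
          exact False.elim (cert_false T ((skipEmb 2).trans (Function.Embedding.refl _)) (by norm_num) (fun _ => hall _) (((((LB_zero T ((skipEmb 2).trans (Function.Embedding.refl _))).upd 1 2 1 (le_of_eq hx13)).upd 2 1 1 (le_of_eq hx31)).upd 2 3 1 (le_of_eq hx34)).upd 3 2 3 (le_of_eq hx43)) ![0,1,2,3] (by decide) (by decide) 1 (by decide))
        · -- 34=(3,1)
          exact False.elim (cert_false T ((skipEmb 2).trans (Function.Embedding.refl _)) (by norm_num) (fun _ => hall _) (((((LB_zero T ((skipEmb 2).trans (Function.Embedding.refl _))).upd 1 2 1 (le_of_eq hx13)).upd 2 1 1 (le_of_eq hx31)).upd 2 3 3 (le_of_eq hx34)).upd 3 2 1 (le_of_eq hx43)) ![0,1,2,1] (by decide) (by decide) 1 (by decide))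
      · -- 24=(1,1)
        rcases d34 with ⟨rfl, rfl⟩ | ⟨rfl, rfl⟩ | ⟨rfl, rfl⟩ | ⟨rfl, rfl⟩ | ⟨rfl, rfl⟩ | ⟨rfl, rfl⟩
        · -- 34=(0,0)
          exfalso; omega
        · -- 34=(1,1)
          exact False.elim (cert_false T ((skipEmb 1).trans (Function.Embedding.refl _)) (by norm_num) (fun _ => hall _) (((((((LB_zero T ((skipEmb 1).trans (Function.Embedding.refl _))).upd 1 2 1 (le_of_eq hx23)).upd 1 3 1 (le_of_eq hx24)).upd 2 1 2 (le_of_eq hx32)).upd 2 3 1 (le_of_eq hx34)).upd 3 1 1 (le_of_eq hx42)).upd 3 2 1 (le_of_eq hx43)) ![0,1,1,1] (by decide) (by decide) 1 (by decide))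
        · -- 34=(1,2)
          exact False.elim (cert_false T ((skipEmb 1).trans (Function.Embedding.refl _)) (by norm_num) (fun _ => hall _) (((((((LB_zero T ((skipEmb 1).trans (Function.Embedding.refl _))).upd 1 2 1 (le_of_eq hx23)).upd 1 3 1 (le_of_eq hx24)).upd 2 1 2 (le_of_eq hx32)).upd 2 3 1 (le_of_eq hx34)).upd 3 1 1 (le_of_eq hx42)).upd 3 2 2 (le_of_eq hx43)) ![0,1,1,1] (by decide) (by decide) 1 (by decide))
        · -- 34=(2,1)
          exact False.elim (cert_false T ((skipEmb 1).trans (Function.Embedding.refl _)) (by norm_num) (fun _ => hall _) (((((((LB_zero T ((skipEmb 1).trans (Function.Embedding.refl _))).upd 1 2 1 (le_of_eq hx23)).upd 1 3 1 (le_of_eq hx24)).upd 2 1 2 (le_of_eq hx32)).upd 2 3 2 (le_of_eq hx34)).upd 3 1 1 (le_of_eq hx42)).upd 3 2 1 (le_of_eq hx43)) ![0,1,1,1] (by decide) (by decide) 1 (by decide))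
        · -- 34=(1,3)
          exact False.elim (cert_false T ((skipEmb 2).trans (Function.Embedding.refl _)) (by norm_num) (fun _ => hall _) (((((LB_zero T ((skipEmb 2).trans (Function.Embedding.refl _))).upd 1 2 1 (le_of_eq hx13)).upd 2 1 1 (le_of_eq hx31)).upd 2 3 1 (le_of_eq hx34)).upd 3 2 3 (le_of_eq hx43)) ![0,1,2,3] (by decide) (by decide) 1 (by decide))
        · -- 34=(3,1)
          exact False.elim (cert_false T ((skipEmb 2).trans (Function.Embedding.refl _)) (by norm_num) (fun _ => hall _) (((((LB_zero T ((skipEmb 2).trans (Function.Embedding.refl _))).upd 1 2 1 (le_of_eq hx13)).upd 2 1 1 (le_of_eq hx31)).upd 2 3 3 (le_of_eq hx34)).upd 3 2 1 (le_of_eq hx43)) ![0,1,2,1] (by decide) (by decide) 1 (by decide))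
      · -- 24=(1,2)
        exact False.elim (cert_false T ((skipEmb 1).trans (Function.Embedding.refl _)) (by norm_num) (fun _ => hall _) (((((LB_zero T ((skipEmb 1).trans (Function.Embedding.refl _))).upd 1 2 1 (le_of_eq hx23)).upd 1 3 1 (le_of_eq hx24)).upd 2 1 2 (le_of_eq hx32)).upd 3 1 2 (le_of_eq hx42)) ![0,1,1,1] (by decide) (by decide) 1 (by decide))
      · -- 24=(2,1)
        exact False.elim (cert_false T ((skipEmb 1).trans (Function.Embedding.refl _)) (by norm_num) (fun _ => hall _) (((((LB_zero T ((skipEmb 1).trans (Function.Embedding.refl _))).upd 1 2 1 (le_of_eq hx23)).upd 1 3 2 (le_of_eq hx24)).upd 2 1 2 (le_of_eq hx32)).upd 3 1 1 (le_of_eq hx42)) ![0,2,2,1] (by decide) (by decide) 1 (by decide))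
      · -- 24=(1,3)
        exact False.elim (cert_false T ((skipEmb 1).trans (Function.Embedding.refl _)) (by norm_num) (fun _ => hall _) (((((LB_zero T ((skipEmb 1).trans (Function.Embedding.refl _))).upd 1 2 1 (le_of_eq hx23)).upd 1 3 1 (le_of_eq hx24)).upd 2 1 2 (le_of_eq hx32)).upd 3 1 3 (le_of_eq hx42)) ![0,1,1,1] (by decide) (by decide) 1 (by decide))
      · -- 24=(3,1)
        exact False.elim (cert_false T ((skipEmb 1).trans (Function.Embedding.refl _)) (by norm_num) (fun _ => hall _) (((((LB_zero T ((skipEmb 1).trans (Function.Embedding.refl _))).upd 1 2 1 (le_of_eq hx23)).upd 1 3 3 (le_of_eq hx24)).upd 2 1 2 (le_of_eq hx32)).upd 3 1 1 (le_of_eq hx42)) ![0,2,1,1] (by decide) (by decide) 1 (by decide))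
    · -- 14=(1,1)
      rcases d24 with ⟨rfl, rfl⟩ | ⟨rfl, rfl⟩ | ⟨rfl, rfl⟩ | ⟨rfl, rfl⟩ | ⟨rfl, rfl⟩ | ⟨rfl, rfl⟩
      · -- 24=(0,0)
        rcases d34 with ⟨rfl, rfl⟩ | ⟨rfl, rfl⟩ | ⟨rfl, rfl⟩ | ⟨rfl, rfl⟩ | ⟨rfl, rfl⟩ | ⟨rfl, rfl⟩
        · -- 34=(0,0)
          exfalso; omega
        · -- 34=(1,1)
          exact False.elim (cert_false T ((skipEmb 2).trans (Function.Embedding.refl _)) (by norm_num) (fun _ => hall _) (((((((LB_zero T ((skipEmb 2).trans (Function.Embedding.refl _))).upd 1 2 1 (le_of_eq hx13)).upd 1 3 1 (le_of_eq hx14)).upd 2 1 1 (le_of_eq hx31)).upd 2 3 1 (le_of_eq hx34)).upd 3 1 1 (le_of_eq hx41)).upd 3 2 1 (le_of_eq hx43)) ![0,1,1,1] (by decide) (by decide) 1 (by decide))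
        · -- 34=(1,2)
          exact False.elim (cert_false T ((skipEmb 2).trans (Function.Embedding.refl _)) (by norm_num) (fun _ => hall _) (((((((LB_zero T ((skipEmb 2).trans (Function.Embedding.refl _))).upd 1 2 1 (le_of_eq hx13)).upd 1 3 1 (le_of_eq hx14)).upd 2 1 1 (le_of_eq hx31)).upd 2 3 1 (le_of_eq hx34)).upd 3 1 1 (le_of_eq hx41)).upd 3 2 2 (le_of_eq hx43)) ![0,1,1,1] (by decide) (by decide) 1 (by decide))
        · -- 34=(2,1)
          exact False.elim (cert_false T ((skipEmb 2).trans (Function.Embedding.refl _)) (by norm_num) (fun _ => hall _) (((((((LB_zero T ((skipEmb 2).trans (Function.Embedding.refl _))).upd 1 2 1 (le_of_eq hx13)).upd 1 3 1 (le_of_eq hx14)).upd 2 1 1 (le_of_eq hx31)).upd 2 3 2 (le_of_eq hx34)).upd 3 1 1 (le_of_eq hx41)).upd 3 2 1 (le_of_eq hx43)) ![0,1,1,1] (by decide) (by decide) 1 (by decide))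
        · -- 34=(1,3)
          exact False.elim (cert_false T ((skipEmb 2).trans (Function.Embedding.refl _)) (by norm_num) (fun _ => hall _) (((((((LB_zero T ((skipEmb 2).trans (Function.Embedding.refl _))).upd 1 2 1 (le_of_eq hx13)).upd 1 3 1 (le_of_eq hx14)).upd 2 1 1 (le_of_eq hx31)).upd 2 3 1 (le_of_eq hx34)).upd 3 1 1 (le_of_eq hx41)).upd 3 2 3 (le_of_eq hx43)) ![0,1,1,1] (by decide) (by decide) 1 (by decide))
        · -- 34=(3,1)
          exact False.elim (cert_false T ((skipEmb 2).trans (Function.Embedding.refl _)) (by norm_num) (fun _ => hall _) (((((((LB_zero T ((skipEmb 2).trans (Function.Embedding.refl _))).upd 1 2 1 (le_of_eq hx13)).upd 1 3 1 (le_of_eq hx14)).upd 2 1 1 (le_of_eq hx31)).upd 2 3 3 (le_of_eq hx34)).upd 3 1 1 (le_of_eq hx41)).upd 3 2 1 (le_of_eq hx43)) ![0,1,1,1] (by decide) (by decide) 1 (by decide))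
      · -- 24=(1,1)
        exact False.elim (cert_false T ((skipEmb 0).trans (Function.Embedding.refl _)) (by norm_num) (fun _ => hall _) (((((((((LB_zero T ((skipEmb 0).trans (Function.Embedding.refl _))).upd 0 2 1 (le_of_eq hx13)).upd 0 3 1 (le_of_eq hx14)).upd 1 2 1 (le_of_eq hx23)).upd 1 3 1 (le_of_eq hx24)).upd 2 0 1 (le_of_eq hx31)).upd 2 1 2 (le_of_eq hx32)).upd 3 0 1 (le_of_eq hx41)).upd 3 1 1 (le_of_eq hx42)) ![1,1,1,1] (by decide) (by decide) 0 (by decide))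
      · -- 24=(1,2)
        exact False.elim (cert_false T ((skipEmb 1).trans (Function.Embedding.refl _)) (by norm_num) (fun _ => hall _) (((((LB_zero T ((skipEmb 1).trans (Function.Embedding.refl _))).upd 1 2 1 (le_of_eq hx23)).upd 1 3 1 (le_of_eq hx24)).upd 2 1 2 (le_of_eq hx32)).upd 3 1 2 (le_of_eq hx42)) ![0,1,1,1] (by decide) (by decide) 1 (by decide))
      · -- 24=(2,1)
        exact False.elim (cert_false T ((skipEmb 1).trans (Function.Embedding.refl _)) (by norm_num) (fun _ => hall _) (((((LB_zero T ((skipEmb 1).trans (Function.Embedding.refl _))).upd 1 2 1 (le_of_eq hx23)).upd 1 3 2 (le_of_eq hx24)).upd 2 1 2 (le_of_eq hx32)).upd 3 1 1 (le_of_eq hx42)) ![0,2,2,1] (by decide) (by decide) 1 (by decide))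
      · -- 24=(1,3)
        exact False.elim (cert_false T ((skipEmb 3).trans (Function.Embedding.refl _)) (by norm_num) (fun _ => hall _) (((((LB_zero T ((skipEmb 3).trans (Function.Embedding.refl _))).upd 1 3 1 (le_of_eq hx14)).upd 2 3 1 (le_of_eq hx24)).upd 3 1 1 (le_of_eq hx41)).upd 3 2 3 (le_of_eq hx42)) ![0,1,1,2] (by decide) (by decide) 1 (by decide))
      · -- 24=(3,1)
        exact False.elim (cert_false T ((skipEmb 3).trans (Function.Embedding.refl _)) (by norm_num) (fun _ => hall _) (((((LB_zero T ((skipEmb 3).trans (Function.Embedding.refl _))).upd 1 3 1 (le_of_eq hx14)).upd 2 3 3 (le_of_eq hx24)).upd 3 1 1 (le_of_eq hx41)).upd 3 2 1 (le_of_eq hx42)) ![0,1,3,2] (by decide) (by decide) 1 (by decide))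
    · -- 14=(1,2)
      exact False.elim (cert_false T ((skipEmb 0).trans (Function.Embedding.refl _)) (by norm_num) (fun _ => hall _) (((((((LB_zero T ((skipEmb 0).trans (Function.Embedding.refl _))).upd 0 2 1 (le_of_eq hx13)).upd 0 3 1 (le_of_eq hx14)).upd 1 2 1 (le_of_eq hx23)).upd 2 0 1 (le_of_eq hx31)).upd 2 1 2 (le_of_eq hx32)).upd 3 0 2 (le_of_eq hx41)) ![2,1,2,2] (by decide) (by decide) 0 (by decide))
    · -- 14=(2,1)
      exact False.elim (cert_false T ((skipEmb 0).trans (Function.Embedding.refl _)) (by norm_num) (fun _ => hall _) (((((((LB_zero T ((skipEmb 0).trans (Function.Embedding.refl _))).upd 0 2 1 (le_of_eq hx13)).upd 0 3 2 (le_of_eq hx14)).upd 1 2 1 (le_of_eq hx23)).upd 2 0 1 (le_of_eq hx31)).upd 2 1 2 (le_of_eq hx32)).upd 3 0 1 (le_of_eq hx41)) ![2,1,2,1] (by decide) (by decide) 0 (by decide))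
    · -- 14=(1,3)
      exact False.elim (cert_false T ((skipEmb 2).trans (Function.Embedding.refl _)) (by norm_num) (fun _ => hall _) (((((LB_zero T ((skipEmb 2).trans (Function.Embedding.refl _))).upd 1 2 1 (le_of_eq hx13)).upd 1 3 1 (le_of_eq hx14)).upd 2 1 1 (le_of_eq hx31)).upd 3 1 3 (le_of_eq hx41)) ![0,2,1,3] (by decide) (by decide) 1 (by decide))
    · -- 14=(3,1)
      exact False.elim (cert_false T ((skipEmb 2).trans (Function.Embedding.refl _)) (by norm_num) (fun _ => hall _) (((((LB_zero T ((skipEmb 2).trans (Function.Embedding.refl _))).upd 1 2 1 (le_of_eq hx13)).upd 1 3 3 (le_of_eq hx14)).upd 2 1 1 (le_of_eq hx31)).upd 3 1 1 (le_of_eq hx41)) ![0,2,1,1] (by decide) (by decide) 1 (by decide))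
  · -- 04=(1,1)
    rcases d14 with ⟨rfl, rfl⟩ | ⟨rfl, rfl⟩ | ⟨rfl, rfl⟩ | ⟨rfl, rfl⟩ | ⟨rfl, rfl⟩ | ⟨rfl, rfl⟩
    · -- 14=(0,0)
      rcases d24 with ⟨rfl, rfl⟩ | ⟨rfl, rfl⟩ | ⟨rfl, rfl⟩ | ⟨rfl, rfl⟩ | ⟨rfl, rfl⟩ | ⟨rfl, rfl⟩
      · -- 24=(0,0)
        rcases d34 with ⟨rfl, rfl⟩ | ⟨rfl, rfl⟩ | ⟨rfl, rfl⟩ | ⟨rfl, rfl⟩ | ⟨rfl, rfl⟩ | ⟨rfl, rfl⟩
        · -- 34=(0,0)
          exfalso; omega
        · -- 34=(1,1)
          exact False.elim (cert_false T ((skipEmb 0).trans (Function.Embedding.refl _)) (by norm_num) (fun _ => hall _) (((((((LB_zero T ((skipEmb 0).trans (Function.Embedding.refl _))).upd 0 2 1 (le_of_eq hx13)).upd 1 2 1 (le_of_eq hx23)).upd 2 0 1 (le_of_eq hx31)).upd 2 1 2 (le_of_eq hx32)).upd 2 3 1 (le_of_eq hx34)).upd 3 2 1 (le_of_eq hx43)) ![1,1,2,1] (by decide) (by decide) 0 (by decide))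
        · -- 34=(1,2)
          exact False.elim (cert_false T ((skipEmb 1).trans (Function.Embedding.refl _)) (by norm_num) (fun _ => hall _) (((((LB_zero T ((skipEmb 1).trans (Function.Embedding.refl _))).upd 1 2 1 (le_of_eq hx23)).upd 2 1 2 (le_of_eq hx32)).upd 2 3 1 (le_of_eq hx34)).upd 3 2 2 (le_of_eq hx43)) ![0,1,2,2] (by decide) (by decide) 1 (by decide))
        · -- 34=(2,1)
          exact False.elim (cert_false T ((skipEmb 1).trans (Function.Embedding.refl _)) (by norm_num) (fun _ => hall _) (((((LB_zero T ((skipEmb 1).trans (Function.Embedding.refl _))).upd 1 2 1 (le_of_eq hx23)).upd 2 1 2 (le_of_eq hx32)).upd 2 3 2 (le_of_eq hx34)).upd 3 2 1 (le_of_eq hx43)) ![0,1,2,1] (by decide) (by decide) 1 (by decide))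
        · -- 34=(1,3)
          exact False.elim (cert_false T ((skipEmb 2).trans (Function.Embedding.refl _)) (by norm_num) (fun _ => hall _) (((((LB_zero T ((skipEmb 2).trans (Function.Embedding.refl _))).upd 0 3 1 (le_of_eq hx04)).upd 2 3 1 (le_of_eq hx34)).upd 3 0 1 (le_of_eq hx40)).upd 3 2 3 (le_of_eq hx43)) ![1,0,1,2] (by decide) (by decide) 0 (by decide))
        · -- 34=(3,1)
          exact False.elim (cert_false T ((skipEmb 2).trans (Function.Embedding.refl _)) (by norm_num) (fun _ => hall _) (((((LB_zero T ((skipEmb 2).trans (Function.Embedding.refl _))).upd 1 2 1 (le_of_eq hx13)).upd 2 1 1 (le_of_eq hx31)).upd 2 3 3 (le_of_eq hx34)).upd 3 2 1 (le_of_eq hx43)) ![0,1,2,1] (by decide) (by decide) 1 (by decide))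
      · -- 24=(1,1)
        rcases d34 with ⟨rfl, rfl⟩ | ⟨rfl, rfl⟩ | ⟨rfl, rfl⟩ | ⟨rfl, rfl⟩ | ⟨rfl, rfl⟩ | ⟨rfl, rfl⟩
        · -- 34=(0,0)
          refine ⟨(⟨![0, 4, 2, 3, 1], ![0, 4, 2, 3, 1], by decide, by decide⟩ : Equiv.Perm (Fin 5)), T.m 0, T.w 3, Or.inr (Or.inr (Or.inl ?_))⟩
          show T.m 0 = T.m 0 ∧ T.m 4 = 2 * T.m 0 ∧ T.m 2 = 3 * T.m 0 ∧ T.m 3 = 4 * T.m 0 ∧ T.m 1 = 2 * T.m 0 ∧ T.w 0 = 2 * T.w 3 ∧ T.w 4 = 2 * T.w 3 ∧ T.w 2 = 2 * T.w 3 ∧ T.w 3 = T.w 3 ∧ T.w 1 = T.w 3 ∧ T.a 0 0 = -4 * T.w 3 ∧ T.a 0 4 = 2 * T.w 3 ∧ T.a 0 2 = 0 ∧ T.a 0 3 = 0 ∧ T.a 0 1 = 0 ∧ T.a 4 4 = -4 * T.w 3 ∧ T.a 4 2 = 2 * T.w 3 ∧ T.a 4 3 = 0 ∧ T.a 4 1 = 0 ∧ T.a 2 2 = -4 * T.w 3 ∧ T.a 2 3 = 2 * T.w 3 ∧ T.a 2 1 = 0 ∧ T.a 3 3 = -2 * T.w 3 ∧ T.a 3 1 = T.w 3 ∧ T.a 1 1 = -2 * T.w 3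
          refine ⟨?_, ?_, ?_, ?_, ?_, ?_, ?_, ?_, ?_, ?_, ?_, ?_, ?_, ?_, ?_, ?_, ?_, ?_, ?_, ?_, ?_, ?_, ?_, ?_, ?_⟩ <;> omega
        · -- 34=(1,1)
          exact False.elim (cert_false T ((skipEmb 1).trans (Function.Embedding.refl _)) (by norm_num) (fun _ => hall _) (((((((LB_zero T ((skipEmb 1).trans (Function.Embedding.refl _))).upd 1 2 1 (le_of_eq hx23)).upd 1 3 1 (le_of_eq hx24)).upd 2 1 2 (le_of_eq hx32)).upd 2 3 1 (le_of_eq hx34)).upd 3 1 1 (le_of_eq hx42)).upd 3 2 1 (le_of_eq hx43)) ![0,1,1,1] (by decide) (by decide) 1 (by decide))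
        · -- 34=(1,2)
          exact False.elim (cert_false T ((skipEmb 1).trans (Function.Embedding.refl _)) (by norm_num) (fun _ => hall _) (((((((LB_zero T ((skipEmb 1).trans (Function.Embedding.refl _))).upd 1 2 1 (le_of_eq hx23)).upd 1 3 1 (le_of_eq hx24)).upd 2 1 2 (le_of_eq hx32)).upd 2 3 1 (le_of_eq hx34)).upd 3 1 1 (le_of_eq hx42)).upd 3 2 2 (le_of_eq hx43)) ![0,1,1,1] (by decide) (by decide) 1 (by decide))
        · -- 34=(2,1)
          exact False.elim (cert_false T ((skipEmb 1).trans (Function.Embedding.refl _)) (by norm_num) (fun _ => hall _) (((((((LB_zero T ((skipEmb 1).trans (Function.Embedding.refl _))).upd 1 2 1 (le_of_eq hx23)).upd 1 3 1 (le_of_eq hx24)).upd 2 1 2 (le_of_eq hx32)).upd 2 3 2 (le_of_eq hx34)).upd 3 1 1 (le_of_eq hx42)).upd 3 2 1 (le_of_eq hx43)) ![0,1,1,1] (by decide) (by decide) 1 (by decide))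
        · -- 34=(1,3)
          exact False.elim (cert_false T ((skipEmb 2).trans (Function.Embedding.refl _)) (by norm_num) (fun _ => hall _) (((((LB_zero T ((skipEmb 2).trans (Function.Embedding.refl _))).upd 0 3 1 (le_of_eq hx04)).upd 2 3 1 (le_of_eq hx34)).upd 3 0 1 (le_of_eq hx40)).upd 3 2 3 (le_of_eq hx43)) ![1,0,1,2] (by decide) (by decide) 0 (by decide))
        · -- 34=(3,1)
          exact False.elim (cert_false T ((skipEmb 2).trans (Function.Embedding.refl _)) (by norm_num) (fun _ => hall _) (((((LB_zero T ((skipEmb 2).trans (Function.Embedding.refl _))).upd 1 2 1 (le_of_eq hx13)).upd 2 1 1 (le_of_eq hx31)).upd 2 3 3 (le_of_eq hx34)).upd 3 2 1 (le_of_eq hx43)) ![0,1,2,1] (by decide) (by decide) 1 (by decide))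
      · -- 24=(1,2)
        exact False.elim (cert_false T ((skipEmb 1).trans (Function.Embedding.refl _)) (by norm_num) (fun _ => hall _) (((((LB_zero T ((skipEmb 1).trans (Function.Embedding.refl _))).upd 1 2 1 (le_of_eq hx23)).upd 1 3 1 (le_of_eq hx24)).upd 2 1 2 (le_of_eq hx32)).upd 3 1 2 (le_of_eq hx42)) ![0,1,1,1] (by decide) (by decide) 1 (by decide))
      · -- 24=(2,1)
        exact False.elim (cert_false T ((skipEmb 1).trans (Function.Embedding.refl _)) (by norm_num) (fun _ => hall _) (((((LB_zero T ((skipEmb 1).trans (Function.Embedding.refl _))).upd 1 2 1 (le_of_eq hx23)).upd 1 3 2 (le_of_eq hx24)).upd 2 1 2 (le_of_eq hx32)).upd 3 1 1 (le_of_eq hx42)) ![0,2,2,1] (by decide) (by decide) 1 (by decide))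
      · -- 24=(1,3)
        exact False.elim (cert_false T ((skipEmb 3).trans (Function.Embedding.refl _)) (by norm_num) (fun _ => hall _) (((((LB_zero T ((skipEmb 3).trans (Function.Embedding.refl _))).upd 0 3 1 (le_of_eq hx04)).upd 2 3 1 (le_of_eq hx24)).upd 3 0 1 (le_of_eq hx40)).upd 3 2 3 (le_of_eq hx42)) ![1,0,1,2] (by decide) (by decide) 0 (by decide))
      · -- 24=(3,1)
        exact False.elim (cert_false T ((skipEmb 3).trans (Function.Embedding.refl _)) (by norm_num) (fun _ => hall _) (((((LB_zero T ((skipEmb 3).trans (Function.Embedding.refl _))).upd 0 3 1 (le_of_eq hx04)).upd 2 3 3 (le_of_eq hx24)).upd 3 0 1 (le_of_eq hx40)).upd 3 2 1 (le_of_eq hx42)) ![1,0,3,2] (by decide) (by decide) 0 (by decide))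
    · -- 14=(1,1)
      rcases d24 with ⟨rfl, rfl⟩ | ⟨rfl, rfl⟩ | ⟨rfl, rfl⟩ | ⟨rfl, rfl⟩ | ⟨rfl, rfl⟩ | ⟨rfl, rfl⟩
      · -- 24=(0,0)
        rcases d34 with ⟨rfl, rfl⟩ | ⟨rfl, rfl⟩ | ⟨rfl, rfl⟩ | ⟨rfl, rfl⟩ | ⟨rfl, rfl⟩ | ⟨rfl, rfl⟩
        · -- 34=(0,0)
          exfalso; omega
        · -- 34=(1,1)
          exact False.elim (cert_false T ((skipEmb 2).trans (Function.Embedding.refl _)) (by norm_num) (fun _ => hall _) (((((((LB_zero T ((skipEmb 2).trans (Function.Embedding.refl _))).upd 1 2 1 (le_of_eq hx13)).upd 1 3 1 (le_of_eq hx14)).upd 2 1 1 (le_of_eq hx31)).upd 2 3 1 (le_of_eq hx34)).upd 3 1 1 (le_of_eq hx41)).upd 3 2 1 (le_of_eq hx43)) ![0,1,1,1] (by decide) (by decide) 1 (by decide))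
        · -- 34=(1,2)
          exact False.elim (cert_false T ((skipEmb 2).trans (Function.Embedding.refl _)) (by norm_num) (fun _ => hall _) (((((((LB_zero T ((skipEmb 2).trans (Function.Embedding.refl _))).upd 1 2 1 (le_of_eq hx13)).upd 1 3 1 (le_of_eq hx14)).upd 2 1 1 (le_of_eq hx31)).upd 2 3 1 (le_of_eq hx34)).upd 3 1 1 (le_of_eq hx41)).upd 3 2 2 (le_of_eq hx43)) ![0,1,1,1] (by decide) (by decide) 1 (by decide))
        · -- 34=(2,1)
          exact False.elim (cert_false T ((skipEmb 2).trans (Function.Embedding.refl _)) (by norm_num) (fun _ => hall _) (((((((LB_zero T ((skipEmb 2).trans (Function.Embedding.refl _))).upd 1 2 1 (le_of_eq hx13)).upd 1 3 1 (le_of_eq hx14)).upd 2 1 1 (le_of_eq hx31)).upd 2 3 2 (le_of_eq hx34)).upd 3 1 1 (le_of_eq hx41)).upd 3 2 1 (le_of_eq hx43)) ![0,1,1,1] (by decide) (by decide) 1 (by decide))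
        · -- 34=(1,3)
          exact False.elim (cert_false T ((skipEmb 2).trans (Function.Embedding.refl _)) (by norm_num) (fun _ => hall _) (((((((LB_zero T ((skipEmb 2).trans (Function.Embedding.refl _))).upd 1 2 1 (le_of_eq hx13)).upd 1 3 1 (le_of_eq hx14)).upd 2 1 1 (le_of_eq hx31)).upd 2 3 1 (le_of_eq hx34)).upd 3 1 1 (le_of_eq hx41)).upd 3 2 3 (le_of_eq hx43)) ![0,1,1,1] (by decide) (by decide) 1 (by decide))
        · -- 34=(3,1)
          exact False.elim (cert_false T ((skipEmb 2).trans (Function.Embedding.refl _)) (by norm_num) (fun _ => hall _) (((((((LB_zero T ((skipEmb 2).trans (Function.Embedding.refl _))).upd 1 2 1 (le_of_eq hx13)).upd 1 3 1 (le_of_eq hx14)).upd 2 1 1 (le_of_eq hx31)).upd 2 3 3 (le_of_eq hx34)).upd 3 1 1 (le_of_eq hx41)).upd 3 2 1 (le_of_eq hx43)) ![0,1,1,1] (by decide) (by decide) 1 (by decide))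
      · -- 24=(1,1)
        exact False.elim (cert_false T ((skipEmb 0).trans (Function.Embedding.refl _)) (by norm_num) (fun _ => hall _) (((((((((LB_zero T ((skipEmb 0).trans (Function.Embedding.refl _))).upd 0 2 1 (le_of_eq hx13)).upd 0 3 1 (le_of_eq hx14)).upd 1 2 1 (le_of_eq hx23)).upd 1 3 1 (le_of_eq hx24)).upd 2 0 1 (le_of_eq hx31)).upd 2 1 2 (le_of_eq hx32)).upd 3 0 1 (le_of_eq hx41)).upd 3 1 1 (le_of_eq hx42)) ![1,1,1,1] (by decide) (by decide) 0 (by decide))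
      · -- 24=(1,2)
        exact False.elim (cert_false T ((skipEmb 3).trans (Function.Embedding.refl _)) (by norm_num) (fun _ => hall _) (((((((LB_zero T ((skipEmb 3).trans (Function.Embedding.refl _))).upd 0 3 1 (le_of_eq hx04)).upd 1 3 1 (le_of_eq hx14)).upd 2 3 1 (le_of_eq hx24)).upd 3 0 1 (le_of_eq hx40)).upd 3 1 1 (le_of_eq hx41)).upd 3 2 2 (le_of_eq hx42)) ![1,1,1,2] (by decide) (by decide) 0 (by decide))
      · -- 24=(2,1)
        exact False.elim (cert_false T ((skipEmb 3).trans (Function.Embedding.refl _)) (by norm_num) (fun _ => hall _) (((((((LB_zero T ((skipEmb 3).trans (Function.Embedding.refl _))).upd 0 3 1 (le_of_eq hx04)).upd 1 3 1 (le_of_eq hx14)).upd 2 3 2 (le_of_eq hx24)).upd 3 0 1 (le_of_eq hx40)).upd 3 1 1 (le_of_eq hx41)).upd 3 2 1 (le_of_eq hx42)) ![1,1,2,2] (by decide) (by decide) 0 (by decide))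
      · -- 24=(1,3)
        exact False.elim (cert_false T ((skipEmb 3).trans (Function.Embedding.refl _)) (by norm_num) (fun _ => hall _) (((((LB_zero T ((skipEmb 3).trans (Function.Embedding.refl _))).upd 1 3 1 (le_of_eq hx14)).upd 2 3 1 (le_of_eq hx24)).upd 3 1 1 (le_of_eq hx41)).upd 3 2 3 (le_of_eq hx42)) ![0,1,1,2] (by decide) (by decide) 1 (by decide))
      · -- 24=(3,1)
        exact False.elim (cert_false T ((skipEmb 3).trans (Function.Embedding.refl _)) (by norm_num) (fun _ => hall _) (((((((LB_zero T ((skipEmb 3).trans (Function.Embedding.refl _))).upd 0 3 1 (le_of_eq hx04)).upd 1 3 1 (le_of_eq hx14)).upd 2 3 3 (le_of_eq hx24)).upd 3 0 1 (le_of_eq hx40)).upd 3 1 1 (le_of_eq hx41)).upd 3 2 1 (le_of_eq hx42)) ![1,1,2,2] (by decide) (by decide) 0 (by decide))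
    · -- 14=(1,2)
      exact False.elim (cert_false T ((skipEmb 0).trans (Function.Embedding.refl _)) (by norm_num) (fun _ => hall _) (((((((LB_zero T ((skipEmb 0).trans (Function.Embedding.refl _))).upd 0 2 1 (le_of_eq hx13)).upd 0 3 1 (le_of_eq hx14)).upd 1 2 1 (le_of_eq hx23)).upd 2 0 1 (le_of_eq hx31)).upd 2 1 2 (le_of_eq hx32)).upd 3 0 2 (le_of_eq hx41)) ![2,1,2,2] (by decide) (by decide) 0 (by decide))
    · -- 14=(2,1)
      exact False.elim (cert_false T ((skipEmb 0).trans (Function.Embedding.refl _)) (by norm_num) (fun _ => hall _) (((((((LB_zero T ((skipEmb 0).trans (Function.Embedding.refl _))).upd 0 2 1 (le_of_eq hx13)).upd 0 3 2 (le_of_eq hx14)).upd 1 2 1 (le_of_eq hx23)).upd 2 0 1 (le_of_eq hx31)).upd 2 1 2 (le_of_eq hx32)).upd 3 0 1 (le_of_eq hx41)) ![2,1,2,1] (by decide) (by decide) 0 (by decide))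
    · -- 14=(1,3)
      exact False.elim (cert_false T ((skipEmb 3).trans (Function.Embedding.refl _)) (by norm_num) (fun _ => hall _) (((((LB_zero T ((skipEmb 3).trans (Function.Embedding.refl _))).upd 0 3 1 (le_of_eq hx04)).upd 1 3 1 (le_of_eq hx14)).upd 3 0 1 (le_of_eq hx40)).upd 3 1 3 (le_of_eq hx41)) ![1,1,0,2] (by decide) (by decide) 0 (by decide))
    · -- 14=(3,1)
      exact False.elim (cert_false T ((skipEmb 3).trans (Function.Embedding.refl _)) (by norm_num) (fun _ => hall _) (((((LB_zero T ((skipEmb 3).trans (Function.Embedding.refl _))).upd 0 3 1 (le_of_eq hx04)).upd 1 3 3 (le_of_eq hx14)).upd 3 0 1 (le_of_eq hx40)).upd 3 1 1 (le_of_eq hx41)) ![1,3,0,2] (by decide) (by decide) 0 (by decide))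
  · -- 04=(1,2)
    rcases d14 with ⟨rfl, rfl⟩ | ⟨rfl, rfl⟩ | ⟨rfl, rfl⟩ | ⟨rfl, rfl⟩ | ⟨rfl, rfl⟩ | ⟨rfl, rfl⟩
    · -- 14=(0,0)
      rcases d24 with ⟨rfl, rfl⟩ | ⟨rfl, rfl⟩ | ⟨rfl, rfl⟩ | ⟨rfl, rfl⟩ | ⟨rfl, rfl⟩ | ⟨rfl, rfl⟩
      · -- 24=(0,0)
        rcases d34 with ⟨rfl, rfl⟩ | ⟨rfl, rfl⟩ | ⟨rfl, rfl⟩ | ⟨rfl, rfl⟩ | ⟨rfl, rfl⟩ | ⟨rfl, rfl⟩
        · -- 34=(0,0)
          exfalso; omega
        · -- 34=(1,1)
          exact False.elim (cert_false T ((skipEmb 1).trans (Function.Embedding.refl _)) (by norm_num) (fun _ => hall _) (((((((LB_zero T ((skipEmb 1).trans (Function.Embedding.refl _))).upd 0 3 1 (le_of_eq hx04)).upd 1 2 1 (le_of_eq hx23)).upd 2 1 2 (le_of_eq hx32)).upd 2 3 1 (le_of_eq hx34)).upd 3 0 2 (le_of_eq hx40)).upd 3 2 1 (le_of_eq hx43)) ![1,1,2,2] (by decide) (by decide) 0 (by decide))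
        · -- 34=(1,2)
          exact False.elim (cert_false T ((skipEmb 2).trans (Function.Embedding.refl _)) (by norm_num) (fun _ => hall _) (((((LB_zero T ((skipEmb 2).trans (Function.Embedding.refl _))).upd 0 3 1 (le_of_eq hx04)).upd 2 3 1 (le_of_eq hx34)).upd 3 0 2 (le_of_eq hx40)).upd 3 2 2 (le_of_eq hx43)) ![1,0,1,2] (by decide) (by decide) 0 (by decide))
        · -- 34=(2,1)
          exact False.elim (cert_false T ((skipEmb 2).trans (Function.Embedding.refl _)) (by norm_num) (fun _ => hall _) (((((LB_zero T ((skipEmb 2).trans (Function.Embedding.refl _))).upd 0 3 1 (le_of_eq hx04)).upd 2 3 2 (le_of_eq hx34)).upd 3 0 2 (le_of_eq hx40)).upd 3 2 1 (le_of_eq hx43)) ![1,0,2,2] (by decide) (by decide) 0 (by decide))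
        · -- 34=(1,3)
          exact False.elim (cert_false T ((skipEmb 2).trans (Function.Embedding.refl _)) (by norm_num) (fun _ => hall _) (((((LB_zero T ((skipEmb 2).trans (Function.Embedding.refl _))).upd 0 3 1 (le_of_eq hx04)).upd 2 3 1 (le_of_eq hx34)).upd 3 0 2 (le_of_eq hx40)).upd 3 2 3 (le_of_eq hx43)) ![1,0,1,2] (by decide) (by decide) 0 (by decide))
        · -- 34=(3,1)
          exact False.elim (cert_false T ((skipEmb 2).trans (Function.Embedding.refl _)) (by norm_num) (fun _ => hall _) (((((LB_zero T ((skipEmb 2).trans (Function.Embedding.refl _))).upd 0 3 1 (le_of_eq hx04)).upd 2 3 3 (le_of_eq hx34)).upd 3 0 2 (le_of_eq hx40)).upd 3 2 1 (le_of_eq hx43)) ![1,0,2,2] (by decide) (by decide) 0 (by decide))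
      · -- 24=(1,1)
        exact False.elim (cert_false T ((skipEmb 1).trans (Function.Embedding.refl _)) (by norm_num) (fun _ => hall _) (((((((LB_zero T ((skipEmb 1).trans (Function.Embedding.refl _))).upd 0 3 1 (le_of_eq hx04)).upd 1 2 1 (le_of_eq hx23)).upd 1 3 1 (le_of_eq hx24)).upd 2 1 2 (le_of_eq hx32)).upd 3 0 2 (le_of_eq hx40)).upd 3 1 1 (le_of_eq hx42)) ![1,2,2,2] (by decide) (by decide) 0 (by decide))
      · -- 24=(1,2)
        exact False.elim (cert_false T ((skipEmb 3).trans (Function.Embedding.refl _)) (by norm_num) (fun _ => hall _) (((((LB_zero T ((skipEmb 3).trans (Function.Embedding.refl _))).upd 0 3 1 (le_of_eq hx04)).upd 2 3 1 (le_of_eq hx24)).upd 3 0 2 (le_of_eq hx40)).upd 3 2 2 (le_of_eq hx42)) ![1,0,1,2] (by decide) (by decide) 0 (by decide))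
      · -- 24=(2,1)
        exact False.elim (cert_false T ((skipEmb 3).trans (Function.Embedding.refl _)) (by norm_num) (fun _ => hall _) (((((LB_zero T ((skipEmb 3).trans (Function.Embedding.refl _))).upd 0 3 1 (le_of_eq hx04)).upd 2 3 2 (le_of_eq hx24)).upd 3 0 2 (le_of_eq hx40)).upd 3 2 1 (le_of_eq hx42)) ![1,0,2,2] (by decide) (by decide) 0 (by decide))
      · -- 24=(1,3)
        exact False.elim (cert_false T ((skipEmb 3).trans (Function.Embedding.refl _)) (by norm_num) (fun _ => hall _) (((((LB_zero T ((skipEmb 3).trans (Function.Embedding.refl _))).upd 0 3 1 (le_of_eq hx04)).upd 2 3 1 (le_of_eq hx24)).upd 3 0 2 (le_of_eq hx40)).upd 3 2 3 (le_of_eq hx42)) ![1,0,1,2] (by decide) (by decide) 0 (by decide))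
      · -- 24=(3,1)
        exact False.elim (cert_false T ((skipEmb 3).trans (Function.Embedding.refl _)) (by norm_num) (fun _ => hall _) (((((LB_zero T ((skipEmb 3).trans (Function.Embedding.refl _))).upd 0 3 1 (le_of_eq hx04)).upd 2 3 3 (le_of_eq hx24)).upd 3 0 2 (le_of_eq hx40)).upd 3 2 1 (le_of_eq hx42)) ![1,0,2,2] (by decide) (by decide) 0 (by decide))
    · -- 14=(1,1)
      rcases d24 with ⟨rfl, rfl⟩ | ⟨rfl, rfl⟩ | ⟨rfl, rfl⟩ | ⟨rfl, rfl⟩ | ⟨rfl, rfl⟩ | ⟨rfl, rfl⟩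
      · -- 24=(0,0)
        rcases d34 with ⟨rfl, rfl⟩ | ⟨rfl, rfl⟩ | ⟨rfl, rfl⟩ | ⟨rfl, rfl⟩ | ⟨rfl, rfl⟩ | ⟨rfl, rfl⟩
        · -- 34=(0,0)
          refine ⟨(⟨![0, 4, 1, 3, 2], ![0, 2, 4, 3, 1], by decide, by decide⟩ : Equiv.Perm (Fin 5)), T.m 0, T.w 4, Or.inr (Or.inr (Or.inr (Or.inr (Or.inr (Or.inl ?_)))))⟩
          show T.m 0 = T.m 0 ∧ T.m 4 = 2 * T.m 0 ∧ T.m 1 = 2 * T.m 0 ∧ T.m 3 = 2 * T.m 0 ∧ T.m 2 = T.m 0 ∧ T.w 0 = 2 * T.w 4 ∧ T.w 4 = T.w 4 ∧ T.w 1 = T.w 4 ∧ T.w 3 = T.w 4 ∧ T.w 2 = 2 * T.w 4 ∧ T.a 0 0 = -4 * T.w 4 ∧ T.a 0 4 = 2 * T.w 4 ∧ T.a 0 1 = 0 ∧ T.a 0 3 = 0 ∧ T.a 0 2 = 0 ∧ T.a 4 4 = -2 * T.w 4 ∧ T.a 4 1 = T.w 4 ∧ T.a 4 3 = 0 ∧ T.a 4 2 = 0 ∧ T.a 1 1 = -2 * T.w 4 ∧ T.a 1 3 = T.w 4 ∧ T.a 1 2 = 0 ∧ T.a 3 3 = -2 * T.w 4 ∧ T.a 3 2 = 2 * T.w 4 ∧ T.a 2 2 = -4 * T.w 4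
          refine ⟨?_, ?_, ?_, ?_, ?_, ?_, ?_, ?_, ?_, ?_, ?_, ?_, ?_, ?_, ?_, ?_, ?_, ?_, ?_, ?_, ?_, ?_, ?_, ?_, ?_⟩ <;> omega
        · -- 34=(1,1)
          exact False.elim (cert_false T ((skipEmb 2).trans (Function.Embedding.refl _)) (by norm_num) (fun _ => hall _) (((((((LB_zero T ((skipEmb 2).trans (Function.Embedding.refl _))).upd 1 2 1 (le_of_eq hx13)).upd 1 3 1 (le_of_eq hx14)).upd 2 1 1 (le_of_eq hx31)).upd 2 3 1 (le_of_eq hx34)).upd 3 1 1 (le_of_eq hx41)).upd 3 2 1 (le_of_eq hx43)) ![0,1,1,1] (by decide) (by decide) 1 (by decide))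
        · -- 34=(1,2)
          exact False.elim (cert_false T ((skipEmb 2).trans (Function.Embedding.refl _)) (by norm_num) (fun _ => hall _) (((((((LB_zero T ((skipEmb 2).trans (Function.Embedding.refl _))).upd 1 2 1 (le_of_eq hx13)).upd 1 3 1 (le_of_eq hx14)).upd 2 1 1 (le_of_eq hx31)).upd 2 3 1 (le_of_eq hx34)).upd 3 1 1 (le_of_eq hx41)).upd 3 2 2 (le_of_eq hx43)) ![0,1,1,1] (by decide) (by decide) 1 (by decide))
        · -- 34=(2,1)
          exact False.elim (cert_false T ((skipEmb 2).trans (Function.Embedding.refl _)) (by norm_num) (fun _ => hall _) (((((((LB_zero T ((skipEmb 2).trans (Function.Embedding.refl _))).upd 1 2 1 (le_of_eq hx13)).upd 1 3 1 (le_of_eq hx14)).upd 2 1 1 (le_of_eq hx31)).upd 2 3 2 (le_of_eq hx34)).upd 3 1 1 (le_of_eq hx41)).upd 3 2 1 (le_of_eq hx43)) ![0,1,1,1] (by decide) (by decide) 1 (by decide))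
        · -- 34=(1,3)
          exact False.elim (cert_false T ((skipEmb 2).trans (Function.Embedding.refl _)) (by norm_num) (fun _ => hall _) (((((((LB_zero T ((skipEmb 2).trans (Function.Embedding.refl _))).upd 1 2 1 (le_of_eq hx13)).upd 1 3 1 (le_of_eq hx14)).upd 2 1 1 (le_of_eq hx31)).upd 2 3 1 (le_of_eq hx34)).upd 3 1 1 (le_of_eq hx41)).upd 3 2 3 (le_of_eq hx43)) ![0,1,1,1] (by decide) (by decide) 1 (by decide))
        · -- 34=(3,1)
          exact False.elim (cert_false T ((skipEmb 2).trans (Function.Embedding.refl _)) (by norm_num) (fun _ => hall _) (((((((LB_zero T ((skipEmb 2).trans (Function.Embedding.refl _))).upd 1 2 1 (le_of_eq hx13)).upd 1 3 1 (le_of_eq hx14)).upd 2 1 1 (le_of_eq hx31)).upd 2 3 3 (le_of_eq hx34)).upd 3 1 1 (le_of_eq hx41)).upd 3 2 1 (le_of_eq hx43)) ![0,1,1,1] (by decide) (by decide) 1 (by decide))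
      · -- 24=(1,1)
        exact False.elim (cert_false T ((skipEmb 3).trans (Function.Embedding.refl _)) (by norm_num) (fun _ => hall _) (((((((LB_zero T ((skipEmb 3).trans (Function.Embedding.refl _))).upd 0 3 1 (le_of_eq hx04)).upd 1 3 1 (le_of_eq hx14)).upd 2 3 1 (le_of_eq hx24)).upd 3 0 2 (le_of_eq hx40)).upd 3 1 1 (le_of_eq hx41)).upd 3 2 1 (le_of_eq hx42)) ![1,1,1,2] (by decide) (by decide) 0 (by decide))
      · -- 24=(1,2)
        exact False.elim (cert_false T ((skipEmb 3).trans (Function.Embedding.refl _)) (by norm_num) (fun _ => hall _) (((((LB_zero T ((skipEmb 3).trans (Function.Embedding.refl _))).upd 0 3 1 (le_of_eq hx04)).upd 2 3 1 (le_of_eq hx24)).upd 3 0 2 (le_of_eq hx40)).upd 3 2 2 (le_of_eq hx42)) ![1,0,1,2] (by decide) (by decide) 0 (by decide))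
      · -- 24=(2,1)
        exact False.elim (cert_false T ((skipEmb 3).trans (Function.Embedding.refl _)) (by norm_num) (fun _ => hall _) (((((LB_zero T ((skipEmb 3).trans (Function.Embedding.refl _))).upd 0 3 1 (le_of_eq hx04)).upd 2 3 2 (le_of_eq hx24)).upd 3 0 2 (le_of_eq hx40)).upd 3 2 1 (le_of_eq hx42)) ![1,0,2,2] (by decide) (by decide) 0 (by decide))
      · -- 24=(1,3)
        exact False.elim (cert_false T ((skipEmb 3).trans (Function.Embedding.refl _)) (by norm_num) (fun _ => hall _) (((((LB_zero T ((skipEmb 3).trans (Function.Embedding.refl _))).upd 1 3 1 (le_of_eq hx14)).upd 2 3 1 (le_of_eq hx24)).upd 3 1 1 (le_of_eq hx41)).upd 3 2 3 (le_of_eq hx42)) ![0,1,1,2] (by decide) (by decide) 1 (by decide))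
      · -- 24=(3,1)
        exact False.elim (cert_false T ((skipEmb 3).trans (Function.Embedding.refl _)) (by norm_num) (fun _ => hall _) (((((LB_zero T ((skipEmb 3).trans (Function.Embedding.refl _))).upd 0 3 1 (le_of_eq hx04)).upd 2 3 3 (le_of_eq hx24)).upd 3 0 2 (le_of_eq hx40)).upd 3 2 1 (le_of_eq hx42)) ![1,0,2,2] (by decide) (by decide) 0 (by decide))
    · -- 14=(1,2)
      exact False.elim (cert_false T ((skipEmb 3).trans (Function.Embedding.refl _)) (by norm_num) (fun _ => hall _) (((((LB_zero T ((skipEmb 3).trans (Function.Embedding.refl _))).upd 0 3 1 (le_of_eq hx04)).upd 1 3 1 (le_of_eq hx14)).upd 3 0 2 (le_of_eq hx40)).upd 3 1 2 (le_of_eq hx41)) ![1,1,0,2] (by decide) (by decide) 0 (by decide))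
    · -- 14=(2,1)
      exact False.elim (cert_false T ((skipEmb 3).trans (Function.Embedding.refl _)) (by norm_num) (fun _ => hall _) (((((LB_zero T ((skipEmb 3).trans (Function.Embedding.refl _))).upd 0 3 1 (le_of_eq hx04)).upd 1 3 2 (le_of_eq hx14)).upd 3 0 2 (le_of_eq hx40)).upd 3 1 1 (le_of_eq hx41)) ![1,2,0,2] (by decide) (by decide) 0 (by decide))
    · -- 14=(1,3)
      exact False.elim (cert_false T ((skipEmb 3).trans (Function.Embedding.refl _)) (by norm_num) (fun _ => hall _) (((((LB_zero T ((skipEmb 3).trans (Function.Embedding.refl _))).upd 0 3 1 (le_of_eq hx04)).upd 1 3 1 (le_of_eq hx14)).upd 3 0 2 (le_of_eq hx40)).upd 3 1 3 (le_of_eq hx41)) ![1,1,0,2] (by decide) (by decide) 0 (by decide))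
    · -- 14=(3,1)
      exact False.elim (cert_false T ((skipEmb 3).trans (Function.Embedding.refl _)) (by norm_num) (fun _ => hall _) (((((LB_zero T ((skipEmb 3).trans (Function.Embedding.refl _))).upd 0 3 1 (le_of_eq hx04)).upd 1 3 3 (le_of_eq hx14)).upd 3 0 2 (le_of_eq hx40)).upd 3 1 1 (le_of_eq hx41)) ![1,2,0,2] (by decide) (by decide) 0 (by decide))
  · -- 04=(2,1)
    rcases d14 with ⟨rfl, rfl⟩ | ⟨rfl, rfl⟩ | ⟨rfl, rfl⟩ | ⟨rfl, rfl⟩ | ⟨rfl, rfl⟩ | ⟨rfl, rfl⟩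
    · -- 14=(0,0)
      rcases d24 with ⟨rfl, rfl⟩ | ⟨rfl, rfl⟩ | ⟨rfl, rfl⟩ | ⟨rfl, rfl⟩ | ⟨rfl, rfl⟩ | ⟨rfl, rfl⟩
      · -- 24=(0,0)
        rcases d34 with ⟨rfl, rfl⟩ | ⟨rfl, rfl⟩ | ⟨rfl, rfl⟩ | ⟨rfl, rfl⟩ | ⟨rfl, rfl⟩ | ⟨rfl, rfl⟩
        · -- 34=(0,0)
          exfalso; omega
        · -- 34=(1,1)
          exact False.elim (cert_false T ((skipEmb 1).trans (Function.Embedding.refl _)) (by norm_num) (fun _ => hall _) (((((((LB_zero T ((skipEmb 1).trans (Function.Embedding.refl _))).upd 0 3 2 (le_of_eq hx04)).upd 1 2 1 (le_of_eq hx23)).upd 2 1 2 (le_of_eq hx32)).upd 2 3 1 (le_of_eq hx34)).upd 3 0 1 (le_of_eq hx40)).upd 3 2 1 (le_of_eq hx43)) ![2,1,2,2] (by decide) (by decide) 0 (by decide))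
        · -- 34=(1,2)
          exact False.elim (cert_false T ((skipEmb 2).trans (Function.Embedding.refl _)) (by norm_num) (fun _ => hall _) (((((LB_zero T ((skipEmb 2).trans (Function.Embedding.refl _))).upd 0 3 2 (le_of_eq hx04)).upd 2 3 1 (le_of_eq hx34)).upd 3 0 1 (le_of_eq hx40)).upd 3 2 2 (le_of_eq hx43)) ![2,0,1,2] (by decide) (by decide) 0 (by decide))
        · -- 34=(2,1)
          exact False.elim (cert_false T ((skipEmb 2).trans (Function.Embedding.refl _)) (by norm_num) (fun _ => hall _) (((((LB_zero T ((skipEmb 2).trans (Function.Embedding.refl _))).upd 0 3 2 (le_of_eq hx04)).upd 2 3 2 (le_of_eq hx34)).upd 3 0 1 (le_of_eq hx40)).upd 3 2 1 (le_of_eq hx43)) ![1,0,1,1] (by decide) (by decide) 0 (by decide))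
        · -- 34=(1,3)
          exact False.elim (cert_false T ((skipEmb 2).trans (Function.Embedding.refl _)) (by norm_num) (fun _ => hall _) (((((LB_zero T ((skipEmb 2).trans (Function.Embedding.refl _))).upd 0 3 2 (le_of_eq hx04)).upd 2 3 1 (le_of_eq hx34)).upd 3 0 1 (le_of_eq hx40)).upd 3 2 3 (le_of_eq hx43)) ![1,0,1,2] (by decide) (by decide) 0 (by decide))
        · -- 34=(3,1)
          exact False.elim (cert_false T ((skipEmb 2).trans (Function.Embedding.refl _)) (by norm_num) (fun _ => hall _) (((((LB_zero T ((skipEmb 2).trans (Function.Embedding.refl _))).upd 0 3 2 (le_of_eq hx04)).upd 2 3 3 (le_of_eq hx34)).upd 3 0 1 (le_of_eq hx40)).upd 3 2 1 (le_of_eq hx43)) ![1,0,1,1] (by decide) (by decide) 0 (by decide))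
      · -- 24=(1,1)
        exact False.elim (cert_false T ((skipEmb 1).trans (Function.Embedding.refl _)) (by norm_num) (fun _ => hall _) (((((((LB_zero T ((skipEmb 1).trans (Function.Embedding.refl _))).upd 0 3 2 (le_of_eq hx04)).upd 1 2 1 (le_of_eq hx23)).upd 1 3 1 (le_of_eq hx24)).upd 2 1 2 (le_of_eq hx32)).upd 3 0 1 (le_of_eq hx40)).upd 3 1 1 (le_of_eq hx42)) ![1,1,1,1] (by decide) (by decide) 0 (by decide))
      · -- 24=(1,2)
        exact False.elim (cert_false T ((skipEmb 3).trans (Function.Embedding.refl _)) (by norm_num) (fun _ => hall _) (((((LB_zero T ((skipEmb 3).trans (Function.Embedding.refl _))).upd 0 3 2 (le_of_eq hx04)).upd 2 3 1 (le_of_eq hx24)).upd 3 0 1 (le_of_eq hx40)).upd 3 2 2 (le_of_eq hx42)) ![2,0,1,2] (by decide) (by decide) 0 (by decide))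
      · -- 24=(2,1)
        exact False.elim (cert_false T ((skipEmb 3).trans (Function.Embedding.refl _)) (by norm_num) (fun _ => hall _) (((((LB_zero T ((skipEmb 3).trans (Function.Embedding.refl _))).upd 0 3 2 (le_of_eq hx04)).upd 2 3 2 (le_of_eq hx24)).upd 3 0 1 (le_of_eq hx40)).upd 3 2 1 (le_of_eq hx42)) ![1,0,1,1] (by decide) (by decide) 0 (by decide))
      · -- 24=(1,3)
        exact False.elim (cert_false T ((skipEmb 3).trans (Function.Embedding.refl _)) (by norm_num) (fun _ => hall _) (((((LB_zero T ((skipEmb 3).trans (Function.Embedding.refl _))).upd 0 3 2 (le_of_eq hx04)).upd 2 3 1 (le_of_eq hx24)).upd 3 0 1 (le_of_eq hx40)).upd 3 2 3 (le_of_eq hx42)) ![1,0,1,2] (by decide) (by decide) 0 (by decide))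
      · -- 24=(3,1)
        exact False.elim (cert_false T ((skipEmb 3).trans (Function.Embedding.refl _)) (by norm_num) (fun _ => hall _) (((((LB_zero T ((skipEmb 3).trans (Function.Embedding.refl _))).upd 0 3 2 (le_of_eq hx04)).upd 2 3 3 (le_of_eq hx24)).upd 3 0 1 (le_of_eq hx40)).upd 3 2 1 (le_of_eq hx42)) ![1,0,1,1] (by decide) (by decide) 0 (by decide))
    · -- 14=(1,1)
      rcases d24 with ⟨rfl, rfl⟩ | ⟨rfl, rfl⟩ | ⟨rfl, rfl⟩ | ⟨rfl, rfl⟩ | ⟨rfl, rfl⟩ | ⟨rfl, rfl⟩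
      · -- 24=(0,0)
        rcases d34 with ⟨rfl, rfl⟩ | ⟨rfl, rfl⟩ | ⟨rfl, rfl⟩ | ⟨rfl, rfl⟩ | ⟨rfl, rfl⟩ | ⟨rfl, rfl⟩
        · -- 34=(0,0)
          refine ⟨(⟨![0, 4, 1, 3, 2], ![0, 2, 4, 3, 1], by decide, by decide⟩ : Equiv.Perm (Fin 5)), T.m 2, T.w 0, Or.inr (Or.inr (Or.inr (Or.inl ?_)))⟩
          show T.m 0 = 2 * T.m 2 ∧ T.m 4 = 2 * T.m 2 ∧ T.m 1 = 2 * T.m 2 ∧ T.m 3 = 2 * T.m 2 ∧ T.m 2 = T.m 2 ∧ T.w 0 = T.w 0 ∧ T.w 4 = 2 * T.w 0 ∧ T.w 1 = 2 * T.w 0 ∧ T.w 3 = 2 * T.w 0 ∧ T.w 2 = 4 * T.w 0 ∧ T.a 0 0 = -2 * T.w 0 ∧ T.a 0 4 = 2 * T.w 0 ∧ T.a 0 1 = 0 ∧ T.a 0 3 = 0 ∧ T.a 0 2 = 0 ∧ T.a 4 4 = -4 * T.w 0 ∧ T.a 4 1 = 2 * T.w 0 ∧ T.a 4 3 = 0 ∧ T.a 4 2 = 0 ∧ T.a 1 1 = -4 * T.w 0 ∧ T.a 1 3 = 2 * T.w 0 ∧ T.a 1 2 = 0 ∧ T.a 3 3 = -4 * T.w 0 ∧ T.a 3 2 = 4 * T.w 0 ∧ T.a 2 2 = -8 * T.w 0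
          refine ⟨?_, ?_, ?_, ?_, ?_, ?_, ?_, ?_, ?_, ?_, ?_, ?_, ?_, ?_, ?_, ?_, ?_, ?_, ?_, ?_, ?_, ?_, ?_, ?_, ?_⟩ <;> omega
        · -- 34=(1,1)
          exact False.elim (cert_false T ((skipEmb 2).trans (Function.Embedding.refl _)) (by norm_num) (fun _ => hall _) (((((((LB_zero T ((skipEmb 2).trans (Function.Embedding.refl _))).upd 1 2 1 (le_of_eq hx13)).upd 1 3 1 (le_of_eq hx14)).upd 2 1 1 (le_of_eq hx31)).upd 2 3 1 (le_of_eq hx34)).upd 3 1 1 (le_of_eq hx41)).upd 3 2 1 (le_of_eq hx43)) ![0,1,1,1] (by decide) (by decide) 1 (by decide))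
        · -- 34=(1,2)
          exact False.elim (cert_false T ((skipEmb 2).trans (Function.Embedding.refl _)) (by norm_num) (fun _ => hall _) (((((((LB_zero T ((skipEmb 2).trans (Function.Embedding.refl _))).upd 1 2 1 (le_of_eq hx13)).upd 1 3 1 (le_of_eq hx14)).upd 2 1 1 (le_of_eq hx31)).upd 2 3 1 (le_of_eq hx34)).upd 3 1 1 (le_of_eq hx41)).upd 3 2 2 (le_of_eq hx43)) ![0,1,1,1] (by decide) (by decide) 1 (by decide))
        · -- 34=(2,1)
          exact False.elim (cert_false T ((skipEmb 2).trans (Function.Embedding.refl _)) (by norm_num) (fun _ => hall _) (((((LB_zero T ((skipEmb 2).trans (Function.Embedding.refl _))).upd 0 3 2 (le_of_eq hx04)).upd 2 3 2 (le_of_eq hx34)).upd 3 0 1 (le_of_eq hx40)).upd 3 2 1 (le_of_eq hx43)) ![1,0,1,1] (by decide) (by decide) 0 (by decide))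
        · -- 34=(1,3)
          exact False.elim (cert_false T ((skipEmb 2).trans (Function.Embedding.refl _)) (by norm_num) (fun _ => hall _) (((((((LB_zero T ((skipEmb 2).trans (Function.Embedding.refl _))).upd 1 2 1 (le_of_eq hx13)).upd 1 3 1 (le_of_eq hx14)).upd 2 1 1 (le_of_eq hx31)).upd 2 3 1 (le_of_eq hx34)).upd 3 1 1 (le_of_eq hx41)).upd 3 2 3 (le_of_eq hx43)) ![0,1,1,1] (by decide) (by decide) 1 (by decide))
        · -- 34=(3,1)
          exact False.elim (cert_false T ((skipEmb 2).trans (Function.Embedding.refl _)) (by norm_num) (fun _ => hall _) (((((LB_zero T ((skipEmb 2).trans (Function.Embedding.refl _))).upd 0 3 2 (le_of_eq hx04)).upd 2 3 3 (le_of_eq hx34)).upd 3 0 1 (le_of_eq hx40)).upd 3 2 1 (le_of_eq hx43)) ![1,0,1,1] (by decide) (by decide) 0 (by decide))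
      · -- 24=(1,1)
        exact False.elim (cert_false T ((skipEmb 3).trans (Function.Embedding.refl _)) (by norm_num) (fun _ => hall _) (((((((LB_zero T ((skipEmb 3).trans (Function.Embedding.refl _))).upd 0 3 2 (le_of_eq hx04)).upd 1 3 1 (le_of_eq hx14)).upd 2 3 1 (le_of_eq hx24)).upd 3 0 1 (le_of_eq hx40)).upd 3 1 1 (le_of_eq hx41)).upd 3 2 1 (le_of_eq hx42)) ![2,1,1,2] (by decide) (by decide) 0 (by decide))
      · -- 24=(1,2)
        exact False.elim (cert_false T ((skipEmb 3).trans (Function.Embedding.refl _)) (by norm_num) (fun _ => hall _) (((((((LB_zero T ((skipEmb 3).trans (Function.Embedding.refl _))).upd 0 3 2 (le_of_eq hx04)).upd 1 3 1 (le_of_eq hx14)).upd 2 3 1 (le_of_eq hx24)).upd 3 0 1 (le_of_eq hx40)).upd 3 1 1 (le_of_eq hx41)).upd 3 2 2 (le_of_eq hx42)) ![1,1,1,2] (by decide) (by decide) 0 (by decide))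
      · -- 24=(2,1)
        exact False.elim (cert_false T ((skipEmb 3).trans (Function.Embedding.refl _)) (by norm_num) (fun _ => hall _) (((((LB_zero T ((skipEmb 3).trans (Function.Embedding.refl _))).upd 0 3 2 (le_of_eq hx04)).upd 2 3 2 (le_of_eq hx24)).upd 3 0 1 (le_of_eq hx40)).upd 3 2 1 (le_of_eq hx42)) ![1,0,1,1] (by decide) (by decide) 0 (by decide))
      · -- 24=(1,3)
        exact False.elim (cert_false T ((skipEmb 3).trans (Function.Embedding.refl _)) (by norm_num) (fun _ => hall _) (((((LB_zero T ((skipEmb 3).trans (Function.Embedding.refl _))).upd 1 3 1 (le_of_eq hx14)).upd 2 3 1 (le_of_eq hx24)).upd 3 1 1 (le_of_eq hx41)).upd 3 2 3 (le_of_eq hx42)) ![0,1,1,2] (by decide) (by decide) 1 (by decide))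
      · -- 24=(3,1)
        exact False.elim (cert_false T ((skipEmb 3).trans (Function.Embedding.refl _)) (by norm_num) (fun _ => hall _) (((((LB_zero T ((skipEmb 3).trans (Function.Embedding.refl _))).upd 0 3 2 (le_of_eq hx04)).upd 2 3 3 (le_of_eq hx24)).upd 3 0 1 (le_of_eq hx40)).upd 3 2 1 (le_of_eq hx42)) ![1,0,1,1] (by decide) (by decide) 0 (by decide))
    · -- 14=(1,2)
      exact False.elim (cert_false T ((skipEmb 3).trans (Function.Embedding.refl _)) (by norm_num) (fun _ => hall _) (((((LB_zero T ((skipEmb 3).trans (Function.Embedding.refl _))).upd 0 3 2 (le_of_eq hx04)).upd 1 3 1 (le_of_eq hx14)).upd 3 0 1 (le_of_eq hx40)).upd 3 1 2 (le_of_eq hx41)) ![2,1,0,2] (by decide) (by decide) 0 (by decide))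
    · -- 14=(2,1)
      exact False.elim (cert_false T ((skipEmb 3).trans (Function.Embedding.refl _)) (by norm_num) (fun _ => hall _) (((((LB_zero T ((skipEmb 3).trans (Function.Embedding.refl _))).upd 0 3 2 (le_of_eq hx04)).upd 1 3 2 (le_of_eq hx14)).upd 3 0 1 (le_of_eq hx40)).upd 3 1 1 (le_of_eq hx41)) ![1,1,0,1] (by decide) (by decide) 0 (by decide))
    · -- 14=(1,3)
      exact False.elim (cert_false T ((skipEmb 3).trans (Function.Embedding.refl _)) (by norm_num) (fun _ => hall _) (((((LB_zero T ((skipEmb 3).trans (Function.Embedding.refl _))).upd 0 3 2 (le_of_eq hx04)).upd 1 3 1 (le_of_eq hx14)).upd 3 0 1 (le_of_eq hx40)).upd 3 1 3 (le_of_eq hx41)) ![1,1,0,2] (by decide) (by decide) 0 (by decide))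
    · -- 14=(3,1)
      exact False.elim (cert_false T ((skipEmb 3).trans (Function.Embedding.refl _)) (by norm_num) (fun _ => hall _) (((((LB_zero T ((skipEmb 3).trans (Function.Embedding.refl _))).upd 0 3 2 (le_of_eq hx04)).upd 1 3 3 (le_of_eq hx14)).upd 3 0 1 (le_of_eq hx40)).upd 3 1 1 (le_of_eq hx41)) ![1,1,0,1] (by decide) (by decide) 0 (by decide))
  · -- 04=(1,3)
    rcases d14 with ⟨rfl, rfl⟩ | ⟨rfl, rfl⟩ | ⟨rfl, rfl⟩ | ⟨rfl, rfl⟩ | ⟨rfl, rfl⟩ | ⟨rfl, rfl⟩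
    · -- 14=(0,0)
      rcases d24 with ⟨rfl, rfl⟩ | ⟨rfl, rfl⟩ | ⟨rfl, rfl⟩ | ⟨rfl, rfl⟩ | ⟨rfl, rfl⟩ | ⟨rfl, rfl⟩
      · -- 24=(0,0)
        rcases d34 with ⟨rfl, rfl⟩ | ⟨rfl, rfl⟩ | ⟨rfl, rfl⟩ | ⟨rfl, rfl⟩ | ⟨rfl, rfl⟩ | ⟨rfl, rfl⟩
        · -- 34=(0,0)
          exfalso; omega
        · -- 34=(1,1)
          exact False.elim (cert_false T ((skipEmb 2).trans (Function.Embedding.refl _)) (by norm_num) (fun _ => hall _) (((((LB_zero T ((skipEmb 2).trans (Function.Embedding.refl _))).upd 0 3 1 (le_of_eq hx04)).upd 2 3 1 (le_of_eq hx34)).upd 3 0 3 (le_of_eq hx40)).upd 3 2 1 (le_of_eq hx43)) ![1,0,1,2] (by decide) (by decide) 0 (by decide))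
        · -- 34=(1,2)
          exact False.elim (cert_false T ((skipEmb 2).trans (Function.Embedding.refl _)) (by norm_num) (fun _ => hall _) (((((LB_zero T ((skipEmb 2).trans (Function.Embedding.refl _))).upd 0 3 1 (le_of_eq hx04)).upd 2 3 1 (le_of_eq hx34)).upd 3 0 3 (le_of_eq hx40)).upd 3 2 2 (le_of_eq hx43)) ![1,0,1,2] (by decide) (by decide) 0 (by decide))
        · -- 34=(2,1)
          exact False.elim (cert_false T ((skipEmb 2).trans (Function.Embedding.refl _)) (by norm_num) (fun _ => hall _) (((((LB_zero T ((skipEmb 2).trans (Function.Embedding.refl _))).upd 0 3 1 (le_of_eq hx04)).upd 2 3 2 (le_of_eq hx34)).upd 3 0 3 (le_of_eq hx40)).upd 3 2 1 (le_of_eq hx43)) ![1,0,1,2] (by decide) (by decide) 0 (by decide))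
        · -- 34=(1,3)
          exact False.elim (cert_false T ((skipEmb 2).trans (Function.Embedding.refl _)) (by norm_num) (fun _ => hall _) (((((LB_zero T ((skipEmb 2).trans (Function.Embedding.refl _))).upd 0 3 1 (le_of_eq hx04)).upd 2 3 1 (le_of_eq hx34)).upd 3 0 3 (le_of_eq hx40)).upd 3 2 3 (le_of_eq hx43)) ![1,0,1,2] (by decide) (by decide) 0 (by decide))
        · -- 34=(3,1)
          exact False.elim (cert_false T ((skipEmb 2).trans (Function.Embedding.refl _)) (by norm_num) (fun _ => hall _) (((((LB_zero T ((skipEmb 2).trans (Function.Embedding.refl _))).upd 0 3 1 (le_of_eq hx04)).upd 2 3 3 (le_of_eq hx34)).upd 3 0 3 (le_of_eq hx40)).upd 3 2 1 (le_of_eq hx43)) ![1,0,1,2] (by decide) (by decide) 0 (by decide))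
      · -- 24=(1,1)
        exact False.elim (cert_false T ((skipEmb 3).trans (Function.Embedding.refl _)) (by norm_num) (fun _ => hall _) (((((LB_zero T ((skipEmb 3).trans (Function.Embedding.refl _))).upd 0 3 1 (le_of_eq hx04)).upd 2 3 1 (le_of_eq hx24)).upd 3 0 3 (le_of_eq hx40)).upd 3 2 1 (le_of_eq hx42)) ![1,0,1,2] (by decide) (by decide) 0 (by decide))
      · -- 24=(1,2)
        exact False.elim (cert_false T ((skipEmb 3).trans (Function.Embedding.refl _)) (by norm_num) (fun _ => hall _) (((((LB_zero T ((skipEmb 3).trans (Function.Embedding.refl _))).upd 0 3 1 (le_of_eq hx04)).upd 2 3 1 (le_of_eq hx24)).upd 3 0 3 (le_of_eq hx40)).upd 3 2 2 (le_of_eq hx42)) ![1,0,1,2] (by decide) (by decide) 0 (by decide))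
      · -- 24=(2,1)
        exact False.elim (cert_false T ((skipEmb 3).trans (Function.Embedding.refl _)) (by norm_num) (fun _ => hall _) (((((LB_zero T ((skipEmb 3).trans (Function.Embedding.refl _))).upd 0 3 1 (le_of_eq hx04)).upd 2 3 2 (le_of_eq hx24)).upd 3 0 3 (le_of_eq hx40)).upd 3 2 1 (le_of_eq hx42)) ![1,0,1,2] (by decide) (by decide) 0 (by decide))
      · -- 24=(1,3)
        exact False.elim (cert_false T ((skipEmb 3).trans (Function.Embedding.refl _)) (by norm_num) (fun _ => hall _) (((((LB_zero T ((skipEmb 3).trans (Function.Embedding.refl _))).upd 0 3 1 (le_of_eq hx04)).upd 2 3 1 (le_of_eq hx24)).upd 3 0 3 (le_of_eq hx40)).upd 3 2 3 (le_of_eq hx42)) ![1,0,1,2] (by decide) (by decide) 0 (by decide))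
      · -- 24=(3,1)
        exact False.elim (cert_false T ((skipEmb 3).trans (Function.Embedding.refl _)) (by norm_num) (fun _ => hall _) (((((LB_zero T ((skipEmb 3).trans (Function.Embedding.refl _))).upd 0 3 1 (le_of_eq hx04)).upd 2 3 3 (le_of_eq hx24)).upd 3 0 3 (le_of_eq hx40)).upd 3 2 1 (le_of_eq hx42)) ![1,0,1,2] (by decide) (by decide) 0 (by decide))
    · -- 14=(1,1)
      exact False.elim (cert_false T ((skipEmb 3).trans (Function.Embedding.refl _)) (by norm_num) (fun _ => hall _) (((((LB_zero T ((skipEmb 3).trans (Function.Embedding.refl _))).upd 0 3 1 (le_of_eq hx04)).upd 1 3 1 (le_of_eq hx14)).upd 3 0 3 (le_of_eq hx40)).upd 3 1 1 (le_of_eq hx41)) ![1,1,0,2] (by decide) (by decide) 0 (by decide))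
    · -- 14=(1,2)
      exact False.elim (cert_false T ((skipEmb 3).trans (Function.Embedding.refl _)) (by norm_num) (fun _ => hall _) (((((LB_zero T ((skipEmb 3).trans (Function.Embedding.refl _))).upd 0 3 1 (le_of_eq hx04)).upd 1 3 1 (le_of_eq hx14)).upd 3 0 3 (le_of_eq hx40)).upd 3 1 2 (le_of_eq hx41)) ![1,1,0,2] (by decide) (by decide) 0 (by decide))
    · -- 14=(2,1)
      exact False.elim (cert_false T ((skipEmb 3).trans (Function.Embedding.refl _)) (by norm_num) (fun _ => hall _) (((((LB_zero T ((skipEmb 3).trans (Function.Embedding.refl _))).upd 0 3 1 (le_of_eq hx04)).upd 1 3 2 (le_of_eq hx14)).upd 3 0 3 (le_of_eq hx40)).upd 3 1 1 (le_of_eq hx41)) ![1,1,0,2] (by decide) (by decide) 0 (by decide))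
    · -- 14=(1,3)
      exact False.elim (cert_false T ((skipEmb 3).trans (Function.Embedding.refl _)) (by norm_num) (fun _ => hall _) (((((LB_zero T ((skipEmb 3).trans (Function.Embedding.refl _))).upd 0 3 1 (le_of_eq hx04)).upd 1 3 1 (le_of_eq hx14)).upd 3 0 3 (le_of_eq hx40)).upd 3 1 3 (le_of_eq hx41)) ![1,1,0,2] (by decide) (by decide) 0 (by decide))
    · -- 14=(3,1)
      exact False.elim (cert_false T ((skipEmb 3).trans (Function.Embedding.refl _)) (by norm_num) (fun _ => hall _) (((((LB_zero T ((skipEmb 3).trans (Function.Embedding.refl _))).upd 0 3 1 (le_of_eq hx04)).upd 1 3 3 (le_of_eq hx14)).upd 3 0 3 (le_of_eq hx40)).upd 3 1 1 (le_of_eq hx41)) ![1,1,0,2] (by decide) (by decide) 0 (by decide))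
  · -- 04=(3,1)
    rcases d14 with ⟨rfl, rfl⟩ | ⟨rfl, rfl⟩ | ⟨rfl, rfl⟩ | ⟨rfl, rfl⟩ | ⟨rfl, rfl⟩ | ⟨rfl, rfl⟩
    · -- 14=(0,0)
      rcases d24 with ⟨rfl, rfl⟩ | ⟨rfl, rfl⟩ | ⟨rfl, rfl⟩ | ⟨rfl, rfl⟩ | ⟨rfl, rfl⟩ | ⟨rfl, rfl⟩
      · -- 24=(0,0)
        rcases d34 with ⟨rfl, rfl⟩ | ⟨rfl, rfl⟩ | ⟨rfl, rfl⟩ | ⟨rfl, rfl⟩ | ⟨rfl, rfl⟩ | ⟨rfl, rfl⟩
        · -- 34=(0,0)
          exfalso; omega
        · -- 34=(1,1)
          exact False.elim (cert_false T ((skipEmb 2).trans (Function.Embedding.refl _)) (by norm_num) (fun _ => hall _) (((((LB_zero T ((skipEmb 2).trans (Function.Embedding.refl _))).upd 0 3 3 (le_of_eq hx04)).upd 2 3 1 (le_of_eq hx34)).upd 3 0 1 (le_of_eq hx40)).upd 3 2 1 (le_of_eq hx43)) ![3,0,1,2] (by decide) (by decide) 0 (by decide))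
        · -- 34=(1,2)
          exact False.elim (cert_false T ((skipEmb 2).trans (Function.Embedding.refl _)) (by norm_num) (fun _ => hall _) (((((LB_zero T ((skipEmb 2).trans (Function.Embedding.refl _))).upd 0 3 3 (le_of_eq hx04)).upd 2 3 1 (le_of_eq hx34)).upd 3 0 1 (le_of_eq hx40)).upd 3 2 2 (le_of_eq hx43)) ![2,0,1,2] (by decide) (by decide) 0 (by decide))
        · -- 34=(2,1)
          exact False.elim (cert_false T ((skipEmb 2).trans (Function.Embedding.refl _)) (by norm_num) (fun _ => hall _) (((((LB_zero T ((skipEmb 2).trans (Function.Embedding.refl _))).upd 0 3 3 (le_of_eq hx04)).upd 2 3 2 (le_of_eq hx34)).upd 3 0 1 (le_of_eq hx40)).upd 3 2 1 (le_of_eq hx43)) ![1,0,1,1] (by decide) (by decide) 0 (by decide))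
        · -- 34=(1,3)
          exact False.elim (cert_false T ((skipEmb 2).trans (Function.Embedding.refl _)) (by norm_num) (fun _ => hall _) (((((LB_zero T ((skipEmb 2).trans (Function.Embedding.refl _))).upd 0 3 3 (le_of_eq hx04)).upd 2 3 1 (le_of_eq hx34)).upd 3 0 1 (le_of_eq hx40)).upd 3 2 3 (le_of_eq hx43)) ![1,0,1,2] (by decide) (by decide) 0 (by decide))
        · -- 34=(3,1)
          exact False.elim (cert_false T ((skipEmb 2).trans (Function.Embedding.refl _)) (by norm_num) (fun _ => hall _) (((((LB_zero T ((skipEmb 2).trans (Function.Embedding.refl _))).upd 0 3 3 (le_of_eq hx04)).upd 2 3 3 (le_of_eq hx34)).upd 3 0 1 (le_of_eq hx40)).upd 3 2 1 (le_of_eq hx43)) ![1,0,1,1] (by decide) (by decide) 0 (by decide))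
      · -- 24=(1,1)
        exact False.elim (cert_false T ((skipEmb 3).trans (Function.Embedding.refl _)) (by norm_num) (fun _ => hall _) (((((LB_zero T ((skipEmb 3).trans (Function.Embedding.refl _))).upd 0 3 3 (le_of_eq hx04)).upd 2 3 1 (le_of_eq hx24)).upd 3 0 1 (le_of_eq hx40)).upd 3 2 1 (le_of_eq hx42)) ![3,0,1,2] (by decide) (by decide) 0 (by decide))
      · -- 24=(1,2)
        exact False.elim (cert_false T ((skipEmb 3).trans (Function.Embedding.refl _)) (by norm_num) (fun _ => hall _) (((((LB_zero T ((skipEmb 3).trans (Function.Embedding.refl _))).upd 0 3 3 (le_of_eq hx04)).upd 2 3 1 (le_of_eq hx24)).upd 3 0 1 (le_of_eq hx40)).upd 3 2 2 (le_of_eq hx42)) ![2,0,1,2] (by decide) (by decide) 0 (by decide))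
      · -- 24=(2,1)
        exact False.elim (cert_false T ((skipEmb 3).trans (Function.Embedding.refl _)) (by norm_num) (fun _ => hall _) (((((LB_zero T ((skipEmb 3).trans (Function.Embedding.refl _))).upd 0 3 3 (le_of_eq hx04)).upd 2 3 2 (le_of_eq hx24)).upd 3 0 1 (le_of_eq hx40)).upd 3 2 1 (le_of_eq hx42)) ![1,0,1,1] (by decide) (by decide) 0 (by decide))
      · -- 24=(1,3)
        exact False.elim (cert_false T ((skipEmb 3).trans (Function.Embedding.refl _)) (by norm_num) (fun _ => hall _) (((((LB_zero T ((skipEmb 3).trans (Function.Embedding.refl _))).upd 0 3 3 (le_of_eq hx04)).upd 2 3 1 (le_of_eq hx24)).upd 3 0 1 (le_of_eq hx40)).upd 3 2 3 (le_of_eq hx42)) ![1,0,1,2] (by decide) (by decide) 0 (by decide))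
      · -- 24=(3,1)
        exact False.elim (cert_false T ((skipEmb 3).trans (Function.Embedding.refl _)) (by norm_num) (fun _ => hall _) (((((LB_zero T ((skipEmb 3).trans (Function.Embedding.refl _))).upd 0 3 3 (le_of_eq hx04)).upd 2 3 3 (le_of_eq hx24)).upd 3 0 1 (le_of_eq hx40)).upd 3 2 1 (le_of_eq hx42)) ![1,0,1,1] (by decide) (by decide) 0 (by decide))
    · -- 14=(1,1)
      exact False.elim (cert_false T ((skipEmb 3).trans (Function.Embedding.refl _)) (by norm_num) (fun _ => hall _) (((((LB_zero T ((skipEmb 3).trans (Function.Embedding.refl _))).upd 0 3 3 (le_of_eq hx04)).upd 1 3 1 (le_of_eq hx14)).upd 3 0 1 (le_of_eq hx40)).upd 3 1 1 (le_of_eq hx41)) ![3,1,0,2] (by decide) (by decide) 0 (by decide))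
    · -- 14=(1,2)
      exact False.elim (cert_false T ((skipEmb 3).trans (Function.Embedding.refl _)) (by norm_num) (fun _ => hall _) (((((LB_zero T ((skipEmb 3).trans (Function.Embedding.refl _))).upd 0 3 3 (le_of_eq hx04)).upd 1 3 1 (le_of_eq hx14)).upd 3 0 1 (le_of_eq hx40)).upd 3 1 2 (le_of_eq hx41)) ![2,1,0,2] (by decide) (by decide) 0 (by decide))
    · -- 14=(2,1)
      exact False.elim (cert_false T ((skipEmb 3).trans (Function.Embedding.refl _)) (by norm_num) (fun _ => hall _) (((((LB_zero T ((skipEmb 3).trans (Function.Embedding.refl _))).upd 0 3 3 (le_of_eq hx04)).upd 1 3 2 (le_of_eq hx14)).upd 3 0 1 (le_of_eq hx40)).upd 3 1 1 (le_of_eq hx41)) ![1,1,0,1] (by decide) (by decide) 0 (by decide))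
    · -- 14=(1,3)
      exact False.elim (cert_false T ((skipEmb 3).trans (Function.Embedding.refl _)) (by norm_num) (fun _ => hall _) (((((LB_zero T ((skipEmb 3).trans (Function.Embedding.refl _))).upd 0 3 3 (le_of_eq hx04)).upd 1 3 1 (le_of_eq hx14)).upd 3 0 1 (le_of_eq hx40)).upd 3 1 3 (le_of_eq hx41)) ![1,1,0,2] (by decide) (by decide) 0 (by decide))
    · -- 14=(3,1)
      exact False.elim (cert_false T ((skipEmb 3).trans (Function.Embedding.refl _)) (by norm_num) (fun _ => hall _) (((((LB_zero T ((skipEmb 3).trans (Function.Embedding.refl _))).upd 0 3 3 (le_of_eq hx04)).upd 1 3 3 (le_of_eq hx14)).upd 3 0 1 (le_of_eq hx40)).upd 3 1 1 (le_of_eq hx41)) ![1,1,0,1] (by decide) (by decide) 0 (by decide))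

theorem case29 (T : NumericalType 5) (hall : ∀ i, T.IsMinusTwo i) (d : SData T)
    (h01 : N T (Function.Embedding.refl _) 0 1 = 0) (h10 : N T (Function.Embedding.refl _) 1 0 = 0)
    (h02 : N T (Function.Embedding.refl _) 0 2 = 0) (h20 : N T (Function.Embedding.refl _) 2 0 = 0)
    (h12 : N T (Function.Embedding.refl _) 1 2 = 0) (h21 : N T (Function.Embedding.refl _) 2 1 = 0)
    (h03 : N T (Function.Embedding.refl _) 0 3 = 0) (h30 : N T (Function.Embedding.refl _) 3 0 = 0)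
    (h13 : N T (Function.Embedding.refl _) 1 3 = 1) (h31 : N T (Function.Embedding.refl _) 3 1 = 1)
    (h23 : N T (Function.Embedding.refl _) 2 3 = 2) (h32 : N T (Function.Embedding.refl _) 3 2 = 1) :
    Goal T := by
  unfold Goal
  have hd := d
  obtain ⟨x01, x02, x03, x04, x10, x12, x13, x14, x20, x21, x23, x24, x30, x31, x32, x34, x40, x41, x42, x43, hx01, hx02, hx03, hx04, hx10, hx12, hx13, hx14, hx20, hx21, hx23, hx24, hx30, hx31, hx32, hx34, hx40, hx41, hx42, hx43, hw0, hm0, hw1, hm1, hw2, hm2, hw3, hm3, hw4, hm4, a00, a01, a02, a03, a04, a11, a10, a12, a13, a14, a22, a20, a21, a23, a24, a33, a30, a31, a32, a34, a44, a40, a41, a42, a43, wN01, wN02, wN12, wN03, wN13, wN23, wN04, wN14, wN24, wN34, e0, e1, e2, e3, e4, d01, d02, d12, d03, d13, d23, d04, d14, d24, d34⟩ := d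
  obtain rfl : x01 = 0 := hx01.trans h01
  obtain rfl : x10 = 0 := hx10.trans h10
  obtain rfl : x02 = 0 := hx02.trans h02
  obtain rfl : x20 = 0 := hx20.trans h20
  obtain rfl : x12 = 0 := hx12.trans h12
  obtain rfl : x21 = 0 := hx21.trans h21
  obtain rfl : x03 = 0 := hx03.trans h03
  obtain rfl : x30 = 0 := hx30.trans h30
  obtain rfl : x13 = 1 := hx13.trans h13
  obtain rfl : x31 = 1 := hx31.trans h31
  obtain rfl : x23 = 2 := hx23.trans h23
  obtain rfl : x32 = 1 := hx32.trans h32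
  rcases d04 with ⟨rfl, rfl⟩ | ⟨rfl, rfl⟩ | ⟨rfl, rfl⟩ | ⟨rfl, rfl⟩ | ⟨rfl, rfl⟩ | ⟨rfl, rfl⟩
  · -- 04=(0,0)
    rcases d14 with ⟨rfl, rfl⟩ | ⟨rfl, rfl⟩ | ⟨rfl, rfl⟩ | ⟨rfl, rfl⟩ | ⟨rfl, rfl⟩ | ⟨rfl, rfl⟩
    · -- 14=(0,0)
      rcases d24 with ⟨rfl, rfl⟩ | ⟨rfl, rfl⟩ | ⟨rfl, rfl⟩ | ⟨rfl, rfl⟩ | ⟨rfl, rfl⟩ | ⟨rfl, rfl⟩
      · -- 24=(0,0)
        rcases d34 with ⟨rfl, rfl⟩ | ⟨rfl, rfl⟩ | ⟨rfl, rfl⟩ | ⟨rfl, rfl⟩ | ⟨rfl, rfl⟩ | ⟨rfl, rfl⟩
        · -- 34=(0,0)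
          exfalso; omega
        · -- 34=(1,1)
          exact False.elim (cert_false T ((skipEmb 0).trans (Function.Embedding.refl _)) (by norm_num) (fun _ => hall _) (((((((LB_zero T ((skipEmb 0).trans (Function.Embedding.refl _))).upd 0 2 1 (le_of_eq hx13)).upd 1 2 2 (le_of_eq hx23)).upd 2 0 1 (le_of_eq hx31)).upd 2 1 1 (le_of_eq hx32)).upd 2 3 1 (le_of_eq hx34)).upd 3 2 1 (le_of_eq hx43)) ![1,2,2,1] (by decide) (by decide) 0 (by decide))
        · -- 34=(1,2)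
          exact False.elim (cert_false T ((skipEmb 1).trans (Function.Embedding.refl _)) (by norm_num) (fun _ => hall _) (((((LB_zero T ((skipEmb 1).trans (Function.Embedding.refl _))).upd 1 2 2 (le_of_eq hx23)).upd 2 1 1 (le_of_eq hx32)).upd 2 3 1 (le_of_eq hx34)).upd 3 2 2 (le_of_eq hx43)) ![0,1,1,1] (by decide) (by decide) 1 (by decide))
        · -- 34=(2,1)
          exact False.elim (cert_false T ((skipEmb 1).trans (Function.Embedding.refl _)) (by norm_num) (fun _ => hall _) (((((LB_zero T ((skipEmb 1).trans (Function.Embedding.refl _))).upd 1 2 2 (le_of_eq hx23)).upd 2 1 1 (le_of_eq hx32)).upd 2 3 2 (le_of_eq hx34)).upd 3 2 1 (le_of_eq hx43)) ![0,2,2,1] (by decide) (by decide) 1 (by decide))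
        · -- 34=(1,3)
          exact False.elim (cert_false T ((skipEmb 2).trans (Function.Embedding.refl _)) (by norm_num) (fun _ => hall _) (((((LB_zero T ((skipEmb 2).trans (Function.Embedding.refl _))).upd 1 2 1 (le_of_eq hx13)).upd 2 1 1 (le_of_eq hx31)).upd 2 3 1 (le_of_eq hx34)).upd 3 2 3 (le_of_eq hx43)) ![0,1,2,3] (by decide) (by decide) 1 (by decide))
        · -- 34=(3,1)
          exact False.elim (cert_false T ((skipEmb 2).trans (Function.Embedding.refl _)) (by norm_num) (fun _ => hall _) (((((LB_zero T ((skipEmb 2).trans (Function.Embedding.refl _))).upd 1 2 1 (le_of_eq hx13)).upd 2 1 1 (le_of_eq hx31)).upd 2 3 3 (le_of_eq hx34)).upd 3 2 1 (le_of_eq hx43)) ![0,1,2,1] (by decide) (by decide) 1 (by decide))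
      · -- 24=(1,1)
        rcases d34 with ⟨rfl, rfl⟩ | ⟨rfl, rfl⟩ | ⟨rfl, rfl⟩ | ⟨rfl, rfl⟩ | ⟨rfl, rfl⟩ | ⟨rfl, rfl⟩
        · -- 34=(0,0)
          exfalso; omega
        · -- 34=(1,1)
          exact False.elim (cert_false T ((skipEmb 1).trans (Function.Embedding.refl _)) (by norm_num) (fun _ => hall _) (((((((LB_zero T ((skipEmb 1).trans (Function.Embedding.refl _))).upd 1 2 2 (le_of_eq hx23)).upd 1 3 1 (le_of_eq hx24)).upd 2 1 1 (le_of_eq hx32)).upd 2 3 1 (le_of_eq hx34)).upd 3 1 1 (le_of_eq hx42)).upd 3 2 1 (le_of_eq hx43)) ![0,1,1,1] (by decide) (by decide) 1 (by decide))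
        · -- 34=(1,2)
          exact False.elim (cert_false T ((skipEmb 1).trans (Function.Embedding.refl _)) (by norm_num) (fun _ => hall _) (((((((LB_zero T ((skipEmb 1).trans (Function.Embedding.refl _))).upd 1 2 2 (le_of_eq hx23)).upd 1 3 1 (le_of_eq hx24)).upd 2 1 1 (le_of_eq hx32)).upd 2 3 1 (le_of_eq hx34)).upd 3 1 1 (le_of_eq hx42)).upd 3 2 2 (le_of_eq hx43)) ![0,1,1,1] (by decide) (by decide) 1 (by decide))
        · -- 34=(2,1)
          exact False.elim (cert_false T ((skipEmb 1).trans (Function.Embedding.refl _)) (by norm_num) (fun _ => hall _) (((((((LB_zero T ((skipEmb 1).trans (Function.Embedding.refl _))).upd 1 2 2 (le_of_eq hx23)).upd 1 3 1 (le_of_eq hx24)).upd 2 1 1 (le_of_eq hx32)).upd 2 3 2 (le_of_eq hx34)).upd 3 1 1 (le_of_eq hx42)).upd 3 2 1 (le_of_eq hx43)) ![0,1,1,1] (by decide) (by decide) 1 (by decide))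
        · -- 34=(1,3)
          exact False.elim (cert_false T ((skipEmb 2).trans (Function.Embedding.refl _)) (by norm_num) (fun _ => hall _) (((((LB_zero T ((skipEmb 2).trans (Function.Embedding.refl _))).upd 1 2 1 (le_of_eq hx13)).upd 2 1 1 (le_of_eq hx31)).upd 2 3 1 (le_of_eq hx34)).upd 3 2 3 (le_of_eq hx43)) ![0,1,2,3] (by decide) (by decide) 1 (by decide))
        · -- 34=(3,1)
          exact False.elim (cert_false T ((skipEmb 2).trans (Function.Embedding.refl _)) (by norm_num) (fun _ => hall _) (((((LB_zero T ((skipEmb 2).trans (Function.Embedding.refl _))).upd 1 2 1 (le_of_eq hx13)).upd 2 1 1 (le_of_eq hx31)).upd 2 3 3 (le_of_eq hx34)).upd 3 2 1 (le_of_eq hx43)) ![0,1,2,1] (by decide) (by decide) 1 (by decide))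
      · -- 24=(1,2)
        exact False.elim (cert_false T ((skipEmb 1).trans (Function.Embedding.refl _)) (by norm_num) (fun _ => hall _) (((((LB_zero T ((skipEmb 1).trans (Function.Embedding.refl _))).upd 1 2 2 (le_of_eq hx23)).upd 1 3 1 (le_of_eq hx24)).upd 2 1 1 (le_of_eq hx32)).upd 3 1 2 (le_of_eq hx42)) ![0,2,1,2] (by decide) (by decide) 1 (by decide))
      · -- 24=(2,1)
        exact False.elim (cert_false T ((skipEmb 1).trans (Function.Embedding.refl _)) (by norm_num) (fun _ => hall _) (((((LB_zero T ((skipEmb 1).trans (Function.Embedding.refl _))).upd 1 2 2 (le_of_eq hx23)).upd 1 3 2 (le_of_eq hx24)).upd 2 1 1 (le_of_eq hx32)).upd 3 1 1 (le_of_eq hx42)) ![0,2,1,1] (by decide) (by decide) 1 (by decide))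
      · -- 24=(1,3)
        exact False.elim (cert_false T ((skipEmb 1).trans (Function.Embedding.refl _)) (by norm_num) (fun _ => hall _) (((((LB_zero T ((skipEmb 1).trans (Function.Embedding.refl _))).upd 1 2 2 (le_of_eq hx23)).upd 1 3 1 (le_of_eq hx24)).upd 2 1 1 (le_of_eq hx32)).upd 3 1 3 (le_of_eq hx42)) ![0,2,1,2] (by decide) (by decide) 1 (by decide))
      · -- 24=(3,1)
        exact False.elim (cert_false T ((skipEmb 1).trans (Function.Embedding.refl _)) (by norm_num) (fun _ => hall _) (((((LB_zero T ((skipEmb 1).trans (Function.Embedding.refl _))).upd 1 2 2 (le_of_eq hx23)).upd 1 3 3 (le_of_eq hx24)).upd 2 1 1 (le_of_eq hx32)).upd 3 1 1 (le_of_eq hx42)) ![0,2,1,1] (by decide) (by decide) 1 (by decide))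
    · -- 14=(1,1)
      rcases d24 with ⟨rfl, rfl⟩ | ⟨rfl, rfl⟩ | ⟨rfl, rfl⟩ | ⟨rfl, rfl⟩ | ⟨rfl, rfl⟩ | ⟨rfl, rfl⟩
      · -- 24=(0,0)
        rcases d34 with ⟨rfl, rfl⟩ | ⟨rfl, rfl⟩ | ⟨rfl, rfl⟩ | ⟨rfl, rfl⟩ | ⟨rfl, rfl⟩ | ⟨rfl, rfl⟩
        · -- 34=(0,0)
          exfalso; omega
        · -- 34=(1,1)
          exact False.elim (cert_false T ((skipEmb 2).trans (Function.Embedding.refl _)) (by norm_num) (fun _ => hall _) (((((((LB_zero T ((skipEmb 2).trans (Function.Embedding.refl _))).upd 1 2 1 (le_of_eq hx13)).upd 1 3 1 (le_of_eq hx14)).upd 2 1 1 (le_of_eq hx31)).upd 2 3 1 (le_of_eq hx34)).upd 3 1 1 (le_of_eq hx41)).upd 3 2 1 (le_of_eq hx43)) ![0,1,1,1] (by decide) (by decide) 1 (by decide))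
        · -- 34=(1,2)
          exact False.elim (cert_false T ((skipEmb 2).trans (Function.Embedding.refl _)) (by norm_num) (fun _ => hall _) (((((((LB_zero T ((skipEmb 2).trans (Function.Embedding.refl _))).upd 1 2 1 (le_of_eq hx13)).upd 1 3 1 (le_of_eq hx14)).upd 2 1 1 (le_of_eq hx31)).upd 2 3 1 (le_of_eq hx34)).upd 3 1 1 (le_of_eq hx41)).upd 3 2 2 (le_of_eq hx43)) ![0,1,1,1] (by decide) (by decide) 1 (by decide))
        · -- 34=(2,1)
          exact False.elim (cert_false T ((skipEmb 2).trans (Function.Embedding.refl _)) (by norm_num) (fun _ => hall _) (((((((LB_zero T ((skipEmb 2).trans (Function.Embedding.refl _))).upd 1 2 1 (le_of_eq hx13)).upd 1 3 1 (le_of_eq hx14)).upd 2 1 1 (le_of_eq hx31)).upd 2 3 2 (le_of_eq hx34)).upd 3 1 1 (le_of_eq hx41)).upd 3 2 1 (le_of_eq hx43)) ![0,1,1,1] (by decide) (by decide) 1 (by decide))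
        · -- 34=(1,3)
          exact False.elim (cert_false T ((skipEmb 2).trans (Function.Embedding.refl _)) (by norm_num) (fun _ => hall _) (((((((LB_zero T ((skipEmb 2).trans (Function.Embedding.refl _))).upd 1 2 1 (le_of_eq hx13)).upd 1 3 1 (le_of_eq hx14)).upd 2 1 1 (le_of_eq hx31)).upd 2 3 1 (le_of_eq hx34)).upd 3 1 1 (le_of_eq hx41)).upd 3 2 3 (le_of_eq hx43)) ![0,1,1,1] (by decide) (by decide) 1 (by decide))
        · -- 34=(3,1)
          exact False.elim (cert_false T ((skipEmb 2).trans (Function.Embedding.refl _)) (by norm_num) (fun _ => hall _) (((((((LB_zero T ((skipEmb 2).trans (Function.Embedding.refl _))).upd 1 2 1 (le_of_eq hx13)).upd 1 3 1 (le_of_eq hx14)).upd 2 1 1 (le_of_eq hx31)).upd 2 3 3 (le_of_eq hx34)).upd 3 1 1 (le_of_eq hx41)).upd 3 2 1 (le_of_eq hx43)) ![0,1,1,1] (by decide) (by decide) 1 (by decide))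
      · -- 24=(1,1)
        exact False.elim (cert_false T ((skipEmb 0).trans (Function.Embedding.refl _)) (by norm_num) (fun _ => hall _) (((((((((LB_zero T ((skipEmb 0).trans (Function.Embedding.refl _))).upd 0 2 1 (le_of_eq hx13)).upd 0 3 1 (le_of_eq hx14)).upd 1 2 2 (le_of_eq hx23)).upd 1 3 1 (le_of_eq hx24)).upd 2 0 1 (le_of_eq hx31)).upd 2 1 1 (le_of_eq hx32)).upd 3 0 1 (le_of_eq hx41)).upd 3 1 1 (le_of_eq hx42)) ![1,1,1,1] (by decide) (by decide) 0 (by decide))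
      · -- 24=(1,2)
        exact False.elim (cert_false T ((skipEmb 1).trans (Function.Embedding.refl _)) (by norm_num) (fun _ => hall _) (((((LB_zero T ((skipEmb 1).trans (Function.Embedding.refl _))).upd 1 2 2 (le_of_eq hx23)).upd 1 3 1 (le_of_eq hx24)).upd 2 1 1 (le_of_eq hx32)).upd 3 1 2 (le_of_eq hx42)) ![0,2,1,2] (by decide) (by decide) 1 (by decide))
      · -- 24=(2,1)
        exact False.elim (cert_false T ((skipEmb 1).trans (Function.Embedding.refl _)) (by norm_num) (fun _ => hall _) (((((LB_zero T ((skipEmb 1).trans (Function.Embedding.refl _))).upd 1 2 2 (le_of_eq hx23)).upd 1 3 2 (le_of_eq hx24)).upd 2 1 1 (le_of_eq hx32)).upd 3 1 1 (le_of_eq hx42)) ![0,2,1,1] (by decide) (by decide) 1 (by decide))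
      · -- 24=(1,3)
        exact False.elim (cert_false T ((skipEmb 3).trans (Function.Embedding.refl _)) (by norm_num) (fun _ => hall _) (((((LB_zero T ((skipEmb 3).trans (Function.Embedding.refl _))).upd 1 3 1 (le_of_eq hx14)).upd 2 3 1 (le_of_eq hx24)).upd 3 1 1 (le_of_eq hx41)).upd 3 2 3 (le_of_eq hx42)) ![0,1,1,2] (by decide) (by decide) 1 (by decide))
      · -- 24=(3,1)
        exact False.elim (cert_false T ((skipEmb 3).trans (Function.Embedding.refl _)) (by norm_num) (fun _ => hall _) (((((LB_zero T ((skipEmb 3).trans (Function.Embedding.refl _))).upd 1 3 1 (le_of_eq hx14)).upd 2 3 3 (le_of_eq hx24)).upd 3 1 1 (le_of_eq hx41)).upd 3 2 1 (le_of_eq hx42)) ![0,1,3,2] (by decide) (by decide) 1 (by decide))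
    · -- 14=(1,2)
      exact False.elim (cert_false T ((skipEmb 0).trans (Function.Embedding.refl _)) (by norm_num) (fun _ => hall _) (((((((LB_zero T ((skipEmb 0).trans (Function.Embedding.refl _))).upd 0 2 1 (le_of_eq hx13)).upd 0 3 1 (le_of_eq hx14)).upd 1 2 2 (le_of_eq hx23)).upd 2 0 1 (le_of_eq hx31)).upd 2 1 1 (le_of_eq hx32)).upd 3 0 2 (le_of_eq hx41)) ![1,1,1,1] (by decide) (by decide) 0 (by decide))
    · -- 14=(2,1)
      exact False.elim (cert_false T ((skipEmb 0).trans (Function.Embedding.refl _)) (by norm_num) (fun _ => hall _) (((((((LB_zero T ((skipEmb 0).trans (Function.Embedding.refl _))).upd 0 2 1 (le_of_eq hx13)).upd 0 3 2 (le_of_eq hx14)).upd 1 2 2 (le_of_eq hx23)).upd 2 0 1 (le_of_eq hx31)).upd 2 1 1 (le_of_eq hx32)).upd 3 0 1 (le_of_eq hx41)) ![2,2,2,1] (by decide) (by decide) 0 (by decide))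
    · -- 14=(1,3)
      exact False.elim (cert_false T ((skipEmb 2).trans (Function.Embedding.refl _)) (by norm_num) (fun _ => hall _) (((((LB_zero T ((skipEmb 2).trans (Function.Embedding.refl _))).upd 1 2 1 (le_of_eq hx13)).upd 1 3 1 (le_of_eq hx14)).upd 2 1 1 (le_of_eq hx31)).upd 3 1 3 (le_of_eq hx41)) ![0,2,1,3] (by decide) (by decide) 1 (by decide))
    · -- 14=(3,1)
      exact False.elim (cert_false T ((skipEmb 2).trans (Function.Embedding.refl _)) (by norm_num) (fun _ => hall _) (((((LB_zero T ((skipEmb 2).trans (Function.Embedding.refl _))).upd 1 2 1 (le_of_eq hx13)).upd 1 3 3 (le_of_eq hx14)).upd 2 1 1 (le_of_eq hx31)).upd 3 1 1 (le_of_eq hx41)) ![0,2,1,1] (by decide) (by decide) 1 (by decide))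
  · -- 04=(1,1)
    rcases d14 with ⟨rfl, rfl⟩ | ⟨rfl, rfl⟩ | ⟨rfl, rfl⟩ | ⟨rfl, rfl⟩ | ⟨rfl, rfl⟩ | ⟨rfl, rfl⟩
    · -- 14=(0,0)
      rcases d24 with ⟨rfl, rfl⟩ | ⟨rfl, rfl⟩ | ⟨rfl, rfl⟩ | ⟨rfl, rfl⟩ | ⟨rfl, rfl⟩ | ⟨rfl, rfl⟩
      · -- 24=(0,0)
        rcases d34 with ⟨rfl, rfl⟩ | ⟨rfl, rfl⟩ | ⟨rfl, rfl⟩ | ⟨rfl, rfl⟩ | ⟨rfl, rfl⟩ | ⟨rfl, rfl⟩
        · -- 34=(0,0)
          exfalso; omega
        · -- 34=(1,1)
          exact False.elim (cert_false T ((skipEmb 0).trans (Function.Embedding.refl _)) (by norm_num) (fun _ => hall _) (((((((LB_zero T ((skipEmb 0).trans (Function.Embedding.refl _))).upd 0 2 1 (le_of_eq hx13)).upd 1 2 2 (le_of_eq hx23)).upd 2 0 1 (le_of_eq hx31)).upd 2 1 1 (le_of_eq hx32)).upd 2 3 1 (le_of_eq hx34)).upd 3 2 1 (le_of_eq hx43)) ![1,2,2,1] (by decide) (by decide) 0 (by decide))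
        · -- 34=(1,2)
          exact False.elim (cert_false T ((skipEmb 1).trans (Function.Embedding.refl _)) (by norm_num) (fun _ => hall _) (((((LB_zero T ((skipEmb 1).trans (Function.Embedding.refl _))).upd 1 2 2 (le_of_eq hx23)).upd 2 1 1 (le_of_eq hx32)).upd 2 3 1 (le_of_eq hx34)).upd 3 2 2 (le_of_eq hx43)) ![0,1,1,1] (by decide) (by decide) 1 (by decide))
        · -- 34=(2,1)
          exact False.elim (cert_false T ((skipEmb 1).trans (Function.Embedding.refl _)) (by norm_num) (fun _ => hall _) (((((LB_zero T ((skipEmb 1).trans (Function.Embedding.refl _))).upd 1 2 2 (le_of_eq hx23)).upd 2 1 1 (le_of_eq hx32)).upd 2 3 2 (le_of_eq hx34)).upd 3 2 1 (le_of_eq hx43)) ![0,2,2,1] (by decide) (by decide) 1 (by decide))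
        · -- 34=(1,3)
          exact False.elim (cert_false T ((skipEmb 2).trans (Function.Embedding.refl _)) (by norm_num) (fun _ => hall _) (((((LB_zero T ((skipEmb 2).trans (Function.Embedding.refl _))).upd 0 3 1 (le_of_eq hx04)).upd 2 3 1 (le_of_eq hx34)).upd 3 0 1 (le_of_eq hx40)).upd 3 2 3 (le_of_eq hx43)) ![1,0,1,2] (by decide) (by decide) 0 (by decide))
        · -- 34=(3,1)
          exact False.elim (cert_false T ((skipEmb 2).trans (Function.Embedding.refl _)) (by norm_num) (fun _ => hall _) (((((LB_zero T ((skipEmb 2).trans (Function.Embedding.refl _))).upd 1 2 1 (le_of_eq hx13)).upd 2 1 1 (le_of_eq hx31)).upd 2 3 3 (le_of_eq hx34)).upd 3 2 1 (le_of_eq hx43)) ![0,1,2,1] (by decide) (by decide) 1 (by decide))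
      · -- 24=(1,1)
        rcases d34 with ⟨rfl, rfl⟩ | ⟨rfl, rfl⟩ | ⟨rfl, rfl⟩ | ⟨rfl, rfl⟩ | ⟨rfl, rfl⟩ | ⟨rfl, rfl⟩
        · -- 34=(0,0)
          refine ⟨(⟨![0, 4, 2, 3, 1], ![0, 4, 2, 3, 1], by decide, by decide⟩ : Equiv.Perm (Fin 5)), T.m 0, T.w 0, Or.inr (Or.inl ?_)⟩
          show T.m 0 = T.m 0 ∧ T.m 4 = 2 * T.m 0 ∧ T.m 2 = 3 * T.m 0 ∧ T.m 3 = 2 * T.m 0 ∧ T.m 1 = T.m 0 ∧ T.w 0 = T.w 0 ∧ T.w 4 = T.w 0 ∧ T.w 2 = T.w 0 ∧ T.w 3 = 2 * T.w 0 ∧ T.w 1 = 2 * T.w 0 ∧ T.a 0 0 = -2 * T.w 0 ∧ T.a 0 4 = T.w 0 ∧ T.a 0 2 = 0 ∧ T.a 0 3 = 0 ∧ T.a 0 1 = 0 ∧ T.a 4 4 = -2 * T.w 0 ∧ T.a 4 2 = T.w 0 ∧ T.a 4 3 = 0 ∧ T.a 4 1 = 0 ∧ T.a 2 2 = -2 * T.w 0 ∧ T.a 2 3 = 2 * T.w 0 ∧ T.a 2 1 = 0 ∧ T.a 3 3 = -4 * T.w 0 ∧ T.a 3 1 = 2 * T.w 0 ∧ T.a 1 1 = -4 * T.w 0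
          refine ⟨?_, ?_, ?_, ?_, ?_, ?_, ?_, ?_, ?_, ?_, ?_, ?_, ?_, ?_, ?_, ?_, ?_, ?_, ?_, ?_, ?_, ?_, ?_, ?_, ?_⟩ <;> omega
        · -- 34=(1,1)
          exact False.elim (cert_false T ((skipEmb 1).trans (Function.Embedding.refl _)) (by norm_num) (fun _ => hall _) (((((((LB_zero T ((skipEmb 1).trans (Function.Embedding.refl _))).upd 1 2 2 (le_of_eq hx23)).upd 1 3 1 (le_of_eq hx24)).upd 2 1 1 (le_of_eq hx32)).upd 2 3 1 (le_of_eq hx34)).upd 3 1 1 (le_of_eq hx42)).upd 3 2 1 (le_of_eq hx43)) ![0,1,1,1] (by decide) (by decide) 1 (by decide))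
        · -- 34=(1,2)
          exact False.elim (cert_false T ((skipEmb 1).trans (Function.Embedding.refl _)) (by norm_num) (fun _ => hall _) (((((((LB_zero T ((skipEmb 1).trans (Function.Embedding.refl _))).upd 1 2 2 (le_of_eq hx23)).upd 1 3 1 (le_of_eq hx24)).upd 2 1 1 (le_of_eq hx32)).upd 2 3 1 (le_of_eq hx34)).upd 3 1 1 (le_of_eq hx42)).upd 3 2 2 (le_of_eq hx43)) ![0,1,1,1] (by decide) (by decide) 1 (by decide))
        · -- 34=(2,1)
          exact False.elim (cert_false T ((skipEmb 1).trans (Function.Embedding.refl _)) (by norm_num) (fun _ => hall _) (((((((LB_zero T ((skipEmb 1).trans (Function.Embedding.refl _))).upd 1 2 2 (le_of_eq hx23)).upd 1 3 1 (le_of_eq hx24)).upd 2 1 1 (le_of_eq hx32)).upd 2 3 2 (le_of_eq hx34)).upd 3 1 1 (le_of_eq hx42)).upd 3 2 1 (le_of_eq hx43)) ![0,1,1,1] (by decide) (by decide) 1 (by decide))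
        · -- 34=(1,3)
          exact False.elim (cert_false T ((skipEmb 2).trans (Function.Embedding.refl _)) (by norm_num) (fun _ => hall _) (((((LB_zero T ((skipEmb 2).trans (Function.Embedding.refl _))).upd 0 3 1 (le_of_eq hx04)).upd 2 3 1 (le_of_eq hx34)).upd 3 0 1 (le_of_eq hx40)).upd 3 2 3 (le_of_eq hx43)) ![1,0,1,2] (by decide) (by decide) 0 (by decide))
        · -- 34=(3,1)
          exact False.elim (cert_false T ((skipEmb 2).trans (Function.Embedding.refl _)) (by norm_num) (fun _ => hall _) (((((LB_zero T ((skipEmb 2).trans (Function.Embedding.refl _))).upd 1 2 1 (le_of_eq hx13)).upd 2 1 1 (le_of_eq hx31)).upd 2 3 3 (le_of_eq hx34)).upd 3 2 1 (le_of_eq hx43)) ![0,1,2,1] (by decide) (by decide) 1 (by decide))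
      · -- 24=(1,2)
        exact False.elim (cert_false T ((skipEmb 1).trans (Function.Embedding.refl _)) (by norm_num) (fun _ => hall _) (((((LB_zero T ((skipEmb 1).trans (Function.Embedding.refl _))).upd 1 2 2 (le_of_eq hx23)).upd 1 3 1 (le_of_eq hx24)).upd 2 1 1 (le_of_eq hx32)).upd 3 1 2 (le_of_eq hx42)) ![0,2,1,2] (by decide) (by decide) 1 (by decide))
      · -- 24=(2,1)
        exact False.elim (cert_false T ((skipEmb 1).trans (Function.Embedding.refl _)) (by norm_num) (fun _ => hall _) (((((LB_zero T ((skipEmb 1).trans (Function.Embedding.refl _))).upd 1 2 2 (le_of_eq hx23)).upd 1 3 2 (le_of_eq hx24)).upd 2 1 1 (le_of_eq hx32)).upd 3 1 1 (le_of_eq hx42)) ![0,2,1,1] (by decide) (by decide) 1 (by decide))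
      · -- 24=(1,3)
        exact False.elim (cert_false T ((skipEmb 3).trans (Function.Embedding.refl _)) (by norm_num) (fun _ => hall _) (((((LB_zero T ((skipEmb 3).trans (Function.Embedding.refl _))).upd 0 3 1 (le_of_eq hx04)).upd 2 3 1 (le_of_eq hx24)).upd 3 0 1 (le_of_eq hx40)).upd 3 2 3 (le_of_eq hx42)) ![1,0,1,2] (by decide) (by decide) 0 (by decide))
      · -- 24=(3,1)
        exact False.elim (cert_false T ((skipEmb 3).trans (Function.Embedding.refl _)) (by norm_num) (fun _ => hall _) (((((LB_zero T ((skipEmb 3).trans (Function.Embedding.refl _))).upd 0 3 1 (le_of_eq hx04)).upd 2 3 3 (le_of_eq hx24)).upd 3 0 1 (le_of_eq hx40)).upd 3 2 1 (le_of_eq hx42)) ![1,0,3,2] (by decide) (by decide) 0 (by decide))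
    · -- 14=(1,1)
      rcases d24 with ⟨rfl, rfl⟩ | ⟨rfl, rfl⟩ | ⟨rfl, rfl⟩ | ⟨rfl, rfl⟩ | ⟨rfl, rfl⟩ | ⟨rfl, rfl⟩
      · -- 24=(0,0)
        rcases d34 with ⟨rfl, rfl⟩ | ⟨rfl, rfl⟩ | ⟨rfl, rfl⟩ | ⟨rfl, rfl⟩ | ⟨rfl, rfl⟩ | ⟨rfl, rfl⟩
        · -- 34=(0,0)
          exfalso; omega
        · -- 34=(1,1)
          exact False.elim (cert_false T ((skipEmb 2).trans (Function.Embedding.refl _)) (by norm_num) (fun _ => hall _) (((((((LB_zero T ((skipEmb 2).trans (Function.Embedding.refl _))).upd 1 2 1 (le_of_eq hx13)).upd 1 3 1 (le_of_eq hx14)).upd 2 1 1 (le_of_eq hx31)).upd 2 3 1 (le_of_eq hx34)).upd 3 1 1 (le_of_eq hx41)).upd 3 2 1 (le_of_eq hx43)) ![0,1,1,1] (by decide) (by decide) 1 (by decide))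
        · -- 34=(1,2)
          exact False.elim (cert_false T ((skipEmb 2).trans (Function.Embedding.refl _)) (by norm_num) (fun _ => hall _) (((((((LB_zero T ((skipEmb 2).trans (Function.Embedding.refl _))).upd 1 2 1 (le_of_eq hx13)).upd 1 3 1 (le_of_eq hx14)).upd 2 1 1 (le_of_eq hx31)).upd 2 3 1 (le_of_eq hx34)).upd 3 1 1 (le_of_eq hx41)).upd 3 2 2 (le_of_eq hx43)) ![0,1,1,1] (by decide) (by decide) 1 (by decide))
        · -- 34=(2,1)
          exact False.elim (cert_false T ((skipEmb 2).trans (Function.Embedding.refl _)) (by norm_num) (fun _ => hall _) (((((((LB_zero T ((skipEmb 2).trans (Function.Embedding.refl _))).upd 1 2 1 (le_of_eq hx13)).upd 1 3 1 (le_of_eq hx14)).upd 2 1 1 (le_of_eq hx31)).upd 2 3 2 (le_of_eq hx34)).upd 3 1 1 (le_of_eq hx41)).upd 3 2 1 (le_of_eq hx43)) ![0,1,1,1] (by decide) (by decide) 1 (by decide))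
        · -- 34=(1,3)
          exact False.elim (cert_false T ((skipEmb 2).trans (Function.Embedding.refl _)) (by norm_num) (fun _ => hall _) (((((((LB_zero T ((skipEmb 2).trans (Function.Embedding.refl _))).upd 1 2 1 (le_of_eq hx13)).upd 1 3 1 (le_of_eq hx14)).upd 2 1 1 (le_of_eq hx31)).upd 2 3 1 (le_of_eq hx34)).upd 3 1 1 (le_of_eq hx41)).upd 3 2 3 (le_of_eq hx43)) ![0,1,1,1] (by decide) (by decide) 1 (by decide))
        · -- 34=(3,1)
          exact False.elim (cert_false T ((skipEmb 2).trans (Function.Embedding.refl _)) (by norm_num) (fun _ => hall _) (((((((LB_zero T ((skipEmb 2).trans (Function.Embedding.refl _))).upd 1 2 1 (le_of_eq hx13)).upd 1 3 1 (le_of_eq hx14)).upd 2 1 1 (le_of_eq hx31)).upd 2 3 3 (le_of_eq hx34)).upd 3 1 1 (le_of_eq hx41)).upd 3 2 1 (le_of_eq hx43)) ![0,1,1,1] (by decide) (by decide) 1 (by decide))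
      · -- 24=(1,1)
        exact False.elim (cert_false T ((skipEmb 0).trans (Function.Embedding.refl _)) (by norm_num) (fun _ => hall _) (((((((((LB_zero T ((skipEmb 0).trans (Function.Embedding.refl _))).upd 0 2 1 (le_of_eq hx13)).upd 0 3 1 (le_of_eq hx14)).upd 1 2 2 (le_of_eq hx23)).upd 1 3 1 (le_of_eq hx24)).upd 2 0 1 (le_of_eq hx31)).upd 2 1 1 (le_of_eq hx32)).upd 3 0 1 (le_of_eq hx41)).upd 3 1 1 (le_of_eq hx42)) ![1,1,1,1] (by decide) (by decide) 0 (by decide))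
      · -- 24=(1,2)
        exact False.elim (cert_false T ((skipEmb 3).trans (Function.Embedding.refl _)) (by norm_num) (fun _ => hall _) (((((((LB_zero T ((skipEmb 3).trans (Function.Embedding.refl _))).upd 0 3 1 (le_of_eq hx04)).upd 1 3 1 (le_of_eq hx14)).upd 2 3 1 (le_of_eq hx24)).upd 3 0 1 (le_of_eq hx40)).upd 3 1 1 (le_of_eq hx41)).upd 3 2 2 (le_of_eq hx42)) ![1,1,1,2] (by decide) (by decide) 0 (by decide))
      · -- 24=(2,1)
        exact False.elim (cert_false T ((skipEmb 3).trans (Function.Embedding.refl _)) (by norm_num) (fun _ => hall _) (((((((LB_zero T ((skipEmb 3).trans (Function.Embedding.refl _))).upd 0 3 1 (le_of_eq hx04)).upd 1 3 1 (le_of_eq hx14)).upd 2 3 2 (le_of_eq hx24)).upd 3 0 1 (le_of_eq hx40)).upd 3 1 1 (le_of_eq hx41)).upd 3 2 1 (le_of_eq hx42)) ![1,1,2,2] (by decide) (by decide) 0 (by decide))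
      · -- 24=(1,3)
        exact False.elim (cert_false T ((skipEmb 3).trans (Function.Embedding.refl _)) (by norm_num) (fun _ => hall _) (((((LB_zero T ((skipEmb 3).trans (Function.Embedding.refl _))).upd 1 3 1 (le_of_eq hx14)).upd 2 3 1 (le_of_eq hx24)).upd 3 1 1 (le_of_eq hx41)).upd 3 2 3 (le_of_eq hx42)) ![0,1,1,2] (by decide) (by decide) 1 (by decide))
      · -- 24=(3,1)
        exact False.elim (cert_false T ((skipEmb 3).trans (Function.Embedding.refl _)) (by norm_num) (fun _ => hall _) (((((((LB_zero T ((skipEmb 3).trans (Function.Embedding.refl _))).upd 0 3 1 (le_of_eq hx04)).upd 1 3 1 (le_of_eq hx14)).upd 2 3 3 (le_of_eq hx24)).upd 3 0 1 (le_of_eq hx40)).upd 3 1 1 (le_of_eq hx41)).upd 3 2 1 (le_of_eq hx42)) ![1,1,2,2] (by decide) (by decide) 0 (by decide))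
    · -- 14=(1,2)
      exact False.elim (cert_false T ((skipEmb 0).trans (Function.Embedding.refl _)) (by norm_num) (fun _ => hall _) (((((((LB_zero T ((skipEmb 0).trans (Function.Embedding.refl _))).upd 0 2 1 (le_of_eq hx13)).upd 0 3 1 (le_of_eq hx14)).upd 1 2 2 (le_of_eq hx23)).upd 2 0 1 (le_of_eq hx31)).upd 2 1 1 (le_of_eq hx32)).upd 3 0 2 (le_of_eq hx41)) ![1,1,1,1] (by decide) (by decide) 0 (by decide))
    · -- 14=(2,1)
      exact False.elim (cert_false T ((skipEmb 0).trans (Function.Embedding.refl _)) (by norm_num) (fun _ => hall _) (((((((LB_zero T ((skipEmb 0).trans (Function.Embedding.refl _))).upd 0 2 1 (le_of_eq hx13)).upd 0 3 2 (le_of_eq hx14)).upd 1 2 2 (le_of_eq hx23)).upd 2 0 1 (le_of_eq hx31)).upd 2 1 1 (le_of_eq hx32)).upd 3 0 1 (le_of_eq hx41)) ![2,2,2,1] (by decide) (by decide) 0 (by decide))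
    · -- 14=(1,3)
      exact False.elim (cert_false T ((skipEmb 3).trans (Function.Embedding.refl _)) (by norm_num) (fun _ => hall _) (((((LB_zero T ((skipEmb 3).trans (Function.Embedding.refl _))).upd 0 3 1 (le_of_eq hx04)).upd 1 3 1 (le_of_eq hx14)).upd 3 0 1 (le_of_eq hx40)).upd 3 1 3 (le_of_eq hx41)) ![1,1,0,2] (by decide) (by decide) 0 (by decide))
    · -- 14=(3,1)
      exact False.elim (cert_false T ((skipEmb 3).trans (Function.Embedding.refl _)) (by norm_num) (fun _ => hall _) (((((LB_zero T ((skipEmb 3).trans (Function.Embedding.refl _))).upd 0 3 1 (le_of_eq hx04)).upd 1 3 3 (le_of_eq hx14)).upd 3 0 1 (le_of_eq hx40)).upd 3 1 1 (le_of_eq hx41)) ![1,3,0,2] (by decide) (by decide) 0 (by decide))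
  · -- 04=(1,2)
    rcases d14 with ⟨rfl, rfl⟩ | ⟨rfl, rfl⟩ | ⟨rfl, rfl⟩ | ⟨rfl, rfl⟩ | ⟨rfl, rfl⟩ | ⟨rfl, rfl⟩
    · -- 14=(0,0)
      rcases d24 with ⟨rfl, rfl⟩ | ⟨rfl, rfl⟩ | ⟨rfl, rfl⟩ | ⟨rfl, rfl⟩ | ⟨rfl, rfl⟩ | ⟨rfl, rfl⟩
      · -- 24=(0,0)
        rcases d34 with ⟨rfl, rfl⟩ | ⟨rfl, rfl⟩ | ⟨rfl, rfl⟩ | ⟨rfl, rfl⟩ | ⟨rfl, rfl⟩ | ⟨rfl, rfl⟩
        · -- 34=(0,0)
          exfalso; omega
        · -- 34=(1,1)
          exact False.elim (cert_false T ((skipEmb 1).trans (Function.Embedding.refl _)) (by norm_num) (fun _ => hall _) (((((((LB_zero T ((skipEmb 1).trans (Function.Embedding.refl _))).upd 0 3 1 (le_of_eq hx04)).upd 1 2 2 (le_of_eq hx23)).upd 2 1 1 (le_of_eq hx32)).upd 2 3 1 (le_of_eq hx34)).upd 3 0 2 (le_of_eq hx40)).upd 3 2 1 (le_of_eq hx43)) ![1,2,2,2] (by decide) (by decide) 0 (by decide))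
        · -- 34=(1,2)
          exact False.elim (cert_false T ((skipEmb 2).trans (Function.Embedding.refl _)) (by norm_num) (fun _ => hall _) (((((LB_zero T ((skipEmb 2).trans (Function.Embedding.refl _))).upd 0 3 1 (le_of_eq hx04)).upd 2 3 1 (le_of_eq hx34)).upd 3 0 2 (le_of_eq hx40)).upd 3 2 2 (le_of_eq hx43)) ![1,0,1,2] (by decide) (by decide) 0 (by decide))
        · -- 34=(2,1)
          exact False.elim (cert_false T ((skipEmb 2).trans (Function.Embedding.refl _)) (by norm_num) (fun _ => hall _) (((((LB_zero T ((skipEmb 2).trans (Function.Embedding.refl _))).upd 0 3 1 (le_of_eq hx04)).upd 2 3 2 (le_of_eq hx34)).upd 3 0 2 (le_of_eq hx40)).upd 3 2 1 (le_of_eq hx43)) ![1,0,2,2] (by decide) (by decide) 0 (by decide))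
        · -- 34=(1,3)
          exact False.elim (cert_false T ((skipEmb 2).trans (Function.Embedding.refl _)) (by norm_num) (fun _ => hall _) (((((LB_zero T ((skipEmb 2).trans (Function.Embedding.refl _))).upd 0 3 1 (le_of_eq hx04)).upd 2 3 1 (le_of_eq hx34)).upd 3 0 2 (le_of_eq hx40)).upd 3 2 3 (le_of_eq hx43)) ![1,0,1,2] (by decide) (by decide) 0 (by decide))
        · -- 34=(3,1)
          exact False.elim (cert_false T ((skipEmb 2).trans (Function.Embedding.refl _)) (by norm_num) (fun _ => hall _) (((((LB_zero T ((skipEmb 2).trans (Function.Embedding.refl _))).upd 0 3 1 (le_of_eq hx04)).upd 2 3 3 (le_of_eq hx34)).upd 3 0 2 (le_of_eq hx40)).upd 3 2 1 (le_of_eq hx43)) ![1,0,2,2] (by decide) (by decide) 0 (by decide))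
      · -- 24=(1,1)
        exact False.elim (cert_false T ((skipEmb 1).trans (Function.Embedding.refl _)) (by norm_num) (fun _ => hall _) (((((((LB_zero T ((skipEmb 1).trans (Function.Embedding.refl _))).upd 0 3 1 (le_of_eq hx04)).upd 1 2 2 (le_of_eq hx23)).upd 1 3 1 (le_of_eq hx24)).upd 2 1 1 (le_of_eq hx32)).upd 3 0 2 (le_of_eq hx40)).upd 3 1 1 (le_of_eq hx42)) ![1,2,1,2] (by decide) (by decide) 0 (by decide))
      · -- 24=(1,2)
        exact False.elim (cert_false T ((skipEmb 3).trans (Function.Embedding.refl _)) (by norm_num) (fun _ => hall _) (((((LB_zero T ((skipEmb 3).trans (Function.Embedding.refl _))).upd 0 3 1 (le_of_eq hx04)).upd 2 3 1 (le_of_eq hx24)).upd 3 0 2 (le_of_eq hx40)).upd 3 2 2 (le_of_eq hx42)) ![1,0,1,2] (by decide) (by decide) 0 (by decide))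
      · -- 24=(2,1)
        exact False.elim (cert_false T ((skipEmb 3).trans (Function.Embedding.refl _)) (by norm_num) (fun _ => hall _) (((((LB_zero T ((skipEmb 3).trans (Function.Embedding.refl _))).upd 0 3 1 (le_of_eq hx04)).upd 2 3 2 (le_of_eq hx24)).upd 3 0 2 (le_of_eq hx40)).upd 3 2 1 (le_of_eq hx42)) ![1,0,2,2] (by decide) (by decide) 0 (by decide))
      · -- 24=(1,3)
        exact False.elim (cert_false T ((skipEmb 3).trans (Function.Embedding.refl _)) (by norm_num) (fun _ => hall _) (((((LB_zero T ((skipEmb 3).trans (Function.Embedding.refl _))).upd 0 3 1 (le_of_eq hx04)).upd 2 3 1 (le_of_eq hx24)).upd 3 0 2 (le_of_eq hx40)).upd 3 2 3 (le_of_eq hx42)) ![1,0,1,2] (by decide) (by decide) 0 (by decide))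
      · -- 24=(3,1)
        exact False.elim (cert_false T ((skipEmb 3).trans (Function.Embedding.refl _)) (by norm_num) (fun _ => hall _) (((((LB_zero T ((skipEmb 3).trans (Function.Embedding.refl _))).upd 0 3 1 (le_of_eq hx04)).upd 2 3 3 (le_of_eq hx24)).upd 3 0 2 (le_of_eq hx40)).upd 3 2 1 (le_of_eq hx42)) ![1,0,2,2] (by decide) (by decide) 0 (by decide))
    · -- 14=(1,1)
      rcases d24 with ⟨rfl, rfl⟩ | ⟨rfl, rfl⟩ | ⟨rfl, rfl⟩ | ⟨rfl, rfl⟩ | ⟨rfl, rfl⟩ | ⟨rfl, rfl⟩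
      · -- 24=(0,0)
        rcases d34 with ⟨rfl, rfl⟩ | ⟨rfl, rfl⟩ | ⟨rfl, rfl⟩ | ⟨rfl, rfl⟩ | ⟨rfl, rfl⟩ | ⟨rfl, rfl⟩
        · -- 34=(0,0)
          refine ⟨(⟨![2, 3, 1, 4, 0], ![4, 2, 0, 1, 3], by decide, by decide⟩ : Equiv.Perm (Fin 5)), T.m 0, T.w 2, Or.inr (Or.inr (Or.inr (Or.inl ?_)))⟩
          show T.m 2 = 2 * T.m 0 ∧ T.m 3 = 2 * T.m 0 ∧ T.m 1 = 2 * T.m 0 ∧ T.m 4 = 2 * T.m 0 ∧ T.m 0 = T.m 0 ∧ T.w 2 = T.w 2 ∧ T.w 3 = 2 * T.w 2 ∧ T.w 1 = 2 * T.w 2 ∧ T.w 4 = 2 * T.w 2 ∧ T.w 0 = 4 * T.w 2 ∧ T.a 2 2 = -2 * T.w 2 ∧ T.a 2 3 = 2 * T.w 2 ∧ T.a 2 1 = 0 ∧ T.a 2 4 = 0 ∧ T.a 2 0 = 0 ∧ T.a 3 3 = -4 * T.w 2 ∧ T.a 3 1 = 2 * T.w 2 ∧ T.a 3 4 = 0 ∧ T.a 3 0 = 0 ∧ T.a 1 1 = -4 * T.w 2 ∧ T.a 1 4 = 2 * T.w 2 ∧ T.a 1 0 = 0 ∧ T.a 4 4 = -4 * T.w 2 ∧ T.a 4 0 = 4 * T.w 2 ∧ T.a 0 0 = -8 * T.w 2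
          refine ⟨?_, ?_, ?_, ?_, ?_, ?_, ?_, ?_, ?_, ?_, ?_, ?_, ?_, ?_, ?_, ?_, ?_, ?_, ?_, ?_, ?_, ?_, ?_, ?_, ?_⟩ <;> omega
        · -- 34=(1,1)
          exact False.elim (cert_false T ((skipEmb 2).trans (Function.Embedding.refl _)) (by norm_num) (fun _ => hall _) (((((((LB_zero T ((skipEmb 2).trans (Function.Embedding.refl _))).upd 1 2 1 (le_of_eq hx13)).upd 1 3 1 (le_of_eq hx14)).upd 2 1 1 (le_of_eq hx31)).upd 2 3 1 (le_of_eq hx34)).upd 3 1 1 (le_of_eq hx41)).upd 3 2 1 (le_of_eq hx43)) ![0,1,1,1] (by decide) (by decide) 1 (by decide))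
        · -- 34=(1,2)
          exact False.elim (cert_false T ((skipEmb 2).trans (Function.Embedding.refl _)) (by norm_num) (fun _ => hall _) (((((((LB_zero T ((skipEmb 2).trans (Function.Embedding.refl _))).upd 1 2 1 (le_of_eq hx13)).upd 1 3 1 (le_of_eq hx14)).upd 2 1 1 (le_of_eq hx31)).upd 2 3 1 (le_of_eq hx34)).upd 3 1 1 (le_of_eq hx41)).upd 3 2 2 (le_of_eq hx43)) ![0,1,1,1] (by decide) (by decide) 1 (by decide))
        · -- 34=(2,1)
          exact False.elim (cert_false T ((skipEmb 2).trans (Function.Embedding.refl _)) (by norm_num) (fun _ => hall _) (((((((LB_zero T ((skipEmb 2).trans (Function.Embedding.refl _))).upd 1 2 1 (le_of_eq hx13)).upd 1 3 1 (le_of_eq hx14)).upd 2 1 1 (le_of_eq hx31)).upd 2 3 2 (le_of_eq hx34)).upd 3 1 1 (le_of_eq hx41)).upd 3 2 1 (le_of_eq hx43)) ![0,1,1,1] (by decide) (by decide) 1 (by decide))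
        · -- 34=(1,3)
          exact False.elim (cert_false T ((skipEmb 2).trans (Function.Embedding.refl _)) (by norm_num) (fun _ => hall _) (((((((LB_zero T ((skipEmb 2).trans (Function.Embedding.refl _))).upd 1 2 1 (le_of_eq hx13)).upd 1 3 1 (le_of_eq hx14)).upd 2 1 1 (le_of_eq hx31)).upd 2 3 1 (le_of_eq hx34)).upd 3 1 1 (le_of_eq hx41)).upd 3 2 3 (le_of_eq hx43)) ![0,1,1,1] (by decide) (by decide) 1 (by decide))
        · -- 34=(3,1)
          exact False.elim (cert_false T ((skipEmb 2).trans (Function.Embedding.refl _)) (by norm_num) (fun _ => hall _) (((((((LB_zero T ((skipEmb 2).trans (Function.Embedding.refl _))).upd 1 2 1 (le_of_eq hx13)).upd 1 3 1 (le_of_eq hx14)).upd 2 1 1 (le_of_eq hx31)).upd 2 3 3 (le_of_eq hx34)).upd 3 1 1 (le_of_eq hx41)).upd 3 2 1 (le_of_eq hx43)) ![0,1,1,1] (by decide) (by decide) 1 (by decide))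
      · -- 24=(1,1)
        exact False.elim (cert_false T ((skipEmb 3).trans (Function.Embedding.refl _)) (by norm_num) (fun _ => hall _) (((((((LB_zero T ((skipEmb 3).trans (Function.Embedding.refl _))).upd 0 3 1 (le_of_eq hx04)).upd 1 3 1 (le_of_eq hx14)).upd 2 3 1 (le_of_eq hx24)).upd 3 0 2 (le_of_eq hx40)).upd 3 1 1 (le_of_eq hx41)).upd 3 2 1 (le_of_eq hx42)) ![1,1,1,2] (by decide) (by decide) 0 (by decide))
      · -- 24=(1,2)
        exact False.elim (cert_false T ((skipEmb 3).trans (Function.Embedding.refl _)) (by norm_num) (fun _ => hall _) (((((LB_zero T ((skipEmb 3).trans (Function.Embedding.refl _))).upd 0 3 1 (le_of_eq hx04)).upd 2 3 1 (le_of_eq hx24)).upd 3 0 2 (le_of_eq hx40)).upd 3 2 2 (le_of_eq hx42)) ![1,0,1,2] (by decide) (by decide) 0 (by decide))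
      · -- 24=(2,1)
        exact False.elim (cert_false T ((skipEmb 3).trans (Function.Embedding.refl _)) (by norm_num) (fun _ => hall _) (((((LB_zero T ((skipEmb 3).trans (Function.Embedding.refl _))).upd 0 3 1 (le_of_eq hx04)).upd 2 3 2 (le_of_eq hx24)).upd 3 0 2 (le_of_eq hx40)).upd 3 2 1 (le_of_eq hx42)) ![1,0,2,2] (by decide) (by decide) 0 (by decide))
      · -- 24=(1,3)
        exact False.elim (cert_false T ((skipEmb 3).trans (Function.Embedding.refl _)) (by norm_num) (fun _ => hall _) (((((LB_zero T ((skipEmb 3).trans (Function.Embedding.refl _))).upd 1 3 1 (le_of_eq hx14)).upd 2 3 1 (le_of_eq hx24)).upd 3 1 1 (le_of_eq hx41)).upd 3 2 3 (le_of_eq hx42)) ![0,1,1,2] (by decide) (by decide) 1 (by decide))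
      · -- 24=(3,1)
        exact False.elim (cert_false T ((skipEmb 3).trans (Function.Embedding.refl _)) (by norm_num) (fun _ => hall _) (((((LB_zero T ((skipEmb 3).trans (Function.Embedding.refl _))).upd 0 3 1 (le_of_eq hx04)).upd 2 3 3 (le_of_eq hx24)).upd 3 0 2 (le_of_eq hx40)).upd 3 2 1 (le_of_eq hx42)) ![1,0,2,2] (by decide) (by decide) 0 (by decide))
    · -- 14=(1,2)
      exact False.elim (cert_false T ((skipEmb 3).trans (Function.Embedding.refl _)) (by norm_num) (fun _ => hall _) (((((LB_zero T ((skipEmb 3).trans (Function.Embedding.refl _))).upd 0 3 1 (le_of_eq hx04)).upd 1 3 1 (le_of_eq hx14)).upd 3 0 2 (le_of_eq hx40)).upd 3 1 2 (le_of_eq hx41)) ![1,1,0,2] (by decide) (by decide) 0 (by decide))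
    · -- 14=(2,1)
      exact False.elim (cert_false T ((skipEmb 3).trans (Function.Embedding.refl _)) (by norm_num) (fun _ => hall _) (((((LB_zero T ((skipEmb 3).trans (Function.Embedding.refl _))).upd 0 3 1 (le_of_eq hx04)).upd 1 3 2 (le_of_eq hx14)).upd 3 0 2 (le_of_eq hx40)).upd 3 1 1 (le_of_eq hx41)) ![1,2,0,2] (by decide) (by decide) 0 (by decide))
    · -- 14=(1,3)
      exact False.elim (cert_false T ((skipEmb 3).trans (Function.Embedding.refl _)) (by norm_num) (fun _ => hall _) (((((LB_zero T ((skipEmb 3).trans (Function.Embedding.refl _))).upd 0 3 1 (le_of_eq hx04)).upd 1 3 1 (le_of_eq hx14)).upd 3 0 2 (le_of_eq hx40)).upd 3 1 3 (le_of_eq hx41)) ![1,1,0,2] (by decide) (by decide) 0 (by decide))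
    · -- 14=(3,1)
      exact False.elim (cert_false T ((skipEmb 3).trans (Function.Embedding.refl _)) (by norm_num) (fun _ => hall _) (((((LB_zero T ((skipEmb 3).trans (Function.Embedding.refl _))).upd 0 3 1 (le_of_eq hx04)).upd 1 3 3 (le_of_eq hx14)).upd 3 0 2 (le_of_eq hx40)).upd 3 1 1 (le_of_eq hx41)) ![1,2,0,2] (by decide) (by decide) 0 (by decide))
  · -- 04=(2,1)
    rcases d14 with ⟨rfl, rfl⟩ | ⟨rfl, rfl⟩ | ⟨rfl, rfl⟩ | ⟨rfl, rfl⟩ | ⟨rfl, rfl⟩ | ⟨rfl, rfl⟩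
    · -- 14=(0,0)
      rcases d24 with ⟨rfl, rfl⟩ | ⟨rfl, rfl⟩ | ⟨rfl, rfl⟩ | ⟨rfl, rfl⟩ | ⟨rfl, rfl⟩ | ⟨rfl, rfl⟩
      · -- 24=(0,0)
        rcases d34 with ⟨rfl, rfl⟩ | ⟨rfl, rfl⟩ | ⟨rfl, rfl⟩ | ⟨rfl, rfl⟩ | ⟨rfl, rfl⟩ | ⟨rfl, rfl⟩
        · -- 34=(0,0)
          exfalso; omega
        · -- 34=(1,1)
          exact False.elim (cert_false T ((skipEmb 1).trans (Function.Embedding.refl _)) (by norm_num) (fun _ => hall _) (((((((LB_zero T ((skipEmb 1).trans (Function.Embedding.refl _))).upd 0 3 2 (le_of_eq hx04)).upd 1 2 2 (le_of_eq hx23)).upd 2 1 1 (le_of_eq hx32)).upd 2 3 1 (le_of_eq hx34)).upd 3 0 1 (le_of_eq hx40)).upd 3 2 1 (le_of_eq hx43)) ![1,1,1,1] (by decide) (by decide) 0 (by decide))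
        · -- 34=(1,2)
          exact False.elim (cert_false T ((skipEmb 2).trans (Function.Embedding.refl _)) (by norm_num) (fun _ => hall _) (((((LB_zero T ((skipEmb 2).trans (Function.Embedding.refl _))).upd 0 3 2 (le_of_eq hx04)).upd 2 3 1 (le_of_eq hx34)).upd 3 0 1 (le_of_eq hx40)).upd 3 2 2 (le_of_eq hx43)) ![2,0,1,2] (by decide) (by decide) 0 (by decide))
        · -- 34=(2,1)
          exact False.elim (cert_false T ((skipEmb 2).trans (Function.Embedding.refl _)) (by norm_num) (fun _ => hall _) (((((LB_zero T ((skipEmb 2).trans (Function.Embedding.refl _))).upd 0 3 2 (le_of_eq hx04)).upd 2 3 2 (le_of_eq hx34)).upd 3 0 1 (le_of_eq hx40)).upd 3 2 1 (le_of_eq hx43)) ![1,0,1,1] (by decide) (by decide) 0 (by decide))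
        · -- 34=(1,3)
          exact False.elim (cert_false T ((skipEmb 2).trans (Function.Embedding.refl _)) (by norm_num) (fun _ => hall _) (((((LB_zero T ((skipEmb 2).trans (Function.Embedding.refl _))).upd 0 3 2 (le_of_eq hx04)).upd 2 3 1 (le_of_eq hx34)).upd 3 0 1 (le_of_eq hx40)).upd 3 2 3 (le_of_eq hx43)) ![1,0,1,2] (by decide) (by decide) 0 (by decide))
        · -- 34=(3,1)
          exact False.elim (cert_false T ((skipEmb 2).trans (Function.Embedding.refl _)) (by norm_num) (fun _ => hall _) (((((LB_zero T ((skipEmb 2).trans (Function.Embedding.refl _))).upd 0 3 2 (le_of_eq hx04)).upd 2 3 3 (le_of_eq hx34)).upd 3 0 1 (le_of_eq hx40)).upd 3 2 1 (le_of_eq hx43)) ![1,0,1,1] (by decide) (by decide) 0 (by decide))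
      · -- 24=(1,1)
        exact False.elim (cert_false T ((skipEmb 1).trans (Function.Embedding.refl _)) (by norm_num) (fun _ => hall _) (((((((LB_zero T ((skipEmb 1).trans (Function.Embedding.refl _))).upd 0 3 2 (le_of_eq hx04)).upd 1 2 2 (le_of_eq hx23)).upd 1 3 1 (le_of_eq hx24)).upd 2 1 1 (le_of_eq hx32)).upd 3 0 1 (le_of_eq hx40)).upd 3 1 1 (le_of_eq hx42)) ![2,2,1,2] (by decide) (by decide) 0 (by decide))
      · -- 24=(1,2)
        exact False.elim (cert_false T ((skipEmb 3).trans (Function.Embedding.refl _)) (by norm_num) (fun _ => hall _) (((((LB_zero T ((skipEmb 3).trans (Function.Embedding.refl _))).upd 0 3 2 (le_of_eq hx04)).upd 2 3 1 (le_of_eq hx24)).upd 3 0 1 (le_of_eq hx40)).upd 3 2 2 (le_of_eq hx42)) ![2,0,1,2] (by decide) (by decide) 0 (by decide))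
      · -- 24=(2,1)
        exact False.elim (cert_false T ((skipEmb 3).trans (Function.Embedding.refl _)) (by norm_num) (fun _ => hall _) (((((LB_zero T ((skipEmb 3).trans (Function.Embedding.refl _))).upd 0 3 2 (le_of_eq hx04)).upd 2 3 2 (le_of_eq hx24)).upd 3 0 1 (le_of_eq hx40)).upd 3 2 1 (le_of_eq hx42)) ![1,0,1,1] (by decide) (by decide) 0 (by decide))
      · -- 24=(1,3)
        exact False.elim (cert_false T ((skipEmb 3).trans (Function.Embedding.refl _)) (by norm_num) (fun _ => hall _) (((((LB_zero T ((skipEmb 3).trans (Function.Embedding.refl _))).upd 0 3 2 (le_of_eq hx04)).upd 2 3 1 (le_of_eq hx24)).upd 3 0 1 (le_of_eq hx40)).upd 3 2 3 (le_of_eq hx42)) ![1,0,1,2] (by decide) (by decide) 0 (by decide))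
      · -- 24=(3,1)
        exact False.elim (cert_false T ((skipEmb 3).trans (Function.Embedding.refl _)) (by norm_num) (fun _ => hall _) (((((LB_zero T ((skipEmb 3).trans (Function.Embedding.refl _))).upd 0 3 2 (le_of_eq hx04)).upd 2 3 3 (le_of_eq hx24)).upd 3 0 1 (le_of_eq hx40)).upd 3 2 1 (le_of_eq hx42)) ![1,0,1,1] (by decide) (by decide) 0 (by decide))
    · -- 14=(1,1)
      rcases d24 with ⟨rfl, rfl⟩ | ⟨rfl, rfl⟩ | ⟨rfl, rfl⟩ | ⟨rfl, rfl⟩ | ⟨rfl, rfl⟩ | ⟨rfl, rfl⟩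
      · -- 24=(0,0)
        rcases d34 with ⟨rfl, rfl⟩ | ⟨rfl, rfl⟩ | ⟨rfl, rfl⟩ | ⟨rfl, rfl⟩ | ⟨rfl, rfl⟩ | ⟨rfl, rfl⟩
        · -- 34=(0,0)
          refine ⟨(⟨![0, 4, 1, 3, 2], ![0, 2, 4, 3, 1], by decide, by decide⟩ : Equiv.Perm (Fin 5)), T.m 0, T.w 0, Or.inr (Or.inr (Or.inr (Or.inr (Or.inl ?_))))⟩
          show T.m 0 = T.m 0 ∧ T.m 4 = T.m 0 ∧ T.m 1 = T.m 0 ∧ T.m 3 = T.m 0 ∧ T.m 2 = T.m 0 ∧ T.w 0 = T.w 0 ∧ T.w 4 = 2 * T.w 0 ∧ T.w 1 = 2 * T.w 0 ∧ T.w 3 = 2 * T.w 0 ∧ T.w 2 = T.w 0 ∧ T.a 0 0 = -2 * T.w 0 ∧ T.a 0 4 = 2 * T.w 0 ∧ T.a 0 1 = 0 ∧ T.a 0 3 = 0 ∧ T.a 0 2 = 0 ∧ T.a 4 4 = -4 * T.w 0 ∧ T.a 4 1 = 2 * T.w 0 ∧ T.a 4 3 = 0 ∧ T.a 4 2 = 0 ∧ T.a 1 1 = -4 * T.w 0 ∧ T.a 1 3 = 2 * T.w 0 ∧ T.a 1 2 = 0 ∧ T.a 3 3 = -4 * T.w 0 ∧ T.a 3 2 = 2 * T.w 0 ∧ T.a 2 2 = -2 * T.w 0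
          refine ⟨?_, ?_, ?_, ?_, ?_, ?_, ?_, ?_, ?_, ?_, ?_, ?_, ?_, ?_, ?_, ?_, ?_, ?_, ?_, ?_, ?_, ?_, ?_, ?_, ?_⟩ <;> omega
        · -- 34=(1,1)
          exact False.elim (cert_false T ((skipEmb 2).trans (Function.Embedding.refl _)) (by norm_num) (fun _ => hall _) (((((((LB_zero T ((skipEmb 2).trans (Function.Embedding.refl _))).upd 1 2 1 (le_of_eq hx13)).upd 1 3 1 (le_of_eq hx14)).upd 2 1 1 (le_of_eq hx31)).upd 2 3 1 (le_of_eq hx34)).upd 3 1 1 (le_of_eq hx41)).upd 3 2 1 (le_of_eq hx43)) ![0,1,1,1] (by decide) (by decide) 1 (by decide))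
        · -- 34=(1,2)
          exact False.elim (cert_false T ((skipEmb 2).trans (Function.Embedding.refl _)) (by norm_num) (fun _ => hall _) (((((((LB_zero T ((skipEmb 2).trans (Function.Embedding.refl _))).upd 1 2 1 (le_of_eq hx13)).upd 1 3 1 (le_of_eq hx14)).upd 2 1 1 (le_of_eq hx31)).upd 2 3 1 (le_of_eq hx34)).upd 3 1 1 (le_of_eq hx41)).upd 3 2 2 (le_of_eq hx43)) ![0,1,1,1] (by decide) (by decide) 1 (by decide))
        · -- 34=(2,1)
          exact False.elim (cert_false T ((skipEmb 2).trans (Function.Embedding.refl _)) (by norm_num) (fun _ => hall _) (((((LB_zero T ((skipEmb 2).trans (Function.Embedding.refl _))).upd 0 3 2 (le_of_eq hx04)).upd 2 3 2 (le_of_eq hx34)).upd 3 0 1 (le_of_eq hx40)).upd 3 2 1 (le_of_eq hx43)) ![1,0,1,1] (by decide) (by decide) 0 (by decide))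
        · -- 34=(1,3)
          exact False.elim (cert_false T ((skipEmb 2).trans (Function.Embedding.refl _)) (by norm_num) (fun _ => hall _) (((((((LB_zero T ((skipEmb 2).trans (Function.Embedding.refl _))).upd 1 2 1 (le_of_eq hx13)).upd 1 3 1 (le_of_eq hx14)).upd 2 1 1 (le_of_eq hx31)).upd 2 3 1 (le_of_eq hx34)).upd 3 1 1 (le_of_eq hx41)).upd 3 2 3 (le_of_eq hx43)) ![0,1,1,1] (by decide) (by decide) 1 (by decide))
        · -- 34=(3,1)
          exact False.elim (cert_false T ((skipEmb 2).trans (Function.Embedding.refl _)) (by norm_num) (fun _ => hall _) (((((LB_zero T ((skipEmb 2).trans (Function.Embedding.refl _))).upd 0 3 2 (le_of_eq hx04)).upd 2 3 3 (le_of_eq hx34)).upd 3 0 1 (le_of_eq hx40)).upd 3 2 1 (le_of_eq hx43)) ![1,0,1,1] (by decide) (by decide) 0 (by decide))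
      · -- 24=(1,1)
        exact False.elim (cert_false T ((skipEmb 3).trans (Function.Embedding.refl _)) (by norm_num) (fun _ => hall _) (((((((LB_zero T ((skipEmb 3).trans (Function.Embedding.refl _))).upd 0 3 2 (le_of_eq hx04)).upd 1 3 1 (le_of_eq hx14)).upd 2 3 1 (le_of_eq hx24)).upd 3 0 1 (le_of_eq hx40)).upd 3 1 1 (le_of_eq hx41)).upd 3 2 1 (le_of_eq hx42)) ![2,1,1,2] (by decide) (by decide) 0 (by decide))
      · -- 24=(1,2)
        exact False.elim (cert_false T ((skipEmb 3).trans (Function.Embedding.refl _)) (by norm_num) (fun _ => hall _) (((((((LB_zero T ((skipEmb 3).trans (Function.Embedding.refl _))).upd 0 3 2 (le_of_eq hx04)).upd 1 3 1 (le_of_eq hx14)).upd 2 3 1 (le_of_eq hx24)).upd 3 0 1 (le_of_eq hx40)).upd 3 1 1 (le_of_eq hx41)).upd 3 2 2 (le_of_eq hx42)) ![1,1,1,2] (by decide) (by decide) 0 (by decide))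
      · -- 24=(2,1)
        exact False.elim (cert_false T ((skipEmb 3).trans (Function.Embedding.refl _)) (by norm_num) (fun _ => hall _) (((((LB_zero T ((skipEmb 3).trans (Function.Embedding.refl _))).upd 0 3 2 (le_of_eq hx04)).upd 2 3 2 (le_of_eq hx24)).upd 3 0 1 (le_of_eq hx40)).upd 3 2 1 (le_of_eq hx42)) ![1,0,1,1] (by decide) (by decide) 0 (by decide))
      · -- 24=(1,3)
        exact False.elim (cert_false T ((skipEmb 3).trans (Function.Embedding.refl _)) (by norm_num) (fun _ => hall _) (((((LB_zero T ((skipEmb 3).trans (Function.Embedding.refl _))).upd 1 3 1 (le_of_eq hx14)).upd 2 3 1 (le_of_eq hx24)).upd 3 1 1 (le_of_eq hx41)).upd 3 2 3 (le_of_eq hx42)) ![0,1,1,2] (by decide) (by decide) 1 (by decide))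
      · -- 24=(3,1)
        exact False.elim (cert_false T ((skipEmb 3).trans (Function.Embedding.refl _)) (by norm_num) (fun _ => hall _) (((((LB_zero T ((skipEmb 3).trans (Function.Embedding.refl _))).upd 0 3 2 (le_of_eq hx04)).upd 2 3 3 (le_of_eq hx24)).upd 3 0 1 (le_of_eq hx40)).upd 3 2 1 (le_of_eq hx42)) ![1,0,1,1] (by decide) (by decide) 0 (by decide))
    · -- 14=(1,2)
      exact False.elim (cert_false T ((skipEmb 3).trans (Function.Embedding.refl _)) (by norm_num) (fun _ => hall _) (((((LB_zero T ((skipEmb 3).trans (Function.Embedding.refl _))).upd 0 3 2 (le_of_eq hx04)).upd 1 3 1 (le_of_eq hx14)).upd 3 0 1 (le_of_eq hx40)).upd 3 1 2 (le_of_eq hx41)) ![2,1,0,2] (by decide) (by decide) 0 (by decide))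
    · -- 14=(2,1)
      exact False.elim (cert_false T ((skipEmb 3).trans (Function.Embedding.refl _)) (by norm_num) (fun _ => hall _) (((((LB_zero T ((skipEmb 3).trans (Function.Embedding.refl _))).upd 0 3 2 (le_of_eq hx04)).upd 1 3 2 (le_of_eq hx14)).upd 3 0 1 (le_of_eq hx40)).upd 3 1 1 (le_of_eq hx41)) ![1,1,0,1] (by decide) (by decide) 0 (by decide))
    · -- 14=(1,3)
      exact False.elim (cert_false T ((skipEmb 3).trans (Function.Embedding.refl _)) (by norm_num) (fun _ => hall _) (((((LB_zero T ((skipEmb 3).trans (Function.Embedding.refl _))).upd 0 3 2 (le_of_eq hx04)).upd 1 3 1 (le_of_eq hx14)).upd 3 0 1 (le_of_eq hx40)).upd 3 1 3 (le_of_eq hx41)) ![1,1,0,2] (by decide) (by decide) 0 (by decide))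
    · -- 14=(3,1)
      exact False.elim (cert_false T ((skipEmb 3).trans (Function.Embedding.refl _)) (by norm_num) (fun _ => hall _) (((((LB_zero T ((skipEmb 3).trans (Function.Embedding.refl _))).upd 0 3 2 (le_of_eq hx04)).upd 1 3 3 (le_of_eq hx14)).upd 3 0 1 (le_of_eq hx40)).upd 3 1 1 (le_of_eq hx41)) ![1,1,0,1] (by decide) (by decide) 0 (by decide))
  · -- 04=(1,3)
    rcases d14 with ⟨rfl, rfl⟩ | ⟨rfl, rfl⟩ | ⟨rfl, rfl⟩ | ⟨rfl, rfl⟩ | ⟨rfl, rfl⟩ | ⟨rfl, rfl⟩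
    · -- 14=(0,0)
      rcases d24 with ⟨rfl, rfl⟩ | ⟨rfl, rfl⟩ | ⟨rfl, rfl⟩ | ⟨rfl, rfl⟩ | ⟨rfl, rfl⟩ | ⟨rfl, rfl⟩
      · -- 24=(0,0)
        rcases d34 with ⟨rfl, rfl⟩ | ⟨rfl, rfl⟩ | ⟨rfl, rfl⟩ | ⟨rfl, rfl⟩ | ⟨rfl, rfl⟩ | ⟨rfl, rfl⟩
        · -- 34=(0,0)
          exfalso; omega
        · -- 34=(1,1)
          exact False.elim (cert_false T ((skipEmb 2).trans (Function.Embedding.refl _)) (by norm_num) (fun _ => hall _) (((((LB_zero T ((skipEmb 2).trans (Function.Embedding.refl _))).upd 0 3 1 (le_of_eq hx04)).upd 2 3 1 (le_of_eq hx34)).upd 3 0 3 (le_of_eq hx40)).upd 3 2 1 (le_of_eq hx43)) ![1,0,1,2] (by decide) (by decide) 0 (by decide))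
        · -- 34=(1,2)
          exact False.elim (cert_false T ((skipEmb 2).trans (Function.Embedding.refl _)) (by norm_num) (fun _ => hall _) (((((LB_zero T ((skipEmb 2).trans (Function.Embedding.refl _))).upd 0 3 1 (le_of_eq hx04)).upd 2 3 1 (le_of_eq hx34)).upd 3 0 3 (le_of_eq hx40)).upd 3 2 2 (le_of_eq hx43)) ![1,0,1,2] (by decide) (by decide) 0 (by decide))
        · -- 34=(2,1)
          exact False.elim (cert_false T ((skipEmb 2).trans (Function.Embedding.refl _)) (by norm_num) (fun _ => hall _) (((((LB_zero T ((skipEmb 2).trans (Function.Embedding.refl _))).upd 0 3 1 (le_of_eq hx04)).upd 2 3 2 (le_of_eq hx34)).upd 3 0 3 (le_of_eq hx40)).upd 3 2 1 (le_of_eq hx43)) ![1,0,1,2] (by decide) (by decide) 0 (by decide))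
        · -- 34=(1,3)
          exact False.elim (cert_false T ((skipEmb 2).trans (Function.Embedding.refl _)) (by norm_num) (fun _ => hall _) (((((LB_zero T ((skipEmb 2).trans (Function.Embedding.refl _))).upd 0 3 1 (le_of_eq hx04)).upd 2 3 1 (le_of_eq hx34)).upd 3 0 3 (le_of_eq hx40)).upd 3 2 3 (le_of_eq hx43)) ![1,0,1,2] (by decide) (by decide) 0 (by decide))
        · -- 34=(3,1)
          exact False.elim (cert_false T ((skipEmb 2).trans (Function.Embedding.refl _)) (by norm_num) (fun _ => hall _) (((((LB_zero T ((skipEmb 2).trans (Function.Embedding.refl _))).upd 0 3 1 (le_of_eq hx04)).upd 2 3 3 (le_of_eq hx34)).upd 3 0 3 (le_of_eq hx40)).upd 3 2 1 (le_of_eq hx43)) ![1,0,1,2] (by decide) (by decide) 0 (by decide))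
      · -- 24=(1,1)
        exact False.elim (cert_false T ((skipEmb 3).trans (Function.Embedding.refl _)) (by norm_num) (fun _ => hall _) (((((LB_zero T ((skipEmb 3).trans (Function.Embedding.refl _))).upd 0 3 1 (le_of_eq hx04)).upd 2 3 1 (le_of_eq hx24)).upd 3 0 3 (le_of_eq hx40)).upd 3 2 1 (le_of_eq hx42)) ![1,0,1,2] (by decide) (by decide) 0 (by decide))
      · -- 24=(1,2)
        exact False.elim (cert_false T ((skipEmb 3).trans (Function.Embedding.refl _)) (by norm_num) (fun _ => hall _) (((((LB_zero T ((skipEmb 3).trans (Function.Embedding.refl _))).upd 0 3 1 (le_of_eq hx04)).upd 2 3 1 (le_of_eq hx24)).upd 3 0 3 (le_of_eq hx40)).upd 3 2 2 (le_of_eq hx42)) ![1,0,1,2] (by decide) (by decide) 0 (by decide))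
      · -- 24=(2,1)
        exact False.elim (cert_false T ((skipEmb 3).trans (Function.Embedding.refl _)) (by norm_num) (fun _ => hall _) (((((LB_zero T ((skipEmb 3).trans (Function.Embedding.refl _))).upd 0 3 1 (le_of_eq hx04)).upd 2 3 2 (le_of_eq hx24)).upd 3 0 3 (le_of_eq hx40)).upd 3 2 1 (le_of_eq hx42)) ![1,0,1,2] (by decide) (by decide) 0 (by decide))
      · -- 24=(1,3)
        exact False.elim (cert_false T ((skipEmb 3).trans (Function.Embedding.refl _)) (by norm_num) (fun _ => hall _) (((((LB_zero T ((skipEmb 3).trans (Function.Embedding.refl _))).upd 0 3 1 (le_of_eq hx04)).upd 2 3 1 (le_of_eq hx24)).upd 3 0 3 (le_of_eq hx40)).upd 3 2 3 (le_of_eq hx42)) ![1,0,1,2] (by decide) (by decide) 0 (by decide))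
      · -- 24=(3,1)
        exact False.elim (cert_false T ((skipEmb 3).trans (Function.Embedding.refl _)) (by norm_num) (fun _ => hall _) (((((LB_zero T ((skipEmb 3).trans (Function.Embedding.refl _))).upd 0 3 1 (le_of_eq hx04)).upd 2 3 3 (le_of_eq hx24)).upd 3 0 3 (le_of_eq hx40)).upd 3 2 1 (le_of_eq hx42)) ![1,0,1,2] (by decide) (by decide) 0 (by decide))
    · -- 14=(1,1)
      exact False.elim (cert_false T ((skipEmb 3).trans (Function.Embedding.refl _)) (by norm_num) (fun _ => hall _) (((((LB_zero T ((skipEmb 3).trans (Function.Embedding.refl _))).upd 0 3 1 (le_of_eq hx04)).upd 1 3 1 (le_of_eq hx14)).upd 3 0 3 (le_of_eq hx40)).upd 3 1 1 (le_of_eq hx41)) ![1,1,0,2] (by decide) (by decide) 0 (by decide))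
    · -- 14=(1,2)
      exact False.elim (cert_false T ((skipEmb 3).trans (Function.Embedding.refl _)) (by norm_num) (fun _ => hall _) (((((LB_zero T ((skipEmb 3).trans (Function.Embedding.refl _))).upd 0 3 1 (le_of_eq hx04)).upd 1 3 1 (le_of_eq hx14)).upd 3 0 3 (le_of_eq hx40)).upd 3 1 2 (le_of_eq hx41)) ![1,1,0,2] (by decide) (by decide) 0 (by decide))
    · -- 14=(2,1)
      exact False.elim (cert_false T ((skipEmb 3).trans (Function.Embedding.refl _)) (by norm_num) (fun _ => hall _) (((((LB_zero T ((skipEmb 3).trans (Function.Embedding.refl _))).upd 0 3 1 (le_of_eq hx04)).upd 1 3 2 (le_of_eq hx14)).upd 3 0 3 (le_of_eq hx40)).upd 3 1 1 (le_of_eq hx41)) ![1,1,0,2] (by decide) (by decide) 0 (by decide))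
    · -- 14=(1,3)
      exact False.elim (cert_false T ((skipEmb 3).trans (Function.Embedding.refl _)) (by norm_num) (fun _ => hall _) (((((LB_zero T ((skipEmb 3).trans (Function.Embedding.refl _))).upd 0 3 1 (le_of_eq hx04)).upd 1 3 1 (le_of_eq hx14)).upd 3 0 3 (le_of_eq hx40)).upd 3 1 3 (le_of_eq hx41)) ![1,1,0,2] (by decide) (by decide) 0 (by decide))
    · -- 14=(3,1)
      exact False.elim (cert_false T ((skipEmb 3).trans (Function.Embedding.refl _)) (by norm_num) (fun _ => hall _) (((((LB_zero T ((skipEmb 3).trans (Function.Embedding.refl _))).upd 0 3 1 (le_of_eq hx04)).upd 1 3 3 (le_of_eq hx14)).upd 3 0 3 (le_of_eq hx40)).upd 3 1 1 (le_of_eq hx41)) ![1,1,0,2] (by decide) (by decide) 0 (by decide))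
  · -- 04=(3,1)
    rcases d14 with ⟨rfl, rfl⟩ | ⟨rfl, rfl⟩ | ⟨rfl, rfl⟩ | ⟨rfl, rfl⟩ | ⟨rfl, rfl⟩ | ⟨rfl, rfl⟩
    · -- 14=(0,0)
      rcases d24 with ⟨rfl, rfl⟩ | ⟨rfl, rfl⟩ | ⟨rfl, rfl⟩ | ⟨rfl, rfl⟩ | ⟨rfl, rfl⟩ | ⟨rfl, rfl⟩
      · -- 24=(0,0)
        rcases d34 with ⟨rfl, rfl⟩ | ⟨rfl, rfl⟩ | ⟨rfl, rfl⟩ | ⟨rfl, rfl⟩ | ⟨rfl, rfl⟩ | ⟨rfl, rfl⟩
        · -- 34=(0,0)
          exfalso; omega
        · -- 34=(1,1)
          exact False.elim (cert_false T ((skipEmb 2).trans (Function.Embedding.refl _)) (by norm_num) (fun _ => hall _) (((((LB_zero T ((skipEmb 2).trans (Function.Embedding.refl _))).upd 0 3 3 (le_of_eq hx04)).upd 2 3 1 (le_of_eq hx34)).upd 3 0 1 (le_of_eq hx40)).upd 3 2 1 (le_of_eq hx43)) ![3,0,1,2] (by decide) (by decide) 0 (by decide))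
        · -- 34=(1,2)
          exact False.elim (cert_false T ((skipEmb 2).trans (Function.Embedding.refl _)) (by norm_num) (fun _ => hall _) (((((LB_zero T ((skipEmb 2).trans (Function.Embedding.refl _))).upd 0 3 3 (le_of_eq hx04)).upd 2 3 1 (le_of_eq hx34)).upd 3 0 1 (le_of_eq hx40)).upd 3 2 2 (le_of_eq hx43)) ![2,0,1,2] (by decide) (by decide) 0 (by decide))
        · -- 34=(2,1)
          exact False.elim (cert_false T ((skipEmb 2).trans (Function.Embedding.refl _)) (by norm_num) (fun _ => hall _) (((((LB_zero T ((skipEmb 2).trans (Function.Embedding.refl _))).upd 0 3 3 (le_of_eq hx04)).upd 2 3 2 (le_of_eq hx34)).upd 3 0 1 (le_of_eq hx40)).upd 3 2 1 (le_of_eq hx43)) ![1,0,1,1] (by decide) (by decide) 0 (by decide))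
        · -- 34=(1,3)
          exact False.elim (cert_false T ((skipEmb 2).trans (Function.Embedding.refl _)) (by norm_num) (fun _ => hall _) (((((LB_zero T ((skipEmb 2).trans (Function.Embedding.refl _))).upd 0 3 3 (le_of_eq hx04)).upd 2 3 1 (le_of_eq hx34)).upd 3 0 1 (le_of_eq hx40)).upd 3 2 3 (le_of_eq hx43)) ![1,0,1,2] (by decide) (by decide) 0 (by decide))
        · -- 34=(3,1)
          exact False.elim (cert_false T ((skipEmb 2).trans (Function.Embedding.refl _)) (by norm_num) (fun _ => hall _) (((((LB_zero T ((skipEmb 2).trans (Function.Embedding.refl _))).upd 0 3 3 (le_of_eq hx04)).upd 2 3 3 (le_of_eq hx34)).upd 3 0 1 (le_of_eq hx40)).upd 3 2 1 (le_of_eq hx43)) ![1,0,1,1] (by decide) (by decide) 0 (by decide))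
      · -- 24=(1,1)
        exact False.elim (cert_false T ((skipEmb 3).trans (Function.Embedding.refl _)) (by norm_num) (fun _ => hall _) (((((LB_zero T ((skipEmb 3).trans (Function.Embedding.refl _))).upd 0 3 3 (le_of_eq hx04)).upd 2 3 1 (le_of_eq hx24)).upd 3 0 1 (le_of_eq hx40)).upd 3 2 1 (le_of_eq hx42)) ![3,0,1,2] (by decide) (by decide) 0 (by decide))
      · -- 24=(1,2)
        exact False.elim (cert_false T ((skipEmb 3).trans (Function.Embedding.refl _)) (by norm_num) (fun _ => hall _) (((((LB_zero T ((skipEmb 3).trans (Function.Embedding.refl _))).upd 0 3 3 (le_of_eq hx04)).upd 2 3 1 (le_of_eq hx24)).upd 3 0 1 (le_of_eq hx40)).upd 3 2 2 (le_of_eq hx42)) ![2,0,1,2] (by decide) (by decide) 0 (by decide))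
      · -- 24=(2,1)
        exact False.elim (cert_false T ((skipEmb 3).trans (Function.Embedding.refl _)) (by norm_num) (fun _ => hall _) (((((LB_zero T ((skipEmb 3).trans (Function.Embedding.refl _))).upd 0 3 3 (le_of_eq hx04)).upd 2 3 2 (le_of_eq hx24)).upd 3 0 1 (le_of_eq hx40)).upd 3 2 1 (le_of_eq hx42)) ![1,0,1,1] (by decide) (by decide) 0 (by decide))
      · -- 24=(1,3)
        exact False.elim (cert_false T ((skipEmb 3).trans (Function.Embedding.refl _)) (by norm_num) (fun _ => hall _) (((((LB_zero T ((skipEmb 3).trans (Function.Embedding.refl _))).upd 0 3 3 (le_of_eq hx04)).upd 2 3 1 (le_of_eq hx24)).upd 3 0 1 (le_of_eq hx40)).upd 3 2 3 (le_of_eq hx42)) ![1,0,1,2] (by decide) (by decide) 0 (by decide))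
      · -- 24=(3,1)
        exact False.elim (cert_false T ((skipEmb 3).trans (Function.Embedding.refl _)) (by norm_num) (fun _ => hall _) (((((LB_zero T ((skipEmb 3).trans (Function.Embedding.refl _))).upd 0 3 3 (le_of_eq hx04)).upd 2 3 3 (le_of_eq hx24)).upd 3 0 1 (le_of_eq hx40)).upd 3 2 1 (le_of_eq hx42)) ![1,0,1,1] (by decide) (by decide) 0 (by decide))
    · -- 14=(1,1)
      exact False.elim (cert_false T ((skipEmb 3).trans (Function.Embedding.refl _)) (by norm_num) (fun _ => hall _) (((((LB_zero T ((skipEmb 3).trans (Function.Embedding.refl _))).upd 0 3 3 (le_of_eq hx04)).upd 1 3 1 (le_of_eq hx14)).upd 3 0 1 (le_of_eq hx40)).upd 3 1 1 (le_of_eq hx41)) ![3,1,0,2] (by decide) (by decide) 0 (by decide))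
    · -- 14=(1,2)
      exact False.elim (cert_false T ((skipEmb 3).trans (Function.Embedding.refl _)) (by norm_num) (fun _ => hall _) (((((LB_zero T ((skipEmb 3).trans (Function.Embedding.refl _))).upd 0 3 3 (le_of_eq hx04)).upd 1 3 1 (le_of_eq hx14)).upd 3 0 1 (le_of_eq hx40)).upd 3 1 2 (le_of_eq hx41)) ![2,1,0,2] (by decide) (by decide) 0 (by decide))
    · -- 14=(2,1)
      exact False.elim (cert_false T ((skipEmb 3).trans (Function.Embedding.refl _)) (by norm_num) (fun _ => hall _) (((((LB_zero T ((skipEmb 3).trans (Function.Embedding.refl _))).upd 0 3 3 (le_of_eq hx04)).upd 1 3 2 (le_of_eq hx14)).upd 3 0 1 (le_of_eq hx40)).upd 3 1 1 (le_of_eq hx41)) ![1,1,0,1] (by decide) (by decide) 0 (by decide))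
    · -- 14=(1,3)
      exact False.elim (cert_false T ((skipEmb 3).trans (Function.Embedding.refl _)) (by norm_num) (fun _ => hall _) (((((LB_zero T ((skipEmb 3).trans (Function.Embedding.refl _))).upd 0 3 3 (le_of_eq hx04)).upd 1 3 1 (le_of_eq hx14)).upd 3 0 1 (le_of_eq hx40)).upd 3 1 3 (le_of_eq hx41)) ![1,1,0,2] (by decide) (by decide) 0 (by decide))
    · -- 14=(3,1)
      exact False.elim (cert_false T ((skipEmb 3).trans (Function.Embedding.refl _)) (by norm_num) (fun _ => hall _) (((((LB_zero T ((skipEmb 3).trans (Function.Embedding.refl _))).upd 0 3 3 (le_of_eq hx04)).upd 1 3 3 (le_of_eq hx14)).upd 3 0 1 (le_of_eq hx40)).upd 3 1 1 (le_of_eq hx41)) ![1,1,0,1] (by decide) (by decide) 0 (by decide))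

theorem case21 (T : NumericalType 5) (hall : ∀ i, T.IsMinusTwo i) (d : SData T)
    (h01 : N T (Function.Embedding.refl _) 0 1 = 0) (h10 : N T (Function.Embedding.refl _) 1 0 = 0)
    (h02 : N T (Function.Embedding.refl _) 0 2 = 0) (h20 : N T (Function.Embedding.refl _) 2 0 = 0)
    (h12 : N T (Function.Embedding.refl _) 1 2 = 0) (h21 : N T (Function.Embedding.refl _) 2 1 = 0)
    (h03 : N T (Function.Embedding.refl _) 0 3 = 0) (h30 : N T (Function.Embedding.refl _) 3 0 = 0)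
    (h13 : N T (Function.Embedding.refl _) 1 3 = 1) (h31 : N T (Function.Embedding.refl _) 3 1 = 1) :
    Goal T := by
  unfold Goal
  have hd := d
  obtain ⟨x01, x02, x03, x04, x10, x12, x13, x14, x20, x21, x23, x24, x30, x31, x32, x34, x40, x41, x42, x43, hx01, hx02, hx03, hx04, hx10, hx12, hx13, hx14, hx20, hx21, hx23, hx24, hx30, hx31, hx32, hx34, hx40, hx41, hx42, hx43, hw0, hm0, hw1, hm1, hw2, hm2, hw3, hm3, hw4, hm4, a00, a01, a02, a03, a04, a11, a10, a12, a13, a14, a22, a20, a21, a23, a24, a33, a30, a31, a32, a34, a44, a40, a41, a42, a43, wN01, wN02, wN12, wN03, wN13, wN23, wN04, wN14, wN24, wN34, e0, e1, e2, e3, e4, d01, d02, d12, d03, d13, d23, d04, d14, d24, d34⟩ := d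
  obtain rfl : x01 = 0 := hx01.trans h01
  obtain rfl : x10 = 0 := hx10.trans h10
  obtain rfl : x02 = 0 := hx02.trans h02
  obtain rfl : x20 = 0 := hx20.trans h20
  obtain rfl : x12 = 0 := hx12.trans h12
  obtain rfl : x21 = 0 := hx21.trans h21
  obtain rfl : x03 = 0 := hx03.trans h03
  obtain rfl : x30 = 0 := hx30.trans h30
  obtain rfl : x13 = 1 := hx13.trans h13
  obtain rfl : x31 = 1 := hx31.trans h31
  rcases d23 with ⟨rfl, rfl⟩ | ⟨rfl, rfl⟩ | ⟨rfl, rfl⟩ | ⟨rfl, rfl⟩ | ⟨rfl, rfl⟩ | ⟨rfl, rfl⟩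
  · -- 23=(0,0)
    exact case22 T hall hd hx01.symm hx10.symm hx02.symm hx20.symm hx12.symm hx21.symm hx03.symm hx30.symm hx13.symm hx31.symm hx23.symm hx32.symm
  · -- 23=(1,1)
    exact case25 T hall hd hx01.symm hx10.symm hx02.symm hx20.symm hx12.symm hx21.symm hx03.symm hx30.symm hx13.symm hx31.symm hx23.symm hx32.symm
  · -- 23=(1,2)
    exact case28 T hall hd hx01.symm hx10.symm hx02.symm hx20.symm hx12.symm hx21.symm hx03.symm hx30.symm hx13.symm hx31.symm hx23.symm hx32.symm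
  · -- 23=(2,1)
    exact case29 T hall hd hx01.symm hx10.symm hx02.symm hx20.symm hx12.symm hx21.symm hx03.symm hx30.symm hx13.symm hx31.symm hx23.symm hx32.symm
  · -- 23=(1,3)
    exact False.elim (cert_false T ((skipEmb 4).trans (Function.Embedding.refl _)) (by norm_num) (fun _ => hall _) (((((LB_zero T ((skipEmb 4).trans (Function.Embedding.refl _))).upd 1 3 1 (le_of_eq hx13)).upd 2 3 1 (le_of_eq hx23)).upd 3 1 1 (le_of_eq hx31)).upd 3 2 3 (le_of_eq hx32)) ![0,1,1,2] (by decide) (by decide) 1 (by decide))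
  · -- 23=(3,1)
    exact False.elim (cert_false T ((skipEmb 4).trans (Function.Embedding.refl _)) (by norm_num) (fun _ => hall _) (((((LB_zero T ((skipEmb 4).trans (Function.Embedding.refl _))).upd 1 3 1 (le_of_eq hx13)).upd 2 3 3 (le_of_eq hx23)).upd 3 1 1 (le_of_eq hx31)).upd 3 2 1 (le_of_eq hx32)) ![0,1,3,2] (by decide) (by decide) 1 (by decide))

theorem case76 (T : NumericalType 5) (hall : ∀ i, T.IsMinusTwo i) (d : SData T)
    (h01 : N T (Function.Embedding.refl _) 0 1 = 0) (h10 : N T (Function.Embedding.refl _) 1 0 = 0)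
    (h02 : N T (Function.Embedding.refl _) 0 2 = 0) (h20 : N T (Function.Embedding.refl _) 2 0 = 0)
    (h12 : N T (Function.Embedding.refl _) 1 2 = 0) (h21 : N T (Function.Embedding.refl _) 2 1 = 0)
    (h03 : N T (Function.Embedding.refl _) 0 3 = 2) (h30 : N T (Function.Embedding.refl _) 3 0 = 1)
    (h13 : N T (Function.Embedding.refl _) 1 3 = 0) (h31 : N T (Function.Embedding.refl _) 3 1 = 0)
    (h23 : N T (Function.Embedding.refl _) 2 3 = 0) (h32 : N T (Function.Embedding.refl _) 3 2 = 0)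
    (h04 : N T (Function.Embedding.refl _) 0 4 = 0) (h40 : N T (Function.Embedding.refl _) 4 0 = 0) :
    Goal T := by
  unfold Goal
  have hd := d
  obtain ⟨x01, x02, x03, x04, x10, x12, x13, x14, x20, x21, x23, x24, x30, x31, x32, x34, x40, x41, x42, x43, hx01, hx02, hx03, hx04, hx10, hx12, hx13, hx14, hx20, hx21, hx23, hx24, hx30, hx31, hx32, hx34, hx40, hx41, hx42, hx43, hw0, hm0, hw1, hm1, hw2, hm2, hw3, hm3, hw4, hm4, a00, a01, a02, a03, a04, a11, a10, a12, a13, a14, a22, a20, a21, a23, a24, a33, a30, a31, a32, a34, a44, a40, a41, a42, a43, wN01, wN02, wN12, wN03, wN13, wN23, wN04, wN14, wN24, wN34, e0, e1, e2, e3, e4, d01, d02, d12, d03, d13, d23, d04, d14, d24, d34⟩ := d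
  obtain rfl : x01 = 0 := hx01.trans h01
  obtain rfl : x10 = 0 := hx10.trans h10
  obtain rfl : x02 = 0 := hx02.trans h02
  obtain rfl : x20 = 0 := hx20.trans h20
  obtain rfl : x12 = 0 := hx12.trans h12
  obtain rfl : x21 = 0 := hx21.trans h21
  obtain rfl : x03 = 2 := hx03.trans h03
  obtain rfl : x30 = 1 := hx30.trans h30
  obtain rfl : x13 = 0 := hx13.trans h13
  obtain rfl : x31 = 0 := hx31.trans h31
  obtain rfl : x23 = 0 := hx23.trans h23
  obtain rfl : x32 = 0 := hx32.trans h32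
  obtain rfl : x04 = 0 := hx04.trans h04
  obtain rfl : x40 = 0 := hx40.trans h40
  rcases d14 with ⟨rfl, rfl⟩ | ⟨rfl, rfl⟩ | ⟨rfl, rfl⟩ | ⟨rfl, rfl⟩ | ⟨rfl, rfl⟩ | ⟨rfl, rfl⟩
  · -- 14=(0,0)
    rcases d24 with ⟨rfl, rfl⟩ | ⟨rfl, rfl⟩ | ⟨rfl, rfl⟩ | ⟨rfl, rfl⟩ | ⟨rfl, rfl⟩ | ⟨rfl, rfl⟩
    · -- 24=(0,0)
      rcases d34 with ⟨rfl, rfl⟩ | ⟨rfl, rfl⟩ | ⟨rfl, rfl⟩ | ⟨rfl, rfl⟩ | ⟨rfl, rfl⟩ | ⟨rfl, rfl⟩
      · -- 34=(0,0)
        exfalso; omega
      · -- 34=(1,1)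
        exfalso; omega
      · -- 34=(1,2)
        exact False.elim (cert_false T ((skipEmb 2).trans (Function.Embedding.refl _)) (by norm_num) (fun _ => hall _) (((((LB_zero T ((skipEmb 2).trans (Function.Embedding.refl _))).upd 0 2 2 (le_of_eq hx03)).upd 2 0 1 (le_of_eq hx30)).upd 2 3 1 (le_of_eq hx34)).upd 3 2 2 (le_of_eq hx43)) ![1,0,1,1] (by decide) (by decide) 0 (by decide))
      · -- 34=(2,1)
        exact False.elim (cert_false T ((skipEmb 2).trans (Function.Embedding.refl _)) (by norm_num) (fun _ => hall _) (((((LB_zero T ((skipEmb 2).trans (Function.Embedding.refl _))).upd 0 2 2 (le_of_eq hx03)).upd 2 0 1 (le_of_eq hx30)).upd 2 3 2 (le_of_eq hx34)).upd 3 2 1 (le_of_eq hx43)) ![2,0,2,1] (by decide) (by decide) 0 (by decide))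
      · -- 34=(1,3)
        exact False.elim (cert_false T ((skipEmb 2).trans (Function.Embedding.refl _)) (by norm_num) (fun _ => hall _) (((((LB_zero T ((skipEmb 2).trans (Function.Embedding.refl _))).upd 0 2 2 (le_of_eq hx03)).upd 2 0 1 (le_of_eq hx30)).upd 2 3 1 (le_of_eq hx34)).upd 3 2 3 (le_of_eq hx43)) ![1,0,1,1] (by decide) (by decide) 0 (by decide))
      · -- 34=(3,1)
        exact False.elim (cert_false T ((skipEmb 2).trans (Function.Embedding.refl _)) (by norm_num) (fun _ => hall _) (((((LB_zero T ((skipEmb 2).trans (Function.Embedding.refl _))).upd 0 2 2 (le_of_eq hx03)).upd 2 0 1 (le_of_eq hx30)).upd 2 3 3 (le_of_eq hx34)).upd 3 2 1 (le_of_eq hx43)) ![1,0,2,1] (by decide) (by decide) 0 (by decide))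
    · -- 24=(1,1)
      rcases d34 with ⟨rfl, rfl⟩ | ⟨rfl, rfl⟩ | ⟨rfl, rfl⟩ | ⟨rfl, rfl⟩ | ⟨rfl, rfl⟩ | ⟨rfl, rfl⟩
      · -- 34=(0,0)
        exfalso; omega
      · -- 34=(1,1)
        exfalso; omega
      · -- 34=(1,2)
        exact False.elim (cert_false T ((skipEmb 2).trans (Function.Embedding.refl _)) (by norm_num) (fun _ => hall _) (((((LB_zero T ((skipEmb 2).trans (Function.Embedding.refl _))).upd 0 2 2 (le_of_eq hx03)).upd 2 0 1 (le_of_eq hx30)).upd 2 3 1 (le_of_eq hx34)).upd 3 2 2 (le_of_eq hx43)) ![1,0,1,1] (by decide) (by decide) 0 (by decide))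
      · -- 34=(2,1)
        exact False.elim (cert_false T ((skipEmb 2).trans (Function.Embedding.refl _)) (by norm_num) (fun _ => hall _) (((((LB_zero T ((skipEmb 2).trans (Function.Embedding.refl _))).upd 0 2 2 (le_of_eq hx03)).upd 2 0 1 (le_of_eq hx30)).upd 2 3 2 (le_of_eq hx34)).upd 3 2 1 (le_of_eq hx43)) ![2,0,2,1] (by decide) (by decide) 0 (by decide))
      · -- 34=(1,3)
        exact False.elim (cert_false T ((skipEmb 2).trans (Function.Embedding.refl _)) (by norm_num) (fun _ => hall _) (((((LB_zero T ((skipEmb 2).trans (Function.Embedding.refl _))).upd 0 2 2 (le_of_eq hx03)).upd 2 0 1 (le_of_eq hx30)).upd 2 3 1 (le_of_eq hx34)).upd 3 2 3 (le_of_eq hx43)) ![1,0,1,1] (by decide) (by decide) 0 (by decide))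
      · -- 34=(3,1)
        exact False.elim (cert_false T ((skipEmb 2).trans (Function.Embedding.refl _)) (by norm_num) (fun _ => hall _) (((((LB_zero T ((skipEmb 2).trans (Function.Embedding.refl _))).upd 0 2 2 (le_of_eq hx03)).upd 2 0 1 (le_of_eq hx30)).upd 2 3 3 (le_of_eq hx34)).upd 3 2 1 (le_of_eq hx43)) ![1,0,2,1] (by decide) (by decide) 0 (by decide))
    · -- 24=(1,2)
      rcases d34 with ⟨rfl, rfl⟩ | ⟨rfl, rfl⟩ | ⟨rfl, rfl⟩ | ⟨rfl, rfl⟩ | ⟨rfl, rfl⟩ | ⟨rfl, rfl⟩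
      · -- 34=(0,0)
        exfalso; omega
      · -- 34=(1,1)
        exact False.elim (cert_false T ((skipEmb 1).trans (Function.Embedding.refl _)) (by norm_num) (fun _ => hall _) (((((((LB_zero T ((skipEmb 1).trans (Function.Embedding.refl _))).upd 0 2 2 (le_of_eq hx03)).upd 1 3 1 (le_of_eq hx24)).upd 2 0 1 (le_of_eq hx30)).upd 2 3 1 (le_of_eq hx34)).upd 3 1 2 (le_of_eq hx42)).upd 3 2 1 (le_of_eq hx43)) ![2,1,2,2] (by decide) (by decide) 0 (by decide))
      · -- 34=(1,2)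
        exact False.elim (cert_false T ((skipEmb 2).trans (Function.Embedding.refl _)) (by norm_num) (fun _ => hall _) (((((LB_zero T ((skipEmb 2).trans (Function.Embedding.refl _))).upd 0 2 2 (le_of_eq hx03)).upd 2 0 1 (le_of_eq hx30)).upd 2 3 1 (le_of_eq hx34)).upd 3 2 2 (le_of_eq hx43)) ![1,0,1,1] (by decide) (by decide) 0 (by decide))
      · -- 34=(2,1)
        exact False.elim (cert_false T ((skipEmb 2).trans (Function.Embedding.refl _)) (by norm_num) (fun _ => hall _) (((((LB_zero T ((skipEmb 2).trans (Function.Embedding.refl _))).upd 0 2 2 (le_of_eq hx03)).upd 2 0 1 (le_of_eq hx30)).upd 2 3 2 (le_of_eq hx34)).upd 3 2 1 (le_of_eq hx43)) ![2,0,2,1] (by decide) (by decide) 0 (by decide))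
      · -- 34=(1,3)
        exact False.elim (cert_false T ((skipEmb 2).trans (Function.Embedding.refl _)) (by norm_num) (fun _ => hall _) (((((LB_zero T ((skipEmb 2).trans (Function.Embedding.refl _))).upd 0 2 2 (le_of_eq hx03)).upd 2 0 1 (le_of_eq hx30)).upd 2 3 1 (le_of_eq hx34)).upd 3 2 3 (le_of_eq hx43)) ![1,0,1,1] (by decide) (by decide) 0 (by decide))
      · -- 34=(3,1)
        exact False.elim (cert_false T ((skipEmb 2).trans (Function.Embedding.refl _)) (by norm_num) (fun _ => hall _) (((((LB_zero T ((skipEmb 2).trans (Function.Embedding.refl _))).upd 0 2 2 (le_of_eq hx03)).upd 2 0 1 (le_of_eq hx30)).upd 2 3 3 (le_of_eq hx34)).upd 3 2 1 (le_of_eq hx43)) ![1,0,2,1] (by decide) (by decide) 0 (by decide))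
    · -- 24=(2,1)
      rcases d34 with ⟨rfl, rfl⟩ | ⟨rfl, rfl⟩ | ⟨rfl, rfl⟩ | ⟨rfl, rfl⟩ | ⟨rfl, rfl⟩ | ⟨rfl, rfl⟩
      · -- 34=(0,0)
        exfalso; omega
      · -- 34=(1,1)
        exact False.elim (cert_false T ((skipEmb 1).trans (Function.Embedding.refl _)) (by norm_num) (fun _ => hall _) (((((((LB_zero T ((skipEmb 1).trans (Function.Embedding.refl _))).upd 0 2 2 (le_of_eq hx03)).upd 1 3 2 (le_of_eq hx24)).upd 2 0 1 (le_of_eq hx30)).upd 2 3 1 (le_of_eq hx34)).upd 3 1 1 (le_of_eq hx42)).upd 3 2 1 (le_of_eq hx43)) ![1,1,1,1] (by decide) (by decide) 0 (by decide))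
      · -- 34=(1,2)
        exact False.elim (cert_false T ((skipEmb 2).trans (Function.Embedding.refl _)) (by norm_num) (fun _ => hall _) (((((LB_zero T ((skipEmb 2).trans (Function.Embedding.refl _))).upd 0 2 2 (le_of_eq hx03)).upd 2 0 1 (le_of_eq hx30)).upd 2 3 1 (le_of_eq hx34)).upd 3 2 2 (le_of_eq hx43)) ![1,0,1,1] (by decide) (by decide) 0 (by decide))
      · -- 34=(2,1)
        exact False.elim (cert_false T ((skipEmb 2).trans (Function.Embedding.refl _)) (by norm_num) (fun _ => hall _) (((((LB_zero T ((skipEmb 2).trans (Function.Embedding.refl _))).upd 0 2 2 (le_of_eq hx03)).upd 2 0 1 (le_of_eq hx30)).upd 2 3 2 (le_of_eq hx34)).upd 3 2 1 (le_of_eq hx43)) ![2,0,2,1] (by decide) (by decide) 0 (by decide))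
      · -- 34=(1,3)
        exact False.elim (cert_false T ((skipEmb 2).trans (Function.Embedding.refl _)) (by norm_num) (fun _ => hall _) (((((LB_zero T ((skipEmb 2).trans (Function.Embedding.refl _))).upd 0 2 2 (le_of_eq hx03)).upd 2 0 1 (le_of_eq hx30)).upd 2 3 1 (le_of_eq hx34)).upd 3 2 3 (le_of_eq hx43)) ![1,0,1,1] (by decide) (by decide) 0 (by decide))
      · -- 34=(3,1)
        exact False.elim (cert_false T ((skipEmb 2).trans (Function.Embedding.refl _)) (by norm_num) (fun _ => hall _) (((((LB_zero T ((skipEmb 2).trans (Function.Embedding.refl _))).upd 0 2 2 (le_of_eq hx03)).upd 2 0 1 (le_of_eq hx30)).upd 2 3 3 (le_of_eq hx34)).upd 3 2 1 (le_of_eq hx43)) ![1,0,2,1] (by decide) (by decide) 0 (by decide))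
    · -- 24=(1,3)
      rcases d34 with ⟨rfl, rfl⟩ | ⟨rfl, rfl⟩ | ⟨rfl, rfl⟩ | ⟨rfl, rfl⟩ | ⟨rfl, rfl⟩ | ⟨rfl, rfl⟩
      · -- 34=(0,0)
        exfalso; omega
      · -- 34=(1,1)
        exact False.elim (cert_false T ((skipEmb 1).trans (Function.Embedding.refl _)) (by norm_num) (fun _ => hall _) (((((LB_zero T ((skipEmb 1).trans (Function.Embedding.refl _))).upd 1 3 1 (le_of_eq hx24)).upd 2 3 1 (le_of_eq hx34)).upd 3 1 3 (le_of_eq hx42)).upd 3 2 1 (le_of_eq hx43)) ![0,1,1,2] (by decide) (by decide) 1 (by decide))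
      · -- 34=(1,2)
        exact False.elim (cert_false T ((skipEmb 2).trans (Function.Embedding.refl _)) (by norm_num) (fun _ => hall _) (((((LB_zero T ((skipEmb 2).trans (Function.Embedding.refl _))).upd 0 2 2 (le_of_eq hx03)).upd 2 0 1 (le_of_eq hx30)).upd 2 3 1 (le_of_eq hx34)).upd 3 2 2 (le_of_eq hx43)) ![1,0,1,1] (by decide) (by decide) 0 (by decide))
      · -- 34=(2,1)
        exact False.elim (cert_false T ((skipEmb 2).trans (Function.Embedding.refl _)) (by norm_num) (fun _ => hall _) (((((LB_zero T ((skipEmb 2).trans (Function.Embedding.refl _))).upd 0 2 2 (le_of_eq hx03)).upd 2 0 1 (le_of_eq hx30)).upd 2 3 2 (le_of_eq hx34)).upd 3 2 1 (le_of_eq hx43)) ![2,0,2,1] (by decide) (by decide) 0 (by decide))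
      · -- 34=(1,3)
        exact False.elim (cert_false T ((skipEmb 2).trans (Function.Embedding.refl _)) (by norm_num) (fun _ => hall _) (((((LB_zero T ((skipEmb 2).trans (Function.Embedding.refl _))).upd 0 2 2 (le_of_eq hx03)).upd 2 0 1 (le_of_eq hx30)).upd 2 3 1 (le_of_eq hx34)).upd 3 2 3 (le_of_eq hx43)) ![1,0,1,1] (by decide) (by decide) 0 (by decide))
      · -- 34=(3,1)
        exact False.elim (cert_false T ((skipEmb 2).trans (Function.Embedding.refl _)) (by norm_num) (fun _ => hall _) (((((LB_zero T ((skipEmb 2).trans (Function.Embedding.refl _))).upd 0 2 2 (le_of_eq hx03)).upd 2 0 1 (le_of_eq hx30)).upd 2 3 3 (le_of_eq hx34)).upd 3 2 1 (le_of_eq hx43)) ![1,0,2,1] (by decide) (by decide) 0 (by decide))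
    · -- 24=(3,1)
      rcases d34 with ⟨rfl, rfl⟩ | ⟨rfl, rfl⟩ | ⟨rfl, rfl⟩ | ⟨rfl, rfl⟩ | ⟨rfl, rfl⟩ | ⟨rfl, rfl⟩
      · -- 34=(0,0)
        exfalso; omega
      · -- 34=(1,1)
        exact False.elim (cert_false T ((skipEmb 1).trans (Function.Embedding.refl _)) (by norm_num) (fun _ => hall _) (((((((LB_zero T ((skipEmb 1).trans (Function.Embedding.refl _))).upd 0 2 2 (le_of_eq hx03)).upd 1 3 3 (le_of_eq hx24)).upd 2 0 1 (le_of_eq hx30)).upd 2 3 1 (le_of_eq hx34)).upd 3 1 1 (le_of_eq hx42)).upd 3 2 1 (le_of_eq hx43)) ![1,1,1,1] (by decide) (by decide) 0 (by decide))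
      · -- 34=(1,2)
        exact False.elim (cert_false T ((skipEmb 2).trans (Function.Embedding.refl _)) (by norm_num) (fun _ => hall _) (((((LB_zero T ((skipEmb 2).trans (Function.Embedding.refl _))).upd 0 2 2 (le_of_eq hx03)).upd 2 0 1 (le_of_eq hx30)).upd 2 3 1 (le_of_eq hx34)).upd 3 2 2 (le_of_eq hx43)) ![1,0,1,1] (by decide) (by decide) 0 (by decide))
      · -- 34=(2,1)
        exact False.elim (cert_false T ((skipEmb 2).trans (Function.Embedding.refl _)) (by norm_num) (fun _ => hall _) (((((LB_zero T ((skipEmb 2).trans (Function.Embedding.refl _))).upd 0 2 2 (le_of_eq hx03)).upd 2 0 1 (le_of_eq hx30)).upd 2 3 2 (le_of_eq hx34)).upd 3 2 1 (le_of_eq hx43)) ![2,0,2,1] (by decide) (by decide) 0 (by decide))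
      · -- 34=(1,3)
        exact False.elim (cert_false T ((skipEmb 2).trans (Function.Embedding.refl _)) (by norm_num) (fun _ => hall _) (((((LB_zero T ((skipEmb 2).trans (Function.Embedding.refl _))).upd 0 2 2 (le_of_eq hx03)).upd 2 0 1 (le_of_eq hx30)).upd 2 3 1 (le_of_eq hx34)).upd 3 2 3 (le_of_eq hx43)) ![1,0,1,1] (by decide) (by decide) 0 (by decide))
      · -- 34=(3,1)
        exact False.elim (cert_false T ((skipEmb 2).trans (Function.Embedding.refl _)) (by norm_num) (fun _ => hall _) (((((LB_zero T ((skipEmb 2).trans (Function.Embedding.refl _))).upd 0 2 2 (le_of_eq hx03)).upd 2 0 1 (le_of_eq hx30)).upd 2 3 3 (le_of_eq hx34)).upd 3 2 1 (le_of_eq hx43)) ![1,0,2,1] (by decide) (by decide) 0 (by decide))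
  · -- 14=(1,1)
    rcases d24 with ⟨rfl, rfl⟩ | ⟨rfl, rfl⟩ | ⟨rfl, rfl⟩ | ⟨rfl, rfl⟩ | ⟨rfl, rfl⟩ | ⟨rfl, rfl⟩
    · -- 24=(0,0)
      rcases d34 with ⟨rfl, rfl⟩ | ⟨rfl, rfl⟩ | ⟨rfl, rfl⟩ | ⟨rfl, rfl⟩ | ⟨rfl, rfl⟩ | ⟨rfl, rfl⟩
      · -- 34=(0,0)
        exfalso; omega
      · -- 34=(1,1)
        exfalso; omega
      · -- 34=(1,2)
        exact False.elim (cert_false T ((skipEmb 2).trans (Function.Embedding.refl _)) (by norm_num) (fun _ => hall _) (((((LB_zero T ((skipEmb 2).trans (Function.Embedding.refl _))).upd 0 2 2 (le_of_eq hx03)).upd 2 0 1 (le_of_eq hx30)).upd 2 3 1 (le_of_eq hx34)).upd 3 2 2 (le_of_eq hx43)) ![1,0,1,1] (by decide) (by decide) 0 (by decide))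
      · -- 34=(2,1)
        exact False.elim (cert_false T ((skipEmb 2).trans (Function.Embedding.refl _)) (by norm_num) (fun _ => hall _) (((((LB_zero T ((skipEmb 2).trans (Function.Embedding.refl _))).upd 0 2 2 (le_of_eq hx03)).upd 2 0 1 (le_of_eq hx30)).upd 2 3 2 (le_of_eq hx34)).upd 3 2 1 (le_of_eq hx43)) ![2,0,2,1] (by decide) (by decide) 0 (by decide))
      · -- 34=(1,3)
        exact False.elim (cert_false T ((skipEmb 2).trans (Function.Embedding.refl _)) (by norm_num) (fun _ => hall _) (((((LB_zero T ((skipEmb 2).trans (Function.Embedding.refl _))).upd 0 2 2 (le_of_eq hx03)).upd 2 0 1 (le_of_eq hx30)).upd 2 3 1 (le_of_eq hx34)).upd 3 2 3 (le_of_eq hx43)) ![1,0,1,1] (by decide) (by decide) 0 (by decide))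
      · -- 34=(3,1)
        exact False.elim (cert_false T ((skipEmb 2).trans (Function.Embedding.refl _)) (by norm_num) (fun _ => hall _) (((((LB_zero T ((skipEmb 2).trans (Function.Embedding.refl _))).upd 0 2 2 (le_of_eq hx03)).upd 2 0 1 (le_of_eq hx30)).upd 2 3 3 (le_of_eq hx34)).upd 3 2 1 (le_of_eq hx43)) ![1,0,2,1] (by decide) (by decide) 0 (by decide))
    · -- 24=(1,1)
      rcases d34 with ⟨rfl, rfl⟩ | ⟨rfl, rfl⟩ | ⟨rfl, rfl⟩ | ⟨rfl, rfl⟩ | ⟨rfl, rfl⟩ | ⟨rfl, rfl⟩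
      · -- 34=(0,0)
        exfalso; omega
      · -- 34=(1,1)
        refine ⟨(⟨![0, 3, 4, 1, 2], ![0, 3, 4, 1, 2], by decide, by decide⟩ : Equiv.Perm (Fin 5)), T.m 1, T.w 0, Or.inr (Or.inr (Or.inr (Or.inr (Or.inr (Or.inr (Or.inr (Or.inr (?_))))))))⟩
        show T.m 0 = 2 * T.m 1 ∧ T.m 3 = 2 * T.m 1 ∧ T.m 4 = 2 * T.m 1 ∧ T.m 1 = T.m 1 ∧ T.m 2 = T.m 1 ∧ T.w 0 = T.w 0 ∧ T.w 3 = 2 * T.w 0 ∧ T.w 4 = 2 * T.w 0 ∧ T.w 1 = 2 * T.w 0 ∧ T.w 2 = 2 * T.w 0 ∧ T.a 0 0 = -2 * T.w 0 ∧ T.a 0 3 = 2 * T.w 0 ∧ T.a 0 4 = 0 ∧ T.a 0 1 = 0 ∧ T.a 0 2 = 0 ∧ T.a 3 3 = -4 * T.w 0 ∧ T.a 3 4 = 2 * T.w 0 ∧ T.a 3 1 = 0 ∧ T.a 3 2 = 0 ∧ T.a 4 4 = -4 * T.w 0 ∧ T.a 4 1 = 2 * T.w 0 ∧ T.a 4 2 = 2 * T.w 0 ∧ T.a 1 1 = -4 * T.w 0 ∧ T.a 1 2 = 0 ∧ T.a 2 2 = -4 * T.w 0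
        refine ⟨?_, ?_, ?_, ?_, ?_, ?_, ?_, ?_, ?_, ?_, ?_, ?_, ?_, ?_, ?_, ?_, ?_, ?_, ?_, ?_, ?_, ?_, ?_, ?_, ?_⟩ <;> omega
      · -- 34=(1,2)
        exact False.elim (cert_false T ((skipEmb 2).trans (Function.Embedding.refl _)) (by norm_num) (fun _ => hall _) (((((LB_zero T ((skipEmb 2).trans (Function.Embedding.refl _))).upd 0 2 2 (le_of_eq hx03)).upd 2 0 1 (le_of_eq hx30)).upd 2 3 1 (le_of_eq hx34)).upd 3 2 2 (le_of_eq hx43)) ![1,0,1,1] (by decide) (by decide) 0 (by decide))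
      · -- 34=(2,1)
        exact False.elim (cert_false T ((skipEmb 2).trans (Function.Embedding.refl _)) (by norm_num) (fun _ => hall _) (((((LB_zero T ((skipEmb 2).trans (Function.Embedding.refl _))).upd 0 2 2 (le_of_eq hx03)).upd 2 0 1 (le_of_eq hx30)).upd 2 3 2 (le_of_eq hx34)).upd 3 2 1 (le_of_eq hx43)) ![2,0,2,1] (by decide) (by decide) 0 (by decide))
      · -- 34=(1,3)
        exact False.elim (cert_false T ((skipEmb 2).trans (Function.Embedding.refl _)) (by norm_num) (fun _ => hall _) (((((LB_zero T ((skipEmb 2).trans (Function.Embedding.refl _))).upd 0 2 2 (le_of_eq hx03)).upd 2 0 1 (le_of_eq hx30)).upd 2 3 1 (le_of_eq hx34)).upd 3 2 3 (le_of_eq hx43)) ![1,0,1,1] (by decide) (by decide) 0 (by decide))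
      · -- 34=(3,1)
        exact False.elim (cert_false T ((skipEmb 2).trans (Function.Embedding.refl _)) (by norm_num) (fun _ => hall _) (((((LB_zero T ((skipEmb 2).trans (Function.Embedding.refl _))).upd 0 2 2 (le_of_eq hx03)).upd 2 0 1 (le_of_eq hx30)).upd 2 3 3 (le_of_eq hx34)).upd 3 2 1 (le_of_eq hx43)) ![1,0,2,1] (by decide) (by decide) 0 (by decide))
    · -- 24=(1,2)
      rcases d34 with ⟨rfl, rfl⟩ | ⟨rfl, rfl⟩ | ⟨rfl, rfl⟩ | ⟨rfl, rfl⟩ | ⟨rfl, rfl⟩ | ⟨rfl, rfl⟩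
      · -- 34=(0,0)
        exfalso; omega
      · -- 34=(1,1)
        exact False.elim (cert_false T ((skipEmb 1).trans (Function.Embedding.refl _)) (by norm_num) (fun _ => hall _) (((((((LB_zero T ((skipEmb 1).trans (Function.Embedding.refl _))).upd 0 2 2 (le_of_eq hx03)).upd 1 3 1 (le_of_eq hx24)).upd 2 0 1 (le_of_eq hx30)).upd 2 3 1 (le_of_eq hx34)).upd 3 1 2 (le_of_eq hx42)).upd 3 2 1 (le_of_eq hx43)) ![2,1,2,2] (by decide) (by decide) 0 (by decide))
      · -- 34=(1,2)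
        exact False.elim (cert_false T ((skipEmb 2).trans (Function.Embedding.refl _)) (by norm_num) (fun _ => hall _) (((((LB_zero T ((skipEmb 2).trans (Function.Embedding.refl _))).upd 0 2 2 (le_of_eq hx03)).upd 2 0 1 (le_of_eq hx30)).upd 2 3 1 (le_of_eq hx34)).upd 3 2 2 (le_of_eq hx43)) ![1,0,1,1] (by decide) (by decide) 0 (by decide))
      · -- 34=(2,1)
        exact False.elim (cert_false T ((skipEmb 2).trans (Function.Embedding.refl _)) (by norm_num) (fun _ => hall _) (((((LB_zero T ((skipEmb 2).trans (Function.Embedding.refl _))).upd 0 2 2 (le_of_eq hx03)).upd 2 0 1 (le_of_eq hx30)).upd 2 3 2 (le_of_eq hx34)).upd 3 2 1 (le_of_eq hx43)) ![2,0,2,1] (by decide) (by decide) 0 (by decide))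
      · -- 34=(1,3)
        exact False.elim (cert_false T ((skipEmb 2).trans (Function.Embedding.refl _)) (by norm_num) (fun _ => hall _) (((((LB_zero T ((skipEmb 2).trans (Function.Embedding.refl _))).upd 0 2 2 (le_of_eq hx03)).upd 2 0 1 (le_of_eq hx30)).upd 2 3 1 (le_of_eq hx34)).upd 3 2 3 (le_of_eq hx43)) ![1,0,1,1] (by decide) (by decide) 0 (by decide))
      · -- 34=(3,1)
        exact False.elim (cert_false T ((skipEmb 2).trans (Function.Embedding.refl _)) (by norm_num) (fun _ => hall _) (((((LB_zero T ((skipEmb 2).trans (Function.Embedding.refl _))).upd 0 2 2 (le_of_eq hx03)).upd 2 0 1 (le_of_eq hx30)).upd 2 3 3 (le_of_eq hx34)).upd 3 2 1 (le_of_eq hx43)) ![1,0,2,1] (by decide) (by decide) 0 (by decide))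
    · -- 24=(2,1)
      rcases d34 with ⟨rfl, rfl⟩ | ⟨rfl, rfl⟩ | ⟨rfl, rfl⟩ | ⟨rfl, rfl⟩ | ⟨rfl, rfl⟩ | ⟨rfl, rfl⟩
      · -- 34=(0,0)
        exfalso; omega
      · -- 34=(1,1)
        exact False.elim (cert_false T ((skipEmb 1).trans (Function.Embedding.refl _)) (by norm_num) (fun _ => hall _) (((((((LB_zero T ((skipEmb 1).trans (Function.Embedding.refl _))).upd 0 2 2 (le_of_eq hx03)).upd 1 3 2 (le_of_eq hx24)).upd 2 0 1 (le_of_eq hx30)).upd 2 3 1 (le_of_eq hx34)).upd 3 1 1 (le_of_eq hx42)).upd 3 2 1 (le_of_eq hx43)) ![1,1,1,1] (by decide) (by decide) 0 (by decide))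
      · -- 34=(1,2)
        exact False.elim (cert_false T ((skipEmb 2).trans (Function.Embedding.refl _)) (by norm_num) (fun _ => hall _) (((((LB_zero T ((skipEmb 2).trans (Function.Embedding.refl _))).upd 0 2 2 (le_of_eq hx03)).upd 2 0 1 (le_of_eq hx30)).upd 2 3 1 (le_of_eq hx34)).upd 3 2 2 (le_of_eq hx43)) ![1,0,1,1] (by decide) (by decide) 0 (by decide))
      · -- 34=(2,1)
        exact False.elim (cert_false T ((skipEmb 2).trans (Function.Embedding.refl _)) (by norm_num) (fun _ => hall _) (((((LB_zero T ((skipEmb 2).trans (Function.Embedding.refl _))).upd 0 2 2 (le_of_eq hx03)).upd 2 0 1 (le_of_eq hx30)).upd 2 3 2 (le_of_eq hx34)).upd 3 2 1 (le_of_eq hx43)) ![2,0,2,1] (by decide) (by decide) 0 (by decide))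
      · -- 34=(1,3)
        exact False.elim (cert_false T ((skipEmb 2).trans (Function.Embedding.refl _)) (by norm_num) (fun _ => hall _) (((((LB_zero T ((skipEmb 2).trans (Function.Embedding.refl _))).upd 0 2 2 (le_of_eq hx03)).upd 2 0 1 (le_of_eq hx30)).upd 2 3 1 (le_of_eq hx34)).upd 3 2 3 (le_of_eq hx43)) ![1,0,1,1] (by decide) (by decide) 0 (by decide))
      · -- 34=(3,1)
        exact False.elim (cert_false T ((skipEmb 2).trans (Function.Embedding.refl _)) (by norm_num) (fun _ => hall _) (((((LB_zero T ((skipEmb 2).trans (Function.Embedding.refl _))).upd 0 2 2 (le_of_eq hx03)).upd 2 0 1 (le_of_eq hx30)).upd 2 3 3 (le_of_eq hx34)).upd 3 2 1 (le_of_eq hx43)) ![1,0,2,1] (by decide) (by decide) 0 (by decide))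
    · -- 24=(1,3)
      exact False.elim (cert_false T ((skipEmb 3).trans (Function.Embedding.refl _)) (by norm_num) (fun _ => hall _) (((((LB_zero T ((skipEmb 3).trans (Function.Embedding.refl _))).upd 1 3 1 (le_of_eq hx14)).upd 2 3 1 (le_of_eq hx24)).upd 3 1 1 (le_of_eq hx41)).upd 3 2 3 (le_of_eq hx42)) ![0,1,1,2] (by decide) (by decide) 1 (by decide))
    · -- 24=(3,1)
      exact False.elim (cert_false T ((skipEmb 3).trans (Function.Embedding.refl _)) (by norm_num) (fun _ => hall _) (((((LB_zero T ((skipEmb 3).trans (Function.Embedding.refl _))).upd 1 3 1 (le_of_eq hx14)).upd 2 3 3 (le_of_eq hx24)).upd 3 1 1 (le_of_eq hx41)).upd 3 2 1 (le_of_eq hx42)) ![0,1,3,2] (by decide) (by decide) 1 (by decide))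
  · -- 14=(1,2)
    rcases d24 with ⟨rfl, rfl⟩ | ⟨rfl, rfl⟩ | ⟨rfl, rfl⟩ | ⟨rfl, rfl⟩ | ⟨rfl, rfl⟩ | ⟨rfl, rfl⟩
    · -- 24=(0,0)
      rcases d34 with ⟨rfl, rfl⟩ | ⟨rfl, rfl⟩ | ⟨rfl, rfl⟩ | ⟨rfl, rfl⟩ | ⟨rfl, rfl⟩ | ⟨rfl, rfl⟩
      · -- 34=(0,0)
        exfalso; omega
      · -- 34=(1,1)
        exact False.elim (cert_false T ((skipEmb 2).trans (Function.Embedding.refl _)) (by norm_num) (fun _ => hall _) (((((((LB_zero T ((skipEmb 2).trans (Function.Embedding.refl _))).upd 0 2 2 (le_of_eq hx03)).upd 1 3 1 (le_of_eq hx14)).upd 2 0 1 (le_of_eq hx30)).upd 2 3 1 (le_of_eq hx34)).upd 3 1 2 (le_of_eq hx41)).upd 3 2 1 (le_of_eq hx43)) ![2,1,2,2] (by decide) (by decide) 0 (by decide))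
      · -- 34=(1,2)
        exact False.elim (cert_false T ((skipEmb 2).trans (Function.Embedding.refl _)) (by norm_num) (fun _ => hall _) (((((LB_zero T ((skipEmb 2).trans (Function.Embedding.refl _))).upd 0 2 2 (le_of_eq hx03)).upd 2 0 1 (le_of_eq hx30)).upd 2 3 1 (le_of_eq hx34)).upd 3 2 2 (le_of_eq hx43)) ![1,0,1,1] (by decide) (by decide) 0 (by decide))
      · -- 34=(2,1)
        exact False.elim (cert_false T ((skipEmb 2).trans (Function.Embedding.refl _)) (by norm_num) (fun _ => hall _) (((((LB_zero T ((skipEmb 2).trans (Function.Embedding.refl _))).upd 1 3 1 (le_of_eq hx14)).upd 2 3 2 (le_of_eq hx34)).upd 3 1 2 (le_of_eq hx41)).upd 3 2 1 (le_of_eq hx43)) ![0,1,2,2] (by decide) (by decide) 1 (by decide))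
      · -- 34=(1,3)
        exact False.elim (cert_false T ((skipEmb 2).trans (Function.Embedding.refl _)) (by norm_num) (fun _ => hall _) (((((LB_zero T ((skipEmb 2).trans (Function.Embedding.refl _))).upd 0 2 2 (le_of_eq hx03)).upd 2 0 1 (le_of_eq hx30)).upd 2 3 1 (le_of_eq hx34)).upd 3 2 3 (le_of_eq hx43)) ![1,0,1,1] (by decide) (by decide) 0 (by decide))
      · -- 34=(3,1)
        exact False.elim (cert_false T ((skipEmb 2).trans (Function.Embedding.refl _)) (by norm_num) (fun _ => hall _) (((((LB_zero T ((skipEmb 2).trans (Function.Embedding.refl _))).upd 1 3 1 (le_of_eq hx14)).upd 2 3 3 (le_of_eq hx34)).upd 3 1 2 (le_of_eq hx41)).upd 3 2 1 (le_of_eq hx43)) ![0,1,2,2] (by decide) (by decide) 1 (by decide))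
    · -- 24=(1,1)
      rcases d34 with ⟨rfl, rfl⟩ | ⟨rfl, rfl⟩ | ⟨rfl, rfl⟩ | ⟨rfl, rfl⟩ | ⟨rfl, rfl⟩ | ⟨rfl, rfl⟩
      · -- 34=(0,0)
        exfalso; omega
      · -- 34=(1,1)
        exact False.elim (cert_false T ((skipEmb 2).trans (Function.Embedding.refl _)) (by norm_num) (fun _ => hall _) (((((((LB_zero T ((skipEmb 2).trans (Function.Embedding.refl _))).upd 0 2 2 (le_of_eq hx03)).upd 1 3 1 (le_of_eq hx14)).upd 2 0 1 (le_of_eq hx30)).upd 2 3 1 (le_of_eq hx34)).upd 3 1 2 (le_of_eq hx41)).upd 3 2 1 (le_of_eq hx43)) ![2,1,2,2] (by decide) (by decide) 0 (by decide))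
      · -- 34=(1,2)
        exact False.elim (cert_false T ((skipEmb 2).trans (Function.Embedding.refl _)) (by norm_num) (fun _ => hall _) (((((LB_zero T ((skipEmb 2).trans (Function.Embedding.refl _))).upd 0 2 2 (le_of_eq hx03)).upd 2 0 1 (le_of_eq hx30)).upd 2 3 1 (le_of_eq hx34)).upd 3 2 2 (le_of_eq hx43)) ![1,0,1,1] (by decide) (by decide) 0 (by decide))
      · -- 34=(2,1)
        exact False.elim (cert_false T ((skipEmb 2).trans (Function.Embedding.refl _)) (by norm_num) (fun _ => hall _) (((((LB_zero T ((skipEmb 2).trans (Function.Embedding.refl _))).upd 1 3 1 (le_of_eq hx14)).upd 2 3 2 (le_of_eq hx34)).upd 3 1 2 (le_of_eq hx41)).upd 3 2 1 (le_of_eq hx43)) ![0,1,2,2] (by decide) (by decide) 1 (by decide))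
      · -- 34=(1,3)
        exact False.elim (cert_false T ((skipEmb 2).trans (Function.Embedding.refl _)) (by norm_num) (fun _ => hall _) (((((LB_zero T ((skipEmb 2).trans (Function.Embedding.refl _))).upd 0 2 2 (le_of_eq hx03)).upd 2 0 1 (le_of_eq hx30)).upd 2 3 1 (le_of_eq hx34)).upd 3 2 3 (le_of_eq hx43)) ![1,0,1,1] (by decide) (by decide) 0 (by decide))
      · -- 34=(3,1)
        exact False.elim (cert_false T ((skipEmb 2).trans (Function.Embedding.refl _)) (by norm_num) (fun _ => hall _) (((((LB_zero T ((skipEmb 2).trans (Function.Embedding.refl _))).upd 1 3 1 (le_of_eq hx14)).upd 2 3 3 (le_of_eq hx34)).upd 3 1 2 (le_of_eq hx41)).upd 3 2 1 (le_of_eq hx43)) ![0,1,2,2] (by decide) (by decide) 1 (by decide))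
    · -- 24=(1,2)
      exact False.elim (cert_false T ((skipEmb 3).trans (Function.Embedding.refl _)) (by norm_num) (fun _ => hall _) (((((LB_zero T ((skipEmb 3).trans (Function.Embedding.refl _))).upd 1 3 1 (le_of_eq hx14)).upd 2 3 1 (le_of_eq hx24)).upd 3 1 2 (le_of_eq hx41)).upd 3 2 2 (le_of_eq hx42)) ![0,1,1,2] (by decide) (by decide) 1 (by decide))
    · -- 24=(2,1)
      exact False.elim (cert_false T ((skipEmb 3).trans (Function.Embedding.refl _)) (by norm_num) (fun _ => hall _) (((((LB_zero T ((skipEmb 3).trans (Function.Embedding.refl _))).upd 1 3 1 (le_of_eq hx14)).upd 2 3 2 (le_of_eq hx24)).upd 3 1 2 (le_of_eq hx41)).upd 3 2 1 (le_of_eq hx42)) ![0,1,2,2] (by decide) (by decide) 1 (by decide))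
    · -- 24=(1,3)
      exact False.elim (cert_false T ((skipEmb 3).trans (Function.Embedding.refl _)) (by norm_num) (fun _ => hall _) (((((LB_zero T ((skipEmb 3).trans (Function.Embedding.refl _))).upd 1 3 1 (le_of_eq hx14)).upd 2 3 1 (le_of_eq hx24)).upd 3 1 2 (le_of_eq hx41)).upd 3 2 3 (le_of_eq hx42)) ![0,1,1,2] (by decide) (by decide) 1 (by decide))
    · -- 24=(3,1)
      exact False.elim (cert_false T ((skipEmb 3).trans (Function.Embedding.refl _)) (by norm_num) (fun _ => hall _) (((((LB_zero T ((skipEmb 3).trans (Function.Embedding.refl _))).upd 1 3 1 (le_of_eq hx14)).upd 2 3 3 (le_of_eq hx24)).upd 3 1 2 (le_of_eq hx41)).upd 3 2 1 (le_of_eq hx42)) ![0,1,2,2] (by decide) (by decide) 1 (by decide))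
  · -- 14=(2,1)
    rcases d24 with ⟨rfl, rfl⟩ | ⟨rfl, rfl⟩ | ⟨rfl, rfl⟩ | ⟨rfl, rfl⟩ | ⟨rfl, rfl⟩ | ⟨rfl, rfl⟩
    · -- 24=(0,0)
      rcases d34 with ⟨rfl, rfl⟩ | ⟨rfl, rfl⟩ | ⟨rfl, rfl⟩ | ⟨rfl, rfl⟩ | ⟨rfl, rfl⟩ | ⟨rfl, rfl⟩
      · -- 34=(0,0)
        exfalso; omega
      · -- 34=(1,1)
        exact False.elim (cert_false T ((skipEmb 2).trans (Function.Embedding.refl _)) (by norm_num) (fun _ => hall _) (((((((LB_zero T ((skipEmb 2).trans (Function.Embedding.refl _))).upd 0 2 2 (le_of_eq hx03)).upd 1 3 2 (le_of_eq hx14)).upd 2 0 1 (le_of_eq hx30)).upd 2 3 1 (le_of_eq hx34)).upd 3 1 1 (le_of_eq hx41)).upd 3 2 1 (le_of_eq hx43)) ![1,1,1,1] (by decide) (by decide) 0 (by decide))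
      · -- 34=(1,2)
        exact False.elim (cert_false T ((skipEmb 2).trans (Function.Embedding.refl _)) (by norm_num) (fun _ => hall _) (((((LB_zero T ((skipEmb 2).trans (Function.Embedding.refl _))).upd 0 2 2 (le_of_eq hx03)).upd 2 0 1 (le_of_eq hx30)).upd 2 3 1 (le_of_eq hx34)).upd 3 2 2 (le_of_eq hx43)) ![1,0,1,1] (by decide) (by decide) 0 (by decide))
      · -- 34=(2,1)
        exact False.elim (cert_false T ((skipEmb 2).trans (Function.Embedding.refl _)) (by norm_num) (fun _ => hall _) (((((LB_zero T ((skipEmb 2).trans (Function.Embedding.refl _))).upd 1 3 2 (le_of_eq hx14)).upd 2 3 2 (le_of_eq hx34)).upd 3 1 1 (le_of_eq hx41)).upd 3 2 1 (le_of_eq hx43)) ![0,1,1,1] (by decide) (by decide) 1 (by decide))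
      · -- 34=(1,3)
        exact False.elim (cert_false T ((skipEmb 2).trans (Function.Embedding.refl _)) (by norm_num) (fun _ => hall _) (((((LB_zero T ((skipEmb 2).trans (Function.Embedding.refl _))).upd 0 2 2 (le_of_eq hx03)).upd 2 0 1 (le_of_eq hx30)).upd 2 3 1 (le_of_eq hx34)).upd 3 2 3 (le_of_eq hx43)) ![1,0,1,1] (by decide) (by decide) 0 (by decide))
      · -- 34=(3,1)
        exact False.elim (cert_false T ((skipEmb 2).trans (Function.Embedding.refl _)) (by norm_num) (fun _ => hall _) (((((LB_zero T ((skipEmb 2).trans (Function.Embedding.refl _))).upd 1 3 2 (le_of_eq hx14)).upd 2 3 3 (le_of_eq hx34)).upd 3 1 1 (le_of_eq hx41)).upd 3 2 1 (le_of_eq hx43)) ![0,1,1,1] (by decide) (by decide) 1 (by decide))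
    · -- 24=(1,1)
      rcases d34 with ⟨rfl, rfl⟩ | ⟨rfl, rfl⟩ | ⟨rfl, rfl⟩ | ⟨rfl, rfl⟩ | ⟨rfl, rfl⟩ | ⟨rfl, rfl⟩
      · -- 34=(0,0)
        exfalso; omega
      · -- 34=(1,1)
        exact False.elim (cert_false T ((skipEmb 2).trans (Function.Embedding.refl _)) (by norm_num) (fun _ => hall _) (((((((LB_zero T ((skipEmb 2).trans (Function.Embedding.refl _))).upd 0 2 2 (le_of_eq hx03)).upd 1 3 2 (le_of_eq hx14)).upd 2 0 1 (le_of_eq hx30)).upd 2 3 1 (le_of_eq hx34)).upd 3 1 1 (le_of_eq hx41)).upd 3 2 1 (le_of_eq hx43)) ![1,1,1,1] (by decide) (by decide) 0 (by decide))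
      · -- 34=(1,2)
        exact False.elim (cert_false T ((skipEmb 2).trans (Function.Embedding.refl _)) (by norm_num) (fun _ => hall _) (((((LB_zero T ((skipEmb 2).trans (Function.Embedding.refl _))).upd 0 2 2 (le_of_eq hx03)).upd 2 0 1 (le_of_eq hx30)).upd 2 3 1 (le_of_eq hx34)).upd 3 2 2 (le_of_eq hx43)) ![1,0,1,1] (by decide) (by decide) 0 (by decide))
      · -- 34=(2,1)
        exact False.elim (cert_false T ((skipEmb 2).trans (Function.Embedding.refl _)) (by norm_num) (fun _ => hall _) (((((LB_zero T ((skipEmb 2).trans (Function.Embedding.refl _))).upd 1 3 2 (le_of_eq hx14)).upd 2 3 2 (le_of_eq hx34)).upd 3 1 1 (le_of_eq hx41)).upd 3 2 1 (le_of_eq hx43)) ![0,1,1,1] (by decide) (by decide) 1 (by decide))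
      · -- 34=(1,3)
        exact False.elim (cert_false T ((skipEmb 2).trans (Function.Embedding.refl _)) (by norm_num) (fun _ => hall _) (((((LB_zero T ((skipEmb 2).trans (Function.Embedding.refl _))).upd 0 2 2 (le_of_eq hx03)).upd 2 0 1 (le_of_eq hx30)).upd 2 3 1 (le_of_eq hx34)).upd 3 2 3 (le_of_eq hx43)) ![1,0,1,1] (by decide) (by decide) 0 (by decide))
      · -- 34=(3,1)
        exact False.elim (cert_false T ((skipEmb 2).trans (Function.Embedding.refl _)) (by norm_num) (fun _ => hall _) (((((LB_zero T ((skipEmb 2).trans (Function.Embedding.refl _))).upd 1 3 2 (le_of_eq hx14)).upd 2 3 3 (le_of_eq hx34)).upd 3 1 1 (le_of_eq hx41)).upd 3 2 1 (le_of_eq hx43)) ![0,1,1,1] (by decide) (by decide) 1 (by decide))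
    · -- 24=(1,2)
      exact False.elim (cert_false T ((skipEmb 3).trans (Function.Embedding.refl _)) (by norm_num) (fun _ => hall _) (((((LB_zero T ((skipEmb 3).trans (Function.Embedding.refl _))).upd 1 3 2 (le_of_eq hx14)).upd 2 3 1 (le_of_eq hx24)).upd 3 1 1 (le_of_eq hx41)).upd 3 2 2 (le_of_eq hx42)) ![0,2,1,2] (by decide) (by decide) 1 (by decide))
    · -- 24=(2,1)
      exact False.elim (cert_false T ((skipEmb 3).trans (Function.Embedding.refl _)) (by norm_num) (fun _ => hall _) (((((LB_zero T ((skipEmb 3).trans (Function.Embedding.refl _))).upd 1 3 2 (le_of_eq hx14)).upd 2 3 2 (le_of_eq hx24)).upd 3 1 1 (le_of_eq hx41)).upd 3 2 1 (le_of_eq hx42)) ![0,1,1,1] (by decide) (by decide) 1 (by decide))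
    · -- 24=(1,3)
      exact False.elim (cert_false T ((skipEmb 3).trans (Function.Embedding.refl _)) (by norm_num) (fun _ => hall _) (((((LB_zero T ((skipEmb 3).trans (Function.Embedding.refl _))).upd 1 3 2 (le_of_eq hx14)).upd 2 3 1 (le_of_eq hx24)).upd 3 1 1 (le_of_eq hx41)).upd 3 2 3 (le_of_eq hx42)) ![0,1,1,2] (by decide) (by decide) 1 (by decide))
    · -- 24=(3,1)
      exact False.elim (cert_false T ((skipEmb 3).trans (Function.Embedding.refl _)) (by norm_num) (fun _ => hall _) (((((LB_zero T ((skipEmb 3).trans (Function.Embedding.refl _))).upd 1 3 2 (le_of_eq hx14)).upd 2 3 3 (le_of_eq hx24)).upd 3 1 1 (le_of_eq hx41)).upd 3 2 1 (le_of_eq hx42)) ![0,1,1,1] (by decide) (by decide) 1 (by decide))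
  · -- 14=(1,3)
    rcases d24 with ⟨rfl, rfl⟩ | ⟨rfl, rfl⟩ | ⟨rfl, rfl⟩ | ⟨rfl, rfl⟩ | ⟨rfl, rfl⟩ | ⟨rfl, rfl⟩
    · -- 24=(0,0)
      rcases d34 with ⟨rfl, rfl⟩ | ⟨rfl, rfl⟩ | ⟨rfl, rfl⟩ | ⟨rfl, rfl⟩ | ⟨rfl, rfl⟩ | ⟨rfl, rfl⟩
      · -- 34=(0,0)
        exfalso; omega
      · -- 34=(1,1)
        exact False.elim (cert_false T ((skipEmb 2).trans (Function.Embedding.refl _)) (by norm_num) (fun _ => hall _) (((((LB_zero T ((skipEmb 2).trans (Function.Embedding.refl _))).upd 1 3 1 (le_of_eq hx14)).upd 2 3 1 (le_of_eq hx34)).upd 3 1 3 (le_of_eq hx41)).upd 3 2 1 (le_of_eq hx43)) ![0,1,1,2] (by decide) (by decide) 1 (by decide))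
      · -- 34=(1,2)
        exact False.elim (cert_false T ((skipEmb 2).trans (Function.Embedding.refl _)) (by norm_num) (fun _ => hall _) (((((LB_zero T ((skipEmb 2).trans (Function.Embedding.refl _))).upd 0 2 2 (le_of_eq hx03)).upd 2 0 1 (le_of_eq hx30)).upd 2 3 1 (le_of_eq hx34)).upd 3 2 2 (le_of_eq hx43)) ![1,0,1,1] (by decide) (by decide) 0 (by decide))
      · -- 34=(2,1)
        exact False.elim (cert_false T ((skipEmb 2).trans (Function.Embedding.refl _)) (by norm_num) (fun _ => hall _) (((((LB_zero T ((skipEmb 2).trans (Function.Embedding.refl _))).upd 0 2 2 (le_of_eq hx03)).upd 2 0 1 (le_of_eq hx30)).upd 2 3 2 (le_of_eq hx34)).upd 3 2 1 (le_of_eq hx43)) ![2,0,2,1] (by decide) (by decide) 0 (by decide))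
      · -- 34=(1,3)
        exact False.elim (cert_false T ((skipEmb 2).trans (Function.Embedding.refl _)) (by norm_num) (fun _ => hall _) (((((LB_zero T ((skipEmb 2).trans (Function.Embedding.refl _))).upd 0 2 2 (le_of_eq hx03)).upd 2 0 1 (le_of_eq hx30)).upd 2 3 1 (le_of_eq hx34)).upd 3 2 3 (le_of_eq hx43)) ![1,0,1,1] (by decide) (by decide) 0 (by decide))
      · -- 34=(3,1)
        exact False.elim (cert_false T ((skipEmb 2).trans (Function.Embedding.refl _)) (by norm_num) (fun _ => hall _) (((((LB_zero T ((skipEmb 2).trans (Function.Embedding.refl _))).upd 1 3 1 (le_of_eq hx14)).upd 2 3 3 (le_of_eq hx34)).upd 3 1 3 (le_of_eq hx41)).upd 3 2 1 (le_of_eq hx43)) ![0,1,1,2] (by decide) (by decide) 1 (by decide))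
    · -- 24=(1,1)
      exact False.elim (cert_false T ((skipEmb 3).trans (Function.Embedding.refl _)) (by norm_num) (fun _ => hall _) (((((LB_zero T ((skipEmb 3).trans (Function.Embedding.refl _))).upd 1 3 1 (le_of_eq hx14)).upd 2 3 1 (le_of_eq hx24)).upd 3 1 3 (le_of_eq hx41)).upd 3 2 1 (le_of_eq hx42)) ![0,1,1,2] (by decide) (by decide) 1 (by decide))
    · -- 24=(1,2)
      exact False.elim (cert_false T ((skipEmb 3).trans (Function.Embedding.refl _)) (by norm_num) (fun _ => hall _) (((((LB_zero T ((skipEmb 3).trans (Function.Embedding.refl _))).upd 1 3 1 (le_of_eq hx14)).upd 2 3 1 (le_of_eq hx24)).upd 3 1 3 (le_of_eq hx41)).upd 3 2 2 (le_of_eq hx42)) ![0,1,1,2] (by decide) (by decide) 1 (by decide))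
    · -- 24=(2,1)
      exact False.elim (cert_false T ((skipEmb 3).trans (Function.Embedding.refl _)) (by norm_num) (fun _ => hall _) (((((LB_zero T ((skipEmb 3).trans (Function.Embedding.refl _))).upd 1 3 1 (le_of_eq hx14)).upd 2 3 2 (le_of_eq hx24)).upd 3 1 3 (le_of_eq hx41)).upd 3 2 1 (le_of_eq hx42)) ![0,1,1,2] (by decide) (by decide) 1 (by decide))
    · -- 24=(1,3)
      exact False.elim (cert_false T ((skipEmb 3).trans (Function.Embedding.refl _)) (by norm_num) (fun _ => hall _) (((((LB_zero T ((skipEmb 3).trans (Function.Embedding.refl _))).upd 1 3 1 (le_of_eq hx14)).upd 2 3 1 (le_of_eq hx24)).upd 3 1 3 (le_of_eq hx41)).upd 3 2 3 (le_of_eq hx42)) ![0,1,1,2] (by decide) (by decide) 1 (by decide))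
    · -- 24=(3,1)
      exact False.elim (cert_false T ((skipEmb 3).trans (Function.Embedding.refl _)) (by norm_num) (fun _ => hall _) (((((LB_zero T ((skipEmb 3).trans (Function.Embedding.refl _))).upd 1 3 1 (le_of_eq hx14)).upd 2 3 3 (le_of_eq hx24)).upd 3 1 3 (le_of_eq hx41)).upd 3 2 1 (le_of_eq hx42)) ![0,1,1,2] (by decide) (by decide) 1 (by decide))
  · -- 14=(3,1)
    rcases d24 with ⟨rfl, rfl⟩ | ⟨rfl, rfl⟩ | ⟨rfl, rfl⟩ | ⟨rfl, rfl⟩ | ⟨rfl, rfl⟩ | ⟨rfl, rfl⟩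
    · -- 24=(0,0)
      rcases d34 with ⟨rfl, rfl⟩ | ⟨rfl, rfl⟩ | ⟨rfl, rfl⟩ | ⟨rfl, rfl⟩ | ⟨rfl, rfl⟩ | ⟨rfl, rfl⟩
      · -- 34=(0,0)
        exfalso; omega
      · -- 34=(1,1)
        exact False.elim (cert_false T ((skipEmb 2).trans (Function.Embedding.refl _)) (by norm_num) (fun _ => hall _) (((((((LB_zero T ((skipEmb 2).trans (Function.Embedding.refl _))).upd 0 2 2 (le_of_eq hx03)).upd 1 3 3 (le_of_eq hx14)).upd 2 0 1 (le_of_eq hx30)).upd 2 3 1 (le_of_eq hx34)).upd 3 1 1 (le_of_eq hx41)).upd 3 2 1 (le_of_eq hx43)) ![1,1,1,1] (by decide) (by decide) 0 (by decide))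
      · -- 34=(1,2)
        exact False.elim (cert_false T ((skipEmb 2).trans (Function.Embedding.refl _)) (by norm_num) (fun _ => hall _) (((((LB_zero T ((skipEmb 2).trans (Function.Embedding.refl _))).upd 0 2 2 (le_of_eq hx03)).upd 2 0 1 (le_of_eq hx30)).upd 2 3 1 (le_of_eq hx34)).upd 3 2 2 (le_of_eq hx43)) ![1,0,1,1] (by decide) (by decide) 0 (by decide))
      · -- 34=(2,1)
        exact False.elim (cert_false T ((skipEmb 2).trans (Function.Embedding.refl _)) (by norm_num) (fun _ => hall _) (((((LB_zero T ((skipEmb 2).trans (Function.Embedding.refl _))).upd 1 3 3 (le_of_eq hx14)).upd 2 3 2 (le_of_eq hx34)).upd 3 1 1 (le_of_eq hx41)).upd 3 2 1 (le_of_eq hx43)) ![0,1,1,1] (by decide) (by decide) 1 (by decide))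
      · -- 34=(1,3)
        exact False.elim (cert_false T ((skipEmb 2).trans (Function.Embedding.refl _)) (by norm_num) (fun _ => hall _) (((((LB_zero T ((skipEmb 2).trans (Function.Embedding.refl _))).upd 0 2 2 (le_of_eq hx03)).upd 2 0 1 (le_of_eq hx30)).upd 2 3 1 (le_of_eq hx34)).upd 3 2 3 (le_of_eq hx43)) ![1,0,1,1] (by decide) (by decide) 0 (by decide))
      · -- 34=(3,1)
        exact False.elim (cert_false T ((skipEmb 2).trans (Function.Embedding.refl _)) (by norm_num) (fun _ => hall _) (((((LB_zero T ((skipEmb 2).trans (Function.Embedding.refl _))).upd 1 3 3 (le_of_eq hx14)).upd 2 3 3 (le_of_eq hx34)).upd 3 1 1 (le_of_eq hx41)).upd 3 2 1 (le_of_eq hx43)) ![0,1,1,1] (by decide) (by decide) 1 (by decide))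
    · -- 24=(1,1)
      exact False.elim (cert_false T ((skipEmb 3).trans (Function.Embedding.refl _)) (by norm_num) (fun _ => hall _) (((((LB_zero T ((skipEmb 3).trans (Function.Embedding.refl _))).upd 1 3 3 (le_of_eq hx14)).upd 2 3 1 (le_of_eq hx24)).upd 3 1 1 (le_of_eq hx41)).upd 3 2 1 (le_of_eq hx42)) ![0,3,1,2] (by decide) (by decide) 1 (by decide))
    · -- 24=(1,2)
      exact False.elim (cert_false T ((skipEmb 3).trans (Function.Embedding.refl _)) (by norm_num) (fun _ => hall _) (((((LB_zero T ((skipEmb 3).trans (Function.Embedding.refl _))).upd 1 3 3 (le_of_eq hx14)).upd 2 3 1 (le_of_eq hx24)).upd 3 1 1 (le_of_eq hx41)).upd 3 2 2 (le_of_eq hx42)) ![0,2,1,2] (by decide) (by decide) 1 (by decide))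
    · -- 24=(2,1)
      exact False.elim (cert_false T ((skipEmb 3).trans (Function.Embedding.refl _)) (by norm_num) (fun _ => hall _) (((((LB_zero T ((skipEmb 3).trans (Function.Embedding.refl _))).upd 1 3 3 (le_of_eq hx14)).upd 2 3 2 (le_of_eq hx24)).upd 3 1 1 (le_of_eq hx41)).upd 3 2 1 (le_of_eq hx42)) ![0,1,1,1] (by decide) (by decide) 1 (by decide))
    · -- 24=(1,3)
      exact False.elim (cert_false T ((skipEmb 3).trans (Function.Embedding.refl _)) (by norm_num) (fun _ => hall _) (((((LB_zero T ((skipEmb 3).trans (Function.Embedding.refl _))).upd 1 3 3 (le_of_eq hx14)).upd 2 3 1 (le_of_eq hx24)).upd 3 1 1 (le_of_eq hx41)).upd 3 2 3 (le_of_eq hx42)) ![0,1,1,2] (by decide) (by decide) 1 (by decide))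
    · -- 24=(3,1)
      exact False.elim (cert_false T ((skipEmb 3).trans (Function.Embedding.refl _)) (by norm_num) (fun _ => hall _) (((((LB_zero T ((skipEmb 3).trans (Function.Embedding.refl _))).upd 1 3 3 (le_of_eq hx14)).upd 2 3 3 (le_of_eq hx24)).upd 3 1 1 (le_of_eq hx41)).upd 3 2 1 (le_of_eq hx42)) ![0,1,1,1] (by decide) (by decide) 1 (by decide))

theorem case75 (T : NumericalType 5) (hall : ∀ i, T.IsMinusTwo i) (d : SData T)
    (h01 : N T (Function.Embedding.refl _) 0 1 = 0) (h10 : N T (Function.Embedding.refl _) 1 0 = 0)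
    (h02 : N T (Function.Embedding.refl _) 0 2 = 0) (h20 : N T (Function.Embedding.refl _) 2 0 = 0)
    (h12 : N T (Function.Embedding.refl _) 1 2 = 0) (h21 : N T (Function.Embedding.refl _) 2 1 = 0)
    (h03 : N T (Function.Embedding.refl _) 0 3 = 2) (h30 : N T (Function.Embedding.refl _) 3 0 = 1)
    (h13 : N T (Function.Embedding.refl _) 1 3 = 0) (h31 : N T (Function.Embedding.refl _) 3 1 = 0)
    (h23 : N T (Function.Embedding.refl _) 2 3 = 0) (h32 : N T (Function.Embedding.refl _) 3 2 = 0) :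
    Goal T := by
  unfold Goal
  have hd := d
  obtain ⟨x01, x02, x03, x04, x10, x12, x13, x14, x20, x21, x23, x24, x30, x31, x32, x34, x40, x41, x42, x43, hx01, hx02, hx03, hx04, hx10, hx12, hx13, hx14, hx20, hx21, hx23, hx24, hx30, hx31, hx32, hx34, hx40, hx41, hx42, hx43, hw0, hm0, hw1, hm1, hw2, hm2, hw3, hm3, hw4, hm4, a00, a01, a02, a03, a04, a11, a10, a12, a13, a14, a22, a20, a21, a23, a24, a33, a30, a31, a32, a34, a44, a40, a41, a42, a43, wN01, wN02, wN12, wN03, wN13, wN23, wN04, wN14, wN24, wN34, e0, e1, e2, e3, e4, d01, d02, d12, d03, d13, d23, d04, d14, d24, d34⟩ := d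
  obtain rfl : x01 = 0 := hx01.trans h01
  obtain rfl : x10 = 0 := hx10.trans h10
  obtain rfl : x02 = 0 := hx02.trans h02
  obtain rfl : x20 = 0 := hx20.trans h20
  obtain rfl : x12 = 0 := hx12.trans h12
  obtain rfl : x21 = 0 := hx21.trans h21
  obtain rfl : x03 = 2 := hx03.trans h03
  obtain rfl : x30 = 1 := hx30.trans h30
  obtain rfl : x13 = 0 := hx13.trans h13
  obtain rfl : x31 = 0 := hx31.trans h31
  obtain rfl : x23 = 0 := hx23.trans h23
  obtain rfl : x32 = 0 := hx32.trans h32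
  rcases d04 with ⟨rfl, rfl⟩ | ⟨rfl, rfl⟩ | ⟨rfl, rfl⟩ | ⟨rfl, rfl⟩ | ⟨rfl, rfl⟩ | ⟨rfl, rfl⟩
  · -- 04=(0,0)
    exact case76 T hall hd hx01.symm hx10.symm hx02.symm hx20.symm hx12.symm hx21.symm hx03.symm hx30.symm hx13.symm hx31.symm hx23.symm hx32.symm hx04.symm hx40.symm
  · -- 04=(1,1)
    rcases d14 with ⟨rfl, rfl⟩ | ⟨rfl, rfl⟩ | ⟨rfl, rfl⟩ | ⟨rfl, rfl⟩ | ⟨rfl, rfl⟩ | ⟨rfl, rfl⟩
    · -- 14=(0,0)
      rcases d24 with ⟨rfl, rfl⟩ | ⟨rfl, rfl⟩ | ⟨rfl, rfl⟩ | ⟨rfl, rfl⟩ | ⟨rfl, rfl⟩ | ⟨rfl, rfl⟩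
      · -- 24=(0,0)
        rcases d34 with ⟨rfl, rfl⟩ | ⟨rfl, rfl⟩ | ⟨rfl, rfl⟩ | ⟨rfl, rfl⟩ | ⟨rfl, rfl⟩ | ⟨rfl, rfl⟩
        · -- 34=(0,0)
          exfalso; omega
        · -- 34=(1,1)
          exact False.elim (cert_false T ((skipEmb 2).trans (Function.Embedding.refl _)) (by norm_num) (fun _ => hall _) (((((((LB_zero T ((skipEmb 2).trans (Function.Embedding.refl _))).upd 0 2 2 (le_of_eq hx03)).upd 0 3 1 (le_of_eq hx04)).upd 2 0 1 (le_of_eq hx30)).upd 2 3 1 (le_of_eq hx34)).upd 3 0 1 (le_of_eq hx40)).upd 3 2 1 (le_of_eq hx43)) ![1,0,1,1] (by decide) (by decide) 0 (by decide))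
        · -- 34=(1,2)
          exact False.elim (cert_false T ((skipEmb 2).trans (Function.Embedding.refl _)) (by norm_num) (fun _ => hall _) (((((((LB_zero T ((skipEmb 2).trans (Function.Embedding.refl _))).upd 0 2 2 (le_of_eq hx03)).upd 0 3 1 (le_of_eq hx04)).upd 2 0 1 (le_of_eq hx30)).upd 2 3 1 (le_of_eq hx34)).upd 3 0 1 (le_of_eq hx40)).upd 3 2 2 (le_of_eq hx43)) ![1,0,1,1] (by decide) (by decide) 0 (by decide))
        · -- 34=(2,1)
          exact False.elim (cert_false T ((skipEmb 2).trans (Function.Embedding.refl _)) (by norm_num) (fun _ => hall _) (((((((LB_zero T ((skipEmb 2).trans (Function.Embedding.refl _))).upd 0 2 2 (le_of_eq hx03)).upd 0 3 1 (le_of_eq hx04)).upd 2 0 1 (le_of_eq hx30)).upd 2 3 2 (le_of_eq hx34)).upd 3 0 1 (le_of_eq hx40)).upd 3 2 1 (le_of_eq hx43)) ![1,0,1,1] (by decide) (by decide) 0 (by decide))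
        · -- 34=(1,3)
          exact False.elim (cert_false T ((skipEmb 2).trans (Function.Embedding.refl _)) (by norm_num) (fun _ => hall _) (((((((LB_zero T ((skipEmb 2).trans (Function.Embedding.refl _))).upd 0 2 2 (le_of_eq hx03)).upd 0 3 1 (le_of_eq hx04)).upd 2 0 1 (le_of_eq hx30)).upd 2 3 1 (le_of_eq hx34)).upd 3 0 1 (le_of_eq hx40)).upd 3 2 3 (le_of_eq hx43)) ![1,0,1,1] (by decide) (by decide) 0 (by decide))
        · -- 34=(3,1)
          exact False.elim (cert_false T ((skipEmb 2).trans (Function.Embedding.refl _)) (by norm_num) (fun _ => hall _) (((((((LB_zero T ((skipEmb 2).trans (Function.Embedding.refl _))).upd 0 2 2 (le_of_eq hx03)).upd 0 3 1 (le_of_eq hx04)).upd 2 0 1 (le_of_eq hx30)).upd 2 3 3 (le_of_eq hx34)).upd 3 0 1 (le_of_eq hx40)).upd 3 2 1 (le_of_eq hx43)) ![1,0,1,1] (by decide) (by decide) 0 (by decide))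
      · -- 24=(1,1)
        rcases d34 with ⟨rfl, rfl⟩ | ⟨rfl, rfl⟩ | ⟨rfl, rfl⟩ | ⟨rfl, rfl⟩ | ⟨rfl, rfl⟩ | ⟨rfl, rfl⟩
        · -- 34=(0,0)
          exfalso; omega
        · -- 34=(1,1)
          exact False.elim (cert_false T ((skipEmb 2).trans (Function.Embedding.refl _)) (by norm_num) (fun _ => hall _) (((((((LB_zero T ((skipEmb 2).trans (Function.Embedding.refl _))).upd 0 2 2 (le_of_eq hx03)).upd 0 3 1 (le_of_eq hx04)).upd 2 0 1 (le_of_eq hx30)).upd 2 3 1 (le_of_eq hx34)).upd 3 0 1 (le_of_eq hx40)).upd 3 2 1 (le_of_eq hx43)) ![1,0,1,1] (by decide) (by decide) 0 (by decide))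
        · -- 34=(1,2)
          exact False.elim (cert_false T ((skipEmb 2).trans (Function.Embedding.refl _)) (by norm_num) (fun _ => hall _) (((((((LB_zero T ((skipEmb 2).trans (Function.Embedding.refl _))).upd 0 2 2 (le_of_eq hx03)).upd 0 3 1 (le_of_eq hx04)).upd 2 0 1 (le_of_eq hx30)).upd 2 3 1 (le_of_eq hx34)).upd 3 0 1 (le_of_eq hx40)).upd 3 2 2 (le_of_eq hx43)) ![1,0,1,1] (by decide) (by decide) 0 (by decide))
        · -- 34=(2,1)
          exact False.elim (cert_false T ((skipEmb 2).trans (Function.Embedding.refl _)) (by norm_num) (fun _ => hall _) (((((((LB_zero T ((skipEmb 2).trans (Function.Embedding.refl _))).upd 0 2 2 (le_of_eq hx03)).upd 0 3 1 (le_of_eq hx04)).upd 2 0 1 (le_of_eq hx30)).upd 2 3 2 (le_of_eq hx34)).upd 3 0 1 (le_of_eq hx40)).upd 3 2 1 (le_of_eq hx43)) ![1,0,1,1] (by decide) (by decide) 0 (by decide))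
        · -- 34=(1,3)
          exact False.elim (cert_false T ((skipEmb 2).trans (Function.Embedding.refl _)) (by norm_num) (fun _ => hall _) (((((((LB_zero T ((skipEmb 2).trans (Function.Embedding.refl _))).upd 0 2 2 (le_of_eq hx03)).upd 0 3 1 (le_of_eq hx04)).upd 2 0 1 (le_of_eq hx30)).upd 2 3 1 (le_of_eq hx34)).upd 3 0 1 (le_of_eq hx40)).upd 3 2 3 (le_of_eq hx43)) ![1,0,1,1] (by decide) (by decide) 0 (by decide))
        · -- 34=(3,1)
          exact False.elim (cert_false T ((skipEmb 2).trans (Function.Embedding.refl _)) (by norm_num) (fun _ => hall _) (((((((LB_zero T ((skipEmb 2).trans (Function.Embedding.refl _))).upd 0 2 2 (le_of_eq hx03)).upd 0 3 1 (le_of_eq hx04)).upd 2 0 1 (le_of_eq hx30)).upd 2 3 3 (le_of_eq hx34)).upd 3 0 1 (le_of_eq hx40)).upd 3 2 1 (le_of_eq hx43)) ![1,0,1,1] (by decide) (by decide) 0 (by decide))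
      · -- 24=(1,2)
        exact False.elim (cert_false T ((skipEmb 1).trans (Function.Embedding.refl _)) (by norm_num) (fun _ => hall _) (((((((LB_zero T ((skipEmb 1).trans (Function.Embedding.refl _))).upd 0 2 2 (le_of_eq hx03)).upd 0 3 1 (le_of_eq hx04)).upd 1 3 1 (le_of_eq hx24)).upd 2 0 1 (le_of_eq hx30)).upd 3 0 1 (le_of_eq hx40)).upd 3 1 2 (le_of_eq hx42)) ![2,1,1,2] (by decide) (by decide) 0 (by decide))
      · -- 24=(2,1)
        exact False.elim (cert_false T ((skipEmb 1).trans (Function.Embedding.refl _)) (by norm_num) (fun _ => hall _) (((((((LB_zero T ((skipEmb 1).trans (Function.Embedding.refl _))).upd 0 2 2 (le_of_eq hx03)).upd 0 3 1 (le_of_eq hx04)).upd 1 3 2 (le_of_eq hx24)).upd 2 0 1 (le_of_eq hx30)).upd 3 0 1 (le_of_eq hx40)).upd 3 1 1 (le_of_eq hx42)) ![2,2,1,2] (by decide) (by decide) 0 (by decide))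
      · -- 24=(1,3)
        exact False.elim (cert_false T ((skipEmb 3).trans (Function.Embedding.refl _)) (by norm_num) (fun _ => hall _) (((((LB_zero T ((skipEmb 3).trans (Function.Embedding.refl _))).upd 0 3 1 (le_of_eq hx04)).upd 2 3 1 (le_of_eq hx24)).upd 3 0 1 (le_of_eq hx40)).upd 3 2 3 (le_of_eq hx42)) ![1,0,1,2] (by decide) (by decide) 0 (by decide))
      · -- 24=(3,1)
        exact False.elim (cert_false T ((skipEmb 3).trans (Function.Embedding.refl _)) (by norm_num) (fun _ => hall _) (((((LB_zero T ((skipEmb 3).trans (Function.Embedding.refl _))).upd 0 3 1 (le_of_eq hx04)).upd 2 3 3 (le_of_eq hx24)).upd 3 0 1 (le_of_eq hx40)).upd 3 2 1 (le_of_eq hx42)) ![1,0,3,2] (by decide) (by decide) 0 (by decide))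
    · -- 14=(1,1)
      rcases d24 with ⟨rfl, rfl⟩ | ⟨rfl, rfl⟩ | ⟨rfl, rfl⟩ | ⟨rfl, rfl⟩ | ⟨rfl, rfl⟩ | ⟨rfl, rfl⟩
      · -- 24=(0,0)
        rcases d34 with ⟨rfl, rfl⟩ | ⟨rfl, rfl⟩ | ⟨rfl, rfl⟩ | ⟨rfl, rfl⟩ | ⟨rfl, rfl⟩ | ⟨rfl, rfl⟩
        · -- 34=(0,0)
          exfalso; omega
        · -- 34=(1,1)
          exact False.elim (cert_false T ((skipEmb 2).trans (Function.Embedding.refl _)) (by norm_num) (fun _ => hall _) (((((((LB_zero T ((skipEmb 2).trans (Function.Embedding.refl _))).upd 0 2 2 (le_of_eq hx03)).upd 0 3 1 (le_of_eq hx04)).upd 2 0 1 (le_of_eq hx30)).upd 2 3 1 (le_of_eq hx34)).upd 3 0 1 (le_of_eq hx40)).upd 3 2 1 (le_of_eq hx43)) ![1,0,1,1] (by decide) (by decide) 0 (by decide))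
        · -- 34=(1,2)
          exact False.elim (cert_false T ((skipEmb 2).trans (Function.Embedding.refl _)) (by norm_num) (fun _ => hall _) (((((((LB_zero T ((skipEmb 2).trans (Function.Embedding.refl _))).upd 0 2 2 (le_of_eq hx03)).upd 0 3 1 (le_of_eq hx04)).upd 2 0 1 (le_of_eq hx30)).upd 2 3 1 (le_of_eq hx34)).upd 3 0 1 (le_of_eq hx40)).upd 3 2 2 (le_of_eq hx43)) ![1,0,1,1] (by decide) (by decide) 0 (by decide))
        · -- 34=(2,1)
          exact False.elim (cert_false T ((skipEmb 2).trans (Function.Embedding.refl _)) (by norm_num) (fun _ => hall _) (((((((LB_zero T ((skipEmb 2).trans (Function.Embedding.refl _))).upd 0 2 2 (le_of_eq hx03)).upd 0 3 1 (le_of_eq hx04)).upd 2 0 1 (le_of_eq hx30)).upd 2 3 2 (le_of_eq hx34)).upd 3 0 1 (le_of_eq hx40)).upd 3 2 1 (le_of_eq hx43)) ![1,0,1,1] (by decide) (by decide) 0 (by decide))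
        · -- 34=(1,3)
          exact False.elim (cert_false T ((skipEmb 2).trans (Function.Embedding.refl _)) (by norm_num) (fun _ => hall _) (((((((LB_zero T ((skipEmb 2).trans (Function.Embedding.refl _))).upd 0 2 2 (le_of_eq hx03)).upd 0 3 1 (le_of_eq hx04)).upd 2 0 1 (le_of_eq hx30)).upd 2 3 1 (le_of_eq hx34)).upd 3 0 1 (le_of_eq hx40)).upd 3 2 3 (le_of_eq hx43)) ![1,0,1,1] (by decide) (by decide) 0 (by decide))
        · -- 34=(3,1)
          exact False.elim (cert_false T ((skipEmb 2).trans (Function.Embedding.refl _)) (by norm_num) (fun _ => hall _) (((((((LB_zero T ((skipEmb 2).trans (Function.Embedding.refl _))).upd 0 2 2 (le_of_eq hx03)).upd 0 3 1 (le_of_eq hx04)).upd 2 0 1 (le_of_eq hx30)).upd 2 3 3 (le_of_eq hx34)).upd 3 0 1 (le_of_eq hx40)).upd 3 2 1 (le_of_eq hx43)) ![1,0,1,1] (by decide) (by decide) 0 (by decide))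
      · -- 24=(1,1)
        rcases d34 with ⟨rfl, rfl⟩ | ⟨rfl, rfl⟩ | ⟨rfl, rfl⟩ | ⟨rfl, rfl⟩ | ⟨rfl, rfl⟩ | ⟨rfl, rfl⟩
        · -- 34=(0,0)
          refine ⟨(⟨![3, 0, 4, 1, 2], ![1, 3, 4, 0, 2], by decide, by decide⟩ : Equiv.Perm (Fin 5)), T.m 3, T.w 0, Or.inr (Or.inr (Or.inr (Or.inr (Or.inr (Or.inr (Or.inr (Or.inl ?_)))))))⟩
          show T.m 3 = T.m 3 ∧ T.m 0 = 2 * T.m 3 ∧ T.m 4 = 2 * T.m 3 ∧ T.m 1 = T.m 3 ∧ T.m 2 = T.m 3 ∧ T.w 3 = 2 * T.w 0 ∧ T.w 0 = T.w 0 ∧ T.w 4 = T.w 0 ∧ T.w 1 = T.w 0 ∧ T.w 2 = T.w 0 ∧ T.a 3 3 = -4 * T.w 0 ∧ T.a 3 0 = 2 * T.w 0 ∧ T.a 3 4 = 0 ∧ T.a 3 1 = 0 ∧ T.a 3 2 = 0 ∧ T.a 0 0 = -2 * T.w 0 ∧ T.a 0 4 = T.w 0 ∧ T.a 0 1 = 0 ∧ T.a 0 2 = 0 ∧ T.a 4 4 = -2 * T.w 0 ∧ T.a 4 1 = T.w 0 ∧ T.a 4 2 = T.w 0 ∧ T.a 1 1 = -2 * T.w 0 ∧ T.a 1 2 = 0 ∧ T.a 2 2 = -2 * T.w 0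
          refine ⟨?_, ?_, ?_, ?_, ?_, ?_, ?_, ?_, ?_, ?_, ?_, ?_, ?_, ?_, ?_, ?_, ?_, ?_, ?_, ?_, ?_, ?_, ?_, ?_, ?_⟩ <;> omega
        · -- 34=(1,1)
          exact False.elim (cert_false T ((skipEmb 2).trans (Function.Embedding.refl _)) (by norm_num) (fun _ => hall _) (((((((LB_zero T ((skipEmb 2).trans (Function.Embedding.refl _))).upd 0 2 2 (le_of_eq hx03)).upd 0 3 1 (le_of_eq hx04)).upd 2 0 1 (le_of_eq hx30)).upd 2 3 1 (le_of_eq hx34)).upd 3 0 1 (le_of_eq hx40)).upd 3 2 1 (le_of_eq hx43)) ![1,0,1,1] (by decide) (by decide) 0 (by decide))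
        · -- 34=(1,2)
          exact False.elim (cert_false T ((skipEmb 2).trans (Function.Embedding.refl _)) (by norm_num) (fun _ => hall _) (((((((LB_zero T ((skipEmb 2).trans (Function.Embedding.refl _))).upd 0 2 2 (le_of_eq hx03)).upd 0 3 1 (le_of_eq hx04)).upd 2 0 1 (le_of_eq hx30)).upd 2 3 1 (le_of_eq hx34)).upd 3 0 1 (le_of_eq hx40)).upd 3 2 2 (le_of_eq hx43)) ![1,0,1,1] (by decide) (by decide) 0 (by decide))
        · -- 34=(2,1)
          exact False.elim (cert_false T ((skipEmb 2).trans (Function.Embedding.refl _)) (by norm_num) (fun _ => hall _) (((((((LB_zero T ((skipEmb 2).trans (Function.Embedding.refl _))).upd 0 2 2 (le_of_eq hx03)).upd 0 3 1 (le_of_eq hx04)).upd 2 0 1 (le_of_eq hx30)).upd 2 3 2 (le_of_eq hx34)).upd 3 0 1 (le_of_eq hx40)).upd 3 2 1 (le_of_eq hx43)) ![1,0,1,1] (by decide) (by decide) 0 (by decide))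
        · -- 34=(1,3)
          exact False.elim (cert_false T ((skipEmb 2).trans (Function.Embedding.refl _)) (by norm_num) (fun _ => hall _) (((((((LB_zero T ((skipEmb 2).trans (Function.Embedding.refl _))).upd 0 2 2 (le_of_eq hx03)).upd 0 3 1 (le_of_eq hx04)).upd 2 0 1 (le_of_eq hx30)).upd 2 3 1 (le_of_eq hx34)).upd 3 0 1 (le_of_eq hx40)).upd 3 2 3 (le_of_eq hx43)) ![1,0,1,1] (by decide) (by decide) 0 (by decide))
        · -- 34=(3,1)
          exact False.elim (cert_false T ((skipEmb 2).trans (Function.Embedding.refl _)) (by norm_num) (fun _ => hall _) (((((((LB_zero T ((skipEmb 2).trans (Function.Embedding.refl _))).upd 0 2 2 (le_of_eq hx03)).upd 0 3 1 (le_of_eq hx04)).upd 2 0 1 (le_of_eq hx30)).upd 2 3 3 (le_of_eq hx34)).upd 3 0 1 (le_of_eq hx40)).upd 3 2 1 (le_of_eq hx43)) ![1,0,1,1] (by decide) (by decide) 0 (by decide))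
      · -- 24=(1,2)
        exact False.elim (cert_false T ((skipEmb 3).trans (Function.Embedding.refl _)) (by norm_num) (fun _ => hall _) (((((((LB_zero T ((skipEmb 3).trans (Function.Embedding.refl _))).upd 0 3 1 (le_of_eq hx04)).upd 1 3 1 (le_of_eq hx14)).upd 2 3 1 (le_of_eq hx24)).upd 3 0 1 (le_of_eq hx40)).upd 3 1 1 (le_of_eq hx41)).upd 3 2 2 (le_of_eq hx42)) ![1,1,1,2] (by decide) (by decide) 0 (by decide))
      · -- 24=(2,1)
        exact False.elim (cert_false T ((skipEmb 3).trans (Function.Embedding.refl _)) (by norm_num) (fun _ => hall _) (((((((LB_zero T ((skipEmb 3).trans (Function.Embedding.refl _))).upd 0 3 1 (le_of_eq hx04)).upd 1 3 1 (le_of_eq hx14)).upd 2 3 2 (le_of_eq hx24)).upd 3 0 1 (le_of_eq hx40)).upd 3 1 1 (le_of_eq hx41)).upd 3 2 1 (le_of_eq hx42)) ![1,1,2,2] (by decide) (by decide) 0 (by decide))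
      · -- 24=(1,3)
        exact False.elim (cert_false T ((skipEmb 3).trans (Function.Embedding.refl _)) (by norm_num) (fun _ => hall _) (((((LB_zero T ((skipEmb 3).trans (Function.Embedding.refl _))).upd 1 3 1 (le_of_eq hx14)).upd 2 3 1 (le_of_eq hx24)).upd 3 1 1 (le_of_eq hx41)).upd 3 2 3 (le_of_eq hx42)) ![0,1,1,2] (by decide) (by decide) 1 (by decide))
      · -- 24=(3,1)
        exact False.elim (cert_false T ((skipEmb 3).trans (Function.Embedding.refl _)) (by norm_num) (fun _ => hall _) (((((((LB_zero T ((skipEmb 3).trans (Function.Embedding.refl _))).upd 0 3 1 (le_of_eq hx04)).upd 1 3 1 (le_of_eq hx14)).upd 2 3 3 (le_of_eq hx24)).upd 3 0 1 (le_of_eq hx40)).upd 3 1 1 (le_of_eq hx41)).upd 3 2 1 (le_of_eq hx42)) ![1,1,2,2] (by decide) (by decide) 0 (by decide))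
    · -- 14=(1,2)
      exact False.elim (cert_false T ((skipEmb 2).trans (Function.Embedding.refl _)) (by norm_num) (fun _ => hall _) (((((((LB_zero T ((skipEmb 2).trans (Function.Embedding.refl _))).upd 0 2 2 (le_of_eq hx03)).upd 0 3 1 (le_of_eq hx04)).upd 1 3 1 (le_of_eq hx14)).upd 2 0 1 (le_of_eq hx30)).upd 3 0 1 (le_of_eq hx40)).upd 3 1 2 (le_of_eq hx41)) ![2,1,1,2] (by decide) (by decide) 0 (by decide))
    · -- 14=(2,1)
      exact False.elim (cert_false T ((skipEmb 2).trans (Function.Embedding.refl _)) (by norm_num) (fun _ => hall _) (((((((LB_zero T ((skipEmb 2).trans (Function.Embedding.refl _))).upd 0 2 2 (le_of_eq hx03)).upd 0 3 1 (le_of_eq hx04)).upd 1 3 2 (le_of_eq hx14)).upd 2 0 1 (le_of_eq hx30)).upd 3 0 1 (le_of_eq hx40)).upd 3 1 1 (le_of_eq hx41)) ![2,2,1,2] (by decide) (by decide) 0 (by decide))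
    · -- 14=(1,3)
      exact False.elim (cert_false T ((skipEmb 3).trans (Function.Embedding.refl _)) (by norm_num) (fun _ => hall _) (((((LB_zero T ((skipEmb 3).trans (Function.Embedding.refl _))).upd 0 3 1 (le_of_eq hx04)).upd 1 3 1 (le_of_eq hx14)).upd 3 0 1 (le_of_eq hx40)).upd 3 1 3 (le_of_eq hx41)) ![1,1,0,2] (by decide) (by decide) 0 (by decide))
    · -- 14=(3,1)
      exact False.elim (cert_false T ((skipEmb 3).trans (Function.Embedding.refl _)) (by norm_num) (fun _ => hall _) (((((LB_zero T ((skipEmb 3).trans (Function.Embedding.refl _))).upd 0 3 1 (le_of_eq hx04)).upd 1 3 3 (le_of_eq hx14)).upd 3 0 1 (le_of_eq hx40)).upd 3 1 1 (le_of_eq hx41)) ![1,3,0,2] (by decide) (by decide) 0 (by decide))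
  · -- 04=(1,2)
    exact False.elim (cert_false T ((skipEmb 2).trans (Function.Embedding.refl _)) (by norm_num) (fun _ => hall _) (((((LB_zero T ((skipEmb 2).trans (Function.Embedding.refl _))).upd 0 2 2 (le_of_eq hx03)).upd 0 3 1 (le_of_eq hx04)).upd 2 0 1 (le_of_eq hx30)).upd 3 0 2 (le_of_eq hx40)) ![2,0,1,2] (by decide) (by decide) 0 (by decide))
  · -- 04=(2,1)
    exact False.elim (cert_false T ((skipEmb 2).trans (Function.Embedding.refl _)) (by norm_num) (fun _ => hall _) (((((LB_zero T ((skipEmb 2).trans (Function.Embedding.refl _))).upd 0 2 2 (le_of_eq hx03)).upd 0 3 2 (le_of_eq hx04)).upd 2 0 1 (le_of_eq hx30)).upd 3 0 1 (le_of_eq hx40)) ![2,0,1,1] (by decide) (by decide) 0 (by decide))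
  · -- 04=(1,3)
    exact False.elim (cert_false T ((skipEmb 2).trans (Function.Embedding.refl _)) (by norm_num) (fun _ => hall _) (((((LB_zero T ((skipEmb 2).trans (Function.Embedding.refl _))).upd 0 2 2 (le_of_eq hx03)).upd 0 3 1 (le_of_eq hx04)).upd 2 0 1 (le_of_eq hx30)).upd 3 0 3 (le_of_eq hx40)) ![2,0,1,2] (by decide) (by decide) 0 (by decide))
  · -- 04=(3,1)
    exact False.elim (cert_false T ((skipEmb 2).trans (Function.Embedding.refl _)) (by norm_num) (fun _ => hall _) (((((LB_zero T ((skipEmb 2).trans (Function.Embedding.refl _))).upd 0 2 2 (le_of_eq hx03)).upd 0 3 3 (le_of_eq hx04)).upd 2 0 1 (le_of_eq hx30)).upd 3 0 1 (le_of_eq hx40)) ![2,0,1,1] (by decide) (by decide) 0 (by decide))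

theorem case78 (T : NumericalType 5) (hall : ∀ i, T.IsMinusTwo i) (d : SData T)
    (h01 : N T (Function.Embedding.refl _) 0 1 = 0) (h10 : N T (Function.Embedding.refl _) 1 0 = 0)
    (h02 : N T (Function.Embedding.refl _) 0 2 = 0) (h20 : N T (Function.Embedding.refl _) 2 0 = 0)
    (h12 : N T (Function.Embedding.refl _) 1 2 = 0) (h21 : N T (Function.Embedding.refl _) 2 1 = 0)
    (h03 : N T (Function.Embedding.refl _) 0 3 = 2) (h30 : N T (Function.Embedding.refl _) 3 0 = 1)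
    (h13 : N T (Function.Embedding.refl _) 1 3 = 0) (h31 : N T (Function.Embedding.refl _) 3 1 = 0)
    (h23 : N T (Function.Embedding.refl _) 2 3 = 1) (h32 : N T (Function.Embedding.refl _) 3 2 = 1)
    (h04 : N T (Function.Embedding.refl _) 0 4 = 0) (h40 : N T (Function.Embedding.refl _) 4 0 = 0) :
    Goal T := by
  unfold Goal
  have hd := d
  obtain ⟨x01, x02, x03, x04, x10, x12, x13, x14, x20, x21, x23, x24, x30, x31, x32, x34, x40, x41, x42, x43, hx01, hx02, hx03, hx04, hx10, hx12, hx13, hx14, hx20, hx21, hx23, hx24, hx30, hx31, hx32, hx34, hx40, hx41, hx42, hx43, hw0, hm0, hw1, hm1, hw2, hm2, hw3, hm3, hw4, hm4, a00, a01, a02, a03, a04, a11, a10, a12, a13, a14, a22, a20, a21, a23, a24, a33, a30, a31, a32, a34, a44, a40, a41, a42, a43, wN01, wN02, wN12, wN03, wN13, wN23, wN04, wN14, wN24, wN34, e0, e1, e2, e3, e4, d01, d02, d12, d03, d13, d23, d04, d14, d24, d34⟩ := d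
  obtain rfl : x01 = 0 := hx01.trans h01
  obtain rfl : x10 = 0 := hx10.trans h10
  obtain rfl : x02 = 0 := hx02.trans h02
  obtain rfl : x20 = 0 := hx20.trans h20
  obtain rfl : x12 = 0 := hx12.trans h12
  obtain rfl : x21 = 0 := hx21.trans h21
  obtain rfl : x03 = 2 := hx03.trans h03
  obtain rfl : x30 = 1 := hx30.trans h30
  obtain rfl : x13 = 0 := hx13.trans h13
  obtain rfl : x31 = 0 := hx31.trans h31
  obtain rfl : x23 = 1 := hx23.trans h23
  obtain rfl : x32 = 1 := hx32.trans h32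
  obtain rfl : x04 = 0 := hx04.trans h04
  obtain rfl : x40 = 0 := hx40.trans h40
  rcases d14 with ⟨rfl, rfl⟩ | ⟨rfl, rfl⟩ | ⟨rfl, rfl⟩ | ⟨rfl, rfl⟩ | ⟨rfl, rfl⟩ | ⟨rfl, rfl⟩
  · -- 14=(0,0)
    rcases d24 with ⟨rfl, rfl⟩ | ⟨rfl, rfl⟩ | ⟨rfl, rfl⟩ | ⟨rfl, rfl⟩ | ⟨rfl, rfl⟩ | ⟨rfl, rfl⟩
    · -- 24=(0,0)
      rcases d34 with ⟨rfl, rfl⟩ | ⟨rfl, rfl⟩ | ⟨rfl, rfl⟩ | ⟨rfl, rfl⟩ | ⟨rfl, rfl⟩ | ⟨rfl, rfl⟩
      · -- 34=(0,0)
        exfalso; omega
      · -- 34=(1,1)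
        exact False.elim (cert_false T ((skipEmb 1).trans (Function.Embedding.refl _)) (by norm_num) (fun _ => hall _) (((((((LB_zero T ((skipEmb 1).trans (Function.Embedding.refl _))).upd 0 2 2 (le_of_eq hx03)).upd 1 2 1 (le_of_eq hx23)).upd 2 0 1 (le_of_eq hx30)).upd 2 1 1 (le_of_eq hx32)).upd 2 3 1 (le_of_eq hx34)).upd 3 2 1 (le_of_eq hx43)) ![2,1,2,1] (by decide) (by decide) 0 (by decide))
      · -- 34=(1,2)
        exact False.elim (cert_false T ((skipEmb 2).trans (Function.Embedding.refl _)) (by norm_num) (fun _ => hall _) (((((LB_zero T ((skipEmb 2).trans (Function.Embedding.refl _))).upd 0 2 2 (le_of_eq hx03)).upd 2 0 1 (le_of_eq hx30)).upd 2 3 1 (le_of_eq hx34)).upd 3 2 2 (le_of_eq hx43)) ![1,0,1,1] (by decide) (by decide) 0 (by decide))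
      · -- 34=(2,1)
        exact False.elim (cert_false T ((skipEmb 2).trans (Function.Embedding.refl _)) (by norm_num) (fun _ => hall _) (((((LB_zero T ((skipEmb 2).trans (Function.Embedding.refl _))).upd 0 2 2 (le_of_eq hx03)).upd 2 0 1 (le_of_eq hx30)).upd 2 3 2 (le_of_eq hx34)).upd 3 2 1 (le_of_eq hx43)) ![2,0,2,1] (by decide) (by decide) 0 (by decide))
      · -- 34=(1,3)
        exact False.elim (cert_false T ((skipEmb 2).trans (Function.Embedding.refl _)) (by norm_num) (fun _ => hall _) (((((LB_zero T ((skipEmb 2).trans (Function.Embedding.refl _))).upd 0 2 2 (le_of_eq hx03)).upd 2 0 1 (le_of_eq hx30)).upd 2 3 1 (le_of_eq hx34)).upd 3 2 3 (le_of_eq hx43)) ![1,0,1,1] (by decide) (by decide) 0 (by decide))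
      · -- 34=(3,1)
        exact False.elim (cert_false T ((skipEmb 2).trans (Function.Embedding.refl _)) (by norm_num) (fun _ => hall _) (((((LB_zero T ((skipEmb 2).trans (Function.Embedding.refl _))).upd 0 2 2 (le_of_eq hx03)).upd 2 0 1 (le_of_eq hx30)).upd 2 3 3 (le_of_eq hx34)).upd 3 2 1 (le_of_eq hx43)) ![1,0,2,1] (by decide) (by decide) 0 (by decide))
    · -- 24=(1,1)
      rcases d34 with ⟨rfl, rfl⟩ | ⟨rfl, rfl⟩ | ⟨rfl, rfl⟩ | ⟨rfl, rfl⟩ | ⟨rfl, rfl⟩ | ⟨rfl, rfl⟩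
      · -- 34=(0,0)
        exfalso; omega
      · -- 34=(1,1)
        exact False.elim (cert_false T ((skipEmb 1).trans (Function.Embedding.refl _)) (by norm_num) (fun _ => hall _) (((((((LB_zero T ((skipEmb 1).trans (Function.Embedding.refl _))).upd 1 2 1 (le_of_eq hx23)).upd 1 3 1 (le_of_eq hx24)).upd 2 1 1 (le_of_eq hx32)).upd 2 3 1 (le_of_eq hx34)).upd 3 1 1 (le_of_eq hx42)).upd 3 2 1 (le_of_eq hx43)) ![0,1,1,1] (by decide) (by decide) 1 (by decide))
      · -- 34=(1,2)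
        exact False.elim (cert_false T ((skipEmb 2).trans (Function.Embedding.refl _)) (by norm_num) (fun _ => hall _) (((((LB_zero T ((skipEmb 2).trans (Function.Embedding.refl _))).upd 0 2 2 (le_of_eq hx03)).upd 2 0 1 (le_of_eq hx30)).upd 2 3 1 (le_of_eq hx34)).upd 3 2 2 (le_of_eq hx43)) ![1,0,1,1] (by decide) (by decide) 0 (by decide))
      · -- 34=(2,1)
        exact False.elim (cert_false T ((skipEmb 2).trans (Function.Embedding.refl _)) (by norm_num) (fun _ => hall _) (((((LB_zero T ((skipEmb 2).trans (Function.Embedding.refl _))).upd 0 2 2 (le_of_eq hx03)).upd 2 0 1 (le_of_eq hx30)).upd 2 3 2 (le_of_eq hx34)).upd 3 2 1 (le_of_eq hx43)) ![2,0,2,1] (by decide) (by decide) 0 (by decide))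
      · -- 34=(1,3)
        exact False.elim (cert_false T ((skipEmb 2).trans (Function.Embedding.refl _)) (by norm_num) (fun _ => hall _) (((((LB_zero T ((skipEmb 2).trans (Function.Embedding.refl _))).upd 0 2 2 (le_of_eq hx03)).upd 2 0 1 (le_of_eq hx30)).upd 2 3 1 (le_of_eq hx34)).upd 3 2 3 (le_of_eq hx43)) ![1,0,1,1] (by decide) (by decide) 0 (by decide))
      · -- 34=(3,1)
        exact False.elim (cert_false T ((skipEmb 2).trans (Function.Embedding.refl _)) (by norm_num) (fun _ => hall _) (((((LB_zero T ((skipEmb 2).trans (Function.Embedding.refl _))).upd 0 2 2 (le_of_eq hx03)).upd 2 0 1 (le_of_eq hx30)).upd 2 3 3 (le_of_eq hx34)).upd 3 2 1 (le_of_eq hx43)) ![1,0,2,1] (by decide) (by decide) 0 (by decide))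
    · -- 24=(1,2)
      exact False.elim (cert_false T ((skipEmb 1).trans (Function.Embedding.refl _)) (by norm_num) (fun _ => hall _) (((((((LB_zero T ((skipEmb 1).trans (Function.Embedding.refl _))).upd 0 2 2 (le_of_eq hx03)).upd 1 2 1 (le_of_eq hx23)).upd 1 3 1 (le_of_eq hx24)).upd 2 0 1 (le_of_eq hx30)).upd 2 1 1 (le_of_eq hx32)).upd 3 1 2 (le_of_eq hx42)) ![1,1,1,1] (by decide) (by decide) 0 (by decide))
    · -- 24=(2,1)
      exact False.elim (cert_false T ((skipEmb 1).trans (Function.Embedding.refl _)) (by norm_num) (fun _ => hall _) (((((((LB_zero T ((skipEmb 1).trans (Function.Embedding.refl _))).upd 0 2 2 (le_of_eq hx03)).upd 1 2 1 (le_of_eq hx23)).upd 1 3 2 (le_of_eq hx24)).upd 2 0 1 (le_of_eq hx30)).upd 2 1 1 (le_of_eq hx32)).upd 3 1 1 (le_of_eq hx42)) ![2,2,2,1] (by decide) (by decide) 0 (by decide))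
    · -- 24=(1,3)
      exact False.elim (cert_false T ((skipEmb 1).trans (Function.Embedding.refl _)) (by norm_num) (fun _ => hall _) (((((((LB_zero T ((skipEmb 1).trans (Function.Embedding.refl _))).upd 0 2 2 (le_of_eq hx03)).upd 1 2 1 (le_of_eq hx23)).upd 1 3 1 (le_of_eq hx24)).upd 2 0 1 (le_of_eq hx30)).upd 2 1 1 (le_of_eq hx32)).upd 3 1 3 (le_of_eq hx42)) ![1,1,1,1] (by decide) (by decide) 0 (by decide))
    · -- 24=(3,1)
      exact False.elim (cert_false T ((skipEmb 1).trans (Function.Embedding.refl _)) (by norm_num) (fun _ => hall _) (((((LB_zero T ((skipEmb 1).trans (Function.Embedding.refl _))).upd 1 2 1 (le_of_eq hx23)).upd 1 3 3 (le_of_eq hx24)).upd 2 1 1 (le_of_eq hx32)).upd 3 1 1 (le_of_eq hx42)) ![0,2,1,1] (by decide) (by decide) 1 (by decide))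
  · -- 14=(1,1)
    rcases d24 with ⟨rfl, rfl⟩ | ⟨rfl, rfl⟩ | ⟨rfl, rfl⟩ | ⟨rfl, rfl⟩ | ⟨rfl, rfl⟩ | ⟨rfl, rfl⟩
    · -- 24=(0,0)
      rcases d34 with ⟨rfl, rfl⟩ | ⟨rfl, rfl⟩ | ⟨rfl, rfl⟩ | ⟨rfl, rfl⟩ | ⟨rfl, rfl⟩ | ⟨rfl, rfl⟩
      · -- 34=(0,0)
        exfalso; omega
      · -- 34=(1,1)
        exact False.elim (cert_false T ((skipEmb 1).trans (Function.Embedding.refl _)) (by norm_num) (fun _ => hall _) (((((((LB_zero T ((skipEmb 1).trans (Function.Embedding.refl _))).upd 0 2 2 (le_of_eq hx03)).upd 1 2 1 (le_of_eq hx23)).upd 2 0 1 (le_of_eq hx30)).upd 2 1 1 (le_of_eq hx32)).upd 2 3 1 (le_of_eq hx34)).upd 3 2 1 (le_of_eq hx43)) ![2,1,2,1] (by decide) (by decide) 0 (by decide))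
      · -- 34=(1,2)
        exact False.elim (cert_false T ((skipEmb 2).trans (Function.Embedding.refl _)) (by norm_num) (fun _ => hall _) (((((LB_zero T ((skipEmb 2).trans (Function.Embedding.refl _))).upd 0 2 2 (le_of_eq hx03)).upd 2 0 1 (le_of_eq hx30)).upd 2 3 1 (le_of_eq hx34)).upd 3 2 2 (le_of_eq hx43)) ![1,0,1,1] (by decide) (by decide) 0 (by decide))
      · -- 34=(2,1)
        exact False.elim (cert_false T ((skipEmb 2).trans (Function.Embedding.refl _)) (by norm_num) (fun _ => hall _) (((((LB_zero T ((skipEmb 2).trans (Function.Embedding.refl _))).upd 0 2 2 (le_of_eq hx03)).upd 2 0 1 (le_of_eq hx30)).upd 2 3 2 (le_of_eq hx34)).upd 3 2 1 (le_of_eq hx43)) ![2,0,2,1] (by decide) (by decide) 0 (by decide))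
      · -- 34=(1,3)
        exact False.elim (cert_false T ((skipEmb 2).trans (Function.Embedding.refl _)) (by norm_num) (fun _ => hall _) (((((LB_zero T ((skipEmb 2).trans (Function.Embedding.refl _))).upd 0 2 2 (le_of_eq hx03)).upd 2 0 1 (le_of_eq hx30)).upd 2 3 1 (le_of_eq hx34)).upd 3 2 3 (le_of_eq hx43)) ![1,0,1,1] (by decide) (by decide) 0 (by decide))
      · -- 34=(3,1)
        exact False.elim (cert_false T ((skipEmb 2).trans (Function.Embedding.refl _)) (by norm_num) (fun _ => hall _) (((((LB_zero T ((skipEmb 2).trans (Function.Embedding.refl _))).upd 0 2 2 (le_of_eq hx03)).upd 2 0 1 (le_of_eq hx30)).upd 2 3 3 (le_of_eq hx34)).upd 3 2 1 (le_of_eq hx43)) ![1,0,2,1] (by decide) (by decide) 0 (by decide))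
    · -- 24=(1,1)
      rcases d34 with ⟨rfl, rfl⟩ | ⟨rfl, rfl⟩ | ⟨rfl, rfl⟩ | ⟨rfl, rfl⟩ | ⟨rfl, rfl⟩ | ⟨rfl, rfl⟩
      · -- 34=(0,0)
        exfalso; omega
      · -- 34=(1,1)
        exact False.elim (cert_false T ((skipEmb 1).trans (Function.Embedding.refl _)) (by norm_num) (fun _ => hall _) (((((((LB_zero T ((skipEmb 1).trans (Function.Embedding.refl _))).upd 1 2 1 (le_of_eq hx23)).upd 1 3 1 (le_of_eq hx24)).upd 2 1 1 (le_of_eq hx32)).upd 2 3 1 (le_of_eq hx34)).upd 3 1 1 (le_of_eq hx42)).upd 3 2 1 (le_of_eq hx43)) ![0,1,1,1] (by decide) (by decide) 1 (by decide))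
      · -- 34=(1,2)
        exact False.elim (cert_false T ((skipEmb 2).trans (Function.Embedding.refl _)) (by norm_num) (fun _ => hall _) (((((LB_zero T ((skipEmb 2).trans (Function.Embedding.refl _))).upd 0 2 2 (le_of_eq hx03)).upd 2 0 1 (le_of_eq hx30)).upd 2 3 1 (le_of_eq hx34)).upd 3 2 2 (le_of_eq hx43)) ![1,0,1,1] (by decide) (by decide) 0 (by decide))
      · -- 34=(2,1)
        exact False.elim (cert_false T ((skipEmb 2).trans (Function.Embedding.refl _)) (by norm_num) (fun _ => hall _) (((((LB_zero T ((skipEmb 2).trans (Function.Embedding.refl _))).upd 0 2 2 (le_of_eq hx03)).upd 2 0 1 (le_of_eq hx30)).upd 2 3 2 (le_of_eq hx34)).upd 3 2 1 (le_of_eq hx43)) ![2,0,2,1] (by decide) (by decide) 0 (by decide))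
      · -- 34=(1,3)
        exact False.elim (cert_false T ((skipEmb 2).trans (Function.Embedding.refl _)) (by norm_num) (fun _ => hall _) (((((LB_zero T ((skipEmb 2).trans (Function.Embedding.refl _))).upd 0 2 2 (le_of_eq hx03)).upd 2 0 1 (le_of_eq hx30)).upd 2 3 1 (le_of_eq hx34)).upd 3 2 3 (le_of_eq hx43)) ![1,0,1,1] (by decide) (by decide) 0 (by decide))
      · -- 34=(3,1)
        exact False.elim (cert_false T ((skipEmb 2).trans (Function.Embedding.refl _)) (by norm_num) (fun _ => hall _) (((((LB_zero T ((skipEmb 2).trans (Function.Embedding.refl _))).upd 0 2 2 (le_of_eq hx03)).upd 2 0 1 (le_of_eq hx30)).upd 2 3 3 (le_of_eq hx34)).upd 3 2 1 (le_of_eq hx43)) ![1,0,2,1] (by decide) (by decide) 0 (by decide))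
    · -- 24=(1,2)
      exact False.elim (cert_false T ((skipEmb 1).trans (Function.Embedding.refl _)) (by norm_num) (fun _ => hall _) (((((((LB_zero T ((skipEmb 1).trans (Function.Embedding.refl _))).upd 0 2 2 (le_of_eq hx03)).upd 1 2 1 (le_of_eq hx23)).upd 1 3 1 (le_of_eq hx24)).upd 2 0 1 (le_of_eq hx30)).upd 2 1 1 (le_of_eq hx32)).upd 3 1 2 (le_of_eq hx42)) ![1,1,1,1] (by decide) (by decide) 0 (by decide))
    · -- 24=(2,1)
      exact False.elim (cert_false T ((skipEmb 1).trans (Function.Embedding.refl _)) (by norm_num) (fun _ => hall _) (((((((LB_zero T ((skipEmb 1).trans (Function.Embedding.refl _))).upd 0 2 2 (le_of_eq hx03)).upd 1 2 1 (le_of_eq hx23)).upd 1 3 2 (le_of_eq hx24)).upd 2 0 1 (le_of_eq hx30)).upd 2 1 1 (le_of_eq hx32)).upd 3 1 1 (le_of_eq hx42)) ![2,2,2,1] (by decide) (by decide) 0 (by decide))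
    · -- 24=(1,3)
      exact False.elim (cert_false T ((skipEmb 3).trans (Function.Embedding.refl _)) (by norm_num) (fun _ => hall _) (((((LB_zero T ((skipEmb 3).trans (Function.Embedding.refl _))).upd 1 3 1 (le_of_eq hx14)).upd 2 3 1 (le_of_eq hx24)).upd 3 1 1 (le_of_eq hx41)).upd 3 2 3 (le_of_eq hx42)) ![0,1,1,2] (by decide) (by decide) 1 (by decide))
    · -- 24=(3,1)
      exact False.elim (cert_false T ((skipEmb 3).trans (Function.Embedding.refl _)) (by norm_num) (fun _ => hall _) (((((LB_zero T ((skipEmb 3).trans (Function.Embedding.refl _))).upd 1 3 1 (le_of_eq hx14)).upd 2 3 3 (le_of_eq hx24)).upd 3 1 1 (le_of_eq hx41)).upd 3 2 1 (le_of_eq hx42)) ![0,1,3,2] (by decide) (by decide) 1 (by decide))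
  · -- 14=(1,2)
    rcases d24 with ⟨rfl, rfl⟩ | ⟨rfl, rfl⟩ | ⟨rfl, rfl⟩ | ⟨rfl, rfl⟩ | ⟨rfl, rfl⟩ | ⟨rfl, rfl⟩
    · -- 24=(0,0)
      rcases d34 with ⟨rfl, rfl⟩ | ⟨rfl, rfl⟩ | ⟨rfl, rfl⟩ | ⟨rfl, rfl⟩ | ⟨rfl, rfl⟩ | ⟨rfl, rfl⟩
      · -- 34=(0,0)
        exfalso; omega
      · -- 34=(1,1)
        exact False.elim (cert_false T ((skipEmb 2).trans (Function.Embedding.refl _)) (by norm_num) (fun _ => hall _) (((((((LB_zero T ((skipEmb 2).trans (Function.Embedding.refl _))).upd 0 2 2 (le_of_eq hx03)).upd 1 3 1 (le_of_eq hx14)).upd 2 0 1 (le_of_eq hx30)).upd 2 3 1 (le_of_eq hx34)).upd 3 1 2 (le_of_eq hx41)).upd 3 2 1 (le_of_eq hx43)) ![2,1,2,2] (by decide) (by decide) 0 (by decide))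
      · -- 34=(1,2)
        exact False.elim (cert_false T ((skipEmb 2).trans (Function.Embedding.refl _)) (by norm_num) (fun _ => hall _) (((((LB_zero T ((skipEmb 2).trans (Function.Embedding.refl _))).upd 0 2 2 (le_of_eq hx03)).upd 2 0 1 (le_of_eq hx30)).upd 2 3 1 (le_of_eq hx34)).upd 3 2 2 (le_of_eq hx43)) ![1,0,1,1] (by decide) (by decide) 0 (by decide))
      · -- 34=(2,1)
        exact False.elim (cert_false T ((skipEmb 2).trans (Function.Embedding.refl _)) (by norm_num) (fun _ => hall _) (((((LB_zero T ((skipEmb 2).trans (Function.Embedding.refl _))).upd 1 3 1 (le_of_eq hx14)).upd 2 3 2 (le_of_eq hx34)).upd 3 1 2 (le_of_eq hx41)).upd 3 2 1 (le_of_eq hx43)) ![0,1,2,2] (by decide) (by decide) 1 (by decide))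
      · -- 34=(1,3)
        exact False.elim (cert_false T ((skipEmb 2).trans (Function.Embedding.refl _)) (by norm_num) (fun _ => hall _) (((((LB_zero T ((skipEmb 2).trans (Function.Embedding.refl _))).upd 0 2 2 (le_of_eq hx03)).upd 2 0 1 (le_of_eq hx30)).upd 2 3 1 (le_of_eq hx34)).upd 3 2 3 (le_of_eq hx43)) ![1,0,1,1] (by decide) (by decide) 0 (by decide))
      · -- 34=(3,1)
        exact False.elim (cert_false T ((skipEmb 2).trans (Function.Embedding.refl _)) (by norm_num) (fun _ => hall _) (((((LB_zero T ((skipEmb 2).trans (Function.Embedding.refl _))).upd 1 3 1 (le_of_eq hx14)).upd 2 3 3 (le_of_eq hx34)).upd 3 1 2 (le_of_eq hx41)).upd 3 2 1 (le_of_eq hx43)) ![0,1,2,2] (by decide) (by decide) 1 (by decide))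
    · -- 24=(1,1)
      rcases d34 with ⟨rfl, rfl⟩ | ⟨rfl, rfl⟩ | ⟨rfl, rfl⟩ | ⟨rfl, rfl⟩ | ⟨rfl, rfl⟩ | ⟨rfl, rfl⟩
      · -- 34=(0,0)
        refine ⟨(⟨![0, 3, 2, 4, 1], ![0, 4, 2, 1, 3], by decide, by decide⟩ : Equiv.Perm (Fin 5)), T.m 1, T.w 0, Or.inr (Or.inr (Or.inr (Or.inl ?_)))⟩
        show T.m 0 = 2 * T.m 1 ∧ T.m 3 = 2 * T.m 1 ∧ T.m 2 = 2 * T.m 1 ∧ T.m 4 = 2 * T.m 1 ∧ T.m 1 = T.m 1 ∧ T.w 0 = T.w 0 ∧ T.w 3 = 2 * T.w 0 ∧ T.w 2 = 2 * T.w 0 ∧ T.w 4 = 2 * T.w 0 ∧ T.w 1 = 4 * T.w 0 ∧ T.a 0 0 = -2 * T.w 0 ∧ T.a 0 3 = 2 * T.w 0 ∧ T.a 0 2 = 0 ∧ T.a 0 4 = 0 ∧ T.a 0 1 = 0 ∧ T.a 3 3 = -4 * T.w 0 ∧ T.a 3 2 = 2 * T.w 0 ∧ T.a 3 4 = 0 ∧ T.a 3 1 = 0 ∧ T.a 2 2 = -4 * T.w 0 ∧ T.a 2 4 = 2 * T.w 0 ∧ T.a 2 1 = 0 ∧ T.a 4 4 = -4 * T.w 0 ∧ T.a 4 1 = 4 * T.w 0 ∧ T.a 1 1 = -8 * T.w 0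
        refine ⟨?_, ?_, ?_, ?_, ?_, ?_, ?_, ?_, ?_, ?_, ?_, ?_, ?_, ?_, ?_, ?_, ?_, ?_, ?_, ?_, ?_, ?_, ?_, ?_, ?_⟩ <;> omega
      · -- 34=(1,1)
        exact False.elim (cert_false T ((skipEmb 2).trans (Function.Embedding.refl _)) (by norm_num) (fun _ => hall _) (((((((LB_zero T ((skipEmb 2).trans (Function.Embedding.refl _))).upd 0 2 2 (le_of_eq hx03)).upd 1 3 1 (le_of_eq hx14)).upd 2 0 1 (le_of_eq hx30)).upd 2 3 1 (le_of_eq hx34)).upd 3 1 2 (le_of_eq hx41)).upd 3 2 1 (le_of_eq hx43)) ![2,1,2,2] (by decide) (by decide) 0 (by decide))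
      · -- 34=(1,2)
        exact False.elim (cert_false T ((skipEmb 2).trans (Function.Embedding.refl _)) (by norm_num) (fun _ => hall _) (((((LB_zero T ((skipEmb 2).trans (Function.Embedding.refl _))).upd 0 2 2 (le_of_eq hx03)).upd 2 0 1 (le_of_eq hx30)).upd 2 3 1 (le_of_eq hx34)).upd 3 2 2 (le_of_eq hx43)) ![1,0,1,1] (by decide) (by decide) 0 (by decide))
      · -- 34=(2,1)
        exact False.elim (cert_false T ((skipEmb 2).trans (Function.Embedding.refl _)) (by norm_num) (fun _ => hall _) (((((LB_zero T ((skipEmb 2).trans (Function.Embedding.refl _))).upd 1 3 1 (le_of_eq hx14)).upd 2 3 2 (le_of_eq hx34)).upd 3 1 2 (le_of_eq hx41)).upd 3 2 1 (le_of_eq hx43)) ![0,1,2,2] (by decide) (by decide) 1 (by decide))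
      · -- 34=(1,3)
        exact False.elim (cert_false T ((skipEmb 2).trans (Function.Embedding.refl _)) (by norm_num) (fun _ => hall _) (((((LB_zero T ((skipEmb 2).trans (Function.Embedding.refl _))).upd 0 2 2 (le_of_eq hx03)).upd 2 0 1 (le_of_eq hx30)).upd 2 3 1 (le_of_eq hx34)).upd 3 2 3 (le_of_eq hx43)) ![1,0,1,1] (by decide) (by decide) 0 (by decide))
      · -- 34=(3,1)
        exact False.elim (cert_false T ((skipEmb 2).trans (Function.Embedding.refl _)) (by norm_num) (fun _ => hall _) (((((LB_zero T ((skipEmb 2).trans (Function.Embedding.refl _))).upd 1 3 1 (le_of_eq hx14)).upd 2 3 3 (le_of_eq hx34)).upd 3 1 2 (le_of_eq hx41)).upd 3 2 1 (le_of_eq hx43)) ![0,1,2,2] (by decide) (by decide) 1 (by decide))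
    · -- 24=(1,2)
      exact False.elim (cert_false T ((skipEmb 3).trans (Function.Embedding.refl _)) (by norm_num) (fun _ => hall _) (((((LB_zero T ((skipEmb 3).trans (Function.Embedding.refl _))).upd 1 3 1 (le_of_eq hx14)).upd 2 3 1 (le_of_eq hx24)).upd 3 1 2 (le_of_eq hx41)).upd 3 2 2 (le_of_eq hx42)) ![0,1,1,2] (by decide) (by decide) 1 (by decide))
    · -- 24=(2,1)
      exact False.elim (cert_false T ((skipEmb 3).trans (Function.Embedding.refl _)) (by norm_num) (fun _ => hall _) (((((LB_zero T ((skipEmb 3).trans (Function.Embedding.refl _))).upd 1 3 1 (le_of_eq hx14)).upd 2 3 2 (le_of_eq hx24)).upd 3 1 2 (le_of_eq hx41)).upd 3 2 1 (le_of_eq hx42)) ![0,1,2,2] (by decide) (by decide) 1 (by decide))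
    · -- 24=(1,3)
      exact False.elim (cert_false T ((skipEmb 3).trans (Function.Embedding.refl _)) (by norm_num) (fun _ => hall _) (((((LB_zero T ((skipEmb 3).trans (Function.Embedding.refl _))).upd 1 3 1 (le_of_eq hx14)).upd 2 3 1 (le_of_eq hx24)).upd 3 1 2 (le_of_eq hx41)).upd 3 2 3 (le_of_eq hx42)) ![0,1,1,2] (by decide) (by decide) 1 (by decide))
    · -- 24=(3,1)
      exact False.elim (cert_false T ((skipEmb 3).trans (Function.Embedding.refl _)) (by norm_num) (fun _ => hall _) (((((LB_zero T ((skipEmb 3).trans (Function.Embedding.refl _))).upd 1 3 1 (le_of_eq hx14)).upd 2 3 3 (le_of_eq hx24)).upd 3 1 2 (le_of_eq hx41)).upd 3 2 1 (le_of_eq hx42)) ![0,1,2,2] (by decide) (by decide) 1 (by decide))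
  · -- 14=(2,1)
    rcases d24 with ⟨rfl, rfl⟩ | ⟨rfl, rfl⟩ | ⟨rfl, rfl⟩ | ⟨rfl, rfl⟩ | ⟨rfl, rfl⟩ | ⟨rfl, rfl⟩
    · -- 24=(0,0)
      rcases d34 with ⟨rfl, rfl⟩ | ⟨rfl, rfl⟩ | ⟨rfl, rfl⟩ | ⟨rfl, rfl⟩ | ⟨rfl, rfl⟩ | ⟨rfl, rfl⟩
      · -- 34=(0,0)
        exfalso; omega
      · -- 34=(1,1)
        exact False.elim (cert_false T ((skipEmb 2).trans (Function.Embedding.refl _)) (by norm_num) (fun _ => hall _) (((((((LB_zero T ((skipEmb 2).trans (Function.Embedding.refl _))).upd 0 2 2 (le_of_eq hx03)).upd 1 3 2 (le_of_eq hx14)).upd 2 0 1 (le_of_eq hx30)).upd 2 3 1 (le_of_eq hx34)).upd 3 1 1 (le_of_eq hx41)).upd 3 2 1 (le_of_eq hx43)) ![1,1,1,1] (by decide) (by decide) 0 (by decide))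
      · -- 34=(1,2)
        exact False.elim (cert_false T ((skipEmb 2).trans (Function.Embedding.refl _)) (by norm_num) (fun _ => hall _) (((((LB_zero T ((skipEmb 2).trans (Function.Embedding.refl _))).upd 0 2 2 (le_of_eq hx03)).upd 2 0 1 (le_of_eq hx30)).upd 2 3 1 (le_of_eq hx34)).upd 3 2 2 (le_of_eq hx43)) ![1,0,1,1] (by decide) (by decide) 0 (by decide))
      · -- 34=(2,1)
        exact False.elim (cert_false T ((skipEmb 2).trans (Function.Embedding.refl _)) (by norm_num) (fun _ => hall _) (((((LB_zero T ((skipEmb 2).trans (Function.Embedding.refl _))).upd 1 3 2 (le_of_eq hx14)).upd 2 3 2 (le_of_eq hx34)).upd 3 1 1 (le_of_eq hx41)).upd 3 2 1 (le_of_eq hx43)) ![0,1,1,1] (by decide) (by decide) 1 (by decide))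
      · -- 34=(1,3)
        exact False.elim (cert_false T ((skipEmb 2).trans (Function.Embedding.refl _)) (by norm_num) (fun _ => hall _) (((((LB_zero T ((skipEmb 2).trans (Function.Embedding.refl _))).upd 0 2 2 (le_of_eq hx03)).upd 2 0 1 (le_of_eq hx30)).upd 2 3 1 (le_of_eq hx34)).upd 3 2 3 (le_of_eq hx43)) ![1,0,1,1] (by decide) (by decide) 0 (by decide))
      · -- 34=(3,1)
        exact False.elim (cert_false T ((skipEmb 2).trans (Function.Embedding.refl _)) (by norm_num) (fun _ => hall _) (((((LB_zero T ((skipEmb 2).trans (Function.Embedding.refl _))).upd 1 3 2 (le_of_eq hx14)).upd 2 3 3 (le_of_eq hx34)).upd 3 1 1 (le_of_eq hx41)).upd 3 2 1 (le_of_eq hx43)) ![0,1,1,1] (by decide) (by decide) 1 (by decide))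
    · -- 24=(1,1)
      rcases d34 with ⟨rfl, rfl⟩ | ⟨rfl, rfl⟩ | ⟨rfl, rfl⟩ | ⟨rfl, rfl⟩ | ⟨rfl, rfl⟩ | ⟨rfl, rfl⟩
      · -- 34=(0,0)
        refine ⟨(⟨![0, 3, 2, 4, 1], ![0, 4, 2, 1, 3], by decide, by decide⟩ : Equiv.Perm (Fin 5)), T.m 0, T.w 0, Or.inr (Or.inr (Or.inr (Or.inr (Or.inl ?_))))⟩
        show T.m 0 = T.m 0 ∧ T.m 3 = T.m 0 ∧ T.m 2 = T.m 0 ∧ T.m 4 = T.m 0 ∧ T.m 1 = T.m 0 ∧ T.w 0 = T.w 0 ∧ T.w 3 = 2 * T.w 0 ∧ T.w 2 = 2 * T.w 0 ∧ T.w 4 = 2 * T.w 0 ∧ T.w 1 = T.w 0 ∧ T.a 0 0 = -2 * T.w 0 ∧ T.a 0 3 = 2 * T.w 0 ∧ T.a 0 2 = 0 ∧ T.a 0 4 = 0 ∧ T.a 0 1 = 0 ∧ T.a 3 3 = -4 * T.w 0 ∧ T.a 3 2 = 2 * T.w 0 ∧ T.a 3 4 = 0 ∧ T.a 3 1 = 0 ∧ T.a 2 2 = -4 * T.w 0 ∧ T.a 2 4 = 2 * T.w 0 ∧ T.a 2 1 = 0 ∧ T.a 4 4 = -4 * T.w 0 ∧ T.a 4 1 = 2 * T.w 0 ∧ T.a 1 1 = -2 * T.w 0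
        refine ⟨?_, ?_, ?_, ?_, ?_, ?_, ?_, ?_, ?_, ?_, ?_, ?_, ?_, ?_, ?_, ?_, ?_, ?_, ?_, ?_, ?_, ?_, ?_, ?_, ?_⟩ <;> omega
      · -- 34=(1,1)
        exact False.elim (cert_false T ((skipEmb 2).trans (Function.Embedding.refl _)) (by norm_num) (fun _ => hall _) (((((((LB_zero T ((skipEmb 2).trans (Function.Embedding.refl _))).upd 0 2 2 (le_of_eq hx03)).upd 1 3 2 (le_of_eq hx14)).upd 2 0 1 (le_of_eq hx30)).upd 2 3 1 (le_of_eq hx34)).upd 3 1 1 (le_of_eq hx41)).upd 3 2 1 (le_of_eq hx43)) ![1,1,1,1] (by decide) (by decide) 0 (by decide))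
      · -- 34=(1,2)
        exact False.elim (cert_false T ((skipEmb 2).trans (Function.Embedding.refl _)) (by norm_num) (fun _ => hall _) (((((LB_zero T ((skipEmb 2).trans (Function.Embedding.refl _))).upd 0 2 2 (le_of_eq hx03)).upd 2 0 1 (le_of_eq hx30)).upd 2 3 1 (le_of_eq hx34)).upd 3 2 2 (le_of_eq hx43)) ![1,0,1,1] (by decide) (by decide) 0 (by decide))
      · -- 34=(2,1)
        exact False.elim (cert_false T ((skipEmb 2).trans (Function.Embedding.refl _)) (by norm_num) (fun _ => hall _) (((((LB_zero T ((skipEmb 2).trans (Function.Embedding.refl _))).upd 1 3 2 (le_of_eq hx14)).upd 2 3 2 (le_of_eq hx34)).upd 3 1 1 (le_of_eq hx41)).upd 3 2 1 (le_of_eq hx43)) ![0,1,1,1] (by decide) (by decide) 1 (by decide))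
      · -- 34=(1,3)
        exact False.elim (cert_false T ((skipEmb 2).trans (Function.Embedding.refl _)) (by norm_num) (fun _ => hall _) (((((LB_zero T ((skipEmb 2).trans (Function.Embedding.refl _))).upd 0 2 2 (le_of_eq hx03)).upd 2 0 1 (le_of_eq hx30)).upd 2 3 1 (le_of_eq hx34)).upd 3 2 3 (le_of_eq hx43)) ![1,0,1,1] (by decide) (by decide) 0 (by decide))
      · -- 34=(3,1)
        exact False.elim (cert_false T ((skipEmb 2).trans (Function.Embedding.refl _)) (by norm_num) (fun _ => hall _) (((((LB_zero T ((skipEmb 2).trans (Function.Embedding.refl _))).upd 1 3 2 (le_of_eq hx14)).upd 2 3 3 (le_of_eq hx34)).upd 3 1 1 (le_of_eq hx41)).upd 3 2 1 (le_of_eq hx43)) ![0,1,1,1] (by decide) (by decide) 1 (by decide))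
    · -- 24=(1,2)
      exact False.elim (cert_false T ((skipEmb 3).trans (Function.Embedding.refl _)) (by norm_num) (fun _ => hall _) (((((LB_zero T ((skipEmb 3).trans (Function.Embedding.refl _))).upd 1 3 2 (le_of_eq hx14)).upd 2 3 1 (le_of_eq hx24)).upd 3 1 1 (le_of_eq hx41)).upd 3 2 2 (le_of_eq hx42)) ![0,2,1,2] (by decide) (by decide) 1 (by decide))
    · -- 24=(2,1)
      exact False.elim (cert_false T ((skipEmb 3).trans (Function.Embedding.refl _)) (by norm_num) (fun _ => hall _) (((((LB_zero T ((skipEmb 3).trans (Function.Embedding.refl _))).upd 1 3 2 (le_of_eq hx14)).upd 2 3 2 (le_of_eq hx24)).upd 3 1 1 (le_of_eq hx41)).upd 3 2 1 (le_of_eq hx42)) ![0,1,1,1] (by decide) (by decide) 1 (by decide))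
    · -- 24=(1,3)
      exact False.elim (cert_false T ((skipEmb 3).trans (Function.Embedding.refl _)) (by norm_num) (fun _ => hall _) (((((LB_zero T ((skipEmb 3).trans (Function.Embedding.refl _))).upd 1 3 2 (le_of_eq hx14)).upd 2 3 1 (le_of_eq hx24)).upd 3 1 1 (le_of_eq hx41)).upd 3 2 3 (le_of_eq hx42)) ![0,1,1,2] (by decide) (by decide) 1 (by decide))
    · -- 24=(3,1)
      exact False.elim (cert_false T ((skipEmb 3).trans (Function.Embedding.refl _)) (by norm_num) (fun _ => hall _) (((((LB_zero T ((skipEmb 3).trans (Function.Embedding.refl _))).upd 1 3 2 (le_of_eq hx14)).upd 2 3 3 (le_of_eq hx24)).upd 3 1 1 (le_of_eq hx41)).upd 3 2 1 (le_of_eq hx42)) ![0,1,1,1] (by decide) (by decide) 1 (by decide))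
  · -- 14=(1,3)
    rcases d24 with ⟨rfl, rfl⟩ | ⟨rfl, rfl⟩ | ⟨rfl, rfl⟩ | ⟨rfl, rfl⟩ | ⟨rfl, rfl⟩ | ⟨rfl, rfl⟩
    · -- 24=(0,0)
      rcases d34 with ⟨rfl, rfl⟩ | ⟨rfl, rfl⟩ | ⟨rfl, rfl⟩ | ⟨rfl, rfl⟩ | ⟨rfl, rfl⟩ | ⟨rfl, rfl⟩
      · -- 34=(0,0)
        exfalso; omega
      · -- 34=(1,1)
        exact False.elim (cert_false T ((skipEmb 2).trans (Function.Embedding.refl _)) (by norm_num) (fun _ => hall _) (((((LB_zero T ((skipEmb 2).trans (Function.Embedding.refl _))).upd 1 3 1 (le_of_eq hx14)).upd 2 3 1 (le_of_eq hx34)).upd 3 1 3 (le_of_eq hx41)).upd 3 2 1 (le_of_eq hx43)) ![0,1,1,2] (by decide) (by decide) 1 (by decide))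
      · -- 34=(1,2)
        exact False.elim (cert_false T ((skipEmb 2).trans (Function.Embedding.refl _)) (by norm_num) (fun _ => hall _) (((((LB_zero T ((skipEmb 2).trans (Function.Embedding.refl _))).upd 0 2 2 (le_of_eq hx03)).upd 2 0 1 (le_of_eq hx30)).upd 2 3 1 (le_of_eq hx34)).upd 3 2 2 (le_of_eq hx43)) ![1,0,1,1] (by decide) (by decide) 0 (by decide))
      · -- 34=(2,1)
        exact False.elim (cert_false T ((skipEmb 2).trans (Function.Embedding.refl _)) (by norm_num) (fun _ => hall _) (((((LB_zero T ((skipEmb 2).trans (Function.Embedding.refl _))).upd 0 2 2 (le_of_eq hx03)).upd 2 0 1 (le_of_eq hx30)).upd 2 3 2 (le_of_eq hx34)).upd 3 2 1 (le_of_eq hx43)) ![2,0,2,1] (by decide) (by decide) 0 (by decide))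
      · -- 34=(1,3)
        exact False.elim (cert_false T ((skipEmb 2).trans (Function.Embedding.refl _)) (by norm_num) (fun _ => hall _) (((((LB_zero T ((skipEmb 2).trans (Function.Embedding.refl _))).upd 0 2 2 (le_of_eq hx03)).upd 2 0 1 (le_of_eq hx30)).upd 2 3 1 (le_of_eq hx34)).upd 3 2 3 (le_of_eq hx43)) ![1,0,1,1] (by decide) (by decide) 0 (by decide))
      · -- 34=(3,1)
        exact False.elim (cert_false T ((skipEmb 2).trans (Function.Embedding.refl _)) (by norm_num) (fun _ => hall _) (((((LB_zero T ((skipEmb 2).trans (Function.Embedding.refl _))).upd 1 3 1 (le_of_eq hx14)).upd 2 3 3 (le_of_eq hx34)).upd 3 1 3 (le_of_eq hx41)).upd 3 2 1 (le_of_eq hx43)) ![0,1,1,2] (by decide) (by decide) 1 (by decide))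
    · -- 24=(1,1)
      exact False.elim (cert_false T ((skipEmb 3).trans (Function.Embedding.refl _)) (by norm_num) (fun _ => hall _) (((((LB_zero T ((skipEmb 3).trans (Function.Embedding.refl _))).upd 1 3 1 (le_of_eq hx14)).upd 2 3 1 (le_of_eq hx24)).upd 3 1 3 (le_of_eq hx41)).upd 3 2 1 (le_of_eq hx42)) ![0,1,1,2] (by decide) (by decide) 1 (by decide))
    · -- 24=(1,2)
      exact False.elim (cert_false T ((skipEmb 3).trans (Function.Embedding.refl _)) (by norm_num) (fun _ => hall _) (((((LB_zero T ((skipEmb 3).trans (Function.Embedding.refl _))).upd 1 3 1 (le_of_eq hx14)).upd 2 3 1 (le_of_eq hx24)).upd 3 1 3 (le_of_eq hx41)).upd 3 2 2 (le_of_eq hx42)) ![0,1,1,2] (by decide) (by decide) 1 (by decide))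
    · -- 24=(2,1)
      exact False.elim (cert_false T ((skipEmb 3).trans (Function.Embedding.refl _)) (by norm_num) (fun _ => hall _) (((((LB_zero T ((skipEmb 3).trans (Function.Embedding.refl _))).upd 1 3 1 (le_of_eq hx14)).upd 2 3 2 (le_of_eq hx24)).upd 3 1 3 (le_of_eq hx41)).upd 3 2 1 (le_of_eq hx42)) ![0,1,1,2] (by decide) (by decide) 1 (by decide))
    · -- 24=(1,3)
      exact False.elim (cert_false T ((skipEmb 3).trans (Function.Embedding.refl _)) (by norm_num) (fun _ => hall _) (((((LB_zero T ((skipEmb 3).trans (Function.Embedding.refl _))).upd 1 3 1 (le_of_eq hx14)).upd 2 3 1 (le_of_eq hx24)).upd 3 1 3 (le_of_eq hx41)).upd 3 2 3 (le_of_eq hx42)) ![0,1,1,2] (by decide) (by decide) 1 (by decide))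
    · -- 24=(3,1)
      exact False.elim (cert_false T ((skipEmb 3).trans (Function.Embedding.refl _)) (by norm_num) (fun _ => hall _) (((((LB_zero T ((skipEmb 3).trans (Function.Embedding.refl _))).upd 1 3 1 (le_of_eq hx14)).upd 2 3 3 (le_of_eq hx24)).upd 3 1 3 (le_of_eq hx41)).upd 3 2 1 (le_of_eq hx42)) ![0,1,1,2] (by decide) (by decide) 1 (by decide))
  · -- 14=(3,1)
    rcases d24 with ⟨rfl, rfl⟩ | ⟨rfl, rfl⟩ | ⟨rfl, rfl⟩ | ⟨rfl, rfl⟩ | ⟨rfl, rfl⟩ | ⟨rfl, rfl⟩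
    · -- 24=(0,0)
      rcases d34 with ⟨rfl, rfl⟩ | ⟨rfl, rfl⟩ | ⟨rfl, rfl⟩ | ⟨rfl, rfl⟩ | ⟨rfl, rfl⟩ | ⟨rfl, rfl⟩
      · -- 34=(0,0)
        exfalso; omega
      · -- 34=(1,1)
        exact False.elim (cert_false T ((skipEmb 2).trans (Function.Embedding.refl _)) (by norm_num) (fun _ => hall _) (((((((LB_zero T ((skipEmb 2).trans (Function.Embedding.refl _))).upd 0 2 2 (le_of_eq hx03)).upd 1 3 3 (le_of_eq hx14)).upd 2 0 1 (le_of_eq hx30)).upd 2 3 1 (le_of_eq hx34)).upd 3 1 1 (le_of_eq hx41)).upd 3 2 1 (le_of_eq hx43)) ![1,1,1,1] (by decide) (by decide) 0 (by decide))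
      · -- 34=(1,2)
        exact False.elim (cert_false T ((skipEmb 2).trans (Function.Embedding.refl _)) (by norm_num) (fun _ => hall _) (((((LB_zero T ((skipEmb 2).trans (Function.Embedding.refl _))).upd 0 2 2 (le_of_eq hx03)).upd 2 0 1 (le_of_eq hx30)).upd 2 3 1 (le_of_eq hx34)).upd 3 2 2 (le_of_eq hx43)) ![1,0,1,1] (by decide) (by decide) 0 (by decide))
      · -- 34=(2,1)
        exact False.elim (cert_false T ((skipEmb 2).trans (Function.Embedding.refl _)) (by norm_num) (fun _ => hall _) (((((LB_zero T ((skipEmb 2).trans (Function.Embedding.refl _))).upd 1 3 3 (le_of_eq hx14)).upd 2 3 2 (le_of_eq hx34)).upd 3 1 1 (le_of_eq hx41)).upd 3 2 1 (le_of_eq hx43)) ![0,1,1,1] (by decide) (by decide) 1 (by decide))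
      · -- 34=(1,3)
        exact False.elim (cert_false T ((skipEmb 2).trans (Function.Embedding.refl _)) (by norm_num) (fun _ => hall _) (((((LB_zero T ((skipEmb 2).trans (Function.Embedding.refl _))).upd 0 2 2 (le_of_eq hx03)).upd 2 0 1 (le_of_eq hx30)).upd 2 3 1 (le_of_eq hx34)).upd 3 2 3 (le_of_eq hx43)) ![1,0,1,1] (by decide) (by decide) 0 (by decide))
      · -- 34=(3,1)
        exact False.elim (cert_false T ((skipEmb 2).trans (Function.Embedding.refl _)) (by norm_num) (fun _ => hall _) (((((LB_zero T ((skipEmb 2).trans (Function.Embedding.refl _))).upd 1 3 3 (le_of_eq hx14)).upd 2 3 3 (le_of_eq hx34)).upd 3 1 1 (le_of_eq hx41)).upd 3 2 1 (le_of_eq hx43)) ![0,1,1,1] (by decide) (by decide) 1 (by decide))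
    · -- 24=(1,1)
      exact False.elim (cert_false T ((skipEmb 3).trans (Function.Embedding.refl _)) (by norm_num) (fun _ => hall _) (((((LB_zero T ((skipEmb 3).trans (Function.Embedding.refl _))).upd 1 3 3 (le_of_eq hx14)).upd 2 3 1 (le_of_eq hx24)).upd 3 1 1 (le_of_eq hx41)).upd 3 2 1 (le_of_eq hx42)) ![0,3,1,2] (by decide) (by decide) 1 (by decide))
    · -- 24=(1,2)
      exact False.elim (cert_false T ((skipEmb 3).trans (Function.Embedding.refl _)) (by norm_num) (fun _ => hall _) (((((LB_zero T ((skipEmb 3).trans (Function.Embedding.refl _))).upd 1 3 3 (le_of_eq hx14)).upd 2 3 1 (le_of_eq hx24)).upd 3 1 1 (le_of_eq hx41)).upd 3 2 2 (le_of_eq hx42)) ![0,2,1,2] (by decide) (by decide) 1 (by decide))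
    · -- 24=(2,1)
      exact False.elim (cert_false T ((skipEmb 3).trans (Function.Embedding.refl _)) (by norm_num) (fun _ => hall _) (((((LB_zero T ((skipEmb 3).trans (Function.Embedding.refl _))).upd 1 3 3 (le_of_eq hx14)).upd 2 3 2 (le_of_eq hx24)).upd 3 1 1 (le_of_eq hx41)).upd 3 2 1 (le_of_eq hx42)) ![0,1,1,1] (by decide) (by decide) 1 (by decide))
    · -- 24=(1,3)
      exact False.elim (cert_false T ((skipEmb 3).trans (Function.Embedding.refl _)) (by norm_num) (fun _ => hall _) (((((LB_zero T ((skipEmb 3).trans (Function.Embedding.refl _))).upd 1 3 3 (le_of_eq hx14)).upd 2 3 1 (le_of_eq hx24)).upd 3 1 1 (le_of_eq hx41)).upd 3 2 3 (le_of_eq hx42)) ![0,1,1,2] (by decide) (by decide) 1 (by decide))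
    · -- 24=(3,1)
      exact False.elim (cert_false T ((skipEmb 3).trans (Function.Embedding.refl _)) (by norm_num) (fun _ => hall _) (((((LB_zero T ((skipEmb 3).trans (Function.Embedding.refl _))).upd 1 3 3 (le_of_eq hx14)).upd 2 3 3 (le_of_eq hx24)).upd 3 1 1 (le_of_eq hx41)).upd 3 2 1 (le_of_eq hx42)) ![0,1,1,1] (by decide) (by decide) 1 (by decide))

theorem case77 (T : NumericalType 5) (hall : ∀ i, T.IsMinusTwo i) (d : SData T)
    (h01 : N T (Function.Embedding.refl _) 0 1 = 0) (h10 : N T (Function.Embedding.refl _) 1 0 = 0)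
    (h02 : N T (Function.Embedding.refl _) 0 2 = 0) (h20 : N T (Function.Embedding.refl _) 2 0 = 0)
    (h12 : N T (Function.Embedding.refl _) 1 2 = 0) (h21 : N T (Function.Embedding.refl _) 2 1 = 0)
    (h03 : N T (Function.Embedding.refl _) 0 3 = 2) (h30 : N T (Function.Embedding.refl _) 3 0 = 1)
    (h13 : N T (Function.Embedding.refl _) 1 3 = 0) (h31 : N T (Function.Embedding.refl _) 3 1 = 0)
    (h23 : N T (Function.Embedding.refl _) 2 3 = 1) (h32 : N T (Function.Embedding.refl _) 3 2 = 1) :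
    Goal T := by
  unfold Goal
  have hd := d
  obtain ⟨x01, x02, x03, x04, x10, x12, x13, x14, x20, x21, x23, x24, x30, x31, x32, x34, x40, x41, x42, x43, hx01, hx02, hx03, hx04, hx10, hx12, hx13, hx14, hx20, hx21, hx23, hx24, hx30, hx31, hx32, hx34, hx40, hx41, hx42, hx43, hw0, hm0, hw1, hm1, hw2, hm2, hw3, hm3, hw4, hm4, a00, a01, a02, a03, a04, a11, a10, a12, a13, a14, a22, a20, a21, a23, a24, a33, a30, a31, a32, a34, a44, a40, a41, a42, a43, wN01, wN02, wN12, wN03, wN13, wN23, wN04, wN14, wN24, wN34, e0, e1, e2, e3, e4, d01, d02, d12, d03, d13, d23, d04, d14, d24, d34⟩ := d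
  obtain rfl : x01 = 0 := hx01.trans h01
  obtain rfl : x10 = 0 := hx10.trans h10
  obtain rfl : x02 = 0 := hx02.trans h02
  obtain rfl : x20 = 0 := hx20.trans h20
  obtain rfl : x12 = 0 := hx12.trans h12
  obtain rfl : x21 = 0 := hx21.trans h21
  obtain rfl : x03 = 2 := hx03.trans h03
  obtain rfl : x30 = 1 := hx30.trans h30
  obtain rfl : x13 = 0 := hx13.trans h13
  obtain rfl : x31 = 0 := hx31.trans h31
  obtain rfl : x23 = 1 := hx23.trans h23
  obtain rfl : x32 = 1 := hx32.trans h32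
  rcases d04 with ⟨rfl, rfl⟩ | ⟨rfl, rfl⟩ | ⟨rfl, rfl⟩ | ⟨rfl, rfl⟩ | ⟨rfl, rfl⟩ | ⟨rfl, rfl⟩
  · -- 04=(0,0)
    exact case78 T hall hd hx01.symm hx10.symm hx02.symm hx20.symm hx12.symm hx21.symm hx03.symm hx30.symm hx13.symm hx31.symm hx23.symm hx32.symm hx04.symm hx40.symm
  · -- 04=(1,1)
    rcases d14 with ⟨rfl, rfl⟩ | ⟨rfl, rfl⟩ | ⟨rfl, rfl⟩ | ⟨rfl, rfl⟩ | ⟨rfl, rfl⟩ | ⟨rfl, rfl⟩
    · -- 14=(0,0)
      rcases d24 with ⟨rfl, rfl⟩ | ⟨rfl, rfl⟩ | ⟨rfl, rfl⟩ | ⟨rfl, rfl⟩ | ⟨rfl, rfl⟩ | ⟨rfl, rfl⟩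
      · -- 24=(0,0)
        rcases d34 with ⟨rfl, rfl⟩ | ⟨rfl, rfl⟩ | ⟨rfl, rfl⟩ | ⟨rfl, rfl⟩ | ⟨rfl, rfl⟩ | ⟨rfl, rfl⟩
        · -- 34=(0,0)
          exfalso; omega
        · -- 34=(1,1)
          exact False.elim (cert_false T ((skipEmb 2).trans (Function.Embedding.refl _)) (by norm_num) (fun _ => hall _) (((((((LB_zero T ((skipEmb 2).trans (Function.Embedding.refl _))).upd 0 2 2 (le_of_eq hx03)).upd 0 3 1 (le_of_eq hx04)).upd 2 0 1 (le_of_eq hx30)).upd 2 3 1 (le_of_eq hx34)).upd 3 0 1 (le_of_eq hx40)).upd 3 2 1 (le_of_eq hx43)) ![1,0,1,1] (by decide) (by decide) 0 (by decide))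
        · -- 34=(1,2)
          exact False.elim (cert_false T ((skipEmb 2).trans (Function.Embedding.refl _)) (by norm_num) (fun _ => hall _) (((((((LB_zero T ((skipEmb 2).trans (Function.Embedding.refl _))).upd 0 2 2 (le_of_eq hx03)).upd 0 3 1 (le_of_eq hx04)).upd 2 0 1 (le_of_eq hx30)).upd 2 3 1 (le_of_eq hx34)).upd 3 0 1 (le_of_eq hx40)).upd 3 2 2 (le_of_eq hx43)) ![1,0,1,1] (by decide) (by decide) 0 (by decide))
        · -- 34=(2,1)
          exact False.elim (cert_false T ((skipEmb 2).trans (Function.Embedding.refl _)) (by norm_num) (fun _ => hall _) (((((((LB_zero T ((skipEmb 2).trans (Function.Embedding.refl _))).upd 0 2 2 (le_of_eq hx03)).upd 0 3 1 (le_of_eq hx04)).upd 2 0 1 (le_of_eq hx30)).upd 2 3 2 (le_of_eq hx34)).upd 3 0 1 (le_of_eq hx40)).upd 3 2 1 (le_of_eq hx43)) ![1,0,1,1] (by decide) (by decide) 0 (by decide))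
        · -- 34=(1,3)
          exact False.elim (cert_false T ((skipEmb 2).trans (Function.Embedding.refl _)) (by norm_num) (fun _ => hall _) (((((((LB_zero T ((skipEmb 2).trans (Function.Embedding.refl _))).upd 0 2 2 (le_of_eq hx03)).upd 0 3 1 (le_of_eq hx04)).upd 2 0 1 (le_of_eq hx30)).upd 2 3 1 (le_of_eq hx34)).upd 3 0 1 (le_of_eq hx40)).upd 3 2 3 (le_of_eq hx43)) ![1,0,1,1] (by decide) (by decide) 0 (by decide))
        · -- 34=(3,1)
          exact False.elim (cert_false T ((skipEmb 2).trans (Function.Embedding.refl _)) (by norm_num) (fun _ => hall _) (((((((LB_zero T ((skipEmb 2).trans (Function.Embedding.refl _))).upd 0 2 2 (le_of_eq hx03)).upd 0 3 1 (le_of_eq hx04)).upd 2 0 1 (le_of_eq hx30)).upd 2 3 3 (le_of_eq hx34)).upd 3 0 1 (le_of_eq hx40)).upd 3 2 1 (le_of_eq hx43)) ![1,0,1,1] (by decide) (by decide) 0 (by decide))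
      · -- 24=(1,1)
        exact False.elim (cert_false T ((skipEmb 1).trans (Function.Embedding.refl _)) (by norm_num) (fun _ => hall _) (((((((((LB_zero T ((skipEmb 1).trans (Function.Embedding.refl _))).upd 0 2 2 (le_of_eq hx03)).upd 0 3 1 (le_of_eq hx04)).upd 1 2 1 (le_of_eq hx23)).upd 1 3 1 (le_of_eq hx24)).upd 2 0 1 (le_of_eq hx30)).upd 2 1 1 (le_of_eq hx32)).upd 3 0 1 (le_of_eq hx40)).upd 3 1 1 (le_of_eq hx42)) ![1,1,1,1] (by decide) (by decide) 0 (by decide))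
      · -- 24=(1,2)
        exact False.elim (cert_false T ((skipEmb 1).trans (Function.Embedding.refl _)) (by norm_num) (fun _ => hall _) (((((((((LB_zero T ((skipEmb 1).trans (Function.Embedding.refl _))).upd 0 2 2 (le_of_eq hx03)).upd 0 3 1 (le_of_eq hx04)).upd 1 2 1 (le_of_eq hx23)).upd 1 3 1 (le_of_eq hx24)).upd 2 0 1 (le_of_eq hx30)).upd 2 1 1 (le_of_eq hx32)).upd 3 0 1 (le_of_eq hx40)).upd 3 1 2 (le_of_eq hx42)) ![1,1,1,1] (by decide) (by decide) 0 (by decide))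
      · -- 24=(2,1)
        exact False.elim (cert_false T ((skipEmb 1).trans (Function.Embedding.refl _)) (by norm_num) (fun _ => hall _) (((((((((LB_zero T ((skipEmb 1).trans (Function.Embedding.refl _))).upd 0 2 2 (le_of_eq hx03)).upd 0 3 1 (le_of_eq hx04)).upd 1 2 1 (le_of_eq hx23)).upd 1 3 2 (le_of_eq hx24)).upd 2 0 1 (le_of_eq hx30)).upd 2 1 1 (le_of_eq hx32)).upd 3 0 1 (le_of_eq hx40)).upd 3 1 1 (le_of_eq hx42)) ![1,1,1,1] (by decide) (by decide) 0 (by decide))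
      · -- 24=(1,3)
        exact False.elim (cert_false T ((skipEmb 3).trans (Function.Embedding.refl _)) (by norm_num) (fun _ => hall _) (((((LB_zero T ((skipEmb 3).trans (Function.Embedding.refl _))).upd 0 3 1 (le_of_eq hx04)).upd 2 3 1 (le_of_eq hx24)).upd 3 0 1 (le_of_eq hx40)).upd 3 2 3 (le_of_eq hx42)) ![1,0,1,2] (by decide) (by decide) 0 (by decide))
      · -- 24=(3,1)
        exact False.elim (cert_false T ((skipEmb 3).trans (Function.Embedding.refl _)) (by norm_num) (fun _ => hall _) (((((LB_zero T ((skipEmb 3).trans (Function.Embedding.refl _))).upd 0 3 1 (le_of_eq hx04)).upd 2 3 3 (le_of_eq hx24)).upd 3 0 1 (le_of_eq hx40)).upd 3 2 1 (le_of_eq hx42)) ![1,0,3,2] (by decide) (by decide) 0 (by decide))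
    · -- 14=(1,1)
      rcases d24 with ⟨rfl, rfl⟩ | ⟨rfl, rfl⟩ | ⟨rfl, rfl⟩ | ⟨rfl, rfl⟩ | ⟨rfl, rfl⟩ | ⟨rfl, rfl⟩
      · -- 24=(0,0)
        rcases d34 with ⟨rfl, rfl⟩ | ⟨rfl, rfl⟩ | ⟨rfl, rfl⟩ | ⟨rfl, rfl⟩ | ⟨rfl, rfl⟩ | ⟨rfl, rfl⟩
        · -- 34=(0,0)
          refine ⟨(⟨![1, 4, 0, 3, 2], ![2, 0, 4, 3, 1], by decide, by decide⟩ : Equiv.Perm (Fin 5)), T.m 1, T.w 1, Or.inr (Or.inl ?_)⟩
          show T.m 1 = T.m 1 ∧ T.m 4 = 2 * T.m 1 ∧ T.m 0 = 3 * T.m 1 ∧ T.m 3 = 2 * T.m 1 ∧ T.m 2 = T.m 1 ∧ T.w 1 = T.w 1 ∧ T.w 4 = T.w 1 ∧ T.w 0 = T.w 1 ∧ T.w 3 = 2 * T.w 1 ∧ T.w 2 = 2 * T.w 1 ∧ T.a 1 1 = -2 * T.w 1 ∧ T.a 1 4 = T.w 1 ∧ T.a 1 0 = 0 ∧ T.a 1 3 = 0 ∧ T.a 1 2 = 0 ∧ T.a 4 4 = -2 * T.w 1 ∧ T.a 4 0 = T.w 1 ∧ T.a 4 3 = 0 ∧ T.a 4 2 = 0 ∧ T.a 0 0 = -2 * T.w 1 ∧ T.a 0 3 = 2 * T.w 1 ∧ T.a 0 2 = 0 ∧ T.a 3 3 = -4 * T.w 1 ∧ T.a 3 2 = 2 * T.w 1 ∧ T.a 2 2 = -4 * T.w 1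
          refine ⟨?_, ?_, ?_, ?_, ?_, ?_, ?_, ?_, ?_, ?_, ?_, ?_, ?_, ?_, ?_, ?_, ?_, ?_, ?_, ?_, ?_, ?_, ?_, ?_, ?_⟩ <;> omega
        · -- 34=(1,1)
          exact False.elim (cert_false T ((skipEmb 2).trans (Function.Embedding.refl _)) (by norm_num) (fun _ => hall _) (((((((LB_zero T ((skipEmb 2).trans (Function.Embedding.refl _))).upd 0 2 2 (le_of_eq hx03)).upd 0 3 1 (le_of_eq hx04)).upd 2 0 1 (le_of_eq hx30)).upd 2 3 1 (le_of_eq hx34)).upd 3 0 1 (le_of_eq hx40)).upd 3 2 1 (le_of_eq hx43)) ![1,0,1,1] (by decide) (by decide) 0 (by decide))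
        · -- 34=(1,2)
          exact False.elim (cert_false T ((skipEmb 2).trans (Function.Embedding.refl _)) (by norm_num) (fun _ => hall _) (((((((LB_zero T ((skipEmb 2).trans (Function.Embedding.refl _))).upd 0 2 2 (le_of_eq hx03)).upd 0 3 1 (le_of_eq hx04)).upd 2 0 1 (le_of_eq hx30)).upd 2 3 1 (le_of_eq hx34)).upd 3 0 1 (le_of_eq hx40)).upd 3 2 2 (le_of_eq hx43)) ![1,0,1,1] (by decide) (by decide) 0 (by decide))
        · -- 34=(2,1)
          exact False.elim (cert_false T ((skipEmb 2).trans (Function.Embedding.refl _)) (by norm_num) (fun _ => hall _) (((((((LB_zero T ((skipEmb 2).trans (Function.Embedding.refl _))).upd 0 2 2 (le_of_eq hx03)).upd 0 3 1 (le_of_eq hx04)).upd 2 0 1 (le_of_eq hx30)).upd 2 3 2 (le_of_eq hx34)).upd 3 0 1 (le_of_eq hx40)).upd 3 2 1 (le_of_eq hx43)) ![1,0,1,1] (by decide) (by decide) 0 (by decide))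
        · -- 34=(1,3)
          exact False.elim (cert_false T ((skipEmb 2).trans (Function.Embedding.refl _)) (by norm_num) (fun _ => hall _) (((((((LB_zero T ((skipEmb 2).trans (Function.Embedding.refl _))).upd 0 2 2 (le_of_eq hx03)).upd 0 3 1 (le_of_eq hx04)).upd 2 0 1 (le_of_eq hx30)).upd 2 3 1 (le_of_eq hx34)).upd 3 0 1 (le_of_eq hx40)).upd 3 2 3 (le_of_eq hx43)) ![1,0,1,1] (by decide) (by decide) 0 (by decide))
        · -- 34=(3,1)
          exact False.elim (cert_false T ((skipEmb 2).trans (Function.Embedding.refl _)) (by norm_num) (fun _ => hall _) (((((((LB_zero T ((skipEmb 2).trans (Function.Embedding.refl _))).upd 0 2 2 (le_of_eq hx03)).upd 0 3 1 (le_of_eq hx04)).upd 2 0 1 (le_of_eq hx30)).upd 2 3 3 (le_of_eq hx34)).upd 3 0 1 (le_of_eq hx40)).upd 3 2 1 (le_of_eq hx43)) ![1,0,1,1] (by decide) (by decide) 0 (by decide))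
      · -- 24=(1,1)
        exact False.elim (cert_false T ((skipEmb 1).trans (Function.Embedding.refl _)) (by norm_num) (fun _ => hall _) (((((((((LB_zero T ((skipEmb 1).trans (Function.Embedding.refl _))).upd 0 2 2 (le_of_eq hx03)).upd 0 3 1 (le_of_eq hx04)).upd 1 2 1 (le_of_eq hx23)).upd 1 3 1 (le_of_eq hx24)).upd 2 0 1 (le_of_eq hx30)).upd 2 1 1 (le_of_eq hx32)).upd 3 0 1 (le_of_eq hx40)).upd 3 1 1 (le_of_eq hx42)) ![1,1,1,1] (by decide) (by decide) 0 (by decide))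
      · -- 24=(1,2)
        exact False.elim (cert_false T ((skipEmb 3).trans (Function.Embedding.refl _)) (by norm_num) (fun _ => hall _) (((((((LB_zero T ((skipEmb 3).trans (Function.Embedding.refl _))).upd 0 3 1 (le_of_eq hx04)).upd 1 3 1 (le_of_eq hx14)).upd 2 3 1 (le_of_eq hx24)).upd 3 0 1 (le_of_eq hx40)).upd 3 1 1 (le_of_eq hx41)).upd 3 2 2 (le_of_eq hx42)) ![1,1,1,2] (by decide) (by decide) 0 (by decide))
      · -- 24=(2,1)
        exact False.elim (cert_false T ((skipEmb 3).trans (Function.Embedding.refl _)) (by norm_num) (fun _ => hall _) (((((((LB_zero T ((skipEmb 3).trans (Function.Embedding.refl _))).upd 0 3 1 (le_of_eq hx04)).upd 1 3 1 (le_of_eq hx14)).upd 2 3 2 (le_of_eq hx24)).upd 3 0 1 (le_of_eq hx40)).upd 3 1 1 (le_of_eq hx41)).upd 3 2 1 (le_of_eq hx42)) ![1,1,2,2] (by decide) (by decide) 0 (by decide))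
      · -- 24=(1,3)
        exact False.elim (cert_false T ((skipEmb 3).trans (Function.Embedding.refl _)) (by norm_num) (fun _ => hall _) (((((LB_zero T ((skipEmb 3).trans (Function.Embedding.refl _))).upd 1 3 1 (le_of_eq hx14)).upd 2 3 1 (le_of_eq hx24)).upd 3 1 1 (le_of_eq hx41)).upd 3 2 3 (le_of_eq hx42)) ![0,1,1,2] (by decide) (by decide) 1 (by decide))
      · -- 24=(3,1)
        exact False.elim (cert_false T ((skipEmb 3).trans (Function.Embedding.refl _)) (by norm_num) (fun _ => hall _) (((((((LB_zero T ((skipEmb 3).trans (Function.Embedding.refl _))).upd 0 3 1 (le_of_eq hx04)).upd 1 3 1 (le_of_eq hx14)).upd 2 3 3 (le_of_eq hx24)).upd 3 0 1 (le_of_eq hx40)).upd 3 1 1 (le_of_eq hx41)).upd 3 2 1 (le_of_eq hx42)) ![1,1,2,2] (by decide) (by decide) 0 (by decide))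
    · -- 14=(1,2)
      exact False.elim (cert_false T ((skipEmb 2).trans (Function.Embedding.refl _)) (by norm_num) (fun _ => hall _) (((((((LB_zero T ((skipEmb 2).trans (Function.Embedding.refl _))).upd 0 2 2 (le_of_eq hx03)).upd 0 3 1 (le_of_eq hx04)).upd 1 3 1 (le_of_eq hx14)).upd 2 0 1 (le_of_eq hx30)).upd 3 0 1 (le_of_eq hx40)).upd 3 1 2 (le_of_eq hx41)) ![2,1,1,2] (by decide) (by decide) 0 (by decide))
    · -- 14=(2,1)
      exact False.elim (cert_false T ((skipEmb 2).trans (Function.Embedding.refl _)) (by norm_num) (fun _ => hall _) (((((((LB_zero T ((skipEmb 2).trans (Function.Embedding.refl _))).upd 0 2 2 (le_of_eq hx03)).upd 0 3 1 (le_of_eq hx04)).upd 1 3 2 (le_of_eq hx14)).upd 2 0 1 (le_of_eq hx30)).upd 3 0 1 (le_of_eq hx40)).upd 3 1 1 (le_of_eq hx41)) ![2,2,1,2] (by decide) (by decide) 0 (by decide))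
    · -- 14=(1,3)
      exact False.elim (cert_false T ((skipEmb 3).trans (Function.Embedding.refl _)) (by norm_num) (fun _ => hall _) (((((LB_zero T ((skipEmb 3).trans (Function.Embedding.refl _))).upd 0 3 1 (le_of_eq hx04)).upd 1 3 1 (le_of_eq hx14)).upd 3 0 1 (le_of_eq hx40)).upd 3 1 3 (le_of_eq hx41)) ![1,1,0,2] (by decide) (by decide) 0 (by decide))
    · -- 14=(3,1)
      exact False.elim (cert_false T ((skipEmb 3).trans (Function.Embedding.refl _)) (by norm_num) (fun _ => hall _) (((((LB_zero T ((skipEmb 3).trans (Function.Embedding.refl _))).upd 0 3 1 (le_of_eq hx04)).upd 1 3 3 (le_of_eq hx14)).upd 3 0 1 (le_of_eq hx40)).upd 3 1 1 (le_of_eq hx41)) ![1,3,0,2] (by decide) (by decide) 0 (by decide))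
  · -- 04=(1,2)
    exact False.elim (cert_false T ((skipEmb 2).trans (Function.Embedding.refl _)) (by norm_num) (fun _ => hall _) (((((LB_zero T ((skipEmb 2).trans (Function.Embedding.refl _))).upd 0 2 2 (le_of_eq hx03)).upd 0 3 1 (le_of_eq hx04)).upd 2 0 1 (le_of_eq hx30)).upd 3 0 2 (le_of_eq hx40)) ![2,0,1,2] (by decide) (by decide) 0 (by decide))
  · -- 04=(2,1)
    exact False.elim (cert_false T ((skipEmb 2).trans (Function.Embedding.refl _)) (by norm_num) (fun _ => hall _) (((((LB_zero T ((skipEmb 2).trans (Function.Embedding.refl _))).upd 0 2 2 (le_of_eq hx03)).upd 0 3 2 (le_of_eq hx04)).upd 2 0 1 (le_of_eq hx30)).upd 3 0 1 (le_of_eq hx40)) ![2,0,1,1] (by decide) (by decide) 0 (by decide))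
  · -- 04=(1,3)
    exact False.elim (cert_false T ((skipEmb 2).trans (Function.Embedding.refl _)) (by norm_num) (fun _ => hall _) (((((LB_zero T ((skipEmb 2).trans (Function.Embedding.refl _))).upd 0 2 2 (le_of_eq hx03)).upd 0 3 1 (le_of_eq hx04)).upd 2 0 1 (le_of_eq hx30)).upd 3 0 3 (le_of_eq hx40)) ![2,0,1,2] (by decide) (by decide) 0 (by decide))
  · -- 04=(3,1)
    exact False.elim (cert_false T ((skipEmb 2).trans (Function.Embedding.refl _)) (by norm_num) (fun _ => hall _) (((((LB_zero T ((skipEmb 2).trans (Function.Embedding.refl _))).upd 0 2 2 (le_of_eq hx03)).upd 0 3 3 (le_of_eq hx04)).upd 2 0 1 (le_of_eq hx30)).upd 3 0 1 (le_of_eq hx40)) ![2,0,1,1] (by decide) (by decide) 0 (by decide))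

theorem case74 (T : NumericalType 5) (hall : ∀ i, T.IsMinusTwo i) (d : SData T)
    (h01 : N T (Function.Embedding.refl _) 0 1 = 0) (h10 : N T (Function.Embedding.refl _) 1 0 = 0)
    (h02 : N T (Function.Embedding.refl _) 0 2 = 0) (h20 : N T (Function.Embedding.refl _) 2 0 = 0)
    (h12 : N T (Function.Embedding.refl _) 1 2 = 0) (h21 : N T (Function.Embedding.refl _) 2 1 = 0)
    (h03 : N T (Function.Embedding.refl _) 0 3 = 2) (h30 : N T (Function.Embedding.refl _) 3 0 = 1)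
    (h13 : N T (Function.Embedding.refl _) 1 3 = 0) (h31 : N T (Function.Embedding.refl _) 3 1 = 0) :
    Goal T := by
  unfold Goal
  have hd := d
  obtain ⟨x01, x02, x03, x04, x10, x12, x13, x14, x20, x21, x23, x24, x30, x31, x32, x34, x40, x41, x42, x43, hx01, hx02, hx03, hx04, hx10, hx12, hx13, hx14, hx20, hx21, hx23, hx24, hx30, hx31, hx32, hx34, hx40, hx41, hx42, hx43, hw0, hm0, hw1, hm1, hw2, hm2, hw3, hm3, hw4, hm4, a00, a01, a02, a03, a04, a11, a10, a12, a13, a14, a22, a20, a21, a23, a24, a33, a30, a31, a32, a34, a44, a40, a41, a42, a43, wN01, wN02, wN12, wN03, wN13, wN23, wN04, wN14, wN24, wN34, e0, e1, e2, e3, e4, d01, d02, d12, d03, d13, d23, d04, d14, d24, d34⟩ := d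
  obtain rfl : x01 = 0 := hx01.trans h01
  obtain rfl : x10 = 0 := hx10.trans h10
  obtain rfl : x02 = 0 := hx02.trans h02
  obtain rfl : x20 = 0 := hx20.trans h20
  obtain rfl : x12 = 0 := hx12.trans h12
  obtain rfl : x21 = 0 := hx21.trans h21
  obtain rfl : x03 = 2 := hx03.trans h03
  obtain rfl : x30 = 1 := hx30.trans h30
  obtain rfl : x13 = 0 := hx13.trans h13
  obtain rfl : x31 = 0 := hx31.trans h31
  rcases d23 with ⟨rfl, rfl⟩ | ⟨rfl, rfl⟩ | ⟨rfl, rfl⟩ | ⟨rfl, rfl⟩ | ⟨rfl, rfl⟩ | ⟨rfl, rfl⟩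
  · -- 23=(0,0)
    exact case75 T hall hd hx01.symm hx10.symm hx02.symm hx20.symm hx12.symm hx21.symm hx03.symm hx30.symm hx13.symm hx31.symm hx23.symm hx32.symm
  · -- 23=(1,1)
    exact case77 T hall hd hx01.symm hx10.symm hx02.symm hx20.symm hx12.symm hx21.symm hx03.symm hx30.symm hx13.symm hx31.symm hx23.symm hx32.symm
  · -- 23=(1,2)
    exact False.elim (cert_false T ((skipEmb 4).trans (Function.Embedding.refl _)) (by norm_num) (fun _ => hall _) (((((LB_zero T ((skipEmb 4).trans (Function.Embedding.refl _))).upd 0 3 2 (le_of_eq hx03)).upd 2 3 1 (le_of_eq hx23)).upd 3 0 1 (le_of_eq hx30)).upd 3 2 2 (le_of_eq hx32)) ![2,0,1,2] (by decide) (by decide) 0 (by decide))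
  · -- 23=(2,1)
    exact False.elim (cert_false T ((skipEmb 4).trans (Function.Embedding.refl _)) (by norm_num) (fun _ => hall _) (((((LB_zero T ((skipEmb 4).trans (Function.Embedding.refl _))).upd 0 3 2 (le_of_eq hx03)).upd 2 3 2 (le_of_eq hx23)).upd 3 0 1 (le_of_eq hx30)).upd 3 2 1 (le_of_eq hx32)) ![1,0,1,1] (by decide) (by decide) 0 (by decide))
  · -- 23=(1,3)
    exact False.elim (cert_false T ((skipEmb 4).trans (Function.Embedding.refl _)) (by norm_num) (fun _ => hall _) (((((LB_zero T ((skipEmb 4).trans (Function.Embedding.refl _))).upd 0 3 2 (le_of_eq hx03)).upd 2 3 1 (le_of_eq hx23)).upd 3 0 1 (le_of_eq hx30)).upd 3 2 3 (le_of_eq hx32)) ![1,0,1,2] (by decide) (by decide) 0 (by decide))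
  · -- 23=(3,1)
    exact False.elim (cert_false T ((skipEmb 4).trans (Function.Embedding.refl _)) (by norm_num) (fun _ => hall _) (((((LB_zero T ((skipEmb 4).trans (Function.Embedding.refl _))).upd 0 3 2 (le_of_eq hx03)).upd 2 3 3 (le_of_eq hx23)).upd 3 0 1 (le_of_eq hx30)).upd 3 2 1 (le_of_eq hx32)) ![1,0,1,1] (by decide) (by decide) 0 (by decide))

theorem case104 (T : NumericalType 5) (hall : ∀ i, T.IsMinusTwo i) (d : SData T)
    (h01 : N T (Function.Embedding.refl _) 0 1 = 0) (h10 : N T (Function.Embedding.refl _) 1 0 = 0)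
    (h02 : N T (Function.Embedding.refl _) 0 2 = 0) (h20 : N T (Function.Embedding.refl _) 2 0 = 0)
    (h12 : N T (Function.Embedding.refl _) 1 2 = 1) (h21 : N T (Function.Embedding.refl _) 2 1 = 1)
    (h03 : N T (Function.Embedding.refl _) 0 3 = 0) (h30 : N T (Function.Embedding.refl _) 3 0 = 0)
    (h13 : N T (Function.Embedding.refl _) 1 3 = 1) (h31 : N T (Function.Embedding.refl _) 3 1 = 2)
    (h23 : N T (Function.Embedding.refl _) 2 3 = 0) (h32 : N T (Function.Embedding.refl _) 3 2 = 0) :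
    Goal T := by
  unfold Goal
  have hd := d
  obtain ⟨x01, x02, x03, x04, x10, x12, x13, x14, x20, x21, x23, x24, x30, x31, x32, x34, x40, x41, x42, x43, hx01, hx02, hx03, hx04, hx10, hx12, hx13, hx14, hx20, hx21, hx23, hx24, hx30, hx31, hx32, hx34, hx40, hx41, hx42, hx43, hw0, hm0, hw1, hm1, hw2, hm2, hw3, hm3, hw4, hm4, a00, a01, a02, a03, a04, a11, a10, a12, a13, a14, a22, a20, a21, a23, a24, a33, a30, a31, a32, a34, a44, a40, a41, a42, a43, wN01, wN02, wN12, wN03, wN13, wN23, wN04, wN14, wN24, wN34, e0, e1, e2, e3, e4, d01, d02, d12, d03, d13, d23, d04, d14, d24, d34⟩ := d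
  obtain rfl : x01 = 0 := hx01.trans h01
  obtain rfl : x10 = 0 := hx10.trans h10
  obtain rfl : x02 = 0 := hx02.trans h02
  obtain rfl : x20 = 0 := hx20.trans h20
  obtain rfl : x12 = 1 := hx12.trans h12
  obtain rfl : x21 = 1 := hx21.trans h21
  obtain rfl : x03 = 0 := hx03.trans h03
  obtain rfl : x30 = 0 := hx30.trans h30
  obtain rfl : x13 = 1 := hx13.trans h13
  obtain rfl : x31 = 2 := hx31.trans h31
  obtain rfl : x23 = 0 := hx23.trans h23
  obtain rfl : x32 = 0 := hx32.trans h32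
  rcases d04 with ⟨rfl, rfl⟩ | ⟨rfl, rfl⟩ | ⟨rfl, rfl⟩ | ⟨rfl, rfl⟩ | ⟨rfl, rfl⟩ | ⟨rfl, rfl⟩
  · -- 04=(0,0)
    rcases d14 with ⟨rfl, rfl⟩ | ⟨rfl, rfl⟩ | ⟨rfl, rfl⟩ | ⟨rfl, rfl⟩ | ⟨rfl, rfl⟩ | ⟨rfl, rfl⟩
    · -- 14=(0,0)
      rcases d24 with ⟨rfl, rfl⟩ | ⟨rfl, rfl⟩ | ⟨rfl, rfl⟩ | ⟨rfl, rfl⟩ | ⟨rfl, rfl⟩ | ⟨rfl, rfl⟩
      · -- 24=(0,0)
        rcases d34 with ⟨rfl, rfl⟩ | ⟨rfl, rfl⟩ | ⟨rfl, rfl⟩ | ⟨rfl, rfl⟩ | ⟨rfl, rfl⟩ | ⟨rfl, rfl⟩
        · -- 34=(0,0)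
          exfalso; omega
        · -- 34=(1,1)
          exfalso; omega
        · -- 34=(1,2)
          exact False.elim (cert_false T ((skipEmb 2).trans (Function.Embedding.refl _)) (by norm_num) (fun _ => hall _) (((((LB_zero T ((skipEmb 2).trans (Function.Embedding.refl _))).upd 1 2 1 (le_of_eq hx13)).upd 2 1 2 (le_of_eq hx31)).upd 2 3 1 (le_of_eq hx34)).upd 3 2 2 (le_of_eq hx43)) ![0,1,2,2] (by decide) (by decide) 1 (by decide))
        · -- 34=(2,1)
          exact False.elim (cert_false T ((skipEmb 2).trans (Function.Embedding.refl _)) (by norm_num) (fun _ => hall _) (((((LB_zero T ((skipEmb 2).trans (Function.Embedding.refl _))).upd 1 2 1 (le_of_eq hx13)).upd 2 1 2 (le_of_eq hx31)).upd 2 3 2 (le_of_eq hx34)).upd 3 2 1 (le_of_eq hx43)) ![0,1,2,1] (by decide) (by decide) 1 (by decide))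
        · -- 34=(1,3)
          exact False.elim (cert_false T ((skipEmb 2).trans (Function.Embedding.refl _)) (by norm_num) (fun _ => hall _) (((((LB_zero T ((skipEmb 2).trans (Function.Embedding.refl _))).upd 1 2 1 (le_of_eq hx13)).upd 2 1 2 (le_of_eq hx31)).upd 2 3 1 (le_of_eq hx34)).upd 3 2 3 (le_of_eq hx43)) ![0,1,2,2] (by decide) (by decide) 1 (by decide))
        · -- 34=(3,1)
          exact False.elim (cert_false T ((skipEmb 2).trans (Function.Embedding.refl _)) (by norm_num) (fun _ => hall _) (((((LB_zero T ((skipEmb 2).trans (Function.Embedding.refl _))).upd 1 2 1 (le_of_eq hx13)).upd 2 1 2 (le_of_eq hx31)).upd 2 3 3 (le_of_eq hx34)).upd 3 2 1 (le_of_eq hx43)) ![0,1,2,1] (by decide) (by decide) 1 (by decide))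
      · -- 24=(1,1)
        rcases d34 with ⟨rfl, rfl⟩ | ⟨rfl, rfl⟩ | ⟨rfl, rfl⟩ | ⟨rfl, rfl⟩ | ⟨rfl, rfl⟩ | ⟨rfl, rfl⟩
        · -- 34=(0,0)
          exfalso; omega
        · -- 34=(1,1)
          exact False.elim (cert_false T ((skipEmb 0).trans (Function.Embedding.refl _)) (by norm_num) (fun _ => hall _) (((((((((LB_zero T ((skipEmb 0).trans (Function.Embedding.refl _))).upd 0 1 1 (le_of_eq hx12)).upd 0 2 1 (le_of_eq hx13)).upd 1 0 1 (le_of_eq hx21)).upd 1 3 1 (le_of_eq hx24)).upd 2 0 2 (le_of_eq hx31)).upd 2 3 1 (le_of_eq hx34)).upd 3 1 1 (le_of_eq hx42)).upd 3 2 1 (le_of_eq hx43)) ![1,1,1,1] (by decide) (by decide) 0 (by decide))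
        · -- 34=(1,2)
          exact False.elim (cert_false T ((skipEmb 2).trans (Function.Embedding.refl _)) (by norm_num) (fun _ => hall _) (((((LB_zero T ((skipEmb 2).trans (Function.Embedding.refl _))).upd 1 2 1 (le_of_eq hx13)).upd 2 1 2 (le_of_eq hx31)).upd 2 3 1 (le_of_eq hx34)).upd 3 2 2 (le_of_eq hx43)) ![0,1,2,2] (by decide) (by decide) 1 (by decide))
        · -- 34=(2,1)
          exact False.elim (cert_false T ((skipEmb 2).trans (Function.Embedding.refl _)) (by norm_num) (fun _ => hall _) (((((LB_zero T ((skipEmb 2).trans (Function.Embedding.refl _))).upd 1 2 1 (le_of_eq hx13)).upd 2 1 2 (le_of_eq hx31)).upd 2 3 2 (le_of_eq hx34)).upd 3 2 1 (le_of_eq hx43)) ![0,1,2,1] (by decide) (by decide) 1 (by decide))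
        · -- 34=(1,3)
          exact False.elim (cert_false T ((skipEmb 2).trans (Function.Embedding.refl _)) (by norm_num) (fun _ => hall _) (((((LB_zero T ((skipEmb 2).trans (Function.Embedding.refl _))).upd 1 2 1 (le_of_eq hx13)).upd 2 1 2 (le_of_eq hx31)).upd 2 3 1 (le_of_eq hx34)).upd 3 2 3 (le_of_eq hx43)) ![0,1,2,2] (by decide) (by decide) 1 (by decide))
        · -- 34=(3,1)
          exact False.elim (cert_false T ((skipEmb 2).trans (Function.Embedding.refl _)) (by norm_num) (fun _ => hall _) (((((LB_zero T ((skipEmb 2).trans (Function.Embedding.refl _))).upd 1 2 1 (le_of_eq hx13)).upd 2 1 2 (le_of_eq hx31)).upd 2 3 3 (le_of_eq hx34)).upd 3 2 1 (le_of_eq hx43)) ![0,1,2,1] (by decide) (by decide) 1 (by decide))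
      · -- 24=(1,2)
        exact False.elim (cert_false T ((skipEmb 0).trans (Function.Embedding.refl _)) (by norm_num) (fun _ => hall _) (((((((LB_zero T ((skipEmb 0).trans (Function.Embedding.refl _))).upd 0 1 1 (le_of_eq hx12)).upd 0 2 1 (le_of_eq hx13)).upd 1 0 1 (le_of_eq hx21)).upd 1 3 1 (le_of_eq hx24)).upd 2 0 2 (le_of_eq hx31)).upd 3 1 2 (le_of_eq hx42)) ![1,1,1,1] (by decide) (by decide) 0 (by decide))
      · -- 24=(2,1)
        exact False.elim (cert_false T ((skipEmb 0).trans (Function.Embedding.refl _)) (by norm_num) (fun _ => hall _) (((((((LB_zero T ((skipEmb 0).trans (Function.Embedding.refl _))).upd 0 1 1 (le_of_eq hx12)).upd 0 2 1 (le_of_eq hx13)).upd 1 0 1 (le_of_eq hx21)).upd 1 3 2 (le_of_eq hx24)).upd 2 0 2 (le_of_eq hx31)).upd 3 1 1 (le_of_eq hx42)) ![2,2,2,1] (by decide) (by decide) 0 (by decide))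
      · -- 24=(1,3)
        exact False.elim (cert_false T ((skipEmb 3).trans (Function.Embedding.refl _)) (by norm_num) (fun _ => hall _) (((((LB_zero T ((skipEmb 3).trans (Function.Embedding.refl _))).upd 1 2 1 (le_of_eq hx12)).upd 2 1 1 (le_of_eq hx21)).upd 2 3 1 (le_of_eq hx24)).upd 3 2 3 (le_of_eq hx42)) ![0,1,2,3] (by decide) (by decide) 1 (by decide))
      · -- 24=(3,1)
        exact False.elim (cert_false T ((skipEmb 3).trans (Function.Embedding.refl _)) (by norm_num) (fun _ => hall _) (((((LB_zero T ((skipEmb 3).trans (Function.Embedding.refl _))).upd 1 2 1 (le_of_eq hx12)).upd 2 1 1 (le_of_eq hx21)).upd 2 3 3 (le_of_eq hx24)).upd 3 2 1 (le_of_eq hx42)) ![0,1,2,1] (by decide) (by decide) 1 (by decide))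
    · -- 14=(1,1)
      exact False.elim (cert_false T ((skipEmb 0).trans (Function.Embedding.refl _)) (by norm_num) (fun _ => hall _) (((((((LB_zero T ((skipEmb 0).trans (Function.Embedding.refl _))).upd 0 1 1 (le_of_eq hx12)).upd 0 2 1 (le_of_eq hx13)).upd 0 3 1 (le_of_eq hx14)).upd 1 0 1 (le_of_eq hx21)).upd 2 0 2 (le_of_eq hx31)).upd 3 0 1 (le_of_eq hx41)) ![2,1,2,1] (by decide) (by decide) 0 (by decide))
    · -- 14=(1,2)
      exact False.elim (cert_false T ((skipEmb 2).trans (Function.Embedding.refl _)) (by norm_num) (fun _ => hall _) (((((LB_zero T ((skipEmb 2).trans (Function.Embedding.refl _))).upd 1 2 1 (le_of_eq hx13)).upd 1 3 1 (le_of_eq hx14)).upd 2 1 2 (le_of_eq hx31)).upd 3 1 2 (le_of_eq hx41)) ![0,1,1,1] (by decide) (by decide) 1 (by decide))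
    · -- 14=(2,1)
      exact False.elim (cert_false T ((skipEmb 2).trans (Function.Embedding.refl _)) (by norm_num) (fun _ => hall _) (((((LB_zero T ((skipEmb 2).trans (Function.Embedding.refl _))).upd 1 2 1 (le_of_eq hx13)).upd 1 3 2 (le_of_eq hx14)).upd 2 1 2 (le_of_eq hx31)).upd 3 1 1 (le_of_eq hx41)) ![0,2,2,1] (by decide) (by decide) 1 (by decide))
    · -- 14=(1,3)
      exact False.elim (cert_false T ((skipEmb 3).trans (Function.Embedding.refl _)) (by norm_num) (fun _ => hall _) (((((LB_zero T ((skipEmb 3).trans (Function.Embedding.refl _))).upd 1 2 1 (le_of_eq hx12)).upd 1 3 1 (le_of_eq hx14)).upd 2 1 1 (le_of_eq hx21)).upd 3 1 3 (le_of_eq hx41)) ![0,2,1,3] (by decide) (by decide) 1 (by decide))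
    · -- 14=(3,1)
      exact False.elim (cert_false T ((skipEmb 3).trans (Function.Embedding.refl _)) (by norm_num) (fun _ => hall _) (((((LB_zero T ((skipEmb 3).trans (Function.Embedding.refl _))).upd 1 2 1 (le_of_eq hx12)).upd 1 3 3 (le_of_eq hx14)).upd 2 1 1 (le_of_eq hx21)).upd 3 1 1 (le_of_eq hx41)) ![0,2,1,1] (by decide) (by decide) 1 (by decide))
  · -- 04=(1,1)
    rcases d14 with ⟨rfl, rfl⟩ | ⟨rfl, rfl⟩ | ⟨rfl, rfl⟩ | ⟨rfl, rfl⟩ | ⟨rfl, rfl⟩ | ⟨rfl, rfl⟩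
    · -- 14=(0,0)
      rcases d24 with ⟨rfl, rfl⟩ | ⟨rfl, rfl⟩ | ⟨rfl, rfl⟩ | ⟨rfl, rfl⟩ | ⟨rfl, rfl⟩ | ⟨rfl, rfl⟩
      · -- 24=(0,0)
        rcases d34 with ⟨rfl, rfl⟩ | ⟨rfl, rfl⟩ | ⟨rfl, rfl⟩ | ⟨rfl, rfl⟩ | ⟨rfl, rfl⟩ | ⟨rfl, rfl⟩
        · -- 34=(0,0)
          exfalso; omega
        · -- 34=(1,1)
          refine ⟨(⟨![0, 4, 3, 1, 2], ![0, 3, 4, 2, 1], by decide, by decide⟩ : Equiv.Perm (Fin 5)), T.m 0, T.w 0, Or.inr (Or.inl ?_)⟩
          show T.m 0 = T.m 0 ∧ T.m 4 = 2 * T.m 0 ∧ T.m 3 = 3 * T.m 0 ∧ T.m 1 = 2 * T.m 0 ∧ T.m 2 = T.m 0 ∧ T.w 0 = T.w 0 ∧ T.w 4 = T.w 0 ∧ T.w 3 = T.w 0 ∧ T.w 1 = 2 * T.w 0 ∧ T.w 2 = 2 * T.w 0 ∧ T.a 0 0 = -2 * T.w 0 ∧ T.a 0 4 = T.w 0 ∧ T.a 0 3 = 0 ∧ T.a 0 1 = 0 ∧ T.a 0 2 = 0 ∧ T.a 4 4 = -2 * T.w 0 ∧ T.a 4 3 = T.w 0 ∧ T.a 4 1 = 0 ∧ T.a 4 2 = 0 ∧ T.a 3 3 = -2 * T.w 0 ∧ T.a 3 1 = 2 * T.w 0 ∧ T.a 3 2 = 0 ∧ T.a 1 1 = -4 * T.w 0 ∧ T.a 1 2 = 2 * T.w 0 ∧ T.a 2 2 = -4 * T.w 0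
          refine ⟨?_, ?_, ?_, ?_, ?_, ?_, ?_, ?_, ?_, ?_, ?_, ?_, ?_, ?_, ?_, ?_, ?_, ?_, ?_, ?_, ?_, ?_, ?_, ?_, ?_⟩ <;> omega
        · -- 34=(1,2)
          exact False.elim (cert_false T ((skipEmb 2).trans (Function.Embedding.refl _)) (by norm_num) (fun _ => hall _) (((((LB_zero T ((skipEmb 2).trans (Function.Embedding.refl _))).upd 1 2 1 (le_of_eq hx13)).upd 2 1 2 (le_of_eq hx31)).upd 2 3 1 (le_of_eq hx34)).upd 3 2 2 (le_of_eq hx43)) ![0,1,2,2] (by decide) (by decide) 1 (by decide))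
        · -- 34=(2,1)
          exact False.elim (cert_false T ((skipEmb 2).trans (Function.Embedding.refl _)) (by norm_num) (fun _ => hall _) (((((LB_zero T ((skipEmb 2).trans (Function.Embedding.refl _))).upd 1 2 1 (le_of_eq hx13)).upd 2 1 2 (le_of_eq hx31)).upd 2 3 2 (le_of_eq hx34)).upd 3 2 1 (le_of_eq hx43)) ![0,1,2,1] (by decide) (by decide) 1 (by decide))
        · -- 34=(1,3)
          exact False.elim (cert_false T ((skipEmb 2).trans (Function.Embedding.refl _)) (by norm_num) (fun _ => hall _) (((((LB_zero T ((skipEmb 2).trans (Function.Embedding.refl _))).upd 1 2 1 (le_of_eq hx13)).upd 2 1 2 (le_of_eq hx31)).upd 2 3 1 (le_of_eq hx34)).upd 3 2 3 (le_of_eq hx43)) ![0,1,2,2] (by decide) (by decide) 1 (by decide))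
        · -- 34=(3,1)
          exact False.elim (cert_false T ((skipEmb 2).trans (Function.Embedding.refl _)) (by norm_num) (fun _ => hall _) (((((LB_zero T ((skipEmb 2).trans (Function.Embedding.refl _))).upd 1 2 1 (le_of_eq hx13)).upd 2 1 2 (le_of_eq hx31)).upd 2 3 3 (le_of_eq hx34)).upd 3 2 1 (le_of_eq hx43)) ![0,1,2,1] (by decide) (by decide) 1 (by decide))
      · -- 24=(1,1)
        rcases d34 with ⟨rfl, rfl⟩ | ⟨rfl, rfl⟩ | ⟨rfl, rfl⟩ | ⟨rfl, rfl⟩ | ⟨rfl, rfl⟩ | ⟨rfl, rfl⟩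
        · -- 34=(0,0)
          exfalso; omega
        · -- 34=(1,1)
          exact False.elim (cert_false T ((skipEmb 0).trans (Function.Embedding.refl _)) (by norm_num) (fun _ => hall _) (((((((((LB_zero T ((skipEmb 0).trans (Function.Embedding.refl _))).upd 0 1 1 (le_of_eq hx12)).upd 0 2 1 (le_of_eq hx13)).upd 1 0 1 (le_of_eq hx21)).upd 1 3 1 (le_of_eq hx24)).upd 2 0 2 (le_of_eq hx31)).upd 2 3 1 (le_of_eq hx34)).upd 3 1 1 (le_of_eq hx42)).upd 3 2 1 (le_of_eq hx43)) ![1,1,1,1] (by decide) (by decide) 0 (by decide))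
        · -- 34=(1,2)
          exact False.elim (cert_false T ((skipEmb 2).trans (Function.Embedding.refl _)) (by norm_num) (fun _ => hall _) (((((LB_zero T ((skipEmb 2).trans (Function.Embedding.refl _))).upd 1 2 1 (le_of_eq hx13)).upd 2 1 2 (le_of_eq hx31)).upd 2 3 1 (le_of_eq hx34)).upd 3 2 2 (le_of_eq hx43)) ![0,1,2,2] (by decide) (by decide) 1 (by decide))
        · -- 34=(2,1)
          exact False.elim (cert_false T ((skipEmb 2).trans (Function.Embedding.refl _)) (by norm_num) (fun _ => hall _) (((((LB_zero T ((skipEmb 2).trans (Function.Embedding.refl _))).upd 1 2 1 (le_of_eq hx13)).upd 2 1 2 (le_of_eq hx31)).upd 2 3 2 (le_of_eq hx34)).upd 3 2 1 (le_of_eq hx43)) ![0,1,2,1] (by decide) (by decide) 1 (by decide))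
        · -- 34=(1,3)
          exact False.elim (cert_false T ((skipEmb 2).trans (Function.Embedding.refl _)) (by norm_num) (fun _ => hall _) (((((LB_zero T ((skipEmb 2).trans (Function.Embedding.refl _))).upd 1 2 1 (le_of_eq hx13)).upd 2 1 2 (le_of_eq hx31)).upd 2 3 1 (le_of_eq hx34)).upd 3 2 3 (le_of_eq hx43)) ![0,1,2,2] (by decide) (by decide) 1 (by decide))
        · -- 34=(3,1)
          exact False.elim (cert_false T ((skipEmb 2).trans (Function.Embedding.refl _)) (by norm_num) (fun _ => hall _) (((((LB_zero T ((skipEmb 2).trans (Function.Embedding.refl _))).upd 1 2 1 (le_of_eq hx13)).upd 2 1 2 (le_of_eq hx31)).upd 2 3 3 (le_of_eq hx34)).upd 3 2 1 (le_of_eq hx43)) ![0,1,2,1] (by decide) (by decide) 1 (by decide))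
      · -- 24=(1,2)
        exact False.elim (cert_false T ((skipEmb 0).trans (Function.Embedding.refl _)) (by norm_num) (fun _ => hall _) (((((((LB_zero T ((skipEmb 0).trans (Function.Embedding.refl _))).upd 0 1 1 (le_of_eq hx12)).upd 0 2 1 (le_of_eq hx13)).upd 1 0 1 (le_of_eq hx21)).upd 1 3 1 (le_of_eq hx24)).upd 2 0 2 (le_of_eq hx31)).upd 3 1 2 (le_of_eq hx42)) ![1,1,1,1] (by decide) (by decide) 0 (by decide))
      · -- 24=(2,1)
        exact False.elim (cert_false T ((skipEmb 0).trans (Function.Embedding.refl _)) (by norm_num) (fun _ => hall _) (((((((LB_zero T ((skipEmb 0).trans (Function.Embedding.refl _))).upd 0 1 1 (le_of_eq hx12)).upd 0 2 1 (le_of_eq hx13)).upd 1 0 1 (le_of_eq hx21)).upd 1 3 2 (le_of_eq hx24)).upd 2 0 2 (le_of_eq hx31)).upd 3 1 1 (le_of_eq hx42)) ![2,2,2,1] (by decide) (by decide) 0 (by decide))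
      · -- 24=(1,3)
        exact False.elim (cert_false T ((skipEmb 3).trans (Function.Embedding.refl _)) (by norm_num) (fun _ => hall _) (((((LB_zero T ((skipEmb 3).trans (Function.Embedding.refl _))).upd 0 3 1 (le_of_eq hx04)).upd 2 3 1 (le_of_eq hx24)).upd 3 0 1 (le_of_eq hx40)).upd 3 2 3 (le_of_eq hx42)) ![1,0,1,2] (by decide) (by decide) 0 (by decide))
      · -- 24=(3,1)
        exact False.elim (cert_false T ((skipEmb 3).trans (Function.Embedding.refl _)) (by norm_num) (fun _ => hall _) (((((LB_zero T ((skipEmb 3).trans (Function.Embedding.refl _))).upd 1 2 1 (le_of_eq hx12)).upd 2 1 1 (le_of_eq hx21)).upd 2 3 3 (le_of_eq hx24)).upd 3 2 1 (le_of_eq hx42)) ![0,1,2,1] (by decide) (by decide) 1 (by decide))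
    · -- 14=(1,1)
      exact False.elim (cert_false T ((skipEmb 0).trans (Function.Embedding.refl _)) (by norm_num) (fun _ => hall _) (((((((LB_zero T ((skipEmb 0).trans (Function.Embedding.refl _))).upd 0 1 1 (le_of_eq hx12)).upd 0 2 1 (le_of_eq hx13)).upd 0 3 1 (le_of_eq hx14)).upd 1 0 1 (le_of_eq hx21)).upd 2 0 2 (le_of_eq hx31)).upd 3 0 1 (le_of_eq hx41)) ![2,1,2,1] (by decide) (by decide) 0 (by decide))
    · -- 14=(1,2)
      exact False.elim (cert_false T ((skipEmb 2).trans (Function.Embedding.refl _)) (by norm_num) (fun _ => hall _) (((((LB_zero T ((skipEmb 2).trans (Function.Embedding.refl _))).upd 1 2 1 (le_of_eq hx13)).upd 1 3 1 (le_of_eq hx14)).upd 2 1 2 (le_of_eq hx31)).upd 3 1 2 (le_of_eq hx41)) ![0,1,1,1] (by decide) (by decide) 1 (by decide))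
    · -- 14=(2,1)
      exact False.elim (cert_false T ((skipEmb 2).trans (Function.Embedding.refl _)) (by norm_num) (fun _ => hall _) (((((LB_zero T ((skipEmb 2).trans (Function.Embedding.refl _))).upd 1 2 1 (le_of_eq hx13)).upd 1 3 2 (le_of_eq hx14)).upd 2 1 2 (le_of_eq hx31)).upd 3 1 1 (le_of_eq hx41)) ![0,2,2,1] (by decide) (by decide) 1 (by decide))
    · -- 14=(1,3)
      exact False.elim (cert_false T ((skipEmb 3).trans (Function.Embedding.refl _)) (by norm_num) (fun _ => hall _) (((((LB_zero T ((skipEmb 3).trans (Function.Embedding.refl _))).upd 0 3 1 (le_of_eq hx04)).upd 1 3 1 (le_of_eq hx14)).upd 3 0 1 (le_of_eq hx40)).upd 3 1 3 (le_of_eq hx41)) ![1,1,0,2] (by decide) (by decide) 0 (by decide))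
    · -- 14=(3,1)
      exact False.elim (cert_false T ((skipEmb 3).trans (Function.Embedding.refl _)) (by norm_num) (fun _ => hall _) (((((LB_zero T ((skipEmb 3).trans (Function.Embedding.refl _))).upd 1 2 1 (le_of_eq hx12)).upd 1 3 3 (le_of_eq hx14)).upd 2 1 1 (le_of_eq hx21)).upd 3 1 1 (le_of_eq hx41)) ![0,2,1,1] (by decide) (by decide) 1 (by decide))
  · -- 04=(1,2)
    rcases d14 with ⟨rfl, rfl⟩ | ⟨rfl, rfl⟩ | ⟨rfl, rfl⟩ | ⟨rfl, rfl⟩ | ⟨rfl, rfl⟩ | ⟨rfl, rfl⟩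
    · -- 14=(0,0)
      rcases d24 with ⟨rfl, rfl⟩ | ⟨rfl, rfl⟩ | ⟨rfl, rfl⟩ | ⟨rfl, rfl⟩ | ⟨rfl, rfl⟩ | ⟨rfl, rfl⟩
      · -- 24=(0,0)
        rcases d34 with ⟨rfl, rfl⟩ | ⟨rfl, rfl⟩ | ⟨rfl, rfl⟩ | ⟨rfl, rfl⟩ | ⟨rfl, rfl⟩ | ⟨rfl, rfl⟩
        · -- 34=(0,0)
          exfalso; omega
        · -- 34=(1,1)
          exact False.elim (cert_false T ((skipEmb 2).trans (Function.Embedding.refl _)) (by norm_num) (fun _ => hall _) (((((((LB_zero T ((skipEmb 2).trans (Function.Embedding.refl _))).upd 0 3 1 (le_of_eq hx04)).upd 1 2 1 (le_of_eq hx13)).upd 2 1 2 (le_of_eq hx31)).upd 2 3 1 (le_of_eq hx34)).upd 3 0 2 (le_of_eq hx40)).upd 3 2 1 (le_of_eq hx43)) ![1,1,2,2] (by decide) (by decide) 0 (by decide))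
        · -- 34=(1,2)
          exact False.elim (cert_false T ((skipEmb 2).trans (Function.Embedding.refl _)) (by norm_num) (fun _ => hall _) (((((LB_zero T ((skipEmb 2).trans (Function.Embedding.refl _))).upd 1 2 1 (le_of_eq hx13)).upd 2 1 2 (le_of_eq hx31)).upd 2 3 1 (le_of_eq hx34)).upd 3 2 2 (le_of_eq hx43)) ![0,1,2,2] (by decide) (by decide) 1 (by decide))
        · -- 34=(2,1)
          exact False.elim (cert_false T ((skipEmb 2).trans (Function.Embedding.refl _)) (by norm_num) (fun _ => hall _) (((((LB_zero T ((skipEmb 2).trans (Function.Embedding.refl _))).upd 0 3 1 (le_of_eq hx04)).upd 2 3 2 (le_of_eq hx34)).upd 3 0 2 (le_of_eq hx40)).upd 3 2 1 (le_of_eq hx43)) ![1,0,2,2] (by decide) (by decide) 0 (by decide))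
        · -- 34=(1,3)
          exact False.elim (cert_false T ((skipEmb 2).trans (Function.Embedding.refl _)) (by norm_num) (fun _ => hall _) (((((LB_zero T ((skipEmb 2).trans (Function.Embedding.refl _))).upd 1 2 1 (le_of_eq hx13)).upd 2 1 2 (le_of_eq hx31)).upd 2 3 1 (le_of_eq hx34)).upd 3 2 3 (le_of_eq hx43)) ![0,1,2,2] (by decide) (by decide) 1 (by decide))
        · -- 34=(3,1)
          exact False.elim (cert_false T ((skipEmb 2).trans (Function.Embedding.refl _)) (by norm_num) (fun _ => hall _) (((((LB_zero T ((skipEmb 2).trans (Function.Embedding.refl _))).upd 0 3 1 (le_of_eq hx04)).upd 2 3 3 (le_of_eq hx34)).upd 3 0 2 (le_of_eq hx40)).upd 3 2 1 (le_of_eq hx43)) ![1,0,2,2] (by decide) (by decide) 0 (by decide))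
      · -- 24=(1,1)
        rcases d34 with ⟨rfl, rfl⟩ | ⟨rfl, rfl⟩ | ⟨rfl, rfl⟩ | ⟨rfl, rfl⟩ | ⟨rfl, rfl⟩ | ⟨rfl, rfl⟩
        · -- 34=(0,0)
          refine ⟨(⟨![3, 1, 2, 4, 0], ![4, 1, 2, 0, 3], by decide, by decide⟩ : Equiv.Perm (Fin 5)), T.m 0, T.w 3, Or.inr (Or.inr (Or.inr (Or.inl ?_)))⟩
          show T.m 3 = 2 * T.m 0 ∧ T.m 1 = 2 * T.m 0 ∧ T.m 2 = 2 * T.m 0 ∧ T.m 4 = 2 * T.m 0 ∧ T.m 0 = T.m 0 ∧ T.w 3 = T.w 3 ∧ T.w 1 = 2 * T.w 3 ∧ T.w 2 = 2 * T.w 3 ∧ T.w 4 = 2 * T.w 3 ∧ T.w 0 = 4 * T.w 3 ∧ T.a 3 3 = -2 * T.w 3 ∧ T.a 3 1 = 2 * T.w 3 ∧ T.a 3 2 = 0 ∧ T.a 3 4 = 0 ∧ T.a 3 0 = 0 ∧ T.a 1 1 = -4 * T.w 3 ∧ T.a 1 2 = 2 * T.w 3 ∧ T.a 1 4 = 0 ∧ T.a 1 0 = 0 ∧ T.a 2 2 = -4 * T.w 3 ∧ T.a 2 4 = 2 * T.w 3 ∧ T.a 2 0 = 0 ∧ T.a 4 4 = -4 * T.w 3 ∧ T.a 4 0 = 4 * T.w 3 ∧ T.a 0 0 = -8 * T.w 3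
          refine ⟨?_, ?_, ?_, ?_, ?_, ?_, ?_, ?_, ?_, ?_, ?_, ?_, ?_, ?_, ?_, ?_, ?_, ?_, ?_, ?_, ?_, ?_, ?_, ?_, ?_⟩ <;> omega
        · -- 34=(1,1)
          exact False.elim (cert_false T ((skipEmb 2).trans (Function.Embedding.refl _)) (by norm_num) (fun _ => hall _) (((((((LB_zero T ((skipEmb 2).trans (Function.Embedding.refl _))).upd 0 3 1 (le_of_eq hx04)).upd 1 2 1 (le_of_eq hx13)).upd 2 1 2 (le_of_eq hx31)).upd 2 3 1 (le_of_eq hx34)).upd 3 0 2 (le_of_eq hx40)).upd 3 2 1 (le_of_eq hx43)) ![1,1,2,2] (by decide) (by decide) 0 (by decide))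
        · -- 34=(1,2)
          exact False.elim (cert_false T ((skipEmb 2).trans (Function.Embedding.refl _)) (by norm_num) (fun _ => hall _) (((((LB_zero T ((skipEmb 2).trans (Function.Embedding.refl _))).upd 1 2 1 (le_of_eq hx13)).upd 2 1 2 (le_of_eq hx31)).upd 2 3 1 (le_of_eq hx34)).upd 3 2 2 (le_of_eq hx43)) ![0,1,2,2] (by decide) (by decide) 1 (by decide))
        · -- 34=(2,1)
          exact False.elim (cert_false T ((skipEmb 2).trans (Function.Embedding.refl _)) (by norm_num) (fun _ => hall _) (((((LB_zero T ((skipEmb 2).trans (Function.Embedding.refl _))).upd 0 3 1 (le_of_eq hx04)).upd 2 3 2 (le_of_eq hx34)).upd 3 0 2 (le_of_eq hx40)).upd 3 2 1 (le_of_eq hx43)) ![1,0,2,2] (by decide) (by decide) 0 (by decide))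
        · -- 34=(1,3)
          exact False.elim (cert_false T ((skipEmb 2).trans (Function.Embedding.refl _)) (by norm_num) (fun _ => hall _) (((((LB_zero T ((skipEmb 2).trans (Function.Embedding.refl _))).upd 1 2 1 (le_of_eq hx13)).upd 2 1 2 (le_of_eq hx31)).upd 2 3 1 (le_of_eq hx34)).upd 3 2 3 (le_of_eq hx43)) ![0,1,2,2] (by decide) (by decide) 1 (by decide))
        · -- 34=(3,1)
          exact False.elim (cert_false T ((skipEmb 2).trans (Function.Embedding.refl _)) (by norm_num) (fun _ => hall _) (((((LB_zero T ((skipEmb 2).trans (Function.Embedding.refl _))).upd 0 3 1 (le_of_eq hx04)).upd 2 3 3 (le_of_eq hx34)).upd 3 0 2 (le_of_eq hx40)).upd 3 2 1 (le_of_eq hx43)) ![1,0,2,2] (by decide) (by decide) 0 (by decide))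
      · -- 24=(1,2)
        exact False.elim (cert_false T ((skipEmb 3).trans (Function.Embedding.refl _)) (by norm_num) (fun _ => hall _) (((((LB_zero T ((skipEmb 3).trans (Function.Embedding.refl _))).upd 0 3 1 (le_of_eq hx04)).upd 2 3 1 (le_of_eq hx24)).upd 3 0 2 (le_of_eq hx40)).upd 3 2 2 (le_of_eq hx42)) ![1,0,1,2] (by decide) (by decide) 0 (by decide))
      · -- 24=(2,1)
        exact False.elim (cert_false T ((skipEmb 3).trans (Function.Embedding.refl _)) (by norm_num) (fun _ => hall _) (((((LB_zero T ((skipEmb 3).trans (Function.Embedding.refl _))).upd 0 3 1 (le_of_eq hx04)).upd 2 3 2 (le_of_eq hx24)).upd 3 0 2 (le_of_eq hx40)).upd 3 2 1 (le_of_eq hx42)) ![1,0,2,2] (by decide) (by decide) 0 (by decide))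
      · -- 24=(1,3)
        exact False.elim (cert_false T ((skipEmb 3).trans (Function.Embedding.refl _)) (by norm_num) (fun _ => hall _) (((((LB_zero T ((skipEmb 3).trans (Function.Embedding.refl _))).upd 0 3 1 (le_of_eq hx04)).upd 2 3 1 (le_of_eq hx24)).upd 3 0 2 (le_of_eq hx40)).upd 3 2 3 (le_of_eq hx42)) ![1,0,1,2] (by decide) (by decide) 0 (by decide))
      · -- 24=(3,1)
        exact False.elim (cert_false T ((skipEmb 3).trans (Function.Embedding.refl _)) (by norm_num) (fun _ => hall _) (((((LB_zero T ((skipEmb 3).trans (Function.Embedding.refl _))).upd 0 3 1 (le_of_eq hx04)).upd 2 3 3 (le_of_eq hx24)).upd 3 0 2 (le_of_eq hx40)).upd 3 2 1 (le_of_eq hx42)) ![1,0,2,2] (by decide) (by decide) 0 (by decide))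
    · -- 14=(1,1)
      exact False.elim (cert_false T ((skipEmb 2).trans (Function.Embedding.refl _)) (by norm_num) (fun _ => hall _) (((((((LB_zero T ((skipEmb 2).trans (Function.Embedding.refl _))).upd 0 3 1 (le_of_eq hx04)).upd 1 2 1 (le_of_eq hx13)).upd 1 3 1 (le_of_eq hx14)).upd 2 1 2 (le_of_eq hx31)).upd 3 0 2 (le_of_eq hx40)).upd 3 1 1 (le_of_eq hx41)) ![1,2,2,2] (by decide) (by decide) 0 (by decide))
    · -- 14=(1,2)
      exact False.elim (cert_false T ((skipEmb 3).trans (Function.Embedding.refl _)) (by norm_num) (fun _ => hall _) (((((LB_zero T ((skipEmb 3).trans (Function.Embedding.refl _))).upd 0 3 1 (le_of_eq hx04)).upd 1 3 1 (le_of_eq hx14)).upd 3 0 2 (le_of_eq hx40)).upd 3 1 2 (le_of_eq hx41)) ![1,1,0,2] (by decide) (by decide) 0 (by decide))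
    · -- 14=(2,1)
      exact False.elim (cert_false T ((skipEmb 3).trans (Function.Embedding.refl _)) (by norm_num) (fun _ => hall _) (((((LB_zero T ((skipEmb 3).trans (Function.Embedding.refl _))).upd 0 3 1 (le_of_eq hx04)).upd 1 3 2 (le_of_eq hx14)).upd 3 0 2 (le_of_eq hx40)).upd 3 1 1 (le_of_eq hx41)) ![1,2,0,2] (by decide) (by decide) 0 (by decide))
    · -- 14=(1,3)
      exact False.elim (cert_false T ((skipEmb 3).trans (Function.Embedding.refl _)) (by norm_num) (fun _ => hall _) (((((LB_zero T ((skipEmb 3).trans (Function.Embedding.refl _))).upd 0 3 1 (le_of_eq hx04)).upd 1 3 1 (le_of_eq hx14)).upd 3 0 2 (le_of_eq hx40)).upd 3 1 3 (le_of_eq hx41)) ![1,1,0,2] (by decide) (by decide) 0 (by decide))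
    · -- 14=(3,1)
      exact False.elim (cert_false T ((skipEmb 3).trans (Function.Embedding.refl _)) (by norm_num) (fun _ => hall _) (((((LB_zero T ((skipEmb 3).trans (Function.Embedding.refl _))).upd 0 3 1 (le_of_eq hx04)).upd 1 3 3 (le_of_eq hx14)).upd 3 0 2 (le_of_eq hx40)).upd 3 1 1 (le_of_eq hx41)) ![1,2,0,2] (by decide) (by decide) 0 (by decide))
  · -- 04=(2,1)
    rcases d14 with ⟨rfl, rfl⟩ | ⟨rfl, rfl⟩ | ⟨rfl, rfl⟩ | ⟨rfl, rfl⟩ | ⟨rfl, rfl⟩ | ⟨rfl, rfl⟩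
    · -- 14=(0,0)
      rcases d24 with ⟨rfl, rfl⟩ | ⟨rfl, rfl⟩ | ⟨rfl, rfl⟩ | ⟨rfl, rfl⟩ | ⟨rfl, rfl⟩ | ⟨rfl, rfl⟩
      · -- 24=(0,0)
        rcases d34 with ⟨rfl, rfl⟩ | ⟨rfl, rfl⟩ | ⟨rfl, rfl⟩ | ⟨rfl, rfl⟩ | ⟨rfl, rfl⟩ | ⟨rfl, rfl⟩
        · -- 34=(0,0)
          exfalso; omega
        · -- 34=(1,1)
          exact False.elim (cert_false T ((skipEmb 2).trans (Function.Embedding.refl _)) (by norm_num) (fun _ => hall _) (((((((LB_zero T ((skipEmb 2).trans (Function.Embedding.refl _))).upd 0 3 2 (le_of_eq hx04)).upd 1 2 1 (le_of_eq hx13)).upd 2 1 2 (le_of_eq hx31)).upd 2 3 1 (le_of_eq hx34)).upd 3 0 1 (le_of_eq hx40)).upd 3 2 1 (le_of_eq hx43)) ![2,1,2,2] (by decide) (by decide) 0 (by decide))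
        · -- 34=(1,2)
          exact False.elim (cert_false T ((skipEmb 2).trans (Function.Embedding.refl _)) (by norm_num) (fun _ => hall _) (((((LB_zero T ((skipEmb 2).trans (Function.Embedding.refl _))).upd 0 3 2 (le_of_eq hx04)).upd 2 3 1 (le_of_eq hx34)).upd 3 0 1 (le_of_eq hx40)).upd 3 2 2 (le_of_eq hx43)) ![2,0,1,2] (by decide) (by decide) 0 (by decide))
        · -- 34=(2,1)
          exact False.elim (cert_false T ((skipEmb 2).trans (Function.Embedding.refl _)) (by norm_num) (fun _ => hall _) (((((LB_zero T ((skipEmb 2).trans (Function.Embedding.refl _))).upd 0 3 2 (le_of_eq hx04)).upd 2 3 2 (le_of_eq hx34)).upd 3 0 1 (le_of_eq hx40)).upd 3 2 1 (le_of_eq hx43)) ![1,0,1,1] (by decide) (by decide) 0 (by decide))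
        · -- 34=(1,3)
          exact False.elim (cert_false T ((skipEmb 2).trans (Function.Embedding.refl _)) (by norm_num) (fun _ => hall _) (((((LB_zero T ((skipEmb 2).trans (Function.Embedding.refl _))).upd 1 2 1 (le_of_eq hx13)).upd 2 1 2 (le_of_eq hx31)).upd 2 3 1 (le_of_eq hx34)).upd 3 2 3 (le_of_eq hx43)) ![0,1,2,2] (by decide) (by decide) 1 (by decide))
        · -- 34=(3,1)
          exact False.elim (cert_false T ((skipEmb 2).trans (Function.Embedding.refl _)) (by norm_num) (fun _ => hall _) (((((LB_zero T ((skipEmb 2).trans (Function.Embedding.refl _))).upd 0 3 2 (le_of_eq hx04)).upd 2 3 3 (le_of_eq hx34)).upd 3 0 1 (le_of_eq hx40)).upd 3 2 1 (le_of_eq hx43)) ![1,0,1,1] (by decide) (by decide) 0 (by decide))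
      · -- 24=(1,1)
        rcases d34 with ⟨rfl, rfl⟩ | ⟨rfl, rfl⟩ | ⟨rfl, rfl⟩ | ⟨rfl, rfl⟩ | ⟨rfl, rfl⟩ | ⟨rfl, rfl⟩
        · -- 34=(0,0)
          refine ⟨(⟨![0, 4, 2, 1, 3], ![0, 3, 2, 4, 1], by decide, by decide⟩ : Equiv.Perm (Fin 5)), T.m 0, T.w 0, Or.inr (Or.inr (Or.inr (Or.inr (Or.inl ?_))))⟩
          show T.m 0 = T.m 0 ∧ T.m 4 = T.m 0 ∧ T.m 2 = T.m 0 ∧ T.m 1 = T.m 0 ∧ T.m 3 = T.m 0 ∧ T.w 0 = T.w 0 ∧ T.w 4 = 2 * T.w 0 ∧ T.w 2 = 2 * T.w 0 ∧ T.w 1 = 2 * T.w 0 ∧ T.w 3 = T.w 0 ∧ T.a 0 0 = -2 * T.w 0 ∧ T.a 0 4 = 2 * T.w 0 ∧ T.a 0 2 = 0 ∧ T.a 0 1 = 0 ∧ T.a 0 3 = 0 ∧ T.a 4 4 = -4 * T.w 0 ∧ T.a 4 2 = 2 * T.w 0 ∧ T.a 4 1 = 0 ∧ T.a 4 3 = 0 ∧ T.a 2 2 = -4 * T.w 0 ∧ T.a 2 1 = 2 * T.w 0 ∧ T.a 2 3 = 0 ∧ T.a 1 1 = -4 * T.w 0 ∧ T.a 1 3 = 2 * T.w 0 ∧ T.a 3 3 = -2 * T.w 0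
          refine ⟨?_, ?_, ?_, ?_, ?_, ?_, ?_, ?_, ?_, ?_, ?_, ?_, ?_, ?_, ?_, ?_, ?_, ?_, ?_, ?_, ?_, ?_, ?_, ?_, ?_⟩ <;> omega
        · -- 34=(1,1)
          exact False.elim (cert_false T ((skipEmb 2).trans (Function.Embedding.refl _)) (by norm_num) (fun _ => hall _) (((((((LB_zero T ((skipEmb 2).trans (Function.Embedding.refl _))).upd 0 3 2 (le_of_eq hx04)).upd 1 2 1 (le_of_eq hx13)).upd 2 1 2 (le_of_eq hx31)).upd 2 3 1 (le_of_eq hx34)).upd 3 0 1 (le_of_eq hx40)).upd 3 2 1 (le_of_eq hx43)) ![2,1,2,2] (by decide) (by decide) 0 (by decide))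
        · -- 34=(1,2)
          exact False.elim (cert_false T ((skipEmb 2).trans (Function.Embedding.refl _)) (by norm_num) (fun _ => hall _) (((((LB_zero T ((skipEmb 2).trans (Function.Embedding.refl _))).upd 0 3 2 (le_of_eq hx04)).upd 2 3 1 (le_of_eq hx34)).upd 3 0 1 (le_of_eq hx40)).upd 3 2 2 (le_of_eq hx43)) ![2,0,1,2] (by decide) (by decide) 0 (by decide))
        · -- 34=(2,1)
          exact False.elim (cert_false T ((skipEmb 2).trans (Function.Embedding.refl _)) (by norm_num) (fun _ => hall _) (((((LB_zero T ((skipEmb 2).trans (Function.Embedding.refl _))).upd 0 3 2 (le_of_eq hx04)).upd 2 3 2 (le_of_eq hx34)).upd 3 0 1 (le_of_eq hx40)).upd 3 2 1 (le_of_eq hx43)) ![1,0,1,1] (by decide) (by decide) 0 (by decide))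
        · -- 34=(1,3)
          exact False.elim (cert_false T ((skipEmb 2).trans (Function.Embedding.refl _)) (by norm_num) (fun _ => hall _) (((((LB_zero T ((skipEmb 2).trans (Function.Embedding.refl _))).upd 1 2 1 (le_of_eq hx13)).upd 2 1 2 (le_of_eq hx31)).upd 2 3 1 (le_of_eq hx34)).upd 3 2 3 (le_of_eq hx43)) ![0,1,2,2] (by decide) (by decide) 1 (by decide))
        · -- 34=(3,1)
          exact False.elim (cert_false T ((skipEmb 2).trans (Function.Embedding.refl _)) (by norm_num) (fun _ => hall _) (((((LB_zero T ((skipEmb 2).trans (Function.Embedding.refl _))).upd 0 3 2 (le_of_eq hx04)).upd 2 3 3 (le_of_eq hx34)).upd 3 0 1 (le_of_eq hx40)).upd 3 2 1 (le_of_eq hx43)) ![1,0,1,1] (by decide) (by decide) 0 (by decide))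
      · -- 24=(1,2)
        exact False.elim (cert_false T ((skipEmb 3).trans (Function.Embedding.refl _)) (by norm_num) (fun _ => hall _) (((((LB_zero T ((skipEmb 3).trans (Function.Embedding.refl _))).upd 0 3 2 (le_of_eq hx04)).upd 2 3 1 (le_of_eq hx24)).upd 3 0 1 (le_of_eq hx40)).upd 3 2 2 (le_of_eq hx42)) ![2,0,1,2] (by decide) (by decide) 0 (by decide))
      · -- 24=(2,1)
        exact False.elim (cert_false T ((skipEmb 3).trans (Function.Embedding.refl _)) (by norm_num) (fun _ => hall _) (((((LB_zero T ((skipEmb 3).trans (Function.Embedding.refl _))).upd 0 3 2 (le_of_eq hx04)).upd 2 3 2 (le_of_eq hx24)).upd 3 0 1 (le_of_eq hx40)).upd 3 2 1 (le_of_eq hx42)) ![1,0,1,1] (by decide) (by decide) 0 (by decide))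
      · -- 24=(1,3)
        exact False.elim (cert_false T ((skipEmb 3).trans (Function.Embedding.refl _)) (by norm_num) (fun _ => hall _) (((((LB_zero T ((skipEmb 3).trans (Function.Embedding.refl _))).upd 0 3 2 (le_of_eq hx04)).upd 2 3 1 (le_of_eq hx24)).upd 3 0 1 (le_of_eq hx40)).upd 3 2 3 (le_of_eq hx42)) ![1,0,1,2] (by decide) (by decide) 0 (by decide))
      · -- 24=(3,1)
        exact False.elim (cert_false T ((skipEmb 3).trans (Function.Embedding.refl _)) (by norm_num) (fun _ => hall _) (((((LB_zero T ((skipEmb 3).trans (Function.Embedding.refl _))).upd 0 3 2 (le_of_eq hx04)).upd 2 3 3 (le_of_eq hx24)).upd 3 0 1 (le_of_eq hx40)).upd 3 2 1 (le_of_eq hx42)) ![1,0,1,1] (by decide) (by decide) 0 (by decide))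
    · -- 14=(1,1)
      exact False.elim (cert_false T ((skipEmb 2).trans (Function.Embedding.refl _)) (by norm_num) (fun _ => hall _) (((((((LB_zero T ((skipEmb 2).trans (Function.Embedding.refl _))).upd 0 3 2 (le_of_eq hx04)).upd 1 2 1 (le_of_eq hx13)).upd 1 3 1 (le_of_eq hx14)).upd 2 1 2 (le_of_eq hx31)).upd 3 0 1 (le_of_eq hx40)).upd 3 1 1 (le_of_eq hx41)) ![1,1,1,1] (by decide) (by decide) 0 (by decide))
    · -- 14=(1,2)
      exact False.elim (cert_false T ((skipEmb 3).trans (Function.Embedding.refl _)) (by norm_num) (fun _ => hall _) (((((LB_zero T ((skipEmb 3).trans (Function.Embedding.refl _))).upd 0 3 2 (le_of_eq hx04)).upd 1 3 1 (le_of_eq hx14)).upd 3 0 1 (le_of_eq hx40)).upd 3 1 2 (le_of_eq hx41)) ![2,1,0,2] (by decide) (by decide) 0 (by decide))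
    · -- 14=(2,1)
      exact False.elim (cert_false T ((skipEmb 3).trans (Function.Embedding.refl _)) (by norm_num) (fun _ => hall _) (((((LB_zero T ((skipEmb 3).trans (Function.Embedding.refl _))).upd 0 3 2 (le_of_eq hx04)).upd 1 3 2 (le_of_eq hx14)).upd 3 0 1 (le_of_eq hx40)).upd 3 1 1 (le_of_eq hx41)) ![1,1,0,1] (by decide) (by decide) 0 (by decide))
    · -- 14=(1,3)
      exact False.elim (cert_false T ((skipEmb 3).trans (Function.Embedding.refl _)) (by norm_num) (fun _ => hall _) (((((LB_zero T ((skipEmb 3).trans (Function.Embedding.refl _))).upd 0 3 2 (le_of_eq hx04)).upd 1 3 1 (le_of_eq hx14)).upd 3 0 1 (le_of_eq hx40)).upd 3 1 3 (le_of_eq hx41)) ![1,1,0,2] (by decide) (by decide) 0 (by decide))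
    · -- 14=(3,1)
      exact False.elim (cert_false T ((skipEmb 3).trans (Function.Embedding.refl _)) (by norm_num) (fun _ => hall _) (((((LB_zero T ((skipEmb 3).trans (Function.Embedding.refl _))).upd 0 3 2 (le_of_eq hx04)).upd 1 3 3 (le_of_eq hx14)).upd 3 0 1 (le_of_eq hx40)).upd 3 1 1 (le_of_eq hx41)) ![1,1,0,1] (by decide) (by decide) 0 (by decide))
  · -- 04=(1,3)
    rcases d14 with ⟨rfl, rfl⟩ | ⟨rfl, rfl⟩ | ⟨rfl, rfl⟩ | ⟨rfl, rfl⟩ | ⟨rfl, rfl⟩ | ⟨rfl, rfl⟩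
    · -- 14=(0,0)
      rcases d24 with ⟨rfl, rfl⟩ | ⟨rfl, rfl⟩ | ⟨rfl, rfl⟩ | ⟨rfl, rfl⟩ | ⟨rfl, rfl⟩ | ⟨rfl, rfl⟩
      · -- 24=(0,0)
        rcases d34 with ⟨rfl, rfl⟩ | ⟨rfl, rfl⟩ | ⟨rfl, rfl⟩ | ⟨rfl, rfl⟩ | ⟨rfl, rfl⟩ | ⟨rfl, rfl⟩
        · -- 34=(0,0)
          exfalso; omega
        · -- 34=(1,1)
          exact False.elim (cert_false T ((skipEmb 2).trans (Function.Embedding.refl _)) (by norm_num) (fun _ => hall _) (((((LB_zero T ((skipEmb 2).trans (Function.Embedding.refl _))).upd 0 3 1 (le_of_eq hx04)).upd 2 3 1 (le_of_eq hx34)).upd 3 0 3 (le_of_eq hx40)).upd 3 2 1 (le_of_eq hx43)) ![1,0,1,2] (by decide) (by decide) 0 (by decide))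
        · -- 34=(1,2)
          exact False.elim (cert_false T ((skipEmb 2).trans (Function.Embedding.refl _)) (by norm_num) (fun _ => hall _) (((((LB_zero T ((skipEmb 2).trans (Function.Embedding.refl _))).upd 1 2 1 (le_of_eq hx13)).upd 2 1 2 (le_of_eq hx31)).upd 2 3 1 (le_of_eq hx34)).upd 3 2 2 (le_of_eq hx43)) ![0,1,2,2] (by decide) (by decide) 1 (by decide))
        · -- 34=(2,1)
          exact False.elim (cert_false T ((skipEmb 2).trans (Function.Embedding.refl _)) (by norm_num) (fun _ => hall _) (((((LB_zero T ((skipEmb 2).trans (Function.Embedding.refl _))).upd 0 3 1 (le_of_eq hx04)).upd 2 3 2 (le_of_eq hx34)).upd 3 0 3 (le_of_eq hx40)).upd 3 2 1 (le_of_eq hx43)) ![1,0,1,2] (by decide) (by decide) 0 (by decide))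
        · -- 34=(1,3)
          exact False.elim (cert_false T ((skipEmb 2).trans (Function.Embedding.refl _)) (by norm_num) (fun _ => hall _) (((((LB_zero T ((skipEmb 2).trans (Function.Embedding.refl _))).upd 1 2 1 (le_of_eq hx13)).upd 2 1 2 (le_of_eq hx31)).upd 2 3 1 (le_of_eq hx34)).upd 3 2 3 (le_of_eq hx43)) ![0,1,2,2] (by decide) (by decide) 1 (by decide))
        · -- 34=(3,1)
          exact False.elim (cert_false T ((skipEmb 2).trans (Function.Embedding.refl _)) (by norm_num) (fun _ => hall _) (((((LB_zero T ((skipEmb 2).trans (Function.Embedding.refl _))).upd 0 3 1 (le_of_eq hx04)).upd 2 3 3 (le_of_eq hx34)).upd 3 0 3 (le_of_eq hx40)).upd 3 2 1 (le_of_eq hx43)) ![1,0,1,2] (by decide) (by decide) 0 (by decide))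
      · -- 24=(1,1)
        exact False.elim (cert_false T ((skipEmb 3).trans (Function.Embedding.refl _)) (by norm_num) (fun _ => hall _) (((((LB_zero T ((skipEmb 3).trans (Function.Embedding.refl _))).upd 0 3 1 (le_of_eq hx04)).upd 2 3 1 (le_of_eq hx24)).upd 3 0 3 (le_of_eq hx40)).upd 3 2 1 (le_of_eq hx42)) ![1,0,1,2] (by decide) (by decide) 0 (by decide))
      · -- 24=(1,2)
        exact False.elim (cert_false T ((skipEmb 3).trans (Function.Embedding.refl _)) (by norm_num) (fun _ => hall _) (((((LB_zero T ((skipEmb 3).trans (Function.Embedding.refl _))).upd 0 3 1 (le_of_eq hx04)).upd 2 3 1 (le_of_eq hx24)).upd 3 0 3 (le_of_eq hx40)).upd 3 2 2 (le_of_eq hx42)) ![1,0,1,2] (by decide) (by decide) 0 (by decide))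
      · -- 24=(2,1)
        exact False.elim (cert_false T ((skipEmb 3).trans (Function.Embedding.refl _)) (by norm_num) (fun _ => hall _) (((((LB_zero T ((skipEmb 3).trans (Function.Embedding.refl _))).upd 0 3 1 (le_of_eq hx04)).upd 2 3 2 (le_of_eq hx24)).upd 3 0 3 (le_of_eq hx40)).upd 3 2 1 (le_of_eq hx42)) ![1,0,1,2] (by decide) (by decide) 0 (by decide))
      · -- 24=(1,3)
        exact False.elim (cert_false T ((skipEmb 3).trans (Function.Embedding.refl _)) (by norm_num) (fun _ => hall _) (((((LB_zero T ((skipEmb 3).trans (Function.Embedding.refl _))).upd 0 3 1 (le_of_eq hx04)).upd 2 3 1 (le_of_eq hx24)).upd 3 0 3 (le_of_eq hx40)).upd 3 2 3 (le_of_eq hx42)) ![1,0,1,2] (by decide) (by decide) 0 (by decide))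
      · -- 24=(3,1)
        exact False.elim (cert_false T ((skipEmb 3).trans (Function.Embedding.refl _)) (by norm_num) (fun _ => hall _) (((((LB_zero T ((skipEmb 3).trans (Function.Embedding.refl _))).upd 0 3 1 (le_of_eq hx04)).upd 2 3 3 (le_of_eq hx24)).upd 3 0 3 (le_of_eq hx40)).upd 3 2 1 (le_of_eq hx42)) ![1,0,1,2] (by decide) (by decide) 0 (by decide))
    · -- 14=(1,1)
      exact False.elim (cert_false T ((skipEmb 3).trans (Function.Embedding.refl _)) (by norm_num) (fun _ => hall _) (((((LB_zero T ((skipEmb 3).trans (Function.Embedding.refl _))).upd 0 3 1 (le_of_eq hx04)).upd 1 3 1 (le_of_eq hx14)).upd 3 0 3 (le_of_eq hx40)).upd 3 1 1 (le_of_eq hx41)) ![1,1,0,2] (by decide) (by decide) 0 (by decide))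
    · -- 14=(1,2)
      exact False.elim (cert_false T ((skipEmb 3).trans (Function.Embedding.refl _)) (by norm_num) (fun _ => hall _) (((((LB_zero T ((skipEmb 3).trans (Function.Embedding.refl _))).upd 0 3 1 (le_of_eq hx04)).upd 1 3 1 (le_of_eq hx14)).upd 3 0 3 (le_of_eq hx40)).upd 3 1 2 (le_of_eq hx41)) ![1,1,0,2] (by decide) (by decide) 0 (by decide))
    · -- 14=(2,1)
      exact False.elim (cert_false T ((skipEmb 3).trans (Function.Embedding.refl _)) (by norm_num) (fun _ => hall _) (((((LB_zero T ((skipEmb 3).trans (Function.Embedding.refl _))).upd 0 3 1 (le_of_eq hx04)).upd 1 3 2 (le_of_eq hx14)).upd 3 0 3 (le_of_eq hx40)).upd 3 1 1 (le_of_eq hx41)) ![1,1,0,2] (by decide) (by decide) 0 (by decide))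
    · -- 14=(1,3)
      exact False.elim (cert_false T ((skipEmb 3).trans (Function.Embedding.refl _)) (by norm_num) (fun _ => hall _) (((((LB_zero T ((skipEmb 3).trans (Function.Embedding.refl _))).upd 0 3 1 (le_of_eq hx04)).upd 1 3 1 (le_of_eq hx14)).upd 3 0 3 (le_of_eq hx40)).upd 3 1 3 (le_of_eq hx41)) ![1,1,0,2] (by decide) (by decide) 0 (by decide))
    · -- 14=(3,1)
      exact False.elim (cert_false T ((skipEmb 3).trans (Function.Embedding.refl _)) (by norm_num) (fun _ => hall _) (((((LB_zero T ((skipEmb 3).trans (Function.Embedding.refl _))).upd 0 3 1 (le_of_eq hx04)).upd 1 3 3 (le_of_eq hx14)).upd 3 0 3 (le_of_eq hx40)).upd 3 1 1 (le_of_eq hx41)) ![1,1,0,2] (by decide) (by decide) 0 (by decide))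
  · -- 04=(3,1)
    rcases d14 with ⟨rfl, rfl⟩ | ⟨rfl, rfl⟩ | ⟨rfl, rfl⟩ | ⟨rfl, rfl⟩ | ⟨rfl, rfl⟩ | ⟨rfl, rfl⟩
    · -- 14=(0,0)
      rcases d24 with ⟨rfl, rfl⟩ | ⟨rfl, rfl⟩ | ⟨rfl, rfl⟩ | ⟨rfl, rfl⟩ | ⟨rfl, rfl⟩ | ⟨rfl, rfl⟩
      · -- 24=(0,0)
        rcases d34 with ⟨rfl, rfl⟩ | ⟨rfl, rfl⟩ | ⟨rfl, rfl⟩ | ⟨rfl, rfl⟩ | ⟨rfl, rfl⟩ | ⟨rfl, rfl⟩
        · -- 34=(0,0)
          exfalso; omega
        · -- 34=(1,1)
          exact False.elim (cert_false T ((skipEmb 2).trans (Function.Embedding.refl _)) (by norm_num) (fun _ => hall _) (((((((LB_zero T ((skipEmb 2).trans (Function.Embedding.refl _))).upd 0 3 3 (le_of_eq hx04)).upd 1 2 1 (le_of_eq hx13)).upd 2 1 2 (le_of_eq hx31)).upd 2 3 1 (le_of_eq hx34)).upd 3 0 1 (le_of_eq hx40)).upd 3 2 1 (le_of_eq hx43)) ![2,1,2,2] (by decide) (by decide) 0 (by decide))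
        · -- 34=(1,2)
          exact False.elim (cert_false T ((skipEmb 2).trans (Function.Embedding.refl _)) (by norm_num) (fun _ => hall _) (((((LB_zero T ((skipEmb 2).trans (Function.Embedding.refl _))).upd 1 2 1 (le_of_eq hx13)).upd 2 1 2 (le_of_eq hx31)).upd 2 3 1 (le_of_eq hx34)).upd 3 2 2 (le_of_eq hx43)) ![0,1,2,2] (by decide) (by decide) 1 (by decide))
        · -- 34=(2,1)
          exact False.elim (cert_false T ((skipEmb 2).trans (Function.Embedding.refl _)) (by norm_num) (fun _ => hall _) (((((LB_zero T ((skipEmb 2).trans (Function.Embedding.refl _))).upd 0 3 3 (le_of_eq hx04)).upd 2 3 2 (le_of_eq hx34)).upd 3 0 1 (le_of_eq hx40)).upd 3 2 1 (le_of_eq hx43)) ![1,0,1,1] (by decide) (by decide) 0 (by decide))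
        · -- 34=(1,3)
          exact False.elim (cert_false T ((skipEmb 2).trans (Function.Embedding.refl _)) (by norm_num) (fun _ => hall _) (((((LB_zero T ((skipEmb 2).trans (Function.Embedding.refl _))).upd 1 2 1 (le_of_eq hx13)).upd 2 1 2 (le_of_eq hx31)).upd 2 3 1 (le_of_eq hx34)).upd 3 2 3 (le_of_eq hx43)) ![0,1,2,2] (by decide) (by decide) 1 (by decide))
        · -- 34=(3,1)
          exact False.elim (cert_false T ((skipEmb 2).trans (Function.Embedding.refl _)) (by norm_num) (fun _ => hall _) (((((LB_zero T ((skipEmb 2).trans (Function.Embedding.refl _))).upd 0 3 3 (le_of_eq hx04)).upd 2 3 3 (le_of_eq hx34)).upd 3 0 1 (le_of_eq hx40)).upd 3 2 1 (le_of_eq hx43)) ![1,0,1,1] (by decide) (by decide) 0 (by decide))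
      · -- 24=(1,1)
        exact False.elim (cert_false T ((skipEmb 3).trans (Function.Embedding.refl _)) (by norm_num) (fun _ => hall _) (((((LB_zero T ((skipEmb 3).trans (Function.Embedding.refl _))).upd 0 3 3 (le_of_eq hx04)).upd 2 3 1 (le_of_eq hx24)).upd 3 0 1 (le_of_eq hx40)).upd 3 2 1 (le_of_eq hx42)) ![3,0,1,2] (by decide) (by decide) 0 (by decide))
      · -- 24=(1,2)
        exact False.elim (cert_false T ((skipEmb 3).trans (Function.Embedding.refl _)) (by norm_num) (fun _ => hall _) (((((LB_zero T ((skipEmb 3).trans (Function.Embedding.refl _))).upd 0 3 3 (le_of_eq hx04)).upd 2 3 1 (le_of_eq hx24)).upd 3 0 1 (le_of_eq hx40)).upd 3 2 2 (le_of_eq hx42)) ![2,0,1,2] (by decide) (by decide) 0 (by decide))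
      · -- 24=(2,1)
        exact False.elim (cert_false T ((skipEmb 3).trans (Function.Embedding.refl _)) (by norm_num) (fun _ => hall _) (((((LB_zero T ((skipEmb 3).trans (Function.Embedding.refl _))).upd 0 3 3 (le_of_eq hx04)).upd 2 3 2 (le_of_eq hx24)).upd 3 0 1 (le_of_eq hx40)).upd 3 2 1 (le_of_eq hx42)) ![1,0,1,1] (by decide) (by decide) 0 (by decide))
      · -- 24=(1,3)
        exact False.elim (cert_false T ((skipEmb 3).trans (Function.Embedding.refl _)) (by norm_num) (fun _ => hall _) (((((LB_zero T ((skipEmb 3).trans (Function.Embedding.refl _))).upd 0 3 3 (le_of_eq hx04)).upd 2 3 1 (le_of_eq hx24)).upd 3 0 1 (le_of_eq hx40)).upd 3 2 3 (le_of_eq hx42)) ![1,0,1,2] (by decide) (by decide) 0 (by decide))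
      · -- 24=(3,1)
        exact False.elim (cert_false T ((skipEmb 3).trans (Function.Embedding.refl _)) (by norm_num) (fun _ => hall _) (((((LB_zero T ((skipEmb 3).trans (Function.Embedding.refl _))).upd 0 3 3 (le_of_eq hx04)).upd 2 3 3 (le_of_eq hx24)).upd 3 0 1 (le_of_eq hx40)).upd 3 2 1 (le_of_eq hx42)) ![1,0,1,1] (by decide) (by decide) 0 (by decide))
    · -- 14=(1,1)
      exact False.elim (cert_false T ((skipEmb 3).trans (Function.Embedding.refl _)) (by norm_num) (fun _ => hall _) (((((LB_zero T ((skipEmb 3).trans (Function.Embedding.refl _))).upd 0 3 3 (le_of_eq hx04)).upd 1 3 1 (le_of_eq hx14)).upd 3 0 1 (le_of_eq hx40)).upd 3 1 1 (le_of_eq hx41)) ![3,1,0,2] (by decide) (by decide) 0 (by decide))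
    · -- 14=(1,2)
      exact False.elim (cert_false T ((skipEmb 3).trans (Function.Embedding.refl _)) (by norm_num) (fun _ => hall _) (((((LB_zero T ((skipEmb 3).trans (Function.Embedding.refl _))).upd 0 3 3 (le_of_eq hx04)).upd 1 3 1 (le_of_eq hx14)).upd 3 0 1 (le_of_eq hx40)).upd 3 1 2 (le_of_eq hx41)) ![2,1,0,2] (by decide) (by decide) 0 (by decide))
    · -- 14=(2,1)
      exact False.elim (cert_false T ((skipEmb 3).trans (Function.Embedding.refl _)) (by norm_num) (fun _ => hall _) (((((LB_zero T ((skipEmb 3).trans (Function.Embedding.refl _))).upd 0 3 3 (le_of_eq hx04)).upd 1 3 2 (le_of_eq hx14)).upd 3 0 1 (le_of_eq hx40)).upd 3 1 1 (le_of_eq hx41)) ![1,1,0,1] (by decide) (by decide) 0 (by decide))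
    · -- 14=(1,3)
      exact False.elim (cert_false T ((skipEmb 3).trans (Function.Embedding.refl _)) (by norm_num) (fun _ => hall _) (((((LB_zero T ((skipEmb 3).trans (Function.Embedding.refl _))).upd 0 3 3 (le_of_eq hx04)).upd 1 3 1 (le_of_eq hx14)).upd 3 0 1 (le_of_eq hx40)).upd 3 1 3 (le_of_eq hx41)) ![1,1,0,2] (by decide) (by decide) 0 (by decide))
    · -- 14=(3,1)
      exact False.elim (cert_false T ((skipEmb 3).trans (Function.Embedding.refl _)) (by norm_num) (fun _ => hall _) (((((LB_zero T ((skipEmb 3).trans (Function.Embedding.refl _))).upd 0 3 3 (le_of_eq hx04)).upd 1 3 3 (le_of_eq hx14)).upd 3 0 1 (le_of_eq hx40)).upd 3 1 1 (le_of_eq hx41)) ![1,1,0,1] (by decide) (by decide) 0 (by decide))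

theorem case103 (T : NumericalType 5) (hall : ∀ i, T.IsMinusTwo i) (d : SData T)
    (h01 : N T (Function.Embedding.refl _) 0 1 = 0) (h10 : N T (Function.Embedding.refl _) 1 0 = 0)
    (h02 : N T (Function.Embedding.refl _) 0 2 = 0) (h20 : N T (Function.Embedding.refl _) 2 0 = 0)
    (h12 : N T (Function.Embedding.refl _) 1 2 = 1) (h21 : N T (Function.Embedding.refl _) 2 1 = 1)
    (h03 : N T (Function.Embedding.refl _) 0 3 = 0) (h30 : N T (Function.Embedding.refl _) 3 0 = 0)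
    (h13 : N T (Function.Embedding.refl _) 1 3 = 1) (h31 : N T (Function.Embedding.refl _) 3 1 = 2) :
    Goal T := by
  unfold Goal
  have hd := d
  obtain ⟨x01, x02, x03, x04, x10, x12, x13, x14, x20, x21, x23, x24, x30, x31, x32, x34, x40, x41, x42, x43, hx01, hx02, hx03, hx04, hx10, hx12, hx13, hx14, hx20, hx21, hx23, hx24, hx30, hx31, hx32, hx34, hx40, hx41, hx42, hx43, hw0, hm0, hw1, hm1, hw2, hm2, hw3, hm3, hw4, hm4, a00, a01, a02, a03, a04, a11, a10, a12, a13, a14, a22, a20, a21, a23, a24, a33, a30, a31, a32, a34, a44, a40, a41, a42, a43, wN01, wN02, wN12, wN03, wN13, wN23, wN04, wN14, wN24, wN34, e0, e1, e2, e3, e4, d01, d02, d12, d03, d13, d23, d04, d14, d24, d34⟩ := d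
  obtain rfl : x01 = 0 := hx01.trans h01
  obtain rfl : x10 = 0 := hx10.trans h10
  obtain rfl : x02 = 0 := hx02.trans h02
  obtain rfl : x20 = 0 := hx20.trans h20
  obtain rfl : x12 = 1 := hx12.trans h12
  obtain rfl : x21 = 1 := hx21.trans h21
  obtain rfl : x03 = 0 := hx03.trans h03
  obtain rfl : x30 = 0 := hx30.trans h30
  obtain rfl : x13 = 1 := hx13.trans h13
  obtain rfl : x31 = 2 := hx31.trans h31
  rcases d23 with ⟨rfl, rfl⟩ | ⟨rfl, rfl⟩ | ⟨rfl, rfl⟩ | ⟨rfl, rfl⟩ | ⟨rfl, rfl⟩ | ⟨rfl, rfl⟩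
  · -- 23=(0,0)
    exact case104 T hall hd hx01.symm hx10.symm hx02.symm hx20.symm hx12.symm hx21.symm hx03.symm hx30.symm hx13.symm hx31.symm hx23.symm hx32.symm
  · -- 23=(1,1)
    exact False.elim (cert_false T ((skipEmb 4).trans (Function.Embedding.refl _)) (by norm_num) (fun _ => hall _) (((((((LB_zero T ((skipEmb 4).trans (Function.Embedding.refl _))).upd 1 2 1 (le_of_eq hx12)).upd 1 3 1 (le_of_eq hx13)).upd 2 1 1 (le_of_eq hx21)).upd 2 3 1 (le_of_eq hx23)).upd 3 1 2 (le_of_eq hx31)).upd 3 2 1 (le_of_eq hx32)) ![0,1,1,1] (by decide) (by decide) 1 (by decide))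
  · -- 23=(1,2)
    exact False.elim (cert_false T ((skipEmb 4).trans (Function.Embedding.refl _)) (by norm_num) (fun _ => hall _) (((((((LB_zero T ((skipEmb 4).trans (Function.Embedding.refl _))).upd 1 2 1 (le_of_eq hx12)).upd 1 3 1 (le_of_eq hx13)).upd 2 1 1 (le_of_eq hx21)).upd 2 3 1 (le_of_eq hx23)).upd 3 1 2 (le_of_eq hx31)).upd 3 2 2 (le_of_eq hx32)) ![0,1,1,1] (by decide) (by decide) 1 (by decide))
  · -- 23=(2,1)
    exact False.elim (cert_false T ((skipEmb 4).trans (Function.Embedding.refl _)) (by norm_num) (fun _ => hall _) (((((((LB_zero T ((skipEmb 4).trans (Function.Embedding.refl _))).upd 1 2 1 (le_of_eq hx12)).upd 1 3 1 (le_of_eq hx13)).upd 2 1 1 (le_of_eq hx21)).upd 2 3 2 (le_of_eq hx23)).upd 3 1 2 (le_of_eq hx31)).upd 3 2 1 (le_of_eq hx32)) ![0,1,1,1] (by decide) (by decide) 1 (by decide))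
  · -- 23=(1,3)
    exact False.elim (cert_false T ((skipEmb 4).trans (Function.Embedding.refl _)) (by norm_num) (fun _ => hall _) (((((((LB_zero T ((skipEmb 4).trans (Function.Embedding.refl _))).upd 1 2 1 (le_of_eq hx12)).upd 1 3 1 (le_of_eq hx13)).upd 2 1 1 (le_of_eq hx21)).upd 2 3 1 (le_of_eq hx23)).upd 3 1 2 (le_of_eq hx31)).upd 3 2 3 (le_of_eq hx32)) ![0,1,1,1] (by decide) (by decide) 1 (by decide))
  · -- 23=(3,1)
    exact False.elim (cert_false T ((skipEmb 4).trans (Function.Embedding.refl _)) (by norm_num) (fun _ => hall _) (((((((LB_zero T ((skipEmb 4).trans (Function.Embedding.refl _))).upd 1 2 1 (le_of_eq hx12)).upd 1 3 1 (le_of_eq hx13)).upd 2 1 1 (le_of_eq hx21)).upd 2 3 3 (le_of_eq hx23)).upd 3 1 2 (le_of_eq hx31)).upd 3 2 1 (le_of_eq hx32)) ![0,1,1,1] (by decide) (by decide) 1 (by decide))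

theorem case243 (T : NumericalType 5) (hall : ∀ i, T.IsMinusTwo i) (d : SData T)
    (h01 : N T (Function.Embedding.refl _) 0 1 = 0) (h10 : N T (Function.Embedding.refl _) 1 0 = 0)
    (h02 : N T (Function.Embedding.refl _) 0 2 = 1) (h20 : N T (Function.Embedding.refl _) 2 0 = 1)
    (h12 : N T (Function.Embedding.refl _) 1 2 = 0) (h21 : N T (Function.Embedding.refl _) 2 1 = 0)
    (h03 : N T (Function.Embedding.refl _) 0 3 = 2) (h30 : N T (Function.Embedding.refl _) 3 0 = 1)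
    (h13 : N T (Function.Embedding.refl _) 1 3 = 0) (h31 : N T (Function.Embedding.refl _) 3 1 = 0)
    (h23 : N T (Function.Embedding.refl _) 2 3 = 0) (h32 : N T (Function.Embedding.refl _) 3 2 = 0)
    (h04 : N T (Function.Embedding.refl _) 0 4 = 0) (h40 : N T (Function.Embedding.refl _) 4 0 = 0) :
    Goal T := by
  unfold Goal
  have hd := d
  obtain ⟨x01, x02, x03, x04, x10, x12, x13, x14, x20, x21, x23, x24, x30, x31, x32, x34, x40, x41, x42, x43, hx01, hx02, hx03, hx04, hx10, hx12, hx13, hx14, hx20, hx21, hx23, hx24, hx30, hx31, hx32, hx34, hx40, hx41, hx42, hx43, hw0, hm0, hw1, hm1, hw2, hm2, hw3, hm3, hw4, hm4, a00, a01, a02, a03, a04, a11, a10, a12, a13, a14, a22, a20, a21, a23, a24, a33, a30, a31, a32, a34, a44, a40, a41, a42, a43, wN01, wN02, wN12, wN03, wN13, wN23, wN04, wN14, wN24, wN34, e0, e1, e2, e3, e4, d01, d02, d12, d03, d13, d23, d04, d14, d24, d34⟩ := d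
  obtain rfl : x01 = 0 := hx01.trans h01
  obtain rfl : x10 = 0 := hx10.trans h10
  obtain rfl : x02 = 1 := hx02.trans h02
  obtain rfl : x20 = 1 := hx20.trans h20
  obtain rfl : x12 = 0 := hx12.trans h12
  obtain rfl : x21 = 0 := hx21.trans h21
  obtain rfl : x03 = 2 := hx03.trans h03
  obtain rfl : x30 = 1 := hx30.trans h30
  obtain rfl : x13 = 0 := hx13.trans h13
  obtain rfl : x31 = 0 := hx31.trans h31
  obtain rfl : x23 = 0 := hx23.trans h23
  obtain rfl : x32 = 0 := hx32.trans h32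
  obtain rfl : x04 = 0 := hx04.trans h04
  obtain rfl : x40 = 0 := hx40.trans h40
  rcases d14 with ⟨rfl, rfl⟩ | ⟨rfl, rfl⟩ | ⟨rfl, rfl⟩ | ⟨rfl, rfl⟩ | ⟨rfl, rfl⟩ | ⟨rfl, rfl⟩
  · -- 14=(0,0)
    rcases d24 with ⟨rfl, rfl⟩ | ⟨rfl, rfl⟩ | ⟨rfl, rfl⟩ | ⟨rfl, rfl⟩ | ⟨rfl, rfl⟩ | ⟨rfl, rfl⟩
    · -- 24=(0,0)
      rcases d34 with ⟨rfl, rfl⟩ | ⟨rfl, rfl⟩ | ⟨rfl, rfl⟩ | ⟨rfl, rfl⟩ | ⟨rfl, rfl⟩ | ⟨rfl, rfl⟩
      · -- 34=(0,0)
        exfalso; omega
      · -- 34=(1,1)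
        exfalso; omega
      · -- 34=(1,2)
        exact False.elim (cert_false T ((skipEmb 2).trans (Function.Embedding.refl _)) (by norm_num) (fun _ => hall _) (((((LB_zero T ((skipEmb 2).trans (Function.Embedding.refl _))).upd 0 2 2 (le_of_eq hx03)).upd 2 0 1 (le_of_eq hx30)).upd 2 3 1 (le_of_eq hx34)).upd 3 2 2 (le_of_eq hx43)) ![1,0,1,1] (by decide) (by decide) 0 (by decide))
      · -- 34=(2,1)
        exact False.elim (cert_false T ((skipEmb 2).trans (Function.Embedding.refl _)) (by norm_num) (fun _ => hall _) (((((LB_zero T ((skipEmb 2).trans (Function.Embedding.refl _))).upd 0 2 2 (le_of_eq hx03)).upd 2 0 1 (le_of_eq hx30)).upd 2 3 2 (le_of_eq hx34)).upd 3 2 1 (le_of_eq hx43)) ![2,0,2,1] (by decide) (by decide) 0 (by decide))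
      · -- 34=(1,3)
        exact False.elim (cert_false T ((skipEmb 2).trans (Function.Embedding.refl _)) (by norm_num) (fun _ => hall _) (((((LB_zero T ((skipEmb 2).trans (Function.Embedding.refl _))).upd 0 2 2 (le_of_eq hx03)).upd 2 0 1 (le_of_eq hx30)).upd 2 3 1 (le_of_eq hx34)).upd 3 2 3 (le_of_eq hx43)) ![1,0,1,1] (by decide) (by decide) 0 (by decide))
      · -- 34=(3,1)
        exact False.elim (cert_false T ((skipEmb 2).trans (Function.Embedding.refl _)) (by norm_num) (fun _ => hall _) (((((LB_zero T ((skipEmb 2).trans (Function.Embedding.refl _))).upd 0 2 2 (le_of_eq hx03)).upd 2 0 1 (le_of_eq hx30)).upd 2 3 3 (le_of_eq hx34)).upd 3 2 1 (le_of_eq hx43)) ![1,0,2,1] (by decide) (by decide) 0 (by decide))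
    · -- 24=(1,1)
      rcases d34 with ⟨rfl, rfl⟩ | ⟨rfl, rfl⟩ | ⟨rfl, rfl⟩ | ⟨rfl, rfl⟩ | ⟨rfl, rfl⟩ | ⟨rfl, rfl⟩
      · -- 34=(0,0)
        exfalso; omega
      · -- 34=(1,1)
        exact False.elim (cert_false T ((skipEmb 1).trans (Function.Embedding.refl _)) (by norm_num) (fun _ => hall _) (((((((((LB_zero T ((skipEmb 1).trans (Function.Embedding.refl _))).upd 0 1 1 (le_of_eq hx02)).upd 0 2 2 (le_of_eq hx03)).upd 1 0 1 (le_of_eq hx20)).upd 1 3 1 (le_of_eq hx24)).upd 2 0 1 (le_of_eq hx30)).upd 2 3 1 (le_of_eq hx34)).upd 3 1 1 (le_of_eq hx42)).upd 3 2 1 (le_of_eq hx43)) ![1,1,1,1] (by decide) (by decide) 0 (by decide))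
      · -- 34=(1,2)
        exact False.elim (cert_false T ((skipEmb 2).trans (Function.Embedding.refl _)) (by norm_num) (fun _ => hall _) (((((LB_zero T ((skipEmb 2).trans (Function.Embedding.refl _))).upd 0 2 2 (le_of_eq hx03)).upd 2 0 1 (le_of_eq hx30)).upd 2 3 1 (le_of_eq hx34)).upd 3 2 2 (le_of_eq hx43)) ![1,0,1,1] (by decide) (by decide) 0 (by decide))
      · -- 34=(2,1)
        exact False.elim (cert_false T ((skipEmb 2).trans (Function.Embedding.refl _)) (by norm_num) (fun _ => hall _) (((((LB_zero T ((skipEmb 2).trans (Function.Embedding.refl _))).upd 0 2 2 (le_of_eq hx03)).upd 2 0 1 (le_of_eq hx30)).upd 2 3 2 (le_of_eq hx34)).upd 3 2 1 (le_of_eq hx43)) ![2,0,2,1] (by decide) (by decide) 0 (by decide))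
      · -- 34=(1,3)
        exact False.elim (cert_false T ((skipEmb 2).trans (Function.Embedding.refl _)) (by norm_num) (fun _ => hall _) (((((LB_zero T ((skipEmb 2).trans (Function.Embedding.refl _))).upd 0 2 2 (le_of_eq hx03)).upd 2 0 1 (le_of_eq hx30)).upd 2 3 1 (le_of_eq hx34)).upd 3 2 3 (le_of_eq hx43)) ![1,0,1,1] (by decide) (by decide) 0 (by decide))
      · -- 34=(3,1)
        exact False.elim (cert_false T ((skipEmb 2).trans (Function.Embedding.refl _)) (by norm_num) (fun _ => hall _) (((((LB_zero T ((skipEmb 2).trans (Function.Embedding.refl _))).upd 0 2 2 (le_of_eq hx03)).upd 2 0 1 (le_of_eq hx30)).upd 2 3 3 (le_of_eq hx34)).upd 3 2 1 (le_of_eq hx43)) ![1,0,2,1] (by decide) (by decide) 0 (by decide))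
    · -- 24=(1,2)
      exact False.elim (cert_false T ((skipEmb 1).trans (Function.Embedding.refl _)) (by norm_num) (fun _ => hall _) (((((((LB_zero T ((skipEmb 1).trans (Function.Embedding.refl _))).upd 0 1 1 (le_of_eq hx02)).upd 0 2 2 (le_of_eq hx03)).upd 1 0 1 (le_of_eq hx20)).upd 1 3 1 (le_of_eq hx24)).upd 2 0 1 (le_of_eq hx30)).upd 3 1 2 (le_of_eq hx42)) ![2,2,1,2] (by decide) (by decide) 0 (by decide))
    · -- 24=(2,1)
      exact False.elim (cert_false T ((skipEmb 1).trans (Function.Embedding.refl _)) (by norm_num) (fun _ => hall _) (((((((LB_zero T ((skipEmb 1).trans (Function.Embedding.refl _))).upd 0 1 1 (le_of_eq hx02)).upd 0 2 2 (le_of_eq hx03)).upd 1 0 1 (le_of_eq hx20)).upd 1 3 2 (le_of_eq hx24)).upd 2 0 1 (le_of_eq hx30)).upd 3 1 1 (le_of_eq hx42)) ![2,2,1,1] (by decide) (by decide) 0 (by decide))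
    · -- 24=(1,3)
      exact False.elim (cert_false T ((skipEmb 3).trans (Function.Embedding.refl _)) (by norm_num) (fun _ => hall _) (((((LB_zero T ((skipEmb 3).trans (Function.Embedding.refl _))).upd 0 2 1 (le_of_eq hx02)).upd 2 0 1 (le_of_eq hx20)).upd 2 3 1 (le_of_eq hx24)).upd 3 2 3 (le_of_eq hx42)) ![1,0,2,3] (by decide) (by decide) 0 (by decide))
    · -- 24=(3,1)
      exact False.elim (cert_false T ((skipEmb 3).trans (Function.Embedding.refl _)) (by norm_num) (fun _ => hall _) (((((LB_zero T ((skipEmb 3).trans (Function.Embedding.refl _))).upd 0 2 1 (le_of_eq hx02)).upd 2 0 1 (le_of_eq hx20)).upd 2 3 3 (le_of_eq hx24)).upd 3 2 1 (le_of_eq hx42)) ![1,0,2,1] (by decide) (by decide) 0 (by decide))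
  · -- 14=(1,1)
    rcases d24 with ⟨rfl, rfl⟩ | ⟨rfl, rfl⟩ | ⟨rfl, rfl⟩ | ⟨rfl, rfl⟩ | ⟨rfl, rfl⟩ | ⟨rfl, rfl⟩
    · -- 24=(0,0)
      rcases d34 with ⟨rfl, rfl⟩ | ⟨rfl, rfl⟩ | ⟨rfl, rfl⟩ | ⟨rfl, rfl⟩ | ⟨rfl, rfl⟩ | ⟨rfl, rfl⟩
      · -- 34=(0,0)
        exfalso; omega
      · -- 34=(1,1)
        refine ⟨(⟨![1, 4, 3, 0, 2], ![3, 0, 4, 2, 1], by decide, by decide⟩ : Equiv.Perm (Fin 5)), T.m 1, T.w 0, Or.inr (Or.inr (Or.inl ?_))⟩
        show T.m 1 = T.m 1 ∧ T.m 4 = 2 * T.m 1 ∧ T.m 3 = 3 * T.m 1 ∧ T.m 0 = 4 * T.m 1 ∧ T.m 2 = 2 * T.m 1 ∧ T.w 1 = 2 * T.w 0 ∧ T.w 4 = 2 * T.w 0 ∧ T.w 3 = 2 * T.w 0 ∧ T.w 0 = T.w 0 ∧ T.w 2 = T.w 0 ∧ T.a 1 1 = -4 * T.w 0 ∧ T.a 1 4 = 2 * T.w 0 ∧ T.a 1 3 = 0 ∧ T.a 1 0 = 0 ∧ T.a 1 2 = 0 ∧ T.a 4 4 = -4 * T.w 0 ∧ T.a 4 3 = 2 * T.w 0 ∧ T.a 4 0 = 0 ∧ T.a 4 2 = 0 ∧ T.a 3 3 = -4 * T.w 0 ∧ T.a 3 0 = 2 * T.w 0 ∧ T.a 3 2 = 0 ∧ T.a 0 0 = -2 * T.w 0 ∧ T.a 0 2 = T.w 0 ∧ T.a 2 2 = -2 * T.w 0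
        refine ⟨?_, ?_, ?_, ?_, ?_, ?_, ?_, ?_, ?_, ?_, ?_, ?_, ?_, ?_, ?_, ?_, ?_, ?_, ?_, ?_, ?_, ?_, ?_, ?_, ?_⟩ <;> omega
      · -- 34=(1,2)
        exact False.elim (cert_false T ((skipEmb 2).trans (Function.Embedding.refl _)) (by norm_num) (fun _ => hall _) (((((LB_zero T ((skipEmb 2).trans (Function.Embedding.refl _))).upd 0 2 2 (le_of_eq hx03)).upd 2 0 1 (le_of_eq hx30)).upd 2 3 1 (le_of_eq hx34)).upd 3 2 2 (le_of_eq hx43)) ![1,0,1,1] (by decide) (by decide) 0 (by decide))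
      · -- 34=(2,1)
        exact False.elim (cert_false T ((skipEmb 2).trans (Function.Embedding.refl _)) (by norm_num) (fun _ => hall _) (((((LB_zero T ((skipEmb 2).trans (Function.Embedding.refl _))).upd 0 2 2 (le_of_eq hx03)).upd 2 0 1 (le_of_eq hx30)).upd 2 3 2 (le_of_eq hx34)).upd 3 2 1 (le_of_eq hx43)) ![2,0,2,1] (by decide) (by decide) 0 (by decide))
      · -- 34=(1,3)
        exact False.elim (cert_false T ((skipEmb 2).trans (Function.Embedding.refl _)) (by norm_num) (fun _ => hall _) (((((LB_zero T ((skipEmb 2).trans (Function.Embedding.refl _))).upd 0 2 2 (le_of_eq hx03)).upd 2 0 1 (le_of_eq hx30)).upd 2 3 1 (le_of_eq hx34)).upd 3 2 3 (le_of_eq hx43)) ![1,0,1,1] (by decide) (by decide) 0 (by decide))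
      · -- 34=(3,1)
        exact False.elim (cert_false T ((skipEmb 2).trans (Function.Embedding.refl _)) (by norm_num) (fun _ => hall _) (((((LB_zero T ((skipEmb 2).trans (Function.Embedding.refl _))).upd 0 2 2 (le_of_eq hx03)).upd 2 0 1 (le_of_eq hx30)).upd 2 3 3 (le_of_eq hx34)).upd 3 2 1 (le_of_eq hx43)) ![1,0,2,1] (by decide) (by decide) 0 (by decide))
    · -- 24=(1,1)
      rcases d34 with ⟨rfl, rfl⟩ | ⟨rfl, rfl⟩ | ⟨rfl, rfl⟩ | ⟨rfl, rfl⟩ | ⟨rfl, rfl⟩ | ⟨rfl, rfl⟩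
      · -- 34=(0,0)
        exfalso; omega
      · -- 34=(1,1)
        exact False.elim (cert_false T ((skipEmb 1).trans (Function.Embedding.refl _)) (by norm_num) (fun _ => hall _) (((((((((LB_zero T ((skipEmb 1).trans (Function.Embedding.refl _))).upd 0 1 1 (le_of_eq hx02)).upd 0 2 2 (le_of_eq hx03)).upd 1 0 1 (le_of_eq hx20)).upd 1 3 1 (le_of_eq hx24)).upd 2 0 1 (le_of_eq hx30)).upd 2 3 1 (le_of_eq hx34)).upd 3 1 1 (le_of_eq hx42)).upd 3 2 1 (le_of_eq hx43)) ![1,1,1,1] (by decide) (by decide) 0 (by decide))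
      · -- 34=(1,2)
        exact False.elim (cert_false T ((skipEmb 2).trans (Function.Embedding.refl _)) (by norm_num) (fun _ => hall _) (((((LB_zero T ((skipEmb 2).trans (Function.Embedding.refl _))).upd 0 2 2 (le_of_eq hx03)).upd 2 0 1 (le_of_eq hx30)).upd 2 3 1 (le_of_eq hx34)).upd 3 2 2 (le_of_eq hx43)) ![1,0,1,1] (by decide) (by decide) 0 (by decide))
      · -- 34=(2,1)
        exact False.elim (cert_false T ((skipEmb 2).trans (Function.Embedding.refl _)) (by norm_num) (fun _ => hall _) (((((LB_zero T ((skipEmb 2).trans (Function.Embedding.refl _))).upd 0 2 2 (le_of_eq hx03)).upd 2 0 1 (le_of_eq hx30)).upd 2 3 2 (le_of_eq hx34)).upd 3 2 1 (le_of_eq hx43)) ![2,0,2,1] (by decide) (by decide) 0 (by decide))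
      · -- 34=(1,3)
        exact False.elim (cert_false T ((skipEmb 2).trans (Function.Embedding.refl _)) (by norm_num) (fun _ => hall _) (((((LB_zero T ((skipEmb 2).trans (Function.Embedding.refl _))).upd 0 2 2 (le_of_eq hx03)).upd 2 0 1 (le_of_eq hx30)).upd 2 3 1 (le_of_eq hx34)).upd 3 2 3 (le_of_eq hx43)) ![1,0,1,1] (by decide) (by decide) 0 (by decide))
      · -- 34=(3,1)
        exact False.elim (cert_false T ((skipEmb 2).trans (Function.Embedding.refl _)) (by norm_num) (fun _ => hall _) (((((LB_zero T ((skipEmb 2).trans (Function.Embedding.refl _))).upd 0 2 2 (le_of_eq hx03)).upd 2 0 1 (le_of_eq hx30)).upd 2 3 3 (le_of_eq hx34)).upd 3 2 1 (le_of_eq hx43)) ![1,0,2,1] (by decide) (by decide) 0 (by decide))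
    · -- 24=(1,2)
      exact False.elim (cert_false T ((skipEmb 1).trans (Function.Embedding.refl _)) (by norm_num) (fun _ => hall _) (((((((LB_zero T ((skipEmb 1).trans (Function.Embedding.refl _))).upd 0 1 1 (le_of_eq hx02)).upd 0 2 2 (le_of_eq hx03)).upd 1 0 1 (le_of_eq hx20)).upd 1 3 1 (le_of_eq hx24)).upd 2 0 1 (le_of_eq hx30)).upd 3 1 2 (le_of_eq hx42)) ![2,2,1,2] (by decide) (by decide) 0 (by decide))
    · -- 24=(2,1)
      exact False.elim (cert_false T ((skipEmb 1).trans (Function.Embedding.refl _)) (by norm_num) (fun _ => hall _) (((((((LB_zero T ((skipEmb 1).trans (Function.Embedding.refl _))).upd 0 1 1 (le_of_eq hx02)).upd 0 2 2 (le_of_eq hx03)).upd 1 0 1 (le_of_eq hx20)).upd 1 3 2 (le_of_eq hx24)).upd 2 0 1 (le_of_eq hx30)).upd 3 1 1 (le_of_eq hx42)) ![2,2,1,1] (by decide) (by decide) 0 (by decide))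
    · -- 24=(1,3)
      exact False.elim (cert_false T ((skipEmb 3).trans (Function.Embedding.refl _)) (by norm_num) (fun _ => hall _) (((((LB_zero T ((skipEmb 3).trans (Function.Embedding.refl _))).upd 1 3 1 (le_of_eq hx14)).upd 2 3 1 (le_of_eq hx24)).upd 3 1 1 (le_of_eq hx41)).upd 3 2 3 (le_of_eq hx42)) ![0,1,1,2] (by decide) (by decide) 1 (by decide))
    · -- 24=(3,1)
      exact False.elim (cert_false T ((skipEmb 3).trans (Function.Embedding.refl _)) (by norm_num) (fun _ => hall _) (((((LB_zero T ((skipEmb 3).trans (Function.Embedding.refl _))).upd 0 2 1 (le_of_eq hx02)).upd 2 0 1 (le_of_eq hx20)).upd 2 3 3 (le_of_eq hx24)).upd 3 2 1 (le_of_eq hx42)) ![1,0,2,1] (by decide) (by decide) 0 (by decide))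
  · -- 14=(1,2)
    rcases d24 with ⟨rfl, rfl⟩ | ⟨rfl, rfl⟩ | ⟨rfl, rfl⟩ | ⟨rfl, rfl⟩ | ⟨rfl, rfl⟩ | ⟨rfl, rfl⟩
    · -- 24=(0,0)
      rcases d34 with ⟨rfl, rfl⟩ | ⟨rfl, rfl⟩ | ⟨rfl, rfl⟩ | ⟨rfl, rfl⟩ | ⟨rfl, rfl⟩ | ⟨rfl, rfl⟩
      · -- 34=(0,0)
        exfalso; omega
      · -- 34=(1,1)
        exact False.elim (cert_false T ((skipEmb 2).trans (Function.Embedding.refl _)) (by norm_num) (fun _ => hall _) (((((((LB_zero T ((skipEmb 2).trans (Function.Embedding.refl _))).upd 0 2 2 (le_of_eq hx03)).upd 1 3 1 (le_of_eq hx14)).upd 2 0 1 (le_of_eq hx30)).upd 2 3 1 (le_of_eq hx34)).upd 3 1 2 (le_of_eq hx41)).upd 3 2 1 (le_of_eq hx43)) ![2,1,2,2] (by decide) (by decide) 0 (by decide))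
      · -- 34=(1,2)
        exact False.elim (cert_false T ((skipEmb 2).trans (Function.Embedding.refl _)) (by norm_num) (fun _ => hall _) (((((LB_zero T ((skipEmb 2).trans (Function.Embedding.refl _))).upd 0 2 2 (le_of_eq hx03)).upd 2 0 1 (le_of_eq hx30)).upd 2 3 1 (le_of_eq hx34)).upd 3 2 2 (le_of_eq hx43)) ![1,0,1,1] (by decide) (by decide) 0 (by decide))
      · -- 34=(2,1)
        exact False.elim (cert_false T ((skipEmb 2).trans (Function.Embedding.refl _)) (by norm_num) (fun _ => hall _) (((((LB_zero T ((skipEmb 2).trans (Function.Embedding.refl _))).upd 1 3 1 (le_of_eq hx14)).upd 2 3 2 (le_of_eq hx34)).upd 3 1 2 (le_of_eq hx41)).upd 3 2 1 (le_of_eq hx43)) ![0,1,2,2] (by decide) (by decide) 1 (by decide))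
      · -- 34=(1,3)
        exact False.elim (cert_false T ((skipEmb 2).trans (Function.Embedding.refl _)) (by norm_num) (fun _ => hall _) (((((LB_zero T ((skipEmb 2).trans (Function.Embedding.refl _))).upd 0 2 2 (le_of_eq hx03)).upd 2 0 1 (le_of_eq hx30)).upd 2 3 1 (le_of_eq hx34)).upd 3 2 3 (le_of_eq hx43)) ![1,0,1,1] (by decide) (by decide) 0 (by decide))
      · -- 34=(3,1)
        exact False.elim (cert_false T ((skipEmb 2).trans (Function.Embedding.refl _)) (by norm_num) (fun _ => hall _) (((((LB_zero T ((skipEmb 2).trans (Function.Embedding.refl _))).upd 1 3 1 (le_of_eq hx14)).upd 2 3 3 (le_of_eq hx34)).upd 3 1 2 (le_of_eq hx41)).upd 3 2 1 (le_of_eq hx43)) ![0,1,2,2] (by decide) (by decide) 1 (by decide))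
    · -- 24=(1,1)
      rcases d34 with ⟨rfl, rfl⟩ | ⟨rfl, rfl⟩ | ⟨rfl, rfl⟩ | ⟨rfl, rfl⟩ | ⟨rfl, rfl⟩ | ⟨rfl, rfl⟩
      · -- 34=(0,0)
        refine ⟨(⟨![1, 4, 2, 0, 3], ![3, 0, 2, 4, 1], by decide, by decide⟩ : Equiv.Perm (Fin 5)), T.m 1, T.w 4, Or.inr (Or.inr (Or.inr (Or.inr (Or.inr (Or.inl ?_)))))⟩
        show T.m 1 = T.m 1 ∧ T.m 4 = 2 * T.m 1 ∧ T.m 2 = 2 * T.m 1 ∧ T.m 0 = 2 * T.m 1 ∧ T.m 3 = T.m 1 ∧ T.w 1 = 2 * T.w 4 ∧ T.w 4 = T.w 4 ∧ T.w 2 = T.w 4 ∧ T.w 0 = T.w 4 ∧ T.w 3 = 2 * T.w 4 ∧ T.a 1 1 = -4 * T.w 4 ∧ T.a 1 4 = 2 * T.w 4 ∧ T.a 1 2 = 0 ∧ T.a 1 0 = 0 ∧ T.a 1 3 = 0 ∧ T.a 4 4 = -2 * T.w 4 ∧ T.a 4 2 = T.w 4 ∧ T.a 4 0 = 0 ∧ T.a 4 3 = 0 ∧ T.a 2 2 = -2 * T.w 4 ∧ T.a 2 0 = T.w 4 ∧ T.a 2 3 = 0 ∧ T.a 0 0 = -2 * T.w 4 ∧ T.a 0 3 = 2 * T.w 4 ∧ T.a 3 3 = -4 * T.w 4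
        refine ⟨?_, ?_, ?_, ?_, ?_, ?_, ?_, ?_, ?_, ?_, ?_, ?_, ?_, ?_, ?_, ?_, ?_, ?_, ?_, ?_, ?_, ?_, ?_, ?_, ?_⟩ <;> omega
      · -- 34=(1,1)
        exact False.elim (cert_false T ((skipEmb 2).trans (Function.Embedding.refl _)) (by norm_num) (fun _ => hall _) (((((((LB_zero T ((skipEmb 2).trans (Function.Embedding.refl _))).upd 0 2 2 (le_of_eq hx03)).upd 1 3 1 (le_of_eq hx14)).upd 2 0 1 (le_of_eq hx30)).upd 2 3 1 (le_of_eq hx34)).upd 3 1 2 (le_of_eq hx41)).upd 3 2 1 (le_of_eq hx43)) ![2,1,2,2] (by decide) (by decide) 0 (by decide))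
      · -- 34=(1,2)
        exact False.elim (cert_false T ((skipEmb 2).trans (Function.Embedding.refl _)) (by norm_num) (fun _ => hall _) (((((LB_zero T ((skipEmb 2).trans (Function.Embedding.refl _))).upd 0 2 2 (le_of_eq hx03)).upd 2 0 1 (le_of_eq hx30)).upd 2 3 1 (le_of_eq hx34)).upd 3 2 2 (le_of_eq hx43)) ![1,0,1,1] (by decide) (by decide) 0 (by decide))
      · -- 34=(2,1)
        exact False.elim (cert_false T ((skipEmb 2).trans (Function.Embedding.refl _)) (by norm_num) (fun _ => hall _) (((((LB_zero T ((skipEmb 2).trans (Function.Embedding.refl _))).upd 1 3 1 (le_of_eq hx14)).upd 2 3 2 (le_of_eq hx34)).upd 3 1 2 (le_of_eq hx41)).upd 3 2 1 (le_of_eq hx43)) ![0,1,2,2] (by decide) (by decide) 1 (by decide))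
      · -- 34=(1,3)
        exact False.elim (cert_false T ((skipEmb 2).trans (Function.Embedding.refl _)) (by norm_num) (fun _ => hall _) (((((LB_zero T ((skipEmb 2).trans (Function.Embedding.refl _))).upd 0 2 2 (le_of_eq hx03)).upd 2 0 1 (le_of_eq hx30)).upd 2 3 1 (le_of_eq hx34)).upd 3 2 3 (le_of_eq hx43)) ![1,0,1,1] (by decide) (by decide) 0 (by decide))
      · -- 34=(3,1)
        exact False.elim (cert_false T ((skipEmb 2).trans (Function.Embedding.refl _)) (by norm_num) (fun _ => hall _) (((((LB_zero T ((skipEmb 2).trans (Function.Embedding.refl _))).upd 1 3 1 (le_of_eq hx14)).upd 2 3 3 (le_of_eq hx34)).upd 3 1 2 (le_of_eq hx41)).upd 3 2 1 (le_of_eq hx43)) ![0,1,2,2] (by decide) (by decide) 1 (by decide))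
    · -- 24=(1,2)
      exact False.elim (cert_false T ((skipEmb 3).trans (Function.Embedding.refl _)) (by norm_num) (fun _ => hall _) (((((LB_zero T ((skipEmb 3).trans (Function.Embedding.refl _))).upd 1 3 1 (le_of_eq hx14)).upd 2 3 1 (le_of_eq hx24)).upd 3 1 2 (le_of_eq hx41)).upd 3 2 2 (le_of_eq hx42)) ![0,1,1,2] (by decide) (by decide) 1 (by decide))
    · -- 24=(2,1)
      exact False.elim (cert_false T ((skipEmb 3).trans (Function.Embedding.refl _)) (by norm_num) (fun _ => hall _) (((((LB_zero T ((skipEmb 3).trans (Function.Embedding.refl _))).upd 1 3 1 (le_of_eq hx14)).upd 2 3 2 (le_of_eq hx24)).upd 3 1 2 (le_of_eq hx41)).upd 3 2 1 (le_of_eq hx42)) ![0,1,2,2] (by decide) (by decide) 1 (by decide))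
    · -- 24=(1,3)
      exact False.elim (cert_false T ((skipEmb 3).trans (Function.Embedding.refl _)) (by norm_num) (fun _ => hall _) (((((LB_zero T ((skipEmb 3).trans (Function.Embedding.refl _))).upd 1 3 1 (le_of_eq hx14)).upd 2 3 1 (le_of_eq hx24)).upd 3 1 2 (le_of_eq hx41)).upd 3 2 3 (le_of_eq hx42)) ![0,1,1,2] (by decide) (by decide) 1 (by decide))
    · -- 24=(3,1)
      exact False.elim (cert_false T ((skipEmb 3).trans (Function.Embedding.refl _)) (by norm_num) (fun _ => hall _) (((((LB_zero T ((skipEmb 3).trans (Function.Embedding.refl _))).upd 1 3 1 (le_of_eq hx14)).upd 2 3 3 (le_of_eq hx24)).upd 3 1 2 (le_of_eq hx41)).upd 3 2 1 (le_of_eq hx42)) ![0,1,2,2] (by decide) (by decide) 1 (by decide))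
  · -- 14=(2,1)
    rcases d24 with ⟨rfl, rfl⟩ | ⟨rfl, rfl⟩ | ⟨rfl, rfl⟩ | ⟨rfl, rfl⟩ | ⟨rfl, rfl⟩ | ⟨rfl, rfl⟩
    · -- 24=(0,0)
      rcases d34 with ⟨rfl, rfl⟩ | ⟨rfl, rfl⟩ | ⟨rfl, rfl⟩ | ⟨rfl, rfl⟩ | ⟨rfl, rfl⟩ | ⟨rfl, rfl⟩
      · -- 34=(0,0)
        exfalso; omega
      · -- 34=(1,1)
        exact False.elim (cert_false T ((skipEmb 2).trans (Function.Embedding.refl _)) (by norm_num) (fun _ => hall _) (((((((LB_zero T ((skipEmb 2).trans (Function.Embedding.refl _))).upd 0 2 2 (le_of_eq hx03)).upd 1 3 2 (le_of_eq hx14)).upd 2 0 1 (le_of_eq hx30)).upd 2 3 1 (le_of_eq hx34)).upd 3 1 1 (le_of_eq hx41)).upd 3 2 1 (le_of_eq hx43)) ![1,1,1,1] (by decide) (by decide) 0 (by decide))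
      · -- 34=(1,2)
        exact False.elim (cert_false T ((skipEmb 2).trans (Function.Embedding.refl _)) (by norm_num) (fun _ => hall _) (((((LB_zero T ((skipEmb 2).trans (Function.Embedding.refl _))).upd 0 2 2 (le_of_eq hx03)).upd 2 0 1 (le_of_eq hx30)).upd 2 3 1 (le_of_eq hx34)).upd 3 2 2 (le_of_eq hx43)) ![1,0,1,1] (by decide) (by decide) 0 (by decide))
      · -- 34=(2,1)
        exact False.elim (cert_false T ((skipEmb 2).trans (Function.Embedding.refl _)) (by norm_num) (fun _ => hall _) (((((LB_zero T ((skipEmb 2).trans (Function.Embedding.refl _))).upd 1 3 2 (le_of_eq hx14)).upd 2 3 2 (le_of_eq hx34)).upd 3 1 1 (le_of_eq hx41)).upd 3 2 1 (le_of_eq hx43)) ![0,1,1,1] (by decide) (by decide) 1 (by decide))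
      · -- 34=(1,3)
        exact False.elim (cert_false T ((skipEmb 2).trans (Function.Embedding.refl _)) (by norm_num) (fun _ => hall _) (((((LB_zero T ((skipEmb 2).trans (Function.Embedding.refl _))).upd 0 2 2 (le_of_eq hx03)).upd 2 0 1 (le_of_eq hx30)).upd 2 3 1 (le_of_eq hx34)).upd 3 2 3 (le_of_eq hx43)) ![1,0,1,1] (by decide) (by decide) 0 (by decide))
      · -- 34=(3,1)
        exact False.elim (cert_false T ((skipEmb 2).trans (Function.Embedding.refl _)) (by norm_num) (fun _ => hall _) (((((LB_zero T ((skipEmb 2).trans (Function.Embedding.refl _))).upd 1 3 2 (le_of_eq hx14)).upd 2 3 3 (le_of_eq hx34)).upd 3 1 1 (le_of_eq hx41)).upd 3 2 1 (le_of_eq hx43)) ![0,1,1,1] (by decide) (by decide) 1 (by decide))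
    · -- 24=(1,1)
      rcases d34 with ⟨rfl, rfl⟩ | ⟨rfl, rfl⟩ | ⟨rfl, rfl⟩ | ⟨rfl, rfl⟩ | ⟨rfl, rfl⟩ | ⟨rfl, rfl⟩
      · -- 34=(0,0)
        refine ⟨(⟨![1, 4, 2, 0, 3], ![3, 0, 2, 4, 1], by decide, by decide⟩ : Equiv.Perm (Fin 5)), T.m 3, T.w 1, Or.inr (Or.inr (Or.inr (Or.inl ?_)))⟩
        show T.m 1 = 2 * T.m 3 ∧ T.m 4 = 2 * T.m 3 ∧ T.m 2 = 2 * T.m 3 ∧ T.m 0 = 2 * T.m 3 ∧ T.m 3 = T.m 3 ∧ T.w 1 = T.w 1 ∧ T.w 4 = 2 * T.w 1 ∧ T.w 2 = 2 * T.w 1 ∧ T.w 0 = 2 * T.w 1 ∧ T.w 3 = 4 * T.w 1 ∧ T.a 1 1 = -2 * T.w 1 ∧ T.a 1 4 = 2 * T.w 1 ∧ T.a 1 2 = 0 ∧ T.a 1 0 = 0 ∧ T.a 1 3 = 0 ∧ T.a 4 4 = -4 * T.w 1 ∧ T.a 4 2 = 2 * T.w 1 ∧ T.a 4 0 = 0 ∧ T.a 4 3 = 0 ∧ T.a 2 2 = -4 * T.w 1 ∧ T.a 2 0 = 2 * T.w 1 ∧ T.a 2 3 = 0 ∧ T.a 0 0 = -4 * T.w 1 ∧ T.a 0 3 = 4 * T.w 1 ∧ T.a 3 3 = -8 * T.w 1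
        refine ⟨?_, ?_, ?_, ?_, ?_, ?_, ?_, ?_, ?_, ?_, ?_, ?_, ?_, ?_, ?_, ?_, ?_, ?_, ?_, ?_, ?_, ?_, ?_, ?_, ?_⟩ <;> omega
      · -- 34=(1,1)
        exact False.elim (cert_false T ((skipEmb 2).trans (Function.Embedding.refl _)) (by norm_num) (fun _ => hall _) (((((((LB_zero T ((skipEmb 2).trans (Function.Embedding.refl _))).upd 0 2 2 (le_of_eq hx03)).upd 1 3 2 (le_of_eq hx14)).upd 2 0 1 (le_of_eq hx30)).upd 2 3 1 (le_of_eq hx34)).upd 3 1 1 (le_of_eq hx41)).upd 3 2 1 (le_of_eq hx43)) ![1,1,1,1] (by decide) (by decide) 0 (by decide))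
      · -- 34=(1,2)
        exact False.elim (cert_false T ((skipEmb 2).trans (Function.Embedding.refl _)) (by norm_num) (fun _ => hall _) (((((LB_zero T ((skipEmb 2).trans (Function.Embedding.refl _))).upd 0 2 2 (le_of_eq hx03)).upd 2 0 1 (le_of_eq hx30)).upd 2 3 1 (le_of_eq hx34)).upd 3 2 2 (le_of_eq hx43)) ![1,0,1,1] (by decide) (by decide) 0 (by decide))
      · -- 34=(2,1)
        exact False.elim (cert_false T ((skipEmb 2).trans (Function.Embedding.refl _)) (by norm_num) (fun _ => hall _) (((((LB_zero T ((skipEmb 2).trans (Function.Embedding.refl _))).upd 1 3 2 (le_of_eq hx14)).upd 2 3 2 (le_of_eq hx34)).upd 3 1 1 (le_of_eq hx41)).upd 3 2 1 (le_of_eq hx43)) ![0,1,1,1] (by decide) (by decide) 1 (by decide))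
      · -- 34=(1,3)
        exact False.elim (cert_false T ((skipEmb 2).trans (Function.Embedding.refl _)) (by norm_num) (fun _ => hall _) (((((LB_zero T ((skipEmb 2).trans (Function.Embedding.refl _))).upd 0 2 2 (le_of_eq hx03)).upd 2 0 1 (le_of_eq hx30)).upd 2 3 1 (le_of_eq hx34)).upd 3 2 3 (le_of_eq hx43)) ![1,0,1,1] (by decide) (by decide) 0 (by decide))
      · -- 34=(3,1)
        exact False.elim (cert_false T ((skipEmb 2).trans (Function.Embedding.refl _)) (by norm_num) (fun _ => hall _) (((((LB_zero T ((skipEmb 2).trans (Function.Embedding.refl _))).upd 1 3 2 (le_of_eq hx14)).upd 2 3 3 (le_of_eq hx34)).upd 3 1 1 (le_of_eq hx41)).upd 3 2 1 (le_of_eq hx43)) ![0,1,1,1] (by decide) (by decide) 1 (by decide))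
    · -- 24=(1,2)
      exact False.elim (cert_false T ((skipEmb 3).trans (Function.Embedding.refl _)) (by norm_num) (fun _ => hall _) (((((LB_zero T ((skipEmb 3).trans (Function.Embedding.refl _))).upd 1 3 2 (le_of_eq hx14)).upd 2 3 1 (le_of_eq hx24)).upd 3 1 1 (le_of_eq hx41)).upd 3 2 2 (le_of_eq hx42)) ![0,2,1,2] (by decide) (by decide) 1 (by decide))
    · -- 24=(2,1)
      exact False.elim (cert_false T ((skipEmb 3).trans (Function.Embedding.refl _)) (by norm_num) (fun _ => hall _) (((((LB_zero T ((skipEmb 3).trans (Function.Embedding.refl _))).upd 1 3 2 (le_of_eq hx14)).upd 2 3 2 (le_of_eq hx24)).upd 3 1 1 (le_of_eq hx41)).upd 3 2 1 (le_of_eq hx42)) ![0,1,1,1] (by decide) (by decide) 1 (by decide))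
    · -- 24=(1,3)
      exact False.elim (cert_false T ((skipEmb 3).trans (Function.Embedding.refl _)) (by norm_num) (fun _ => hall _) (((((LB_zero T ((skipEmb 3).trans (Function.Embedding.refl _))).upd 1 3 2 (le_of_eq hx14)).upd 2 3 1 (le_of_eq hx24)).upd 3 1 1 (le_of_eq hx41)).upd 3 2 3 (le_of_eq hx42)) ![0,1,1,2] (by decide) (by decide) 1 (by decide))
    · -- 24=(3,1)
      exact False.elim (cert_false T ((skipEmb 3).trans (Function.Embedding.refl _)) (by norm_num) (fun _ => hall _) (((((LB_zero T ((skipEmb 3).trans (Function.Embedding.refl _))).upd 1 3 2 (le_of_eq hx14)).upd 2 3 3 (le_of_eq hx24)).upd 3 1 1 (le_of_eq hx41)).upd 3 2 1 (le_of_eq hx42)) ![0,1,1,1] (by decide) (by decide) 1 (by decide))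
  · -- 14=(1,3)
    rcases d24 with ⟨rfl, rfl⟩ | ⟨rfl, rfl⟩ | ⟨rfl, rfl⟩ | ⟨rfl, rfl⟩ | ⟨rfl, rfl⟩ | ⟨rfl, rfl⟩
    · -- 24=(0,0)
      rcases d34 with ⟨rfl, rfl⟩ | ⟨rfl, rfl⟩ | ⟨rfl, rfl⟩ | ⟨rfl, rfl⟩ | ⟨rfl, rfl⟩ | ⟨rfl, rfl⟩
      · -- 34=(0,0)
        exfalso; omega
      · -- 34=(1,1)
        exact False.elim (cert_false T ((skipEmb 2).trans (Function.Embedding.refl _)) (by norm_num) (fun _ => hall _) (((((LB_zero T ((skipEmb 2).trans (Function.Embedding.refl _))).upd 1 3 1 (le_of_eq hx14)).upd 2 3 1 (le_of_eq hx34)).upd 3 1 3 (le_of_eq hx41)).upd 3 2 1 (le_of_eq hx43)) ![0,1,1,2] (by decide) (by decide) 1 (by decide))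
      · -- 34=(1,2)
        exact False.elim (cert_false T ((skipEmb 2).trans (Function.Embedding.refl _)) (by norm_num) (fun _ => hall _) (((((LB_zero T ((skipEmb 2).trans (Function.Embedding.refl _))).upd 0 2 2 (le_of_eq hx03)).upd 2 0 1 (le_of_eq hx30)).upd 2 3 1 (le_of_eq hx34)).upd 3 2 2 (le_of_eq hx43)) ![1,0,1,1] (by decide) (by decide) 0 (by decide))
      · -- 34=(2,1)
        exact False.elim (cert_false T ((skipEmb 2).trans (Function.Embedding.refl _)) (by norm_num) (fun _ => hall _) (((((LB_zero T ((skipEmb 2).trans (Function.Embedding.refl _))).upd 0 2 2 (le_of_eq hx03)).upd 2 0 1 (le_of_eq hx30)).upd 2 3 2 (le_of_eq hx34)).upd 3 2 1 (le_of_eq hx43)) ![2,0,2,1] (by decide) (by decide) 0 (by decide))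
      · -- 34=(1,3)
        exact False.elim (cert_false T ((skipEmb 2).trans (Function.Embedding.refl _)) (by norm_num) (fun _ => hall _) (((((LB_zero T ((skipEmb 2).trans (Function.Embedding.refl _))).upd 0 2 2 (le_of_eq hx03)).upd 2 0 1 (le_of_eq hx30)).upd 2 3 1 (le_of_eq hx34)).upd 3 2 3 (le_of_eq hx43)) ![1,0,1,1] (by decide) (by decide) 0 (by decide))
      · -- 34=(3,1)
        exact False.elim (cert_false T ((skipEmb 2).trans (Function.Embedding.refl _)) (by norm_num) (fun _ => hall _) (((((LB_zero T ((skipEmb 2).trans (Function.Embedding.refl _))).upd 1 3 1 (le_of_eq hx14)).upd 2 3 3 (le_of_eq hx34)).upd 3 1 3 (le_of_eq hx41)).upd 3 2 1 (le_of_eq hx43)) ![0,1,1,2] (by decide) (by decide) 1 (by decide))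
    · -- 24=(1,1)
      exact False.elim (cert_false T ((skipEmb 3).trans (Function.Embedding.refl _)) (by norm_num) (fun _ => hall _) (((((LB_zero T ((skipEmb 3).trans (Function.Embedding.refl _))).upd 1 3 1 (le_of_eq hx14)).upd 2 3 1 (le_of_eq hx24)).upd 3 1 3 (le_of_eq hx41)).upd 3 2 1 (le_of_eq hx42)) ![0,1,1,2] (by decide) (by decide) 1 (by decide))
    · -- 24=(1,2)
      exact False.elim (cert_false T ((skipEmb 3).trans (Function.Embedding.refl _)) (by norm_num) (fun _ => hall _) (((((LB_zero T ((skipEmb 3).trans (Function.Embedding.refl _))).upd 1 3 1 (le_of_eq hx14)).upd 2 3 1 (le_of_eq hx24)).upd 3 1 3 (le_of_eq hx41)).upd 3 2 2 (le_of_eq hx42)) ![0,1,1,2] (by decide) (by decide) 1 (by decide))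
    · -- 24=(2,1)
      exact False.elim (cert_false T ((skipEmb 3).trans (Function.Embedding.refl _)) (by norm_num) (fun _ => hall _) (((((LB_zero T ((skipEmb 3).trans (Function.Embedding.refl _))).upd 1 3 1 (le_of_eq hx14)).upd 2 3 2 (le_of_eq hx24)).upd 3 1 3 (le_of_eq hx41)).upd 3 2 1 (le_of_eq hx42)) ![0,1,1,2] (by decide) (by decide) 1 (by decide))
    · -- 24=(1,3)
      exact False.elim (cert_false T ((skipEmb 3).trans (Function.Embedding.refl _)) (by norm_num) (fun _ => hall _) (((((LB_zero T ((skipEmb 3).trans (Function.Embedding.refl _))).upd 1 3 1 (le_of_eq hx14)).upd 2 3 1 (le_of_eq hx24)).upd 3 1 3 (le_of_eq hx41)).upd 3 2 3 (le_of_eq hx42)) ![0,1,1,2] (by decide) (by decide) 1 (by decide))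
    · -- 24=(3,1)
      exact False.elim (cert_false T ((skipEmb 3).trans (Function.Embedding.refl _)) (by norm_num) (fun _ => hall _) (((((LB_zero T ((skipEmb 3).trans (Function.Embedding.refl _))).upd 1 3 1 (le_of_eq hx14)).upd 2 3 3 (le_of_eq hx24)).upd 3 1 3 (le_of_eq hx41)).upd 3 2 1 (le_of_eq hx42)) ![0,1,1,2] (by decide) (by decide) 1 (by decide))
  · -- 14=(3,1)
    rcases d24 with ⟨rfl, rfl⟩ | ⟨rfl, rfl⟩ | ⟨rfl, rfl⟩ | ⟨rfl, rfl⟩ | ⟨rfl, rfl⟩ | ⟨rfl, rfl⟩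
    · -- 24=(0,0)
      rcases d34 with ⟨rfl, rfl⟩ | ⟨rfl, rfl⟩ | ⟨rfl, rfl⟩ | ⟨rfl, rfl⟩ | ⟨rfl, rfl⟩ | ⟨rfl, rfl⟩
      · -- 34=(0,0)
        exfalso; omega
      · -- 34=(1,1)
        exact False.elim (cert_false T ((skipEmb 2).trans (Function.Embedding.refl _)) (by norm_num) (fun _ => hall _) (((((((LB_zero T ((skipEmb 2).trans (Function.Embedding.refl _))).upd 0 2 2 (le_of_eq hx03)).upd 1 3 3 (le_of_eq hx14)).upd 2 0 1 (le_of_eq hx30)).upd 2 3 1 (le_of_eq hx34)).upd 3 1 1 (le_of_eq hx41)).upd 3 2 1 (le_of_eq hx43)) ![1,1,1,1] (by decide) (by decide) 0 (by decide))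
      · -- 34=(1,2)
        exact False.elim (cert_false T ((skipEmb 2).trans (Function.Embedding.refl _)) (by norm_num) (fun _ => hall _) (((((LB_zero T ((skipEmb 2).trans (Function.Embedding.refl _))).upd 0 2 2 (le_of_eq hx03)).upd 2 0 1 (le_of_eq hx30)).upd 2 3 1 (le_of_eq hx34)).upd 3 2 2 (le_of_eq hx43)) ![1,0,1,1] (by decide) (by decide) 0 (by decide))
      · -- 34=(2,1)
        exact False.elim (cert_false T ((skipEmb 2).trans (Function.Embedding.refl _)) (by norm_num) (fun _ => hall _) (((((LB_zero T ((skipEmb 2).trans (Function.Embedding.refl _))).upd 1 3 3 (le_of_eq hx14)).upd 2 3 2 (le_of_eq hx34)).upd 3 1 1 (le_of_eq hx41)).upd 3 2 1 (le_of_eq hx43)) ![0,1,1,1] (by decide) (by decide) 1 (by decide))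
      · -- 34=(1,3)
        exact False.elim (cert_false T ((skipEmb 2).trans (Function.Embedding.refl _)) (by norm_num) (fun _ => hall _) (((((LB_zero T ((skipEmb 2).trans (Function.Embedding.refl _))).upd 0 2 2 (le_of_eq hx03)).upd 2 0 1 (le_of_eq hx30)).upd 2 3 1 (le_of_eq hx34)).upd 3 2 3 (le_of_eq hx43)) ![1,0,1,1] (by decide) (by decide) 0 (by decide))
      · -- 34=(3,1)
        exact False.elim (cert_false T ((skipEmb 2).trans (Function.Embedding.refl _)) (by norm_num) (fun _ => hall _) (((((LB_zero T ((skipEmb 2).trans (Function.Embedding.refl _))).upd 1 3 3 (le_of_eq hx14)).upd 2 3 3 (le_of_eq hx34)).upd 3 1 1 (le_of_eq hx41)).upd 3 2 1 (le_of_eq hx43)) ![0,1,1,1] (by decide) (by decide) 1 (by decide))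
    · -- 24=(1,1)
      exact False.elim (cert_false T ((skipEmb 3).trans (Function.Embedding.refl _)) (by norm_num) (fun _ => hall _) (((((LB_zero T ((skipEmb 3).trans (Function.Embedding.refl _))).upd 1 3 3 (le_of_eq hx14)).upd 2 3 1 (le_of_eq hx24)).upd 3 1 1 (le_of_eq hx41)).upd 3 2 1 (le_of_eq hx42)) ![0,3,1,2] (by decide) (by decide) 1 (by decide))
    · -- 24=(1,2)
      exact False.elim (cert_false T ((skipEmb 3).trans (Function.Embedding.refl _)) (by norm_num) (fun _ => hall _) (((((LB_zero T ((skipEmb 3).trans (Function.Embedding.refl _))).upd 1 3 3 (le_of_eq hx14)).upd 2 3 1 (le_of_eq hx24)).upd 3 1 1 (le_of_eq hx41)).upd 3 2 2 (le_of_eq hx42)) ![0,2,1,2] (by decide) (by decide) 1 (by decide))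
    · -- 24=(2,1)
      exact False.elim (cert_false T ((skipEmb 3).trans (Function.Embedding.refl _)) (by norm_num) (fun _ => hall _) (((((LB_zero T ((skipEmb 3).trans (Function.Embedding.refl _))).upd 1 3 3 (le_of_eq hx14)).upd 2 3 2 (le_of_eq hx24)).upd 3 1 1 (le_of_eq hx41)).upd 3 2 1 (le_of_eq hx42)) ![0,1,1,1] (by decide) (by decide) 1 (by decide))
    · -- 24=(1,3)
      exact False.elim (cert_false T ((skipEmb 3).trans (Function.Embedding.refl _)) (by norm_num) (fun _ => hall _) (((((LB_zero T ((skipEmb 3).trans (Function.Embedding.refl _))).upd 1 3 3 (le_of_eq hx14)).upd 2 3 1 (le_of_eq hx24)).upd 3 1 1 (le_of_eq hx41)).upd 3 2 3 (le_of_eq hx42)) ![0,1,1,2] (by decide) (by decide) 1 (by decide))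
    · -- 24=(3,1)
      exact False.elim (cert_false T ((skipEmb 3).trans (Function.Embedding.refl _)) (by norm_num) (fun _ => hall _) (((((LB_zero T ((skipEmb 3).trans (Function.Embedding.refl _))).upd 1 3 3 (le_of_eq hx14)).upd 2 3 3 (le_of_eq hx24)).upd 3 1 1 (le_of_eq hx41)).upd 3 2 1 (le_of_eq hx42)) ![0,1,1,1] (by decide) (by decide) 1 (by decide))

theorem case242 (T : NumericalType 5) (hall : ∀ i, T.IsMinusTwo i) (d : SData T)
    (h01 : N T (Function.Embedding.refl _) 0 1 = 0) (h10 : N T (Function.Embedding.refl _) 1 0 = 0)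
    (h02 : N T (Function.Embedding.refl _) 0 2 = 1) (h20 : N T (Function.Embedding.refl _) 2 0 = 1)
    (h12 : N T (Function.Embedding.refl _) 1 2 = 0) (h21 : N T (Function.Embedding.refl _) 2 1 = 0)
    (h03 : N T (Function.Embedding.refl _) 0 3 = 2) (h30 : N T (Function.Embedding.refl _) 3 0 = 1)
    (h13 : N T (Function.Embedding.refl _) 1 3 = 0) (h31 : N T (Function.Embedding.refl _) 3 1 = 0)
    (h23 : N T (Function.Embedding.refl _) 2 3 = 0) (h32 : N T (Function.Embedding.refl _) 3 2 = 0) :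
    Goal T := by
  unfold Goal
  have hd := d
  obtain ⟨x01, x02, x03, x04, x10, x12, x13, x14, x20, x21, x23, x24, x30, x31, x32, x34, x40, x41, x42, x43, hx01, hx02, hx03, hx04, hx10, hx12, hx13, hx14, hx20, hx21, hx23, hx24, hx30, hx31, hx32, hx34, hx40, hx41, hx42, hx43, hw0, hm0, hw1, hm1, hw2, hm2, hw3, hm3, hw4, hm4, a00, a01, a02, a03, a04, a11, a10, a12, a13, a14, a22, a20, a21, a23, a24, a33, a30, a31, a32, a34, a44, a40, a41, a42, a43, wN01, wN02, wN12, wN03, wN13, wN23, wN04, wN14, wN24, wN34, e0, e1, e2, e3, e4, d01, d02, d12, d03, d13, d23, d04, d14, d24, d34⟩ := d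
  obtain rfl : x01 = 0 := hx01.trans h01
  obtain rfl : x10 = 0 := hx10.trans h10
  obtain rfl : x02 = 1 := hx02.trans h02
  obtain rfl : x20 = 1 := hx20.trans h20
  obtain rfl : x12 = 0 := hx12.trans h12
  obtain rfl : x21 = 0 := hx21.trans h21
  obtain rfl : x03 = 2 := hx03.trans h03
  obtain rfl : x30 = 1 := hx30.trans h30
  obtain rfl : x13 = 0 := hx13.trans h13
  obtain rfl : x31 = 0 := hx31.trans h31
  obtain rfl : x23 = 0 := hx23.trans h23
  obtain rfl : x32 = 0 := hx32.trans h32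
  rcases d04 with ⟨rfl, rfl⟩ | ⟨rfl, rfl⟩ | ⟨rfl, rfl⟩ | ⟨rfl, rfl⟩ | ⟨rfl, rfl⟩ | ⟨rfl, rfl⟩
  · -- 04=(0,0)
    exact case243 T hall hd hx01.symm hx10.symm hx02.symm hx20.symm hx12.symm hx21.symm hx03.symm hx30.symm hx13.symm hx31.symm hx23.symm hx32.symm hx04.symm hx40.symm
  · -- 04=(1,1)
    exact False.elim (cert_false T ((skipEmb 1).trans (Function.Embedding.refl _)) (by norm_num) (fun _ => hall _) (((((((LB_zero T ((skipEmb 1).trans (Function.Embedding.refl _))).upd 0 1 1 (le_of_eq hx02)).upd 0 2 2 (le_of_eq hx03)).upd 0 3 1 (le_of_eq hx04)).upd 1 0 1 (le_of_eq hx20)).upd 2 0 1 (le_of_eq hx30)).upd 3 0 1 (le_of_eq hx40)) ![2,1,1,1] (by decide) (by decide) 0 (by decide))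
  · -- 04=(1,2)
    exact False.elim (cert_false T ((skipEmb 2).trans (Function.Embedding.refl _)) (by norm_num) (fun _ => hall _) (((((LB_zero T ((skipEmb 2).trans (Function.Embedding.refl _))).upd 0 2 2 (le_of_eq hx03)).upd 0 3 1 (le_of_eq hx04)).upd 2 0 1 (le_of_eq hx30)).upd 3 0 2 (le_of_eq hx40)) ![2,0,1,2] (by decide) (by decide) 0 (by decide))
  · -- 04=(2,1)
    exact False.elim (cert_false T ((skipEmb 2).trans (Function.Embedding.refl _)) (by norm_num) (fun _ => hall _) (((((LB_zero T ((skipEmb 2).trans (Function.Embedding.refl _))).upd 0 2 2 (le_of_eq hx03)).upd 0 3 2 (le_of_eq hx04)).upd 2 0 1 (le_of_eq hx30)).upd 3 0 1 (le_of_eq hx40)) ![2,0,1,1] (by decide) (by decide) 0 (by decide))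
  · -- 04=(1,3)
    exact False.elim (cert_false T ((skipEmb 3).trans (Function.Embedding.refl _)) (by norm_num) (fun _ => hall _) (((((LB_zero T ((skipEmb 3).trans (Function.Embedding.refl _))).upd 0 2 1 (le_of_eq hx02)).upd 0 3 1 (le_of_eq hx04)).upd 2 0 1 (le_of_eq hx20)).upd 3 0 3 (le_of_eq hx40)) ![2,0,1,3] (by decide) (by decide) 0 (by decide))
  · -- 04=(3,1)
    exact False.elim (cert_false T ((skipEmb 3).trans (Function.Embedding.refl _)) (by norm_num) (fun _ => hall _) (((((LB_zero T ((skipEmb 3).trans (Function.Embedding.refl _))).upd 0 2 1 (le_of_eq hx02)).upd 0 3 3 (le_of_eq hx04)).upd 2 0 1 (le_of_eq hx20)).upd 3 0 1 (le_of_eq hx40)) ![2,0,1,1] (by decide) (by decide) 0 (by decide))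

theorem case241 (T : NumericalType 5) (hall : ∀ i, T.IsMinusTwo i) (d : SData T)
    (h01 : N T (Function.Embedding.refl _) 0 1 = 0) (h10 : N T (Function.Embedding.refl _) 1 0 = 0)
    (h02 : N T (Function.Embedding.refl _) 0 2 = 1) (h20 : N T (Function.Embedding.refl _) 2 0 = 1)
    (h12 : N T (Function.Embedding.refl _) 1 2 = 0) (h21 : N T (Function.Embedding.refl _) 2 1 = 0)
    (h03 : N T (Function.Embedding.refl _) 0 3 = 2) (h30 : N T (Function.Embedding.refl _) 3 0 = 1)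
    (h13 : N T (Function.Embedding.refl _) 1 3 = 0) (h31 : N T (Function.Embedding.refl _) 3 1 = 0) :
    Goal T := by
  unfold Goal
  have hd := d
  obtain ⟨x01, x02, x03, x04, x10, x12, x13, x14, x20, x21, x23, x24, x30, x31, x32, x34, x40, x41, x42, x43, hx01, hx02, hx03, hx04, hx10, hx12, hx13, hx14, hx20, hx21, hx23, hx24, hx30, hx31, hx32, hx34, hx40, hx41, hx42, hx43, hw0, hm0, hw1, hm1, hw2, hm2, hw3, hm3, hw4, hm4, a00, a01, a02, a03, a04, a11, a10, a12, a13, a14, a22, a20, a21, a23, a24, a33, a30, a31, a32, a34, a44, a40, a41, a42, a43, wN01, wN02, wN12, wN03, wN13, wN23, wN04, wN14, wN24, wN34, e0, e1, e2, e3, e4, d01, d02, d12, d03, d13, d23, d04, d14, d24, d34⟩ := d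
  obtain rfl : x01 = 0 := hx01.trans h01
  obtain rfl : x10 = 0 := hx10.trans h10
  obtain rfl : x02 = 1 := hx02.trans h02
  obtain rfl : x20 = 1 := hx20.trans h20
  obtain rfl : x12 = 0 := hx12.trans h12
  obtain rfl : x21 = 0 := hx21.trans h21
  obtain rfl : x03 = 2 := hx03.trans h03
  obtain rfl : x30 = 1 := hx30.trans h30
  obtain rfl : x13 = 0 := hx13.trans h13
  obtain rfl : x31 = 0 := hx31.trans h31
  rcases d23 with ⟨rfl, rfl⟩ | ⟨rfl, rfl⟩ | ⟨rfl, rfl⟩ | ⟨rfl, rfl⟩ | ⟨rfl, rfl⟩ | ⟨rfl, rfl⟩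
  · -- 23=(0,0)
    exact case242 T hall hd hx01.symm hx10.symm hx02.symm hx20.symm hx12.symm hx21.symm hx03.symm hx30.symm hx13.symm hx31.symm hx23.symm hx32.symm
  · -- 23=(1,1)
    exact False.elim (cert_false T ((skipEmb 4).trans (Function.Embedding.refl _)) (by norm_num) (fun _ => hall _) (((((((LB_zero T ((skipEmb 4).trans (Function.Embedding.refl _))).upd 0 2 1 (le_of_eq hx02)).upd 0 3 2 (le_of_eq hx03)).upd 2 0 1 (le_of_eq hx20)).upd 2 3 1 (le_of_eq hx23)).upd 3 0 1 (le_of_eq hx30)).upd 3 2 1 (le_of_eq hx32)) ![1,0,1,1] (by decide) (by decide) 0 (by decide))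
  · -- 23=(1,2)
    exact False.elim (cert_false T ((skipEmb 4).trans (Function.Embedding.refl _)) (by norm_num) (fun _ => hall _) (((((((LB_zero T ((skipEmb 4).trans (Function.Embedding.refl _))).upd 0 2 1 (le_of_eq hx02)).upd 0 3 2 (le_of_eq hx03)).upd 2 0 1 (le_of_eq hx20)).upd 2 3 1 (le_of_eq hx23)).upd 3 0 1 (le_of_eq hx30)).upd 3 2 2 (le_of_eq hx32)) ![1,0,1,1] (by decide) (by decide) 0 (by decide))
  · -- 23=(2,1)
    exact False.elim (cert_false T ((skipEmb 4).trans (Function.Embedding.refl _)) (by norm_num) (fun _ => hall _) (((((((LB_zero T ((skipEmb 4).trans (Function.Embedding.refl _))).upd 0 2 1 (le_of_eq hx02)).upd 0 3 2 (le_of_eq hx03)).upd 2 0 1 (le_of_eq hx20)).upd 2 3 2 (le_of_eq hx23)).upd 3 0 1 (le_of_eq hx30)).upd 3 2 1 (le_of_eq hx32)) ![1,0,1,1] (by decide) (by decide) 0 (by decide))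
  · -- 23=(1,3)
    exact False.elim (cert_false T ((skipEmb 4).trans (Function.Embedding.refl _)) (by norm_num) (fun _ => hall _) (((((((LB_zero T ((skipEmb 4).trans (Function.Embedding.refl _))).upd 0 2 1 (le_of_eq hx02)).upd 0 3 2 (le_of_eq hx03)).upd 2 0 1 (le_of_eq hx20)).upd 2 3 1 (le_of_eq hx23)).upd 3 0 1 (le_of_eq hx30)).upd 3 2 3 (le_of_eq hx32)) ![1,0,1,1] (by decide) (by decide) 0 (by decide))
  · -- 23=(3,1)
    exact False.elim (cert_false T ((skipEmb 4).trans (Function.Embedding.refl _)) (by norm_num) (fun _ => hall _) (((((((LB_zero T ((skipEmb 4).trans (Function.Embedding.refl _))).upd 0 2 1 (le_of_eq hx02)).upd 0 3 2 (le_of_eq hx03)).upd 2 0 1 (le_of_eq hx20)).upd 2 3 3 (le_of_eq hx23)).upd 3 0 1 (le_of_eq hx30)).upd 3 2 1 (le_of_eq hx32)) ![1,0,1,1] (by decide) (by decide) 0 (by decide))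

theorem case256 (T : NumericalType 5) (hall : ∀ i, T.IsMinusTwo i) (d : SData T)
    (h01 : N T (Function.Embedding.refl _) 0 1 = 0) (h10 : N T (Function.Embedding.refl _) 1 0 = 0)
    (h02 : N T (Function.Embedding.refl _) 0 2 = 1) (h20 : N T (Function.Embedding.refl _) 2 0 = 1)
    (h12 : N T (Function.Embedding.refl _) 1 2 = 1) (h21 : N T (Function.Embedding.refl _) 2 1 = 1)
    (h03 : N T (Function.Embedding.refl _) 0 3 = 0) (h30 : N T (Function.Embedding.refl _) 3 0 = 0)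
    (h13 : N T (Function.Embedding.refl _) 1 3 = 2) (h31 : N T (Function.Embedding.refl _) 3 1 = 1)
    (h23 : N T (Function.Embedding.refl _) 2 3 = 0) (h32 : N T (Function.Embedding.refl _) 3 2 = 0) :
    Goal T := by
  unfold Goal
  have hd := d
  obtain ⟨x01, x02, x03, x04, x10, x12, x13, x14, x20, x21, x23, x24, x30, x31, x32, x34, x40, x41, x42, x43, hx01, hx02, hx03, hx04, hx10, hx12, hx13, hx14, hx20, hx21, hx23, hx24, hx30, hx31, hx32, hx34, hx40, hx41, hx42, hx43, hw0, hm0, hw1, hm1, hw2, hm2, hw3, hm3, hw4, hm4, a00, a01, a02, a03, a04, a11, a10, a12, a13, a14, a22, a20, a21, a23, a24, a33, a30, a31, a32, a34, a44, a40, a41, a42, a43, wN01, wN02, wN12, wN03, wN13, wN23, wN04, wN14, wN24, wN34, e0, e1, e2, e3, e4, d01, d02, d12, d03, d13, d23, d04, d14, d24, d34⟩ := d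
  obtain rfl : x01 = 0 := hx01.trans h01
  obtain rfl : x10 = 0 := hx10.trans h10
  obtain rfl : x02 = 1 := hx02.trans h02
  obtain rfl : x20 = 1 := hx20.trans h20
  obtain rfl : x12 = 1 := hx12.trans h12
  obtain rfl : x21 = 1 := hx21.trans h21
  obtain rfl : x03 = 0 := hx03.trans h03
  obtain rfl : x30 = 0 := hx30.trans h30
  obtain rfl : x13 = 2 := hx13.trans h13
  obtain rfl : x31 = 1 := hx31.trans h31
  obtain rfl : x23 = 0 := hx23.trans h23
  obtain rfl : x32 = 0 := hx32.trans h32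
  rcases d04 with ⟨rfl, rfl⟩ | ⟨rfl, rfl⟩ | ⟨rfl, rfl⟩ | ⟨rfl, rfl⟩ | ⟨rfl, rfl⟩ | ⟨rfl, rfl⟩
  · -- 04=(0,0)
    rcases d14 with ⟨rfl, rfl⟩ | ⟨rfl, rfl⟩ | ⟨rfl, rfl⟩ | ⟨rfl, rfl⟩ | ⟨rfl, rfl⟩ | ⟨rfl, rfl⟩
    · -- 14=(0,0)
      rcases d24 with ⟨rfl, rfl⟩ | ⟨rfl, rfl⟩ | ⟨rfl, rfl⟩ | ⟨rfl, rfl⟩ | ⟨rfl, rfl⟩ | ⟨rfl, rfl⟩
      · -- 24=(0,0)
        rcases d34 with ⟨rfl, rfl⟩ | ⟨rfl, rfl⟩ | ⟨rfl, rfl⟩ | ⟨rfl, rfl⟩ | ⟨rfl, rfl⟩ | ⟨rfl, rfl⟩
        · -- 34=(0,0)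
          exfalso; omega
        · -- 34=(1,1)
          refine ⟨(⟨![0, 2, 1, 3, 4], ![0, 2, 1, 3, 4], by decide, by decide⟩ : Equiv.Perm (Fin 5)), T.m 0, T.w 0, Or.inr (Or.inl ?_)⟩
          show T.m 0 = T.m 0 ∧ T.m 2 = 2 * T.m 0 ∧ T.m 1 = 3 * T.m 0 ∧ T.m 3 = 2 * T.m 0 ∧ T.m 4 = T.m 0 ∧ T.w 0 = T.w 0 ∧ T.w 2 = T.w 0 ∧ T.w 1 = T.w 0 ∧ T.w 3 = 2 * T.w 0 ∧ T.w 4 = 2 * T.w 0 ∧ T.a 0 0 = -2 * T.w 0 ∧ T.a 0 2 = T.w 0 ∧ T.a 0 1 = 0 ∧ T.a 0 3 = 0 ∧ T.a 0 4 = 0 ∧ T.a 2 2 = -2 * T.w 0 ∧ T.a 2 1 = T.w 0 ∧ T.a 2 3 = 0 ∧ T.a 2 4 = 0 ∧ T.a 1 1 = -2 * T.w 0 ∧ T.a 1 3 = 2 * T.w 0 ∧ T.a 1 4 = 0 ∧ T.a 3 3 = -4 * T.w 0 ∧ T.a 3 4 = 2 * T.w 0 ∧ T.a 4 4 = -4 * T.w 0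
          refine ⟨?_, ?_, ?_, ?_, ?_, ?_, ?_, ?_, ?_, ?_, ?_, ?_, ?_, ?_, ?_, ?_, ?_, ?_, ?_, ?_, ?_, ?_, ?_, ?_, ?_⟩ <;> omega
        · -- 34=(1,2)
          exact False.elim (cert_false T ((skipEmb 2).trans (Function.Embedding.refl _)) (by norm_num) (fun _ => hall _) (((((LB_zero T ((skipEmb 2).trans (Function.Embedding.refl _))).upd 1 2 2 (le_of_eq hx13)).upd 2 1 1 (le_of_eq hx31)).upd 2 3 1 (le_of_eq hx34)).upd 3 2 2 (le_of_eq hx43)) ![0,1,1,1] (by decide) (by decide) 1 (by decide))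
        · -- 34=(2,1)
          exact False.elim (cert_false T ((skipEmb 2).trans (Function.Embedding.refl _)) (by norm_num) (fun _ => hall _) (((((LB_zero T ((skipEmb 2).trans (Function.Embedding.refl _))).upd 1 2 2 (le_of_eq hx13)).upd 2 1 1 (le_of_eq hx31)).upd 2 3 2 (le_of_eq hx34)).upd 3 2 1 (le_of_eq hx43)) ![0,2,2,1] (by decide) (by decide) 1 (by decide))
        · -- 34=(1,3)
          exact False.elim (cert_false T ((skipEmb 2).trans (Function.Embedding.refl _)) (by norm_num) (fun _ => hall _) (((((LB_zero T ((skipEmb 2).trans (Function.Embedding.refl _))).upd 1 2 2 (le_of_eq hx13)).upd 2 1 1 (le_of_eq hx31)).upd 2 3 1 (le_of_eq hx34)).upd 3 2 3 (le_of_eq hx43)) ![0,1,1,1] (by decide) (by decide) 1 (by decide))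
        · -- 34=(3,1)
          exact False.elim (cert_false T ((skipEmb 2).trans (Function.Embedding.refl _)) (by norm_num) (fun _ => hall _) (((((LB_zero T ((skipEmb 2).trans (Function.Embedding.refl _))).upd 1 2 2 (le_of_eq hx13)).upd 2 1 1 (le_of_eq hx31)).upd 2 3 3 (le_of_eq hx34)).upd 3 2 1 (le_of_eq hx43)) ![0,1,2,1] (by decide) (by decide) 1 (by decide))
      · -- 24=(1,1)
        rcases d34 with ⟨rfl, rfl⟩ | ⟨rfl, rfl⟩ | ⟨rfl, rfl⟩ | ⟨rfl, rfl⟩ | ⟨rfl, rfl⟩ | ⟨rfl, rfl⟩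
        · -- 34=(0,0)
          refine ⟨(⟨![3, 1, 2, 0, 4], ![3, 1, 2, 0, 4], by decide, by decide⟩ : Equiv.Perm (Fin 5)), T.m 3, T.w 1, Or.inr (Or.inr (Or.inr (Or.inr (Or.inr (Or.inr (Or.inr (Or.inl ?_)))))))⟩
          show T.m 3 = T.m 3 ∧ T.m 1 = 2 * T.m 3 ∧ T.m 2 = 2 * T.m 3 ∧ T.m 0 = T.m 3 ∧ T.m 4 = T.m 3 ∧ T.w 3 = 2 * T.w 1 ∧ T.w 1 = T.w 1 ∧ T.w 2 = T.w 1 ∧ T.w 0 = T.w 1 ∧ T.w 4 = T.w 1 ∧ T.a 3 3 = -4 * T.w 1 ∧ T.a 3 1 = 2 * T.w 1 ∧ T.a 3 2 = 0 ∧ T.a 3 0 = 0 ∧ T.a 3 4 = 0 ∧ T.a 1 1 = -2 * T.w 1 ∧ T.a 1 2 = T.w 1 ∧ T.a 1 0 = 0 ∧ T.a 1 4 = 0 ∧ T.a 2 2 = -2 * T.w 1 ∧ T.a 2 0 = T.w 1 ∧ T.a 2 4 = T.w 1 ∧ T.a 0 0 = -2 * T.w 1 ∧ T.a 0 4 = 0 ∧ T.a 4 4 = -2 * T.w 1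
          refine ⟨?_, ?_, ?_, ?_, ?_, ?_, ?_, ?_, ?_, ?_, ?_, ?_, ?_, ?_, ?_, ?_, ?_, ?_, ?_, ?_, ?_, ?_, ?_, ?_, ?_⟩ <;> omega
        · -- 34=(1,1)
          exact False.elim (cert_false T ((skipEmb 0).trans (Function.Embedding.refl _)) (by norm_num) (fun _ => hall _) (((((((((LB_zero T ((skipEmb 0).trans (Function.Embedding.refl _))).upd 0 1 1 (le_of_eq hx12)).upd 0 2 2 (le_of_eq hx13)).upd 1 0 1 (le_of_eq hx21)).upd 1 3 1 (le_of_eq hx24)).upd 2 0 1 (le_of_eq hx31)).upd 2 3 1 (le_of_eq hx34)).upd 3 1 1 (le_of_eq hx42)).upd 3 2 1 (le_of_eq hx43)) ![1,1,1,1] (by decide) (by decide) 0 (by decide))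
        · -- 34=(1,2)
          exact False.elim (cert_false T ((skipEmb 2).trans (Function.Embedding.refl _)) (by norm_num) (fun _ => hall _) (((((LB_zero T ((skipEmb 2).trans (Function.Embedding.refl _))).upd 1 2 2 (le_of_eq hx13)).upd 2 1 1 (le_of_eq hx31)).upd 2 3 1 (le_of_eq hx34)).upd 3 2 2 (le_of_eq hx43)) ![0,1,1,1] (by decide) (by decide) 1 (by decide))
        · -- 34=(2,1)
          exact False.elim (cert_false T ((skipEmb 2).trans (Function.Embedding.refl _)) (by norm_num) (fun _ => hall _) (((((LB_zero T ((skipEmb 2).trans (Function.Embedding.refl _))).upd 1 2 2 (le_of_eq hx13)).upd 2 1 1 (le_of_eq hx31)).upd 2 3 2 (le_of_eq hx34)).upd 3 2 1 (le_of_eq hx43)) ![0,2,2,1] (by decide) (by decide) 1 (by decide))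
        · -- 34=(1,3)
          exact False.elim (cert_false T ((skipEmb 2).trans (Function.Embedding.refl _)) (by norm_num) (fun _ => hall _) (((((LB_zero T ((skipEmb 2).trans (Function.Embedding.refl _))).upd 1 2 2 (le_of_eq hx13)).upd 2 1 1 (le_of_eq hx31)).upd 2 3 1 (le_of_eq hx34)).upd 3 2 3 (le_of_eq hx43)) ![0,1,1,1] (by decide) (by decide) 1 (by decide))
        · -- 34=(3,1)
          exact False.elim (cert_false T ((skipEmb 2).trans (Function.Embedding.refl _)) (by norm_num) (fun _ => hall _) (((((LB_zero T ((skipEmb 2).trans (Function.Embedding.refl _))).upd 1 2 2 (le_of_eq hx13)).upd 2 1 1 (le_of_eq hx31)).upd 2 3 3 (le_of_eq hx34)).upd 3 2 1 (le_of_eq hx43)) ![0,1,2,1] (by decide) (by decide) 1 (by decide))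
      · -- 24=(1,2)
        exact False.elim (cert_false T ((skipEmb 3).trans (Function.Embedding.refl _)) (by norm_num) (fun _ => hall _) (((((((LB_zero T ((skipEmb 3).trans (Function.Embedding.refl _))).upd 0 2 1 (le_of_eq hx02)).upd 1 2 1 (le_of_eq hx12)).upd 2 0 1 (le_of_eq hx20)).upd 2 1 1 (le_of_eq hx21)).upd 2 3 1 (le_of_eq hx24)).upd 3 2 2 (le_of_eq hx42)) ![1,1,2,2] (by decide) (by decide) 0 (by decide))
      · -- 24=(2,1)
        exact False.elim (cert_false T ((skipEmb 3).trans (Function.Embedding.refl _)) (by norm_num) (fun _ => hall _) (((((((LB_zero T ((skipEmb 3).trans (Function.Embedding.refl _))).upd 0 2 1 (le_of_eq hx02)).upd 1 2 1 (le_of_eq hx12)).upd 2 0 1 (le_of_eq hx20)).upd 2 1 1 (le_of_eq hx21)).upd 2 3 2 (le_of_eq hx24)).upd 3 2 1 (le_of_eq hx42)) ![1,1,2,1] (by decide) (by decide) 0 (by decide))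
      · -- 24=(1,3)
        exact False.elim (cert_false T ((skipEmb 3).trans (Function.Embedding.refl _)) (by norm_num) (fun _ => hall _) (((((((LB_zero T ((skipEmb 3).trans (Function.Embedding.refl _))).upd 0 2 1 (le_of_eq hx02)).upd 1 2 1 (le_of_eq hx12)).upd 2 0 1 (le_of_eq hx20)).upd 2 1 1 (le_of_eq hx21)).upd 2 3 1 (le_of_eq hx24)).upd 3 2 3 (le_of_eq hx42)) ![1,1,2,2] (by decide) (by decide) 0 (by decide))
      · -- 24=(3,1)
        exact False.elim (cert_false T ((skipEmb 3).trans (Function.Embedding.refl _)) (by norm_num) (fun _ => hall _) (((((LB_zero T ((skipEmb 3).trans (Function.Embedding.refl _))).upd 1 2 1 (le_of_eq hx12)).upd 2 1 1 (le_of_eq hx21)).upd 2 3 3 (le_of_eq hx24)).upd 3 2 1 (le_of_eq hx42)) ![0,1,2,1] (by decide) (by decide) 1 (by decide))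
    · -- 14=(1,1)
      exact False.elim (cert_false T ((skipEmb 0).trans (Function.Embedding.refl _)) (by norm_num) (fun _ => hall _) (((((((LB_zero T ((skipEmb 0).trans (Function.Embedding.refl _))).upd 0 1 1 (le_of_eq hx12)).upd 0 2 2 (le_of_eq hx13)).upd 0 3 1 (le_of_eq hx14)).upd 1 0 1 (le_of_eq hx21)).upd 2 0 1 (le_of_eq hx31)).upd 3 0 1 (le_of_eq hx41)) ![2,1,1,1] (by decide) (by decide) 0 (by decide))
    · -- 14=(1,2)
      exact False.elim (cert_false T ((skipEmb 2).trans (Function.Embedding.refl _)) (by norm_num) (fun _ => hall _) (((((LB_zero T ((skipEmb 2).trans (Function.Embedding.refl _))).upd 1 2 2 (le_of_eq hx13)).upd 1 3 1 (le_of_eq hx14)).upd 2 1 1 (le_of_eq hx31)).upd 3 1 2 (le_of_eq hx41)) ![0,2,1,2] (by decide) (by decide) 1 (by decide))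
    · -- 14=(2,1)
      exact False.elim (cert_false T ((skipEmb 2).trans (Function.Embedding.refl _)) (by norm_num) (fun _ => hall _) (((((LB_zero T ((skipEmb 2).trans (Function.Embedding.refl _))).upd 1 2 2 (le_of_eq hx13)).upd 1 3 2 (le_of_eq hx14)).upd 2 1 1 (le_of_eq hx31)).upd 3 1 1 (le_of_eq hx41)) ![0,2,1,1] (by decide) (by decide) 1 (by decide))
    · -- 14=(1,3)
      exact False.elim (cert_false T ((skipEmb 3).trans (Function.Embedding.refl _)) (by norm_num) (fun _ => hall _) (((((LB_zero T ((skipEmb 3).trans (Function.Embedding.refl _))).upd 1 2 1 (le_of_eq hx12)).upd 1 3 1 (le_of_eq hx14)).upd 2 1 1 (le_of_eq hx21)).upd 3 1 3 (le_of_eq hx41)) ![0,2,1,3] (by decide) (by decide) 1 (by decide))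
    · -- 14=(3,1)
      exact False.elim (cert_false T ((skipEmb 3).trans (Function.Embedding.refl _)) (by norm_num) (fun _ => hall _) (((((LB_zero T ((skipEmb 3).trans (Function.Embedding.refl _))).upd 1 2 1 (le_of_eq hx12)).upd 1 3 3 (le_of_eq hx14)).upd 2 1 1 (le_of_eq hx21)).upd 3 1 1 (le_of_eq hx41)) ![0,2,1,1] (by decide) (by decide) 1 (by decide))
  · -- 04=(1,1)
    rcases d14 with ⟨rfl, rfl⟩ | ⟨rfl, rfl⟩ | ⟨rfl, rfl⟩ | ⟨rfl, rfl⟩ | ⟨rfl, rfl⟩ | ⟨rfl, rfl⟩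
    · -- 14=(0,0)
      rcases d24 with ⟨rfl, rfl⟩ | ⟨rfl, rfl⟩ | ⟨rfl, rfl⟩ | ⟨rfl, rfl⟩ | ⟨rfl, rfl⟩ | ⟨rfl, rfl⟩
      · -- 24=(0,0)
        rcases d34 with ⟨rfl, rfl⟩ | ⟨rfl, rfl⟩ | ⟨rfl, rfl⟩ | ⟨rfl, rfl⟩ | ⟨rfl, rfl⟩ | ⟨rfl, rfl⟩
        · -- 34=(0,0)
          exfalso; omega
        · -- 34=(1,1)
          exfalso; omega
        · -- 34=(1,2)
          exact False.elim (cert_false T ((skipEmb 2).trans (Function.Embedding.refl _)) (by norm_num) (fun _ => hall _) (((((LB_zero T ((skipEmb 2).trans (Function.Embedding.refl _))).upd 1 2 2 (le_of_eq hx13)).upd 2 1 1 (le_of_eq hx31)).upd 2 3 1 (le_of_eq hx34)).upd 3 2 2 (le_of_eq hx43)) ![0,1,1,1] (by decide) (by decide) 1 (by decide))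
        · -- 34=(2,1)
          exact False.elim (cert_false T ((skipEmb 2).trans (Function.Embedding.refl _)) (by norm_num) (fun _ => hall _) (((((LB_zero T ((skipEmb 2).trans (Function.Embedding.refl _))).upd 1 2 2 (le_of_eq hx13)).upd 2 1 1 (le_of_eq hx31)).upd 2 3 2 (le_of_eq hx34)).upd 3 2 1 (le_of_eq hx43)) ![0,2,2,1] (by decide) (by decide) 1 (by decide))
        · -- 34=(1,3)
          exact False.elim (cert_false T ((skipEmb 2).trans (Function.Embedding.refl _)) (by norm_num) (fun _ => hall _) (((((LB_zero T ((skipEmb 2).trans (Function.Embedding.refl _))).upd 1 2 2 (le_of_eq hx13)).upd 2 1 1 (le_of_eq hx31)).upd 2 3 1 (le_of_eq hx34)).upd 3 2 3 (le_of_eq hx43)) ![0,1,1,1] (by decide) (by decide) 1 (by decide))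
        · -- 34=(3,1)
          exact False.elim (cert_false T ((skipEmb 2).trans (Function.Embedding.refl _)) (by norm_num) (fun _ => hall _) (((((LB_zero T ((skipEmb 2).trans (Function.Embedding.refl _))).upd 1 2 2 (le_of_eq hx13)).upd 2 1 1 (le_of_eq hx31)).upd 2 3 3 (le_of_eq hx34)).upd 3 2 1 (le_of_eq hx43)) ![0,1,2,1] (by decide) (by decide) 1 (by decide))
      · -- 24=(1,1)
        exact False.elim (cert_false T ((skipEmb 3).trans (Function.Embedding.refl _)) (by norm_num) (fun _ => hall _) (((((((LB_zero T ((skipEmb 3).trans (Function.Embedding.refl _))).upd 0 2 1 (le_of_eq hx02)).upd 0 3 1 (le_of_eq hx04)).upd 2 0 1 (le_of_eq hx20)).upd 2 3 1 (le_of_eq hx24)).upd 3 0 1 (le_of_eq hx40)).upd 3 2 1 (le_of_eq hx42)) ![1,0,1,1] (by decide) (by decide) 0 (by decide))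
      · -- 24=(1,2)
        exact False.elim (cert_false T ((skipEmb 3).trans (Function.Embedding.refl _)) (by norm_num) (fun _ => hall _) (((((((LB_zero T ((skipEmb 3).trans (Function.Embedding.refl _))).upd 0 2 1 (le_of_eq hx02)).upd 0 3 1 (le_of_eq hx04)).upd 2 0 1 (le_of_eq hx20)).upd 2 3 1 (le_of_eq hx24)).upd 3 0 1 (le_of_eq hx40)).upd 3 2 2 (le_of_eq hx42)) ![1,0,1,1] (by decide) (by decide) 0 (by decide))
      · -- 24=(2,1)
        exact False.elim (cert_false T ((skipEmb 3).trans (Function.Embedding.refl _)) (by norm_num) (fun _ => hall _) (((((((LB_zero T ((skipEmb 3).trans (Function.Embedding.refl _))).upd 0 2 1 (le_of_eq hx02)).upd 0 3 1 (le_of_eq hx04)).upd 2 0 1 (le_of_eq hx20)).upd 2 3 2 (le_of_eq hx24)).upd 3 0 1 (le_of_eq hx40)).upd 3 2 1 (le_of_eq hx42)) ![1,0,1,1] (by decide) (by decide) 0 (by decide))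
      · -- 24=(1,3)
        exact False.elim (cert_false T ((skipEmb 3).trans (Function.Embedding.refl _)) (by norm_num) (fun _ => hall _) (((((((LB_zero T ((skipEmb 3).trans (Function.Embedding.refl _))).upd 0 2 1 (le_of_eq hx02)).upd 0 3 1 (le_of_eq hx04)).upd 2 0 1 (le_of_eq hx20)).upd 2 3 1 (le_of_eq hx24)).upd 3 0 1 (le_of_eq hx40)).upd 3 2 3 (le_of_eq hx42)) ![1,0,1,1] (by decide) (by decide) 0 (by decide))
      · -- 24=(3,1)
        exact False.elim (cert_false T ((skipEmb 3).trans (Function.Embedding.refl _)) (by norm_num) (fun _ => hall _) (((((((LB_zero T ((skipEmb 3).trans (Function.Embedding.refl _))).upd 0 2 1 (le_of_eq hx02)).upd 0 3 1 (le_of_eq hx04)).upd 2 0 1 (le_of_eq hx20)).upd 2 3 3 (le_of_eq hx24)).upd 3 0 1 (le_of_eq hx40)).upd 3 2 1 (le_of_eq hx42)) ![1,0,1,1] (by decide) (by decide) 0 (by decide))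
    · -- 14=(1,1)
      exact False.elim (cert_false T ((skipEmb 3).trans (Function.Embedding.refl _)) (by norm_num) (fun _ => hall _) (((((((((LB_zero T ((skipEmb 3).trans (Function.Embedding.refl _))).upd 0 2 1 (le_of_eq hx02)).upd 0 3 1 (le_of_eq hx04)).upd 1 2 1 (le_of_eq hx12)).upd 1 3 1 (le_of_eq hx14)).upd 2 0 1 (le_of_eq hx20)).upd 2 1 1 (le_of_eq hx21)).upd 3 0 1 (le_of_eq hx40)).upd 3 1 1 (le_of_eq hx41)) ![1,1,1,1] (by decide) (by decide) 0 (by decide))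
    · -- 14=(1,2)
      exact False.elim (cert_false T ((skipEmb 3).trans (Function.Embedding.refl _)) (by norm_num) (fun _ => hall _) (((((((((LB_zero T ((skipEmb 3).trans (Function.Embedding.refl _))).upd 0 2 1 (le_of_eq hx02)).upd 0 3 1 (le_of_eq hx04)).upd 1 2 1 (le_of_eq hx12)).upd 1 3 1 (le_of_eq hx14)).upd 2 0 1 (le_of_eq hx20)).upd 2 1 1 (le_of_eq hx21)).upd 3 0 1 (le_of_eq hx40)).upd 3 1 2 (le_of_eq hx41)) ![1,1,1,1] (by decide) (by decide) 0 (by decide))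
    · -- 14=(2,1)
      exact False.elim (cert_false T ((skipEmb 3).trans (Function.Embedding.refl _)) (by norm_num) (fun _ => hall _) (((((((((LB_zero T ((skipEmb 3).trans (Function.Embedding.refl _))).upd 0 2 1 (le_of_eq hx02)).upd 0 3 1 (le_of_eq hx04)).upd 1 2 1 (le_of_eq hx12)).upd 1 3 2 (le_of_eq hx14)).upd 2 0 1 (le_of_eq hx20)).upd 2 1 1 (le_of_eq hx21)).upd 3 0 1 (le_of_eq hx40)).upd 3 1 1 (le_of_eq hx41)) ![1,1,1,1] (by decide) (by decide) 0 (by decide))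
    · -- 14=(1,3)
      exact False.elim (cert_false T ((skipEmb 3).trans (Function.Embedding.refl _)) (by norm_num) (fun _ => hall _) (((((((((LB_zero T ((skipEmb 3).trans (Function.Embedding.refl _))).upd 0 2 1 (le_of_eq hx02)).upd 0 3 1 (le_of_eq hx04)).upd 1 2 1 (le_of_eq hx12)).upd 1 3 1 (le_of_eq hx14)).upd 2 0 1 (le_of_eq hx20)).upd 2 1 1 (le_of_eq hx21)).upd 3 0 1 (le_of_eq hx40)).upd 3 1 3 (le_of_eq hx41)) ![1,1,1,1] (by decide) (by decide) 0 (by decide))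
    · -- 14=(3,1)
      exact False.elim (cert_false T ((skipEmb 3).trans (Function.Embedding.refl _)) (by norm_num) (fun _ => hall _) (((((((((LB_zero T ((skipEmb 3).trans (Function.Embedding.refl _))).upd 0 2 1 (le_of_eq hx02)).upd 0 3 1 (le_of_eq hx04)).upd 1 2 1 (le_of_eq hx12)).upd 1 3 3 (le_of_eq hx14)).upd 2 0 1 (le_of_eq hx20)).upd 2 1 1 (le_of_eq hx21)).upd 3 0 1 (le_of_eq hx40)).upd 3 1 1 (le_of_eq hx41)) ![1,1,1,1] (by decide) (by decide) 0 (by decide))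
  · -- 04=(1,2)
    rcases d14 with ⟨rfl, rfl⟩ | ⟨rfl, rfl⟩ | ⟨rfl, rfl⟩ | ⟨rfl, rfl⟩ | ⟨rfl, rfl⟩ | ⟨rfl, rfl⟩
    · -- 14=(0,0)
      rcases d24 with ⟨rfl, rfl⟩ | ⟨rfl, rfl⟩ | ⟨rfl, rfl⟩ | ⟨rfl, rfl⟩ | ⟨rfl, rfl⟩ | ⟨rfl, rfl⟩
      · -- 24=(0,0)
        rcases d34 with ⟨rfl, rfl⟩ | ⟨rfl, rfl⟩ | ⟨rfl, rfl⟩ | ⟨rfl, rfl⟩ | ⟨rfl, rfl⟩ | ⟨rfl, rfl⟩
        · -- 34=(0,0)
          refine ⟨(⟨![4, 0, 2, 1, 3], ![1, 3, 2, 4, 0], by decide, by decide⟩ : Equiv.Perm (Fin 5)), T.m 3, T.w 4, Or.inr (Or.inr (Or.inr (Or.inl ?_)))⟩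
          show T.m 4 = 2 * T.m 3 ∧ T.m 0 = 2 * T.m 3 ∧ T.m 2 = 2 * T.m 3 ∧ T.m 1 = 2 * T.m 3 ∧ T.m 3 = T.m 3 ∧ T.w 4 = T.w 4 ∧ T.w 0 = 2 * T.w 4 ∧ T.w 2 = 2 * T.w 4 ∧ T.w 1 = 2 * T.w 4 ∧ T.w 3 = 4 * T.w 4 ∧ T.a 4 4 = -2 * T.w 4 ∧ T.a 4 0 = 2 * T.w 4 ∧ T.a 4 2 = 0 ∧ T.a 4 1 = 0 ∧ T.a 4 3 = 0 ∧ T.a 0 0 = -4 * T.w 4 ∧ T.a 0 2 = 2 * T.w 4 ∧ T.a 0 1 = 0 ∧ T.a 0 3 = 0 ∧ T.a 2 2 = -4 * T.w 4 ∧ T.a 2 1 = 2 * T.w 4 ∧ T.a 2 3 = 0 ∧ T.a 1 1 = -4 * T.w 4 ∧ T.a 1 3 = 4 * T.w 4 ∧ T.a 3 3 = -8 * T.w 4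
          refine ⟨?_, ?_, ?_, ?_, ?_, ?_, ?_, ?_, ?_, ?_, ?_, ?_, ?_, ?_, ?_, ?_, ?_, ?_, ?_, ?_, ?_, ?_, ?_, ?_, ?_⟩ <;> omega
        · -- 34=(1,1)
          exact False.elim (cert_false T ((skipEmb 2).trans (Function.Embedding.refl _)) (by norm_num) (fun _ => hall _) (((((((LB_zero T ((skipEmb 2).trans (Function.Embedding.refl _))).upd 0 3 1 (le_of_eq hx04)).upd 1 2 2 (le_of_eq hx13)).upd 2 1 1 (le_of_eq hx31)).upd 2 3 1 (le_of_eq hx34)).upd 3 0 2 (le_of_eq hx40)).upd 3 2 1 (le_of_eq hx43)) ![1,2,2,2] (by decide) (by decide) 0 (by decide))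
        · -- 34=(1,2)
          exact False.elim (cert_false T ((skipEmb 2).trans (Function.Embedding.refl _)) (by norm_num) (fun _ => hall _) (((((LB_zero T ((skipEmb 2).trans (Function.Embedding.refl _))).upd 1 2 2 (le_of_eq hx13)).upd 2 1 1 (le_of_eq hx31)).upd 2 3 1 (le_of_eq hx34)).upd 3 2 2 (le_of_eq hx43)) ![0,1,1,1] (by decide) (by decide) 1 (by decide))
        · -- 34=(2,1)
          exact False.elim (cert_false T ((skipEmb 2).trans (Function.Embedding.refl _)) (by norm_num) (fun _ => hall _) (((((LB_zero T ((skipEmb 2).trans (Function.Embedding.refl _))).upd 0 3 1 (le_of_eq hx04)).upd 2 3 2 (le_of_eq hx34)).upd 3 0 2 (le_of_eq hx40)).upd 3 2 1 (le_of_eq hx43)) ![1,0,2,2] (by decide) (by decide) 0 (by decide))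
        · -- 34=(1,3)
          exact False.elim (cert_false T ((skipEmb 2).trans (Function.Embedding.refl _)) (by norm_num) (fun _ => hall _) (((((LB_zero T ((skipEmb 2).trans (Function.Embedding.refl _))).upd 1 2 2 (le_of_eq hx13)).upd 2 1 1 (le_of_eq hx31)).upd 2 3 1 (le_of_eq hx34)).upd 3 2 3 (le_of_eq hx43)) ![0,1,1,1] (by decide) (by decide) 1 (by decide))
        · -- 34=(3,1)
          exact False.elim (cert_false T ((skipEmb 2).trans (Function.Embedding.refl _)) (by norm_num) (fun _ => hall _) (((((LB_zero T ((skipEmb 2).trans (Function.Embedding.refl _))).upd 0 3 1 (le_of_eq hx04)).upd 2 3 3 (le_of_eq hx34)).upd 3 0 2 (le_of_eq hx40)).upd 3 2 1 (le_of_eq hx43)) ![1,0,2,2] (by decide) (by decide) 0 (by decide))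
      · -- 24=(1,1)
        exact False.elim (cert_false T ((skipEmb 3).trans (Function.Embedding.refl _)) (by norm_num) (fun _ => hall _) (((((((LB_zero T ((skipEmb 3).trans (Function.Embedding.refl _))).upd 0 2 1 (le_of_eq hx02)).upd 0 3 1 (le_of_eq hx04)).upd 2 0 1 (le_of_eq hx20)).upd 2 3 1 (le_of_eq hx24)).upd 3 0 2 (le_of_eq hx40)).upd 3 2 1 (le_of_eq hx42)) ![1,0,1,1] (by decide) (by decide) 0 (by decide))
      · -- 24=(1,2)
        exact False.elim (cert_false T ((skipEmb 3).trans (Function.Embedding.refl _)) (by norm_num) (fun _ => hall _) (((((((LB_zero T ((skipEmb 3).trans (Function.Embedding.refl _))).upd 0 2 1 (le_of_eq hx02)).upd 0 3 1 (le_of_eq hx04)).upd 2 0 1 (le_of_eq hx20)).upd 2 3 1 (le_of_eq hx24)).upd 3 0 2 (le_of_eq hx40)).upd 3 2 2 (le_of_eq hx42)) ![1,0,1,1] (by decide) (by decide) 0 (by decide))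
      · -- 24=(2,1)
        exact False.elim (cert_false T ((skipEmb 3).trans (Function.Embedding.refl _)) (by norm_num) (fun _ => hall _) (((((((LB_zero T ((skipEmb 3).trans (Function.Embedding.refl _))).upd 0 2 1 (le_of_eq hx02)).upd 0 3 1 (le_of_eq hx04)).upd 2 0 1 (le_of_eq hx20)).upd 2 3 2 (le_of_eq hx24)).upd 3 0 2 (le_of_eq hx40)).upd 3 2 1 (le_of_eq hx42)) ![1,0,1,1] (by decide) (by decide) 0 (by decide))
      · -- 24=(1,3)
        exact False.elim (cert_false T ((skipEmb 3).trans (Function.Embedding.refl _)) (by norm_num) (fun _ => hall _) (((((((LB_zero T ((skipEmb 3).trans (Function.Embedding.refl _))).upd 0 2 1 (le_of_eq hx02)).upd 0 3 1 (le_of_eq hx04)).upd 2 0 1 (le_of_eq hx20)).upd 2 3 1 (le_of_eq hx24)).upd 3 0 2 (le_of_eq hx40)).upd 3 2 3 (le_of_eq hx42)) ![1,0,1,1] (by decide) (by decide) 0 (by decide))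
      · -- 24=(3,1)
        exact False.elim (cert_false T ((skipEmb 3).trans (Function.Embedding.refl _)) (by norm_num) (fun _ => hall _) (((((((LB_zero T ((skipEmb 3).trans (Function.Embedding.refl _))).upd 0 2 1 (le_of_eq hx02)).upd 0 3 1 (le_of_eq hx04)).upd 2 0 1 (le_of_eq hx20)).upd 2 3 3 (le_of_eq hx24)).upd 3 0 2 (le_of_eq hx40)).upd 3 2 1 (le_of_eq hx42)) ![1,0,1,1] (by decide) (by decide) 0 (by decide))
    · -- 14=(1,1)
      exact False.elim (cert_false T ((skipEmb 3).trans (Function.Embedding.refl _)) (by norm_num) (fun _ => hall _) (((((((((LB_zero T ((skipEmb 3).trans (Function.Embedding.refl _))).upd 0 2 1 (le_of_eq hx02)).upd 0 3 1 (le_of_eq hx04)).upd 1 2 1 (le_of_eq hx12)).upd 1 3 1 (le_of_eq hx14)).upd 2 0 1 (le_of_eq hx20)).upd 2 1 1 (le_of_eq hx21)).upd 3 0 2 (le_of_eq hx40)).upd 3 1 1 (le_of_eq hx41)) ![1,1,1,1] (by decide) (by decide) 0 (by decide))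
    · -- 14=(1,2)
      exact False.elim (cert_false T ((skipEmb 3).trans (Function.Embedding.refl _)) (by norm_num) (fun _ => hall _) (((((((((LB_zero T ((skipEmb 3).trans (Function.Embedding.refl _))).upd 0 2 1 (le_of_eq hx02)).upd 0 3 1 (le_of_eq hx04)).upd 1 2 1 (le_of_eq hx12)).upd 1 3 1 (le_of_eq hx14)).upd 2 0 1 (le_of_eq hx20)).upd 2 1 1 (le_of_eq hx21)).upd 3 0 2 (le_of_eq hx40)).upd 3 1 2 (le_of_eq hx41)) ![1,1,1,1] (by decide) (by decide) 0 (by decide))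
    · -- 14=(2,1)
      exact False.elim (cert_false T ((skipEmb 3).trans (Function.Embedding.refl _)) (by norm_num) (fun _ => hall _) (((((((((LB_zero T ((skipEmb 3).trans (Function.Embedding.refl _))).upd 0 2 1 (le_of_eq hx02)).upd 0 3 1 (le_of_eq hx04)).upd 1 2 1 (le_of_eq hx12)).upd 1 3 2 (le_of_eq hx14)).upd 2 0 1 (le_of_eq hx20)).upd 2 1 1 (le_of_eq hx21)).upd 3 0 2 (le_of_eq hx40)).upd 3 1 1 (le_of_eq hx41)) ![1,1,1,1] (by decide) (by decide) 0 (by decide))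
    · -- 14=(1,3)
      exact False.elim (cert_false T ((skipEmb 3).trans (Function.Embedding.refl _)) (by norm_num) (fun _ => hall _) (((((((((LB_zero T ((skipEmb 3).trans (Function.Embedding.refl _))).upd 0 2 1 (le_of_eq hx02)).upd 0 3 1 (le_of_eq hx04)).upd 1 2 1 (le_of_eq hx12)).upd 1 3 1 (le_of_eq hx14)).upd 2 0 1 (le_of_eq hx20)).upd 2 1 1 (le_of_eq hx21)).upd 3 0 2 (le_of_eq hx40)).upd 3 1 3 (le_of_eq hx41)) ![1,1,1,1] (by decide) (by decide) 0 (by decide))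
    · -- 14=(3,1)
      exact False.elim (cert_false T ((skipEmb 3).trans (Function.Embedding.refl _)) (by norm_num) (fun _ => hall _) (((((((((LB_zero T ((skipEmb 3).trans (Function.Embedding.refl _))).upd 0 2 1 (le_of_eq hx02)).upd 0 3 1 (le_of_eq hx04)).upd 1 2 1 (le_of_eq hx12)).upd 1 3 3 (le_of_eq hx14)).upd 2 0 1 (le_of_eq hx20)).upd 2 1 1 (le_of_eq hx21)).upd 3 0 2 (le_of_eq hx40)).upd 3 1 1 (le_of_eq hx41)) ![1,1,1,1] (by decide) (by decide) 0 (by decide))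
  · -- 04=(2,1)
    rcases d14 with ⟨rfl, rfl⟩ | ⟨rfl, rfl⟩ | ⟨rfl, rfl⟩ | ⟨rfl, rfl⟩ | ⟨rfl, rfl⟩ | ⟨rfl, rfl⟩
    · -- 14=(0,0)
      rcases d24 with ⟨rfl, rfl⟩ | ⟨rfl, rfl⟩ | ⟨rfl, rfl⟩ | ⟨rfl, rfl⟩ | ⟨rfl, rfl⟩ | ⟨rfl, rfl⟩
      · -- 24=(0,0)
        rcases d34 with ⟨rfl, rfl⟩ | ⟨rfl, rfl⟩ | ⟨rfl, rfl⟩ | ⟨rfl, rfl⟩ | ⟨rfl, rfl⟩ | ⟨rfl, rfl⟩
        · -- 34=(0,0)
          refine ⟨(⟨![3, 1, 2, 0, 4], ![3, 1, 2, 0, 4], by decide, by decide⟩ : Equiv.Perm (Fin 5)), T.m 3, T.w 1, Or.inr (Or.inr (Or.inr (Or.inr (Or.inr (Or.inl ?_)))))⟩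
          show T.m 3 = T.m 3 ∧ T.m 1 = 2 * T.m 3 ∧ T.m 2 = 2 * T.m 3 ∧ T.m 0 = 2 * T.m 3 ∧ T.m 4 = T.m 3 ∧ T.w 3 = 2 * T.w 1 ∧ T.w 1 = T.w 1 ∧ T.w 2 = T.w 1 ∧ T.w 0 = T.w 1 ∧ T.w 4 = 2 * T.w 1 ∧ T.a 3 3 = -4 * T.w 1 ∧ T.a 3 1 = 2 * T.w 1 ∧ T.a 3 2 = 0 ∧ T.a 3 0 = 0 ∧ T.a 3 4 = 0 ∧ T.a 1 1 = -2 * T.w 1 ∧ T.a 1 2 = T.w 1 ∧ T.a 1 0 = 0 ∧ T.a 1 4 = 0 ∧ T.a 2 2 = -2 * T.w 1 ∧ T.a 2 0 = T.w 1 ∧ T.a 2 4 = 0 ∧ T.a 0 0 = -2 * T.w 1 ∧ T.a 0 4 = 2 * T.w 1 ∧ T.a 4 4 = -4 * T.w 1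
          refine ⟨?_, ?_, ?_, ?_, ?_, ?_, ?_, ?_, ?_, ?_, ?_, ?_, ?_, ?_, ?_, ?_, ?_, ?_, ?_, ?_, ?_, ?_, ?_, ?_, ?_⟩ <;> omega
        · -- 34=(1,1)
          exact False.elim (cert_false T ((skipEmb 2).trans (Function.Embedding.refl _)) (by norm_num) (fun _ => hall _) (((((((LB_zero T ((skipEmb 2).trans (Function.Embedding.refl _))).upd 0 3 2 (le_of_eq hx04)).upd 1 2 2 (le_of_eq hx13)).upd 2 1 1 (le_of_eq hx31)).upd 2 3 1 (le_of_eq hx34)).upd 3 0 1 (le_of_eq hx40)).upd 3 2 1 (le_of_eq hx43)) ![1,1,1,1] (by decide) (by decide) 0 (by decide))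
        · -- 34=(1,2)
          exact False.elim (cert_false T ((skipEmb 2).trans (Function.Embedding.refl _)) (by norm_num) (fun _ => hall _) (((((LB_zero T ((skipEmb 2).trans (Function.Embedding.refl _))).upd 1 2 2 (le_of_eq hx13)).upd 2 1 1 (le_of_eq hx31)).upd 2 3 1 (le_of_eq hx34)).upd 3 2 2 (le_of_eq hx43)) ![0,1,1,1] (by decide) (by decide) 1 (by decide))
        · -- 34=(2,1)
          exact False.elim (cert_false T ((skipEmb 2).trans (Function.Embedding.refl _)) (by norm_num) (fun _ => hall _) (((((LB_zero T ((skipEmb 2).trans (Function.Embedding.refl _))).upd 0 3 2 (le_of_eq hx04)).upd 2 3 2 (le_of_eq hx34)).upd 3 0 1 (le_of_eq hx40)).upd 3 2 1 (le_of_eq hx43)) ![1,0,1,1] (by decide) (by decide) 0 (by decide))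
        · -- 34=(1,3)
          exact False.elim (cert_false T ((skipEmb 2).trans (Function.Embedding.refl _)) (by norm_num) (fun _ => hall _) (((((LB_zero T ((skipEmb 2).trans (Function.Embedding.refl _))).upd 1 2 2 (le_of_eq hx13)).upd 2 1 1 (le_of_eq hx31)).upd 2 3 1 (le_of_eq hx34)).upd 3 2 3 (le_of_eq hx43)) ![0,1,1,1] (by decide) (by decide) 1 (by decide))
        · -- 34=(3,1)
          exact False.elim (cert_false T ((skipEmb 2).trans (Function.Embedding.refl _)) (by norm_num) (fun _ => hall _) (((((LB_zero T ((skipEmb 2).trans (Function.Embedding.refl _))).upd 0 3 2 (le_of_eq hx04)).upd 2 3 3 (le_of_eq hx34)).upd 3 0 1 (le_of_eq hx40)).upd 3 2 1 (le_of_eq hx43)) ![1,0,1,1] (by decide) (by decide) 0 (by decide))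
      · -- 24=(1,1)
        exact False.elim (cert_false T ((skipEmb 3).trans (Function.Embedding.refl _)) (by norm_num) (fun _ => hall _) (((((((LB_zero T ((skipEmb 3).trans (Function.Embedding.refl _))).upd 0 2 1 (le_of_eq hx02)).upd 0 3 2 (le_of_eq hx04)).upd 2 0 1 (le_of_eq hx20)).upd 2 3 1 (le_of_eq hx24)).upd 3 0 1 (le_of_eq hx40)).upd 3 2 1 (le_of_eq hx42)) ![1,0,1,1] (by decide) (by decide) 0 (by decide))
      · -- 24=(1,2)
        exact False.elim (cert_false T ((skipEmb 3).trans (Function.Embedding.refl _)) (by norm_num) (fun _ => hall _) (((((((LB_zero T ((skipEmb 3).trans (Function.Embedding.refl _))).upd 0 2 1 (le_of_eq hx02)).upd 0 3 2 (le_of_eq hx04)).upd 2 0 1 (le_of_eq hx20)).upd 2 3 1 (le_of_eq hx24)).upd 3 0 1 (le_of_eq hx40)).upd 3 2 2 (le_of_eq hx42)) ![1,0,1,1] (by decide) (by decide) 0 (by decide))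
      · -- 24=(2,1)
        exact False.elim (cert_false T ((skipEmb 3).trans (Function.Embedding.refl _)) (by norm_num) (fun _ => hall _) (((((((LB_zero T ((skipEmb 3).trans (Function.Embedding.refl _))).upd 0 2 1 (le_of_eq hx02)).upd 0 3 2 (le_of_eq hx04)).upd 2 0 1 (le_of_eq hx20)).upd 2 3 2 (le_of_eq hx24)).upd 3 0 1 (le_of_eq hx40)).upd 3 2 1 (le_of_eq hx42)) ![1,0,1,1] (by decide) (by decide) 0 (by decide))
      · -- 24=(1,3)
        exact False.elim (cert_false T ((skipEmb 3).trans (Function.Embedding.refl _)) (by norm_num) (fun _ => hall _) (((((((LB_zero T ((skipEmb 3).trans (Function.Embedding.refl _))).upd 0 2 1 (le_of_eq hx02)).upd 0 3 2 (le_of_eq hx04)).upd 2 0 1 (le_of_eq hx20)).upd 2 3 1 (le_of_eq hx24)).upd 3 0 1 (le_of_eq hx40)).upd 3 2 3 (le_of_eq hx42)) ![1,0,1,1] (by decide) (by decide) 0 (by decide))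
      · -- 24=(3,1)
        exact False.elim (cert_false T ((skipEmb 3).trans (Function.Embedding.refl _)) (by norm_num) (fun _ => hall _) (((((((LB_zero T ((skipEmb 3).trans (Function.Embedding.refl _))).upd 0 2 1 (le_of_eq hx02)).upd 0 3 2 (le_of_eq hx04)).upd 2 0 1 (le_of_eq hx20)).upd 2 3 3 (le_of_eq hx24)).upd 3 0 1 (le_of_eq hx40)).upd 3 2 1 (le_of_eq hx42)) ![1,0,1,1] (by decide) (by decide) 0 (by decide))
    · -- 14=(1,1)
      exact False.elim (cert_false T ((skipEmb 3).trans (Function.Embedding.refl _)) (by norm_num) (fun _ => hall _) (((((((((LB_zero T ((skipEmb 3).trans (Function.Embedding.refl _))).upd 0 2 1 (le_of_eq hx02)).upd 0 3 2 (le_of_eq hx04)).upd 1 2 1 (le_of_eq hx12)).upd 1 3 1 (le_of_eq hx14)).upd 2 0 1 (le_of_eq hx20)).upd 2 1 1 (le_of_eq hx21)).upd 3 0 1 (le_of_eq hx40)).upd 3 1 1 (le_of_eq hx41)) ![1,1,1,1] (by decide) (by decide) 0 (by decide))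
    · -- 14=(1,2)
      exact False.elim (cert_false T ((skipEmb 3).trans (Function.Embedding.refl _)) (by norm_num) (fun _ => hall _) (((((((((LB_zero T ((skipEmb 3).trans (Function.Embedding.refl _))).upd 0 2 1 (le_of_eq hx02)).upd 0 3 2 (le_of_eq hx04)).upd 1 2 1 (le_of_eq hx12)).upd 1 3 1 (le_of_eq hx14)).upd 2 0 1 (le_of_eq hx20)).upd 2 1 1 (le_of_eq hx21)).upd 3 0 1 (le_of_eq hx40)).upd 3 1 2 (le_of_eq hx41)) ![1,1,1,1] (by decide) (by decide) 0 (by decide))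
    · -- 14=(2,1)
      exact False.elim (cert_false T ((skipEmb 3).trans (Function.Embedding.refl _)) (by norm_num) (fun _ => hall _) (((((LB_zero T ((skipEmb 3).trans (Function.Embedding.refl _))).upd 0 3 2 (le_of_eq hx04)).upd 1 3 2 (le_of_eq hx14)).upd 3 0 1 (le_of_eq hx40)).upd 3 1 1 (le_of_eq hx41)) ![1,1,0,1] (by decide) (by decide) 0 (by decide))
    · -- 14=(1,3)
      exact False.elim (cert_false T ((skipEmb 3).trans (Function.Embedding.refl _)) (by norm_num) (fun _ => hall _) (((((((((LB_zero T ((skipEmb 3).trans (Function.Embedding.refl _))).upd 0 2 1 (le_of_eq hx02)).upd 0 3 2 (le_of_eq hx04)).upd 1 2 1 (le_of_eq hx12)).upd 1 3 1 (le_of_eq hx14)).upd 2 0 1 (le_of_eq hx20)).upd 2 1 1 (le_of_eq hx21)).upd 3 0 1 (le_of_eq hx40)).upd 3 1 3 (le_of_eq hx41)) ![1,1,1,1] (by decide) (by decide) 0 (by decide))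
    · -- 14=(3,1)
      exact False.elim (cert_false T ((skipEmb 3).trans (Function.Embedding.refl _)) (by norm_num) (fun _ => hall _) (((((LB_zero T ((skipEmb 3).trans (Function.Embedding.refl _))).upd 0 3 2 (le_of_eq hx04)).upd 1 3 3 (le_of_eq hx14)).upd 3 0 1 (le_of_eq hx40)).upd 3 1 1 (le_of_eq hx41)) ![1,1,0,1] (by decide) (by decide) 0 (by decide))
  · -- 04=(1,3)
    exact False.elim (cert_false T ((skipEmb 3).trans (Function.Embedding.refl _)) (by norm_num) (fun _ => hall _) (((((LB_zero T ((skipEmb 3).trans (Function.Embedding.refl _))).upd 0 2 1 (le_of_eq hx02)).upd 0 3 1 (le_of_eq hx04)).upd 2 0 1 (le_of_eq hx20)).upd 3 0 3 (le_of_eq hx40)) ![2,0,1,3] (by decide) (by decide) 0 (by decide))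
  · -- 04=(3,1)
    exact False.elim (cert_false T ((skipEmb 3).trans (Function.Embedding.refl _)) (by norm_num) (fun _ => hall _) (((((LB_zero T ((skipEmb 3).trans (Function.Embedding.refl _))).upd 0 2 1 (le_of_eq hx02)).upd 0 3 3 (le_of_eq hx04)).upd 2 0 1 (le_of_eq hx20)).upd 3 0 1 (le_of_eq hx40)) ![2,0,1,1] (by decide) (by decide) 0 (by decide))

theorem case255 (T : NumericalType 5) (hall : ∀ i, T.IsMinusTwo i) (d : SData T)
    (h01 : N T (Function.Embedding.refl _) 0 1 = 0) (h10 : N T (Function.Embedding.refl _) 1 0 = 0)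
    (h02 : N T (Function.Embedding.refl _) 0 2 = 1) (h20 : N T (Function.Embedding.refl _) 2 0 = 1)
    (h12 : N T (Function.Embedding.refl _) 1 2 = 1) (h21 : N T (Function.Embedding.refl _) 2 1 = 1)
    (h03 : N T (Function.Embedding.refl _) 0 3 = 0) (h30 : N T (Function.Embedding.refl _) 3 0 = 0)
    (h13 : N T (Function.Embedding.refl _) 1 3 = 2) (h31 : N T (Function.Embedding.refl _) 3 1 = 1) :
    Goal T := by
  unfold Goal
  have hd := d
  obtain ⟨x01, x02, x03, x04, x10, x12, x13, x14, x20, x21, x23, x24, x30, x31, x32, x34, x40, x41, x42, x43, hx01, hx02, hx03, hx04, hx10, hx12, hx13, hx14, hx20, hx21, hx23, hx24, hx30, hx31, hx32, hx34, hx40, hx41, hx42, hx43, hw0, hm0, hw1, hm1, hw2, hm2, hw3, hm3, hw4, hm4, a00, a01, a02, a03, a04, a11, a10, a12, a13, a14, a22, a20, a21, a23, a24, a33, a30, a31, a32, a34, a44, a40, a41, a42, a43, wN01, wN02, wN12, wN03, wN13, wN23, wN04, wN14, wN24, wN34, e0, e1, e2, e3,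 e4, d01, d02, d12, d03, d13, d23, d04, d14, d24, d34⟩ := d
  obtain rfl : x01 = 0 := hx01.trans h01
  obtain rfl : x10 = 0 := hx10.trans h10
  obtain rfl : x02 = 1 := hx02.trans h02
  obtain rfl : x20 = 1 := hx20.trans h20
  obtain rfl : x12 = 1 := hx12.trans h12
  obtain rfl : x21 = 1 := hx21.trans h21
  obtain rfl : x03 = 0 := hx03.trans h03
  obtain rfl : x30 = 0 := hx30.trans h30
  obtain rfl : x13 = 2 := hx13.trans h13
  obtain rfl : x31 = 1 := hx31.trans h31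
  rcases d23 with ⟨rfl, rfl⟩ | ⟨rfl, rfl⟩ | ⟨rfl, rfl⟩ | ⟨rfl, rfl⟩ | ⟨rfl, rfl⟩ | ⟨rfl, rfl⟩
  · -- 23=(0,0)
    exact case256 T hall hd hx01.symm hx10.symm hx02.symm hx20.symm hx12.symm hx21.symm hx03.symm hx30.symm hx13.symm hx31.symm hx23.symm hx32.symm
  · -- 23=(1,1)
    exact False.elim (cert_false T ((skipEmb 4).trans (Function.Embedding.refl _)) (by norm_num) (fun _ => hall _) (((((((LB_zero T ((skipEmb 4).trans (Function.Embedding.refl _))).upd 1 2 1 (le_of_eq hx12)).upd 1 3 2 (le_of_eq hx13)).upd 2 1 1 (le_of_eq hx21)).upd 2 3 1 (le_of_eq hx23)).upd 3 1 1 (le_of_eq hx31)).upd 3 2 1 (le_of_eq hx32)) ![0,1,1,1] (by decide) (by decide) 1 (by decide))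
  · -- 23=(1,2)
    exact False.elim (cert_false T ((skipEmb 4).trans (Function.Embedding.refl _)) (by norm_num) (fun _ => hall _) (((((((LB_zero T ((skipEmb 4).trans (Function.Embedding.refl _))).upd 1 2 1 (le_of_eq hx12)).upd 1 3 2 (le_of_eq hx13)).upd 2 1 1 (le_of_eq hx21)).upd 2 3 1 (le_of_eq hx23)).upd 3 1 1 (le_of_eq hx31)).upd 3 2 2 (le_of_eq hx32)) ![0,1,1,1] (by decide) (by decide) 1 (by decide))
  · -- 23=(2,1)
    exact False.elim (cert_false T ((skipEmb 4).trans (Function.Embedding.refl _)) (by norm_num) (fun _ => hall _) (((((((LB_zero T ((skipEmb 4).trans (Function.Embedding.refl _))).upd 1 2 1 (le_of_eq hx12)).upd 1 3 2 (le_of_eq hx13)).upd 2 1 1 (le_of_eq hx21)).upd 2 3 2 (le_of_eq hx23)).upd 3 1 1 (le_of_eq hx31)).upd 3 2 1 (le_of_eq hx32)) ![0,1,1,1] (by decide) (by decide) 1 (by decide))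
  · -- 23=(1,3)
    exact False.elim (cert_false T ((skipEmb 4).trans (Function.Embedding.refl _)) (by norm_num) (fun _ => hall _) (((((((LB_zero T ((skipEmb 4).trans (Function.Embedding.refl _))).upd 1 2 1 (le_of_eq hx12)).upd 1 3 2 (le_of_eq hx13)).upd 2 1 1 (le_of_eq hx21)).upd 2 3 1 (le_of_eq hx23)).upd 3 1 1 (le_of_eq hx31)).upd 3 2 3 (le_of_eq hx32)) ![0,1,1,1] (by decide) (by decide) 1 (by decide))
  · -- 23=(3,1)
    exact False.elim (cert_false T ((skipEmb 4).trans (Function.Embedding.refl _)) (by norm_num) (fun _ => hall _) (((((((LB_zero T ((skipEmb 4).trans (Function.Embedding.refl _))).upd 1 2 1 (le_of_eq hx12)).upd 1 3 2 (le_of_eq hx13)).upd 2 1 1 (le_of_eq hx21)).upd 2 3 3 (le_of_eq hx23)).upd 3 1 1 (le_of_eq hx31)).upd 3 2 1 (le_of_eq hx32)) ![0,1,1,1] (by decide) (by decide) 1 (by decide))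

theorem case292 (T : NumericalType 5) (hall : ∀ i, T.IsMinusTwo i) (d : SData T)
    (h01 : N T (Function.Embedding.refl _) 0 1 = 0) (h10 : N T (Function.Embedding.refl _) 1 0 = 0)
    (h02 : N T (Function.Embedding.refl _) 0 2 = 1) (h20 : N T (Function.Embedding.refl _) 2 0 = 2)
    (h12 : N T (Function.Embedding.refl _) 1 2 = 0) (h21 : N T (Function.Embedding.refl _) 2 1 = 0)
    (h03 : N T (Function.Embedding.refl _) 0 3 = 0) (h30 : N T (Function.Embedding.refl _) 3 0 = 0)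
    (h13 : N T (Function.Embedding.refl _) 1 3 = 1) (h31 : N T (Function.Embedding.refl _) 3 1 = 2)
    (h23 : N T (Function.Embedding.refl _) 2 3 = 0) (h32 : N T (Function.Embedding.refl _) 3 2 = 0) :
    Goal T := by
  unfold Goal
  have hd := d
  obtain ⟨x01, x02, x03, x04, x10, x12, x13, x14, x20, x21, x23, x24, x30, x31, x32, x34, x40, x41, x42, x43, hx01, hx02, hx03, hx04, hx10, hx12, hx13, hx14, hx20, hx21, hx23, hx24, hx30, hx31, hx32, hx34, hx40, hx41, hx42, hx43, hw0, hm0, hw1, hm1, hw2, hm2, hw3, hm3, hw4, hm4, a00, a01, a02, a03, a04, a11, a10, a12, a13, a14, a22, a20, a21, a23, a24, a33, a30, a31, a32, a34, a44, a40, a41, a42, a43, wN01, wN02, wN12, wN03, wN13, wN23, wN04, wN14, wN24, wN34, e0, e1, e2, e3, e4, d01, d02, d12, d03, d13, d23, d04, d14, d24, d34⟩ := d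
  obtain rfl : x01 = 0 := hx01.trans h01
  obtain rfl : x10 = 0 := hx10.trans h10
  obtain rfl : x02 = 1 := hx02.trans h02
  obtain rfl : x20 = 2 := hx20.trans h20
  obtain rfl : x12 = 0 := hx12.trans h12
  obtain rfl : x21 = 0 := hx21.trans h21
  obtain rfl : x03 = 0 := hx03.trans h03
  obtain rfl : x30 = 0 := hx30.trans h30
  obtain rfl : x13 = 1 := hx13.trans h13
  obtain rfl : x31 = 2 := hx31.trans h31
  obtain rfl : x23 = 0 := hx23.trans h23
  obtain rfl : x32 = 0 := hx32.trans h32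
  rcases d04 with ⟨rfl, rfl⟩ | ⟨rfl, rfl⟩ | ⟨rfl, rfl⟩ | ⟨rfl, rfl⟩ | ⟨rfl, rfl⟩ | ⟨rfl, rfl⟩
  · -- 04=(0,0)
    rcases d14 with ⟨rfl, rfl⟩ | ⟨rfl, rfl⟩ | ⟨rfl, rfl⟩ | ⟨rfl, rfl⟩ | ⟨rfl, rfl⟩ | ⟨rfl, rfl⟩
    · -- 14=(0,0)
      rcases d24 with ⟨rfl, rfl⟩ | ⟨rfl, rfl⟩ | ⟨rfl, rfl⟩ | ⟨rfl, rfl⟩ | ⟨rfl, rfl⟩ | ⟨rfl, rfl⟩
      · -- 24=(0,0)
        rcases d34 with ⟨rfl, rfl⟩ | ⟨rfl, rfl⟩ | ⟨rfl, rfl⟩ | ⟨rfl, rfl⟩ | ⟨rfl, rfl⟩ | ⟨rfl, rfl⟩
        · -- 34=(0,0)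
          exfalso; omega
        · -- 34=(1,1)
          exfalso; omega
        · -- 34=(1,2)
          exact False.elim (cert_false T ((skipEmb 2).trans (Function.Embedding.refl _)) (by norm_num) (fun _ => hall _) (((((LB_zero T ((skipEmb 2).trans (Function.Embedding.refl _))).upd 1 2 1 (le_of_eq hx13)).upd 2 1 2 (le_of_eq hx31)).upd 2 3 1 (le_of_eq hx34)).upd 3 2 2 (le_of_eq hx43)) ![0,1,2,2] (by decide) (by decide) 1 (by decide))
        · -- 34=(2,1)
          exact False.elim (cert_false T ((skipEmb 2).trans (Function.Embedding.refl _)) (by norm_num) (fun _ => hall _) (((((LB_zero T ((skipEmb 2).trans (Function.Embedding.refl _))).upd 1 2 1 (le_of_eq hx13)).upd 2 1 2 (le_of_eq hx31)).upd 2 3 2 (le_of_eq hx34)).upd 3 2 1 (le_of_eq hx43)) ![0,1,2,1] (by decide) (by decide) 1 (by decide))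
        · -- 34=(1,3)
          exact False.elim (cert_false T ((skipEmb 2).trans (Function.Embedding.refl _)) (by norm_num) (fun _ => hall _) (((((LB_zero T ((skipEmb 2).trans (Function.Embedding.refl _))).upd 1 2 1 (le_of_eq hx13)).upd 2 1 2 (le_of_eq hx31)).upd 2 3 1 (le_of_eq hx34)).upd 3 2 3 (le_of_eq hx43)) ![0,1,2,2] (by decide) (by decide) 1 (by decide))
        · -- 34=(3,1)
          exact False.elim (cert_false T ((skipEmb 2).trans (Function.Embedding.refl _)) (by norm_num) (fun _ => hall _) (((((LB_zero T ((skipEmb 2).trans (Function.Embedding.refl _))).upd 1 2 1 (le_of_eq hx13)).upd 2 1 2 (le_of_eq hx31)).upd 2 3 3 (le_of_eq hx34)).upd 3 2 1 (le_of_eq hx43)) ![0,1,2,1] (by decide) (by decide) 1 (by decide))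
      · -- 24=(1,1)
        rcases d34 with ⟨rfl, rfl⟩ | ⟨rfl, rfl⟩ | ⟨rfl, rfl⟩ | ⟨rfl, rfl⟩ | ⟨rfl, rfl⟩ | ⟨rfl, rfl⟩
        · -- 34=(0,0)
          exfalso; omega
        · -- 34=(1,1)
          refine ⟨(⟨![0, 2, 4, 3, 1], ![0, 4, 1, 3, 2], by decide, by decide⟩ : Equiv.Perm (Fin 5)), T.m 0, T.w 2, Or.inr (Or.inr (Or.inr (Or.inr (Or.inr (Or.inl ?_)))))⟩
          show T.m 0 = T.m 0 ∧ T.m 2 = 2 * T.m 0 ∧ T.m 4 = 2 * T.m 0 ∧ T.m 3 = 2 * T.m 0 ∧ T.m 1 = T.m 0 ∧ T.w 0 = 2 * T.w 2 ∧ T.w 2 = T.w 2 ∧ T.w 4 = T.w 2 ∧ T.w 3 = T.w 2 ∧ T.w 1 = 2 * T.w 2 ∧ T.a 0 0 = -4 * T.w 2 ∧ T.a 0 2 = 2 * T.w 2 ∧ T.a 0 4 = 0 ∧ T.a 0 3 = 0 ∧ T.a 0 1 = 0 ∧ T.a 2 2 = -2 * T.w 2 ∧ T.a 2 4 = T.w 2 ∧ T.a 2 3 = 0 ∧ T.a 2 1 = 0 ∧ T.a 4 4 = -2 * T.w 2 ∧ T.a 4 3 = T.w 2 ∧ T.a 4 1 = 0 ∧ T.a 3 3 = -2 * T.w 2 ∧ T.a 3 1 = 2 * T.w 2 ∧ T.a 1 1 = -4 * T.w 2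
          refine ⟨?_, ?_, ?_, ?_, ?_, ?_, ?_, ?_, ?_, ?_, ?_, ?_, ?_, ?_, ?_, ?_, ?_, ?_, ?_, ?_, ?_, ?_, ?_, ?_, ?_⟩ <;> omega
        · -- 34=(1,2)
          exact False.elim (cert_false T ((skipEmb 2).trans (Function.Embedding.refl _)) (by norm_num) (fun _ => hall _) (((((LB_zero T ((skipEmb 2).trans (Function.Embedding.refl _))).upd 1 2 1 (le_of_eq hx13)).upd 2 1 2 (le_of_eq hx31)).upd 2 3 1 (le_of_eq hx34)).upd 3 2 2 (le_of_eq hx43)) ![0,1,2,2] (by decide) (by decide) 1 (by decide))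
        · -- 34=(2,1)
          exact False.elim (cert_false T ((skipEmb 2).trans (Function.Embedding.refl _)) (by norm_num) (fun _ => hall _) (((((LB_zero T ((skipEmb 2).trans (Function.Embedding.refl _))).upd 1 2 1 (le_of_eq hx13)).upd 2 1 2 (le_of_eq hx31)).upd 2 3 2 (le_of_eq hx34)).upd 3 2 1 (le_of_eq hx43)) ![0,1,2,1] (by decide) (by decide) 1 (by decide))
        · -- 34=(1,3)
          exact False.elim (cert_false T ((skipEmb 2).trans (Function.Embedding.refl _)) (by norm_num) (fun _ => hall _) (((((LB_zero T ((skipEmb 2).trans (Function.Embedding.refl _))).upd 1 2 1 (le_of_eq hx13)).upd 2 1 2 (le_of_eq hx31)).upd 2 3 1 (le_of_eq hx34)).upd 3 2 3 (le_of_eq hx43)) ![0,1,2,2] (by decide) (by decide) 1 (by decide))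
        · -- 34=(3,1)
          exact False.elim (cert_false T ((skipEmb 2).trans (Function.Embedding.refl _)) (by norm_num) (fun _ => hall _) (((((LB_zero T ((skipEmb 2).trans (Function.Embedding.refl _))).upd 1 2 1 (le_of_eq hx13)).upd 2 1 2 (le_of_eq hx31)).upd 2 3 3 (le_of_eq hx34)).upd 3 2 1 (le_of_eq hx43)) ![0,1,2,1] (by decide) (by decide) 1 (by decide))
      · -- 24=(1,2)
        exact False.elim (cert_false T ((skipEmb 3).trans (Function.Embedding.refl _)) (by norm_num) (fun _ => hall _) (((((LB_zero T ((skipEmb 3).trans (Function.Embedding.refl _))).upd 0 2 1 (le_of_eq hx02)).upd 2 0 2 (le_of_eq hx20)).upd 2 3 1 (le_of_eq hx24)).upd 3 2 2 (le_of_eq hx42)) ![1,0,2,2] (by decide) (by decide) 0 (by decide))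
      · -- 24=(2,1)
        exact False.elim (cert_false T ((skipEmb 3).trans (Function.Embedding.refl _)) (by norm_num) (fun _ => hall _) (((((LB_zero T ((skipEmb 3).trans (Function.Embedding.refl _))).upd 0 2 1 (le_of_eq hx02)).upd 2 0 2 (le_of_eq hx20)).upd 2 3 2 (le_of_eq hx24)).upd 3 2 1 (le_of_eq hx42)) ![1,0,2,1] (by decide) (by decide) 0 (by decide))
      · -- 24=(1,3)
        exact False.elim (cert_false T ((skipEmb 3).trans (Function.Embedding.refl _)) (by norm_num) (fun _ => hall _) (((((LB_zero T ((skipEmb 3).trans (Function.Embedding.refl _))).upd 0 2 1 (le_of_eq hx02)).upd 2 0 2 (le_of_eq hx20)).upd 2 3 1 (le_of_eq hx24)).upd 3 2 3 (le_of_eq hx42)) ![1,0,2,2] (by decide) (by decide) 0 (by decide))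
      · -- 24=(3,1)
        exact False.elim (cert_false T ((skipEmb 3).trans (Function.Embedding.refl _)) (by norm_num) (fun _ => hall _) (((((LB_zero T ((skipEmb 3).trans (Function.Embedding.refl _))).upd 0 2 1 (le_of_eq hx02)).upd 2 0 2 (le_of_eq hx20)).upd 2 3 3 (le_of_eq hx24)).upd 3 2 1 (le_of_eq hx42)) ![1,0,2,1] (by decide) (by decide) 0 (by decide))
    · -- 14=(1,1)
      rcases d24 with ⟨rfl, rfl⟩ | ⟨rfl, rfl⟩ | ⟨rfl, rfl⟩ | ⟨rfl, rfl⟩ | ⟨rfl, rfl⟩ | ⟨rfl, rfl⟩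
      · -- 24=(0,0)
        rcases d34 with ⟨rfl, rfl⟩ | ⟨rfl, rfl⟩ | ⟨rfl, rfl⟩ | ⟨rfl, rfl⟩ | ⟨rfl, rfl⟩ | ⟨rfl, rfl⟩
        · -- 34=(0,0)
          exfalso; omega
        · -- 34=(1,1)
          exact False.elim (cert_false T ((skipEmb 2).trans (Function.Embedding.refl _)) (by norm_num) (fun _ => hall _) (((((((LB_zero T ((skipEmb 2).trans (Function.Embedding.refl _))).upd 1 2 1 (le_of_eq hx13)).upd 1 3 1 (le_of_eq hx14)).upd 2 1 2 (le_of_eq hx31)).upd 2 3 1 (le_of_eq hx34)).upd 3 1 1 (le_of_eq hx41)).upd 3 2 1 (le_of_eq hx43)) ![0,1,1,1] (by decide) (by decide) 1 (by decide))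
        · -- 34=(1,2)
          exact False.elim (cert_false T ((skipEmb 2).trans (Function.Embedding.refl _)) (by norm_num) (fun _ => hall _) (((((((LB_zero T ((skipEmb 2).trans (Function.Embedding.refl _))).upd 1 2 1 (le_of_eq hx13)).upd 1 3 1 (le_of_eq hx14)).upd 2 1 2 (le_of_eq hx31)).upd 2 3 1 (le_of_eq hx34)).upd 3 1 1 (le_of_eq hx41)).upd 3 2 2 (le_of_eq hx43)) ![0,1,1,1] (by decide) (by decide) 1 (by decide))
        · -- 34=(2,1)
          exact False.elim (cert_false T ((skipEmb 2).trans (Function.Embedding.refl _)) (by norm_num) (fun _ => hall _) (((((((LB_zero T ((skipEmb 2).trans (Function.Embedding.refl _))).upd 1 2 1 (le_of_eq hx13)).upd 1 3 1 (le_of_eq hx14)).upd 2 1 2 (le_of_eq hx31)).upd 2 3 2 (le_of_eq hx34)).upd 3 1 1 (le_of_eq hx41)).upd 3 2 1 (le_of_eq hx43)) ![0,1,1,1] (by decide) (by decide) 1 (by decide))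
        · -- 34=(1,3)
          exact False.elim (cert_false T ((skipEmb 2).trans (Function.Embedding.refl _)) (by norm_num) (fun _ => hall _) (((((((LB_zero T ((skipEmb 2).trans (Function.Embedding.refl _))).upd 1 2 1 (le_of_eq hx13)).upd 1 3 1 (le_of_eq hx14)).upd 2 1 2 (le_of_eq hx31)).upd 2 3 1 (le_of_eq hx34)).upd 3 1 1 (le_of_eq hx41)).upd 3 2 3 (le_of_eq hx43)) ![0,1,1,1] (by decide) (by decide) 1 (by decide))
        · -- 34=(3,1)
          exact False.elim (cert_false T ((skipEmb 2).trans (Function.Embedding.refl _)) (by norm_num) (fun _ => hall _) (((((((LB_zero T ((skipEmb 2).trans (Function.Embedding.refl _))).upd 1 2 1 (le_of_eq hx13)).upd 1 3 1 (le_of_eq hx14)).upd 2 1 2 (le_of_eq hx31)).upd 2 3 3 (le_of_eq hx34)).upd 3 1 1 (le_of_eq hx41)).upd 3 2 1 (le_of_eq hx43)) ![0,1,1,1] (by decide) (by decide) 1 (by decide))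
      · -- 24=(1,1)
        rcases d34 with ⟨rfl, rfl⟩ | ⟨rfl, rfl⟩ | ⟨rfl, rfl⟩ | ⟨rfl, rfl⟩ | ⟨rfl, rfl⟩ | ⟨rfl, rfl⟩
        · -- 34=(0,0)
          refine ⟨(⟨![3, 1, 4, 2, 0], ![4, 1, 3, 0, 2], by decide, by decide⟩ : Equiv.Perm (Fin 5)), T.m 0, T.w 3, Or.inr (Or.inr (Or.inr (Or.inl ?_)))⟩
          show T.m 3 = 2 * T.m 0 ∧ T.m 1 = 2 * T.m 0 ∧ T.m 4 = 2 * T.m 0 ∧ T.m 2 = 2 * T.m 0 ∧ T.m 0 = T.m 0 ∧ T.w 3 = T.w 3 ∧ T.w 1 = 2 * T.w 3 ∧ T.w 4 = 2 * T.w 3 ∧ T.w 2 = 2 * T.w 3 ∧ T.w 0 = 4 * T.w 3 ∧ T.a 3 3 = -2 * T.w 3 ∧ T.a 3 1 = 2 * T.w 3 ∧ T.a 3 4 = 0 ∧ T.a 3 2 = 0 ∧ T.a 3 0 = 0 ∧ T.a 1 1 = -4 * T.w 3 ∧ T.a 1 4 = 2 * T.w 3 ∧ T.a 1 2 = 0 ∧ T.a 1 0 = 0 ∧ T.a 4 4 = -4 * T.w 3 ∧ T.a 4 2 = 2 * T.w 3 ∧ T.a 4 0 = 0 ∧ T.a 2 2 = -4 * T.w 3 ∧ T.a 2 0 = 4 * T.w 3 ∧ T.a 0 0 = -8 * T.w 3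
          refine ⟨?_, ?_, ?_, ?_, ?_, ?_, ?_, ?_, ?_, ?_, ?_, ?_, ?_, ?_, ?_, ?_, ?_, ?_, ?_, ?_, ?_, ?_, ?_, ?_, ?_⟩ <;> omega
        · -- 34=(1,1)
          exact False.elim (cert_false T ((skipEmb 2).trans (Function.Embedding.refl _)) (by norm_num) (fun _ => hall _) (((((((LB_zero T ((skipEmb 2).trans (Function.Embedding.refl _))).upd 1 2 1 (le_of_eq hx13)).upd 1 3 1 (le_of_eq hx14)).upd 2 1 2 (le_of_eq hx31)).upd 2 3 1 (le_of_eq hx34)).upd 3 1 1 (le_of_eq hx41)).upd 3 2 1 (le_of_eq hx43)) ![0,1,1,1] (by decide) (by decide) 1 (by decide))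
        · -- 34=(1,2)
          exact False.elim (cert_false T ((skipEmb 2).trans (Function.Embedding.refl _)) (by norm_num) (fun _ => hall _) (((((((LB_zero T ((skipEmb 2).trans (Function.Embedding.refl _))).upd 1 2 1 (le_of_eq hx13)).upd 1 3 1 (le_of_eq hx14)).upd 2 1 2 (le_of_eq hx31)).upd 2 3 1 (le_of_eq hx34)).upd 3 1 1 (le_of_eq hx41)).upd 3 2 2 (le_of_eq hx43)) ![0,1,1,1] (by decide) (by decide) 1 (by decide))
        · -- 34=(2,1)
          exact False.elim (cert_false T ((skipEmb 2).trans (Function.Embedding.refl _)) (by norm_num) (fun _ => hall _) (((((((LB_zero T ((skipEmb 2).trans (Function.Embedding.refl _))).upd 1 2 1 (le_of_eq hx13)).upd 1 3 1 (le_of_eq hx14)).upd 2 1 2 (le_of_eq hx31)).upd 2 3 2 (le_of_eq hx34)).upd 3 1 1 (le_of_eq hx41)).upd 3 2 1 (le_of_eq hx43)) ![0,1,1,1] (by decide) (by decide) 1 (by decide))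
        · -- 34=(1,3)
          exact False.elim (cert_false T ((skipEmb 2).trans (Function.Embedding.refl _)) (by norm_num) (fun _ => hall _) (((((((LB_zero T ((skipEmb 2).trans (Function.Embedding.refl _))).upd 1 2 1 (le_of_eq hx13)).upd 1 3 1 (le_of_eq hx14)).upd 2 1 2 (le_of_eq hx31)).upd 2 3 1 (le_of_eq hx34)).upd 3 1 1 (le_of_eq hx41)).upd 3 2 3 (le_of_eq hx43)) ![0,1,1,1] (by decide) (by decide) 1 (by decide))
        · -- 34=(3,1)
          exact False.elim (cert_false T ((skipEmb 2).trans (Function.Embedding.refl _)) (by norm_num) (fun _ => hall _) (((((((LB_zero T ((skipEmb 2).trans (Function.Embedding.refl _))).upd 1 2 1 (le_of_eq hx13)).upd 1 3 1 (le_of_eq hx14)).upd 2 1 2 (le_of_eq hx31)).upd 2 3 3 (le_of_eq hx34)).upd 3 1 1 (le_of_eq hx41)).upd 3 2 1 (le_of_eq hx43)) ![0,1,1,1] (by decide) (by decide) 1 (by decide))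
      · -- 24=(1,2)
        exact False.elim (cert_false T ((skipEmb 3).trans (Function.Embedding.refl _)) (by norm_num) (fun _ => hall _) (((((LB_zero T ((skipEmb 3).trans (Function.Embedding.refl _))).upd 0 2 1 (le_of_eq hx02)).upd 2 0 2 (le_of_eq hx20)).upd 2 3 1 (le_of_eq hx24)).upd 3 2 2 (le_of_eq hx42)) ![1,0,2,2] (by decide) (by decide) 0 (by decide))
      · -- 24=(2,1)
        exact False.elim (cert_false T ((skipEmb 3).trans (Function.Embedding.refl _)) (by norm_num) (fun _ => hall _) (((((LB_zero T ((skipEmb 3).trans (Function.Embedding.refl _))).upd 0 2 1 (le_of_eq hx02)).upd 2 0 2 (le_of_eq hx20)).upd 2 3 2 (le_of_eq hx24)).upd 3 2 1 (le_of_eq hx42)) ![1,0,2,1] (by decide) (by decide) 0 (by decide))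
      · -- 24=(1,3)
        exact False.elim (cert_false T ((skipEmb 3).trans (Function.Embedding.refl _)) (by norm_num) (fun _ => hall _) (((((LB_zero T ((skipEmb 3).trans (Function.Embedding.refl _))).upd 0 2 1 (le_of_eq hx02)).upd 2 0 2 (le_of_eq hx20)).upd 2 3 1 (le_of_eq hx24)).upd 3 2 3 (le_of_eq hx42)) ![1,0,2,2] (by decide) (by decide) 0 (by decide))
      · -- 24=(3,1)
        exact False.elim (cert_false T ((skipEmb 3).trans (Function.Embedding.refl _)) (by norm_num) (fun _ => hall _) (((((LB_zero T ((skipEmb 3).trans (Function.Embedding.refl _))).upd 0 2 1 (le_of_eq hx02)).upd 2 0 2 (le_of_eq hx20)).upd 2 3 3 (le_of_eq hx24)).upd 3 2 1 (le_of_eq hx42)) ![1,0,2,1] (by decide) (by decide) 0 (by decide))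
    · -- 14=(1,2)
      exact False.elim (cert_false T ((skipEmb 2).trans (Function.Embedding.refl _)) (by norm_num) (fun _ => hall _) (((((LB_zero T ((skipEmb 2).trans (Function.Embedding.refl _))).upd 1 2 1 (le_of_eq hx13)).upd 1 3 1 (le_of_eq hx14)).upd 2 1 2 (le_of_eq hx31)).upd 3 1 2 (le_of_eq hx41)) ![0,1,1,1] (by decide) (by decide) 1 (by decide))
    · -- 14=(2,1)
      exact False.elim (cert_false T ((skipEmb 2).trans (Function.Embedding.refl _)) (by norm_num) (fun _ => hall _) (((((LB_zero T ((skipEmb 2).trans (Function.Embedding.refl _))).upd 1 2 1 (le_of_eq hx13)).upd 1 3 2 (le_of_eq hx14)).upd 2 1 2 (le_of_eq hx31)).upd 3 1 1 (le_of_eq hx41)) ![0,2,2,1] (by decide) (by decide) 1 (by decide))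
    · -- 14=(1,3)
      exact False.elim (cert_false T ((skipEmb 2).trans (Function.Embedding.refl _)) (by norm_num) (fun _ => hall _) (((((LB_zero T ((skipEmb 2).trans (Function.Embedding.refl _))).upd 1 2 1 (le_of_eq hx13)).upd 1 3 1 (le_of_eq hx14)).upd 2 1 2 (le_of_eq hx31)).upd 3 1 3 (le_of_eq hx41)) ![0,1,1,1] (by decide) (by decide) 1 (by decide))
    · -- 14=(3,1)
      exact False.elim (cert_false T ((skipEmb 2).trans (Function.Embedding.refl _)) (by norm_num) (fun _ => hall _) (((((LB_zero T ((skipEmb 2).trans (Function.Embedding.refl _))).upd 1 2 1 (le_of_eq hx13)).upd 1 3 3 (le_of_eq hx14)).upd 2 1 2 (le_of_eq hx31)).upd 3 1 1 (le_of_eq hx41)) ![0,2,1,1] (by decide) (by decide) 1 (by decide))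
  · -- 04=(1,1)
    rcases d14 with ⟨rfl, rfl⟩ | ⟨rfl, rfl⟩ | ⟨rfl, rfl⟩ | ⟨rfl, rfl⟩ | ⟨rfl, rfl⟩ | ⟨rfl, rfl⟩
    · -- 14=(0,0)
      rcases d24 with ⟨rfl, rfl⟩ | ⟨rfl, rfl⟩ | ⟨rfl, rfl⟩ | ⟨rfl, rfl⟩ | ⟨rfl, rfl⟩ | ⟨rfl, rfl⟩
      · -- 24=(0,0)
        rcases d34 with ⟨rfl, rfl⟩ | ⟨rfl, rfl⟩ | ⟨rfl, rfl⟩ | ⟨rfl, rfl⟩ | ⟨rfl, rfl⟩ | ⟨rfl, rfl⟩
        · -- 34=(0,0)
          exfalso; omega
        · -- 34=(1,1)
          refine ⟨(⟨![2, 0, 4, 3, 1], ![1, 4, 0, 3, 2], by decide, by decide⟩ : Equiv.Perm (Fin 5)), T.m 1, T.w 2, Or.inr (Or.inr (Or.inr (Or.inl ?_)))⟩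
          show T.m 2 = 2 * T.m 1 ∧ T.m 0 = 2 * T.m 1 ∧ T.m 4 = 2 * T.m 1 ∧ T.m 3 = 2 * T.m 1 ∧ T.m 1 = T.m 1 ∧ T.w 2 = T.w 2 ∧ T.w 0 = 2 * T.w 2 ∧ T.w 4 = 2 * T.w 2 ∧ T.w 3 = 2 * T.w 2 ∧ T.w 1 = 4 * T.w 2 ∧ T.a 2 2 = -2 * T.w 2 ∧ T.a 2 0 = 2 * T.w 2 ∧ T.a 2 4 = 0 ∧ T.a 2 3 = 0 ∧ T.a 2 1 = 0 ∧ T.a 0 0 = -4 * T.w 2 ∧ T.a 0 4 = 2 * T.w 2 ∧ T.a 0 3 = 0 ∧ T.a 0 1 = 0 ∧ T.a 4 4 = -4 * T.w 2 ∧ T.a 4 3 = 2 * T.w 2 ∧ T.a 4 1 = 0 ∧ T.a 3 3 = -4 * T.w 2 ∧ T.a 3 1 = 4 * T.w 2 ∧ T.a 1 1 = -8 * T.w 2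
          refine ⟨?_, ?_, ?_, ?_, ?_, ?_, ?_, ?_, ?_, ?_, ?_, ?_, ?_, ?_, ?_, ?_, ?_, ?_, ?_, ?_, ?_, ?_, ?_, ?_, ?_⟩ <;> omega
        · -- 34=(1,2)
          exact False.elim (cert_false T ((skipEmb 2).trans (Function.Embedding.refl _)) (by norm_num) (fun _ => hall _) (((((LB_zero T ((skipEmb 2).trans (Function.Embedding.refl _))).upd 1 2 1 (le_of_eq hx13)).upd 2 1 2 (le_of_eq hx31)).upd 2 3 1 (le_of_eq hx34)).upd 3 2 2 (le_of_eq hx43)) ![0,1,2,2] (by decide) (by decide) 1 (by decide))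
        · -- 34=(2,1)
          exact False.elim (cert_false T ((skipEmb 2).trans (Function.Embedding.refl _)) (by norm_num) (fun _ => hall _) (((((LB_zero T ((skipEmb 2).trans (Function.Embedding.refl _))).upd 1 2 1 (le_of_eq hx13)).upd 2 1 2 (le_of_eq hx31)).upd 2 3 2 (le_of_eq hx34)).upd 3 2 1 (le_of_eq hx43)) ![0,1,2,1] (by decide) (by decide) 1 (by decide))
        · -- 34=(1,3)
          exact False.elim (cert_false T ((skipEmb 2).trans (Function.Embedding.refl _)) (by norm_num) (fun _ => hall _) (((((LB_zero T ((skipEmb 2).trans (Function.Embedding.refl _))).upd 1 2 1 (le_of_eq hx13)).upd 2 1 2 (le_of_eq hx31)).upd 2 3 1 (le_of_eq hx34)).upd 3 2 3 (le_of_eq hx43)) ![0,1,2,2] (by decide) (by decide) 1 (by decide))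
        · -- 34=(3,1)
          exact False.elim (cert_false T ((skipEmb 2).trans (Function.Embedding.refl _)) (by norm_num) (fun _ => hall _) (((((LB_zero T ((skipEmb 2).trans (Function.Embedding.refl _))).upd 1 2 1 (le_of_eq hx13)).upd 2 1 2 (le_of_eq hx31)).upd 2 3 3 (le_of_eq hx34)).upd 3 2 1 (le_of_eq hx43)) ![0,1,2,1] (by decide) (by decide) 1 (by decide))
      · -- 24=(1,1)
        exact False.elim (cert_false T ((skipEmb 3).trans (Function.Embedding.refl _)) (by norm_num) (fun _ => hall _) (((((((LB_zero T ((skipEmb 3).trans (Function.Embedding.refl _))).upd 0 2 1 (le_of_eq hx02)).upd 0 3 1 (le_of_eq hx04)).upd 2 0 2 (le_of_eq hx20)).upd 2 3 1 (le_of_eq hx24)).upd 3 0 1 (le_of_eq hx40)).upd 3 2 1 (le_of_eq hx42)) ![1,0,1,1] (by decide) (by decide) 0 (by decide))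
      · -- 24=(1,2)
        exact False.elim (cert_false T ((skipEmb 3).trans (Function.Embedding.refl _)) (by norm_num) (fun _ => hall _) (((((((LB_zero T ((skipEmb 3).trans (Function.Embedding.refl _))).upd 0 2 1 (le_of_eq hx02)).upd 0 3 1 (le_of_eq hx04)).upd 2 0 2 (le_of_eq hx20)).upd 2 3 1 (le_of_eq hx24)).upd 3 0 1 (le_of_eq hx40)).upd 3 2 2 (le_of_eq hx42)) ![1,0,1,1] (by decide) (by decide) 0 (by decide))
      · -- 24=(2,1)
        exact False.elim (cert_false T ((skipEmb 3).trans (Function.Embedding.refl _)) (by norm_num) (fun _ => hall _) (((((((LB_zero T ((skipEmb 3).trans (Function.Embedding.refl _))).upd 0 2 1 (le_of_eq hx02)).upd 0 3 1 (le_of_eq hx04)).upd 2 0 2 (le_of_eq hx20)).upd 2 3 2 (le_of_eq hx24)).upd 3 0 1 (le_of_eq hx40)).upd 3 2 1 (le_of_eq hx42)) ![1,0,1,1] (by decide) (by decide) 0 (by decide))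
      · -- 24=(1,3)
        exact False.elim (cert_false T ((skipEmb 3).trans (Function.Embedding.refl _)) (by norm_num) (fun _ => hall _) (((((((LB_zero T ((skipEmb 3).trans (Function.Embedding.refl _))).upd 0 2 1 (le_of_eq hx02)).upd 0 3 1 (le_of_eq hx04)).upd 2 0 2 (le_of_eq hx20)).upd 2 3 1 (le_of_eq hx24)).upd 3 0 1 (le_of_eq hx40)).upd 3 2 3 (le_of_eq hx42)) ![1,0,1,1] (by decide) (by decide) 0 (by decide))
      · -- 24=(3,1)
        exact False.elim (cert_false T ((skipEmb 3).trans (Function.Embedding.refl _)) (by norm_num) (fun _ => hall _) (((((((LB_zero T ((skipEmb 3).trans (Function.Embedding.refl _))).upd 0 2 1 (le_of_eq hx02)).upd 0 3 1 (le_of_eq hx04)).upd 2 0 2 (le_of_eq hx20)).upd 2 3 3 (le_of_eq hx24)).upd 3 0 1 (le_of_eq hx40)).upd 3 2 1 (le_of_eq hx42)) ![1,0,1,1] (by decide) (by decide) 0 (by decide))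
    · -- 14=(1,1)
      rcases d24 with ⟨rfl, rfl⟩ | ⟨rfl, rfl⟩ | ⟨rfl, rfl⟩ | ⟨rfl, rfl⟩ | ⟨rfl, rfl⟩ | ⟨rfl, rfl⟩
      · -- 24=(0,0)
        rcases d34 with ⟨rfl, rfl⟩ | ⟨rfl, rfl⟩ | ⟨rfl, rfl⟩ | ⟨rfl, rfl⟩ | ⟨rfl, rfl⟩ | ⟨rfl, rfl⟩
        · -- 34=(0,0)
          refine ⟨(⟨![2, 0, 4, 1, 3], ![1, 3, 0, 4, 2], by decide, by decide⟩ : Equiv.Perm (Fin 5)), T.m 2, T.w 2, Or.inr (Or.inr (Or.inr (Or.inr (Or.inl ?_))))⟩
          show T.m 2 = T.m 2 ∧ T.m 0 = T.m 2 ∧ T.m 4 = T.m 2 ∧ T.m 1 = T.m 2 ∧ T.m 3 = T.m 2 ∧ T.w 2 = T.w 2 ∧ T.w 0 = 2 * T.w 2 ∧ T.w 4 = 2 * T.w 2 ∧ T.w 1 = 2 * T.w 2 ∧ T.w 3 = T.w 2 ∧ T.a 2 2 = -2 * T.w 2 ∧ T.a 2 0 = 2 * T.w 2 ∧ T.a 2 4 = 0 ∧ T.a 2 1 = 0 ∧ T.a 2 3 = 0 ∧ T.a 0 0 = -4 * T.w 2 ∧ T.a 0 4 = 2 * T.w 2 ∧ T.a 0 1 = 0 ∧ T.a 0 3 = 0 ∧ T.a 4 4 = -4 * T.w 2 ∧ T.a 4 1 = 2 * T.w 2 ∧ T.a 4 3 = 0 ∧ T.a 1 1 = -4 * T.w 2 ∧ T.a 1 3 = 2 * T.w 2 ∧ T.a 3 3 = -2 * T.w 2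
          refine ⟨?_, ?_, ?_, ?_, ?_, ?_, ?_, ?_, ?_, ?_, ?_, ?_, ?_, ?_, ?_, ?_, ?_, ?_, ?_, ?_, ?_, ?_, ?_, ?_, ?_⟩ <;> omega
        · -- 34=(1,1)
          exact False.elim (cert_false T ((skipEmb 2).trans (Function.Embedding.refl _)) (by norm_num) (fun _ => hall _) (((((((LB_zero T ((skipEmb 2).trans (Function.Embedding.refl _))).upd 1 2 1 (le_of_eq hx13)).upd 1 3 1 (le_of_eq hx14)).upd 2 1 2 (le_of_eq hx31)).upd 2 3 1 (le_of_eq hx34)).upd 3 1 1 (le_of_eq hx41)).upd 3 2 1 (le_of_eq hx43)) ![0,1,1,1] (by decide) (by decide) 1 (by decide))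
        · -- 34=(1,2)
          exact False.elim (cert_false T ((skipEmb 2).trans (Function.Embedding.refl _)) (by norm_num) (fun _ => hall _) (((((((LB_zero T ((skipEmb 2).trans (Function.Embedding.refl _))).upd 1 2 1 (le_of_eq hx13)).upd 1 3 1 (le_of_eq hx14)).upd 2 1 2 (le_of_eq hx31)).upd 2 3 1 (le_of_eq hx34)).upd 3 1 1 (le_of_eq hx41)).upd 3 2 2 (le_of_eq hx43)) ![0,1,1,1] (by decide) (by decide) 1 (by decide))
        · -- 34=(2,1)
          exact False.elim (cert_false T ((skipEmb 2).trans (Function.Embedding.refl _)) (by norm_num) (fun _ => hall _) (((((((LB_zero T ((skipEmb 2).trans (Function.Embedding.refl _))).upd 1 2 1 (le_of_eq hx13)).upd 1 3 1 (le_of_eq hx14)).upd 2 1 2 (le_of_eq hx31)).upd 2 3 2 (le_of_eq hx34)).upd 3 1 1 (le_of_eq hx41)).upd 3 2 1 (le_of_eq hx43)) ![0,1,1,1] (by decide) (by decide) 1 (by decide))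
        · -- 34=(1,3)
          exact False.elim (cert_false T ((skipEmb 2).trans (Function.Embedding.refl _)) (by norm_num) (fun _ => hall _) (((((((LB_zero T ((skipEmb 2).trans (Function.Embedding.refl _))).upd 1 2 1 (le_of_eq hx13)).upd 1 3 1 (le_of_eq hx14)).upd 2 1 2 (le_of_eq hx31)).upd 2 3 1 (le_of_eq hx34)).upd 3 1 1 (le_of_eq hx41)).upd 3 2 3 (le_of_eq hx43)) ![0,1,1,1] (by decide) (by decide) 1 (by decide))
        · -- 34=(3,1)
          exact False.elim (cert_false T ((skipEmb 2).trans (Function.Embedding.refl _)) (by norm_num) (fun _ => hall _) (((((((LB_zero T ((skipEmb 2).trans (Function.Embedding.refl _))).upd 1 2 1 (le_of_eq hx13)).upd 1 3 1 (le_of_eq hx14)).upd 2 1 2 (le_of_eq hx31)).upd 2 3 3 (le_of_eq hx34)).upd 3 1 1 (le_of_eq hx41)).upd 3 2 1 (le_of_eq hx43)) ![0,1,1,1] (by decide) (by decide) 1 (by decide))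
      · -- 24=(1,1)
        exact False.elim (cert_false T ((skipEmb 3).trans (Function.Embedding.refl _)) (by norm_num) (fun _ => hall _) (((((((LB_zero T ((skipEmb 3).trans (Function.Embedding.refl _))).upd 0 2 1 (le_of_eq hx02)).upd 0 3 1 (le_of_eq hx04)).upd 2 0 2 (le_of_eq hx20)).upd 2 3 1 (le_of_eq hx24)).upd 3 0 1 (le_of_eq hx40)).upd 3 2 1 (le_of_eq hx42)) ![1,0,1,1] (by decide) (by decide) 0 (by decide))
      · -- 24=(1,2)
        exact False.elim (cert_false T ((skipEmb 3).trans (Function.Embedding.refl _)) (by norm_num) (fun _ => hall _) (((((((LB_zero T ((skipEmb 3).trans (Function.Embedding.refl _))).upd 0 2 1 (le_of_eq hx02)).upd 0 3 1 (le_of_eq hx04)).upd 2 0 2 (le_of_eq hx20)).upd 2 3 1 (le_of_eq hx24)).upd 3 0 1 (le_of_eq hx40)).upd 3 2 2 (le_of_eq hx42)) ![1,0,1,1] (by decide) (by decide) 0 (by decide))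
      · -- 24=(2,1)
        exact False.elim (cert_false T ((skipEmb 3).trans (Function.Embedding.refl _)) (by norm_num) (fun _ => hall _) (((((((LB_zero T ((skipEmb 3).trans (Function.Embedding.refl _))).upd 0 2 1 (le_of_eq hx02)).upd 0 3 1 (le_of_eq hx04)).upd 2 0 2 (le_of_eq hx20)).upd 2 3 2 (le_of_eq hx24)).upd 3 0 1 (le_of_eq hx40)).upd 3 2 1 (le_of_eq hx42)) ![1,0,1,1] (by decide) (by decide) 0 (by decide))
      · -- 24=(1,3)
        exact False.elim (cert_false T ((skipEmb 3).trans (Function.Embedding.refl _)) (by norm_num) (fun _ => hall _) (((((((LB_zero T ((skipEmb 3).trans (Function.Embedding.refl _))).upd 0 2 1 (le_of_eq hx02)).upd 0 3 1 (le_of_eq hx04)).upd 2 0 2 (le_of_eq hx20)).upd 2 3 1 (le_of_eq hx24)).upd 3 0 1 (le_of_eq hx40)).upd 3 2 3 (le_of_eq hx42)) ![1,0,1,1] (by decide) (by decide) 0 (by decide))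
      · -- 24=(3,1)
        exact False.elim (cert_false T ((skipEmb 3).trans (Function.Embedding.refl _)) (by norm_num) (fun _ => hall _) (((((((LB_zero T ((skipEmb 3).trans (Function.Embedding.refl _))).upd 0 2 1 (le_of_eq hx02)).upd 0 3 1 (le_of_eq hx04)).upd 2 0 2 (le_of_eq hx20)).upd 2 3 3 (le_of_eq hx24)).upd 3 0 1 (le_of_eq hx40)).upd 3 2 1 (le_of_eq hx42)) ![1,0,1,1] (by decide) (by decide) 0 (by decide))
    · -- 14=(1,2)
      exact False.elim (cert_false T ((skipEmb 3).trans (Function.Embedding.refl _)) (by norm_num) (fun _ => hall _) (((((((LB_zero T ((skipEmb 3).trans (Function.Embedding.refl _))).upd 0 2 1 (le_of_eq hx02)).upd 0 3 1 (le_of_eq hx04)).upd 1 3 1 (le_of_eq hx14)).upd 2 0 2 (le_of_eq hx20)).upd 3 0 1 (le_of_eq hx40)).upd 3 1 2 (le_of_eq hx41)) ![2,1,2,2] (by decide) (by decide) 0 (by decide))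
    · -- 14=(2,1)
      exact False.elim (cert_false T ((skipEmb 3).trans (Function.Embedding.refl _)) (by norm_num) (fun _ => hall _) (((((((LB_zero T ((skipEmb 3).trans (Function.Embedding.refl _))).upd 0 2 1 (le_of_eq hx02)).upd 0 3 1 (le_of_eq hx04)).upd 1 3 2 (le_of_eq hx14)).upd 2 0 2 (le_of_eq hx20)).upd 3 0 1 (le_of_eq hx40)).upd 3 1 1 (le_of_eq hx41)) ![1,1,1,1] (by decide) (by decide) 0 (by decide))
    · -- 14=(1,3)
      exact False.elim (cert_false T ((skipEmb 3).trans (Function.Embedding.refl _)) (by norm_num) (fun _ => hall _) (((((LB_zero T ((skipEmb 3).trans (Function.Embedding.refl _))).upd 0 3 1 (le_of_eq hx04)).upd 1 3 1 (le_of_eq hx14)).upd 3 0 1 (le_of_eq hx40)).upd 3 1 3 (le_of_eq hx41)) ![1,1,0,2] (by decide) (by decide) 0 (by decide))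
    · -- 14=(3,1)
      exact False.elim (cert_false T ((skipEmb 3).trans (Function.Embedding.refl _)) (by norm_num) (fun _ => hall _) (((((((LB_zero T ((skipEmb 3).trans (Function.Embedding.refl _))).upd 0 2 1 (le_of_eq hx02)).upd 0 3 1 (le_of_eq hx04)).upd 1 3 3 (le_of_eq hx14)).upd 2 0 2 (le_of_eq hx20)).upd 3 0 1 (le_of_eq hx40)).upd 3 1 1 (le_of_eq hx41)) ![1,1,1,1] (by decide) (by decide) 0 (by decide))
  · -- 04=(1,2)
    exact False.elim (cert_false T ((skipEmb 3).trans (Function.Embedding.refl _)) (by norm_num) (fun _ => hall _) (((((LB_zero T ((skipEmb 3).trans (Function.Embedding.refl _))).upd 0 2 1 (le_of_eq hx02)).upd 0 3 1 (le_of_eq hx04)).upd 2 0 2 (le_of_eq hx20)).upd 3 0 2 (le_of_eq hx40)) ![1,0,1,1] (by decide) (by decide) 0 (by decide))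
  · -- 04=(2,1)
    exact False.elim (cert_false T ((skipEmb 3).trans (Function.Embedding.refl _)) (by norm_num) (fun _ => hall _) (((((LB_zero T ((skipEmb 3).trans (Function.Embedding.refl _))).upd 0 2 1 (le_of_eq hx02)).upd 0 3 2 (le_of_eq hx04)).upd 2 0 2 (le_of_eq hx20)).upd 3 0 1 (le_of_eq hx40)) ![2,0,2,1] (by decide) (by decide) 0 (by decide))
  · -- 04=(1,3)
    exact False.elim (cert_false T ((skipEmb 3).trans (Function.Embedding.refl _)) (by norm_num) (fun _ => hall _) (((((LB_zero T ((skipEmb 3).trans (Function.Embedding.refl _))).upd 0 2 1 (le_of_eq hx02)).upd 0 3 1 (le_of_eq hx04)).upd 2 0 2 (le_of_eq hx20)).upd 3 0 3 (le_of_eq hx40)) ![1,0,1,1] (by decide) (by decide) 0 (by decide))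
  · -- 04=(3,1)
    exact False.elim (cert_false T ((skipEmb 3).trans (Function.Embedding.refl _)) (by norm_num) (fun _ => hall _) (((((LB_zero T ((skipEmb 3).trans (Function.Embedding.refl _))).upd 0 2 1 (le_of_eq hx02)).upd 0 3 3 (le_of_eq hx04)).upd 2 0 2 (le_of_eq hx20)).upd 3 0 1 (le_of_eq hx40)) ![2,0,1,1] (by decide) (by decide) 0 (by decide))

theorem case291 (T : NumericalType 5) (hall : ∀ i, T.IsMinusTwo i) (d : SData T)
    (h01 : N T (Function.Embedding.refl _) 0 1 = 0) (h10 : N T (Function.Embedding.refl _) 1 0 = 0)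
    (h02 : N T (Function.Embedding.refl _) 0 2 = 1) (h20 : N T (Function.Embedding.refl _) 2 0 = 2)
    (h12 : N T (Function.Embedding.refl _) 1 2 = 0) (h21 : N T (Function.Embedding.refl _) 2 1 = 0)
    (h03 : N T (Function.Embedding.refl _) 0 3 = 0) (h30 : N T (Function.Embedding.refl _) 3 0 = 0)
    (h13 : N T (Function.Embedding.refl _) 1 3 = 1) (h31 : N T (Function.Embedding.refl _) 3 1 = 2) :
    Goal T := by
  unfold Goal
  have hd := d
  obtain ⟨x01, x02, x03, x04, x10, x12, x13, x14, x20, x21, x23, x24, x30, x31, x32, x34, x40, x41, x42, x43, hx01, hx02, hx03, hx04, hx10, hx12, hx13, hx14, hx20, hx21, hx23, hx24, hx30, hx31, hx32, hx34, hx40, hx41, hx42, hx43, hw0, hm0, hw1, hm1, hw2, hm2, hw3, hm3, hw4, hm4, a00, a01, a02, a03, a04, a11, a10, a12, a13, a14, a22, a20, a21, a23, a24, a33, a30, a31, a32, a34, a44, a40, a41, a42, a43, wN01, wN02, wN12, wN03, wN13, wN23, wN04, wN14, wN24, wN34, e0, e1, e2, e3,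 e4, d01, d02, d12, d03, d13, d23, d04, d14, d24, d34⟩ := d
  obtain rfl : x01 = 0 := hx01.trans h01
  obtain rfl : x10 = 0 := hx10.trans h10
  obtain rfl : x02 = 1 := hx02.trans h02
  obtain rfl : x20 = 2 := hx20.trans h20
  obtain rfl : x12 = 0 := hx12.trans h12
  obtain rfl : x21 = 0 := hx21.trans h21
  obtain rfl : x03 = 0 := hx03.trans h03
  obtain rfl : x30 = 0 := hx30.trans h30
  obtain rfl : x13 = 1 := hx13.trans h13
  obtain rfl : x31 = 2 := hx31.trans h31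
  rcases d23 with ⟨rfl, rfl⟩ | ⟨rfl, rfl⟩ | ⟨rfl, rfl⟩ | ⟨rfl, rfl⟩ | ⟨rfl, rfl⟩ | ⟨rfl, rfl⟩
  · -- 23=(0,0)
    exact case292 T hall hd hx01.symm hx10.symm hx02.symm hx20.symm hx12.symm hx21.symm hx03.symm hx30.symm hx13.symm hx31.symm hx23.symm hx32.symm
  · -- 23=(1,1)
    exact False.elim (cert_false T ((skipEmb 4).trans (Function.Embedding.refl _)) (by norm_num) (fun _ => hall _) (((((((LB_zero T ((skipEmb 4).trans (Function.Embedding.refl _))).upd 0 2 1 (le_of_eq hx02)).upd 1 3 1 (le_of_eq hx13)).upd 2 0 2 (le_of_eq hx20)).upd 2 3 1 (le_of_eq hx23)).upd 3 1 2 (le_of_eq hx31)).upd 3 2 1 (le_of_eq hx32)) ![1,1,2,2] (by decide) (by decide) 0 (by decide))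
  · -- 23=(1,2)
    exact False.elim (cert_false T ((skipEmb 4).trans (Function.Embedding.refl _)) (by norm_num) (fun _ => hall _) (((((LB_zero T ((skipEmb 4).trans (Function.Embedding.refl _))).upd 0 2 1 (le_of_eq hx02)).upd 2 0 2 (le_of_eq hx20)).upd 2 3 1 (le_of_eq hx23)).upd 3 2 2 (le_of_eq hx32)) ![1,0,2,2] (by decide) (by decide) 0 (by decide))
  · -- 23=(2,1)
    exact False.elim (cert_false T ((skipEmb 4).trans (Function.Embedding.refl _)) (by norm_num) (fun _ => hall _) (((((LB_zero T ((skipEmb 4).trans (Function.Embedding.refl _))).upd 1 3 1 (le_of_eq hx13)).upd 2 3 2 (le_of_eq hx23)).upd 3 1 2 (le_of_eq hx31)).upd 3 2 1 (le_of_eq hx32)) ![0,1,2,2] (by decide) (by decide) 1 (by decide))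
  · -- 23=(1,3)
    exact False.elim (cert_false T ((skipEmb 4).trans (Function.Embedding.refl _)) (by norm_num) (fun _ => hall _) (((((LB_zero T ((skipEmb 4).trans (Function.Embedding.refl _))).upd 0 2 1 (le_of_eq hx02)).upd 2 0 2 (le_of_eq hx20)).upd 2 3 1 (le_of_eq hx23)).upd 3 2 3 (le_of_eq hx32)) ![1,0,2,2] (by decide) (by decide) 0 (by decide))
  · -- 23=(3,1)
    exact False.elim (cert_false T ((skipEmb 4).trans (Function.Embedding.refl _)) (by norm_num) (fun _ => hall _) (((((LB_zero T ((skipEmb 4).trans (Function.Embedding.refl _))).upd 1 3 1 (le_of_eq hx13)).upd 2 3 3 (le_of_eq hx23)).upd 3 1 2 (le_of_eq hx31)).upd 3 2 1 (le_of_eq hx32)) ![0,1,2,2] (by decide) (by decide) 1 (by decide))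

theorem case371 (T : NumericalType 5) (hall : ∀ i, T.IsMinusTwo i) (d : SData T)
    (h01 : N T (Function.Embedding.refl _) 0 1 = 1) (h10 : N T (Function.Embedding.refl _) 1 0 = 1)
    (h02 : N T (Function.Embedding.refl _) 0 2 = 0) (h20 : N T (Function.Embedding.refl _) 2 0 = 0)
    (h12 : N T (Function.Embedding.refl _) 1 2 = 0) (h21 : N T (Function.Embedding.refl _) 2 1 = 0)
    (h03 : N T (Function.Embedding.refl _) 0 3 = 0) (h30 : N T (Function.Embedding.refl _) 3 0 = 0)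
    (h13 : N T (Function.Embedding.refl _) 1 3 = 1) (h31 : N T (Function.Embedding.refl _) 3 1 = 2)
    (h23 : N T (Function.Embedding.refl _) 2 3 = 0) (h32 : N T (Function.Embedding.refl _) 3 2 = 0) :
    Goal T := by
  unfold Goal
  have hd := d
  obtain ⟨x01, x02, x03, x04, x10, x12, x13, x14, x20, x21, x23, x24, x30, x31, x32, x34, x40, x41, x42, x43, hx01, hx02, hx03, hx04, hx10, hx12, hx13, hx14, hx20, hx21, hx23, hx24, hx30, hx31, hx32, hx34, hx40, hx41, hx42, hx43, hw0, hm0, hw1, hm1, hw2, hm2, hw3, hm3, hw4, hm4, a00, a01, a02, a03, a04, a11, a10, a12, a13, a14, a22, a20, a21, a23, a24, a33, a30, a31, a32, a34, a44, a40, a41, a42, a43, wN01, wN02, wN12, wN03, wN13, wN23, wN04, wN14, wN24, wN34, e0, e1, e2, e3, e4, d01, d02, d12, d03, d13, d23, d04, d14, d24, d34⟩ := d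
  obtain rfl : x01 = 1 := hx01.trans h01
  obtain rfl : x10 = 1 := hx10.trans h10
  obtain rfl : x02 = 0 := hx02.trans h02
  obtain rfl : x20 = 0 := hx20.trans h20
  obtain rfl : x12 = 0 := hx12.trans h12
  obtain rfl : x21 = 0 := hx21.trans h21
  obtain rfl : x03 = 0 := hx03.trans h03
  obtain rfl : x30 = 0 := hx30.trans h30
  obtain rfl : x13 = 1 := hx13.trans h13
  obtain rfl : x31 = 2 := hx31.trans h31
  obtain rfl : x23 = 0 := hx23.trans h23
  obtain rfl : x32 = 0 := hx32.trans h32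
  rcases d04 with ⟨rfl, rfl⟩ | ⟨rfl, rfl⟩ | ⟨rfl, rfl⟩ | ⟨rfl, rfl⟩ | ⟨rfl, rfl⟩ | ⟨rfl, rfl⟩
  · -- 04=(0,0)
    rcases d14 with ⟨rfl, rfl⟩ | ⟨rfl, rfl⟩ | ⟨rfl, rfl⟩ | ⟨rfl, rfl⟩ | ⟨rfl, rfl⟩ | ⟨rfl, rfl⟩
    · -- 14=(0,0)
      rcases d24 with ⟨rfl, rfl⟩ | ⟨rfl, rfl⟩ | ⟨rfl, rfl⟩ | ⟨rfl, rfl⟩ | ⟨rfl, rfl⟩ | ⟨rfl, rfl⟩
      · -- 24=(0,0)
        rcases d34 with ⟨rfl, rfl⟩ | ⟨rfl, rfl⟩ | ⟨rfl, rfl⟩ | ⟨rfl, rfl⟩ | ⟨rfl, rfl⟩ | ⟨rfl, rfl⟩
        · -- 34=(0,0)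
          exfalso; omega
        · -- 34=(1,1)
          exfalso; omega
        · -- 34=(1,2)
          exact False.elim (cert_false T ((skipEmb 2).trans (Function.Embedding.refl _)) (by norm_num) (fun _ => hall _) (((((LB_zero T ((skipEmb 2).trans (Function.Embedding.refl _))).upd 1 2 1 (le_of_eq hx13)).upd 2 1 2 (le_of_eq hx31)).upd 2 3 1 (le_of_eq hx34)).upd 3 2 2 (le_of_eq hx43)) ![0,1,2,2] (by decide) (by decide) 1 (by decide))
        · -- 34=(2,1)
          exact False.elim (cert_false T ((skipEmb 2).trans (Function.Embedding.refl _)) (by norm_num) (fun _ => hall _) (((((LB_zero T ((skipEmb 2).trans (Function.Embedding.refl _))).upd 1 2 1 (le_of_eq hx13)).upd 2 1 2 (le_of_eq hx31)).upd 2 3 2 (le_of_eq hx34)).upd 3 2 1 (le_of_eq hx43)) ![0,1,2,1] (by decide) (by decide) 1 (by decide))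
        · -- 34=(1,3)
          exact False.elim (cert_false T ((skipEmb 2).trans (Function.Embedding.refl _)) (by norm_num) (fun _ => hall _) (((((LB_zero T ((skipEmb 2).trans (Function.Embedding.refl _))).upd 1 2 1 (le_of_eq hx13)).upd 2 1 2 (le_of_eq hx31)).upd 2 3 1 (le_of_eq hx34)).upd 3 2 3 (le_of_eq hx43)) ![0,1,2,2] (by decide) (by decide) 1 (by decide))
        · -- 34=(3,1)
          exact False.elim (cert_false T ((skipEmb 2).trans (Function.Embedding.refl _)) (by norm_num) (fun _ => hall _) (((((LB_zero T ((skipEmb 2).trans (Function.Embedding.refl _))).upd 1 2 1 (le_of_eq hx13)).upd 2 1 2 (le_of_eq hx31)).upd 2 3 3 (le_of_eq hx34)).upd 3 2 1 (le_of_eq hx43)) ![0,1,2,1] (by decide) (by decide) 1 (by decide))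
      · -- 24=(1,1)
        rcases d34 with ⟨rfl, rfl⟩ | ⟨rfl, rfl⟩ | ⟨rfl, rfl⟩ | ⟨rfl, rfl⟩ | ⟨rfl, rfl⟩ | ⟨rfl, rfl⟩
        · -- 34=(0,0)
          exfalso; omega
        · -- 34=(1,1)
          refine ⟨(⟨![2, 4, 3, 1, 0], ![4, 3, 0, 2, 1], by decide, by decide⟩ : Equiv.Perm (Fin 5)), T.m 2, T.w 2, Or.inr (Or.inl ?_)⟩
          show T.m 2 = T.m 2 ∧ T.m 4 = 2 * T.m 2 ∧ T.m 3 = 3 * T.m 2 ∧ T.m 1 = 2 * T.m 2 ∧ T.m 0 = T.m 2 ∧ T.w 2 = T.w 2 ∧ T.w 4 = T.w 2 ∧ T.w 3 = T.w 2 ∧ T.w 1 = 2 * T.w 2 ∧ T.w 0 = 2 * T.w 2 ∧ T.a 2 2 = -2 * T.w 2 ∧ T.a 2 4 = T.w 2 ∧ T.a 2 3 = 0 ∧ T.a 2 1 = 0 ∧ T.a 2 0 = 0 ∧ T.a 4 4 = -2 * T.w 2 ∧ T.a 4 3 = T.w 2 ∧ T.a 4 1 = 0 ∧ T.a 4 0 = 0 ∧ T.a 3 3 = -2 * T.w 2 ∧ T.a 3 1 = 2 * T.w 2 ∧ T.a 3 0 = 0 ∧ T.a 1 1 = -4 * T.w 2 ∧ T.a 1 0 = 2 * T.w 2 ∧ T.a 0 0 = -4 * T.w 2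
          refine ⟨?_, ?_, ?_, ?_, ?_, ?_, ?_, ?_, ?_, ?_, ?_, ?_, ?_, ?_, ?_, ?_, ?_, ?_, ?_, ?_, ?_, ?_, ?_, ?_, ?_⟩ <;> omega
        · -- 34=(1,2)
          exact False.elim (cert_false T ((skipEmb 2).trans (Function.Embedding.refl _)) (by norm_num) (fun _ => hall _) (((((LB_zero T ((skipEmb 2).trans (Function.Embedding.refl _))).upd 1 2 1 (le_of_eq hx13)).upd 2 1 2 (le_of_eq hx31)).upd 2 3 1 (le_of_eq hx34)).upd 3 2 2 (le_of_eq hx43)) ![0,1,2,2] (by decide) (by decide) 1 (by decide))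
        · -- 34=(2,1)
          exact False.elim (cert_false T ((skipEmb 2).trans (Function.Embedding.refl _)) (by norm_num) (fun _ => hall _) (((((LB_zero T ((skipEmb 2).trans (Function.Embedding.refl _))).upd 1 2 1 (le_of_eq hx13)).upd 2 1 2 (le_of_eq hx31)).upd 2 3 2 (le_of_eq hx34)).upd 3 2 1 (le_of_eq hx43)) ![0,1,2,1] (by decide) (by decide) 1 (by decide))
        · -- 34=(1,3)
          exact False.elim (cert_false T ((skipEmb 2).trans (Function.Embedding.refl _)) (by norm_num) (fun _ => hall _) (((((LB_zero T ((skipEmb 2).trans (Function.Embedding.refl _))).upd 1 2 1 (le_of_eq hx13)).upd 2 1 2 (le_of_eq hx31)).upd 2 3 1 (le_of_eq hx34)).upd 3 2 3 (le_of_eq hx43)) ![0,1,2,2] (by decide) (by decide) 1 (by decide))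
        · -- 34=(3,1)
          exact False.elim (cert_false T ((skipEmb 2).trans (Function.Embedding.refl _)) (by norm_num) (fun _ => hall _) (((((LB_zero T ((skipEmb 2).trans (Function.Embedding.refl _))).upd 1 2 1 (le_of_eq hx13)).upd 2 1 2 (le_of_eq hx31)).upd 2 3 3 (le_of_eq hx34)).upd 3 2 1 (le_of_eq hx43)) ![0,1,2,1] (by decide) (by decide) 1 (by decide))
      · -- 24=(1,2)
        rcases d34 with ⟨rfl, rfl⟩ | ⟨rfl, rfl⟩ | ⟨rfl, rfl⟩ | ⟨rfl, rfl⟩ | ⟨rfl, rfl⟩ | ⟨rfl, rfl⟩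
        · -- 34=(0,0)
          exfalso; omega
        · -- 34=(1,1)
          exact False.elim (cert_false T ((skipEmb 0).trans (Function.Embedding.refl _)) (by norm_num) (fun _ => hall _) (((((((LB_zero T ((skipEmb 0).trans (Function.Embedding.refl _))).upd 0 2 1 (le_of_eq hx13)).upd 1 3 1 (le_of_eq hx24)).upd 2 0 2 (le_of_eq hx31)).upd 2 3 1 (le_of_eq hx34)).upd 3 1 2 (le_of_eq hx42)).upd 3 2 1 (le_of_eq hx43)) ![1,1,2,2] (by decide) (by decide) 0 (by decide))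
        · -- 34=(1,2)
          exact False.elim (cert_false T ((skipEmb 2).trans (Function.Embedding.refl _)) (by norm_num) (fun _ => hall _) (((((LB_zero T ((skipEmb 2).trans (Function.Embedding.refl _))).upd 1 2 1 (le_of_eq hx13)).upd 2 1 2 (le_of_eq hx31)).upd 2 3 1 (le_of_eq hx34)).upd 3 2 2 (le_of_eq hx43)) ![0,1,2,2] (by decide) (by decide) 1 (by decide))
        · -- 34=(2,1)
          exact False.elim (cert_false T ((skipEmb 2).trans (Function.Embedding.refl _)) (by norm_num) (fun _ => hall _) (((((LB_zero T ((skipEmb 2).trans (Function.Embedding.refl _))).upd 1 2 1 (le_of_eq hx13)).upd 2 1 2 (le_of_eq hx31)).upd 2 3 2 (le_of_eq hx34)).upd 3 2 1 (le_of_eq hx43)) ![0,1,2,1] (by decide) (by decide) 1 (by decide))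
        · -- 34=(1,3)
          exact False.elim (cert_false T ((skipEmb 2).trans (Function.Embedding.refl _)) (by norm_num) (fun _ => hall _) (((((LB_zero T ((skipEmb 2).trans (Function.Embedding.refl _))).upd 1 2 1 (le_of_eq hx13)).upd 2 1 2 (le_of_eq hx31)).upd 2 3 1 (le_of_eq hx34)).upd 3 2 3 (le_of_eq hx43)) ![0,1,2,2] (by decide) (by decide) 1 (by decide))
        · -- 34=(3,1)
          exact False.elim (cert_false T ((skipEmb 2).trans (Function.Embedding.refl _)) (by norm_num) (fun _ => hall _) (((((LB_zero T ((skipEmb 2).trans (Function.Embedding.refl _))).upd 1 2 1 (le_of_eq hx13)).upd 2 1 2 (le_of_eq hx31)).upd 2 3 3 (le_of_eq hx34)).upd 3 2 1 (le_of_eq hx43)) ![0,1,2,1] (by decide) (by decide) 1 (by decide))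
      · -- 24=(2,1)
        rcases d34 with ⟨rfl, rfl⟩ | ⟨rfl, rfl⟩ | ⟨rfl, rfl⟩ | ⟨rfl, rfl⟩ | ⟨rfl, rfl⟩ | ⟨rfl, rfl⟩
        · -- 34=(0,0)
          exfalso; omega
        · -- 34=(1,1)
          exact False.elim (cert_false T ((skipEmb 0).trans (Function.Embedding.refl _)) (by norm_num) (fun _ => hall _) (((((((LB_zero T ((skipEmb 0).trans (Function.Embedding.refl _))).upd 0 2 1 (le_of_eq hx13)).upd 1 3 2 (le_of_eq hx24)).upd 2 0 2 (le_of_eq hx31)).upd 2 3 1 (le_of_eq hx34)).upd 3 1 1 (le_of_eq hx42)).upd 3 2 1 (le_of_eq hx43)) ![1,2,2,2] (by decide) (by decide) 0 (by decide))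
        · -- 34=(1,2)
          exact False.elim (cert_false T ((skipEmb 2).trans (Function.Embedding.refl _)) (by norm_num) (fun _ => hall _) (((((LB_zero T ((skipEmb 2).trans (Function.Embedding.refl _))).upd 1 2 1 (le_of_eq hx13)).upd 2 1 2 (le_of_eq hx31)).upd 2 3 1 (le_of_eq hx34)).upd 3 2 2 (le_of_eq hx43)) ![0,1,2,2] (by decide) (by decide) 1 (by decide))
        · -- 34=(2,1)
          exact False.elim (cert_false T ((skipEmb 2).trans (Function.Embedding.refl _)) (by norm_num) (fun _ => hall _) (((((LB_zero T ((skipEmb 2).trans (Function.Embedding.refl _))).upd 1 2 1 (le_of_eq hx13)).upd 2 1 2 (le_of_eq hx31)).upd 2 3 2 (le_of_eq hx34)).upd 3 2 1 (le_of_eq hx43)) ![0,1,2,1] (by decide) (by decide) 1 (by decide))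
        · -- 34=(1,3)
          exact False.elim (cert_false T ((skipEmb 2).trans (Function.Embedding.refl _)) (by norm_num) (fun _ => hall _) (((((LB_zero T ((skipEmb 2).trans (Function.Embedding.refl _))).upd 1 2 1 (le_of_eq hx13)).upd 2 1 2 (le_of_eq hx31)).upd 2 3 1 (le_of_eq hx34)).upd 3 2 3 (le_of_eq hx43)) ![0,1,2,2] (by decide) (by decide) 1 (by decide))
        · -- 34=(3,1)
          exact False.elim (cert_false T ((skipEmb 2).trans (Function.Embedding.refl _)) (by norm_num) (fun _ => hall _) (((((LB_zero T ((skipEmb 2).trans (Function.Embedding.refl _))).upd 1 2 1 (le_of_eq hx13)).upd 2 1 2 (le_of_eq hx31)).upd 2 3 3 (le_of_eq hx34)).upd 3 2 1 (le_of_eq hx43)) ![0,1,2,1] (by decide) (by decide) 1 (by decide))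
      · -- 24=(1,3)
        rcases d34 with ⟨rfl, rfl⟩ | ⟨rfl, rfl⟩ | ⟨rfl, rfl⟩ | ⟨rfl, rfl⟩ | ⟨rfl, rfl⟩ | ⟨rfl, rfl⟩
        · -- 34=(0,0)
          exfalso; omega
        · -- 34=(1,1)
          exact False.elim (cert_false T ((skipEmb 1).trans (Function.Embedding.refl _)) (by norm_num) (fun _ => hall _) (((((LB_zero T ((skipEmb 1).trans (Function.Embedding.refl _))).upd 1 3 1 (le_of_eq hx24)).upd 2 3 1 (le_of_eq hx34)).upd 3 1 3 (le_of_eq hx42)).upd 3 2 1 (le_of_eq hx43)) ![0,1,1,2] (by decide) (by decide) 1 (by decide))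
        · -- 34=(1,2)
          exact False.elim (cert_false T ((skipEmb 2).trans (Function.Embedding.refl _)) (by norm_num) (fun _ => hall _) (((((LB_zero T ((skipEmb 2).trans (Function.Embedding.refl _))).upd 1 2 1 (le_of_eq hx13)).upd 2 1 2 (le_of_eq hx31)).upd 2 3 1 (le_of_eq hx34)).upd 3 2 2 (le_of_eq hx43)) ![0,1,2,2] (by decide) (by decide) 1 (by decide))
        · -- 34=(2,1)
          exact False.elim (cert_false T ((skipEmb 2).trans (Function.Embedding.refl _)) (by norm_num) (fun _ => hall _) (((((LB_zero T ((skipEmb 2).trans (Function.Embedding.refl _))).upd 1 2 1 (le_of_eq hx13)).upd 2 1 2 (le_of_eq hx31)).upd 2 3 2 (le_of_eq hx34)).upd 3 2 1 (le_of_eq hx43)) ![0,1,2,1] (by decide) (by decide) 1 (by decide))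
        · -- 34=(1,3)
          exact False.elim (cert_false T ((skipEmb 2).trans (Function.Embedding.refl _)) (by norm_num) (fun _ => hall _) (((((LB_zero T ((skipEmb 2).trans (Function.Embedding.refl _))).upd 1 2 1 (le_of_eq hx13)).upd 2 1 2 (le_of_eq hx31)).upd 2 3 1 (le_of_eq hx34)).upd 3 2 3 (le_of_eq hx43)) ![0,1,2,2] (by decide) (by decide) 1 (by decide))
        · -- 34=(3,1)
          exact False.elim (cert_false T ((skipEmb 2).trans (Function.Embedding.refl _)) (by norm_num) (fun _ => hall _) (((((LB_zero T ((skipEmb 2).trans (Function.Embedding.refl _))).upd 1 2 1 (le_of_eq hx13)).upd 2 1 2 (le_of_eq hx31)).upd 2 3 3 (le_of_eq hx34)).upd 3 2 1 (le_of_eq hx43)) ![0,1,2,1] (by decide) (by decide) 1 (by decide))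
      · -- 24=(3,1)
        rcases d34 with ⟨rfl, rfl⟩ | ⟨rfl, rfl⟩ | ⟨rfl, rfl⟩ | ⟨rfl, rfl⟩ | ⟨rfl, rfl⟩ | ⟨rfl, rfl⟩
        · -- 34=(0,0)
          exfalso; omega
        · -- 34=(1,1)
          exact False.elim (cert_false T ((skipEmb 1).trans (Function.Embedding.refl _)) (by norm_num) (fun _ => hall _) (((((LB_zero T ((skipEmb 1).trans (Function.Embedding.refl _))).upd 1 3 3 (le_of_eq hx24)).upd 2 3 1 (le_of_eq hx34)).upd 3 1 1 (le_of_eq hx42)).upd 3 2 1 (le_of_eq hx43)) ![0,3,1,2] (by decide) (by decide) 1 (by decide))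
        · -- 34=(1,2)
          exact False.elim (cert_false T ((skipEmb 2).trans (Function.Embedding.refl _)) (by norm_num) (fun _ => hall _) (((((LB_zero T ((skipEmb 2).trans (Function.Embedding.refl _))).upd 1 2 1 (le_of_eq hx13)).upd 2 1 2 (le_of_eq hx31)).upd 2 3 1 (le_of_eq hx34)).upd 3 2 2 (le_of_eq hx43)) ![0,1,2,2] (by decide) (by decide) 1 (by decide))
        · -- 34=(2,1)
          exact False.elim (cert_false T ((skipEmb 2).trans (Function.Embedding.refl _)) (by norm_num) (fun _ => hall _) (((((LB_zero T ((skipEmb 2).trans (Function.Embedding.refl _))).upd 1 2 1 (le_of_eq hx13)).upd 2 1 2 (le_of_eq hx31)).upd 2 3 2 (le_of_eq hx34)).upd 3 2 1 (le_of_eq hx43)) ![0,1,2,1] (by decide) (by decide) 1 (by decide))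
        · -- 34=(1,3)
          exact False.elim (cert_false T ((skipEmb 2).trans (Function.Embedding.refl _)) (by norm_num) (fun _ => hall _) (((((LB_zero T ((skipEmb 2).trans (Function.Embedding.refl _))).upd 1 2 1 (le_of_eq hx13)).upd 2 1 2 (le_of_eq hx31)).upd 2 3 1 (le_of_eq hx34)).upd 3 2 3 (le_of_eq hx43)) ![0,1,2,2] (by decide) (by decide) 1 (by decide))
        · -- 34=(3,1)
          exact False.elim (cert_false T ((skipEmb 2).trans (Function.Embedding.refl _)) (by norm_num) (fun _ => hall _) (((((LB_zero T ((skipEmb 2).trans (Function.Embedding.refl _))).upd 1 2 1 (le_of_eq hx13)).upd 2 1 2 (le_of_eq hx31)).upd 2 3 3 (le_of_eq hx34)).upd 3 2 1 (le_of_eq hx43)) ![0,1,2,1] (by decide) (by decide) 1 (by decide))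
    · -- 14=(1,1)
      exact False.elim (cert_false T ((skipEmb 2).trans (Function.Embedding.refl _)) (by norm_num) (fun _ => hall _) (((((((LB_zero T ((skipEmb 2).trans (Function.Embedding.refl _))).upd 0 1 1 (le_of_eq hx01)).upd 1 0 1 (le_of_eq hx10)).upd 1 2 1 (le_of_eq hx13)).upd 1 3 1 (le_of_eq hx14)).upd 2 1 2 (le_of_eq hx31)).upd 3 1 1 (le_of_eq hx41)) ![1,2,2,1] (by decide) (by decide) 0 (by decide))
    · -- 14=(1,2)
      exact False.elim (cert_false T ((skipEmb 2).trans (Function.Embedding.refl _)) (by norm_num) (fun _ => hall _) (((((LB_zero T ((skipEmb 2).trans (Function.Embedding.refl _))).upd 1 2 1 (le_of_eq hx13)).upd 1 3 1 (le_of_eq hx14)).upd 2 1 2 (le_of_eq hx31)).upd 3 1 2 (le_of_eq hx41)) ![0,1,1,1] (by decide) (by decide) 1 (by decide))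
    · -- 14=(2,1)
      exact False.elim (cert_false T ((skipEmb 2).trans (Function.Embedding.refl _)) (by norm_num) (fun _ => hall _) (((((LB_zero T ((skipEmb 2).trans (Function.Embedding.refl _))).upd 1 2 1 (le_of_eq hx13)).upd 1 3 2 (le_of_eq hx14)).upd 2 1 2 (le_of_eq hx31)).upd 3 1 1 (le_of_eq hx41)) ![0,2,2,1] (by decide) (by decide) 1 (by decide))
    · -- 14=(1,3)
      exact False.elim (cert_false T ((skipEmb 3).trans (Function.Embedding.refl _)) (by norm_num) (fun _ => hall _) (((((LB_zero T ((skipEmb 3).trans (Function.Embedding.refl _))).upd 0 1 1 (le_of_eq hx01)).upd 1 0 1 (le_of_eq hx10)).upd 1 3 1 (le_of_eq hx14)).upd 3 1 3 (le_of_eq hx41)) ![1,2,0,3] (by decide) (by decide) 0 (by decide))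
    · -- 14=(3,1)
      exact False.elim (cert_false T ((skipEmb 3).trans (Function.Embedding.refl _)) (by norm_num) (fun _ => hall _) (((((LB_zero T ((skipEmb 3).trans (Function.Embedding.refl _))).upd 0 1 1 (le_of_eq hx01)).upd 1 0 1 (le_of_eq hx10)).upd 1 3 3 (le_of_eq hx14)).upd 3 1 1 (le_of_eq hx41)) ![1,2,0,1] (by decide) (by decide) 0 (by decide))
  · -- 04=(1,1)
    rcases d14 with ⟨rfl, rfl⟩ | ⟨rfl, rfl⟩ | ⟨rfl, rfl⟩ | ⟨rfl, rfl⟩ | ⟨rfl, rfl⟩ | ⟨rfl, rfl⟩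
    · -- 14=(0,0)
      rcases d24 with ⟨rfl, rfl⟩ | ⟨rfl, rfl⟩ | ⟨rfl, rfl⟩ | ⟨rfl, rfl⟩ | ⟨rfl, rfl⟩ | ⟨rfl, rfl⟩
      · -- 24=(0,0)
        rcases d34 with ⟨rfl, rfl⟩ | ⟨rfl, rfl⟩ | ⟨rfl, rfl⟩ | ⟨rfl, rfl⟩ | ⟨rfl, rfl⟩ | ⟨rfl, rfl⟩
        · -- 34=(0,0)
          exfalso; omega
        · -- 34=(1,1)
          exact False.elim (cert_false T ((skipEmb 2).trans (Function.Embedding.refl _)) (by norm_num) (fun _ => hall _) (((((((((LB_zero T ((skipEmb 2).trans (Function.Embedding.refl _))).upd 0 1 1 (le_of_eq hx01)).upd 0 3 1 (le_of_eq hx04)).upd 1 0 1 (le_of_eq hx10)).upd 1 2 1 (le_of_eq hx13)).upd 2 1 2 (le_of_eq hx31)).upd 2 3 1 (le_of_eq hx34)).upd 3 0 1 (le_of_eq hx40)).upd 3 2 1 (le_of_eq hx43)) ![1,1,1,1] (by decide) (by decide) 0 (by decide))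
        · -- 34=(1,2)
          exact False.elim (cert_false T ((skipEmb 2).trans (Function.Embedding.refl _)) (by norm_num) (fun _ => hall _) (((((((((LB_zero T ((skipEmb 2).trans (Function.Embedding.refl _))).upd 0 1 1 (le_of_eq hx01)).upd 0 3 1 (le_of_eq hx04)).upd 1 0 1 (le_of_eq hx10)).upd 1 2 1 (le_of_eq hx13)).upd 2 1 2 (le_of_eq hx31)).upd 2 3 1 (le_of_eq hx34)).upd 3 0 1 (le_of_eq hx40)).upd 3 2 2 (le_of_eq hx43)) ![1,1,1,1] (by decide) (by decide) 0 (by decide))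
        · -- 34=(2,1)
          exact False.elim (cert_false T ((skipEmb 2).trans (Function.Embedding.refl _)) (by norm_num) (fun _ => hall _) (((((((((LB_zero T ((skipEmb 2).trans (Function.Embedding.refl _))).upd 0 1 1 (le_of_eq hx01)).upd 0 3 1 (le_of_eq hx04)).upd 1 0 1 (le_of_eq hx10)).upd 1 2 1 (le_of_eq hx13)).upd 2 1 2 (le_of_eq hx31)).upd 2 3 2 (le_of_eq hx34)).upd 3 0 1 (le_of_eq hx40)).upd 3 2 1 (le_of_eq hx43)) ![1,1,1,1] (by decide) (by decide) 0 (by decide))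
        · -- 34=(1,3)
          exact False.elim (cert_false T ((skipEmb 2).trans (Function.Embedding.refl _)) (by norm_num) (fun _ => hall _) (((((((((LB_zero T ((skipEmb 2).trans (Function.Embedding.refl _))).upd 0 1 1 (le_of_eq hx01)).upd 0 3 1 (le_of_eq hx04)).upd 1 0 1 (le_of_eq hx10)).upd 1 2 1 (le_of_eq hx13)).upd 2 1 2 (le_of_eq hx31)).upd 2 3 1 (le_of_eq hx34)).upd 3 0 1 (le_of_eq hx40)).upd 3 2 3 (le_of_eq hx43)) ![1,1,1,1] (by decide) (by decide) 0 (by decide))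
        · -- 34=(3,1)
          exact False.elim (cert_false T ((skipEmb 2).trans (Function.Embedding.refl _)) (by norm_num) (fun _ => hall _) (((((((((LB_zero T ((skipEmb 2).trans (Function.Embedding.refl _))).upd 0 1 1 (le_of_eq hx01)).upd 0 3 1 (le_of_eq hx04)).upd 1 0 1 (le_of_eq hx10)).upd 1 2 1 (le_of_eq hx13)).upd 2 1 2 (le_of_eq hx31)).upd 2 3 3 (le_of_eq hx34)).upd 3 0 1 (le_of_eq hx40)).upd 3 2 1 (le_of_eq hx43)) ![1,1,1,1] (by decide) (by decide) 0 (by decide))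
      · -- 24=(1,1)
        rcases d34 with ⟨rfl, rfl⟩ | ⟨rfl, rfl⟩ | ⟨rfl, rfl⟩ | ⟨rfl, rfl⟩ | ⟨rfl, rfl⟩ | ⟨rfl, rfl⟩
        · -- 34=(0,0)
          exfalso; omega
        · -- 34=(1,1)
          exact False.elim (cert_false T ((skipEmb 2).trans (Function.Embedding.refl _)) (by norm_num) (fun _ => hall _) (((((((((LB_zero T ((skipEmb 2).trans (Function.Embedding.refl _))).upd 0 1 1 (le_of_eq hx01)).upd 0 3 1 (le_of_eq hx04)).upd 1 0 1 (le_of_eq hx10)).upd 1 2 1 (le_of_eq hx13)).upd 2 1 2 (le_of_eq hx31)).upd 2 3 1 (le_of_eq hx34)).upd 3 0 1 (le_of_eq hx40)).upd 3 2 1 (le_of_eq hx43)) ![1,1,1,1] (by decide) (by decide) 0 (by decide))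
        · -- 34=(1,2)
          exact False.elim (cert_false T ((skipEmb 2).trans (Function.Embedding.refl _)) (by norm_num) (fun _ => hall _) (((((((((LB_zero T ((skipEmb 2).trans (Function.Embedding.refl _))).upd 0 1 1 (le_of_eq hx01)).upd 0 3 1 (le_of_eq hx04)).upd 1 0 1 (le_of_eq hx10)).upd 1 2 1 (le_of_eq hx13)).upd 2 1 2 (le_of_eq hx31)).upd 2 3 1 (le_of_eq hx34)).upd 3 0 1 (le_of_eq hx40)).upd 3 2 2 (le_of_eq hx43)) ![1,1,1,1] (by decide) (by decide) 0 (by decide))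
        · -- 34=(2,1)
          exact False.elim (cert_false T ((skipEmb 2).trans (Function.Embedding.refl _)) (by norm_num) (fun _ => hall _) (((((((((LB_zero T ((skipEmb 2).trans (Function.Embedding.refl _))).upd 0 1 1 (le_of_eq hx01)).upd 0 3 1 (le_of_eq hx04)).upd 1 0 1 (le_of_eq hx10)).upd 1 2 1 (le_of_eq hx13)).upd 2 1 2 (le_of_eq hx31)).upd 2 3 2 (le_of_eq hx34)).upd 3 0 1 (le_of_eq hx40)).upd 3 2 1 (le_of_eq hx43)) ![1,1,1,1] (by decide) (by decide) 0 (by decide))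
        · -- 34=(1,3)
          exact False.elim (cert_false T ((skipEmb 2).trans (Function.Embedding.refl _)) (by norm_num) (fun _ => hall _) (((((((((LB_zero T ((skipEmb 2).trans (Function.Embedding.refl _))).upd 0 1 1 (le_of_eq hx01)).upd 0 3 1 (le_of_eq hx04)).upd 1 0 1 (le_of_eq hx10)).upd 1 2 1 (le_of_eq hx13)).upd 2 1 2 (le_of_eq hx31)).upd 2 3 1 (le_of_eq hx34)).upd 3 0 1 (le_of_eq hx40)).upd 3 2 3 (le_of_eq hx43)) ![1,1,1,1] (by decide) (by decide) 0 (by decide))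
        · -- 34=(3,1)
          exact False.elim (cert_false T ((skipEmb 2).trans (Function.Embedding.refl _)) (by norm_num) (fun _ => hall _) (((((((((LB_zero T ((skipEmb 2).trans (Function.Embedding.refl _))).upd 0 1 1 (le_of_eq hx01)).upd 0 3 1 (le_of_eq hx04)).upd 1 0 1 (le_of_eq hx10)).upd 1 2 1 (le_of_eq hx13)).upd 2 1 2 (le_of_eq hx31)).upd 2 3 3 (le_of_eq hx34)).upd 3 0 1 (le_of_eq hx40)).upd 3 2 1 (le_of_eq hx43)) ![1,1,1,1] (by decide) (by decide) 0 (by decide))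
      · -- 24=(1,2)
        rcases d34 with ⟨rfl, rfl⟩ | ⟨rfl, rfl⟩ | ⟨rfl, rfl⟩ | ⟨rfl, rfl⟩ | ⟨rfl, rfl⟩ | ⟨rfl, rfl⟩
        · -- 34=(0,0)
          refine ⟨(⟨![3, 1, 0, 4, 2], ![2, 1, 4, 0, 3], by decide, by decide⟩ : Equiv.Perm (Fin 5)), T.m 2, T.w 3, Or.inr (Or.inr (Or.inr (Or.inl ?_)))⟩
          show T.m 3 = 2 * T.m 2 ∧ T.m 1 = 2 * T.m 2 ∧ T.m 0 = 2 * T.m 2 ∧ T.m 4 = 2 * T.m 2 ∧ T.m 2 = T.m 2 ∧ T.w 3 = T.w 3 ∧ T.w 1 = 2 * T.w 3 ∧ T.w 0 = 2 * T.w 3 ∧ T.w 4 = 2 * T.w 3 ∧ T.w 2 = 4 * T.w 3 ∧ T.a 3 3 = -2 * T.w 3 ∧ T.a 3 1 = 2 * T.w 3 ∧ T.a 3 0 = 0 ∧ T.a 3 4 = 0 ∧ T.a 3 2 = 0 ∧ T.a 1 1 = -4 * T.w 3 ∧ T.a 1 0 = 2 * T.w 3 ∧ T.a 1 4 = 0 ∧ T.a 1 2 = 0 ∧ T.a 0 0 = -4 * T.w 3 ∧ T.a 0 4 = 2 * T.w 3 ∧ T.a 0 2 = 0 ∧ T.a 4 4 = -4 * T.w 3 ∧ T.a 4 2 = 4 * T.w 3 ∧ T.a 2 2 = -8 * T.w 3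
          refine ⟨?_, ?_, ?_, ?_, ?_, ?_, ?_, ?_, ?_, ?_, ?_, ?_, ?_, ?_, ?_, ?_, ?_, ?_, ?_, ?_, ?_, ?_, ?_, ?_, ?_⟩ <;> omega
        · -- 34=(1,1)
          exact False.elim (cert_false T ((skipEmb 2).trans (Function.Embedding.refl _)) (by norm_num) (fun _ => hall _) (((((((((LB_zero T ((skipEmb 2).trans (Function.Embedding.refl _))).upd 0 1 1 (le_of_eq hx01)).upd 0 3 1 (le_of_eq hx04)).upd 1 0 1 (le_of_eq hx10)).upd 1 2 1 (le_of_eq hx13)).upd 2 1 2 (le_of_eq hx31)).upd 2 3 1 (le_of_eq hx34)).upd 3 0 1 (le_of_eq hx40)).upd 3 2 1 (le_of_eq hx43)) ![1,1,1,1] (by decide) (by decide) 0 (by decide))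
        · -- 34=(1,2)
          exact False.elim (cert_false T ((skipEmb 2).trans (Function.Embedding.refl _)) (by norm_num) (fun _ => hall _) (((((((((LB_zero T ((skipEmb 2).trans (Function.Embedding.refl _))).upd 0 1 1 (le_of_eq hx01)).upd 0 3 1 (le_of_eq hx04)).upd 1 0 1 (le_of_eq hx10)).upd 1 2 1 (le_of_eq hx13)).upd 2 1 2 (le_of_eq hx31)).upd 2 3 1 (le_of_eq hx34)).upd 3 0 1 (le_of_eq hx40)).upd 3 2 2 (le_of_eq hx43)) ![1,1,1,1] (by decide) (by decide) 0 (by decide))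
        · -- 34=(2,1)
          exact False.elim (cert_false T ((skipEmb 2).trans (Function.Embedding.refl _)) (by norm_num) (fun _ => hall _) (((((((((LB_zero T ((skipEmb 2).trans (Function.Embedding.refl _))).upd 0 1 1 (le_of_eq hx01)).upd 0 3 1 (le_of_eq hx04)).upd 1 0 1 (le_of_eq hx10)).upd 1 2 1 (le_of_eq hx13)).upd 2 1 2 (le_of_eq hx31)).upd 2 3 2 (le_of_eq hx34)).upd 3 0 1 (le_of_eq hx40)).upd 3 2 1 (le_of_eq hx43)) ![1,1,1,1] (by decide) (by decide) 0 (by decide))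
        · -- 34=(1,3)
          exact False.elim (cert_false T ((skipEmb 2).trans (Function.Embedding.refl _)) (by norm_num) (fun _ => hall _) (((((((((LB_zero T ((skipEmb 2).trans (Function.Embedding.refl _))).upd 0 1 1 (le_of_eq hx01)).upd 0 3 1 (le_of_eq hx04)).upd 1 0 1 (le_of_eq hx10)).upd 1 2 1 (le_of_eq hx13)).upd 2 1 2 (le_of_eq hx31)).upd 2 3 1 (le_of_eq hx34)).upd 3 0 1 (le_of_eq hx40)).upd 3 2 3 (le_of_eq hx43)) ![1,1,1,1] (by decide) (by decide) 0 (by decide))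
        · -- 34=(3,1)
          exact False.elim (cert_false T ((skipEmb 2).trans (Function.Embedding.refl _)) (by norm_num) (fun _ => hall _) (((((((((LB_zero T ((skipEmb 2).trans (Function.Embedding.refl _))).upd 0 1 1 (le_of_eq hx01)).upd 0 3 1 (le_of_eq hx04)).upd 1 0 1 (le_of_eq hx10)).upd 1 2 1 (le_of_eq hx13)).upd 2 1 2 (le_of_eq hx31)).upd 2 3 3 (le_of_eq hx34)).upd 3 0 1 (le_of_eq hx40)).upd 3 2 1 (le_of_eq hx43)) ![1,1,1,1] (by decide) (by decide) 0 (by decide))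
      · -- 24=(2,1)
        rcases d34 with ⟨rfl, rfl⟩ | ⟨rfl, rfl⟩ | ⟨rfl, rfl⟩ | ⟨rfl, rfl⟩ | ⟨rfl, rfl⟩ | ⟨rfl, rfl⟩
        · -- 34=(0,0)
          refine ⟨(⟨![2, 4, 0, 1, 3], ![2, 3, 0, 4, 1], by decide, by decide⟩ : Equiv.Perm (Fin 5)), T.m 2, T.w 2, Or.inr (Or.inr (Or.inr (Or.inr (Or.inl ?_))))⟩
          show T.m 2 = T.m 2 ∧ T.m 4 = T.m 2 ∧ T.m 0 = T.m 2 ∧ T.m 1 = T.m 2 ∧ T.m 3 = T.m 2 ∧ T.w 2 = T.w 2 ∧ T.w 4 = 2 * T.w 2 ∧ T.w 0 = 2 * T.w 2 ∧ T.w 1 = 2 * T.w 2 ∧ T.w 3 = T.w 2 ∧ T.a 2 2 = -2 * T.w 2 ∧ T.a 2 4 = 2 * T.w 2 ∧ T.a 2 0 = 0 ∧ T.a 2 1 = 0 ∧ T.a 2 3 = 0 ∧ T.a 4 4 = -4 * T.w 2 ∧ T.a 4 0 = 2 * T.w 2 ∧ T.a 4 1 = 0 ∧ T.a 4 3 = 0 ∧ T.a 0 0 = -4 * T.w 2 ∧ T.a 0 1 = 2 * T.w 2 ∧ T.a 0 3 = 0 ∧ T.a 1 1 = -4 * T.w 2 ∧ T.a 1 3 = 2 * T.w 2 ∧ T.a 3 3 = -2 * T.w 2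
          refine ⟨?_, ?_, ?_, ?_, ?_, ?_, ?_, ?_, ?_, ?_, ?_, ?_, ?_, ?_, ?_, ?_, ?_, ?_, ?_, ?_, ?_, ?_, ?_, ?_, ?_⟩ <;> omega
        · -- 34=(1,1)
          exact False.elim (cert_false T ((skipEmb 2).trans (Function.Embedding.refl _)) (by norm_num) (fun _ => hall _) (((((((((LB_zero T ((skipEmb 2).trans (Function.Embedding.refl _))).upd 0 1 1 (le_of_eq hx01)).upd 0 3 1 (le_of_eq hx04)).upd 1 0 1 (le_of_eq hx10)).upd 1 2 1 (le_of_eq hx13)).upd 2 1 2 (le_of_eq hx31)).upd 2 3 1 (le_of_eq hx34)).upd 3 0 1 (le_of_eq hx40)).upd 3 2 1 (le_of_eq hx43)) ![1,1,1,1] (by decide) (by decide) 0 (by decide))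
        · -- 34=(1,2)
          exact False.elim (cert_false T ((skipEmb 2).trans (Function.Embedding.refl _)) (by norm_num) (fun _ => hall _) (((((((((LB_zero T ((skipEmb 2).trans (Function.Embedding.refl _))).upd 0 1 1 (le_of_eq hx01)).upd 0 3 1 (le_of_eq hx04)).upd 1 0 1 (le_of_eq hx10)).upd 1 2 1 (le_of_eq hx13)).upd 2 1 2 (le_of_eq hx31)).upd 2 3 1 (le_of_eq hx34)).upd 3 0 1 (le_of_eq hx40)).upd 3 2 2 (le_of_eq hx43)) ![1,1,1,1] (by decide) (by decide) 0 (by decide))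
        · -- 34=(2,1)
          exact False.elim (cert_false T ((skipEmb 2).trans (Function.Embedding.refl _)) (by norm_num) (fun _ => hall _) (((((((((LB_zero T ((skipEmb 2).trans (Function.Embedding.refl _))).upd 0 1 1 (le_of_eq hx01)).upd 0 3 1 (le_of_eq hx04)).upd 1 0 1 (le_of_eq hx10)).upd 1 2 1 (le_of_eq hx13)).upd 2 1 2 (le_of_eq hx31)).upd 2 3 2 (le_of_eq hx34)).upd 3 0 1 (le_of_eq hx40)).upd 3 2 1 (le_of_eq hx43)) ![1,1,1,1] (by decide) (by decide) 0 (by decide))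
        · -- 34=(1,3)
          exact False.elim (cert_false T ((skipEmb 2).trans (Function.Embedding.refl _)) (by norm_num) (fun _ => hall _) (((((((((LB_zero T ((skipEmb 2).trans (Function.Embedding.refl _))).upd 0 1 1 (le_of_eq hx01)).upd 0 3 1 (le_of_eq hx04)).upd 1 0 1 (le_of_eq hx10)).upd 1 2 1 (le_of_eq hx13)).upd 2 1 2 (le_of_eq hx31)).upd 2 3 1 (le_of_eq hx34)).upd 3 0 1 (le_of_eq hx40)).upd 3 2 3 (le_of_eq hx43)) ![1,1,1,1] (by decide) (by decide) 0 (by decide))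
        · -- 34=(3,1)
          exact False.elim (cert_false T ((skipEmb 2).trans (Function.Embedding.refl _)) (by norm_num) (fun _ => hall _) (((((((((LB_zero T ((skipEmb 2).trans (Function.Embedding.refl _))).upd 0 1 1 (le_of_eq hx01)).upd 0 3 1 (le_of_eq hx04)).upd 1 0 1 (le_of_eq hx10)).upd 1 2 1 (le_of_eq hx13)).upd 2 1 2 (le_of_eq hx31)).upd 2 3 3 (le_of_eq hx34)).upd 3 0 1 (le_of_eq hx40)).upd 3 2 1 (le_of_eq hx43)) ![1,1,1,1] (by decide) (by decide) 0 (by decide))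
      · -- 24=(1,3)
        exact False.elim (cert_false T ((skipEmb 3).trans (Function.Embedding.refl _)) (by norm_num) (fun _ => hall _) (((((LB_zero T ((skipEmb 3).trans (Function.Embedding.refl _))).upd 0 3 1 (le_of_eq hx04)).upd 2 3 1 (le_of_eq hx24)).upd 3 0 1 (le_of_eq hx40)).upd 3 2 3 (le_of_eq hx42)) ![1,0,1,2] (by decide) (by decide) 0 (by decide))
      · -- 24=(3,1)
        exact False.elim (cert_false T ((skipEmb 3).trans (Function.Embedding.refl _)) (by norm_num) (fun _ => hall _) (((((LB_zero T ((skipEmb 3).trans (Function.Embedding.refl _))).upd 0 3 1 (le_of_eq hx04)).upd 2 3 3 (le_of_eq hx24)).upd 3 0 1 (le_of_eq hx40)).upd 3 2 1 (le_of_eq hx42)) ![1,0,3,2] (by decide) (by decide) 0 (by decide))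
    · -- 14=(1,1)
      exact False.elim (cert_false T ((skipEmb 3).trans (Function.Embedding.refl _)) (by norm_num) (fun _ => hall _) (((((((LB_zero T ((skipEmb 3).trans (Function.Embedding.refl _))).upd 0 1 1 (le_of_eq hx01)).upd 0 3 1 (le_of_eq hx04)).upd 1 0 1 (le_of_eq hx10)).upd 1 3 1 (le_of_eq hx14)).upd 3 0 1 (le_of_eq hx40)).upd 3 1 1 (le_of_eq hx41)) ![1,1,0,1] (by decide) (by decide) 0 (by decide))
    · -- 14=(1,2)
      exact False.elim (cert_false T ((skipEmb 3).trans (Function.Embedding.refl _)) (by norm_num) (fun _ => hall _) (((((((LB_zero T ((skipEmb 3).trans (Function.Embedding.refl _))).upd 0 1 1 (le_of_eq hx01)).upd 0 3 1 (le_of_eq hx04)).upd 1 0 1 (le_of_eq hx10)).upd 1 3 1 (le_of_eq hx14)).upd 3 0 1 (le_of_eq hx40)).upd 3 1 2 (le_of_eq hx41)) ![1,1,0,1] (by decide) (by decide) 0 (by decide))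
    · -- 14=(2,1)
      exact False.elim (cert_false T ((skipEmb 3).trans (Function.Embedding.refl _)) (by norm_num) (fun _ => hall _) (((((((LB_zero T ((skipEmb 3).trans (Function.Embedding.refl _))).upd 0 1 1 (le_of_eq hx01)).upd 0 3 1 (le_of_eq hx04)).upd 1 0 1 (le_of_eq hx10)).upd 1 3 2 (le_of_eq hx14)).upd 3 0 1 (le_of_eq hx40)).upd 3 1 1 (le_of_eq hx41)) ![1,1,0,1] (by decide) (by decide) 0 (by decide))
    · -- 14=(1,3)
      exact False.elim (cert_false T ((skipEmb 3).trans (Function.Embedding.refl _)) (by norm_num) (fun _ => hall _) (((((((LB_zero T ((skipEmb 3).trans (Function.Embedding.refl _))).upd 0 1 1 (le_of_eq hx01)).upd 0 3 1 (le_of_eq hx04)).upd 1 0 1 (le_of_eq hx10)).upd 1 3 1 (le_of_eq hx14)).upd 3 0 1 (le_of_eq hx40)).upd 3 1 3 (le_of_eq hx41)) ![1,1,0,1] (by decide) (by decide) 0 (by decide))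
    · -- 14=(3,1)
      exact False.elim (cert_false T ((skipEmb 3).trans (Function.Embedding.refl _)) (by norm_num) (fun _ => hall _) (((((((LB_zero T ((skipEmb 3).trans (Function.Embedding.refl _))).upd 0 1 1 (le_of_eq hx01)).upd 0 3 1 (le_of_eq hx04)).upd 1 0 1 (le_of_eq hx10)).upd 1 3 3 (le_of_eq hx14)).upd 3 0 1 (le_of_eq hx40)).upd 3 1 1 (le_of_eq hx41)) ![1,1,0,1] (by decide) (by decide) 0 (by decide))
  · -- 04=(1,2)
    exact False.elim (cert_false T ((skipEmb 2).trans (Function.Embedding.refl _)) (by norm_num) (fun _ => hall _) (((((((LB_zero T ((skipEmb 2).trans (Function.Embedding.refl _))).upd 0 1 1 (le_of_eq hx01)).upd 0 3 1 (le_of_eq hx04)).upd 1 0 1 (le_of_eq hx10)).upd 1 2 1 (le_of_eq hx13)).upd 2 1 2 (le_of_eq hx31)).upd 3 0 2 (le_of_eq hx40)) ![1,1,1,1] (by decide) (by decide) 0 (by decide))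
  · -- 04=(2,1)
    exact False.elim (cert_false T ((skipEmb 2).trans (Function.Embedding.refl _)) (by norm_num) (fun _ => hall _) (((((((LB_zero T ((skipEmb 2).trans (Function.Embedding.refl _))).upd 0 1 1 (le_of_eq hx01)).upd 0 3 2 (le_of_eq hx04)).upd 1 0 1 (le_of_eq hx10)).upd 1 2 1 (le_of_eq hx13)).upd 2 1 2 (le_of_eq hx31)).upd 3 0 1 (le_of_eq hx40)) ![2,2,2,1] (by decide) (by decide) 0 (by decide))
  · -- 04=(1,3)
    exact False.elim (cert_false T ((skipEmb 3).trans (Function.Embedding.refl _)) (by norm_num) (fun _ => hall _) (((((LB_zero T ((skipEmb 3).trans (Function.Embedding.refl _))).upd 0 1 1 (le_of_eq hx01)).upd 0 3 1 (le_of_eq hx04)).upd 1 0 1 (le_of_eq hx10)).upd 3 0 3 (le_of_eq hx40)) ![2,1,0,3] (by decide) (by decide) 0 (by decide))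
  · -- 04=(3,1)
    exact False.elim (cert_false T ((skipEmb 3).trans (Function.Embedding.refl _)) (by norm_num) (fun _ => hall _) (((((LB_zero T ((skipEmb 3).trans (Function.Embedding.refl _))).upd 0 1 1 (le_of_eq hx01)).upd 0 3 3 (le_of_eq hx04)).upd 1 0 1 (le_of_eq hx10)).upd 3 0 1 (le_of_eq hx40)) ![2,1,0,1] (by decide) (by decide) 0 (by decide))

theorem case370 (T : NumericalType 5) (hall : ∀ i, T.IsMinusTwo i) (d : SData T)
    (h01 : N T (Function.Embedding.refl _) 0 1 = 1) (h10 : N T (Function.Embedding.refl _) 1 0 = 1)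
    (h02 : N T (Function.Embedding.refl _) 0 2 = 0) (h20 : N T (Function.Embedding.refl _) 2 0 = 0)
    (h12 : N T (Function.Embedding.refl _) 1 2 = 0) (h21 : N T (Function.Embedding.refl _) 2 1 = 0)
    (h03 : N T (Function.Embedding.refl _) 0 3 = 0) (h30 : N T (Function.Embedding.refl _) 3 0 = 0)
    (h13 : N T (Function.Embedding.refl _) 1 3 = 1) (h31 : N T (Function.Embedding.refl _) 3 1 = 2) :
    Goal T := by
  unfold Goal
  have hd := d
  obtain ⟨x01, x02, x03, x04, x10, x12, x13, x14, x20, x21, x23, x24, x30, x31, x32, x34, x40, x41, x42, x43, hx01, hx02, hx03, hx04, hx10, hx12, hx13, hx14, hx20, hx21, hx23, hx24, hx30, hx31, hx32, hx34, hx40, hx41, hx42, hx43, hw0, hm0, hw1, hm1, hw2, hm2, hw3, hm3, hw4, hm4, a00, a01, a02, a03, a04, a11, a10, a12, a13, a14, a22, a20, a21, a23, a24, a33, a30, a31, a32, a34, a44, a40, a41, a42, a43, wN01, wN02, wN12, wN03, wN13, wN23, wN04, wN14, wN24, wN34, e0, e1, e2, e3,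 e4, d01, d02, d12, d03, d13, d23, d04, d14, d24, d34⟩ := d
  obtain rfl : x01 = 1 := hx01.trans h01
  obtain rfl : x10 = 1 := hx10.trans h10
  obtain rfl : x02 = 0 := hx02.trans h02
  obtain rfl : x20 = 0 := hx20.trans h20
  obtain rfl : x12 = 0 := hx12.trans h12
  obtain rfl : x21 = 0 := hx21.trans h21
  obtain rfl : x03 = 0 := hx03.trans h03
  obtain rfl : x30 = 0 := hx30.trans h30
  obtain rfl : x13 = 1 := hx13.trans h13
  obtain rfl : x31 = 2 := hx31.trans h31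
  rcases d23 with ⟨rfl, rfl⟩ | ⟨rfl, rfl⟩ | ⟨rfl, rfl⟩ | ⟨rfl, rfl⟩ | ⟨rfl, rfl⟩ | ⟨rfl, rfl⟩
  · -- 23=(0,0)
    exact case371 T hall hd hx01.symm hx10.symm hx02.symm hx20.symm hx12.symm hx21.symm hx03.symm hx30.symm hx13.symm hx31.symm hx23.symm hx32.symm
  · -- 23=(1,1)
    rcases d04 with ⟨rfl, rfl⟩ | ⟨rfl, rfl⟩ | ⟨rfl, rfl⟩ | ⟨rfl, rfl⟩ | ⟨rfl, rfl⟩ | ⟨rfl, rfl⟩
    · -- 04=(0,0)
      rcases d14 with ⟨rfl, rfl⟩ | ⟨rfl, rfl⟩ | ⟨rfl, rfl⟩ | ⟨rfl, rfl⟩ | ⟨rfl, rfl⟩ | ⟨rfl, rfl⟩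
      · -- 14=(0,0)
        rcases d24 with ⟨rfl, rfl⟩ | ⟨rfl, rfl⟩ | ⟨rfl, rfl⟩ | ⟨rfl, rfl⟩ | ⟨rfl, rfl⟩ | ⟨rfl, rfl⟩
        · -- 24=(0,0)
          rcases d34 with ⟨rfl, rfl⟩ | ⟨rfl, rfl⟩ | ⟨rfl, rfl⟩ | ⟨rfl, rfl⟩ | ⟨rfl, rfl⟩ | ⟨rfl, rfl⟩
          · -- 34=(0,0)
            exfalso; omega
          · -- 34=(1,1)
            exact False.elim (cert_false T ((skipEmb 0).trans (Function.Embedding.refl _)) (by norm_num) (fun _ => hall _) (((((((LB_zero T ((skipEmb 0).trans (Function.Embedding.refl _))).upd 0 2 1 (le_of_eq hx13)).upd 1 2 1 (le_of_eq hx23)).upd 2 0 2 (le_of_eq hx31)).upd 2 1 1 (le_of_eq hx32)).upd 2 3 1 (le_of_eq hx34)).upd 3 2 1 (le_of_eq hx43)) ![1,1,2,1] (by decide) (by decide) 0 (by decide))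
          · -- 34=(1,2)
            exact False.elim (cert_false T ((skipEmb 2).trans (Function.Embedding.refl _)) (by norm_num) (fun _ => hall _) (((((LB_zero T ((skipEmb 2).trans (Function.Embedding.refl _))).upd 1 2 1 (le_of_eq hx13)).upd 2 1 2 (le_of_eq hx31)).upd 2 3 1 (le_of_eq hx34)).upd 3 2 2 (le_of_eq hx43)) ![0,1,2,2] (by decide) (by decide) 1 (by decide))
          · -- 34=(2,1)
            exact False.elim (cert_false T ((skipEmb 2).trans (Function.Embedding.refl _)) (by norm_num) (fun _ => hall _) (((((LB_zero T ((skipEmb 2).trans (Function.Embedding.refl _))).upd 1 2 1 (le_of_eq hx13)).upd 2 1 2 (le_of_eq hx31)).upd 2 3 2 (le_of_eq hx34)).upd 3 2 1 (le_of_eq hx43)) ![0,1,2,1] (by decide) (by decide) 1 (by decide))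
          · -- 34=(1,3)
            exact False.elim (cert_false T ((skipEmb 2).trans (Function.Embedding.refl _)) (by norm_num) (fun _ => hall _) (((((LB_zero T ((skipEmb 2).trans (Function.Embedding.refl _))).upd 1 2 1 (le_of_eq hx13)).upd 2 1 2 (le_of_eq hx31)).upd 2 3 1 (le_of_eq hx34)).upd 3 2 3 (le_of_eq hx43)) ![0,1,2,2] (by decide) (by decide) 1 (by decide))
          · -- 34=(3,1)
            exact False.elim (cert_false T ((skipEmb 2).trans (Function.Embedding.refl _)) (by norm_num) (fun _ => hall _) (((((LB_zero T ((skipEmb 2).trans (Function.Embedding.refl _))).upd 1 2 1 (le_of_eq hx13)).upd 2 1 2 (le_of_eq hx31)).upd 2 3 3 (le_of_eq hx34)).upd 3 2 1 (le_of_eq hx43)) ![0,1,2,1] (by decide) (by decide) 1 (by decide))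
        · -- 24=(1,1)
          rcases d34 with ⟨rfl, rfl⟩ | ⟨rfl, rfl⟩ | ⟨rfl, rfl⟩ | ⟨rfl, rfl⟩ | ⟨rfl, rfl⟩ | ⟨rfl, rfl⟩
          · -- 34=(0,0)
            refine ⟨(⟨![4, 2, 3, 1, 0], ![4, 3, 1, 2, 0], by decide, by decide⟩ : Equiv.Perm (Fin 5)), T.m 4, T.w 4, Or.inr (Or.inl ?_)⟩
            show T.m 4 = T.m 4 ∧ T.m 2 = 2 * T.m 4 ∧ T.m 3 = 3 * T.m 4 ∧ T.m 1 = 2 * T.m 4 ∧ T.m 0 = T.m 4 ∧ T.w 4 = T.w 4 ∧ T.w 2 = T.w 4 ∧ T.w 3 = T.w 4 ∧ T.w 1 = 2 * T.w 4 ∧ T.w 0 = 2 * T.w 4 ∧ T.a 4 4 = -2 * T.w 4 ∧ T.a 4 2 = T.w 4 ∧ T.a 4 3 = 0 ∧ T.a 4 1 = 0 ∧ T.a 4 0 = 0 ∧ T.a 2 2 = -2 * T.w 4 ∧ T.a 2 3 = T.w 4 ∧ T.a 2 1 = 0 ∧ T.a 2 0 = 0 ∧ T.a 3 3 = -2 * T.w 4 ∧ T.a 3 1 = 2 * T.w 4 ∧ T.a 3 0 = 0 ∧ T.a 1 1 = -4 * T.w 4 ∧ T.a 1 0 = 2 * T.w 4 ∧ T.a 0 0 = -4 * T.w 4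
            refine ⟨?_, ?_, ?_, ?_, ?_, ?_, ?_, ?_, ?_, ?_, ?_, ?_, ?_, ?_, ?_, ?_, ?_, ?_, ?_, ?_, ?_, ?_, ?_, ?_, ?_⟩ <;> omega
          · -- 34=(1,1)
            exact False.elim (cert_false T ((skipEmb 1).trans (Function.Embedding.refl _)) (by norm_num) (fun _ => hall _) (((((((LB_zero T ((skipEmb 1).trans (Function.Embedding.refl _))).upd 1 2 1 (le_of_eq hx23)).upd 1 3 1 (le_of_eq hx24)).upd 2 1 1 (le_of_eq hx32)).upd 2 3 1 (le_of_eq hx34)).upd 3 1 1 (le_of_eq hx42)).upd 3 2 1 (le_of_eq hx43)) ![0,1,1,1] (by decide) (by decide) 1 (by decide))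
          · -- 34=(1,2)
            exact False.elim (cert_false T ((skipEmb 2).trans (Function.Embedding.refl _)) (by norm_num) (fun _ => hall _) (((((LB_zero T ((skipEmb 2).trans (Function.Embedding.refl _))).upd 1 2 1 (le_of_eq hx13)).upd 2 1 2 (le_of_eq hx31)).upd 2 3 1 (le_of_eq hx34)).upd 3 2 2 (le_of_eq hx43)) ![0,1,2,2] (by decide) (by decide) 1 (by decide))
          · -- 34=(2,1)
            exact False.elim (cert_false T ((skipEmb 2).trans (Function.Embedding.refl _)) (by norm_num) (fun _ => hall _) (((((LB_zero T ((skipEmb 2).trans (Function.Embedding.refl _))).upd 1 2 1 (le_of_eq hx13)).upd 2 1 2 (le_of_eq hx31)).upd 2 3 2 (le_of_eq hx34)).upd 3 2 1 (le_of_eq hx43)) ![0,1,2,1] (by decide) (by decide) 1 (by decide))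
          · -- 34=(1,3)
            exact False.elim (cert_false T ((skipEmb 2).trans (Function.Embedding.refl _)) (by norm_num) (fun _ => hall _) (((((LB_zero T ((skipEmb 2).trans (Function.Embedding.refl _))).upd 1 2 1 (le_of_eq hx13)).upd 2 1 2 (le_of_eq hx31)).upd 2 3 1 (le_of_eq hx34)).upd 3 2 3 (le_of_eq hx43)) ![0,1,2,2] (by decide) (by decide) 1 (by decide))
          · -- 34=(3,1)
            exact False.elim (cert_false T ((skipEmb 2).trans (Function.Embedding.refl _)) (by norm_num) (fun _ => hall _) (((((LB_zero T ((skipEmb 2).trans (Function.Embedding.refl _))).upd 1 2 1 (le_of_eq hx13)).upd 2 1 2 (le_of_eq hx31)).upd 2 3 3 (le_of_eq hx34)).upd 3 2 1 (le_of_eq hx43)) ![0,1,2,1] (by decide) (by decide) 1 (by decide))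
        · -- 24=(1,2)
          exact False.elim (cert_false T ((skipEmb 0).trans (Function.Embedding.refl _)) (by norm_num) (fun _ => hall _) (((((((LB_zero T ((skipEmb 0).trans (Function.Embedding.refl _))).upd 0 2 1 (le_of_eq hx13)).upd 1 2 1 (le_of_eq hx23)).upd 1 3 1 (le_of_eq hx24)).upd 2 0 2 (le_of_eq hx31)).upd 2 1 1 (le_of_eq hx32)).upd 3 1 2 (le_of_eq hx42)) ![1,2,2,2] (by decide) (by decide) 0 (by decide))
        · -- 24=(2,1)
          exact False.elim (cert_false T ((skipEmb 0).trans (Function.Embedding.refl _)) (by norm_num) (fun _ => hall _) (((((((LB_zero T ((skipEmb 0).trans (Function.Embedding.refl _))).upd 0 2 1 (le_of_eq hx13)).upd 1 2 1 (le_of_eq hx23)).upd 1 3 2 (le_of_eq hx24)).upd 2 0 2 (le_of_eq hx31)).upd 2 1 1 (le_of_eq hx32)).upd 3 1 1 (le_of_eq hx42)) ![1,2,2,1] (by decide) (by decide) 0 (by decide))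
        · -- 24=(1,3)
          exact False.elim (cert_false T ((skipEmb 1).trans (Function.Embedding.refl _)) (by norm_num) (fun _ => hall _) (((((LB_zero T ((skipEmb 1).trans (Function.Embedding.refl _))).upd 1 2 1 (le_of_eq hx23)).upd 1 3 1 (le_of_eq hx24)).upd 2 1 1 (le_of_eq hx32)).upd 3 1 3 (le_of_eq hx42)) ![0,2,1,3] (by decide) (by decide) 1 (by decide))
        · -- 24=(3,1)
          exact False.elim (cert_false T ((skipEmb 1).trans (Function.Embedding.refl _)) (by norm_num) (fun _ => hall _) (((((LB_zero T ((skipEmb 1).trans (Function.Embedding.refl _))).upd 1 2 1 (le_of_eq hx23)).upd 1 3 3 (le_of_eq hx24)).upd 2 1 1 (le_of_eq hx32)).upd 3 1 1 (le_of_eq hx42)) ![0,2,1,1] (by decide) (by decide) 1 (by decide))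
      · -- 14=(1,1)
        exact False.elim (cert_false T ((skipEmb 2).trans (Function.Embedding.refl _)) (by norm_num) (fun _ => hall _) (((((((LB_zero T ((skipEmb 2).trans (Function.Embedding.refl _))).upd 0 1 1 (le_of_eq hx01)).upd 1 0 1 (le_of_eq hx10)).upd 1 2 1 (le_of_eq hx13)).upd 1 3 1 (le_of_eq hx14)).upd 2 1 2 (le_of_eq hx31)).upd 3 1 1 (le_of_eq hx41)) ![1,2,2,1] (by decide) (by decide) 0 (by decide))
      · -- 14=(1,2)
        exact False.elim (cert_false T ((skipEmb 2).trans (Function.Embedding.refl _)) (by norm_num) (fun _ => hall _) (((((LB_zero T ((skipEmb 2).trans (Function.Embedding.refl _))).upd 1 2 1 (le_of_eq hx13)).upd 1 3 1 (le_of_eq hx14)).upd 2 1 2 (le_of_eq hx31)).upd 3 1 2 (le_of_eq hx41)) ![0,1,1,1] (by decide) (by decide) 1 (by decide))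
      · -- 14=(2,1)
        exact False.elim (cert_false T ((skipEmb 2).trans (Function.Embedding.refl _)) (by norm_num) (fun _ => hall _) (((((LB_zero T ((skipEmb 2).trans (Function.Embedding.refl _))).upd 1 2 1 (le_of_eq hx13)).upd 1 3 2 (le_of_eq hx14)).upd 2 1 2 (le_of_eq hx31)).upd 3 1 1 (le_of_eq hx41)) ![0,2,2,1] (by decide) (by decide) 1 (by decide))
      · -- 14=(1,3)
        exact False.elim (cert_false T ((skipEmb 3).trans (Function.Embedding.refl _)) (by norm_num) (fun _ => hall _) (((((LB_zero T ((skipEmb 3).trans (Function.Embedding.refl _))).upd 0 1 1 (le_of_eq hx01)).upd 1 0 1 (le_of_eq hx10)).upd 1 3 1 (le_of_eq hx14)).upd 3 1 3 (le_of_eq hx41)) ![1,2,0,3] (by decide) (by decide) 0 (by decide))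
      · -- 14=(3,1)
        exact False.elim (cert_false T ((skipEmb 3).trans (Function.Embedding.refl _)) (by norm_num) (fun _ => hall _) (((((LB_zero T ((skipEmb 3).trans (Function.Embedding.refl _))).upd 0 1 1 (le_of_eq hx01)).upd 1 0 1 (le_of_eq hx10)).upd 1 3 3 (le_of_eq hx14)).upd 3 1 1 (le_of_eq hx41)) ![1,2,0,1] (by decide) (by decide) 0 (by decide))
    · -- 04=(1,1)
      rcases d14 with ⟨rfl, rfl⟩ | ⟨rfl, rfl⟩ | ⟨rfl, rfl⟩ | ⟨rfl, rfl⟩ | ⟨rfl, rfl⟩ | ⟨rfl, rfl⟩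
      · -- 14=(0,0)
        rcases d24 with ⟨rfl, rfl⟩ | ⟨rfl, rfl⟩ | ⟨rfl, rfl⟩ | ⟨rfl, rfl⟩ | ⟨rfl, rfl⟩ | ⟨rfl, rfl⟩
        · -- 24=(0,0)
          rcases d34 with ⟨rfl, rfl⟩ | ⟨rfl, rfl⟩ | ⟨rfl, rfl⟩ | ⟨rfl, rfl⟩ | ⟨rfl, rfl⟩ | ⟨rfl, rfl⟩
          · -- 34=(0,0)
            refine ⟨(⟨![4, 0, 1, 3, 2], ![1, 2, 4, 3, 0], by decide, by decide⟩ : Equiv.Perm (Fin 5)), T.m 4, T.w 3, Or.inr (Or.inr (Or.inl ?_))⟩
            show T.m 4 = T.m 4 ∧ T.m 0 = 2 * T.m 4 ∧ T.m 1 = 3 * T.m 4 ∧ T.m 3 = 4 * T.m 4 ∧ T.m 2 = 2 * T.m 4 ∧ T.w 4 = 2 * T.w 3 ∧ T.w 0 = 2 * T.w 3 ∧ T.w 1 = 2 * T.w 3 ∧ T.w 3 = T.w 3 ∧ T.w 2 = T.w 3 ∧ T.a 4 4 = -4 * T.w 3 ∧ T.a 4 0 = 2 * T.w 3 ∧ T.a 4 1 = 0 ∧ T.a 4 3 = 0 ∧ T.a 4 2 = 0 ∧ T.a 0 0 = -4 * T.w 3 ∧ T.a 0 1 = 2 * T.w 3 ∧ T.a 0 3 = 0 ∧ T.a 0 2 = 0 ∧ T.a 1 1 = -4 * T.w 3 ∧ T.a 1 3 = 2 * T.w 3 ∧ T.a 1 2 = 0 ∧ T.a 3 3 = -2 * T.w 3 ∧ T.a 3 2 = T.w 3 ∧ T.a 2 2 = -2 * T.w 3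
            refine ⟨?_, ?_, ?_, ?_, ?_, ?_, ?_, ?_, ?_, ?_, ?_, ?_, ?_, ?_, ?_, ?_, ?_, ?_, ?_, ?_, ?_, ?_, ?_, ?_, ?_⟩ <;> omega
          · -- 34=(1,1)
            exact False.elim (cert_false T ((skipEmb 2).trans (Function.Embedding.refl _)) (by norm_num) (fun _ => hall _) (((((((((LB_zero T ((skipEmb 2).trans (Function.Embedding.refl _))).upd 0 1 1 (le_of_eq hx01)).upd 0 3 1 (le_of_eq hx04)).upd 1 0 1 (le_of_eq hx10)).upd 1 2 1 (le_of_eq hx13)).upd 2 1 2 (le_of_eq hx31)).upd 2 3 1 (le_of_eq hx34)).upd 3 0 1 (le_of_eq hx40)).upd 3 2 1 (le_of_eq hx43)) ![1,1,1,1] (by decide) (by decide) 0 (by decide))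
          · -- 34=(1,2)
            exact False.elim (cert_false T ((skipEmb 2).trans (Function.Embedding.refl _)) (by norm_num) (fun _ => hall _) (((((((((LB_zero T ((skipEmb 2).trans (Function.Embedding.refl _))).upd 0 1 1 (le_of_eq hx01)).upd 0 3 1 (le_of_eq hx04)).upd 1 0 1 (le_of_eq hx10)).upd 1 2 1 (le_of_eq hx13)).upd 2 1 2 (le_of_eq hx31)).upd 2 3 1 (le_of_eq hx34)).upd 3 0 1 (le_of_eq hx40)).upd 3 2 2 (le_of_eq hx43)) ![1,1,1,1] (by decide) (by decide) 0 (by decide))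
          · -- 34=(2,1)
            exact False.elim (cert_false T ((skipEmb 2).trans (Function.Embedding.refl _)) (by norm_num) (fun _ => hall _) (((((((((LB_zero T ((skipEmb 2).trans (Function.Embedding.refl _))).upd 0 1 1 (le_of_eq hx01)).upd 0 3 1 (le_of_eq hx04)).upd 1 0 1 (le_of_eq hx10)).upd 1 2 1 (le_of_eq hx13)).upd 2 1 2 (le_of_eq hx31)).upd 2 3 2 (le_of_eq hx34)).upd 3 0 1 (le_of_eq hx40)).upd 3 2 1 (le_of_eq hx43)) ![1,1,1,1] (by decide) (by decide) 0 (by decide))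
          · -- 34=(1,3)
            exact False.elim (cert_false T ((skipEmb 2).trans (Function.Embedding.refl _)) (by norm_num) (fun _ => hall _) (((((((((LB_zero T ((skipEmb 2).trans (Function.Embedding.refl _))).upd 0 1 1 (le_of_eq hx01)).upd 0 3 1 (le_of_eq hx04)).upd 1 0 1 (le_of_eq hx10)).upd 1 2 1 (le_of_eq hx13)).upd 2 1 2 (le_of_eq hx31)).upd 2 3 1 (le_of_eq hx34)).upd 3 0 1 (le_of_eq hx40)).upd 3 2 3 (le_of_eq hx43)) ![1,1,1,1] (by decide) (by decide) 0 (by decide))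
          · -- 34=(3,1)
            exact False.elim (cert_false T ((skipEmb 2).trans (Function.Embedding.refl _)) (by norm_num) (fun _ => hall _) (((((((((LB_zero T ((skipEmb 2).trans (Function.Embedding.refl _))).upd 0 1 1 (le_of_eq hx01)).upd 0 3 1 (le_of_eq hx04)).upd 1 0 1 (le_of_eq hx10)).upd 1 2 1 (le_of_eq hx13)).upd 2 1 2 (le_of_eq hx31)).upd 2 3 3 (le_of_eq hx34)).upd 3 0 1 (le_of_eq hx40)).upd 3 2 1 (le_of_eq hx43)) ![1,1,1,1] (by decide) (by decide) 0 (by decide))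
        · -- 24=(1,1)
          rcases d34 with ⟨rfl, rfl⟩ | ⟨rfl, rfl⟩ | ⟨rfl, rfl⟩ | ⟨rfl, rfl⟩ | ⟨rfl, rfl⟩ | ⟨rfl, rfl⟩
          · -- 34=(0,0)
            exfalso; omega
          · -- 34=(1,1)
            exact False.elim (cert_false T ((skipEmb 2).trans (Function.Embedding.refl _)) (by norm_num) (fun _ => hall _) (((((((((LB_zero T ((skipEmb 2).trans (Function.Embedding.refl _))).upd 0 1 1 (le_of_eq hx01)).upd 0 3 1 (le_of_eq hx04)).upd 1 0 1 (le_of_eq hx10)).upd 1 2 1 (le_of_eq hx13)).upd 2 1 2 (le_of_eq hx31)).upd 2 3 1 (le_of_eq hx34)).upd 3 0 1 (le_of_eq hx40)).upd 3 2 1 (le_of_eq hx43)) ![1,1,1,1] (by decide) (by decide) 0 (by decide))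
          · -- 34=(1,2)
            exact False.elim (cert_false T ((skipEmb 2).trans (Function.Embedding.refl _)) (by norm_num) (fun _ => hall _) (((((((((LB_zero T ((skipEmb 2).trans (Function.Embedding.refl _))).upd 0 1 1 (le_of_eq hx01)).upd 0 3 1 (le_of_eq hx04)).upd 1 0 1 (le_of_eq hx10)).upd 1 2 1 (le_of_eq hx13)).upd 2 1 2 (le_of_eq hx31)).upd 2 3 1 (le_of_eq hx34)).upd 3 0 1 (le_of_eq hx40)).upd 3 2 2 (le_of_eq hx43)) ![1,1,1,1] (by decide) (by decide) 0 (by decide))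
          · -- 34=(2,1)
            exact False.elim (cert_false T ((skipEmb 2).trans (Function.Embedding.refl _)) (by norm_num) (fun _ => hall _) (((((((((LB_zero T ((skipEmb 2).trans (Function.Embedding.refl _))).upd 0 1 1 (le_of_eq hx01)).upd 0 3 1 (le_of_eq hx04)).upd 1 0 1 (le_of_eq hx10)).upd 1 2 1 (le_of_eq hx13)).upd 2 1 2 (le_of_eq hx31)).upd 2 3 2 (le_of_eq hx34)).upd 3 0 1 (le_of_eq hx40)).upd 3 2 1 (le_of_eq hx43)) ![1,1,1,1] (by decide) (by decide) 0 (by decide))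
          · -- 34=(1,3)
            exact False.elim (cert_false T ((skipEmb 2).trans (Function.Embedding.refl _)) (by norm_num) (fun _ => hall _) (((((((((LB_zero T ((skipEmb 2).trans (Function.Embedding.refl _))).upd 0 1 1 (le_of_eq hx01)).upd 0 3 1 (le_of_eq hx04)).upd 1 0 1 (le_of_eq hx10)).upd 1 2 1 (le_of_eq hx13)).upd 2 1 2 (le_of_eq hx31)).upd 2 3 1 (le_of_eq hx34)).upd 3 0 1 (le_of_eq hx40)).upd 3 2 3 (le_of_eq hx43)) ![1,1,1,1] (by decide) (by decide) 0 (by decide))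
          · -- 34=(3,1)
            exact False.elim (cert_false T ((skipEmb 2).trans (Function.Embedding.refl _)) (by norm_num) (fun _ => hall _) (((((((((LB_zero T ((skipEmb 2).trans (Function.Embedding.refl _))).upd 0 1 1 (le_of_eq hx01)).upd 0 3 1 (le_of_eq hx04)).upd 1 0 1 (le_of_eq hx10)).upd 1 2 1 (le_of_eq hx13)).upd 2 1 2 (le_of_eq hx31)).upd 2 3 3 (le_of_eq hx34)).upd 3 0 1 (le_of_eq hx40)).upd 3 2 1 (le_of_eq hx43)) ![1,1,1,1] (by decide) (by decide) 0 (by decide))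
        · -- 24=(1,2)
          exact False.elim (cert_false T ((skipEmb 0).trans (Function.Embedding.refl _)) (by norm_num) (fun _ => hall _) (((((((LB_zero T ((skipEmb 0).trans (Function.Embedding.refl _))).upd 0 2 1 (le_of_eq hx13)).upd 1 2 1 (le_of_eq hx23)).upd 1 3 1 (le_of_eq hx24)).upd 2 0 2 (le_of_eq hx31)).upd 2 1 1 (le_of_eq hx32)).upd 3 1 2 (le_of_eq hx42)) ![1,2,2,2] (by decide) (by decide) 0 (by decide))
        · -- 24=(2,1)
          exact False.elim (cert_false T ((skipEmb 0).trans (Function.Embedding.refl _)) (by norm_num) (fun _ => hall _) (((((((LB_zero T ((skipEmb 0).trans (Function.Embedding.refl _))).upd 0 2 1 (le_of_eq hx13)).upd 1 2 1 (le_of_eq hx23)).upd 1 3 2 (le_of_eq hx24)).upd 2 0 2 (le_of_eq hx31)).upd 2 1 1 (le_of_eq hx32)).upd 3 1 1 (le_of_eq hx42)) ![1,2,2,1] (by decide) (by decide) 0 (by decide))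
        · -- 24=(1,3)
          exact False.elim (cert_false T ((skipEmb 3).trans (Function.Embedding.refl _)) (by norm_num) (fun _ => hall _) (((((LB_zero T ((skipEmb 3).trans (Function.Embedding.refl _))).upd 0 3 1 (le_of_eq hx04)).upd 2 3 1 (le_of_eq hx24)).upd 3 0 1 (le_of_eq hx40)).upd 3 2 3 (le_of_eq hx42)) ![1,0,1,2] (by decide) (by decide) 0 (by decide))
        · -- 24=(3,1)
          exact False.elim (cert_false T ((skipEmb 3).trans (Function.Embedding.refl _)) (by norm_num) (fun _ => hall _) (((((LB_zero T ((skipEmb 3).trans (Function.Embedding.refl _))).upd 0 3 1 (le_of_eq hx04)).upd 2 3 3 (le_of_eq hx24)).upd 3 0 1 (le_of_eq hx40)).upd 3 2 1 (le_of_eq hx42)) ![1,0,3,2] (by decide) (by decide) 0 (by decide))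
      · -- 14=(1,1)
        exact False.elim (cert_false T ((skipEmb 3).trans (Function.Embedding.refl _)) (by norm_num) (fun _ => hall _) (((((((LB_zero T ((skipEmb 3).trans (Function.Embedding.refl _))).upd 0 1 1 (le_of_eq hx01)).upd 0 3 1 (le_of_eq hx04)).upd 1 0 1 (le_of_eq hx10)).upd 1 3 1 (le_of_eq hx14)).upd 3 0 1 (le_of_eq hx40)).upd 3 1 1 (le_of_eq hx41)) ![1,1,0,1] (by decide) (by decide) 0 (by decide))
      · -- 14=(1,2)
        exact False.elim (cert_false T ((skipEmb 3).trans (Function.Embedding.refl _)) (by norm_num) (fun _ => hall _) (((((((LB_zero T ((skipEmb 3).trans (Function.Embedding.refl _))).upd 0 1 1 (le_of_eq hx01)).upd 0 3 1 (le_of_eq hx04)).upd 1 0 1 (le_of_eq hx10)).upd 1 3 1 (le_of_eq hx14)).upd 3 0 1 (le_of_eq hx40)).upd 3 1 2 (le_of_eq hx41)) ![1,1,0,1] (by decide) (by decide) 0 (by decide))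
      · -- 14=(2,1)
        exact False.elim (cert_false T ((skipEmb 3).trans (Function.Embedding.refl _)) (by norm_num) (fun _ => hall _) (((((((LB_zero T ((skipEmb 3).trans (Function.Embedding.refl _))).upd 0 1 1 (le_of_eq hx01)).upd 0 3 1 (le_of_eq hx04)).upd 1 0 1 (le_of_eq hx10)).upd 1 3 2 (le_of_eq hx14)).upd 3 0 1 (le_of_eq hx40)).upd 3 1 1 (le_of_eq hx41)) ![1,1,0,1] (by decide) (by decide) 0 (by decide))
      · -- 14=(1,3)
        exact False.elim (cert_false T ((skipEmb 3).trans (Function.Embedding.refl _)) (by norm_num) (fun _ => hall _) (((((((LB_zero T ((skipEmb 3).trans (Function.Embedding.refl _))).upd 0 1 1 (le_of_eq hx01)).upd 0 3 1 (le_of_eq hx04)).upd 1 0 1 (le_of_eq hx10)).upd 1 3 1 (le_of_eq hx14)).upd 3 0 1 (le_of_eq hx40)).upd 3 1 3 (le_of_eq hx41)) ![1,1,0,1] (by decide) (by decide) 0 (by decide))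
      · -- 14=(3,1)
        exact False.elim (cert_false T ((skipEmb 3).trans (Function.Embedding.refl _)) (by norm_num) (fun _ => hall _) (((((((LB_zero T ((skipEmb 3).trans (Function.Embedding.refl _))).upd 0 1 1 (le_of_eq hx01)).upd 0 3 1 (le_of_eq hx04)).upd 1 0 1 (le_of_eq hx10)).upd 1 3 3 (le_of_eq hx14)).upd 3 0 1 (le_of_eq hx40)).upd 3 1 1 (le_of_eq hx41)) ![1,1,0,1] (by decide) (by decide) 0 (by decide))
    · -- 04=(1,2)
      exact False.elim (cert_false T ((skipEmb 2).trans (Function.Embedding.refl _)) (by norm_num) (fun _ => hall _) (((((((LB_zero T ((skipEmb 2).trans (Function.Embedding.refl _))).upd 0 1 1 (le_of_eq hx01)).upd 0 3 1 (le_of_eq hx04)).upd 1 0 1 (le_of_eq hx10)).upd 1 2 1 (le_of_eq hx13)).upd 2 1 2 (le_of_eq hx31)).upd 3 0 2 (le_of_eq hx40)) ![1,1,1,1] (by decide) (by decide) 0 (by decide))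
    · -- 04=(2,1)
      exact False.elim (cert_false T ((skipEmb 2).trans (Function.Embedding.refl _)) (by norm_num) (fun _ => hall _) (((((((LB_zero T ((skipEmb 2).trans (Function.Embedding.refl _))).upd 0 1 1 (le_of_eq hx01)).upd 0 3 2 (le_of_eq hx04)).upd 1 0 1 (le_of_eq hx10)).upd 1 2 1 (le_of_eq hx13)).upd 2 1 2 (le_of_eq hx31)).upd 3 0 1 (le_of_eq hx40)) ![2,2,2,1] (by decide) (by decide) 0 (by decide))
    · -- 04=(1,3)
      exact False.elim (cert_false T ((skipEmb 3).trans (Function.Embedding.refl _)) (by norm_num) (fun _ => hall _) (((((LB_zero T ((skipEmb 3).trans (Function.Embedding.refl _))).upd 0 1 1 (le_of_eq hx01)).upd 0 3 1 (le_of_eq hx04)).upd 1 0 1 (le_of_eq hx10)).upd 3 0 3 (le_of_eq hx40)) ![2,1,0,3] (by decide) (by decide) 0 (by decide))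
    · -- 04=(3,1)
      exact False.elim (cert_false T ((skipEmb 3).trans (Function.Embedding.refl _)) (by norm_num) (fun _ => hall _) (((((LB_zero T ((skipEmb 3).trans (Function.Embedding.refl _))).upd 0 1 1 (le_of_eq hx01)).upd 0 3 3 (le_of_eq hx04)).upd 1 0 1 (le_of_eq hx10)).upd 3 0 1 (le_of_eq hx40)) ![2,1,0,1] (by decide) (by decide) 0 (by decide))
  · -- 23=(1,2)
    exact False.elim (cert_false T ((skipEmb 4).trans (Function.Embedding.refl _)) (by norm_num) (fun _ => hall _) (((((LB_zero T ((skipEmb 4).trans (Function.Embedding.refl _))).upd 1 3 1 (le_of_eq hx13)).upd 2 3 1 (le_of_eq hx23)).upd 3 1 2 (le_of_eq hx31)).upd 3 2 2 (le_of_eq hx32)) ![0,1,1,2] (by decide) (by decide) 1 (by decide))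
  · -- 23=(2,1)
    exact False.elim (cert_false T ((skipEmb 4).trans (Function.Embedding.refl _)) (by norm_num) (fun _ => hall _) (((((LB_zero T ((skipEmb 4).trans (Function.Embedding.refl _))).upd 1 3 1 (le_of_eq hx13)).upd 2 3 2 (le_of_eq hx23)).upd 3 1 2 (le_of_eq hx31)).upd 3 2 1 (le_of_eq hx32)) ![0,1,2,2] (by decide) (by decide) 1 (by decide))
  · -- 23=(1,3)
    exact False.elim (cert_false T ((skipEmb 4).trans (Function.Embedding.refl _)) (by norm_num) (fun _ => hall _) (((((LB_zero T ((skipEmb 4).trans (Function.Embedding.refl _))).upd 1 3 1 (le_of_eq hx13)).upd 2 3 1 (le_of_eq hx23)).upd 3 1 2 (le_of_eq hx31)).upd 3 2 3 (le_of_eq hx32)) ![0,1,1,2] (by decide) (by decide) 1 (by decide))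
  · -- 23=(3,1)
    exact False.elim (cert_false T ((skipEmb 4).trans (Function.Embedding.refl _)) (by norm_num) (fun _ => hall _) (((((LB_zero T ((skipEmb 4).trans (Function.Embedding.refl _))).upd 1 3 1 (le_of_eq hx13)).upd 2 3 3 (le_of_eq hx23)).upd 3 1 2 (le_of_eq hx31)).upd 3 2 1 (le_of_eq hx32)) ![0,1,2,2] (by decide) (by decide) 1 (by decide))

theorem case400 (T : NumericalType 5) (hall : ∀ i, T.IsMinusTwo i) (d : SData T)
    (h01 : N T (Function.Embedding.refl _) 0 1 = 1) (h10 : N T (Function.Embedding.refl _) 1 0 = 1)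
    (h02 : N T (Function.Embedding.refl _) 0 2 = 0) (h20 : N T (Function.Embedding.refl _) 2 0 = 0)
    (h12 : N T (Function.Embedding.refl _) 1 2 = 1) (h21 : N T (Function.Embedding.refl _) 2 1 = 1)
    (h03 : N T (Function.Embedding.refl _) 0 3 = 0) (h30 : N T (Function.Embedding.refl _) 3 0 = 0)
    (h13 : N T (Function.Embedding.refl _) 1 3 = 1) (h31 : N T (Function.Embedding.refl _) 3 1 = 1)
    (h23 : N T (Function.Embedding.refl _) 2 3 = 0) (h32 : N T (Function.Embedding.refl _) 3 2 = 0) :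
    Goal T := by
  unfold Goal
  have hd := d
  obtain ⟨x01, x02, x03, x04, x10, x12, x13, x14, x20, x21, x23, x24, x30, x31, x32, x34, x40, x41, x42, x43, hx01, hx02, hx03, hx04, hx10, hx12, hx13, hx14, hx20, hx21, hx23, hx24, hx30, hx31, hx32, hx34, hx40, hx41, hx42, hx43, hw0, hm0, hw1, hm1, hw2, hm2, hw3, hm3, hw4, hm4, a00, a01, a02, a03, a04, a11, a10, a12, a13, a14, a22, a20, a21, a23, a24, a33, a30, a31, a32, a34, a44, a40, a41, a42, a43, wN01, wN02, wN12, wN03, wN13, wN23, wN04, wN14, wN24, wN34, e0, e1, e2, e3, e4, d01, d02, d12, d03, d13, d23, d04, d14, d24, d34⟩ := d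
  obtain rfl : x01 = 1 := hx01.trans h01
  obtain rfl : x10 = 1 := hx10.trans h10
  obtain rfl : x02 = 0 := hx02.trans h02
  obtain rfl : x20 = 0 := hx20.trans h20
  obtain rfl : x12 = 1 := hx12.trans h12
  obtain rfl : x21 = 1 := hx21.trans h21
  obtain rfl : x03 = 0 := hx03.trans h03
  obtain rfl : x30 = 0 := hx30.trans h30
  obtain rfl : x13 = 1 := hx13.trans h13
  obtain rfl : x31 = 1 := hx31.trans h31
  obtain rfl : x23 = 0 := hx23.trans h23
  obtain rfl : x32 = 0 := hx32.trans h32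
  rcases d04 with ⟨rfl, rfl⟩ | ⟨rfl, rfl⟩ | ⟨rfl, rfl⟩ | ⟨rfl, rfl⟩ | ⟨rfl, rfl⟩ | ⟨rfl, rfl⟩
  · -- 04=(0,0)
    rcases d14 with ⟨rfl, rfl⟩ | ⟨rfl, rfl⟩ | ⟨rfl, rfl⟩ | ⟨rfl, rfl⟩ | ⟨rfl, rfl⟩ | ⟨rfl, rfl⟩
    · -- 14=(0,0)
      rcases d24 with ⟨rfl, rfl⟩ | ⟨rfl, rfl⟩ | ⟨rfl, rfl⟩ | ⟨rfl, rfl⟩ | ⟨rfl, rfl⟩ | ⟨rfl, rfl⟩
      · -- 24=(0,0)
        rcases d34 with ⟨rfl, rfl⟩ | ⟨rfl, rfl⟩ | ⟨rfl, rfl⟩ | ⟨rfl, rfl⟩ | ⟨rfl, rfl⟩ | ⟨rfl, rfl⟩
        · -- 34=(0,0)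
          exfalso; omega
        · -- 34=(1,1)
          exfalso; omega
        · -- 34=(1,2)
          refine ⟨(⟨![4, 3, 1, 0, 2], ![3, 2, 4, 1, 0], by decide, by decide⟩ : Equiv.Perm (Fin 5)), T.m 0, T.w 4, Or.inr (Or.inr (Or.inr (Or.inr (Or.inr (Or.inr (Or.inr (Or.inr (?_))))))))⟩
          show T.m 4 = 2 * T.m 0 ∧ T.m 3 = 2 * T.m 0 ∧ T.m 1 = 2 * T.m 0 ∧ T.m 0 = T.m 0 ∧ T.m 2 = T.m 0 ∧ T.w 4 = T.w 4 ∧ T.w 3 = 2 * T.w 4 ∧ T.w 1 = 2 * T.w 4 ∧ T.w 0 = 2 * T.w 4 ∧ T.w 2 = 2 * T.w 4 ∧ T.a 4 4 = -2 * T.w 4 ∧ T.a 4 3 = 2 * T.w 4 ∧ T.a 4 1 = 0 ∧ T.a 4 0 = 0 ∧ T.a 4 2 = 0 ∧ T.a 3 3 = -4 * T.w 4 ∧ T.a 3 1 = 2 * T.w 4 ∧ T.a 3 0 = 0 ∧ T.a 3 2 = 0 ∧ T.a 1 1 = -4 * T.w 4 ∧ T.a 1 0 = 2 * T.w 4 ∧ T.a 1 2 = 2 * T.w 4 ∧ T.a 0 0 = -4 * T.w 4 ∧ T.a 0 2 = 0 ∧ T.a 2 2 = -4 * T.w 4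
          refine ⟨?_, ?_, ?_, ?_, ?_, ?_, ?_, ?_, ?_, ?_, ?_, ?_, ?_, ?_, ?_, ?_, ?_, ?_, ?_, ?_, ?_, ?_, ?_, ?_, ?_⟩ <;> omega
        · -- 34=(2,1)
          refine ⟨(⟨![4, 3, 1, 0, 2], ![3, 2, 4, 1, 0], by decide, by decide⟩ : Equiv.Perm (Fin 5)), T.m 4, T.w 3, Or.inr (Or.inr (Or.inr (Or.inr (Or.inr (Or.inr (Or.inr (Or.inl ?_)))))))⟩
          show T.m 4 = T.m 4 ∧ T.m 3 = 2 * T.m 4 ∧ T.m 1 = 2 * T.m 4 ∧ T.m 0 = T.m 4 ∧ T.m 2 = T.m 4 ∧ T.w 4 = 2 * T.w 3 ∧ T.w 3 = T.w 3 ∧ T.w 1 = T.w 3 ∧ T.w 0 = T.w 3 ∧ T.w 2 = T.w 3 ∧ T.a 4 4 = -4 * T.w 3 ∧ T.a 4 3 = 2 * T.w 3 ∧ T.a 4 1 = 0 ∧ T.a 4 0 = 0 ∧ T.a 4 2 = 0 ∧ T.a 3 3 = -2 * T.w 3 ∧ T.a 3 1 = T.w 3 ∧ T.a 3 0 = 0 ∧ T.a 3 2 = 0 ∧ T.a 1 1 = -2 * T.w 3 ∧ T.a 1 0 = T.w 3 ∧ T.a 1 2 = T.w 3 ∧ T.a 0 0 = -2 * T.w 3 ∧ T.a 0 2 = 0 ∧ T.a 2 2 = -2 * T.w 3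
          refine ⟨?_, ?_, ?_, ?_, ?_, ?_, ?_, ?_, ?_, ?_, ?_, ?_, ?_, ?_, ?_, ?_, ?_, ?_, ?_, ?_, ?_, ?_, ?_, ?_, ?_⟩ <;> omega
        · -- 34=(1,3)
          exact False.elim (cert_false T ((skipEmb 2).trans (Function.Embedding.refl _)) (by norm_num) (fun _ => hall _) (((((LB_zero T ((skipEmb 2).trans (Function.Embedding.refl _))).upd 1 2 1 (le_of_eq hx13)).upd 2 1 1 (le_of_eq hx31)).upd 2 3 1 (le_of_eq hx34)).upd 3 2 3 (le_of_eq hx43)) ![0,1,2,3] (by decide) (by decide) 1 (by decide))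
        · -- 34=(3,1)
          exact False.elim (cert_false T ((skipEmb 2).trans (Function.Embedding.refl _)) (by norm_num) (fun _ => hall _) (((((LB_zero T ((skipEmb 2).trans (Function.Embedding.refl _))).upd 1 2 1 (le_of_eq hx13)).upd 2 1 1 (le_of_eq hx31)).upd 2 3 3 (le_of_eq hx34)).upd 3 2 1 (le_of_eq hx43)) ![0,1,2,1] (by decide) (by decide) 1 (by decide))
      · -- 24=(1,1)
        rcases d34 with ⟨rfl, rfl⟩ | ⟨rfl, rfl⟩ | ⟨rfl, rfl⟩ | ⟨rfl, rfl⟩ | ⟨rfl, rfl⟩ | ⟨rfl, rfl⟩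
        · -- 34=(0,0)
          exfalso; omega
        · -- 34=(1,1)
          exact False.elim (cert_false T ((skipEmb 0).trans (Function.Embedding.refl _)) (by norm_num) (fun _ => hall _) (((((((((LB_zero T ((skipEmb 0).trans (Function.Embedding.refl _))).upd 0 1 1 (le_of_eq hx12)).upd 0 2 1 (le_of_eq hx13)).upd 1 0 1 (le_of_eq hx21)).upd 1 3 1 (le_of_eq hx24)).upd 2 0 1 (le_of_eq hx31)).upd 2 3 1 (le_of_eq hx34)).upd 3 1 1 (le_of_eq hx42)).upd 3 2 1 (le_of_eq hx43)) ![1,1,1,1] (by decide) (by decide) 0 (by decide))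
        · -- 34=(1,2)
          exact False.elim (cert_false T ((skipEmb 0).trans (Function.Embedding.refl _)) (by norm_num) (fun _ => hall _) (((((((((LB_zero T ((skipEmb 0).trans (Function.Embedding.refl _))).upd 0 1 1 (le_of_eq hx12)).upd 0 2 1 (le_of_eq hx13)).upd 1 0 1 (le_of_eq hx21)).upd 1 3 1 (le_of_eq hx24)).upd 2 0 1 (le_of_eq hx31)).upd 2 3 1 (le_of_eq hx34)).upd 3 1 1 (le_of_eq hx42)).upd 3 2 2 (le_of_eq hx43)) ![1,1,1,1] (by decide) (by decide) 0 (by decide))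
        · -- 34=(2,1)
          exact False.elim (cert_false T ((skipEmb 0).trans (Function.Embedding.refl _)) (by norm_num) (fun _ => hall _) (((((((((LB_zero T ((skipEmb 0).trans (Function.Embedding.refl _))).upd 0 1 1 (le_of_eq hx12)).upd 0 2 1 (le_of_eq hx13)).upd 1 0 1 (le_of_eq hx21)).upd 1 3 1 (le_of_eq hx24)).upd 2 0 1 (le_of_eq hx31)).upd 2 3 2 (le_of_eq hx34)).upd 3 1 1 (le_of_eq hx42)).upd 3 2 1 (le_of_eq hx43)) ![1,1,1,1] (by decide) (by decide) 0 (by decide))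
        · -- 34=(1,3)
          exact False.elim (cert_false T ((skipEmb 2).trans (Function.Embedding.refl _)) (by norm_num) (fun _ => hall _) (((((LB_zero T ((skipEmb 2).trans (Function.Embedding.refl _))).upd 1 2 1 (le_of_eq hx13)).upd 2 1 1 (le_of_eq hx31)).upd 2 3 1 (le_of_eq hx34)).upd 3 2 3 (le_of_eq hx43)) ![0,1,2,3] (by decide) (by decide) 1 (by decide))
        · -- 34=(3,1)
          exact False.elim (cert_false T ((skipEmb 2).trans (Function.Embedding.refl _)) (by norm_num) (fun _ => hall _) (((((LB_zero T ((skipEmb 2).trans (Function.Embedding.refl _))).upd 1 2 1 (le_of_eq hx13)).upd 2 1 1 (le_of_eq hx31)).upd 2 3 3 (le_of_eq hx34)).upd 3 2 1 (le_of_eq hx43)) ![0,1,2,1] (by decide) (by decide) 1 (by decide))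
      · -- 24=(1,2)
        rcases d34 with ⟨rfl, rfl⟩ | ⟨rfl, rfl⟩ | ⟨rfl, rfl⟩ | ⟨rfl, rfl⟩ | ⟨rfl, rfl⟩ | ⟨rfl, rfl⟩
        · -- 34=(0,0)
          refine ⟨(⟨![4, 2, 1, 0, 3], ![3, 2, 1, 4, 0], by decide, by decide⟩ : Equiv.Perm (Fin 5)), T.m 0, T.w 4, Or.inr (Or.inr (Or.inr (Or.inr (Or.inr (Or.inr (Or.inr (Or.inr (?_))))))))⟩
          show T.m 4 = 2 * T.m 0 ∧ T.m 2 = 2 * T.m 0 ∧ T.m 1 = 2 * T.m 0 ∧ T.m 0 = T.m 0 ∧ T.m 3 = T.m 0 ∧ T.w 4 = T.w 4 ∧ T.w 2 = 2 * T.w 4 ∧ T.w 1 = 2 * T.w 4 ∧ T.w 0 = 2 * T.w 4 ∧ T.w 3 = 2 * T.w 4 ∧ T.a 4 4 = -2 * T.w 4 ∧ T.a 4 2 = 2 * T.w 4 ∧ T.a 4 1 = 0 ∧ T.a 4 0 = 0 ∧ T.a 4 3 = 0 ∧ T.a 2 2 = -4 * T.w 4 ∧ T.a 2 1 = 2 * T.w 4 ∧ T.a 2 0 = 0 ∧ T.a 2 3 = 0 ∧ T.a 1 1 = -4 * T.w 4 ∧ T.a 1 0 = 2 * T.w 4 ∧ T.a 1 3 = 2 * T.w 4 ∧ T.a 0 0 = -4 * T.w 4 ∧ T.a 0 3 = 0 ∧ T.a 3 3 = -4 * T.w 4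
          refine ⟨?_, ?_, ?_, ?_, ?_, ?_, ?_, ?_, ?_, ?_, ?_, ?_, ?_, ?_, ?_, ?_, ?_, ?_, ?_, ?_, ?_, ?_, ?_, ?_, ?_⟩ <;> omega
        · -- 34=(1,1)
          exact False.elim (cert_false T ((skipEmb 0).trans (Function.Embedding.refl _)) (by norm_num) (fun _ => hall _) (((((((((LB_zero T ((skipEmb 0).trans (Function.Embedding.refl _))).upd 0 1 1 (le_of_eq hx12)).upd 0 2 1 (le_of_eq hx13)).upd 1 0 1 (le_of_eq hx21)).upd 1 3 1 (le_of_eq hx24)).upd 2 0 1 (le_of_eq hx31)).upd 2 3 1 (le_of_eq hx34)).upd 3 1 2 (le_of_eq hx42)).upd 3 2 1 (le_of_eq hx43)) ![1,1,1,1] (by decide) (by decide) 0 (by decide))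
        · -- 34=(1,2)
          exact False.elim (cert_false T ((skipEmb 1).trans (Function.Embedding.refl _)) (by norm_num) (fun _ => hall _) (((((LB_zero T ((skipEmb 1).trans (Function.Embedding.refl _))).upd 1 3 1 (le_of_eq hx24)).upd 2 3 1 (le_of_eq hx34)).upd 3 1 2 (le_of_eq hx42)).upd 3 2 2 (le_of_eq hx43)) ![0,1,1,2] (by decide) (by decide) 1 (by decide))
        · -- 34=(2,1)
          exact False.elim (cert_false T ((skipEmb 1).trans (Function.Embedding.refl _)) (by norm_num) (fun _ => hall _) (((((LB_zero T ((skipEmb 1).trans (Function.Embedding.refl _))).upd 1 3 1 (le_of_eq hx24)).upd 2 3 2 (le_of_eq hx34)).upd 3 1 2 (le_of_eq hx42)).upd 3 2 1 (le_of_eq hx43)) ![0,1,2,2] (by decide) (by decide) 1 (by decide))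
        · -- 34=(1,3)
          exact False.elim (cert_false T ((skipEmb 2).trans (Function.Embedding.refl _)) (by norm_num) (fun _ => hall _) (((((LB_zero T ((skipEmb 2).trans (Function.Embedding.refl _))).upd 1 2 1 (le_of_eq hx13)).upd 2 1 1 (le_of_eq hx31)).upd 2 3 1 (le_of_eq hx34)).upd 3 2 3 (le_of_eq hx43)) ![0,1,2,3] (by decide) (by decide) 1 (by decide))
        · -- 34=(3,1)
          exact False.elim (cert_false T ((skipEmb 2).trans (Function.Embedding.refl _)) (by norm_num) (fun _ => hall _) (((((LB_zero T ((skipEmb 2).trans (Function.Embedding.refl _))).upd 1 2 1 (le_of_eq hx13)).upd 2 1 1 (le_of_eq hx31)).upd 2 3 3 (le_of_eq hx34)).upd 3 2 1 (le_of_eq hx43)) ![0,1,2,1] (by decide) (by decide) 1 (by decide))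
      · -- 24=(2,1)
        rcases d34 with ⟨rfl, rfl⟩ | ⟨rfl, rfl⟩ | ⟨rfl, rfl⟩ | ⟨rfl, rfl⟩ | ⟨rfl, rfl⟩ | ⟨rfl, rfl⟩
        · -- 34=(0,0)
          refine ⟨(⟨![4, 2, 1, 0, 3], ![3, 2, 1, 4, 0], by decide, by decide⟩ : Equiv.Perm (Fin 5)), T.m 4, T.w 2, Or.inr (Or.inr (Or.inr (Or.inr (Or.inr (Or.inr (Or.inr (Or.inl ?_)))))))⟩
          show T.m 4 = T.m 4 ∧ T.m 2 = 2 * T.m 4 ∧ T.m 1 = 2 * T.m 4 ∧ T.m 0 = T.m 4 ∧ T.m 3 = T.m 4 ∧ T.w 4 = 2 * T.w 2 ∧ T.w 2 = T.w 2 ∧ T.w 1 = T.w 2 ∧ T.w 0 = T.w 2 ∧ T.w 3 = T.w 2 ∧ T.a 4 4 = -4 * T.w 2 ∧ T.a 4 2 = 2 * T.w 2 ∧ T.a 4 1 = 0 ∧ T.a 4 0 = 0 ∧ T.a 4 3 = 0 ∧ T.a 2 2 = -2 * T.w 2 ∧ T.a 2 1 = T.w 2 ∧ T.a 2 0 = 0 ∧ T.a 2 3 = 0 ∧ T.a 1 1 = -2 * T.w 2 ∧ T.a 1 0 = T.w 2 ∧ T.a 1 3 = T.w 2 ∧ T.a 0 0 = -2 * T.w 2 ∧ T.a 0 3 = 0 ∧ T.a 3 3 = -2 * T.w 2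
          refine ⟨?_, ?_, ?_, ?_, ?_, ?_, ?_, ?_, ?_, ?_, ?_, ?_, ?_, ?_, ?_, ?_, ?_, ?_, ?_, ?_, ?_, ?_, ?_, ?_, ?_⟩ <;> omega
        · -- 34=(1,1)
          exact False.elim (cert_false T ((skipEmb 0).trans (Function.Embedding.refl _)) (by norm_num) (fun _ => hall _) (((((((((LB_zero T ((skipEmb 0).trans (Function.Embedding.refl _))).upd 0 1 1 (le_of_eq hx12)).upd 0 2 1 (le_of_eq hx13)).upd 1 0 1 (le_of_eq hx21)).upd 1 3 2 (le_of_eq hx24)).upd 2 0 1 (le_of_eq hx31)).upd 2 3 1 (le_of_eq hx34)).upd 3 1 1 (le_of_eq hx42)).upd 3 2 1 (le_of_eq hx43)) ![1,1,1,1] (by decide) (by decide) 0 (by decide))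
        · -- 34=(1,2)
          exact False.elim (cert_false T ((skipEmb 1).trans (Function.Embedding.refl _)) (by norm_num) (fun _ => hall _) (((((LB_zero T ((skipEmb 1).trans (Function.Embedding.refl _))).upd 1 3 2 (le_of_eq hx24)).upd 2 3 1 (le_of_eq hx34)).upd 3 1 1 (le_of_eq hx42)).upd 3 2 2 (le_of_eq hx43)) ![0,2,1,2] (by decide) (by decide) 1 (by decide))
        · -- 34=(2,1)
          exact False.elim (cert_false T ((skipEmb 1).trans (Function.Embedding.refl _)) (by norm_num) (fun _ => hall _) (((((LB_zero T ((skipEmb 1).trans (Function.Embedding.refl _))).upd 1 3 2 (le_of_eq hx24)).upd 2 3 2 (le_of_eq hx34)).upd 3 1 1 (le_of_eq hx42)).upd 3 2 1 (le_of_eq hx43)) ![0,1,1,1] (by decide) (by decide) 1 (by decide))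
        · -- 34=(1,3)
          exact False.elim (cert_false T ((skipEmb 2).trans (Function.Embedding.refl _)) (by norm_num) (fun _ => hall _) (((((LB_zero T ((skipEmb 2).trans (Function.Embedding.refl _))).upd 1 2 1 (le_of_eq hx13)).upd 2 1 1 (le_of_eq hx31)).upd 2 3 1 (le_of_eq hx34)).upd 3 2 3 (le_of_eq hx43)) ![0,1,2,3] (by decide) (by decide) 1 (by decide))
        · -- 34=(3,1)
          exact False.elim (cert_false T ((skipEmb 2).trans (Function.Embedding.refl _)) (by norm_num) (fun _ => hall _) (((((LB_zero T ((skipEmb 2).trans (Function.Embedding.refl _))).upd 1 2 1 (le_of_eq hx13)).upd 2 1 1 (le_of_eq hx31)).upd 2 3 3 (le_of_eq hx34)).upd 3 2 1 (le_of_eq hx43)) ![0,1,2,1] (by decide) (by decide) 1 (by decide))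
      · -- 24=(1,3)
        exact False.elim (cert_false T ((skipEmb 3).trans (Function.Embedding.refl _)) (by norm_num) (fun _ => hall _) (((((LB_zero T ((skipEmb 3).trans (Function.Embedding.refl _))).upd 1 2 1 (le_of_eq hx12)).upd 2 1 1 (le_of_eq hx21)).upd 2 3 1 (le_of_eq hx24)).upd 3 2 3 (le_of_eq hx42)) ![0,1,2,3] (by decide) (by decide) 1 (by decide))
      · -- 24=(3,1)
        exact False.elim (cert_false T ((skipEmb 3).trans (Function.Embedding.refl _)) (by norm_num) (fun _ => hall _) (((((LB_zero T ((skipEmb 3).trans (Function.Embedding.refl _))).upd 1 2 1 (le_of_eq hx12)).upd 2 1 1 (le_of_eq hx21)).upd 2 3 3 (le_of_eq hx24)).upd 3 2 1 (le_of_eq hx42)) ![0,1,2,1] (by decide) (by decide) 1 (by decide))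
    · -- 14=(1,1)
      rcases d24 with ⟨rfl, rfl⟩ | ⟨rfl, rfl⟩ | ⟨rfl, rfl⟩ | ⟨rfl, rfl⟩ | ⟨rfl, rfl⟩ | ⟨rfl, rfl⟩
      · -- 24=(0,0)
        rcases d34 with ⟨rfl, rfl⟩ | ⟨rfl, rfl⟩ | ⟨rfl, rfl⟩ | ⟨rfl, rfl⟩ | ⟨rfl, rfl⟩ | ⟨rfl, rfl⟩
        · -- 34=(0,0)
          refine ⟨(⟨![1, 0, 2, 3, 4], ![1, 0, 2, 3, 4], by decide, by decide⟩ : Equiv.Perm (Fin 5)), T.m 0, T.w 1, Or.inr (Or.inr (Or.inr (Or.inr (Or.inr (Or.inr (Or.inl ?_))))))⟩
          show T.m 1 = 2 * T.m 0 ∧ T.m 0 = T.m 0 ∧ T.m 2 = T.m 0 ∧ T.m 3 = T.m 0 ∧ T.m 4 = T.m 0 ∧ T.w 1 = T.w 1 ∧ T.w 0 = T.w 1 ∧ T.w 2 = T.w 1 ∧ T.w 3 = T.w 1 ∧ T.w 4 = T.w 1 ∧ T.a 1 1 = -2 * T.w 1 ∧ T.a 1 0 = T.w 1 ∧ T.a 1 2 = T.w 1 ∧ T.a 1 3 = T.w 1 ∧ T.a 1 4 = T.w 1 ∧ T.a 0 0 = -2 * T.w 1 ∧ T.a 0 2 = 0 ∧ T.a 0 3 = 0 ∧ T.a 0 4 = 0 ∧ T.a 2 2 = -2 * T.w 1 ∧ T.a 2 3 = 0 ∧ T.a 2 4 = 0 ∧ T.a 3 3 = -2 * T.w 1 ∧ T.a 3 4 = 0 ∧ T.a 4 4 = -2 * T.w 1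
          refine ⟨?_, ?_, ?_, ?_, ?_, ?_, ?_, ?_, ?_, ?_, ?_, ?_, ?_, ?_, ?_, ?_, ?_, ?_, ?_, ?_, ?_, ?_, ?_, ?_, ?_⟩ <;> omega
        · -- 34=(1,1)
          exact False.elim (cert_false T ((skipEmb 2).trans (Function.Embedding.refl _)) (by norm_num) (fun _ => hall _) (((((((LB_zero T ((skipEmb 2).trans (Function.Embedding.refl _))).upd 1 2 1 (le_of_eq hx13)).upd 1 3 1 (le_of_eq hx14)).upd 2 1 1 (le_of_eq hx31)).upd 2 3 1 (le_of_eq hx34)).upd 3 1 1 (le_of_eq hx41)).upd 3 2 1 (le_of_eq hx43)) ![0,1,1,1] (by decide) (by decide) 1 (by decide))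
        · -- 34=(1,2)
          exact False.elim (cert_false T ((skipEmb 2).trans (Function.Embedding.refl _)) (by norm_num) (fun _ => hall _) (((((((LB_zero T ((skipEmb 2).trans (Function.Embedding.refl _))).upd 1 2 1 (le_of_eq hx13)).upd 1 3 1 (le_of_eq hx14)).upd 2 1 1 (le_of_eq hx31)).upd 2 3 1 (le_of_eq hx34)).upd 3 1 1 (le_of_eq hx41)).upd 3 2 2 (le_of_eq hx43)) ![0,1,1,1] (by decide) (by decide) 1 (by decide))
        · -- 34=(2,1)
          exact False.elim (cert_false T ((skipEmb 2).trans (Function.Embedding.refl _)) (by norm_num) (fun _ => hall _) (((((((LB_zero T ((skipEmb 2).trans (Function.Embedding.refl _))).upd 1 2 1 (le_of_eq hx13)).upd 1 3 1 (le_of_eq hx14)).upd 2 1 1 (le_of_eq hx31)).upd 2 3 2 (le_of_eq hx34)).upd 3 1 1 (le_of_eq hx41)).upd 3 2 1 (le_of_eq hx43)) ![0,1,1,1] (by decide) (by decide) 1 (by decide))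
        · -- 34=(1,3)
          exact False.elim (cert_false T ((skipEmb 2).trans (Function.Embedding.refl _)) (by norm_num) (fun _ => hall _) (((((((LB_zero T ((skipEmb 2).trans (Function.Embedding.refl _))).upd 1 2 1 (le_of_eq hx13)).upd 1 3 1 (le_of_eq hx14)).upd 2 1 1 (le_of_eq hx31)).upd 2 3 1 (le_of_eq hx34)).upd 3 1 1 (le_of_eq hx41)).upd 3 2 3 (le_of_eq hx43)) ![0,1,1,1] (by decide) (by decide) 1 (by decide))
        · -- 34=(3,1)
          exact False.elim (cert_false T ((skipEmb 2).trans (Function.Embedding.refl _)) (by norm_num) (fun _ => hall _) (((((((LB_zero T ((skipEmb 2).trans (Function.Embedding.refl _))).upd 1 2 1 (le_of_eq hx13)).upd 1 3 1 (le_of_eq hx14)).upd 2 1 1 (le_of_eq hx31)).upd 2 3 3 (le_of_eq hx34)).upd 3 1 1 (le_of_eq hx41)).upd 3 2 1 (le_of_eq hx43)) ![0,1,1,1] (by decide) (by decide) 1 (by decide))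
      · -- 24=(1,1)
        exact False.elim (cert_false T ((skipEmb 3).trans (Function.Embedding.refl _)) (by norm_num) (fun _ => hall _) (((((((LB_zero T ((skipEmb 3).trans (Function.Embedding.refl _))).upd 1 2 1 (le_of_eq hx12)).upd 1 3 1 (le_of_eq hx14)).upd 2 1 1 (le_of_eq hx21)).upd 2 3 1 (le_of_eq hx24)).upd 3 1 1 (le_of_eq hx41)).upd 3 2 1 (le_of_eq hx42)) ![0,1,1,1] (by decide) (by decide) 1 (by decide))
      · -- 24=(1,2)
        exact False.elim (cert_false T ((skipEmb 3).trans (Function.Embedding.refl _)) (by norm_num) (fun _ => hall _) (((((((LB_zero T ((skipEmb 3).trans (Function.Embedding.refl _))).upd 1 2 1 (le_of_eq hx12)).upd 1 3 1 (le_of_eq hx14)).upd 2 1 1 (le_of_eq hx21)).upd 2 3 1 (le_of_eq hx24)).upd 3 1 1 (le_of_eq hx41)).upd 3 2 2 (le_of_eq hx42)) ![0,1,1,1] (by decide) (by decide) 1 (by decide))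
      · -- 24=(2,1)
        exact False.elim (cert_false T ((skipEmb 3).trans (Function.Embedding.refl _)) (by norm_num) (fun _ => hall _) (((((((LB_zero T ((skipEmb 3).trans (Function.Embedding.refl _))).upd 1 2 1 (le_of_eq hx12)).upd 1 3 1 (le_of_eq hx14)).upd 2 1 1 (le_of_eq hx21)).upd 2 3 2 (le_of_eq hx24)).upd 3 1 1 (le_of_eq hx41)).upd 3 2 1 (le_of_eq hx42)) ![0,1,1,1] (by decide) (by decide) 1 (by decide))
      · -- 24=(1,3)
        exact False.elim (cert_false T ((skipEmb 3).trans (Function.Embedding.refl _)) (by norm_num) (fun _ => hall _) (((((((LB_zero T ((skipEmb 3).trans (Function.Embedding.refl _))).upd 1 2 1 (le_of_eq hx12)).upd 1 3 1 (le_of_eq hx14)).upd 2 1 1 (le_of_eq hx21)).upd 2 3 1 (le_of_eq hx24)).upd 3 1 1 (le_of_eq hx41)).upd 3 2 3 (le_of_eq hx42)) ![0,1,1,1] (by decide) (by decide) 1 (by decide))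
      · -- 24=(3,1)
        exact False.elim (cert_false T ((skipEmb 3).trans (Function.Embedding.refl _)) (by norm_num) (fun _ => hall _) (((((((LB_zero T ((skipEmb 3).trans (Function.Embedding.refl _))).upd 1 2 1 (le_of_eq hx12)).upd 1 3 1 (le_of_eq hx14)).upd 2 1 1 (le_of_eq hx21)).upd 2 3 3 (le_of_eq hx24)).upd 3 1 1 (le_of_eq hx41)).upd 3 2 1 (le_of_eq hx42)) ![0,1,1,1] (by decide) (by decide) 1 (by decide))
    · -- 14=(1,2)
      exact False.elim (cert_false T ((skipEmb 3).trans (Function.Embedding.refl _)) (by norm_num) (fun _ => hall _) (((((((LB_zero T ((skipEmb 3).trans (Function.Embedding.refl _))).upd 0 1 1 (le_of_eq hx01)).upd 1 0 1 (le_of_eq hx10)).upd 1 2 1 (le_of_eq hx12)).upd 1 3 1 (le_of_eq hx14)).upd 2 1 1 (le_of_eq hx21)).upd 3 1 2 (le_of_eq hx41)) ![1,2,1,2] (by decide) (by decide) 0 (by decide))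
    · -- 14=(2,1)
      exact False.elim (cert_false T ((skipEmb 3).trans (Function.Embedding.refl _)) (by norm_num) (fun _ => hall _) (((((((LB_zero T ((skipEmb 3).trans (Function.Embedding.refl _))).upd 0 1 1 (le_of_eq hx01)).upd 1 0 1 (le_of_eq hx10)).upd 1 2 1 (le_of_eq hx12)).upd 1 3 2 (le_of_eq hx14)).upd 2 1 1 (le_of_eq hx21)).upd 3 1 1 (le_of_eq hx41)) ![1,2,1,1] (by decide) (by decide) 0 (by decide))
    · -- 14=(1,3)
      exact False.elim (cert_false T ((skipEmb 3).trans (Function.Embedding.refl _)) (by norm_num) (fun _ => hall _) (((((((LB_zero T ((skipEmb 3).trans (Function.Embedding.refl _))).upd 0 1 1 (le_of_eq hx01)).upd 1 0 1 (le_of_eq hx10)).upd 1 2 1 (le_of_eq hx12)).upd 1 3 1 (le_of_eq hx14)).upd 2 1 1 (le_of_eq hx21)).upd 3 1 3 (le_of_eq hx41)) ![1,2,1,2] (by decide) (by decide) 0 (by decide))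
    · -- 14=(3,1)
      exact False.elim (cert_false T ((skipEmb 3).trans (Function.Embedding.refl _)) (by norm_num) (fun _ => hall _) (((((LB_zero T ((skipEmb 3).trans (Function.Embedding.refl _))).upd 1 2 1 (le_of_eq hx12)).upd 1 3 3 (le_of_eq hx14)).upd 2 1 1 (le_of_eq hx21)).upd 3 1 1 (le_of_eq hx41)) ![0,2,1,1] (by decide) (by decide) 1 (by decide))
  · -- 04=(1,1)
    rcases d14 with ⟨rfl, rfl⟩ | ⟨rfl, rfl⟩ | ⟨rfl, rfl⟩ | ⟨rfl, rfl⟩ | ⟨rfl, rfl⟩ | ⟨rfl, rfl⟩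
    · -- 14=(0,0)
      rcases d24 with ⟨rfl, rfl⟩ | ⟨rfl, rfl⟩ | ⟨rfl, rfl⟩ | ⟨rfl, rfl⟩ | ⟨rfl, rfl⟩ | ⟨rfl, rfl⟩
      · -- 24=(0,0)
        rcases d34 with ⟨rfl, rfl⟩ | ⟨rfl, rfl⟩ | ⟨rfl, rfl⟩ | ⟨rfl, rfl⟩ | ⟨rfl, rfl⟩ | ⟨rfl, rfl⟩
        · -- 34=(0,0)
          exfalso; omega
        · -- 34=(1,1)
          exact False.elim (cert_false T ((skipEmb 2).trans (Function.Embedding.refl _)) (by norm_num) (fun _ => hall _) (((((((((LB_zero T ((skipEmb 2).trans (Function.Embedding.refl _))).upd 0 1 1 (le_of_eq hx01)).upd 0 3 1 (le_of_eq hx04)).upd 1 0 1 (le_of_eq hx10)).upd 1 2 1 (le_of_eq hx13)).upd 2 1 1 (le_of_eq hx31)).upd 2 3 1 (le_of_eq hx34)).upd 3 0 1 (le_of_eq hx40)).upd 3 2 1 (le_of_eq hx43)) ![1,1,1,1] (by decide) (by decide) 0 (by decide))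
        · -- 34=(1,2)
          exact False.elim (cert_false T ((skipEmb 2).trans (Function.Embedding.refl _)) (by norm_num) (fun _ => hall _) (((((((((LB_zero T ((skipEmb 2).trans (Function.Embedding.refl _))).upd 0 1 1 (le_of_eq hx01)).upd 0 3 1 (le_of_eq hx04)).upd 1 0 1 (le_of_eq hx10)).upd 1 2 1 (le_of_eq hx13)).upd 2 1 1 (le_of_eq hx31)).upd 2 3 1 (le_of_eq hx34)).upd 3 0 1 (le_of_eq hx40)).upd 3 2 2 (le_of_eq hx43)) ![1,1,1,1] (by decide) (by decide) 0 (by decide))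
        · -- 34=(2,1)
          exact False.elim (cert_false T ((skipEmb 2).trans (Function.Embedding.refl _)) (by norm_num) (fun _ => hall _) (((((((((LB_zero T ((skipEmb 2).trans (Function.Embedding.refl _))).upd 0 1 1 (le_of_eq hx01)).upd 0 3 1 (le_of_eq hx04)).upd 1 0 1 (le_of_eq hx10)).upd 1 2 1 (le_of_eq hx13)).upd 2 1 1 (le_of_eq hx31)).upd 2 3 2 (le_of_eq hx34)).upd 3 0 1 (le_of_eq hx40)).upd 3 2 1 (le_of_eq hx43)) ![1,1,1,1] (by decide) (by decide) 0 (by decide))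
        · -- 34=(1,3)
          exact False.elim (cert_false T ((skipEmb 2).trans (Function.Embedding.refl _)) (by norm_num) (fun _ => hall _) (((((((((LB_zero T ((skipEmb 2).trans (Function.Embedding.refl _))).upd 0 1 1 (le_of_eq hx01)).upd 0 3 1 (le_of_eq hx04)).upd 1 0 1 (le_of_eq hx10)).upd 1 2 1 (le_of_eq hx13)).upd 2 1 1 (le_of_eq hx31)).upd 2 3 1 (le_of_eq hx34)).upd 3 0 1 (le_of_eq hx40)).upd 3 2 3 (le_of_eq hx43)) ![1,1,1,1] (by decide) (by decide) 0 (by decide))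
        · -- 34=(3,1)
          exact False.elim (cert_false T ((skipEmb 2).trans (Function.Embedding.refl _)) (by norm_num) (fun _ => hall _) (((((((((LB_zero T ((skipEmb 2).trans (Function.Embedding.refl _))).upd 0 1 1 (le_of_eq hx01)).upd 0 3 1 (le_of_eq hx04)).upd 1 0 1 (le_of_eq hx10)).upd 1 2 1 (le_of_eq hx13)).upd 2 1 1 (le_of_eq hx31)).upd 2 3 3 (le_of_eq hx34)).upd 3 0 1 (le_of_eq hx40)).upd 3 2 1 (le_of_eq hx43)) ![1,1,1,1] (by decide) (by decide) 0 (by decide))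
      · -- 24=(1,1)
        exact False.elim (cert_false T ((skipEmb 3).trans (Function.Embedding.refl _)) (by norm_num) (fun _ => hall _) (((((((((LB_zero T ((skipEmb 3).trans (Function.Embedding.refl _))).upd 0 1 1 (le_of_eq hx01)).upd 0 3 1 (le_of_eq hx04)).upd 1 0 1 (le_of_eq hx10)).upd 1 2 1 (le_of_eq hx12)).upd 2 1 1 (le_of_eq hx21)).upd 2 3 1 (le_of_eq hx24)).upd 3 0 1 (le_of_eq hx40)).upd 3 2 1 (le_of_eq hx42)) ![1,1,1,1] (by decide) (by decide) 0 (by decide))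
      · -- 24=(1,2)
        exact False.elim (cert_false T ((skipEmb 3).trans (Function.Embedding.refl _)) (by norm_num) (fun _ => hall _) (((((((((LB_zero T ((skipEmb 3).trans (Function.Embedding.refl _))).upd 0 1 1 (le_of_eq hx01)).upd 0 3 1 (le_of_eq hx04)).upd 1 0 1 (le_of_eq hx10)).upd 1 2 1 (le_of_eq hx12)).upd 2 1 1 (le_of_eq hx21)).upd 2 3 1 (le_of_eq hx24)).upd 3 0 1 (le_of_eq hx40)).upd 3 2 2 (le_of_eq hx42)) ![1,1,1,1] (by decide) (by decide) 0 (by decide))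
      · -- 24=(2,1)
        exact False.elim (cert_false T ((skipEmb 3).trans (Function.Embedding.refl _)) (by norm_num) (fun _ => hall _) (((((((((LB_zero T ((skipEmb 3).trans (Function.Embedding.refl _))).upd 0 1 1 (le_of_eq hx01)).upd 0 3 1 (le_of_eq hx04)).upd 1 0 1 (le_of_eq hx10)).upd 1 2 1 (le_of_eq hx12)).upd 2 1 1 (le_of_eq hx21)).upd 2 3 2 (le_of_eq hx24)).upd 3 0 1 (le_of_eq hx40)).upd 3 2 1 (le_of_eq hx42)) ![1,1,1,1] (by decide) (by decide) 0 (by decide))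
      · -- 24=(1,3)
        exact False.elim (cert_false T ((skipEmb 3).trans (Function.Embedding.refl _)) (by norm_num) (fun _ => hall _) (((((((((LB_zero T ((skipEmb 3).trans (Function.Embedding.refl _))).upd 0 1 1 (le_of_eq hx01)).upd 0 3 1 (le_of_eq hx04)).upd 1 0 1 (le_of_eq hx10)).upd 1 2 1 (le_of_eq hx12)).upd 2 1 1 (le_of_eq hx21)).upd 2 3 1 (le_of_eq hx24)).upd 3 0 1 (le_of_eq hx40)).upd 3 2 3 (le_of_eq hx42)) ![1,1,1,1] (by decide) (by decide) 0 (by decide))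
      · -- 24=(3,1)
        exact False.elim (cert_false T ((skipEmb 3).trans (Function.Embedding.refl _)) (by norm_num) (fun _ => hall _) (((((((((LB_zero T ((skipEmb 3).trans (Function.Embedding.refl _))).upd 0 1 1 (le_of_eq hx01)).upd 0 3 1 (le_of_eq hx04)).upd 1 0 1 (le_of_eq hx10)).upd 1 2 1 (le_of_eq hx12)).upd 2 1 1 (le_of_eq hx21)).upd 2 3 3 (le_of_eq hx24)).upd 3 0 1 (le_of_eq hx40)).upd 3 2 1 (le_of_eq hx42)) ![1,1,1,1] (by decide) (by decide) 0 (by decide))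
    · -- 14=(1,1)
      exact False.elim (cert_false T ((skipEmb 3).trans (Function.Embedding.refl _)) (by norm_num) (fun _ => hall _) (((((((LB_zero T ((skipEmb 3).trans (Function.Embedding.refl _))).upd 0 1 1 (le_of_eq hx01)).upd 0 3 1 (le_of_eq hx04)).upd 1 0 1 (le_of_eq hx10)).upd 1 3 1 (le_of_eq hx14)).upd 3 0 1 (le_of_eq hx40)).upd 3 1 1 (le_of_eq hx41)) ![1,1,0,1] (by decide) (by decide) 0 (by decide))
    · -- 14=(1,2)
      exact False.elim (cert_false T ((skipEmb 3).trans (Function.Embedding.refl _)) (by norm_num) (fun _ => hall _) (((((((LB_zero T ((skipEmb 3).trans (Function.Embedding.refl _))).upd 0 1 1 (le_of_eq hx01)).upd 0 3 1 (le_of_eq hx04)).upd 1 0 1 (le_of_eq hx10)).upd 1 3 1 (le_of_eq hx14)).upd 3 0 1 (le_of_eq hx40)).upd 3 1 2 (le_of_eq hx41)) ![1,1,0,1] (by decide) (by decide) 0 (by decide))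
    · -- 14=(2,1)
      exact False.elim (cert_false T ((skipEmb 3).trans (Function.Embedding.refl _)) (by norm_num) (fun _ => hall _) (((((((LB_zero T ((skipEmb 3).trans (Function.Embedding.refl _))).upd 0 1 1 (le_of_eq hx01)).upd 0 3 1 (le_of_eq hx04)).upd 1 0 1 (le_of_eq hx10)).upd 1 3 2 (le_of_eq hx14)).upd 3 0 1 (le_of_eq hx40)).upd 3 1 1 (le_of_eq hx41)) ![1,1,0,1] (by decide) (by decide) 0 (by decide))
    · -- 14=(1,3)
      exact False.elim (cert_false T ((skipEmb 3).trans (Function.Embedding.refl _)) (by norm_num) (fun _ => hall _) (((((((LB_zero T ((skipEmb 3).trans (Function.Embedding.refl _))).upd 0 1 1 (le_of_eq hx01)).upd 0 3 1 (le_of_eq hx04)).upd 1 0 1 (le_of_eq hx10)).upd 1 3 1 (le_of_eq hx14)).upd 3 0 1 (le_of_eq hx40)).upd 3 1 3 (le_of_eq hx41)) ![1,1,0,1] (by decide) (by decide) 0 (by decide))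
    · -- 14=(3,1)
      exact False.elim (cert_false T ((skipEmb 3).trans (Function.Embedding.refl _)) (by norm_num) (fun _ => hall _) (((((((LB_zero T ((skipEmb 3).trans (Function.Embedding.refl _))).upd 0 1 1 (le_of_eq hx01)).upd 0 3 1 (le_of_eq hx04)).upd 1 0 1 (le_of_eq hx10)).upd 1 3 3 (le_of_eq hx14)).upd 3 0 1 (le_of_eq hx40)).upd 3 1 1 (le_of_eq hx41)) ![1,1,0,1] (by decide) (by decide) 0 (by decide))
  · -- 04=(1,2)
    rcases d14 with ⟨rfl, rfl⟩ | ⟨rfl, rfl⟩ | ⟨rfl, rfl⟩ | ⟨rfl, rfl⟩ | ⟨rfl, rfl⟩ | ⟨rfl, rfl⟩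
    · -- 14=(0,0)
      rcases d24 with ⟨rfl, rfl⟩ | ⟨rfl, rfl⟩ | ⟨rfl, rfl⟩ | ⟨rfl, rfl⟩ | ⟨rfl, rfl⟩ | ⟨rfl, rfl⟩
      · -- 24=(0,0)
        rcases d34 with ⟨rfl, rfl⟩ | ⟨rfl, rfl⟩ | ⟨rfl, rfl⟩ | ⟨rfl, rfl⟩ | ⟨rfl, rfl⟩ | ⟨rfl, rfl⟩
        · -- 34=(0,0)
          refine ⟨(⟨![4, 0, 1, 2, 3], ![1, 2, 3, 4, 0], by decide, by decide⟩ : Equiv.Perm (Fin 5)), T.m 2, T.w 4, Or.inr (Or.inr (Or.inr (Or.inr (Or.inr (Or.inr (Or.inr (Or.inr (?_))))))))⟩
          show T.m 4 = 2 * T.m 2 ∧ T.m 0 = 2 * T.m 2 ∧ T.m 1 = 2 * T.m 2 ∧ T.m 2 = T.m 2 ∧ T.m 3 = T.m 2 ∧ T.w 4 = T.w 4 ∧ T.w 0 = 2 * T.w 4 ∧ T.w 1 = 2 * T.w 4 ∧ T.w 2 = 2 * T.w 4 ∧ T.w 3 = 2 * T.w 4 ∧ T.a 4 4 = -2 * T.w 4 ∧ T.a 4 0 = 2 * T.w 4 ∧ T.a 4 1 = 0 ∧ T.a 4 2 = 0 ∧ T.a 4 3 = 0 ∧ T.a 0 0 = -4 * T.w 4 ∧ T.a 0 1 = 2 * T.w 4 ∧ T.a 0 2 = 0 ∧ T.a 0 3 = 0 ∧ T.a 1 1 = -4 * T.w 4 ∧ T.a 1 2 = 2 * T.w 4 ∧ T.a 1 3 = 2 * T.w 4 ∧ T.a 2 2 = -4 * T.w 4 ∧ T.a 2 3 = 0 ∧ T.a 3 3 =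 -4 * T.w 4
          refine ⟨?_, ?_, ?_, ?_, ?_, ?_, ?_, ?_, ?_, ?_, ?_, ?_, ?_, ?_, ?_, ?_, ?_, ?_, ?_, ?_, ?_, ?_, ?_, ?_, ?_⟩ <;> omega
        · -- 34=(1,1)
          exact False.elim (cert_false T ((skipEmb 2).trans (Function.Embedding.refl _)) (by norm_num) (fun _ => hall _) (((((((((LB_zero T ((skipEmb 2).trans (Function.Embedding.refl _))).upd 0 1 1 (le_of_eq hx01)).upd 0 3 1 (le_of_eq hx04)).upd 1 0 1 (le_of_eq hx10)).upd 1 2 1 (le_of_eq hx13)).upd 2 1 1 (le_of_eq hx31)).upd 2 3 1 (le_of_eq hx34)).upd 3 0 2 (le_of_eq hx40)).upd 3 2 1 (le_of_eq hx43)) ![1,1,1,1] (by decide) (by decide) 0 (by decide))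
        · -- 34=(1,2)
          exact False.elim (cert_false T ((skipEmb 2).trans (Function.Embedding.refl _)) (by norm_num) (fun _ => hall _) (((((((((LB_zero T ((skipEmb 2).trans (Function.Embedding.refl _))).upd 0 1 1 (le_of_eq hx01)).upd 0 3 1 (le_of_eq hx04)).upd 1 0 1 (le_of_eq hx10)).upd 1 2 1 (le_of_eq hx13)).upd 2 1 1 (le_of_eq hx31)).upd 2 3 1 (le_of_eq hx34)).upd 3 0 2 (le_of_eq hx40)).upd 3 2 2 (le_of_eq hx43)) ![1,1,1,1] (by decide) (by decide) 0 (by decide))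
        · -- 34=(2,1)
          exact False.elim (cert_false T ((skipEmb 2).trans (Function.Embedding.refl _)) (by norm_num) (fun _ => hall _) (((((((((LB_zero T ((skipEmb 2).trans (Function.Embedding.refl _))).upd 0 1 1 (le_of_eq hx01)).upd 0 3 1 (le_of_eq hx04)).upd 1 0 1 (le_of_eq hx10)).upd 1 2 1 (le_of_eq hx13)).upd 2 1 1 (le_of_eq hx31)).upd 2 3 2 (le_of_eq hx34)).upd 3 0 2 (le_of_eq hx40)).upd 3 2 1 (le_of_eq hx43)) ![1,1,1,1] (by decide) (by decide) 0 (by decide))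
        · -- 34=(1,3)
          exact False.elim (cert_false T ((skipEmb 2).trans (Function.Embedding.refl _)) (by norm_num) (fun _ => hall _) (((((((((LB_zero T ((skipEmb 2).trans (Function.Embedding.refl _))).upd 0 1 1 (le_of_eq hx01)).upd 0 3 1 (le_of_eq hx04)).upd 1 0 1 (le_of_eq hx10)).upd 1 2 1 (le_of_eq hx13)).upd 2 1 1 (le_of_eq hx31)).upd 2 3 1 (le_of_eq hx34)).upd 3 0 2 (le_of_eq hx40)).upd 3 2 3 (le_of_eq hx43)) ![1,1,1,1] (by decide) (by decide) 0 (by decide))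
        · -- 34=(3,1)
          exact False.elim (cert_false T ((skipEmb 2).trans (Function.Embedding.refl _)) (by norm_num) (fun _ => hall _) (((((((((LB_zero T ((skipEmb 2).trans (Function.Embedding.refl _))).upd 0 1 1 (le_of_eq hx01)).upd 0 3 1 (le_of_eq hx04)).upd 1 0 1 (le_of_eq hx10)).upd 1 2 1 (le_of_eq hx13)).upd 2 1 1 (le_of_eq hx31)).upd 2 3 3 (le_of_eq hx34)).upd 3 0 2 (le_of_eq hx40)).upd 3 2 1 (le_of_eq hx43)) ![1,1,1,1] (by decide) (by decide) 0 (by decide))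
      · -- 24=(1,1)
        exact False.elim (cert_false T ((skipEmb 3).trans (Function.Embedding.refl _)) (by norm_num) (fun _ => hall _) (((((((((LB_zero T ((skipEmb 3).trans (Function.Embedding.refl _))).upd 0 1 1 (le_of_eq hx01)).upd 0 3 1 (le_of_eq hx04)).upd 1 0 1 (le_of_eq hx10)).upd 1 2 1 (le_of_eq hx12)).upd 2 1 1 (le_of_eq hx21)).upd 2 3 1 (le_of_eq hx24)).upd 3 0 2 (le_of_eq hx40)).upd 3 2 1 (le_of_eq hx42)) ![1,1,1,1] (by decide) (by decide) 0 (by decide))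
      · -- 24=(1,2)
        exact False.elim (cert_false T ((skipEmb 3).trans (Function.Embedding.refl _)) (by norm_num) (fun _ => hall _) (((((((((LB_zero T ((skipEmb 3).trans (Function.Embedding.refl _))).upd 0 1 1 (le_of_eq hx01)).upd 0 3 1 (le_of_eq hx04)).upd 1 0 1 (le_of_eq hx10)).upd 1 2 1 (le_of_eq hx12)).upd 2 1 1 (le_of_eq hx21)).upd 2 3 1 (le_of_eq hx24)).upd 3 0 2 (le_of_eq hx40)).upd 3 2 2 (le_of_eq hx42)) ![1,1,1,1] (by decide) (by decide) 0 (by decide))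
      · -- 24=(2,1)
        exact False.elim (cert_false T ((skipEmb 3).trans (Function.Embedding.refl _)) (by norm_num) (fun _ => hall _) (((((((((LB_zero T ((skipEmb 3).trans (Function.Embedding.refl _))).upd 0 1 1 (le_of_eq hx01)).upd 0 3 1 (le_of_eq hx04)).upd 1 0 1 (le_of_eq hx10)).upd 1 2 1 (le_of_eq hx12)).upd 2 1 1 (le_of_eq hx21)).upd 2 3 2 (le_of_eq hx24)).upd 3 0 2 (le_of_eq hx40)).upd 3 2 1 (le_of_eq hx42)) ![1,1,1,1] (by decide) (by decide) 0 (by decide))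
      · -- 24=(1,3)
        exact False.elim (cert_false T ((skipEmb 3).trans (Function.Embedding.refl _)) (by norm_num) (fun _ => hall _) (((((((((LB_zero T ((skipEmb 3).trans (Function.Embedding.refl _))).upd 0 1 1 (le_of_eq hx01)).upd 0 3 1 (le_of_eq hx04)).upd 1 0 1 (le_of_eq hx10)).upd 1 2 1 (le_of_eq hx12)).upd 2 1 1 (le_of_eq hx21)).upd 2 3 1 (le_of_eq hx24)).upd 3 0 2 (le_of_eq hx40)).upd 3 2 3 (le_of_eq hx42)) ![1,1,1,1] (by decide) (by decide) 0 (by decide))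
      · -- 24=(3,1)
        exact False.elim (cert_false T ((skipEmb 3).trans (Function.Embedding.refl _)) (by norm_num) (fun _ => hall _) (((((((((LB_zero T ((skipEmb 3).trans (Function.Embedding.refl _))).upd 0 1 1 (le_of_eq hx01)).upd 0 3 1 (le_of_eq hx04)).upd 1 0 1 (le_of_eq hx10)).upd 1 2 1 (le_of_eq hx12)).upd 2 1 1 (le_of_eq hx21)).upd 2 3 3 (le_of_eq hx24)).upd 3 0 2 (le_of_eq hx40)).upd 3 2 1 (le_of_eq hx42)) ![1,1,1,1] (by decide) (by decide) 0 (by decide))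
    · -- 14=(1,1)
      exact False.elim (cert_false T ((skipEmb 3).trans (Function.Embedding.refl _)) (by norm_num) (fun _ => hall _) (((((((LB_zero T ((skipEmb 3).trans (Function.Embedding.refl _))).upd 0 1 1 (le_of_eq hx01)).upd 0 3 1 (le_of_eq hx04)).upd 1 0 1 (le_of_eq hx10)).upd 1 3 1 (le_of_eq hx14)).upd 3 0 2 (le_of_eq hx40)).upd 3 1 1 (le_of_eq hx41)) ![1,1,0,1] (by decide) (by decide) 0 (by decide))
    · -- 14=(1,2)
      exact False.elim (cert_false T ((skipEmb 3).trans (Function.Embedding.refl _)) (by norm_num) (fun _ => hall _) (((((((LB_zero T ((skipEmb 3).trans (Function.Embedding.refl _))).upd 0 1 1 (le_of_eq hx01)).upd 0 3 1 (le_of_eq hx04)).upd 1 0 1 (le_of_eq hx10)).upd 1 3 1 (le_of_eq hx14)).upd 3 0 2 (le_of_eq hx40)).upd 3 1 2 (le_of_eq hx41)) ![1,1,0,1] (by decide) (by decide) 0 (by decide))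
    · -- 14=(2,1)
      exact False.elim (cert_false T ((skipEmb 3).trans (Function.Embedding.refl _)) (by norm_num) (fun _ => hall _) (((((((LB_zero T ((skipEmb 3).trans (Function.Embedding.refl _))).upd 0 1 1 (le_of_eq hx01)).upd 0 3 1 (le_of_eq hx04)).upd 1 0 1 (le_of_eq hx10)).upd 1 3 2 (le_of_eq hx14)).upd 3 0 2 (le_of_eq hx40)).upd 3 1 1 (le_of_eq hx41)) ![1,1,0,1] (by decide) (by decide) 0 (by decide))
    · -- 14=(1,3)
      exact False.elim (cert_false T ((skipEmb 3).trans (Function.Embedding.refl _)) (by norm_num) (fun _ => hall _) (((((((LB_zero T ((skipEmb 3).trans (Function.Embedding.refl _))).upd 0 1 1 (le_of_eq hx01)).upd 0 3 1 (le_of_eq hx04)).upd 1 0 1 (le_of_eq hx10)).upd 1 3 1 (le_of_eq hx14)).upd 3 0 2 (le_of_eq hx40)).upd 3 1 3 (le_of_eq hx41)) ![1,1,0,1] (by decide) (by decide) 0 (by decide))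
    · -- 14=(3,1)
      exact False.elim (cert_false T ((skipEmb 3).trans (Function.Embedding.refl _)) (by norm_num) (fun _ => hall _) (((((((LB_zero T ((skipEmb 3).trans (Function.Embedding.refl _))).upd 0 1 1 (le_of_eq hx01)).upd 0 3 1 (le_of_eq hx04)).upd 1 0 1 (le_of_eq hx10)).upd 1 3 3 (le_of_eq hx14)).upd 3 0 2 (le_of_eq hx40)).upd 3 1 1 (le_of_eq hx41)) ![1,1,0,1] (by decide) (by decide) 0 (by decide))
  · -- 04=(2,1)
    rcases d14 with ⟨rfl, rfl⟩ | ⟨rfl, rfl⟩ | ⟨rfl, rfl⟩ | ⟨rfl, rfl⟩ | ⟨rfl, rfl⟩ | ⟨rfl, rfl⟩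
    · -- 14=(0,0)
      rcases d24 with ⟨rfl, rfl⟩ | ⟨rfl, rfl⟩ | ⟨rfl, rfl⟩ | ⟨rfl, rfl⟩ | ⟨rfl, rfl⟩ | ⟨rfl, rfl⟩
      · -- 24=(0,0)
        rcases d34 with ⟨rfl, rfl⟩ | ⟨rfl, rfl⟩ | ⟨rfl, rfl⟩ | ⟨rfl, rfl⟩ | ⟨rfl, rfl⟩ | ⟨rfl, rfl⟩
        · -- 34=(0,0)
          refine ⟨(⟨![4, 0, 1, 2, 3], ![1, 2, 3, 4, 0], by decide, by decide⟩ : Equiv.Perm (Fin 5)), T.m 4, T.w 0, Or.inr (Or.inr (Or.inr (Or.inr (Or.inr (Or.inr (Or.inr (Or.inl ?_)))))))⟩
          show T.m 4 = T.m 4 ∧ T.m 0 = 2 * T.m 4 ∧ T.m 1 = 2 * T.m 4 ∧ T.m 2 = T.m 4 ∧ T.m 3 = T.m 4 ∧ T.w 4 = 2 * T.w 0 ∧ T.w 0 = T.w 0 ∧ T.w 1 = T.w 0 ∧ T.w 2 = T.w 0 ∧ T.w 3 = T.w 0 ∧ T.a 4 4 = -4 * T.w 0 ∧ T.a 4 0 = 2 * T.w 0 ∧ T.a 4 1 = 0 ∧ T.a 4 2 = 0 ∧ T.a 4 3 = 0 ∧ T.a 0 0 = -2 * T.w 0 ∧ T.a 0 1 = T.w 0 ∧ T.a 0 2 = 0 ∧ T.a 0 3 = 0 ∧ T.a 1 1 = -2 * T.w 0 ∧ T.a 1 2 = T.w 0 ∧ T.a 1 3 = T.w 0 ∧ T.a 2 2 = -2 * T.w 0 ∧ T.a 2 3 = 0 ∧ T.a 3 3 = -2 * T.w 0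
          refine ⟨?_, ?_, ?_, ?_, ?_, ?_, ?_, ?_, ?_, ?_, ?_, ?_, ?_, ?_, ?_, ?_, ?_, ?_, ?_, ?_, ?_, ?_, ?_, ?_, ?_⟩ <;> omega
        · -- 34=(1,1)
          exact False.elim (cert_false T ((skipEmb 2).trans (Function.Embedding.refl _)) (by norm_num) (fun _ => hall _) (((((((((LB_zero T ((skipEmb 2).trans (Function.Embedding.refl _))).upd 0 1 1 (le_of_eq hx01)).upd 0 3 2 (le_of_eq hx04)).upd 1 0 1 (le_of_eq hx10)).upd 1 2 1 (le_of_eq hx13)).upd 2 1 1 (le_of_eq hx31)).upd 2 3 1 (le_of_eq hx34)).upd 3 0 1 (le_of_eq hx40)).upd 3 2 1 (le_of_eq hx43)) ![1,1,1,1] (by decide) (by decide) 0 (by decide))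
        · -- 34=(1,2)
          exact False.elim (cert_false T ((skipEmb 2).trans (Function.Embedding.refl _)) (by norm_num) (fun _ => hall _) (((((((((LB_zero T ((skipEmb 2).trans (Function.Embedding.refl _))).upd 0 1 1 (le_of_eq hx01)).upd 0 3 2 (le_of_eq hx04)).upd 1 0 1 (le_of_eq hx10)).upd 1 2 1 (le_of_eq hx13)).upd 2 1 1 (le_of_eq hx31)).upd 2 3 1 (le_of_eq hx34)).upd 3 0 1 (le_of_eq hx40)).upd 3 2 2 (le_of_eq hx43)) ![1,1,1,1] (by decide) (by decide) 0 (by decide))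
        · -- 34=(2,1)
          exact False.elim (cert_false T ((skipEmb 2).trans (Function.Embedding.refl _)) (by norm_num) (fun _ => hall _) (((((LB_zero T ((skipEmb 2).trans (Function.Embedding.refl _))).upd 0 3 2 (le_of_eq hx04)).upd 2 3 2 (le_of_eq hx34)).upd 3 0 1 (le_of_eq hx40)).upd 3 2 1 (le_of_eq hx43)) ![1,0,1,1] (by decide) (by decide) 0 (by decide))
        · -- 34=(1,3)
          exact False.elim (cert_false T ((skipEmb 2).trans (Function.Embedding.refl _)) (by norm_num) (fun _ => hall _) (((((((((LB_zero T ((skipEmb 2).trans (Function.Embedding.refl _))).upd 0 1 1 (le_of_eq hx01)).upd 0 3 2 (le_of_eq hx04)).upd 1 0 1 (le_of_eq hx10)).upd 1 2 1 (le_of_eq hx13)).upd 2 1 1 (le_of_eq hx31)).upd 2 3 1 (le_of_eq hx34)).upd 3 0 1 (le_of_eq hx40)).upd 3 2 3 (le_of_eq hx43)) ![1,1,1,1] (by decide) (by decide) 0 (by decide))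
        · -- 34=(3,1)
          exact False.elim (cert_false T ((skipEmb 2).trans (Function.Embedding.refl _)) (by norm_num) (fun _ => hall _) (((((LB_zero T ((skipEmb 2).trans (Function.Embedding.refl _))).upd 0 3 2 (le_of_eq hx04)).upd 2 3 3 (le_of_eq hx34)).upd 3 0 1 (le_of_eq hx40)).upd 3 2 1 (le_of_eq hx43)) ![1,0,1,1] (by decide) (by decide) 0 (by decide))
      · -- 24=(1,1)
        exact False.elim (cert_false T ((skipEmb 3).trans (Function.Embedding.refl _)) (by norm_num) (fun _ => hall _) (((((((((LB_zero T ((skipEmb 3).trans (Function.Embedding.refl _))).upd 0 1 1 (le_of_eq hx01)).upd 0 3 2 (le_of_eq hx04)).upd 1 0 1 (le_of_eq hx10)).upd 1 2 1 (le_of_eq hx12)).upd 2 1 1 (le_of_eq hx21)).upd 2 3 1 (le_of_eq hx24)).upd 3 0 1 (le_of_eq hx40)).upd 3 2 1 (le_of_eq hx42)) ![1,1,1,1] (by decide) (by decide) 0 (by decide))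
      · -- 24=(1,2)
        exact False.elim (cert_false T ((skipEmb 3).trans (Function.Embedding.refl _)) (by norm_num) (fun _ => hall _) (((((((((LB_zero T ((skipEmb 3).trans (Function.Embedding.refl _))).upd 0 1 1 (le_of_eq hx01)).upd 0 3 2 (le_of_eq hx04)).upd 1 0 1 (le_of_eq hx10)).upd 1 2 1 (le_of_eq hx12)).upd 2 1 1 (le_of_eq hx21)).upd 2 3 1 (le_of_eq hx24)).upd 3 0 1 (le_of_eq hx40)).upd 3 2 2 (le_of_eq hx42)) ![1,1,1,1] (by decide) (by decide) 0 (by decide))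
      · -- 24=(2,1)
        exact False.elim (cert_false T ((skipEmb 3).trans (Function.Embedding.refl _)) (by norm_num) (fun _ => hall _) (((((LB_zero T ((skipEmb 3).trans (Function.Embedding.refl _))).upd 0 3 2 (le_of_eq hx04)).upd 2 3 2 (le_of_eq hx24)).upd 3 0 1 (le_of_eq hx40)).upd 3 2 1 (le_of_eq hx42)) ![1,0,1,1] (by decide) (by decide) 0 (by decide))
      · -- 24=(1,3)
        exact False.elim (cert_false T ((skipEmb 3).trans (Function.Embedding.refl _)) (by norm_num) (fun _ => hall _) (((((((((LB_zero T ((skipEmb 3).trans (Function.Embedding.refl _))).upd 0 1 1 (le_of_eq hx01)).upd 0 3 2 (le_of_eq hx04)).upd 1 0 1 (le_of_eq hx10)).upd 1 2 1 (le_of_eq hx12)).upd 2 1 1 (le_of_eq hx21)).upd 2 3 1 (le_of_eq hx24)).upd 3 0 1 (le_of_eq hx40)).upd 3 2 3 (le_of_eq hx42)) ![1,1,1,1] (by decide) (by decide) 0 (by decide))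
      · -- 24=(3,1)
        exact False.elim (cert_false T ((skipEmb 3).trans (Function.Embedding.refl _)) (by norm_num) (fun _ => hall _) (((((LB_zero T ((skipEmb 3).trans (Function.Embedding.refl _))).upd 0 3 2 (le_of_eq hx04)).upd 2 3 3 (le_of_eq hx24)).upd 3 0 1 (le_of_eq hx40)).upd 3 2 1 (le_of_eq hx42)) ![1,0,1,1] (by decide) (by decide) 0 (by decide))
    · -- 14=(1,1)
      exact False.elim (cert_false T ((skipEmb 3).trans (Function.Embedding.refl _)) (by norm_num) (fun _ => hall _) (((((((LB_zero T ((skipEmb 3).trans (Function.Embedding.refl _))).upd 0 1 1 (le_of_eq hx01)).upd 0 3 2 (le_of_eq hx04)).upd 1 0 1 (le_of_eq hx10)).upd 1 3 1 (le_of_eq hx14)).upd 3 0 1 (le_of_eq hx40)).upd 3 1 1 (le_of_eq hx41)) ![1,1,0,1] (by decide) (by decide) 0 (by decide))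
    · -- 14=(1,2)
      exact False.elim (cert_false T ((skipEmb 3).trans (Function.Embedding.refl _)) (by norm_num) (fun _ => hall _) (((((((LB_zero T ((skipEmb 3).trans (Function.Embedding.refl _))).upd 0 1 1 (le_of_eq hx01)).upd 0 3 2 (le_of_eq hx04)).upd 1 0 1 (le_of_eq hx10)).upd 1 3 1 (le_of_eq hx14)).upd 3 0 1 (le_of_eq hx40)).upd 3 1 2 (le_of_eq hx41)) ![1,1,0,1] (by decide) (by decide) 0 (by decide))
    · -- 14=(2,1)
      exact False.elim (cert_false T ((skipEmb 3).trans (Function.Embedding.refl _)) (by norm_num) (fun _ => hall _) (((((((LB_zero T ((skipEmb 3).trans (Function.Embedding.refl _))).upd 0 1 1 (le_of_eq hx01)).upd 0 3 2 (le_of_eq hx04)).upd 1 0 1 (le_of_eq hx10)).upd 1 3 2 (le_of_eq hx14)).upd 3 0 1 (le_of_eq hx40)).upd 3 1 1 (le_of_eq hx41)) ![1,1,0,1] (by decide) (by decide) 0 (by decide))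
    · -- 14=(1,3)
      exact False.elim (cert_false T ((skipEmb 3).trans (Function.Embedding.refl _)) (by norm_num) (fun _ => hall _) (((((((LB_zero T ((skipEmb 3).trans (Function.Embedding.refl _))).upd 0 1 1 (le_of_eq hx01)).upd 0 3 2 (le_of_eq hx04)).upd 1 0 1 (le_of_eq hx10)).upd 1 3 1 (le_of_eq hx14)).upd 3 0 1 (le_of_eq hx40)).upd 3 1 3 (le_of_eq hx41)) ![1,1,0,1] (by decide) (by decide) 0 (by decide))
    · -- 14=(3,1)
      exact False.elim (cert_false T ((skipEmb 3).trans (Function.Embedding.refl _)) (by norm_num) (fun _ => hall _) (((((((LB_zero T ((skipEmb 3).trans (Function.Embedding.refl _))).upd 0 1 1 (le_of_eq hx01)).upd 0 3 2 (le_of_eq hx04)).upd 1 0 1 (le_of_eq hx10)).upd 1 3 3 (le_of_eq hx14)).upd 3 0 1 (le_of_eq hx40)).upd 3 1 1 (le_of_eq hx41)) ![1,1,0,1] (by decide) (by decide) 0 (by decide))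
  · -- 04=(1,3)
    exact False.elim (cert_false T ((skipEmb 3).trans (Function.Embedding.refl _)) (by norm_num) (fun _ => hall _) (((((LB_zero T ((skipEmb 3).trans (Function.Embedding.refl _))).upd 0 1 1 (le_of_eq hx01)).upd 0 3 1 (le_of_eq hx04)).upd 1 0 1 (le_of_eq hx10)).upd 3 0 3 (le_of_eq hx40)) ![2,1,0,3] (by decide) (by decide) 0 (by decide))
  · -- 04=(3,1)
    exact False.elim (cert_false T ((skipEmb 3).trans (Function.Embedding.refl _)) (by norm_num) (fun _ => hall _) (((((LB_zero T ((skipEmb 3).trans (Function.Embedding.refl _))).upd 0 1 1 (le_of_eq hx01)).upd 0 3 3 (le_of_eq hx04)).upd 1 0 1 (le_of_eq hx10)).upd 3 0 1 (le_of_eq hx40)) ![2,1,0,1] (by decide) (by decide) 0 (by decide))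

theorem case399 (T : NumericalType 5) (hall : ∀ i, T.IsMinusTwo i) (d : SData T)
    (h01 : N T (Function.Embedding.refl _) 0 1 = 1) (h10 : N T (Function.Embedding.refl _) 1 0 = 1)
    (h02 : N T (Function.Embedding.refl _) 0 2 = 0) (h20 : N T (Function.Embedding.refl _) 2 0 = 0)
    (h12 : N T (Function.Embedding.refl _) 1 2 = 1) (h21 : N T (Function.Embedding.refl _) 2 1 = 1)
    (h03 : N T (Function.Embedding.refl _) 0 3 = 0) (h30 : N T (Function.Embedding.refl _) 3 0 = 0)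
    (h13 : N T (Function.Embedding.refl _) 1 3 = 1) (h31 : N T (Function.Embedding.refl _) 3 1 = 1) :
    Goal T := by
  unfold Goal
  have hd := d
  obtain ⟨x01, x02, x03, x04, x10, x12, x13, x14, x20, x21, x23, x24, x30, x31, x32, x34, x40, x41, x42, x43, hx01, hx02, hx03, hx04, hx10, hx12, hx13, hx14, hx20, hx21, hx23, hx24, hx30, hx31, hx32, hx34, hx40, hx41, hx42, hx43, hw0, hm0, hw1, hm1, hw2, hm2, hw3, hm3, hw4, hm4, a00, a01, a02, a03, a04, a11, a10, a12, a13, a14, a22, a20, a21, a23, a24, a33, a30, a31, a32, a34, a44, a40, a41, a42, a43, wN01, wN02, wN12, wN03, wN13, wN23, wN04, wN14, wN24, wN34, e0, e1, e2, e3, e4, d01, d02, d12, d03, d13, d23, d04, d14, d24, d34⟩ := d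
  obtain rfl : x01 = 1 := hx01.trans h01
  obtain rfl : x10 = 1 := hx10.trans h10
  obtain rfl : x02 = 0 := hx02.trans h02
  obtain rfl : x20 = 0 := hx20.trans h20
  obtain rfl : x12 = 1 := hx12.trans h12
  obtain rfl : x21 = 1 := hx21.trans h21
  obtain rfl : x03 = 0 := hx03.trans h03
  obtain rfl : x30 = 0 := hx30.trans h30
  obtain rfl : x13 = 1 := hx13.trans h13
  obtain rfl : x31 = 1 := hx31.trans h31
  rcases d23 with ⟨rfl, rfl⟩ | ⟨rfl, rfl⟩ | ⟨rfl, rfl⟩ | ⟨rfl, rfl⟩ | ⟨rfl, rfl⟩ | ⟨rfl, rfl⟩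
  · -- 23=(0,0)
    exact case400 T hall hd hx01.symm hx10.symm hx02.symm hx20.symm hx12.symm hx21.symm hx03.symm hx30.symm hx13.symm hx31.symm hx23.symm hx32.symm
  · -- 23=(1,1)
    exact False.elim (cert_false T ((skipEmb 4).trans (Function.Embedding.refl _)) (by norm_num) (fun _ => hall _) (((((((LB_zero T ((skipEmb 4).trans (Function.Embedding.refl _))).upd 1 2 1 (le_of_eq hx12)).upd 1 3 1 (le_of_eq hx13)).upd 2 1 1 (le_of_eq hx21)).upd 2 3 1 (le_of_eq hx23)).upd 3 1 1 (le_of_eq hx31)).upd 3 2 1 (le_of_eq hx32)) ![0,1,1,1] (by decide) (by decide) 1 (by decide))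
  · -- 23=(1,2)
    exact False.elim (cert_false T ((skipEmb 4).trans (Function.Embedding.refl _)) (by norm_num) (fun _ => hall _) (((((((LB_zero T ((skipEmb 4).trans (Function.Embedding.refl _))).upd 1 2 1 (le_of_eq hx12)).upd 1 3 1 (le_of_eq hx13)).upd 2 1 1 (le_of_eq hx21)).upd 2 3 1 (le_of_eq hx23)).upd 3 1 1 (le_of_eq hx31)).upd 3 2 2 (le_of_eq hx32)) ![0,1,1,1] (by decide) (by decide) 1 (by decide))
  · -- 23=(2,1)
    exact False.elim (cert_false T ((skipEmb 4).trans (Function.Embedding.refl _)) (by norm_num) (fun _ => hall _) (((((((LB_zero T ((skipEmb 4).trans (Function.Embedding.refl _))).upd 1 2 1 (le_of_eq hx12)).upd 1 3 1 (le_of_eq hx13)).upd 2 1 1 (le_of_eq hx21)).upd 2 3 2 (le_of_eq hx23)).upd 3 1 1 (le_of_eq hx31)).upd 3 2 1 (le_of_eq hx32)) ![0,1,1,1] (by decide) (by decide) 1 (by decide))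
  · -- 23=(1,3)
    exact False.elim (cert_false T ((skipEmb 4).trans (Function.Embedding.refl _)) (by norm_num) (fun _ => hall _) (((((((LB_zero T ((skipEmb 4).trans (Function.Embedding.refl _))).upd 1 2 1 (le_of_eq hx12)).upd 1 3 1 (le_of_eq hx13)).upd 2 1 1 (le_of_eq hx21)).upd 2 3 1 (le_of_eq hx23)).upd 3 1 1 (le_of_eq hx31)).upd 3 2 3 (le_of_eq hx32)) ![0,1,1,1] (by decide) (by decide) 1 (by decide))
  · -- 23=(3,1)
    exact False.elim (cert_false T ((skipEmb 4).trans (Function.Embedding.refl _)) (by norm_num) (fun _ => hall _) (((((((LB_zero T ((skipEmb 4).trans (Function.Embedding.refl _))).upd 1 2 1 (le_of_eq hx12)).upd 1 3 1 (le_of_eq hx13)).upd 2 1 1 (le_of_eq hx21)).upd 2 3 3 (le_of_eq hx23)).upd 3 1 1 (le_of_eq hx31)).upd 3 2 1 (le_of_eq hx32)) ![0,1,1,1] (by decide) (by decide) 1 (by decide))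

theorem case407 (T : NumericalType 5) (hall : ∀ i, T.IsMinusTwo i) (d : SData T)
    (h01 : N T (Function.Embedding.refl _) 0 1 = 1) (h10 : N T (Function.Embedding.refl _) 1 0 = 1)
    (h02 : N T (Function.Embedding.refl _) 0 2 = 0) (h20 : N T (Function.Embedding.refl _) 2 0 = 0)
    (h12 : N T (Function.Embedding.refl _) 1 2 = 1) (h21 : N T (Function.Embedding.refl _) 2 1 = 1)
    (h03 : N T (Function.Embedding.refl _) 0 3 = 2) (h30 : N T (Function.Embedding.refl _) 3 0 = 1)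
    (h13 : N T (Function.Embedding.refl _) 1 3 = 0) (h31 : N T (Function.Embedding.refl _) 3 1 = 0) :
    Goal T := by
  unfold Goal
  have hd := d
  obtain ⟨x01, x02, x03, x04, x10, x12, x13, x14, x20, x21, x23, x24, x30, x31, x32, x34, x40, x41, x42, x43, hx01, hx02, hx03, hx04, hx10, hx12, hx13, hx14, hx20, hx21, hx23, hx24, hx30, hx31, hx32, hx34, hx40, hx41, hx42, hx43, hw0, hm0, hw1, hm1, hw2, hm2, hw3, hm3, hw4, hm4, a00, a01, a02, a03, a04, a11, a10, a12, a13, a14, a22, a20, a21, a23, a24, a33, a30, a31, a32, a34, a44, a40, a41, a42, a43, wN01, wN02, wN12, wN03, wN13, wN23, wN04, wN14, wN24, wN34, e0, e1, e2, e3, e4, d01, d02, d12, d03, d13, d23, d04, d14, d24, d34⟩ := d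
  obtain rfl : x01 = 1 := hx01.trans h01
  obtain rfl : x10 = 1 := hx10.trans h10
  obtain rfl : x02 = 0 := hx02.trans h02
  obtain rfl : x20 = 0 := hx20.trans h20
  obtain rfl : x12 = 1 := hx12.trans h12
  obtain rfl : x21 = 1 := hx21.trans h21
  obtain rfl : x03 = 2 := hx03.trans h03
  obtain rfl : x30 = 1 := hx30.trans h30
  obtain rfl : x13 = 0 := hx13.trans h13
  obtain rfl : x31 = 0 := hx31.trans h31
  rcases d23 with ⟨rfl, rfl⟩ | ⟨rfl, rfl⟩ | ⟨rfl, rfl⟩ | ⟨rfl, rfl⟩ | ⟨rfl, rfl⟩ | ⟨rfl, rfl⟩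
  · -- 23=(0,0)
    rcases d04 with ⟨rfl, rfl⟩ | ⟨rfl, rfl⟩ | ⟨rfl, rfl⟩ | ⟨rfl, rfl⟩ | ⟨rfl, rfl⟩ | ⟨rfl, rfl⟩
    · -- 04=(0,0)
      rcases d14 with ⟨rfl, rfl⟩ | ⟨rfl, rfl⟩ | ⟨rfl, rfl⟩ | ⟨rfl, rfl⟩ | ⟨rfl, rfl⟩ | ⟨rfl, rfl⟩
      · -- 14=(0,0)
        rcases d24 with ⟨rfl, rfl⟩ | ⟨rfl, rfl⟩ | ⟨rfl, rfl⟩ | ⟨rfl, rfl⟩ | ⟨rfl, rfl⟩ | ⟨rfl, rfl⟩
        · -- 24=(0,0)
          rcases d34 with ⟨rfl, rfl⟩ | ⟨rfl, rfl⟩ | ⟨rfl, rfl⟩ | ⟨rfl, rfl⟩ | ⟨rfl, rfl⟩ | ⟨rfl, rfl⟩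
          · -- 34=(0,0)
            exfalso; omega
          · -- 34=(1,1)
            refine ⟨(⟨![2, 1, 0, 3, 4], ![2, 1, 0, 3, 4], by decide, by decide⟩ : Equiv.Perm (Fin 5)), T.m 2, T.w 2, Or.inr (Or.inl ?_)⟩
            show T.m 2 = T.m 2 ∧ T.m 1 = 2 * T.m 2 ∧ T.m 0 = 3 * T.m 2 ∧ T.m 3 = 2 * T.m 2 ∧ T.m 4 = T.m 2 ∧ T.w 2 = T.w 2 ∧ T.w 1 = T.w 2 ∧ T.w 0 = T.w 2 ∧ T.w 3 = 2 * T.w 2 ∧ T.w 4 = 2 * T.w 2 ∧ T.a 2 2 = -2 * T.w 2 ∧ T.a 2 1 = T.w 2 ∧ T.a 2 0 = 0 ∧ T.a 2 3 = 0 ∧ T.a 2 4 = 0 ∧ T.a 1 1 = -2 * T.w 2 ∧ T.a 1 0 = T.w 2 ∧ T.a 1 3 = 0 ∧ T.a 1 4 = 0 ∧ T.a 0 0 = -2 * T.w 2 ∧ T.a 0 3 = 2 * T.w 2 ∧ T.a 0 4 = 0 ∧ T.a 3 3 = -4 * T.w 2 ∧ T.a 3 4 = 2 * T.w 2 ∧ T.a 4 4 = -4 * T.w 2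
            refine ⟨?_, ?_, ?_, ?_, ?_, ?_, ?_, ?_, ?_, ?_, ?_, ?_, ?_, ?_, ?_, ?_, ?_, ?_, ?_, ?_, ?_, ?_, ?_, ?_, ?_⟩ <;> omega
          · -- 34=(1,2)
            exact False.elim (cert_false T ((skipEmb 2).trans (Function.Embedding.refl _)) (by norm_num) (fun _ => hall _) (((((LB_zero T ((skipEmb 2).trans (Function.Embedding.refl _))).upd 0 2 2 (le_of_eq hx03)).upd 2 0 1 (le_of_eq hx30)).upd 2 3 1 (le_of_eq hx34)).upd 3 2 2 (le_of_eq hx43)) ![1,0,1,1] (by decide) (by decide) 0 (by decide))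
          · -- 34=(2,1)
            exact False.elim (cert_false T ((skipEmb 2).trans (Function.Embedding.refl _)) (by norm_num) (fun _ => hall _) (((((LB_zero T ((skipEmb 2).trans (Function.Embedding.refl _))).upd 0 2 2 (le_of_eq hx03)).upd 2 0 1 (le_of_eq hx30)).upd 2 3 2 (le_of_eq hx34)).upd 3 2 1 (le_of_eq hx43)) ![2,0,2,1] (by decide) (by decide) 0 (by decide))
          · -- 34=(1,3)
            exact False.elim (cert_false T ((skipEmb 2).trans (Function.Embedding.refl _)) (by norm_num) (fun _ => hall _) (((((LB_zero T ((skipEmb 2).trans (Function.Embedding.refl _))).upd 0 2 2 (le_of_eq hx03)).upd 2 0 1 (le_of_eq hx30)).upd 2 3 1 (le_of_eq hx34)).upd 3 2 3 (le_of_eq hx43)) ![1,0,1,1] (by decide) (by decide) 0 (by decide))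
          · -- 34=(3,1)
            exact False.elim (cert_false T ((skipEmb 2).trans (Function.Embedding.refl _)) (by norm_num) (fun _ => hall _) (((((LB_zero T ((skipEmb 2).trans (Function.Embedding.refl _))).upd 0 2 2 (le_of_eq hx03)).upd 2 0 1 (le_of_eq hx30)).upd 2 3 3 (le_of_eq hx34)).upd 3 2 1 (le_of_eq hx43)) ![1,0,2,1] (by decide) (by decide) 0 (by decide))
        · -- 24=(1,1)
          rcases d34 with ⟨rfl, rfl⟩ | ⟨rfl, rfl⟩ | ⟨rfl, rfl⟩ | ⟨rfl, rfl⟩ | ⟨rfl, rfl⟩ | ⟨rfl, rfl⟩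
          · -- 34=(0,0)
            exfalso; omega
          · -- 34=(1,1)
            exfalso; omega
          · -- 34=(1,2)
            exact False.elim (cert_false T ((skipEmb 2).trans (Function.Embedding.refl _)) (by norm_num) (fun _ => hall _) (((((LB_zero T ((skipEmb 2).trans (Function.Embedding.refl _))).upd 0 2 2 (le_of_eq hx03)).upd 2 0 1 (le_of_eq hx30)).upd 2 3 1 (le_of_eq hx34)).upd 3 2 2 (le_of_eq hx43)) ![1,0,1,1] (by decide) (by decide) 0 (by decide))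
          · -- 34=(2,1)
            exact False.elim (cert_false T ((skipEmb 2).trans (Function.Embedding.refl _)) (by norm_num) (fun _ => hall _) (((((LB_zero T ((skipEmb 2).trans (Function.Embedding.refl _))).upd 0 2 2 (le_of_eq hx03)).upd 2 0 1 (le_of_eq hx30)).upd 2 3 2 (le_of_eq hx34)).upd 3 2 1 (le_of_eq hx43)) ![2,0,2,1] (by decide) (by decide) 0 (by decide))
          · -- 34=(1,3)
            exact False.elim (cert_false T ((skipEmb 2).trans (Function.Embedding.refl _)) (by norm_num) (fun _ => hall _) (((((LB_zero T ((skipEmb 2).trans (Function.Embedding.refl _))).upd 0 2 2 (le_of_eq hx03)).upd 2 0 1 (le_of_eq hx30)).upd 2 3 1 (le_of_eq hx34)).upd 3 2 3 (le_of_eq hx43)) ![1,0,1,1] (by decide) (by decide) 0 (by decide))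
          · -- 34=(3,1)
            exact False.elim (cert_false T ((skipEmb 2).trans (Function.Embedding.refl _)) (by norm_num) (fun _ => hall _) (((((LB_zero T ((skipEmb 2).trans (Function.Embedding.refl _))).upd 0 2 2 (le_of_eq hx03)).upd 2 0 1 (le_of_eq hx30)).upd 2 3 3 (le_of_eq hx34)).upd 3 2 1 (le_of_eq hx43)) ![1,0,2,1] (by decide) (by decide) 0 (by decide))
        · -- 24=(1,2)
          rcases d34 with ⟨rfl, rfl⟩ | ⟨rfl, rfl⟩ | ⟨rfl, rfl⟩ | ⟨rfl, rfl⟩ | ⟨rfl, rfl⟩ | ⟨rfl, rfl⟩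
          · -- 34=(0,0)
            refine ⟨(⟨![4, 2, 1, 0, 3], ![3, 2, 1, 4, 0], by decide, by decide⟩ : Equiv.Perm (Fin 5)), T.m 3, T.w 4, Or.inr (Or.inr (Or.inr (Or.inl ?_)))⟩
            show T.m 4 = 2 * T.m 3 ∧ T.m 2 = 2 * T.m 3 ∧ T.m 1 = 2 * T.m 3 ∧ T.m 0 = 2 * T.m 3 ∧ T.m 3 = T.m 3 ∧ T.w 4 = T.w 4 ∧ T.w 2 = 2 * T.w 4 ∧ T.w 1 = 2 * T.w 4 ∧ T.w 0 = 2 * T.w 4 ∧ T.w 3 = 4 * T.w 4 ∧ T.a 4 4 = -2 * T.w 4 ∧ T.a 4 2 = 2 * T.w 4 ∧ T.a 4 1 = 0 ∧ T.a 4 0 = 0 ∧ T.a 4 3 = 0 ∧ T.a 2 2 = -4 * T.w 4 ∧ T.a 2 1 = 2 * T.w 4 ∧ T.a 2 0 = 0 ∧ T.a 2 3 = 0 ∧ T.a 1 1 = -4 * T.w 4 ∧ T.a 1 0 = 2 * T.w 4 ∧ T.a 1 3 = 0 ∧ T.a 0 0 = -4 * T.w 4 ∧ T.a 0 3 = 4 * T.w 4 ∧ T.a 3 3 = -8 * T.w 4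
            refine ⟨?_, ?_, ?_, ?_, ?_, ?_, ?_, ?_, ?_, ?_, ?_, ?_, ?_, ?_, ?_, ?_, ?_, ?_, ?_, ?_, ?_, ?_, ?_, ?_, ?_⟩ <;> omega
          · -- 34=(1,1)
            exact False.elim (cert_false T ((skipEmb 1).trans (Function.Embedding.refl _)) (by norm_num) (fun _ => hall _) (((((((LB_zero T ((skipEmb 1).trans (Function.Embedding.refl _))).upd 0 2 2 (le_of_eq hx03)).upd 1 3 1 (le_of_eq hx24)).upd 2 0 1 (le_of_eq hx30)).upd 2 3 1 (le_of_eq hx34)).upd 3 1 2 (le_of_eq hx42)).upd 3 2 1 (le_of_eq hx43)) ![2,1,2,2] (by decide) (by decide) 0 (by decide))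
          · -- 34=(1,2)
            exact False.elim (cert_false T ((skipEmb 2).trans (Function.Embedding.refl _)) (by norm_num) (fun _ => hall _) (((((LB_zero T ((skipEmb 2).trans (Function.Embedding.refl _))).upd 0 2 2 (le_of_eq hx03)).upd 2 0 1 (le_of_eq hx30)).upd 2 3 1 (le_of_eq hx34)).upd 3 2 2 (le_of_eq hx43)) ![1,0,1,1] (by decide) (by decide) 0 (by decide))
          · -- 34=(2,1)
            exact False.elim (cert_false T ((skipEmb 2).trans (Function.Embedding.refl _)) (by norm_num) (fun _ => hall _) (((((LB_zero T ((skipEmb 2).trans (Function.Embedding.refl _))).upd 0 2 2 (le_of_eq hx03)).upd 2 0 1 (le_of_eq hx30)).upd 2 3 2 (le_of_eq hx34)).upd 3 2 1 (le_of_eq hx43)) ![2,0,2,1] (by decide) (by decide) 0 (by decide))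
          · -- 34=(1,3)
            exact False.elim (cert_false T ((skipEmb 2).trans (Function.Embedding.refl _)) (by norm_num) (fun _ => hall _) (((((LB_zero T ((skipEmb 2).trans (Function.Embedding.refl _))).upd 0 2 2 (le_of_eq hx03)).upd 2 0 1 (le_of_eq hx30)).upd 2 3 1 (le_of_eq hx34)).upd 3 2 3 (le_of_eq hx43)) ![1,0,1,1] (by decide) (by decide) 0 (by decide))
          · -- 34=(3,1)
            exact False.elim (cert_false T ((skipEmb 2).trans (Function.Embedding.refl _)) (by norm_num) (fun _ => hall _) (((((LB_zero T ((skipEmb 2).trans (Function.Embedding.refl _))).upd 0 2 2 (le_of_eq hx03)).upd 2 0 1 (le_of_eq hx30)).upd 2 3 3 (le_of_eq hx34)).upd 3 2 1 (le_of_eq hx43)) ![1,0,2,1] (by decide) (by decide) 0 (by decide))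
        · -- 24=(2,1)
          rcases d34 with ⟨rfl, rfl⟩ | ⟨rfl, rfl⟩ | ⟨rfl, rfl⟩ | ⟨rfl, rfl⟩ | ⟨rfl, rfl⟩ | ⟨rfl, rfl⟩
          · -- 34=(0,0)
            refine ⟨(⟨![3, 0, 1, 2, 4], ![1, 2, 3, 0, 4], by decide, by decide⟩ : Equiv.Perm (Fin 5)), T.m 3, T.w 0, Or.inr (Or.inr (Or.inr (Or.inr (Or.inr (Or.inl ?_)))))⟩
            show T.m 3 = T.m 3 ∧ T.m 0 = 2 * T.m 3 ∧ T.m 1 = 2 * T.m 3 ∧ T.m 2 = 2 * T.m 3 ∧ T.m 4 = T.m 3 ∧ T.w 3 = 2 * T.w 0 ∧ T.w 0 = T.w 0 ∧ T.w 1 = T.w 0 ∧ T.w 2 = T.w 0 ∧ T.w 4 = 2 * T.w 0 ∧ T.a 3 3 = -4 * T.w 0 ∧ T.a 3 0 = 2 * T.w 0 ∧ T.a 3 1 = 0 ∧ T.a 3 2 = 0 ∧ T.a 3 4 = 0 ∧ T.a 0 0 = -2 * T.w 0 ∧ T.a 0 1 = T.w 0 ∧ T.a 0 2 = 0 ∧ T.a 0 4 = 0 ∧ T.a 1 1 = -2 * T.w 0 ∧ T.a 1 2 = T.w 0 ∧ T.a 1 4 = 0 ∧ T.a 2 2 = -2 * T.w 0 ∧ T.a 2 4 = 2 * T.w 0 ∧ T.a 4 4 = -4 * T.w 0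
            refine ⟨?_, ?_, ?_, ?_, ?_, ?_, ?_, ?_, ?_, ?_, ?_, ?_, ?_, ?_, ?_, ?_, ?_, ?_, ?_, ?_, ?_, ?_, ?_, ?_, ?_⟩ <;> omega
          · -- 34=(1,1)
            exact False.elim (cert_false T ((skipEmb 1).trans (Function.Embedding.refl _)) (by norm_num) (fun _ => hall _) (((((((LB_zero T ((skipEmb 1).trans (Function.Embedding.refl _))).upd 0 2 2 (le_of_eq hx03)).upd 1 3 2 (le_of_eq hx24)).upd 2 0 1 (le_of_eq hx30)).upd 2 3 1 (le_of_eq hx34)).upd 3 1 1 (le_of_eq hx42)).upd 3 2 1 (le_of_eq hx43)) ![1,1,1,1] (by decide) (by decide) 0 (by decide))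
          · -- 34=(1,2)
            exact False.elim (cert_false T ((skipEmb 2).trans (Function.Embedding.refl _)) (by norm_num) (fun _ => hall _) (((((LB_zero T ((skipEmb 2).trans (Function.Embedding.refl _))).upd 0 2 2 (le_of_eq hx03)).upd 2 0 1 (le_of_eq hx30)).upd 2 3 1 (le_of_eq hx34)).upd 3 2 2 (le_of_eq hx43)) ![1,0,1,1] (by decide) (by decide) 0 (by decide))
          · -- 34=(2,1)
            exact False.elim (cert_false T ((skipEmb 2).trans (Function.Embedding.refl _)) (by norm_num) (fun _ => hall _) (((((LB_zero T ((skipEmb 2).trans (Function.Embedding.refl _))).upd 0 2 2 (le_of_eq hx03)).upd 2 0 1 (le_of_eq hx30)).upd 2 3 2 (le_of_eq hx34)).upd 3 2 1 (le_of_eq hx43)) ![2,0,2,1] (by decide) (by decide) 0 (by decide))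
          · -- 34=(1,3)
            exact False.elim (cert_false T ((skipEmb 2).trans (Function.Embedding.refl _)) (by norm_num) (fun _ => hall _) (((((LB_zero T ((skipEmb 2).trans (Function.Embedding.refl _))).upd 0 2 2 (le_of_eq hx03)).upd 2 0 1 (le_of_eq hx30)).upd 2 3 1 (le_of_eq hx34)).upd 3 2 3 (le_of_eq hx43)) ![1,0,1,1] (by decide) (by decide) 0 (by decide))
          · -- 34=(3,1)
            exact False.elim (cert_false T ((skipEmb 2).trans (Function.Embedding.refl _)) (by norm_num) (fun _ => hall _) (((((LB_zero T ((skipEmb 2).trans (Function.Embedding.refl _))).upd 0 2 2 (le_of_eq hx03)).upd 2 0 1 (le_of_eq hx30)).upd 2 3 3 (le_of_eq hx34)).upd 3 2 1 (le_of_eq hx43)) ![1,0,2,1] (by decide) (by decide) 0 (by decide))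
        · -- 24=(1,3)
          exact False.elim (cert_false T ((skipEmb 3).trans (Function.Embedding.refl _)) (by norm_num) (fun _ => hall _) (((((LB_zero T ((skipEmb 3).trans (Function.Embedding.refl _))).upd 1 2 1 (le_of_eq hx12)).upd 2 1 1 (le_of_eq hx21)).upd 2 3 1 (le_of_eq hx24)).upd 3 2 3 (le_of_eq hx42)) ![0,1,2,3] (by decide) (by decide) 1 (by decide))
        · -- 24=(3,1)
          exact False.elim (cert_false T ((skipEmb 3).trans (Function.Embedding.refl _)) (by norm_num) (fun _ => hall _) (((((LB_zero T ((skipEmb 3).trans (Function.Embedding.refl _))).upd 1 2 1 (le_of_eq hx12)).upd 2 1 1 (le_of_eq hx21)).upd 2 3 3 (le_of_eq hx24)).upd 3 2 1 (le_of_eq hx42)) ![0,1,2,1] (by decide) (by decide) 1 (by decide))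
      · -- 14=(1,1)
        rcases d24 with ⟨rfl, rfl⟩ | ⟨rfl, rfl⟩ | ⟨rfl, rfl⟩ | ⟨rfl, rfl⟩ | ⟨rfl, rfl⟩ | ⟨rfl, rfl⟩
        · -- 24=(0,0)
          rcases d34 with ⟨rfl, rfl⟩ | ⟨rfl, rfl⟩ | ⟨rfl, rfl⟩ | ⟨rfl, rfl⟩ | ⟨rfl, rfl⟩ | ⟨rfl, rfl⟩
          · -- 34=(0,0)
            refine ⟨(⟨![3, 0, 1, 2, 4], ![1, 2, 3, 0, 4], by decide, by decide⟩ : Equiv.Perm (Fin 5)), T.m 3, T.w 0, Or.inr (Or.inr (Or.inr (Or.inr (Or.inr (Or.inr (Or.inr (Or.inl ?_)))))))⟩
            show T.m 3 = T.m 3 ∧ T.m 0 = 2 * T.m 3 ∧ T.m 1 = 2 * T.m 3 ∧ T.m 2 = T.m 3 ∧ T.m 4 = T.m 3 ∧ T.w 3 = 2 * T.w 0 ∧ T.w 0 = T.w 0 ∧ T.w 1 = T.w 0 ∧ T.w 2 = T.w 0 ∧ T.w 4 = T.w 0 ∧ T.a 3 3 = -4 * T.w 0 ∧ T.a 3 0 = 2 * T.w 0 ∧ T.a 3 1 = 0 ∧ T.a 3 2 = 0 ∧ T.a 3 4 = 0 ∧ T.a 0 0 = -2 * T.w 0 ∧ T.a 0 1 = T.w 0 ∧ T.a 0 2 = 0 ∧ T.a 0 4 = 0 ∧ T.a 1 1 = -2 * T.w 0 ∧ T.a 1 2 = T.w 0 ∧ T.a 1 4 = T.w 0 ∧ T.a 2 2 = -2 * T.w 0 ∧ T.a 2 4 = 0 ∧ T.a 4 4 = -2 * T.w 0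
            refine ⟨?_, ?_, ?_, ?_, ?_, ?_, ?_, ?_, ?_, ?_, ?_, ?_, ?_, ?_, ?_, ?_, ?_, ?_, ?_, ?_, ?_, ?_, ?_, ?_, ?_⟩ <;> omega
          · -- 34=(1,1)
            exact False.elim (cert_false T ((skipEmb 2).trans (Function.Embedding.refl _)) (by norm_num) (fun _ => hall _) (((((((((LB_zero T ((skipEmb 2).trans (Function.Embedding.refl _))).upd 0 1 1 (le_of_eq hx01)).upd 0 2 2 (le_of_eq hx03)).upd 1 0 1 (le_of_eq hx10)).upd 1 3 1 (le_of_eq hx14)).upd 2 0 1 (le_of_eq hx30)).upd 2 3 1 (le_of_eq hx34)).upd 3 1 1 (le_of_eq hx41)).upd 3 2 1 (le_of_eq hx43)) ![1,1,1,1] (by decide) (by decide) 0 (by decide))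
          · -- 34=(1,2)
            exact False.elim (cert_false T ((skipEmb 2).trans (Function.Embedding.refl _)) (by norm_num) (fun _ => hall _) (((((LB_zero T ((skipEmb 2).trans (Function.Embedding.refl _))).upd 0 2 2 (le_of_eq hx03)).upd 2 0 1 (le_of_eq hx30)).upd 2 3 1 (le_of_eq hx34)).upd 3 2 2 (le_of_eq hx43)) ![1,0,1,1] (by decide) (by decide) 0 (by decide))
          · -- 34=(2,1)
            exact False.elim (cert_false T ((skipEmb 2).trans (Function.Embedding.refl _)) (by norm_num) (fun _ => hall _) (((((((((LB_zero T ((skipEmb 2).trans (Function.Embedding.refl _))).upd 0 1 1 (le_of_eq hx01)).upd 0 2 2 (le_of_eq hx03)).upd 1 0 1 (le_of_eq hx10)).upd 1 3 1 (le_of_eq hx14)).upd 2 0 1 (le_of_eq hx30)).upd 2 3 2 (le_of_eq hx34)).upd 3 1 1 (le_of_eq hx41)).upd 3 2 1 (le_of_eq hx43)) ![1,1,1,1] (by decide) (by decide) 0 (by decide))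
          · -- 34=(1,3)
            exact False.elim (cert_false T ((skipEmb 2).trans (Function.Embedding.refl _)) (by norm_num) (fun _ => hall _) (((((LB_zero T ((skipEmb 2).trans (Function.Embedding.refl _))).upd 0 2 2 (le_of_eq hx03)).upd 2 0 1 (le_of_eq hx30)).upd 2 3 1 (le_of_eq hx34)).upd 3 2 3 (le_of_eq hx43)) ![1,0,1,1] (by decide) (by decide) 0 (by decide))
          · -- 34=(3,1)
            exact False.elim (cert_false T ((skipEmb 2).trans (Function.Embedding.refl _)) (by norm_num) (fun _ => hall _) (((((((((LB_zero T ((skipEmb 2).trans (Function.Embedding.refl _))).upd 0 1 1 (le_of_eq hx01)).upd 0 2 2 (le_of_eq hx03)).upd 1 0 1 (le_of_eq hx10)).upd 1 3 1 (le_of_eq hx14)).upd 2 0 1 (le_of_eq hx30)).upd 2 3 3 (le_of_eq hx34)).upd 3 1 1 (le_of_eq hx41)).upd 3 2 1 (le_of_eq hx43)) ![1,1,1,1] (by decide) (by decide) 0 (by decide))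
        · -- 24=(1,1)
          exact False.elim (cert_false T ((skipEmb 3).trans (Function.Embedding.refl _)) (by norm_num) (fun _ => hall _) (((((((LB_zero T ((skipEmb 3).trans (Function.Embedding.refl _))).upd 1 2 1 (le_of_eq hx12)).upd 1 3 1 (le_of_eq hx14)).upd 2 1 1 (le_of_eq hx21)).upd 2 3 1 (le_of_eq hx24)).upd 3 1 1 (le_of_eq hx41)).upd 3 2 1 (le_of_eq hx42)) ![0,1,1,1] (by decide) (by decide) 1 (by decide))
        · -- 24=(1,2)
          exact False.elim (cert_false T ((skipEmb 3).trans (Function.Embedding.refl _)) (by norm_num) (fun _ => hall _) (((((((LB_zero T ((skipEmb 3).trans (Function.Embedding.refl _))).upd 1 2 1 (le_of_eq hx12)).upd 1 3 1 (le_of_eq hx14)).upd 2 1 1 (le_of_eq hx21)).upd 2 3 1 (le_of_eq hx24)).upd 3 1 1 (le_of_eq hx41)).upd 3 2 2 (le_of_eq hx42)) ![0,1,1,1] (by decide) (by decide) 1 (by decide))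
        · -- 24=(2,1)
          exact False.elim (cert_false T ((skipEmb 3).trans (Function.Embedding.refl _)) (by norm_num) (fun _ => hall _) (((((((LB_zero T ((skipEmb 3).trans (Function.Embedding.refl _))).upd 1 2 1 (le_of_eq hx12)).upd 1 3 1 (le_of_eq hx14)).upd 2 1 1 (le_of_eq hx21)).upd 2 3 2 (le_of_eq hx24)).upd 3 1 1 (le_of_eq hx41)).upd 3 2 1 (le_of_eq hx42)) ![0,1,1,1] (by decide) (by decide) 1 (by decide))
        · -- 24=(1,3)
          exact False.elim (cert_false T ((skipEmb 3).trans (Function.Embedding.refl _)) (by norm_num) (fun _ => hall _) (((((((LB_zero T ((skipEmb 3).trans (Function.Embedding.refl _))).upd 1 2 1 (le_of_eq hx12)).upd 1 3 1 (le_of_eq hx14)).upd 2 1 1 (le_of_eq hx21)).upd 2 3 1 (le_of_eq hx24)).upd 3 1 1 (le_of_eq hx41)).upd 3 2 3 (le_of_eq hx42)) ![0,1,1,1] (by decide) (by decide) 1 (by decide))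
        · -- 24=(3,1)
          exact False.elim (cert_false T ((skipEmb 3).trans (Function.Embedding.refl _)) (by norm_num) (fun _ => hall _) (((((((LB_zero T ((skipEmb 3).trans (Function.Embedding.refl _))).upd 1 2 1 (le_of_eq hx12)).upd 1 3 1 (le_of_eq hx14)).upd 2 1 1 (le_of_eq hx21)).upd 2 3 3 (le_of_eq hx24)).upd 3 1 1 (le_of_eq hx41)).upd 3 2 1 (le_of_eq hx42)) ![0,1,1,1] (by decide) (by decide) 1 (by decide))
      · -- 14=(1,2)
        exact False.elim (cert_false T ((skipEmb 3).trans (Function.Embedding.refl _)) (by norm_num) (fun _ => hall _) (((((((LB_zero T ((skipEmb 3).trans (Function.Embedding.refl _))).upd 0 1 1 (le_of_eq hx01)).upd 1 0 1 (le_of_eq hx10)).upd 1 2 1 (le_of_eq hx12)).upd 1 3 1 (le_of_eq hx14)).upd 2 1 1 (le_of_eq hx21)).upd 3 1 2 (le_of_eq hx41)) ![1,2,1,2] (by decide) (by decide) 0 (by decide))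
      · -- 14=(2,1)
        exact False.elim (cert_false T ((skipEmb 3).trans (Function.Embedding.refl _)) (by norm_num) (fun _ => hall _) (((((((LB_zero T ((skipEmb 3).trans (Function.Embedding.refl _))).upd 0 1 1 (le_of_eq hx01)).upd 1 0 1 (le_of_eq hx10)).upd 1 2 1 (le_of_eq hx12)).upd 1 3 2 (le_of_eq hx14)).upd 2 1 1 (le_of_eq hx21)).upd 3 1 1 (le_of_eq hx41)) ![1,2,1,1] (by decide) (by decide) 0 (by decide))
      · -- 14=(1,3)
        exact False.elim (cert_false T ((skipEmb 3).trans (Function.Embedding.refl _)) (by norm_num) (fun _ => hall _) (((((((LB_zero T ((skipEmb 3).trans (Function.Embedding.refl _))).upd 0 1 1 (le_of_eq hx01)).upd 1 0 1 (le_of_eq hx10)).upd 1 2 1 (le_of_eq hx12)).upd 1 3 1 (le_of_eq hx14)).upd 2 1 1 (le_of_eq hx21)).upd 3 1 3 (le_of_eq hx41)) ![1,2,1,2] (by decide) (by decide) 0 (by decide))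
      · -- 14=(3,1)
        exact False.elim (cert_false T ((skipEmb 3).trans (Function.Embedding.refl _)) (by norm_num) (fun _ => hall _) (((((LB_zero T ((skipEmb 3).trans (Function.Embedding.refl _))).upd 1 2 1 (le_of_eq hx12)).upd 1 3 3 (le_of_eq hx14)).upd 2 1 1 (le_of_eq hx21)).upd 3 1 1 (le_of_eq hx41)) ![0,2,1,1] (by decide) (by decide) 1 (by decide))
    · -- 04=(1,1)
      exact False.elim (cert_false T ((skipEmb 2).trans (Function.Embedding.refl _)) (by norm_num) (fun _ => hall _) (((((((LB_zero T ((skipEmb 2).trans (Function.Embedding.refl _))).upd 0 1 1 (le_of_eq hx01)).upd 0 2 2 (le_of_eq hx03)).upd 0 3 1 (le_of_eq hx04)).upd 1 0 1 (le_of_eq hx10)).upd 2 0 1 (le_of_eq hx30)).upd 3 0 1 (le_of_eq hx40)) ![2,1,1,1] (by decide) (by decide) 0 (by decide))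
    · -- 04=(1,2)
      exact False.elim (cert_false T ((skipEmb 2).trans (Function.Embedding.refl _)) (by norm_num) (fun _ => hall _) (((((LB_zero T ((skipEmb 2).trans (Function.Embedding.refl _))).upd 0 2 2 (le_of_eq hx03)).upd 0 3 1 (le_of_eq hx04)).upd 2 0 1 (le_of_eq hx30)).upd 3 0 2 (le_of_eq hx40)) ![2,0,1,2] (by decide) (by decide) 0 (by decide))
    · -- 04=(2,1)
      exact False.elim (cert_false T ((skipEmb 2).trans (Function.Embedding.refl _)) (by norm_num) (fun _ => hall _) (((((LB_zero T ((skipEmb 2).trans (Function.Embedding.refl _))).upd 0 2 2 (le_of_eq hx03)).upd 0 3 2 (le_of_eq hx04)).upd 2 0 1 (le_of_eq hx30)).upd 3 0 1 (le_of_eq hx40)) ![2,0,1,1] (by decide) (by decide) 0 (by decide))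
    · -- 04=(1,3)
      exact False.elim (cert_false T ((skipEmb 3).trans (Function.Embedding.refl _)) (by norm_num) (fun _ => hall _) (((((LB_zero T ((skipEmb 3).trans (Function.Embedding.refl _))).upd 0 1 1 (le_of_eq hx01)).upd 0 3 1 (le_of_eq hx04)).upd 1 0 1 (le_of_eq hx10)).upd 3 0 3 (le_of_eq hx40)) ![2,1,0,3] (by decide) (by decide) 0 (by decide))
    · -- 04=(3,1)
      exact False.elim (cert_false T ((skipEmb 3).trans (Function.Embedding.refl _)) (by norm_num) (fun _ => hall _) (((((LB_zero T ((skipEmb 3).trans (Function.Embedding.refl _))).upd 0 1 1 (le_of_eq hx01)).upd 0 3 3 (le_of_eq hx04)).upd 1 0 1 (le_of_eq hx10)).upd 3 0 1 (le_of_eq hx40)) ![2,1,0,1] (by decide) (by decide) 0 (by decide))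
  · -- 23=(1,1)
    exact False.elim (cert_false T ((skipEmb 4).trans (Function.Embedding.refl _)) (by norm_num) (fun _ => hall _) (((((((((LB_zero T ((skipEmb 4).trans (Function.Embedding.refl _))).upd 0 1 1 (le_of_eq hx01)).upd 0 3 2 (le_of_eq hx03)).upd 1 0 1 (le_of_eq hx10)).upd 1 2 1 (le_of_eq hx12)).upd 2 1 1 (le_of_eq hx21)).upd 2 3 1 (le_of_eq hx23)).upd 3 0 1 (le_of_eq hx30)).upd 3 2 1 (le_of_eq hx32)) ![1,1,1,1] (by decide) (by decide) 0 (by decide))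
  · -- 23=(1,2)
    exact False.elim (cert_false T ((skipEmb 4).trans (Function.Embedding.refl _)) (by norm_num) (fun _ => hall _) (((((((((LB_zero T ((skipEmb 4).trans (Function.Embedding.refl _))).upd 0 1 1 (le_of_eq hx01)).upd 0 3 2 (le_of_eq hx03)).upd 1 0 1 (le_of_eq hx10)).upd 1 2 1 (le_of_eq hx12)).upd 2 1 1 (le_of_eq hx21)).upd 2 3 1 (le_of_eq hx23)).upd 3 0 1 (le_of_eq hx30)).upd 3 2 2 (le_of_eq hx32)) ![1,1,1,1] (by decide) (by decide) 0 (by decide))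
  · -- 23=(2,1)
    exact False.elim (cert_false T ((skipEmb 4).trans (Function.Embedding.refl _)) (by norm_num) (fun _ => hall _) (((((LB_zero T ((skipEmb 4).trans (Function.Embedding.refl _))).upd 0 3 2 (le_of_eq hx03)).upd 2 3 2 (le_of_eq hx23)).upd 3 0 1 (le_of_eq hx30)).upd 3 2 1 (le_of_eq hx32)) ![1,0,1,1] (by decide) (by decide) 0 (by decide))
  · -- 23=(1,3)
    exact False.elim (cert_false T ((skipEmb 4).trans (Function.Embedding.refl _)) (by norm_num) (fun _ => hall _) (((((((((LB_zero T ((skipEmb 4).trans (Function.Embedding.refl _))).upd 0 1 1 (le_of_eq hx01)).upd 0 3 2 (le_of_eq hx03)).upd 1 0 1 (le_of_eq hx10)).upd 1 2 1 (le_of_eq hx12)).upd 2 1 1 (le_of_eq hx21)).upd 2 3 1 (le_of_eq hx23)).upd 3 0 1 (le_of_eq hx30)).upd 3 2 3 (le_of_eq hx32)) ![1,1,1,1] (by decide) (by decide) 0 (by decide))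
  · -- 23=(3,1)
    exact False.elim (cert_false T ((skipEmb 4).trans (Function.Embedding.refl _)) (by norm_num) (fun _ => hall _) (((((LB_zero T ((skipEmb 4).trans (Function.Embedding.refl _))).upd 0 3 2 (le_of_eq hx03)).upd 2 3 3 (le_of_eq hx23)).upd 3 0 1 (le_of_eq hx30)).upd 3 2 1 (le_of_eq hx32)) ![1,0,1,1] (by decide) (by decide) 0 (by decide))

theorem case431 (T : NumericalType 5) (hall : ∀ i, T.IsMinusTwo i) (d : SData T)
    (h01 : N T (Function.Embedding.refl _) 0 1 = 1) (h10 : N T (Function.Embedding.refl _) 1 0 = 1)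
    (h02 : N T (Function.Embedding.refl _) 0 2 = 1) (h20 : N T (Function.Embedding.refl _) 2 0 = 1)
    (h12 : N T (Function.Embedding.refl _) 1 2 = 0) (h21 : N T (Function.Embedding.refl _) 2 1 = 0)
    (h03 : N T (Function.Embedding.refl _) 0 3 = 0) (h30 : N T (Function.Embedding.refl _) 3 0 = 0)
    (h13 : N T (Function.Embedding.refl _) 1 3 = 2) (h31 : N T (Function.Embedding.refl _) 3 1 = 1)
    (h23 : N T (Function.Embedding.refl _) 2 3 = 0) (h32 : N T (Function.Embedding.refl _) 3 2 = 0) :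
    Goal T := by
  unfold Goal
  have hd := d
  obtain ⟨x01, x02, x03, x04, x10, x12, x13, x14, x20, x21, x23, x24, x30, x31, x32, x34, x40, x41, x42, x43, hx01, hx02, hx03, hx04, hx10, hx12, hx13, hx14, hx20, hx21, hx23, hx24, hx30, hx31, hx32, hx34, hx40, hx41, hx42, hx43, hw0, hm0, hw1, hm1, hw2, hm2, hw3, hm3, hw4, hm4, a00, a01, a02, a03, a04, a11, a10, a12, a13, a14, a22, a20, a21, a23, a24, a33, a30, a31, a32, a34, a44, a40, a41, a42, a43, wN01, wN02, wN12, wN03, wN13, wN23, wN04, wN14, wN24, wN34, e0, e1, e2, e3, e4, d01, d02, d12, d03, d13, d23, d04, d14, d24, d34⟩ := d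
  obtain rfl : x01 = 1 := hx01.trans h01
  obtain rfl : x10 = 1 := hx10.trans h10
  obtain rfl : x02 = 1 := hx02.trans h02
  obtain rfl : x20 = 1 := hx20.trans h20
  obtain rfl : x12 = 0 := hx12.trans h12
  obtain rfl : x21 = 0 := hx21.trans h21
  obtain rfl : x03 = 0 := hx03.trans h03
  obtain rfl : x30 = 0 := hx30.trans h30
  obtain rfl : x13 = 2 := hx13.trans h13
  obtain rfl : x31 = 1 := hx31.trans h31
  obtain rfl : x23 = 0 := hx23.trans h23
  obtain rfl : x32 = 0 := hx32.trans h32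
  rcases d04 with ⟨rfl, rfl⟩ | ⟨rfl, rfl⟩ | ⟨rfl, rfl⟩ | ⟨rfl, rfl⟩ | ⟨rfl, rfl⟩ | ⟨rfl, rfl⟩
  · -- 04=(0,0)
    rcases d14 with ⟨rfl, rfl⟩ | ⟨rfl, rfl⟩ | ⟨rfl, rfl⟩ | ⟨rfl, rfl⟩ | ⟨rfl, rfl⟩ | ⟨rfl, rfl⟩
    · -- 14=(0,0)
      rcases d24 with ⟨rfl, rfl⟩ | ⟨rfl, rfl⟩ | ⟨rfl, rfl⟩ | ⟨rfl, rfl⟩ | ⟨rfl, rfl⟩ | ⟨rfl, rfl⟩
      · -- 24=(0,0)
        rcases d34 with ⟨rfl, rfl⟩ | ⟨rfl, rfl⟩ | ⟨rfl, rfl⟩ | ⟨rfl, rfl⟩ | ⟨rfl, rfl⟩ | ⟨rfl, rfl⟩
        · -- 34=(0,0)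
          exfalso; omega
        · -- 34=(1,1)
          refine ⟨(⟨![2, 0, 1, 3, 4], ![1, 2, 0, 3, 4], by decide, by decide⟩ : Equiv.Perm (Fin 5)), T.m 2, T.w 2, Or.inr (Or.inl ?_)⟩
          show T.m 2 = T.m 2 ∧ T.m 0 = 2 * T.m 2 ∧ T.m 1 = 3 * T.m 2 ∧ T.m 3 = 2 * T.m 2 ∧ T.m 4 = T.m 2 ∧ T.w 2 = T.w 2 ∧ T.w 0 = T.w 2 ∧ T.w 1 = T.w 2 ∧ T.w 3 = 2 * T.w 2 ∧ T.w 4 = 2 * T.w 2 ∧ T.a 2 2 = -2 * T.w 2 ∧ T.a 2 0 = T.w 2 ∧ T.a 2 1 = 0 ∧ T.a 2 3 = 0 ∧ T.a 2 4 = 0 ∧ T.a 0 0 = -2 * T.w 2 ∧ T.a 0 1 = T.w 2 ∧ T.a 0 3 = 0 ∧ T.a 0 4 = 0 ∧ T.a 1 1 = -2 * T.w 2 ∧ T.a 1 3 = 2 * T.w 2 ∧ T.a 1 4 = 0 ∧ T.a 3 3 = -4 * T.w 2 ∧ T.a 3 4 = 2 * T.w 2 ∧ T.a 4 4 = -4 * T.w 2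
          refine ⟨?_, ?_, ?_, ?_, ?_, ?_, ?_, ?_, ?_, ?_, ?_, ?_, ?_, ?_, ?_, ?_, ?_, ?_, ?_, ?_, ?_, ?_, ?_, ?_, ?_⟩ <;> omega
        · -- 34=(1,2)
          exact False.elim (cert_false T ((skipEmb 2).trans (Function.Embedding.refl _)) (by norm_num) (fun _ => hall _) (((((LB_zero T ((skipEmb 2).trans (Function.Embedding.refl _))).upd 1 2 2 (le_of_eq hx13)).upd 2 1 1 (le_of_eq hx31)).upd 2 3 1 (le_of_eq hx34)).upd 3 2 2 (le_of_eq hx43)) ![0,1,1,1] (by decide) (by decide) 1 (by decide))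
        · -- 34=(2,1)
          exact False.elim (cert_false T ((skipEmb 2).trans (Function.Embedding.refl _)) (by norm_num) (fun _ => hall _) (((((LB_zero T ((skipEmb 2).trans (Function.Embedding.refl _))).upd 1 2 2 (le_of_eq hx13)).upd 2 1 1 (le_of_eq hx31)).upd 2 3 2 (le_of_eq hx34)).upd 3 2 1 (le_of_eq hx43)) ![0,2,2,1] (by decide) (by decide) 1 (by decide))
        · -- 34=(1,3)
          exact False.elim (cert_false T ((skipEmb 2).trans (Function.Embedding.refl _)) (by norm_num) (fun _ => hall _) (((((LB_zero T ((skipEmb 2).trans (Function.Embedding.refl _))).upd 1 2 2 (le_of_eq hx13)).upd 2 1 1 (le_of_eq hx31)).upd 2 3 1 (le_of_eq hx34)).upd 3 2 3 (le_of_eq hx43)) ![0,1,1,1] (by decide) (by decide) 1 (by decide))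
        · -- 34=(3,1)
          exact False.elim (cert_false T ((skipEmb 2).trans (Function.Embedding.refl _)) (by norm_num) (fun _ => hall _) (((((LB_zero T ((skipEmb 2).trans (Function.Embedding.refl _))).upd 1 2 2 (le_of_eq hx13)).upd 2 1 1 (le_of_eq hx31)).upd 2 3 3 (le_of_eq hx34)).upd 3 2 1 (le_of_eq hx43)) ![0,1,2,1] (by decide) (by decide) 1 (by decide))
      · -- 24=(1,1)
        rcases d34 with ⟨rfl, rfl⟩ | ⟨rfl, rfl⟩ | ⟨rfl, rfl⟩ | ⟨rfl, rfl⟩ | ⟨rfl, rfl⟩ | ⟨rfl, rfl⟩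
        · -- 34=(0,0)
          exfalso; omega
        · -- 34=(1,1)
          exfalso; omega
        · -- 34=(1,2)
          exact False.elim (cert_false T ((skipEmb 2).trans (Function.Embedding.refl _)) (by norm_num) (fun _ => hall _) (((((LB_zero T ((skipEmb 2).trans (Function.Embedding.refl _))).upd 1 2 2 (le_of_eq hx13)).upd 2 1 1 (le_of_eq hx31)).upd 2 3 1 (le_of_eq hx34)).upd 3 2 2 (le_of_eq hx43)) ![0,1,1,1] (by decide) (by decide) 1 (by decide))
        · -- 34=(2,1)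
          exact False.elim (cert_false T ((skipEmb 2).trans (Function.Embedding.refl _)) (by norm_num) (fun _ => hall _) (((((LB_zero T ((skipEmb 2).trans (Function.Embedding.refl _))).upd 1 2 2 (le_of_eq hx13)).upd 2 1 1 (le_of_eq hx31)).upd 2 3 2 (le_of_eq hx34)).upd 3 2 1 (le_of_eq hx43)) ![0,2,2,1] (by decide) (by decide) 1 (by decide))
        · -- 34=(1,3)
          exact False.elim (cert_false T ((skipEmb 2).trans (Function.Embedding.refl _)) (by norm_num) (fun _ => hall _) (((((LB_zero T ((skipEmb 2).trans (Function.Embedding.refl _))).upd 1 2 2 (le_of_eq hx13)).upd 2 1 1 (le_of_eq hx31)).upd 2 3 1 (le_of_eq hx34)).upd 3 2 3 (le_of_eq hx43)) ![0,1,1,1] (by decide) (by decide) 1 (by decide))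
        · -- 34=(3,1)
          exact False.elim (cert_false T ((skipEmb 2).trans (Function.Embedding.refl _)) (by norm_num) (fun _ => hall _) (((((LB_zero T ((skipEmb 2).trans (Function.Embedding.refl _))).upd 1 2 2 (le_of_eq hx13)).upd 2 1 1 (le_of_eq hx31)).upd 2 3 3 (le_of_eq hx34)).upd 3 2 1 (le_of_eq hx43)) ![0,1,2,1] (by decide) (by decide) 1 (by decide))
      · -- 24=(1,2)
        rcases d34 with ⟨rfl, rfl⟩ | ⟨rfl, rfl⟩ | ⟨rfl, rfl⟩ | ⟨rfl, rfl⟩ | ⟨rfl, rfl⟩ | ⟨rfl, rfl⟩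
        · -- 34=(0,0)
          refine ⟨(⟨![4, 2, 0, 1, 3], ![2, 3, 1, 4, 0], by decide, by decide⟩ : Equiv.Perm (Fin 5)), T.m 3, T.w 4, Or.inr (Or.inr (Or.inr (Or.inl ?_)))⟩
          show T.m 4 = 2 * T.m 3 ∧ T.m 2 = 2 * T.m 3 ∧ T.m 0 = 2 * T.m 3 ∧ T.m 1 = 2 * T.m 3 ∧ T.m 3 = T.m 3 ∧ T.w 4 = T.w 4 ∧ T.w 2 = 2 * T.w 4 ∧ T.w 0 = 2 * T.w 4 ∧ T.w 1 = 2 * T.w 4 ∧ T.w 3 = 4 * T.w 4 ∧ T.a 4 4 = -2 * T.w 4 ∧ T.a 4 2 = 2 * T.w 4 ∧ T.a 4 0 = 0 ∧ T.a 4 1 = 0 ∧ T.a 4 3 = 0 ∧ T.a 2 2 = -4 * T.w 4 ∧ T.a 2 0 = 2 * T.w 4 ∧ T.a 2 1 = 0 ∧ T.a 2 3 = 0 ∧ T.a 0 0 = -4 * T.w 4 ∧ T.a 0 1 = 2 * T.w 4 ∧ T.a 0 3 = 0 ∧ T.a 1 1 = -4 * T.w 4 ∧ T.a 1 3 = 4 * T.w 4 ∧ T.a 3 3 = -8 * T.w 4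
          refine ⟨?_, ?_, ?_, ?_, ?_, ?_, ?_, ?_, ?_, ?_, ?_, ?_, ?_, ?_, ?_, ?_, ?_, ?_, ?_, ?_, ?_, ?_, ?_, ?_, ?_⟩ <;> omega
        · -- 34=(1,1)
          exact False.elim (cert_false T ((skipEmb 0).trans (Function.Embedding.refl _)) (by norm_num) (fun _ => hall _) (((((((LB_zero T ((skipEmb 0).trans (Function.Embedding.refl _))).upd 0 2 2 (le_of_eq hx13)).upd 1 3 1 (le_of_eq hx24)).upd 2 0 1 (le_of_eq hx31)).upd 2 3 1 (le_of_eq hx34)).upd 3 1 2 (le_of_eq hx42)).upd 3 2 1 (le_of_eq hx43)) ![2,1,2,2] (by decide) (by decide) 0 (by decide))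
        · -- 34=(1,2)
          exact False.elim (cert_false T ((skipEmb 2).trans (Function.Embedding.refl _)) (by norm_num) (fun _ => hall _) (((((LB_zero T ((skipEmb 2).trans (Function.Embedding.refl _))).upd 1 2 2 (le_of_eq hx13)).upd 2 1 1 (le_of_eq hx31)).upd 2 3 1 (le_of_eq hx34)).upd 3 2 2 (le_of_eq hx43)) ![0,1,1,1] (by decide) (by decide) 1 (by decide))
        · -- 34=(2,1)
          exact False.elim (cert_false T ((skipEmb 2).trans (Function.Embedding.refl _)) (by norm_num) (fun _ => hall _) (((((LB_zero T ((skipEmb 2).trans (Function.Embedding.refl _))).upd 1 2 2 (le_of_eq hx13)).upd 2 1 1 (le_of_eq hx31)).upd 2 3 2 (le_of_eq hx34)).upd 3 2 1 (le_of_eq hx43)) ![0,2,2,1] (by decide) (by decide) 1 (by decide))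
        · -- 34=(1,3)
          exact False.elim (cert_false T ((skipEmb 2).trans (Function.Embedding.refl _)) (by norm_num) (fun _ => hall _) (((((LB_zero T ((skipEmb 2).trans (Function.Embedding.refl _))).upd 1 2 2 (le_of_eq hx13)).upd 2 1 1 (le_of_eq hx31)).upd 2 3 1 (le_of_eq hx34)).upd 3 2 3 (le_of_eq hx43)) ![0,1,1,1] (by decide) (by decide) 1 (by decide))
        · -- 34=(3,1)
          exact False.elim (cert_false T ((skipEmb 2).trans (Function.Embedding.refl _)) (by norm_num) (fun _ => hall _) (((((LB_zero T ((skipEmb 2).trans (Function.Embedding.refl _))).upd 1 2 2 (le_of_eq hx13)).upd 2 1 1 (le_of_eq hx31)).upd 2 3 3 (le_of_eq hx34)).upd 3 2 1 (le_of_eq hx43)) ![0,1,2,1] (by decide) (by decide) 1 (by decide))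
      · -- 24=(2,1)
        rcases d34 with ⟨rfl, rfl⟩ | ⟨rfl, rfl⟩ | ⟨rfl, rfl⟩ | ⟨rfl, rfl⟩ | ⟨rfl, rfl⟩ | ⟨rfl, rfl⟩
        · -- 34=(0,0)
          refine ⟨(⟨![3, 1, 0, 2, 4], ![2, 1, 3, 0, 4], by decide, by decide⟩ : Equiv.Perm (Fin 5)), T.m 3, T.w 1, Or.inr (Or.inr (Or.inr (Or.inr (Or.inr (Or.inl ?_)))))⟩
          show T.m 3 = T.m 3 ∧ T.m 1 = 2 * T.m 3 ∧ T.m 0 = 2 * T.m 3 ∧ T.m 2 = 2 * T.m 3 ∧ T.m 4 = T.m 3 ∧ T.w 3 = 2 * T.w 1 ∧ T.w 1 = T.w 1 ∧ T.w 0 = T.w 1 ∧ T.w 2 = T.w 1 ∧ T.w 4 = 2 * T.w 1 ∧ T.a 3 3 = -4 * T.w 1 ∧ T.a 3 1 = 2 * T.w 1 ∧ T.a 3 0 = 0 ∧ T.a 3 2 = 0 ∧ T.a 3 4 = 0 ∧ T.a 1 1 = -2 * T.w 1 ∧ T.a 1 0 = T.w 1 ∧ T.a 1 2 = 0 ∧ T.a 1 4 = 0 ∧ T.a 0 0 = -2 * T.w 1 ∧ T.a 0 2 = T.w 1 ∧ T.a 0 4 = 0 ∧ T.a 2 2 = -2 * T.w 1 ∧ T.a 2 4 = 2 * T.w 1 ∧ T.a 4 4 = -4 * T.w 1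
          refine ⟨?_, ?_, ?_, ?_, ?_, ?_, ?_, ?_, ?_, ?_, ?_, ?_, ?_, ?_, ?_, ?_, ?_, ?_, ?_, ?_, ?_, ?_, ?_, ?_, ?_⟩ <;> omega
        · -- 34=(1,1)
          exact False.elim (cert_false T ((skipEmb 0).trans (Function.Embedding.refl _)) (by norm_num) (fun _ => hall _) (((((((LB_zero T ((skipEmb 0).trans (Function.Embedding.refl _))).upd 0 2 2 (le_of_eq hx13)).upd 1 3 2 (le_of_eq hx24)).upd 2 0 1 (le_of_eq hx31)).upd 2 3 1 (le_of_eq hx34)).upd 3 1 1 (le_of_eq hx42)).upd 3 2 1 (le_of_eq hx43)) ![1,1,1,1] (by decide) (by decide) 0 (by decide))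
        · -- 34=(1,2)
          exact False.elim (cert_false T ((skipEmb 2).trans (Function.Embedding.refl _)) (by norm_num) (fun _ => hall _) (((((LB_zero T ((skipEmb 2).trans (Function.Embedding.refl _))).upd 1 2 2 (le_of_eq hx13)).upd 2 1 1 (le_of_eq hx31)).upd 2 3 1 (le_of_eq hx34)).upd 3 2 2 (le_of_eq hx43)) ![0,1,1,1] (by decide) (by decide) 1 (by decide))
        · -- 34=(2,1)
          exact False.elim (cert_false T ((skipEmb 2).trans (Function.Embedding.refl _)) (by norm_num) (fun _ => hall _) (((((LB_zero T ((skipEmb 2).trans (Function.Embedding.refl _))).upd 1 2 2 (le_of_eq hx13)).upd 2 1 1 (le_of_eq hx31)).upd 2 3 2 (le_of_eq hx34)).upd 3 2 1 (le_of_eq hx43)) ![0,2,2,1] (by decide) (by decide) 1 (by decide))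
        · -- 34=(1,3)
          exact False.elim (cert_false T ((skipEmb 2).trans (Function.Embedding.refl _)) (by norm_num) (fun _ => hall _) (((((LB_zero T ((skipEmb 2).trans (Function.Embedding.refl _))).upd 1 2 2 (le_of_eq hx13)).upd 2 1 1 (le_of_eq hx31)).upd 2 3 1 (le_of_eq hx34)).upd 3 2 3 (le_of_eq hx43)) ![0,1,1,1] (by decide) (by decide) 1 (by decide))
        · -- 34=(3,1)
          exact False.elim (cert_false T ((skipEmb 2).trans (Function.Embedding.refl _)) (by norm_num) (fun _ => hall _) (((((LB_zero T ((skipEmb 2).trans (Function.Embedding.refl _))).upd 1 2 2 (le_of_eq hx13)).upd 2 1 1 (le_of_eq hx31)).upd 2 3 3 (le_of_eq hx34)).upd 3 2 1 (le_of_eq hx43)) ![0,1,2,1] (by decide) (by decide) 1 (by decide))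
      · -- 24=(1,3)
        exact False.elim (cert_false T ((skipEmb 3).trans (Function.Embedding.refl _)) (by norm_num) (fun _ => hall _) (((((LB_zero T ((skipEmb 3).trans (Function.Embedding.refl _))).upd 0 2 1 (le_of_eq hx02)).upd 2 0 1 (le_of_eq hx20)).upd 2 3 1 (le_of_eq hx24)).upd 3 2 3 (le_of_eq hx42)) ![1,0,2,3] (by decide) (by decide) 0 (by decide))
      · -- 24=(3,1)
        exact False.elim (cert_false T ((skipEmb 3).trans (Function.Embedding.refl _)) (by norm_num) (fun _ => hall _) (((((LB_zero T ((skipEmb 3).trans (Function.Embedding.refl _))).upd 0 2 1 (le_of_eq hx02)).upd 2 0 1 (le_of_eq hx20)).upd 2 3 3 (le_of_eq hx24)).upd 3 2 1 (le_of_eq hx42)) ![1,0,2,1] (by decide) (by decide) 0 (by decide))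
    · -- 14=(1,1)
      exact False.elim (cert_false T ((skipEmb 2).trans (Function.Embedding.refl _)) (by norm_num) (fun _ => hall _) (((((((LB_zero T ((skipEmb 2).trans (Function.Embedding.refl _))).upd 0 1 1 (le_of_eq hx01)).upd 1 0 1 (le_of_eq hx10)).upd 1 2 2 (le_of_eq hx13)).upd 1 3 1 (le_of_eq hx14)).upd 2 1 1 (le_of_eq hx31)).upd 3 1 1 (le_of_eq hx41)) ![1,2,1,1] (by decide) (by decide) 0 (by decide))
    · -- 14=(1,2)
      exact False.elim (cert_false T ((skipEmb 2).trans (Function.Embedding.refl _)) (by norm_num) (fun _ => hall _) (((((LB_zero T ((skipEmb 2).trans (Function.Embedding.refl _))).upd 1 2 2 (le_of_eq hx13)).upd 1 3 1 (le_of_eq hx14)).upd 2 1 1 (le_of_eq hx31)).upd 3 1 2 (le_of_eq hx41)) ![0,2,1,2] (by decide) (by decide) 1 (by decide))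
    · -- 14=(2,1)
      exact False.elim (cert_false T ((skipEmb 2).trans (Function.Embedding.refl _)) (by norm_num) (fun _ => hall _) (((((LB_zero T ((skipEmb 2).trans (Function.Embedding.refl _))).upd 1 2 2 (le_of_eq hx13)).upd 1 3 2 (le_of_eq hx14)).upd 2 1 1 (le_of_eq hx31)).upd 3 1 1 (le_of_eq hx41)) ![0,2,1,1] (by decide) (by decide) 1 (by decide))
    · -- 14=(1,3)
      exact False.elim (cert_false T ((skipEmb 3).trans (Function.Embedding.refl _)) (by norm_num) (fun _ => hall _) (((((LB_zero T ((skipEmb 3).trans (Function.Embedding.refl _))).upd 0 1 1 (le_of_eq hx01)).upd 1 0 1 (le_of_eq hx10)).upd 1 3 1 (le_of_eq hx14)).upd 3 1 3 (le_of_eq hx41)) ![1,2,0,3] (by decide) (by decide) 0 (by decide))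
    · -- 14=(3,1)
      exact False.elim (cert_false T ((skipEmb 3).trans (Function.Embedding.refl _)) (by norm_num) (fun _ => hall _) (((((LB_zero T ((skipEmb 3).trans (Function.Embedding.refl _))).upd 0 1 1 (le_of_eq hx01)).upd 1 0 1 (le_of_eq hx10)).upd 1 3 3 (le_of_eq hx14)).upd 3 1 1 (le_of_eq hx41)) ![1,2,0,1] (by decide) (by decide) 0 (by decide))
  · -- 04=(1,1)
    rcases d14 with ⟨rfl, rfl⟩ | ⟨rfl, rfl⟩ | ⟨rfl, rfl⟩ | ⟨rfl, rfl⟩ | ⟨rfl, rfl⟩ | ⟨rfl, rfl⟩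
    · -- 14=(0,0)
      rcases d24 with ⟨rfl, rfl⟩ | ⟨rfl, rfl⟩ | ⟨rfl, rfl⟩ | ⟨rfl, rfl⟩ | ⟨rfl, rfl⟩ | ⟨rfl, rfl⟩
      · -- 24=(0,0)
        rcases d34 with ⟨rfl, rfl⟩ | ⟨rfl, rfl⟩ | ⟨rfl, rfl⟩ | ⟨rfl, rfl⟩ | ⟨rfl, rfl⟩ | ⟨rfl, rfl⟩
        · -- 34=(0,0)
          refine ⟨(⟨![3, 1, 0, 2, 4], ![2, 1, 3, 0, 4], by decide, by decide⟩ : Equiv.Perm (Fin 5)), T.m 3, T.w 1, Or.inr (Or.inr (Or.inr (Or.inr (Or.inr (Or.inr (Or.inr (Or.inl ?_)))))))⟩
          show T.m 3 = T.m 3 ∧ T.m 1 = 2 * T.m 3 ∧ T.m 0 = 2 * T.m 3 ∧ T.m 2 = T.m 3 ∧ T.m 4 = T.m 3 ∧ T.w 3 = 2 * T.w 1 ∧ T.w 1 = T.w 1 ∧ T.w 0 = T.w 1 ∧ T.w 2 = T.w 1 ∧ T.w 4 = T.w 1 ∧ T.a 3 3 = -4 * T.w 1 ∧ T.a 3 1 = 2 * T.w 1 ∧ T.a 3 0 = 0 ∧ T.a 3 2 = 0 ∧ T.a 3 4 = 0 ∧ T.a 1 1 = -2 * T.w 1 ∧ T.a 1 0 = T.w 1 ∧ T.a 1 2 = 0 ∧ T.a 1 4 = 0 ∧ T.a 0 0 = -2 * T.w 1 ∧ T.a 0 2 = T.w 1 ∧ T.a 0 4 = T.w 1 ∧ T.a 2 2 = -2 * T.w 1 ∧ T.a 2 4 = 0 ∧ T.a 4 4 = -2 * T.w 1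
          refine ⟨?_, ?_, ?_, ?_, ?_, ?_, ?_, ?_, ?_, ?_, ?_, ?_, ?_, ?_, ?_, ?_, ?_, ?_, ?_, ?_, ?_, ?_, ?_, ?_, ?_⟩ <;> omega
        · -- 34=(1,1)
          exact False.elim (cert_false T ((skipEmb 2).trans (Function.Embedding.refl _)) (by norm_num) (fun _ => hall _) (((((((((LB_zero T ((skipEmb 2).trans (Function.Embedding.refl _))).upd 0 1 1 (le_of_eq hx01)).upd 0 3 1 (le_of_eq hx04)).upd 1 0 1 (le_of_eq hx10)).upd 1 2 2 (le_of_eq hx13)).upd 2 1 1 (le_of_eq hx31)).upd 2 3 1 (le_of_eq hx34)).upd 3 0 1 (le_of_eq hx40)).upd 3 2 1 (le_of_eq hx43)) ![1,1,1,1] (by decide) (by decide) 0 (by decide))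
        · -- 34=(1,2)
          exact False.elim (cert_false T ((skipEmb 2).trans (Function.Embedding.refl _)) (by norm_num) (fun _ => hall _) (((((LB_zero T ((skipEmb 2).trans (Function.Embedding.refl _))).upd 1 2 2 (le_of_eq hx13)).upd 2 1 1 (le_of_eq hx31)).upd 2 3 1 (le_of_eq hx34)).upd 3 2 2 (le_of_eq hx43)) ![0,1,1,1] (by decide) (by decide) 1 (by decide))
        · -- 34=(2,1)
          exact False.elim (cert_false T ((skipEmb 2).trans (Function.Embedding.refl _)) (by norm_num) (fun _ => hall _) (((((((((LB_zero T ((skipEmb 2).trans (Function.Embedding.refl _))).upd 0 1 1 (le_of_eq hx01)).upd 0 3 1 (le_of_eq hx04)).upd 1 0 1 (le_of_eq hx10)).upd 1 2 2 (le_of_eq hx13)).upd 2 1 1 (le_of_eq hx31)).upd 2 3 2 (le_of_eq hx34)).upd 3 0 1 (le_of_eq hx40)).upd 3 2 1 (le_of_eq hx43)) ![1,1,1,1] (by decide) (by decide) 0 (by decide))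
        · -- 34=(1,3)
          exact False.elim (cert_false T ((skipEmb 2).trans (Function.Embedding.refl _)) (by norm_num) (fun _ => hall _) (((((LB_zero T ((skipEmb 2).trans (Function.Embedding.refl _))).upd 1 2 2 (le_of_eq hx13)).upd 2 1 1 (le_of_eq hx31)).upd 2 3 1 (le_of_eq hx34)).upd 3 2 3 (le_of_eq hx43)) ![0,1,1,1] (by decide) (by decide) 1 (by decide))
        · -- 34=(3,1)
          exact False.elim (cert_false T ((skipEmb 2).trans (Function.Embedding.refl _)) (by norm_num) (fun _ => hall _) (((((((((LB_zero T ((skipEmb 2).trans (Function.Embedding.refl _))).upd 0 1 1 (le_of_eq hx01)).upd 0 3 1 (le_of_eq hx04)).upd 1 0 1 (le_of_eq hx10)).upd 1 2 2 (le_of_eq hx13)).upd 2 1 1 (le_of_eq hx31)).upd 2 3 3 (le_of_eq hx34)).upd 3 0 1 (le_of_eq hx40)).upd 3 2 1 (le_of_eq hx43)) ![1,1,1,1] (by decide) (by decide) 0 (by decide))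
      · -- 24=(1,1)
        exact False.elim (cert_false T ((skipEmb 3).trans (Function.Embedding.refl _)) (by norm_num) (fun _ => hall _) (((((((LB_zero T ((skipEmb 3).trans (Function.Embedding.refl _))).upd 0 2 1 (le_of_eq hx02)).upd 0 3 1 (le_of_eq hx04)).upd 2 0 1 (le_of_eq hx20)).upd 2 3 1 (le_of_eq hx24)).upd 3 0 1 (le_of_eq hx40)).upd 3 2 1 (le_of_eq hx42)) ![1,0,1,1] (by decide) (by decide) 0 (by decide))
      · -- 24=(1,2)
        exact False.elim (cert_false T ((skipEmb 3).trans (Function.Embedding.refl _)) (by norm_num) (fun _ => hall _) (((((((LB_zero T ((skipEmb 3).trans (Function.Embedding.refl _))).upd 0 2 1 (le_of_eq hx02)).upd 0 3 1 (le_of_eq hx04)).upd 2 0 1 (le_of_eq hx20)).upd 2 3 1 (le_of_eq hx24)).upd 3 0 1 (le_of_eq hx40)).upd 3 2 2 (le_of_eq hx42)) ![1,0,1,1] (by decide) (by decide) 0 (by decide))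
      · -- 24=(2,1)
        exact False.elim (cert_false T ((skipEmb 3).trans (Function.Embedding.refl _)) (by norm_num) (fun _ => hall _) (((((((LB_zero T ((skipEmb 3).trans (Function.Embedding.refl _))).upd 0 2 1 (le_of_eq hx02)).upd 0 3 1 (le_of_eq hx04)).upd 2 0 1 (le_of_eq hx20)).upd 2 3 2 (le_of_eq hx24)).upd 3 0 1 (le_of_eq hx40)).upd 3 2 1 (le_of_eq hx42)) ![1,0,1,1] (by decide) (by decide) 0 (by decide))
      · -- 24=(1,3)
        exact False.elim (cert_false T ((skipEmb 3).trans (Function.Embedding.refl _)) (by norm_num) (fun _ => hall _) (((((((LB_zero T ((skipEmb 3).trans (Function.Embedding.refl _))).upd 0 2 1 (le_of_eq hx02)).upd 0 3 1 (le_of_eq hx04)).upd 2 0 1 (le_of_eq hx20)).upd 2 3 1 (le_of_eq hx24)).upd 3 0 1 (le_of_eq hx40)).upd 3 2 3 (le_of_eq hx42)) ![1,0,1,1] (by decide) (by decide) 0 (by decide))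
      · -- 24=(3,1)
        exact False.elim (cert_false T ((skipEmb 3).trans (Function.Embedding.refl _)) (by norm_num) (fun _ => hall _) (((((((LB_zero T ((skipEmb 3).trans (Function.Embedding.refl _))).upd 0 2 1 (le_of_eq hx02)).upd 0 3 1 (le_of_eq hx04)).upd 2 0 1 (le_of_eq hx20)).upd 2 3 3 (le_of_eq hx24)).upd 3 0 1 (le_of_eq hx40)).upd 3 2 1 (le_of_eq hx42)) ![1,0,1,1] (by decide) (by decide) 0 (by decide))
    · -- 14=(1,1)
      exact False.elim (cert_false T ((skipEmb 3).trans (Function.Embedding.refl _)) (by norm_num) (fun _ => hall _) (((((((LB_zero T ((skipEmb 3).trans (Function.Embedding.refl _))).upd 0 1 1 (le_of_eq hx01)).upd 0 3 1 (le_of_eq hx04)).upd 1 0 1 (le_of_eq hx10)).upd 1 3 1 (le_of_eq hx14)).upd 3 0 1 (le_of_eq hx40)).upd 3 1 1 (le_of_eq hx41)) ![1,1,0,1] (by decide) (by decide) 0 (by decide))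
    · -- 14=(1,2)
      exact False.elim (cert_false T ((skipEmb 3).trans (Function.Embedding.refl _)) (by norm_num) (fun _ => hall _) (((((((LB_zero T ((skipEmb 3).trans (Function.Embedding.refl _))).upd 0 1 1 (le_of_eq hx01)).upd 0 3 1 (le_of_eq hx04)).upd 1 0 1 (le_of_eq hx10)).upd 1 3 1 (le_of_eq hx14)).upd 3 0 1 (le_of_eq hx40)).upd 3 1 2 (le_of_eq hx41)) ![1,1,0,1] (by decide) (by decide) 0 (by decide))
    · -- 14=(2,1)
      exact False.elim (cert_false T ((skipEmb 3).trans (Function.Embedding.refl _)) (by norm_num) (fun _ => hall _) (((((((LB_zero T ((skipEmb 3).trans (Function.Embedding.refl _))).upd 0 1 1 (le_of_eq hx01)).upd 0 3 1 (le_of_eq hx04)).upd 1 0 1 (le_of_eq hx10)).upd 1 3 2 (le_of_eq hx14)).upd 3 0 1 (le_of_eq hx40)).upd 3 1 1 (le_of_eq hx41)) ![1,1,0,1] (by decide) (by decide) 0 (by decide))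
    · -- 14=(1,3)
      exact False.elim (cert_false T ((skipEmb 3).trans (Function.Embedding.refl _)) (by norm_num) (fun _ => hall _) (((((((LB_zero T ((skipEmb 3).trans (Function.Embedding.refl _))).upd 0 1 1 (le_of_eq hx01)).upd 0 3 1 (le_of_eq hx04)).upd 1 0 1 (le_of_eq hx10)).upd 1 3 1 (le_of_eq hx14)).upd 3 0 1 (le_of_eq hx40)).upd 3 1 3 (le_of_eq hx41)) ![1,1,0,1] (by decide) (by decide) 0 (by decide))
    · -- 14=(3,1)
      exact False.elim (cert_false T ((skipEmb 3).trans (Function.Embedding.refl _)) (by norm_num) (fun _ => hall _) (((((((LB_zero T ((skipEmb 3).trans (Function.Embedding.refl _))).upd 0 1 1 (le_of_eq hx01)).upd 0 3 1 (le_of_eq hx04)).upd 1 0 1 (le_of_eq hx10)).upd 1 3 3 (le_of_eq hx14)).upd 3 0 1 (le_of_eq hx40)).upd 3 1 1 (le_of_eq hx41)) ![1,1,0,1] (by decide) (by decide) 0 (by decide))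
  · -- 04=(1,2)
    exact False.elim (cert_false T ((skipEmb 3).trans (Function.Embedding.refl _)) (by norm_num) (fun _ => hall _) (((((((LB_zero T ((skipEmb 3).trans (Function.Embedding.refl _))).upd 0 1 1 (le_of_eq hx01)).upd 0 2 1 (le_of_eq hx02)).upd 0 3 1 (le_of_eq hx04)).upd 1 0 1 (le_of_eq hx10)).upd 2 0 1 (le_of_eq hx20)).upd 3 0 2 (le_of_eq hx40)) ![2,1,1,2] (by decide) (by decide) 0 (by decide))
  · -- 04=(2,1)
    exact False.elim (cert_false T ((skipEmb 3).trans (Function.Embedding.refl _)) (by norm_num) (fun _ => hall _) (((((((LB_zero T ((skipEmb 3).trans (Function.Embedding.refl _))).upd 0 1 1 (le_of_eq hx01)).upd 0 2 1 (le_of_eq hx02)).upd 0 3 2 (le_of_eq hx04)).upd 1 0 1 (le_of_eq hx10)).upd 2 0 1 (le_of_eq hx20)).upd 3 0 1 (le_of_eq hx40)) ![2,1,1,1] (by decide) (by decide) 0 (by decide))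
  · -- 04=(1,3)
    exact False.elim (cert_false T ((skipEmb 3).trans (Function.Embedding.refl _)) (by norm_num) (fun _ => hall _) (((((((LB_zero T ((skipEmb 3).trans (Function.Embedding.refl _))).upd 0 1 1 (le_of_eq hx01)).upd 0 2 1 (le_of_eq hx02)).upd 0 3 1 (le_of_eq hx04)).upd 1 0 1 (le_of_eq hx10)).upd 2 0 1 (le_of_eq hx20)).upd 3 0 3 (le_of_eq hx40)) ![2,1,1,2] (by decide) (by decide) 0 (by decide))
  · -- 04=(3,1)
    exact False.elim (cert_false T ((skipEmb 3).trans (Function.Embedding.refl _)) (by norm_num) (fun _ => hall _) (((((LB_zero T ((skipEmb 3).trans (Function.Embedding.refl _))).upd 0 2 1 (le_of_eq hx02)).upd 0 3 3 (le_of_eq hx04)).upd 2 0 1 (le_of_eq hx20)).upd 3 0 1 (le_of_eq hx40)) ![2,0,1,1] (by decide) (by decide) 0 (by decide))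

theorem case430 (T : NumericalType 5) (hall : ∀ i, T.IsMinusTwo i) (d : SData T)
    (h01 : N T (Function.Embedding.refl _) 0 1 = 1) (h10 : N T (Function.Embedding.refl _) 1 0 = 1)
    (h02 : N T (Function.Embedding.refl _) 0 2 = 1) (h20 : N T (Function.Embedding.refl _) 2 0 = 1)
    (h12 : N T (Function.Embedding.refl _) 1 2 = 0) (h21 : N T (Function.Embedding.refl _) 2 1 = 0)
    (h03 : N T (Function.Embedding.refl _) 0 3 = 0) (h30 : N T (Function.Embedding.refl _) 3 0 = 0)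
    (h13 : N T (Function.Embedding.refl _) 1 3 = 2) (h31 : N T (Function.Embedding.refl _) 3 1 = 1) :
    Goal T := by
  unfold Goal
  have hd := d
  obtain ⟨x01, x02, x03, x04, x10, x12, x13, x14, x20, x21, x23, x24, x30, x31, x32, x34, x40, x41, x42, x43, hx01, hx02, hx03, hx04, hx10, hx12, hx13, hx14, hx20, hx21, hx23, hx24, hx30, hx31, hx32, hx34, hx40, hx41, hx42, hx43, hw0, hm0, hw1, hm1, hw2, hm2, hw3, hm3, hw4, hm4, a00, a01, a02, a03, a04, a11, a10, a12, a13, a14, a22, a20, a21, a23, a24, a33, a30, a31, a32, a34, a44, a40, a41, a42, a43, wN01, wN02, wN12, wN03, wN13, wN23, wN04, wN14, wN24, wN34, e0, e1, e2, e3, e4, d01, d02, d12, d03, d13, d23, d04, d14, d24, d34⟩ := d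
  obtain rfl : x01 = 1 := hx01.trans h01
  obtain rfl : x10 = 1 := hx10.trans h10
  obtain rfl : x02 = 1 := hx02.trans h02
  obtain rfl : x20 = 1 := hx20.trans h20
  obtain rfl : x12 = 0 := hx12.trans h12
  obtain rfl : x21 = 0 := hx21.trans h21
  obtain rfl : x03 = 0 := hx03.trans h03
  obtain rfl : x30 = 0 := hx30.trans h30
  obtain rfl : x13 = 2 := hx13.trans h13
  obtain rfl : x31 = 1 := hx31.trans h31
  rcases d23 with ⟨rfl, rfl⟩ | ⟨rfl, rfl⟩ | ⟨rfl, rfl⟩ | ⟨rfl, rfl⟩ | ⟨rfl, rfl⟩ | ⟨rfl, rfl⟩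
  · -- 23=(0,0)
    exact case431 T hall hd hx01.symm hx10.symm hx02.symm hx20.symm hx12.symm hx21.symm hx03.symm hx30.symm hx13.symm hx31.symm hx23.symm hx32.symm
  · -- 23=(1,1)
    exact False.elim (cert_false T ((skipEmb 4).trans (Function.Embedding.refl _)) (by norm_num) (fun _ => hall _) (((((((((LB_zero T ((skipEmb 4).trans (Function.Embedding.refl _))).upd 0 1 1 (le_of_eq hx01)).upd 0 2 1 (le_of_eq hx02)).upd 1 0 1 (le_of_eq hx10)).upd 1 3 2 (le_of_eq hx13)).upd 2 0 1 (le_of_eq hx20)).upd 2 3 1 (le_of_eq hx23)).upd 3 1 1 (le_of_eq hx31)).upd 3 2 1 (le_of_eq hx32)) ![1,1,1,1] (by decide) (by decide) 0 (by decide))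
  · -- 23=(1,2)
    exact False.elim (cert_false T ((skipEmb 4).trans (Function.Embedding.refl _)) (by norm_num) (fun _ => hall _) (((((((((LB_zero T ((skipEmb 4).trans (Function.Embedding.refl _))).upd 0 1 1 (le_of_eq hx01)).upd 0 2 1 (le_of_eq hx02)).upd 1 0 1 (le_of_eq hx10)).upd 1 3 2 (le_of_eq hx13)).upd 2 0 1 (le_of_eq hx20)).upd 2 3 1 (le_of_eq hx23)).upd 3 1 1 (le_of_eq hx31)).upd 3 2 2 (le_of_eq hx32)) ![1,1,1,1] (by decide) (by decide) 0 (by decide))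
  · -- 23=(2,1)
    exact False.elim (cert_false T ((skipEmb 4).trans (Function.Embedding.refl _)) (by norm_num) (fun _ => hall _) (((((LB_zero T ((skipEmb 4).trans (Function.Embedding.refl _))).upd 1 3 2 (le_of_eq hx13)).upd 2 3 2 (le_of_eq hx23)).upd 3 1 1 (le_of_eq hx31)).upd 3 2 1 (le_of_eq hx32)) ![0,1,1,1] (by decide) (by decide) 1 (by decide))
  · -- 23=(1,3)
    exact False.elim (cert_false T ((skipEmb 4).trans (Function.Embedding.refl _)) (by norm_num) (fun _ => hall _) (((((((((LB_zero T ((skipEmb 4).trans (Function.Embedding.refl _))).upd 0 1 1 (le_of_eq hx01)).upd 0 2 1 (le_of_eq hx02)).upd 1 0 1 (le_of_eq hx10)).upd 1 3 2 (le_of_eq hx13)).upd 2 0 1 (le_of_eq hx20)).upd 2 3 1 (le_of_eq hx23)).upd 3 1 1 (le_of_eq hx31)).upd 3 2 3 (le_of_eq hx32)) ![1,1,1,1] (by decide) (by decide) 0 (by decide))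
  · -- 23=(3,1)
    exact False.elim (cert_false T ((skipEmb 4).trans (Function.Embedding.refl _)) (by norm_num) (fun _ => hall _) (((((LB_zero T ((skipEmb 4).trans (Function.Embedding.refl _))).upd 1 3 2 (le_of_eq hx13)).upd 2 3 3 (le_of_eq hx23)).upd 3 1 1 (le_of_eq hx31)).upd 3 2 1 (le_of_eq hx32)) ![0,1,1,1] (by decide) (by decide) 1 (by decide))

theorem case443 (T : NumericalType 5) (hall : ∀ i, T.IsMinusTwo i) (d : SData T)
    (h01 : N T (Function.Embedding.refl _) 0 1 = 1) (h10 : N T (Function.Embedding.refl _) 1 0 = 1)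
    (h02 : N T (Function.Embedding.refl _) 0 2 = 2) (h20 : N T (Function.Embedding.refl _) 2 0 = 1)
    (h12 : N T (Function.Embedding.refl _) 1 2 = 0) (h21 : N T (Function.Embedding.refl _) 2 1 = 0)
    (h03 : N T (Function.Embedding.refl _) 0 3 = 0) (h30 : N T (Function.Embedding.refl _) 3 0 = 0)
    (h13 : N T (Function.Embedding.refl _) 1 3 = 0) (h31 : N T (Function.Embedding.refl _) 3 1 = 0) :
    Goal T := by
  unfold Goal
  have hd := d
  obtain ⟨x01, x02, x03, x04, x10, x12, x13, x14, x20, x21, x23, x24, x30, x31, x32, x34, x40, x41, x42, x43, hx01, hx02, hx03, hx04, hx10, hx12, hx13, hx14, hx20, hx21, hx23, hx24, hx30, hx31, hx32, hx34, hx40, hx41, hx42, hx43, hw0, hm0, hw1, hm1, hw2, hm2, hw3, hm3, hw4, hm4, a00, a01, a02, a03, a04, a11, a10, a12, a13, a14, a22, a20, a21, a23, a24, a33, a30, a31, a32, a34, a44, a40, a41, a42, a43, wN01, wN02, wN12, wN03, wN13, wN23, wN04, wN14, wN24, wN34, e0, e1, e2, e3,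 e4, d01, d02, d12, d03, d13, d23, d04, d14, d24, d34⟩ := d
  obtain rfl : x01 = 1 := hx01.trans h01
  obtain rfl : x10 = 1 := hx10.trans h10
  obtain rfl : x02 = 2 := hx02.trans h02
  obtain rfl : x20 = 1 := hx20.trans h20
  obtain rfl : x12 = 0 := hx12.trans h12
  obtain rfl : x21 = 0 := hx21.trans h21
  obtain rfl : x03 = 0 := hx03.trans h03
  obtain rfl : x30 = 0 := hx30.trans h30
  obtain rfl : x13 = 0 := hx13.trans h13
  obtain rfl : x31 = 0 := hx31.trans h31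
  rcases d23 with ⟨rfl, rfl⟩ | ⟨rfl, rfl⟩ | ⟨rfl, rfl⟩ | ⟨rfl, rfl⟩ | ⟨rfl, rfl⟩ | ⟨rfl, rfl⟩
  · -- 23=(0,0)
    rcases d04 with ⟨rfl, rfl⟩ | ⟨rfl, rfl⟩ | ⟨rfl, rfl⟩ | ⟨rfl, rfl⟩ | ⟨rfl, rfl⟩ | ⟨rfl, rfl⟩
    · -- 04=(0,0)
      rcases d14 with ⟨rfl, rfl⟩ | ⟨rfl, rfl⟩ | ⟨rfl, rfl⟩ | ⟨rfl, rfl⟩ | ⟨rfl, rfl⟩ | ⟨rfl, rfl⟩
      · -- 14=(0,0)
        rcases d24 with ⟨rfl, rfl⟩ | ⟨rfl, rfl⟩ | ⟨rfl, rfl⟩ | ⟨rfl, rfl⟩ | ⟨rfl, rfl⟩ | ⟨rfl, rfl⟩
        · -- 24=(0,0)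
          rcases d34 with ⟨rfl, rfl⟩ | ⟨rfl, rfl⟩ | ⟨rfl, rfl⟩ | ⟨rfl, rfl⟩ | ⟨rfl, rfl⟩ | ⟨rfl, rfl⟩
          · -- 34=(0,0)
            exfalso; omega
          · -- 34=(1,1)
            exfalso; omega
          · -- 34=(1,2)
            exfalso; omega
          · -- 34=(2,1)
            exfalso; omega
          · -- 34=(1,3)
            exfalso; omega
          · -- 34=(3,1)
            exfalso; omega
        · -- 24=(1,1)
          rcases d34 with ⟨rfl, rfl⟩ | ⟨rfl, rfl⟩ | ⟨rfl, rfl⟩ | ⟨rfl, rfl⟩ | ⟨rfl, rfl⟩ | ⟨rfl, rfl⟩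
          · -- 34=(0,0)
            exfalso; omega
          · -- 34=(1,1)
            refine ⟨(⟨![3, 4, 2, 0, 1], ![3, 4, 2, 0, 1], by decide, by decide⟩ : Equiv.Perm (Fin 5)), T.m 3, T.w 0, Or.inr (Or.inr (Or.inl ?_))⟩
            show T.m 3 = T.m 3 ∧ T.m 4 = 2 * T.m 3 ∧ T.m 2 = 3 * T.m 3 ∧ T.m 0 = 4 * T.m 3 ∧ T.m 1 = 2 * T.m 3 ∧ T.w 3 = 2 * T.w 0 ∧ T.w 4 = 2 * T.w 0 ∧ T.w 2 = 2 * T.w 0 ∧ T.w 0 = T.w 0 ∧ T.w 1 = T.w 0 ∧ T.a 3 3 = -4 * T.w 0 ∧ T.a 3 4 = 2 * T.w 0 ∧ T.a 3 2 = 0 ∧ T.a 3 0 = 0 ∧ T.a 3 1 = 0 ∧ T.a 4 4 = -4 * T.w 0 ∧ T.a 4 2 = 2 * T.w 0 ∧ T.a 4 0 = 0 ∧ T.a 4 1 = 0 ∧ T.a 2 2 = -4 * T.w 0 ∧ T.a 2 0 = 2 * T.w 0 ∧ T.a 2 1 = 0 ∧ T.a 0 0 = -2 * T.w 0 ∧ T.a 0 1 = T.w 0 ∧ T.a 1 1 = -2 * T.w 0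
            refine ⟨?_, ?_, ?_, ?_, ?_, ?_, ?_, ?_, ?_, ?_, ?_, ?_, ?_, ?_, ?_, ?_, ?_, ?_, ?_, ?_, ?_, ?_, ?_, ?_, ?_⟩ <;> omega
          · -- 34=(1,2)
            exact False.elim (cert_false T ((skipEmb 1).trans (Function.Embedding.refl _)) (by norm_num) (fun _ => hall _) (((((((LB_zero T ((skipEmb 1).trans (Function.Embedding.refl _))).upd 0 1 2 (le_of_eq hx02)).upd 1 0 1 (le_of_eq hx20)).upd 1 3 1 (le_of_eq hx24)).upd 2 3 1 (le_of_eq hx34)).upd 3 1 1 (le_of_eq hx42)).upd 3 2 2 (le_of_eq hx43)) ![2,2,1,2] (by decide) (by decide) 0 (by decide))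
          · -- 34=(2,1)
            exact False.elim (cert_false T ((skipEmb 1).trans (Function.Embedding.refl _)) (by norm_num) (fun _ => hall _) (((((((LB_zero T ((skipEmb 1).trans (Function.Embedding.refl _))).upd 0 1 2 (le_of_eq hx02)).upd 1 0 1 (le_of_eq hx20)).upd 1 3 1 (le_of_eq hx24)).upd 2 3 2 (le_of_eq hx34)).upd 3 1 1 (le_of_eq hx42)).upd 3 2 1 (le_of_eq hx43)) ![1,1,1,1] (by decide) (by decide) 0 (by decide))
          · -- 34=(1,3)
            exact False.elim (cert_false T ((skipEmb 1).trans (Function.Embedding.refl _)) (by norm_num) (fun _ => hall _) (((((LB_zero T ((skipEmb 1).trans (Function.Embedding.refl _))).upd 1 3 1 (le_of_eq hx24)).upd 2 3 1 (le_of_eq hx34)).upd 3 1 1 (le_of_eq hx42)).upd 3 2 3 (le_of_eq hx43)) ![0,1,1,2] (by decide) (by decide) 1 (by decide))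
          · -- 34=(3,1)
            exact False.elim (cert_false T ((skipEmb 1).trans (Function.Embedding.refl _)) (by norm_num) (fun _ => hall _) (((((((LB_zero T ((skipEmb 1).trans (Function.Embedding.refl _))).upd 0 1 2 (le_of_eq hx02)).upd 1 0 1 (le_of_eq hx20)).upd 1 3 1 (le_of_eq hx24)).upd 2 3 3 (le_of_eq hx34)).upd 3 1 1 (le_of_eq hx42)).upd 3 2 1 (le_of_eq hx43)) ![1,1,1,1] (by decide) (by decide) 0 (by decide))
        · -- 24=(1,2)
          exact False.elim (cert_false T ((skipEmb 3).trans (Function.Embedding.refl _)) (by norm_num) (fun _ => hall _) (((((LB_zero T ((skipEmb 3).trans (Function.Embedding.refl _))).upd 0 2 2 (le_of_eq hx02)).upd 2 0 1 (le_of_eq hx20)).upd 2 3 1 (le_of_eq hx24)).upd 3 2 2 (le_of_eq hx42)) ![1,0,1,1] (by decide) (by decide) 0 (by decide))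
        · -- 24=(2,1)
          exact False.elim (cert_false T ((skipEmb 3).trans (Function.Embedding.refl _)) (by norm_num) (fun _ => hall _) (((((LB_zero T ((skipEmb 3).trans (Function.Embedding.refl _))).upd 0 2 2 (le_of_eq hx02)).upd 2 0 1 (le_of_eq hx20)).upd 2 3 2 (le_of_eq hx24)).upd 3 2 1 (le_of_eq hx42)) ![2,0,2,1] (by decide) (by decide) 0 (by decide))
        · -- 24=(1,3)
          exact False.elim (cert_false T ((skipEmb 3).trans (Function.Embedding.refl _)) (by norm_num) (fun _ => hall _) (((((LB_zero T ((skipEmb 3).trans (Function.Embedding.refl _))).upd 0 2 2 (le_of_eq hx02)).upd 2 0 1 (le_of_eq hx20)).upd 2 3 1 (le_of_eq hx24)).upd 3 2 3 (le_of_eq hx42)) ![1,0,1,1] (by decide) (by decide) 0 (by decide))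
        · -- 24=(3,1)
          exact False.elim (cert_false T ((skipEmb 3).trans (Function.Embedding.refl _)) (by norm_num) (fun _ => hall _) (((((LB_zero T ((skipEmb 3).trans (Function.Embedding.refl _))).upd 0 2 2 (le_of_eq hx02)).upd 2 0 1 (le_of_eq hx20)).upd 2 3 3 (le_of_eq hx24)).upd 3 2 1 (le_of_eq hx42)) ![1,0,2,1] (by decide) (by decide) 0 (by decide))
      · -- 14=(1,1)
        rcases d24 with ⟨rfl, rfl⟩ | ⟨rfl, rfl⟩ | ⟨rfl, rfl⟩ | ⟨rfl, rfl⟩ | ⟨rfl, rfl⟩ | ⟨rfl, rfl⟩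
        · -- 24=(0,0)
          rcases d34 with ⟨rfl, rfl⟩ | ⟨rfl, rfl⟩ | ⟨rfl, rfl⟩ | ⟨rfl, rfl⟩ | ⟨rfl, rfl⟩ | ⟨rfl, rfl⟩
          · -- 34=(0,0)
            exfalso; omega
          · -- 34=(1,1)
            exfalso; omega
          · -- 34=(1,2)
            refine ⟨(⟨![2, 0, 1, 4, 3], ![1, 2, 0, 4, 3], by decide, by decide⟩ : Equiv.Perm (Fin 5)), T.m 2, T.w 0, Or.inr (Or.inr (Or.inr (Or.inr (Or.inr (Or.inl ?_)))))⟩
            show T.m 2 = T.m 2 ∧ T.m 0 = 2 * T.m 2 ∧ T.m 1 = 2 * T.m 2 ∧ T.m 4 = 2 * T.m 2 ∧ T.m 3 = T.m 2 ∧ T.w 2 = 2 * T.w 0 ∧ T.w 0 = T.w 0 ∧ T.w 1 = T.w 0 ∧ T.w 4 = T.w 0 ∧ T.w 3 = 2 * T.w 0 ∧ T.a 2 2 = -4 * T.w 0 ∧ T.a 2 0 = 2 * T.w 0 ∧ T.a 2 1 = 0 ∧ T.a 2 4 = 0 ∧ T.a 2 3 = 0 ∧ T.a 0 0 = -2 * T.w 0 ∧ T.a 0 1 = T.w 0 ∧ T.a 0 4 = 0 ∧ T.a 0 3 = 0 ∧ T.a 1 1 = -2 * T.w 0 ∧ T.a 1 4 = T.w 0 ∧ T.a 1 3 = 0 ∧ T.a 4 4 = -2 * T.w 0 ∧ T.a 4 3 = 2 * T.w 0 ∧ T.a 3 3 = -4 * T.w 0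
            refine ⟨?_, ?_, ?_, ?_, ?_, ?_, ?_, ?_, ?_, ?_, ?_, ?_, ?_, ?_, ?_, ?_, ?_, ?_, ?_, ?_, ?_, ?_, ?_, ?_, ?_⟩ <;> omega
          · -- 34=(2,1)
            refine ⟨(⟨![3, 4, 1, 0, 2], ![3, 2, 4, 0, 1], by decide, by decide⟩ : Equiv.Perm (Fin 5)), T.m 2, T.w 3, Or.inr (Or.inr (Or.inr (Or.inl ?_)))⟩
            show T.m 3 = 2 * T.m 2 ∧ T.m 4 = 2 * T.m 2 ∧ T.m 1 = 2 * T.m 2 ∧ T.m 0 = 2 * T.m 2 ∧ T.m 2 = T.m 2 ∧ T.w 3 = T.w 3 ∧ T.w 4 = 2 * T.w 3 ∧ T.w 1 = 2 * T.w 3 ∧ T.w 0 = 2 * T.w 3 ∧ T.w 2 = 4 * T.w 3 ∧ T.a 3 3 = -2 * T.w 3 ∧ T.a 3 4 = 2 * T.w 3 ∧ T.a 3 1 = 0 ∧ T.a 3 0 = 0 ∧ T.a 3 2 = 0 ∧ T.a 4 4 = -4 * T.w 3 ∧ T.a 4 1 = 2 * T.w 3 ∧ T.a 4 0 = 0 ∧ T.a 4 2 = 0 ∧ T.a 1 1 = -4 * T.w 3 ∧ T.a 1 0 = 2 * T.w 3 ∧ T.a 1 2 = 0 ∧ T.a 0 0 = -4 * T.w 3 ∧ T.a 0 2 = 4 * T.w 3 ∧ T.a 2 2 = -8 * T.w 3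
            refine ⟨?_, ?_, ?_, ?_, ?_, ?_, ?_, ?_, ?_, ?_, ?_, ?_, ?_, ?_, ?_, ?_, ?_, ?_, ?_, ?_, ?_, ?_, ?_, ?_, ?_⟩ <;> omega
          · -- 34=(1,3)
            exact False.elim (cert_false T ((skipEmb 2).trans (Function.Embedding.refl _)) (by norm_num) (fun _ => hall _) (((((LB_zero T ((skipEmb 2).trans (Function.Embedding.refl _))).upd 1 3 1 (le_of_eq hx14)).upd 2 3 1 (le_of_eq hx34)).upd 3 1 1 (le_of_eq hx41)).upd 3 2 3 (le_of_eq hx43)) ![0,1,1,2] (by decide) (by decide) 1 (by decide))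
          · -- 34=(3,1)
            exact False.elim (cert_false T ((skipEmb 2).trans (Function.Embedding.refl _)) (by norm_num) (fun _ => hall _) (((((LB_zero T ((skipEmb 2).trans (Function.Embedding.refl _))).upd 1 3 1 (le_of_eq hx14)).upd 2 3 3 (le_of_eq hx34)).upd 3 1 1 (le_of_eq hx41)).upd 3 2 1 (le_of_eq hx43)) ![0,1,3,2] (by decide) (by decide) 1 (by decide))
        · -- 24=(1,1)
          exact False.elim (cert_false T ((skipEmb 3).trans (Function.Embedding.refl _)) (by norm_num) (fun _ => hall _) (((((((((LB_zero T ((skipEmb 3).trans (Function.Embedding.refl _))).upd 0 1 1 (le_of_eq hx01)).upd 0 2 2 (le_of_eq hx02)).upd 1 0 1 (le_of_eq hx10)).upd 1 3 1 (le_of_eq hx14)).upd 2 0 1 (le_of_eq hx20)).upd 2 3 1 (le_of_eq hx24)).upd 3 1 1 (le_of_eq hx41)).upd 3 2 1 (le_of_eq hx42)) ![1,1,1,1] (by decide) (by decide) 0 (by decide))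
        · -- 24=(1,2)
          exact False.elim (cert_false T ((skipEmb 3).trans (Function.Embedding.refl _)) (by norm_num) (fun _ => hall _) (((((LB_zero T ((skipEmb 3).trans (Function.Embedding.refl _))).upd 0 2 2 (le_of_eq hx02)).upd 2 0 1 (le_of_eq hx20)).upd 2 3 1 (le_of_eq hx24)).upd 3 2 2 (le_of_eq hx42)) ![1,0,1,1] (by decide) (by decide) 0 (by decide))
        · -- 24=(2,1)
          exact False.elim (cert_false T ((skipEmb 3).trans (Function.Embedding.refl _)) (by norm_num) (fun _ => hall _) (((((((((LB_zero T ((skipEmb 3).trans (Function.Embedding.refl _))).upd 0 1 1 (le_of_eq hx01)).upd 0 2 2 (le_of_eq hx02)).upd 1 0 1 (le_of_eq hx10)).upd 1 3 1 (le_of_eq hx14)).upd 2 0 1 (le_of_eq hx20)).upd 2 3 2 (le_of_eq hx24)).upd 3 1 1 (le_of_eq hx41)).upd 3 2 1 (le_of_eq hx42)) ![1,1,1,1] (by decide) (by decide) 0 (by decide))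
        · -- 24=(1,3)
          exact False.elim (cert_false T ((skipEmb 3).trans (Function.Embedding.refl _)) (by norm_num) (fun _ => hall _) (((((LB_zero T ((skipEmb 3).trans (Function.Embedding.refl _))).upd 0 2 2 (le_of_eq hx02)).upd 2 0 1 (le_of_eq hx20)).upd 2 3 1 (le_of_eq hx24)).upd 3 2 3 (le_of_eq hx42)) ![1,0,1,1] (by decide) (by decide) 0 (by decide))
        · -- 24=(3,1)
          exact False.elim (cert_false T ((skipEmb 3).trans (Function.Embedding.refl _)) (by norm_num) (fun _ => hall _) (((((((((LB_zero T ((skipEmb 3).trans (Function.Embedding.refl _))).upd 0 1 1 (le_of_eq hx01)).upd 0 2 2 (le_of_eq hx02)).upd 1 0 1 (le_of_eq hx10)).upd 1 3 1 (le_of_eq hx14)).upd 2 0 1 (le_of_eq hx20)).upd 2 3 3 (le_of_eq hx24)).upd 3 1 1 (le_of_eq hx41)).upd 3 2 1 (le_of_eq hx42)) ![1,1,1,1] (by decide) (by decide) 0 (by decide))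
      · -- 14=(1,2)
        exact False.elim (cert_false T ((skipEmb 3).trans (Function.Embedding.refl _)) (by norm_num) (fun _ => hall _) (((((((LB_zero T ((skipEmb 3).trans (Function.Embedding.refl _))).upd 0 1 1 (le_of_eq hx01)).upd 0 2 2 (le_of_eq hx02)).upd 1 0 1 (le_of_eq hx10)).upd 1 3 1 (le_of_eq hx14)).upd 2 0 1 (le_of_eq hx20)).upd 3 1 2 (le_of_eq hx41)) ![2,2,1,2] (by decide) (by decide) 0 (by decide))
      · -- 14=(2,1)
        exact False.elim (cert_false T ((skipEmb 3).trans (Function.Embedding.refl _)) (by norm_num) (fun _ => hall _) (((((((LB_zero T ((skipEmb 3).trans (Function.Embedding.refl _))).upd 0 1 1 (le_of_eq hx01)).upd 0 2 2 (le_of_eq hx02)).upd 1 0 1 (le_of_eq hx10)).upd 1 3 2 (le_of_eq hx14)).upd 2 0 1 (le_of_eq hx20)).upd 3 1 1 (le_of_eq hx41)) ![2,2,1,1] (by decide) (by decide) 0 (by decide))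
      · -- 14=(1,3)
        exact False.elim (cert_false T ((skipEmb 3).trans (Function.Embedding.refl _)) (by norm_num) (fun _ => hall _) (((((((LB_zero T ((skipEmb 3).trans (Function.Embedding.refl _))).upd 0 1 1 (le_of_eq hx01)).upd 0 2 2 (le_of_eq hx02)).upd 1 0 1 (le_of_eq hx10)).upd 1 3 1 (le_of_eq hx14)).upd 2 0 1 (le_of_eq hx20)).upd 3 1 3 (le_of_eq hx41)) ![2,2,1,2] (by decide) (by decide) 0 (by decide))
      · -- 14=(3,1)
        exact False.elim (cert_false T ((skipEmb 3).trans (Function.Embedding.refl _)) (by norm_num) (fun _ => hall _) (((((LB_zero T ((skipEmb 3).trans (Function.Embedding.refl _))).upd 0 1 1 (le_of_eq hx01)).upd 1 0 1 (le_of_eq hx10)).upd 1 3 3 (le_of_eq hx14)).upd 3 1 1 (le_of_eq hx41)) ![1,2,0,1] (by decide) (by decide) 0 (by decide))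
    · -- 04=(1,1)
      exact False.elim (cert_false T ((skipEmb 3).trans (Function.Embedding.refl _)) (by norm_num) (fun _ => hall _) (((((((LB_zero T ((skipEmb 3).trans (Function.Embedding.refl _))).upd 0 1 1 (le_of_eq hx01)).upd 0 2 2 (le_of_eq hx02)).upd 0 3 1 (le_of_eq hx04)).upd 1 0 1 (le_of_eq hx10)).upd 2 0 1 (le_of_eq hx20)).upd 3 0 1 (le_of_eq hx40)) ![2,1,1,1] (by decide) (by decide) 0 (by decide))
    · -- 04=(1,2)
      exact False.elim (cert_false T ((skipEmb 3).trans (Function.Embedding.refl _)) (by norm_num) (fun _ => hall _) (((((LB_zero T ((skipEmb 3).trans (Function.Embedding.refl _))).upd 0 2 2 (le_of_eq hx02)).upd 0 3 1 (le_of_eq hx04)).upd 2 0 1 (le_of_eq hx20)).upd 3 0 2 (le_of_eq hx40)) ![2,0,1,2] (by decide) (by decide) 0 (by decide))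
    · -- 04=(2,1)
      exact False.elim (cert_false T ((skipEmb 3).trans (Function.Embedding.refl _)) (by norm_num) (fun _ => hall _) (((((LB_zero T ((skipEmb 3).trans (Function.Embedding.refl _))).upd 0 2 2 (le_of_eq hx02)).upd 0 3 2 (le_of_eq hx04)).upd 2 0 1 (le_of_eq hx20)).upd 3 0 1 (le_of_eq hx40)) ![2,0,1,1] (by decide) (by decide) 0 (by decide))
    · -- 04=(1,3)
      exact False.elim (cert_false T ((skipEmb 3).trans (Function.Embedding.refl _)) (by norm_num) (fun _ => hall _) (((((LB_zero T ((skipEmb 3).trans (Function.Embedding.refl _))).upd 0 2 2 (le_of_eq hx02)).upd 0 3 1 (le_of_eq hx04)).upd 2 0 1 (le_of_eq hx20)).upd 3 0 3 (le_of_eq hx40)) ![2,0,1,2] (by decide) (by decide) 0 (by decide))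
    · -- 04=(3,1)
      exact False.elim (cert_false T ((skipEmb 3).trans (Function.Embedding.refl _)) (by norm_num) (fun _ => hall _) (((((LB_zero T ((skipEmb 3).trans (Function.Embedding.refl _))).upd 0 2 2 (le_of_eq hx02)).upd 0 3 3 (le_of_eq hx04)).upd 2 0 1 (le_of_eq hx20)).upd 3 0 1 (le_of_eq hx40)) ![2,0,1,1] (by decide) (by decide) 0 (by decide))
  · -- 23=(1,1)
    rcases d04 with ⟨rfl, rfl⟩ | ⟨rfl, rfl⟩ | ⟨rfl, rfl⟩ | ⟨rfl, rfl⟩ | ⟨rfl, rfl⟩ | ⟨rfl, rfl⟩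
    · -- 04=(0,0)
      rcases d14 with ⟨rfl, rfl⟩ | ⟨rfl, rfl⟩ | ⟨rfl, rfl⟩ | ⟨rfl, rfl⟩ | ⟨rfl, rfl⟩ | ⟨rfl, rfl⟩
      · -- 14=(0,0)
        rcases d24 with ⟨rfl, rfl⟩ | ⟨rfl, rfl⟩ | ⟨rfl, rfl⟩ | ⟨rfl, rfl⟩ | ⟨rfl, rfl⟩ | ⟨rfl, rfl⟩
        · -- 24=(0,0)
          rcases d34 with ⟨rfl, rfl⟩ | ⟨rfl, rfl⟩ | ⟨rfl, rfl⟩ | ⟨rfl, rfl⟩ | ⟨rfl, rfl⟩ | ⟨rfl, rfl⟩
          · -- 34=(0,0)
            exfalso; omega
          · -- 34=(1,1)
            refine ⟨(⟨![4, 3, 2, 0, 1], ![3, 4, 2, 1, 0], by decide, by decide⟩ : Equiv.Perm (Fin 5)), T.m 4, T.w 0, Or.inr (Or.inr (Or.inl ?_))⟩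
            show T.m 4 = T.m 4 ∧ T.m 3 = 2 * T.m 4 ∧ T.m 2 = 3 * T.m 4 ∧ T.m 0 = 4 * T.m 4 ∧ T.m 1 = 2 * T.m 4 ∧ T.w 4 = 2 * T.w 0 ∧ T.w 3 = 2 * T.w 0 ∧ T.w 2 = 2 * T.w 0 ∧ T.w 0 = T.w 0 ∧ T.w 1 = T.w 0 ∧ T.a 4 4 = -4 * T.w 0 ∧ T.a 4 3 = 2 * T.w 0 ∧ T.a 4 2 = 0 ∧ T.a 4 0 = 0 ∧ T.a 4 1 = 0 ∧ T.a 3 3 = -4 * T.w 0 ∧ T.a 3 2 = 2 * T.w 0 ∧ T.a 3 0 = 0 ∧ T.a 3 1 = 0 ∧ T.a 2 2 = -4 * T.w 0 ∧ T.a 2 0 = 2 * T.w 0 ∧ T.a 2 1 = 0 ∧ T.a 0 0 = -2 * T.w 0 ∧ T.a 0 1 = T.w 0 ∧ T.a 1 1 = -2 * T.w 0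
            refine ⟨?_, ?_, ?_, ?_, ?_, ?_, ?_, ?_, ?_, ?_, ?_, ?_, ?_, ?_, ?_, ?_, ?_, ?_, ?_, ?_, ?_, ?_, ?_, ?_, ?_⟩ <;> omega
          · -- 34=(1,2)
            exact False.elim (cert_false T ((skipEmb 1).trans (Function.Embedding.refl _)) (by norm_num) (fun _ => hall _) (((((((LB_zero T ((skipEmb 1).trans (Function.Embedding.refl _))).upd 0 1 2 (le_of_eq hx02)).upd 1 0 1 (le_of_eq hx20)).upd 1 2 1 (le_of_eq hx23)).upd 2 1 1 (le_of_eq hx32)).upd 2 3 1 (le_of_eq hx34)).upd 3 2 2 (le_of_eq hx43)) ![1,1,1,1] (by decide) (by decide) 0 (by decide))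
          · -- 34=(2,1)
            exact False.elim (cert_false T ((skipEmb 1).trans (Function.Embedding.refl _)) (by norm_num) (fun _ => hall _) (((((((LB_zero T ((skipEmb 1).trans (Function.Embedding.refl _))).upd 0 1 2 (le_of_eq hx02)).upd 1 0 1 (le_of_eq hx20)).upd 1 2 1 (le_of_eq hx23)).upd 2 1 1 (le_of_eq hx32)).upd 2 3 2 (le_of_eq hx34)).upd 3 2 1 (le_of_eq hx43)) ![2,2,2,1] (by decide) (by decide) 0 (by decide))
          · -- 34=(1,3)
            exact False.elim (cert_false T ((skipEmb 1).trans (Function.Embedding.refl _)) (by norm_num) (fun _ => hall _) (((((((LB_zero T ((skipEmb 1).trans (Function.Embedding.refl _))).upd 0 1 2 (le_of_eq hx02)).upd 1 0 1 (le_of_eq hx20)).upd 1 2 1 (le_of_eq hx23)).upd 2 1 1 (le_of_eq hx32)).upd 2 3 1 (le_of_eq hx34)).upd 3 2 3 (le_of_eq hx43)) ![1,1,1,1] (by decide) (by decide) 0 (by decide))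
          · -- 34=(3,1)
            exact False.elim (cert_false T ((skipEmb 1).trans (Function.Embedding.refl _)) (by norm_num) (fun _ => hall _) (((((LB_zero T ((skipEmb 1).trans (Function.Embedding.refl _))).upd 1 2 1 (le_of_eq hx23)).upd 2 1 1 (le_of_eq hx32)).upd 2 3 3 (le_of_eq hx34)).upd 3 2 1 (le_of_eq hx43)) ![0,1,2,1] (by decide) (by decide) 1 (by decide))
        · -- 24=(1,1)
          exact False.elim (cert_false T ((skipEmb 1).trans (Function.Embedding.refl _)) (by norm_num) (fun _ => hall _) (((((((LB_zero T ((skipEmb 1).trans (Function.Embedding.refl _))).upd 0 1 2 (le_of_eq hx02)).upd 1 0 1 (le_of_eq hx20)).upd 1 2 1 (le_of_eq hx23)).upd 1 3 1 (le_of_eq hx24)).upd 2 1 1 (le_of_eq hx32)).upd 3 1 1 (le_of_eq hx42)) ![2,2,1,1] (by decide) (by decide) 0 (by decide))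
        · -- 24=(1,2)
          exact False.elim (cert_false T ((skipEmb 3).trans (Function.Embedding.refl _)) (by norm_num) (fun _ => hall _) (((((LB_zero T ((skipEmb 3).trans (Function.Embedding.refl _))).upd 0 2 2 (le_of_eq hx02)).upd 2 0 1 (le_of_eq hx20)).upd 2 3 1 (le_of_eq hx24)).upd 3 2 2 (le_of_eq hx42)) ![1,0,1,1] (by decide) (by decide) 0 (by decide))
        · -- 24=(2,1)
          exact False.elim (cert_false T ((skipEmb 3).trans (Function.Embedding.refl _)) (by norm_num) (fun _ => hall _) (((((LB_zero T ((skipEmb 3).trans (Function.Embedding.refl _))).upd 0 2 2 (le_of_eq hx02)).upd 2 0 1 (le_of_eq hx20)).upd 2 3 2 (le_of_eq hx24)).upd 3 2 1 (le_of_eq hx42)) ![2,0,2,1] (by decide) (by decide) 0 (by decide))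
        · -- 24=(1,3)
          exact False.elim (cert_false T ((skipEmb 3).trans (Function.Embedding.refl _)) (by norm_num) (fun _ => hall _) (((((LB_zero T ((skipEmb 3).trans (Function.Embedding.refl _))).upd 0 2 2 (le_of_eq hx02)).upd 2 0 1 (le_of_eq hx20)).upd 2 3 1 (le_of_eq hx24)).upd 3 2 3 (le_of_eq hx42)) ![1,0,1,1] (by decide) (by decide) 0 (by decide))
        · -- 24=(3,1)
          exact False.elim (cert_false T ((skipEmb 3).trans (Function.Embedding.refl _)) (by norm_num) (fun _ => hall _) (((((LB_zero T ((skipEmb 3).trans (Function.Embedding.refl _))).upd 0 2 2 (le_of_eq hx02)).upd 2 0 1 (le_of_eq hx20)).upd 2 3 3 (le_of_eq hx24)).upd 3 2 1 (le_of_eq hx42)) ![1,0,2,1] (by decide) (by decide) 0 (by decide))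
      · -- 14=(1,1)
        rcases d24 with ⟨rfl, rfl⟩ | ⟨rfl, rfl⟩ | ⟨rfl, rfl⟩ | ⟨rfl, rfl⟩ | ⟨rfl, rfl⟩ | ⟨rfl, rfl⟩
        · -- 24=(0,0)
          rcases d34 with ⟨rfl, rfl⟩ | ⟨rfl, rfl⟩ | ⟨rfl, rfl⟩ | ⟨rfl, rfl⟩ | ⟨rfl, rfl⟩ | ⟨rfl, rfl⟩
          · -- 34=(0,0)
            refine ⟨(⟨![4, 1, 0, 2, 3], ![2, 1, 3, 4, 0], by decide, by decide⟩ : Equiv.Perm (Fin 5)), T.m 4, T.w 4, Or.inr (Or.inl ?_)⟩
            show T.m 4 = T.m 4 ∧ T.m 1 = 2 * T.m 4 ∧ T.m 0 = 3 * T.m 4 ∧ T.m 2 = 2 * T.m 4 ∧ T.m 3 = T.m 4 ∧ T.w 4 = T.w 4 ∧ T.w 1 = T.w 4 ∧ T.w 0 = T.w 4 ∧ T.w 2 = 2 * T.w 4 ∧ T.w 3 = 2 * T.w 4 ∧ T.a 4 4 = -2 * T.w 4 ∧ T.a 4 1 = T.w 4 ∧ T.a 4 0 = 0 ∧ T.a 4 2 = 0 ∧ T.a 4 3 = 0 ∧ T.a 1 1 = -2 * T.w 4 ∧ T.a 1 0 = T.w 4 ∧ T.a 1 2 = 0 ∧ T.a 1 3 = 0 ∧ T.a 0 0 = -2 * T.w 4 ∧ T.a 0 2 = 2 * T.w 4 ∧ T.a 0 3 = 0 ∧ T.a 2 2 = -4 * T.w 4 ∧ T.a 2 3 = 2 * T.w 4 ∧ T.a 3 3 = -4 * T.w 4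
            refine ⟨?_, ?_, ?_, ?_, ?_, ?_, ?_, ?_, ?_, ?_, ?_, ?_, ?_, ?_, ?_, ?_, ?_, ?_, ?_, ?_, ?_, ?_, ?_, ?_, ?_⟩ <;> omega
          · -- 34=(1,1)
            exfalso; omega
          · -- 34=(1,2)
            exact False.elim (cert_false T ((skipEmb 1).trans (Function.Embedding.refl _)) (by norm_num) (fun _ => hall _) (((((((LB_zero T ((skipEmb 1).trans (Function.Embedding.refl _))).upd 0 1 2 (le_of_eq hx02)).upd 1 0 1 (le_of_eq hx20)).upd 1 2 1 (le_of_eq hx23)).upd 2 1 1 (le_of_eq hx32)).upd 2 3 1 (le_of_eq hx34)).upd 3 2 2 (le_of_eq hx43)) ![1,1,1,1] (by decide) (by decide) 0 (by decide))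
          · -- 34=(2,1)
            exact False.elim (cert_false T ((skipEmb 1).trans (Function.Embedding.refl _)) (by norm_num) (fun _ => hall _) (((((((LB_zero T ((skipEmb 1).trans (Function.Embedding.refl _))).upd 0 1 2 (le_of_eq hx02)).upd 1 0 1 (le_of_eq hx20)).upd 1 2 1 (le_of_eq hx23)).upd 2 1 1 (le_of_eq hx32)).upd 2 3 2 (le_of_eq hx34)).upd 3 2 1 (le_of_eq hx43)) ![2,2,2,1] (by decide) (by decide) 0 (by decide))
          · -- 34=(1,3)
            exact False.elim (cert_false T ((skipEmb 2).trans (Function.Embedding.refl _)) (by norm_num) (fun _ => hall _) (((((LB_zero T ((skipEmb 2).trans (Function.Embedding.refl _))).upd 1 3 1 (le_of_eq hx14)).upd 2 3 1 (le_of_eq hx34)).upd 3 1 1 (le_of_eq hx41)).upd 3 2 3 (le_of_eq hx43)) ![0,1,1,2] (by decide) (by decide) 1 (by decide))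
          · -- 34=(3,1)
            exact False.elim (cert_false T ((skipEmb 2).trans (Function.Embedding.refl _)) (by norm_num) (fun _ => hall _) (((((LB_zero T ((skipEmb 2).trans (Function.Embedding.refl _))).upd 1 3 1 (le_of_eq hx14)).upd 2 3 3 (le_of_eq hx34)).upd 3 1 1 (le_of_eq hx41)).upd 3 2 1 (le_of_eq hx43)) ![0,1,3,2] (by decide) (by decide) 1 (by decide))
        · -- 24=(1,1)
          exact False.elim (cert_false T ((skipEmb 3).trans (Function.Embedding.refl _)) (by norm_num) (fun _ => hall _) (((((((((LB_zero T ((skipEmb 3).trans (Function.Embedding.refl _))).upd 0 1 1 (le_of_eq hx01)).upd 0 2 2 (le_of_eq hx02)).upd 1 0 1 (le_of_eq hx10)).upd 1 3 1 (le_of_eq hx14)).upd 2 0 1 (le_of_eq hx20)).upd 2 3 1 (le_of_eq hx24)).upd 3 1 1 (le_of_eq hx41)).upd 3 2 1 (le_of_eq hx42)) ![1,1,1,1] (by decide) (by decide) 0 (by decide))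
        · -- 24=(1,2)
          exact False.elim (cert_false T ((skipEmb 3).trans (Function.Embedding.refl _)) (by norm_num) (fun _ => hall _) (((((LB_zero T ((skipEmb 3).trans (Function.Embedding.refl _))).upd 0 2 2 (le_of_eq hx02)).upd 2 0 1 (le_of_eq hx20)).upd 2 3 1 (le_of_eq hx24)).upd 3 2 2 (le_of_eq hx42)) ![1,0,1,1] (by decide) (by decide) 0 (by decide))
        · -- 24=(2,1)
          exact False.elim (cert_false T ((skipEmb 3).trans (Function.Embedding.refl _)) (by norm_num) (fun _ => hall _) (((((((((LB_zero T ((skipEmb 3).trans (Function.Embedding.refl _))).upd 0 1 1 (le_of_eq hx01)).upd 0 2 2 (le_of_eq hx02)).upd 1 0 1 (le_of_eq hx10)).upd 1 3 1 (le_of_eq hx14)).upd 2 0 1 (le_of_eq hx20)).upd 2 3 2 (le_of_eq hx24)).upd 3 1 1 (le_of_eq hx41)).upd 3 2 1 (le_of_eq hx42)) ![1,1,1,1] (by decide) (by decide) 0 (by decide))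
        · -- 24=(1,3)
          exact False.elim (cert_false T ((skipEmb 3).trans (Function.Embedding.refl _)) (by norm_num) (fun _ => hall _) (((((LB_zero T ((skipEmb 3).trans (Function.Embedding.refl _))).upd 0 2 2 (le_of_eq hx02)).upd 2 0 1 (le_of_eq hx20)).upd 2 3 1 (le_of_eq hx24)).upd 3 2 3 (le_of_eq hx42)) ![1,0,1,1] (by decide) (by decide) 0 (by decide))
        · -- 24=(3,1)
          exact False.elim (cert_false T ((skipEmb 3).trans (Function.Embedding.refl _)) (by norm_num) (fun _ => hall _) (((((((((LB_zero T ((skipEmb 3).trans (Function.Embedding.refl _))).upd 0 1 1 (le_of_eq hx01)).upd 0 2 2 (le_of_eq hx02)).upd 1 0 1 (le_of_eq hx10)).upd 1 3 1 (le_of_eq hx14)).upd 2 0 1 (le_of_eq hx20)).upd 2 3 3 (le_of_eq hx24)).upd 3 1 1 (le_of_eq hx41)).upd 3 2 1 (le_of_eq hx42)) ![1,1,1,1] (by decide) (by decide) 0 (by decide))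
      · -- 14=(1,2)
        exact False.elim (cert_false T ((skipEmb 3).trans (Function.Embedding.refl _)) (by norm_num) (fun _ => hall _) (((((((LB_zero T ((skipEmb 3).trans (Function.Embedding.refl _))).upd 0 1 1 (le_of_eq hx01)).upd 0 2 2 (le_of_eq hx02)).upd 1 0 1 (le_of_eq hx10)).upd 1 3 1 (le_of_eq hx14)).upd 2 0 1 (le_of_eq hx20)).upd 3 1 2 (le_of_eq hx41)) ![2,2,1,2] (by decide) (by decide) 0 (by decide))
      · -- 14=(2,1)
        exact False.elim (cert_false T ((skipEmb 3).trans (Function.Embedding.refl _)) (by norm_num) (fun _ => hall _) (((((((LB_zero T ((skipEmb 3).trans (Function.Embedding.refl _))).upd 0 1 1 (le_of_eq hx01)).upd 0 2 2 (le_of_eq hx02)).upd 1 0 1 (le_of_eq hx10)).upd 1 3 2 (le_of_eq hx14)).upd 2 0 1 (le_of_eq hx20)).upd 3 1 1 (le_of_eq hx41)) ![2,2,1,1] (by decide) (by decide) 0 (by decide))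
      · -- 14=(1,3)
        exact False.elim (cert_false T ((skipEmb 3).trans (Function.Embedding.refl _)) (by norm_num) (fun _ => hall _) (((((((LB_zero T ((skipEmb 3).trans (Function.Embedding.refl _))).upd 0 1 1 (le_of_eq hx01)).upd 0 2 2 (le_of_eq hx02)).upd 1 0 1 (le_of_eq hx10)).upd 1 3 1 (le_of_eq hx14)).upd 2 0 1 (le_of_eq hx20)).upd 3 1 3 (le_of_eq hx41)) ![2,2,1,2] (by decide) (by decide) 0 (by decide))
      · -- 14=(3,1)
        exact False.elim (cert_false T ((skipEmb 3).trans (Function.Embedding.refl _)) (by norm_num) (fun _ => hall _) (((((LB_zero T ((skipEmb 3).trans (Function.Embedding.refl _))).upd 0 1 1 (le_of_eq hx01)).upd 1 0 1 (le_of_eq hx10)).upd 1 3 3 (le_of_eq hx14)).upd 3 1 1 (le_of_eq hx41)) ![1,2,0,1] (by decide) (by decide) 0 (by decide))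
    · -- 04=(1,1)
      exact False.elim (cert_false T ((skipEmb 3).trans (Function.Embedding.refl _)) (by norm_num) (fun _ => hall _) (((((((LB_zero T ((skipEmb 3).trans (Function.Embedding.refl _))).upd 0 1 1 (le_of_eq hx01)).upd 0 2 2 (le_of_eq hx02)).upd 0 3 1 (le_of_eq hx04)).upd 1 0 1 (le_of_eq hx10)).upd 2 0 1 (le_of_eq hx20)).upd 3 0 1 (le_of_eq hx40)) ![2,1,1,1] (by decide) (by decide) 0 (by decide))
    · -- 04=(1,2)
      exact False.elim (cert_false T ((skipEmb 3).trans (Function.Embedding.refl _)) (by norm_num) (fun _ => hall _) (((((LB_zero T ((skipEmb 3).trans (Function.Embedding.refl _))).upd 0 2 2 (le_of_eq hx02)).upd 0 3 1 (le_of_eq hx04)).upd 2 0 1 (le_of_eq hx20)).upd 3 0 2 (le_of_eq hx40)) ![2,0,1,2] (by decide) (by decide) 0 (by decide))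
    · -- 04=(2,1)
      exact False.elim (cert_false T ((skipEmb 3).trans (Function.Embedding.refl _)) (by norm_num) (fun _ => hall _) (((((LB_zero T ((skipEmb 3).trans (Function.Embedding.refl _))).upd 0 2 2 (le_of_eq hx02)).upd 0 3 2 (le_of_eq hx04)).upd 2 0 1 (le_of_eq hx20)).upd 3 0 1 (le_of_eq hx40)) ![2,0,1,1] (by decide) (by decide) 0 (by decide))
    · -- 04=(1,3)
      exact False.elim (cert_false T ((skipEmb 3).trans (Function.Embedding.refl _)) (by norm_num) (fun _ => hall _) (((((LB_zero T ((skipEmb 3).trans (Function.Embedding.refl _))).upd 0 2 2 (le_of_eq hx02)).upd 0 3 1 (le_of_eq hx04)).upd 2 0 1 (le_of_eq hx20)).upd 3 0 3 (le_of_eq hx40)) ![2,0,1,2] (by decide) (by decide) 0 (by decide))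
    · -- 04=(3,1)
      exact False.elim (cert_false T ((skipEmb 3).trans (Function.Embedding.refl _)) (by norm_num) (fun _ => hall _) (((((LB_zero T ((skipEmb 3).trans (Function.Embedding.refl _))).upd 0 2 2 (le_of_eq hx02)).upd 0 3 3 (le_of_eq hx04)).upd 2 0 1 (le_of_eq hx20)).upd 3 0 1 (le_of_eq hx40)) ![2,0,1,1] (by decide) (by decide) 0 (by decide))
  · -- 23=(1,2)
    exact False.elim (cert_false T ((skipEmb 4).trans (Function.Embedding.refl _)) (by norm_num) (fun _ => hall _) (((((LB_zero T ((skipEmb 4).trans (Function.Embedding.refl _))).upd 0 2 2 (le_of_eq hx02)).upd 2 0 1 (le_of_eq hx20)).upd 2 3 1 (le_of_eq hx23)).upd 3 2 2 (le_of_eq hx32)) ![1,0,1,1] (by decide) (by decide) 0 (by decide))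
  · -- 23=(2,1)
    exact False.elim (cert_false T ((skipEmb 4).trans (Function.Embedding.refl _)) (by norm_num) (fun _ => hall _) (((((LB_zero T ((skipEmb 4).trans (Function.Embedding.refl _))).upd 0 2 2 (le_of_eq hx02)).upd 2 0 1 (le_of_eq hx20)).upd 2 3 2 (le_of_eq hx23)).upd 3 2 1 (le_of_eq hx32)) ![2,0,2,1] (by decide) (by decide) 0 (by decide))
  · -- 23=(1,3)
    exact False.elim (cert_false T ((skipEmb 4).trans (Function.Embedding.refl _)) (by norm_num) (fun _ => hall _) (((((LB_zero T ((skipEmb 4).trans (Function.Embedding.refl _))).upd 0 2 2 (le_of_eq hx02)).upd 2 0 1 (le_of_eq hx20)).upd 2 3 1 (le_of_eq hx23)).upd 3 2 3 (le_of_eq hx32)) ![1,0,1,1] (by decide) (by decide) 0 (by decide))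
  · -- 23=(3,1)
    exact False.elim (cert_false T ((skipEmb 4).trans (Function.Embedding.refl _)) (by norm_num) (fun _ => hall _) (((((LB_zero T ((skipEmb 4).trans (Function.Embedding.refl _))).upd 0 2 2 (le_of_eq hx02)).upd 2 0 1 (le_of_eq hx20)).upd 2 3 3 (le_of_eq hx23)).upd 3 2 1 (le_of_eq hx32)) ![1,0,2,1] (by decide) (by decide) 0 (by decide))

theorem case498 (T : NumericalType 5) (hall : ∀ i, T.IsMinusTwo i) (d : SData T)
    (h01 : N T (Function.Embedding.refl _) 0 1 = 1) (h10 : N T (Function.Embedding.refl _) 1 0 = 3)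
    (h02 : N T (Function.Embedding.refl _) 0 2 = 0) (h20 : N T (Function.Embedding.refl _) 2 0 = 0)
    (h12 : N T (Function.Embedding.refl _) 1 2 = 0) (h21 : N T (Function.Embedding.refl _) 2 1 = 0)
    (h03 : N T (Function.Embedding.refl _) 0 3 = 0) (h30 : N T (Function.Embedding.refl _) 3 0 = 0)
    (h13 : N T (Function.Embedding.refl _) 1 3 = 0) (h31 : N T (Function.Embedding.refl _) 3 1 = 0) :
    Goal T := by
  unfold Goal
  have hd := d
  obtain ⟨x01, x02, x03, x04, x10, x12, x13, x14, x20, x21, x23, x24, x30, x31, x32, x34, x40, x41, x42, x43, hx01, hx02, hx03, hx04, hx10, hx12, hx13, hx14, hx20, hx21, hx23, hx24, hx30, hx31, hx32, hx34, hx40, hx41, hx42, hx43, hw0, hm0, hw1, hm1, hw2, hm2, hw3, hm3, hw4, hm4, a00, a01, a02, a03, a04, a11, a10, a12, a13, a14, a22, a20, a21, a23, a24, a33, a30, a31, a32, a34, a44, a40, a41, a42, a43, wN01, wN02, wN12, wN03, wN13, wN23, wN04, wN14, wN24, wN34, e0, e1, e2, e3,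 e4, d01, d02, d12, d03, d13, d23, d04, d14, d24, d34⟩ := d
  obtain rfl : x01 = 1 := hx01.trans h01
  obtain rfl : x10 = 3 := hx10.trans h10
  obtain rfl : x02 = 0 := hx02.trans h02
  obtain rfl : x20 = 0 := hx20.trans h20
  obtain rfl : x12 = 0 := hx12.trans h12
  obtain rfl : x21 = 0 := hx21.trans h21
  obtain rfl : x03 = 0 := hx03.trans h03
  obtain rfl : x30 = 0 := hx30.trans h30
  obtain rfl : x13 = 0 := hx13.trans h13
  obtain rfl : x31 = 0 := hx31.trans h31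
  rcases d23 with ⟨rfl, rfl⟩ | ⟨rfl, rfl⟩ | ⟨rfl, rfl⟩ | ⟨rfl, rfl⟩ | ⟨rfl, rfl⟩ | ⟨rfl, rfl⟩
  · -- 23=(0,0)
    rcases d04 with ⟨rfl, rfl⟩ | ⟨rfl, rfl⟩ | ⟨rfl, rfl⟩ | ⟨rfl, rfl⟩ | ⟨rfl, rfl⟩ | ⟨rfl, rfl⟩
    · -- 04=(0,0)
      rcases d14 with ⟨rfl, rfl⟩ | ⟨rfl, rfl⟩ | ⟨rfl, rfl⟩ | ⟨rfl, rfl⟩ | ⟨rfl, rfl⟩ | ⟨rfl, rfl⟩
      · -- 14=(0,0)
        rcases d24 with ⟨rfl, rfl⟩ | ⟨rfl, rfl⟩ | ⟨rfl, rfl⟩ | ⟨rfl, rfl⟩ | ⟨rfl, rfl⟩ | ⟨rfl, rfl⟩
        · -- 24=(0,0)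
          rcases d34 with ⟨rfl, rfl⟩ | ⟨rfl, rfl⟩ | ⟨rfl, rfl⟩ | ⟨rfl, rfl⟩ | ⟨rfl, rfl⟩ | ⟨rfl, rfl⟩
          · -- 34=(0,0)
            exfalso; omega
          · -- 34=(1,1)
            exfalso; omega
          · -- 34=(1,2)
            exfalso; omega
          · -- 34=(2,1)
            exfalso; omega
          · -- 34=(1,3)
            exfalso; omega
          · -- 34=(3,1)
            exfalso; omega
        · -- 24=(1,1)
          rcases d34 with ⟨rfl, rfl⟩ | ⟨rfl, rfl⟩ | ⟨rfl, rfl⟩ | ⟨rfl, rfl⟩ | ⟨rfl, rfl⟩ | ⟨rfl, rfl⟩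
          · -- 34=(0,0)
            exfalso; omega
          · -- 34=(1,1)
            exfalso; omega
          · -- 34=(1,2)
            exfalso; omega
          · -- 34=(2,1)
            exfalso; omega
          · -- 34=(1,3)
            exact False.elim (cert_false T ((skipEmb 1).trans (Function.Embedding.refl _)) (by norm_num) (fun _ => hall _) (((((LB_zero T ((skipEmb 1).trans (Function.Embedding.refl _))).upd 1 3 1 (le_of_eq hx24)).upd 2 3 1 (le_of_eq hx34)).upd 3 1 1 (le_of_eq hx42)).upd 3 2 3 (le_of_eq hx43)) ![0,1,1,2] (by decide) (by decide) 1 (by decide))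
          · -- 34=(3,1)
            exact False.elim (cert_false T ((skipEmb 1).trans (Function.Embedding.refl _)) (by norm_num) (fun _ => hall _) (((((LB_zero T ((skipEmb 1).trans (Function.Embedding.refl _))).upd 1 3 1 (le_of_eq hx24)).upd 2 3 3 (le_of_eq hx34)).upd 3 1 1 (le_of_eq hx42)).upd 3 2 1 (le_of_eq hx43)) ![0,1,3,2] (by decide) (by decide) 1 (by decide))
        · -- 24=(1,2)
          rcases d34 with ⟨rfl, rfl⟩ | ⟨rfl, rfl⟩ | ⟨rfl, rfl⟩ | ⟨rfl, rfl⟩ | ⟨rfl, rfl⟩ | ⟨rfl, rfl⟩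
          · -- 34=(0,0)
            exfalso; omega
          · -- 34=(1,1)
            exfalso; omega
          · -- 34=(1,2)
            exact False.elim (cert_false T ((skipEmb 1).trans (Function.Embedding.refl _)) (by norm_num) (fun _ => hall _) (((((LB_zero T ((skipEmb 1).trans (Function.Embedding.refl _))).upd 1 3 1 (le_of_eq hx24)).upd 2 3 1 (le_of_eq hx34)).upd 3 1 2 (le_of_eq hx42)).upd 3 2 2 (le_of_eq hx43)) ![0,1,1,2] (by decide) (by decide) 1 (by decide))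
          · -- 34=(2,1)
            exact False.elim (cert_false T ((skipEmb 1).trans (Function.Embedding.refl _)) (by norm_num) (fun _ => hall _) (((((LB_zero T ((skipEmb 1).trans (Function.Embedding.refl _))).upd 1 3 1 (le_of_eq hx24)).upd 2 3 2 (le_of_eq hx34)).upd 3 1 2 (le_of_eq hx42)).upd 3 2 1 (le_of_eq hx43)) ![0,1,2,2] (by decide) (by decide) 1 (by decide))
          · -- 34=(1,3)
            exact False.elim (cert_false T ((skipEmb 1).trans (Function.Embedding.refl _)) (by norm_num) (fun _ => hall _) (((((LB_zero T ((skipEmb 1).trans (Function.Embedding.refl _))).upd 1 3 1 (le_of_eq hx24)).upd 2 3 1 (le_of_eq hx34)).upd 3 1 2 (le_of_eq hx42)).upd 3 2 3 (le_of_eq hx43)) ![0,1,1,2] (by decide) (by decide) 1 (by decide))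
          · -- 34=(3,1)
            exact False.elim (cert_false T ((skipEmb 1).trans (Function.Embedding.refl _)) (by norm_num) (fun _ => hall _) (((((LB_zero T ((skipEmb 1).trans (Function.Embedding.refl _))).upd 1 3 1 (le_of_eq hx24)).upd 2 3 3 (le_of_eq hx34)).upd 3 1 2 (le_of_eq hx42)).upd 3 2 1 (le_of_eq hx43)) ![0,1,2,2] (by decide) (by decide) 1 (by decide))
        · -- 24=(2,1)
          rcases d34 with ⟨rfl, rfl⟩ | ⟨rfl, rfl⟩ | ⟨rfl, rfl⟩ | ⟨rfl, rfl⟩ | ⟨rfl, rfl⟩ | ⟨rfl, rfl⟩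
          · -- 34=(0,0)
            exfalso; omega
          · -- 34=(1,1)
            exfalso; omega
          · -- 34=(1,2)
            exact False.elim (cert_false T ((skipEmb 1).trans (Function.Embedding.refl _)) (by norm_num) (fun _ => hall _) (((((LB_zero T ((skipEmb 1).trans (Function.Embedding.refl _))).upd 1 3 2 (le_of_eq hx24)).upd 2 3 1 (le_of_eq hx34)).upd 3 1 1 (le_of_eq hx42)).upd 3 2 2 (le_of_eq hx43)) ![0,2,1,2] (by decide) (by decide) 1 (by decide))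
          · -- 34=(2,1)
            exact False.elim (cert_false T ((skipEmb 1).trans (Function.Embedding.refl _)) (by norm_num) (fun _ => hall _) (((((LB_zero T ((skipEmb 1).trans (Function.Embedding.refl _))).upd 1 3 2 (le_of_eq hx24)).upd 2 3 2 (le_of_eq hx34)).upd 3 1 1 (le_of_eq hx42)).upd 3 2 1 (le_of_eq hx43)) ![0,1,1,1] (by decide) (by decide) 1 (by decide))
          · -- 34=(1,3)
            exact False.elim (cert_false T ((skipEmb 1).trans (Function.Embedding.refl _)) (by norm_num) (fun _ => hall _) (((((LB_zero T ((skipEmb 1).trans (Function.Embedding.refl _))).upd 1 3 2 (le_of_eq hx24)).upd 2 3 1 (le_of_eq hx34)).upd 3 1 1 (le_of_eq hx42)).upd 3 2 3 (le_of_eq hx43)) ![0,1,1,2] (by decide) (by decide) 1 (by decide))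
          · -- 34=(3,1)
            exact False.elim (cert_false T ((skipEmb 1).trans (Function.Embedding.refl _)) (by norm_num) (fun _ => hall _) (((((LB_zero T ((skipEmb 1).trans (Function.Embedding.refl _))).upd 1 3 2 (le_of_eq hx24)).upd 2 3 3 (le_of_eq hx34)).upd 3 1 1 (le_of_eq hx42)).upd 3 2 1 (le_of_eq hx43)) ![0,1,1,1] (by decide) (by decide) 1 (by decide))
        · -- 24=(1,3)
          rcases d34 with ⟨rfl, rfl⟩ | ⟨rfl, rfl⟩ | ⟨rfl, rfl⟩ | ⟨rfl, rfl⟩ | ⟨rfl, rfl⟩ | ⟨rfl, rfl⟩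
          · -- 34=(0,0)
            exfalso; omega
          · -- 34=(1,1)
            exact False.elim (cert_false T ((skipEmb 1).trans (Function.Embedding.refl _)) (by norm_num) (fun _ => hall _) (((((LB_zero T ((skipEmb 1).trans (Function.Embedding.refl _))).upd 1 3 1 (le_of_eq hx24)).upd 2 3 1 (le_of_eq hx34)).upd 3 1 3 (le_of_eq hx42)).upd 3 2 1 (le_of_eq hx43)) ![0,1,1,2] (by decide) (by decide) 1 (by decide))
          · -- 34=(1,2)
            exact False.elim (cert_false T ((skipEmb 1).trans (Function.Embedding.refl _)) (by norm_num) (fun _ => hall _) (((((LB_zero T ((skipEmb 1).trans (Function.Embedding.refl _))).upd 1 3 1 (le_of_eq hx24)).upd 2 3 1 (le_of_eq hx34)).upd 3 1 3 (le_of_eq hx42)).upd 3 2 2 (le_of_eq hx43)) ![0,1,1,2] (by decide) (by decide) 1 (by decide))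
          · -- 34=(2,1)
            exact False.elim (cert_false T ((skipEmb 1).trans (Function.Embedding.refl _)) (by norm_num) (fun _ => hall _) (((((LB_zero T ((skipEmb 1).trans (Function.Embedding.refl _))).upd 1 3 1 (le_of_eq hx24)).upd 2 3 2 (le_of_eq hx34)).upd 3 1 3 (le_of_eq hx42)).upd 3 2 1 (le_of_eq hx43)) ![0,1,1,2] (by decide) (by decide) 1 (by decide))
          · -- 34=(1,3)
            exact False.elim (cert_false T ((skipEmb 1).trans (Function.Embedding.refl _)) (by norm_num) (fun _ => hall _) (((((LB_zero T ((skipEmb 1).trans (Function.Embedding.refl _))).upd 1 3 1 (le_of_eq hx24)).upd 2 3 1 (le_of_eq hx34)).upd 3 1 3 (le_of_eq hx42)).upd 3 2 3 (le_of_eq hx43)) ![0,1,1,2] (by decide) (by decide) 1 (by decide))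
          · -- 34=(3,1)
            exact False.elim (cert_false T ((skipEmb 1).trans (Function.Embedding.refl _)) (by norm_num) (fun _ => hall _) (((((LB_zero T ((skipEmb 1).trans (Function.Embedding.refl _))).upd 1 3 1 (le_of_eq hx24)).upd 2 3 3 (le_of_eq hx34)).upd 3 1 3 (le_of_eq hx42)).upd 3 2 1 (le_of_eq hx43)) ![0,1,1,2] (by decide) (by decide) 1 (by decide))
        · -- 24=(3,1)
          rcases d34 with ⟨rfl, rfl⟩ | ⟨rfl, rfl⟩ | ⟨rfl, rfl⟩ | ⟨rfl, rfl⟩ | ⟨rfl, rfl⟩ | ⟨rfl, rfl⟩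
          · -- 34=(0,0)
            exfalso; omega
          · -- 34=(1,1)
            exact False.elim (cert_false T ((skipEmb 1).trans (Function.Embedding.refl _)) (by norm_num) (fun _ => hall _) (((((LB_zero T ((skipEmb 1).trans (Function.Embedding.refl _))).upd 1 3 3 (le_of_eq hx24)).upd 2 3 1 (le_of_eq hx34)).upd 3 1 1 (le_of_eq hx42)).upd 3 2 1 (le_of_eq hx43)) ![0,3,1,2] (by decide) (by decide) 1 (by decide))
          · -- 34=(1,2)
            exact False.elim (cert_false T ((skipEmb 1).trans (Function.Embedding.refl _)) (by norm_num) (fun _ => hall _) (((((LB_zero T ((skipEmb 1).trans (Function.Embedding.refl _))).upd 1 3 3 (le_of_eq hx24)).upd 2 3 1 (le_of_eq hx34)).upd 3 1 1 (le_of_eq hx42)).upd 3 2 2 (le_of_eq hx43)) ![0,2,1,2] (by decide) (by decide) 1 (by decide))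
          · -- 34=(2,1)
            exact False.elim (cert_false T ((skipEmb 1).trans (Function.Embedding.refl _)) (by norm_num) (fun _ => hall _) (((((LB_zero T ((skipEmb 1).trans (Function.Embedding.refl _))).upd 1 3 3 (le_of_eq hx24)).upd 2 3 2 (le_of_eq hx34)).upd 3 1 1 (le_of_eq hx42)).upd 3 2 1 (le_of_eq hx43)) ![0,1,1,1] (by decide) (by decide) 1 (by decide))
          · -- 34=(1,3)
            exact False.elim (cert_false T ((skipEmb 1).trans (Function.Embedding.refl _)) (by norm_num) (fun _ => hall _) (((((LB_zero T ((skipEmb 1).trans (Function.Embedding.refl _))).upd 1 3 3 (le_of_eq hx24)).upd 2 3 1 (le_of_eq hx34)).upd 3 1 1 (le_of_eq hx42)).upd 3 2 3 (le_of_eq hx43)) ![0,1,1,2] (by decide) (by decide) 1 (by decide))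
          · -- 34=(3,1)
            exact False.elim (cert_false T ((skipEmb 1).trans (Function.Embedding.refl _)) (by norm_num) (fun _ => hall _) (((((LB_zero T ((skipEmb 1).trans (Function.Embedding.refl _))).upd 1 3 3 (le_of_eq hx24)).upd 2 3 3 (le_of_eq hx34)).upd 3 1 1 (le_of_eq hx42)).upd 3 2 1 (le_of_eq hx43)) ![0,1,1,1] (by decide) (by decide) 1 (by decide))
      · -- 14=(1,1)
        exact False.elim (cert_false T ((skipEmb 3).trans (Function.Embedding.refl _)) (by norm_num) (fun _ => hall _) (((((LB_zero T ((skipEmb 3).trans (Function.Embedding.refl _))).upd 0 1 1 (le_of_eq hx01)).upd 1 0 3 (le_of_eq hx10)).upd 1 3 1 (le_of_eq hx14)).upd 3 1 1 (le_of_eq hx41)) ![1,2,0,1] (by decide) (by decide) 0 (by decide))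
      · -- 14=(1,2)
        exact False.elim (cert_false T ((skipEmb 3).trans (Function.Embedding.refl _)) (by norm_num) (fun _ => hall _) (((((LB_zero T ((skipEmb 3).trans (Function.Embedding.refl _))).upd 0 1 1 (le_of_eq hx01)).upd 1 0 3 (le_of_eq hx10)).upd 1 3 1 (le_of_eq hx14)).upd 3 1 2 (le_of_eq hx41)) ![1,2,0,1] (by decide) (by decide) 0 (by decide))
      · -- 14=(2,1)
        exact False.elim (cert_false T ((skipEmb 3).trans (Function.Embedding.refl _)) (by norm_num) (fun _ => hall _) (((((LB_zero T ((skipEmb 3).trans (Function.Embedding.refl _))).upd 0 1 1 (le_of_eq hx01)).upd 1 0 3 (le_of_eq hx10)).upd 1 3 2 (le_of_eq hx14)).upd 3 1 1 (le_of_eq hx41)) ![1,2,0,1] (by decide) (by decide) 0 (by decide))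
      · -- 14=(1,3)
        exact False.elim (cert_false T ((skipEmb 3).trans (Function.Embedding.refl _)) (by norm_num) (fun _ => hall _) (((((LB_zero T ((skipEmb 3).trans (Function.Embedding.refl _))).upd 0 1 1 (le_of_eq hx01)).upd 1 0 3 (le_of_eq hx10)).upd 1 3 1 (le_of_eq hx14)).upd 3 1 3 (le_of_eq hx41)) ![1,2,0,1] (by decide) (by decide) 0 (by decide))
      · -- 14=(3,1)
        exact False.elim (cert_false T ((skipEmb 3).trans (Function.Embedding.refl _)) (by norm_num) (fun _ => hall _) (((((LB_zero T ((skipEmb 3).trans (Function.Embedding.refl _))).upd 0 1 1 (le_of_eq hx01)).upd 1 0 3 (le_of_eq hx10)).upd 1 3 3 (le_of_eq hx14)).upd 3 1 1 (le_of_eq hx41)) ![1,2,0,1] (by decide) (by decide) 0 (by decide))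
    · -- 04=(1,1)
      exact False.elim (cert_false T ((skipEmb 3).trans (Function.Embedding.refl _)) (by norm_num) (fun _ => hall _) (((((LB_zero T ((skipEmb 3).trans (Function.Embedding.refl _))).upd 0 1 1 (le_of_eq hx01)).upd 0 3 1 (le_of_eq hx04)).upd 1 0 3 (le_of_eq hx10)).upd 3 0 1 (le_of_eq hx40)) ![2,3,0,1] (by decide) (by decide) 0 (by decide))
    · -- 04=(1,2)
      exact False.elim (cert_false T ((skipEmb 3).trans (Function.Embedding.refl _)) (by norm_num) (fun _ => hall _) (((((LB_zero T ((skipEmb 3).trans (Function.Embedding.refl _))).upd 0 1 1 (le_of_eq hx01)).upd 0 3 1 (le_of_eq hx04)).upd 1 0 3 (le_of_eq hx10)).upd 3 0 2 (le_of_eq hx40)) ![1,1,0,1] (by decide) (by decide) 0 (by decide))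
    · -- 04=(2,1)
      exact False.elim (cert_false T ((skipEmb 3).trans (Function.Embedding.refl _)) (by norm_num) (fun _ => hall _) (((((LB_zero T ((skipEmb 3).trans (Function.Embedding.refl _))).upd 0 1 1 (le_of_eq hx01)).upd 0 3 2 (le_of_eq hx04)).upd 1 0 3 (le_of_eq hx10)).upd 3 0 1 (le_of_eq hx40)) ![2,2,0,1] (by decide) (by decide) 0 (by decide))
    · -- 04=(1,3)
      exact False.elim (cert_false T ((skipEmb 3).trans (Function.Embedding.refl _)) (by norm_num) (fun _ => hall _) (((((LB_zero T ((skipEmb 3).trans (Function.Embedding.refl _))).upd 0 1 1 (le_of_eq hx01)).upd 0 3 1 (le_of_eq hx04)).upd 1 0 3 (le_of_eq hx10)).upd 3 0 3 (le_of_eq hx40)) ![1,1,0,1] (by decide) (by decide) 0 (by decide))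
    · -- 04=(3,1)
      exact False.elim (cert_false T ((skipEmb 3).trans (Function.Embedding.refl _)) (by norm_num) (fun _ => hall _) (((((LB_zero T ((skipEmb 3).trans (Function.Embedding.refl _))).upd 0 1 1 (le_of_eq hx01)).upd 0 3 3 (le_of_eq hx04)).upd 1 0 3 (le_of_eq hx10)).upd 3 0 1 (le_of_eq hx40)) ![2,1,0,1] (by decide) (by decide) 0 (by decide))
  · -- 23=(1,1)
    rcases d04 with ⟨rfl, rfl⟩ | ⟨rfl, rfl⟩ | ⟨rfl, rfl⟩ | ⟨rfl, rfl⟩ | ⟨rfl, rfl⟩ | ⟨rfl, rfl⟩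
    · -- 04=(0,0)
      rcases d14 with ⟨rfl, rfl⟩ | ⟨rfl, rfl⟩ | ⟨rfl, rfl⟩ | ⟨rfl, rfl⟩ | ⟨rfl, rfl⟩ | ⟨rfl, rfl⟩
      · -- 14=(0,0)
        rcases d24 with ⟨rfl, rfl⟩ | ⟨rfl, rfl⟩ | ⟨rfl, rfl⟩ | ⟨rfl, rfl⟩ | ⟨rfl, rfl⟩ | ⟨rfl, rfl⟩
        · -- 24=(0,0)
          rcases d34 with ⟨rfl, rfl⟩ | ⟨rfl, rfl⟩ | ⟨rfl, rfl⟩ | ⟨rfl, rfl⟩ | ⟨rfl, rfl⟩ | ⟨rfl, rfl⟩
          · -- 34=(0,0)
            exfalso; omega
          · -- 34=(1,1)
            exfalso; omega
          · -- 34=(1,2)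
            exfalso; omega
          · -- 34=(2,1)
            exfalso; omega
          · -- 34=(1,3)
            exact False.elim (cert_false T ((skipEmb 1).trans (Function.Embedding.refl _)) (by norm_num) (fun _ => hall _) (((((LB_zero T ((skipEmb 1).trans (Function.Embedding.refl _))).upd 1 2 1 (le_of_eq hx23)).upd 2 1 1 (le_of_eq hx32)).upd 2 3 1 (le_of_eq hx34)).upd 3 2 3 (le_of_eq hx43)) ![0,1,2,3] (by decide) (by decide) 1 (by decide))
          · -- 34=(3,1)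
            exact False.elim (cert_false T ((skipEmb 1).trans (Function.Embedding.refl _)) (by norm_num) (fun _ => hall _) (((((LB_zero T ((skipEmb 1).trans (Function.Embedding.refl _))).upd 1 2 1 (le_of_eq hx23)).upd 2 1 1 (le_of_eq hx32)).upd 2 3 3 (le_of_eq hx34)).upd 3 2 1 (le_of_eq hx43)) ![0,1,2,1] (by decide) (by decide) 1 (by decide))
        · -- 24=(1,1)
          rcases d34 with ⟨rfl, rfl⟩ | ⟨rfl, rfl⟩ | ⟨rfl, rfl⟩ | ⟨rfl, rfl⟩ | ⟨rfl, rfl⟩ | ⟨rfl, rfl⟩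
          · -- 34=(0,0)
            exfalso; omega
          · -- 34=(1,1)
            exact False.elim (cert_false T ((skipEmb 1).trans (Function.Embedding.refl _)) (by norm_num) (fun _ => hall _) (((((((LB_zero T ((skipEmb 1).trans (Function.Embedding.refl _))).upd 1 2 1 (le_of_eq hx23)).upd 1 3 1 (le_of_eq hx24)).upd 2 1 1 (le_of_eq hx32)).upd 2 3 1 (le_of_eq hx34)).upd 3 1 1 (le_of_eq hx42)).upd 3 2 1 (le_of_eq hx43)) ![0,1,1,1] (by decide) (by decide) 1 (by decide))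
          · -- 34=(1,2)
            exact False.elim (cert_false T ((skipEmb 1).trans (Function.Embedding.refl _)) (by norm_num) (fun _ => hall _) (((((((LB_zero T ((skipEmb 1).trans (Function.Embedding.refl _))).upd 1 2 1 (le_of_eq hx23)).upd 1 3 1 (le_of_eq hx24)).upd 2 1 1 (le_of_eq hx32)).upd 2 3 1 (le_of_eq hx34)).upd 3 1 1 (le_of_eq hx42)).upd 3 2 2 (le_of_eq hx43)) ![0,1,1,1] (by decide) (by decide) 1 (by decide))
          · -- 34=(2,1)
            exact False.elim (cert_false T ((skipEmb 1).trans (Function.Embedding.refl _)) (by norm_num) (fun _ => hall _) (((((((LB_zero T ((skipEmb 1).trans (Function.Embedding.refl _))).upd 1 2 1 (le_of_eq hx23)).upd 1 3 1 (le_of_eq hx24)).upd 2 1 1 (le_of_eq hx32)).upd 2 3 2 (le_of_eq hx34)).upd 3 1 1 (le_of_eq hx42)).upd 3 2 1 (le_of_eq hx43)) ![0,1,1,1] (by decide) (by decide) 1 (by decide))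
          · -- 34=(1,3)
            exact False.elim (cert_false T ((skipEmb 1).trans (Function.Embedding.refl _)) (by norm_num) (fun _ => hall _) (((((((LB_zero T ((skipEmb 1).trans (Function.Embedding.refl _))).upd 1 2 1 (le_of_eq hx23)).upd 1 3 1 (le_of_eq hx24)).upd 2 1 1 (le_of_eq hx32)).upd 2 3 1 (le_of_eq hx34)).upd 3 1 1 (le_of_eq hx42)).upd 3 2 3 (le_of_eq hx43)) ![0,1,1,1] (by decide) (by decide) 1 (by decide))
          · -- 34=(3,1)
            exact False.elim (cert_false T ((skipEmb 1).trans (Function.Embedding.refl _)) (by norm_num) (fun _ => hall _) (((((((LB_zero T ((skipEmb 1).trans (Function.Embedding.refl _))).upd 1 2 1 (le_of_eq hx23)).upd 1 3 1 (le_of_eq hx24)).upd 2 1 1 (le_of_eq hx32)).upd 2 3 3 (le_of_eq hx34)).upd 3 1 1 (le_of_eq hx42)).upd 3 2 1 (le_of_eq hx43)) ![0,1,1,1] (by decide) (by decide) 1 (by decide))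
        · -- 24=(1,2)
          rcases d34 with ⟨rfl, rfl⟩ | ⟨rfl, rfl⟩ | ⟨rfl, rfl⟩ | ⟨rfl, rfl⟩ | ⟨rfl, rfl⟩ | ⟨rfl, rfl⟩
          · -- 34=(0,0)
            exfalso; omega
          · -- 34=(1,1)
            exact False.elim (cert_false T ((skipEmb 1).trans (Function.Embedding.refl _)) (by norm_num) (fun _ => hall _) (((((((LB_zero T ((skipEmb 1).trans (Function.Embedding.refl _))).upd 1 2 1 (le_of_eq hx23)).upd 1 3 1 (le_of_eq hx24)).upd 2 1 1 (le_of_eq hx32)).upd 2 3 1 (le_of_eq hx34)).upd 3 1 2 (le_of_eq hx42)).upd 3 2 1 (le_of_eq hx43)) ![0,1,1,1] (by decide) (by decide) 1 (by decide))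
          · -- 34=(1,2)
            exact False.elim (cert_false T ((skipEmb 1).trans (Function.Embedding.refl _)) (by norm_num) (fun _ => hall _) (((((((LB_zero T ((skipEmb 1).trans (Function.Embedding.refl _))).upd 1 2 1 (le_of_eq hx23)).upd 1 3 1 (le_of_eq hx24)).upd 2 1 1 (le_of_eq hx32)).upd 2 3 1 (le_of_eq hx34)).upd 3 1 2 (le_of_eq hx42)).upd 3 2 2 (le_of_eq hx43)) ![0,1,1,1] (by decide) (by decide) 1 (by decide))
          · -- 34=(2,1)
            exact False.elim (cert_false T ((skipEmb 1).trans (Function.Embedding.refl _)) (by norm_num) (fun _ => hall _) (((((((LB_zero T ((skipEmb 1).trans (Function.Embedding.refl _))).upd 1 2 1 (le_of_eq hx23)).upd 1 3 1 (le_of_eq hx24)).upd 2 1 1 (le_of_eq hx32)).upd 2 3 2 (le_of_eq hx34)).upd 3 1 2 (le_of_eq hx42)).upd 3 2 1 (le_of_eq hx43)) ![0,1,1,1] (by decide) (by decide) 1 (by decide))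
          · -- 34=(1,3)
            exact False.elim (cert_false T ((skipEmb 1).trans (Function.Embedding.refl _)) (by norm_num) (fun _ => hall _) (((((((LB_zero T ((skipEmb 1).trans (Function.Embedding.refl _))).upd 1 2 1 (le_of_eq hx23)).upd 1 3 1 (le_of_eq hx24)).upd 2 1 1 (le_of_eq hx32)).upd 2 3 1 (le_of_eq hx34)).upd 3 1 2 (le_of_eq hx42)).upd 3 2 3 (le_of_eq hx43)) ![0,1,1,1] (by decide) (by decide) 1 (by decide))
          · -- 34=(3,1)
            exact False.elim (cert_false T ((skipEmb 1).trans (Function.Embedding.refl _)) (by norm_num) (fun _ => hall _) (((((((LB_zero T ((skipEmb 1).trans (Function.Embedding.refl _))).upd 1 2 1 (le_of_eq hx23)).upd 1 3 1 (le_of_eq hx24)).upd 2 1 1 (le_of_eq hx32)).upd 2 3 3 (le_of_eq hx34)).upd 3 1 2 (le_of_eq hx42)).upd 3 2 1 (le_of_eq hx43)) ![0,1,1,1] (by decide) (by decide) 1 (by decide))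
        · -- 24=(2,1)
          rcases d34 with ⟨rfl, rfl⟩ | ⟨rfl, rfl⟩ | ⟨rfl, rfl⟩ | ⟨rfl, rfl⟩ | ⟨rfl, rfl⟩ | ⟨rfl, rfl⟩
          · -- 34=(0,0)
            exfalso; omega
          · -- 34=(1,1)
            exact False.elim (cert_false T ((skipEmb 1).trans (Function.Embedding.refl _)) (by norm_num) (fun _ => hall _) (((((((LB_zero T ((skipEmb 1).trans (Function.Embedding.refl _))).upd 1 2 1 (le_of_eq hx23)).upd 1 3 2 (le_of_eq hx24)).upd 2 1 1 (le_of_eq hx32)).upd 2 3 1 (le_of_eq hx34)).upd 3 1 1 (le_of_eq hx42)).upd 3 2 1 (le_of_eq hx43)) ![0,1,1,1] (by decide) (by decide) 1 (by decide))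
          · -- 34=(1,2)
            exact False.elim (cert_false T ((skipEmb 1).trans (Function.Embedding.refl _)) (by norm_num) (fun _ => hall _) (((((((LB_zero T ((skipEmb 1).trans (Function.Embedding.refl _))).upd 1 2 1 (le_of_eq hx23)).upd 1 3 2 (le_of_eq hx24)).upd 2 1 1 (le_of_eq hx32)).upd 2 3 1 (le_of_eq hx34)).upd 3 1 1 (le_of_eq hx42)).upd 3 2 2 (le_of_eq hx43)) ![0,1,1,1] (by decide) (by decide) 1 (by decide))
          · -- 34=(2,1)
            exact False.elim (cert_false T ((skipEmb 1).trans (Function.Embedding.refl _)) (by norm_num) (fun _ => hall _) (((((((LB_zero T ((skipEmb 1).trans (Function.Embedding.refl _))).upd 1 2 1 (le_of_eq hx23)).upd 1 3 2 (le_of_eq hx24)).upd 2 1 1 (le_of_eq hx32)).upd 2 3 2 (le_of_eq hx34)).upd 3 1 1 (le_of_eq hx42)).upd 3 2 1 (le_of_eq hx43)) ![0,1,1,1] (by decide) (by decide) 1 (by decide))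
          · -- 34=(1,3)
            exact False.elim (cert_false T ((skipEmb 1).trans (Function.Embedding.refl _)) (by norm_num) (fun _ => hall _) (((((((LB_zero T ((skipEmb 1).trans (Function.Embedding.refl _))).upd 1 2 1 (le_of_eq hx23)).upd 1 3 2 (le_of_eq hx24)).upd 2 1 1 (le_of_eq hx32)).upd 2 3 1 (le_of_eq hx34)).upd 3 1 1 (le_of_eq hx42)).upd 3 2 3 (le_of_eq hx43)) ![0,1,1,1] (by decide) (by decide) 1 (by decide))
          · -- 34=(3,1)
            exact False.elim (cert_false T ((skipEmb 1).trans (Function.Embedding.refl _)) (by norm_num) (fun _ => hall _) (((((((LB_zero T ((skipEmb 1).trans (Function.Embedding.refl _))).upd 1 2 1 (le_of_eq hx23)).upd 1 3 2 (le_of_eq hx24)).upd 2 1 1 (le_of_eq hx32)).upd 2 3 3 (le_of_eq hx34)).upd 3 1 1 (le_of_eq hx42)).upd 3 2 1 (le_of_eq hx43)) ![0,1,1,1] (by decide) (by decide) 1 (by decide))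
        · -- 24=(1,3)
          exact False.elim (cert_false T ((skipEmb 1).trans (Function.Embedding.refl _)) (by norm_num) (fun _ => hall _) (((((LB_zero T ((skipEmb 1).trans (Function.Embedding.refl _))).upd 1 2 1 (le_of_eq hx23)).upd 1 3 1 (le_of_eq hx24)).upd 2 1 1 (le_of_eq hx32)).upd 3 1 3 (le_of_eq hx42)) ![0,2,1,3] (by decide) (by decide) 1 (by decide))
        · -- 24=(3,1)
          exact False.elim (cert_false T ((skipEmb 1).trans (Function.Embedding.refl _)) (by norm_num) (fun _ => hall _) (((((LB_zero T ((skipEmb 1).trans (Function.Embedding.refl _))).upd 1 2 1 (le_of_eq hx23)).upd 1 3 3 (le_of_eq hx24)).upd 2 1 1 (le_of_eq hx32)).upd 3 1 1 (le_of_eq hx42)) ![0,2,1,1] (by decide) (by decide) 1 (by decide))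
      · -- 14=(1,1)
        exact False.elim (cert_false T ((skipEmb 3).trans (Function.Embedding.refl _)) (by norm_num) (fun _ => hall _) (((((LB_zero T ((skipEmb 3).trans (Function.Embedding.refl _))).upd 0 1 1 (le_of_eq hx01)).upd 1 0 3 (le_of_eq hx10)).upd 1 3 1 (le_of_eq hx14)).upd 3 1 1 (le_of_eq hx41)) ![1,2,0,1] (by decide) (by decide) 0 (by decide))
      · -- 14=(1,2)
        exact False.elim (cert_false T ((skipEmb 3).trans (Function.Embedding.refl _)) (by norm_num) (fun _ => hall _) (((((LB_zero T ((skipEmb 3).trans (Function.Embedding.refl _))).upd 0 1 1 (le_of_eq hx01)).upd 1 0 3 (le_of_eq hx10)).upd 1 3 1 (le_of_eq hx14)).upd 3 1 2 (le_of_eq hx41)) ![1,2,0,1] (by decide) (by decide) 0 (by decide))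
      · -- 14=(2,1)
        exact False.elim (cert_false T ((skipEmb 3).trans (Function.Embedding.refl _)) (by norm_num) (fun _ => hall _) (((((LB_zero T ((skipEmb 3).trans (Function.Embedding.refl _))).upd 0 1 1 (le_of_eq hx01)).upd 1 0 3 (le_of_eq hx10)).upd 1 3 2 (le_of_eq hx14)).upd 3 1 1 (le_of_eq hx41)) ![1,2,0,1] (by decide) (by decide) 0 (by decide))
      · -- 14=(1,3)
        exact False.elim (cert_false T ((skipEmb 3).trans (Function.Embedding.refl _)) (by norm_num) (fun _ => hall _) (((((LB_zero T ((skipEmb 3).trans (Function.Embedding.refl _))).upd 0 1 1 (le_of_eq hx01)).upd 1 0 3 (le_of_eq hx10)).upd 1 3 1 (le_of_eq hx14)).upd 3 1 3 (le_of_eq hx41)) ![1,2,0,1] (by decide) (by decide) 0 (by decide))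
      · -- 14=(3,1)
        exact False.elim (cert_false T ((skipEmb 3).trans (Function.Embedding.refl _)) (by norm_num) (fun _ => hall _) (((((LB_zero T ((skipEmb 3).trans (Function.Embedding.refl _))).upd 0 1 1 (le_of_eq hx01)).upd 1 0 3 (le_of_eq hx10)).upd 1 3 3 (le_of_eq hx14)).upd 3 1 1 (le_of_eq hx41)) ![1,2,0,1] (by decide) (by decide) 0 (by decide))
    · -- 04=(1,1)
      exact False.elim (cert_false T ((skipEmb 3).trans (Function.Embedding.refl _)) (by norm_num) (fun _ => hall _) (((((LB_zero T ((skipEmb 3).trans (Function.Embedding.refl _))).upd 0 1 1 (le_of_eq hx01)).upd 0 3 1 (le_of_eq hx04)).upd 1 0 3 (le_of_eq hx10)).upd 3 0 1 (le_of_eq hx40)) ![2,3,0,1] (by decide) (by decide) 0 (by decide))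
    · -- 04=(1,2)
      exact False.elim (cert_false T ((skipEmb 3).trans (Function.Embedding.refl _)) (by norm_num) (fun _ => hall _) (((((LB_zero T ((skipEmb 3).trans (Function.Embedding.refl _))).upd 0 1 1 (le_of_eq hx01)).upd 0 3 1 (le_of_eq hx04)).upd 1 0 3 (le_of_eq hx10)).upd 3 0 2 (le_of_eq hx40)) ![1,1,0,1] (by decide) (by decide) 0 (by decide))
    · -- 04=(2,1)
      exact False.elim (cert_false T ((skipEmb 3).trans (Function.Embedding.refl _)) (by norm_num) (fun _ => hall _) (((((LB_zero T ((skipEmb 3).trans (Function.Embedding.refl _))).upd 0 1 1 (le_of_eq hx01)).upd 0 3 2 (le_of_eq hx04)).upd 1 0 3 (le_of_eq hx10)).upd 3 0 1 (le_of_eq hx40)) ![2,2,0,1] (by decide) (by decide) 0 (by decide))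
    · -- 04=(1,3)
      exact False.elim (cert_false T ((skipEmb 3).trans (Function.Embedding.refl _)) (by norm_num) (fun _ => hall _) (((((LB_zero T ((skipEmb 3).trans (Function.Embedding.refl _))).upd 0 1 1 (le_of_eq hx01)).upd 0 3 1 (le_of_eq hx04)).upd 1 0 3 (le_of_eq hx10)).upd 3 0 3 (le_of_eq hx40)) ![1,1,0,1] (by decide) (by decide) 0 (by decide))
    · -- 04=(3,1)
      exact False.elim (cert_false T ((skipEmb 3).trans (Function.Embedding.refl _)) (by norm_num) (fun _ => hall _) (((((LB_zero T ((skipEmb 3).trans (Function.Embedding.refl _))).upd 0 1 1 (le_of_eq hx01)).upd 0 3 3 (le_of_eq hx04)).upd 1 0 3 (le_of_eq hx10)).upd 3 0 1 (le_of_eq hx40)) ![2,1,0,1] (by decide) (by decide) 0 (by decide))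
  · -- 23=(1,2)
    rcases d04 with ⟨rfl, rfl⟩ | ⟨rfl, rfl⟩ | ⟨rfl, rfl⟩ | ⟨rfl, rfl⟩ | ⟨rfl, rfl⟩ | ⟨rfl, rfl⟩
    · -- 04=(0,0)
      rcases d14 with ⟨rfl, rfl⟩ | ⟨rfl, rfl⟩ | ⟨rfl, rfl⟩ | ⟨rfl, rfl⟩ | ⟨rfl, rfl⟩ | ⟨rfl, rfl⟩
      · -- 14=(0,0)
        rcases d24 with ⟨rfl, rfl⟩ | ⟨rfl, rfl⟩ | ⟨rfl, rfl⟩ | ⟨rfl, rfl⟩ | ⟨rfl, rfl⟩ | ⟨rfl, rfl⟩
        · -- 24=(0,0)
          rcases d34 with ⟨rfl, rfl⟩ | ⟨rfl, rfl⟩ | ⟨rfl, rfl⟩ | ⟨rfl, rfl⟩ | ⟨rfl, rfl⟩ | ⟨rfl, rfl⟩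
          · -- 34=(0,0)
            exfalso; omega
          · -- 34=(1,1)
            exfalso; omega
          · -- 34=(1,2)
            exact False.elim (cert_false T ((skipEmb 1).trans (Function.Embedding.refl _)) (by norm_num) (fun _ => hall _) (((((LB_zero T ((skipEmb 1).trans (Function.Embedding.refl _))).upd 1 2 1 (le_of_eq hx23)).upd 2 1 2 (le_of_eq hx32)).upd 2 3 1 (le_of_eq hx34)).upd 3 2 2 (le_of_eq hx43)) ![0,1,2,2] (by decide) (by decide) 1 (by decide))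
          · -- 34=(2,1)
            exact False.elim (cert_false T ((skipEmb 1).trans (Function.Embedding.refl _)) (by norm_num) (fun _ => hall _) (((((LB_zero T ((skipEmb 1).trans (Function.Embedding.refl _))).upd 1 2 1 (le_of_eq hx23)).upd 2 1 2 (le_of_eq hx32)).upd 2 3 2 (le_of_eq hx34)).upd 3 2 1 (le_of_eq hx43)) ![0,1,2,1] (by decide) (by decide) 1 (by decide))
          · -- 34=(1,3)
            exact False.elim (cert_false T ((skipEmb 1).trans (Function.Embedding.refl _)) (by norm_num) (fun _ => hall _) (((((LB_zero T ((skipEmb 1).trans (Function.Embedding.refl _))).upd 1 2 1 (le_of_eq hx23)).upd 2 1 2 (le_of_eq hx32)).upd 2 3 1 (le_of_eq hx34)).upd 3 2 3 (le_of_eq hx43)) ![0,1,2,2] (by decide) (by decide) 1 (by decide))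
          · -- 34=(3,1)
            exact False.elim (cert_false T ((skipEmb 1).trans (Function.Embedding.refl _)) (by norm_num) (fun _ => hall _) (((((LB_zero T ((skipEmb 1).trans (Function.Embedding.refl _))).upd 1 2 1 (le_of_eq hx23)).upd 2 1 2 (le_of_eq hx32)).upd 2 3 3 (le_of_eq hx34)).upd 3 2 1 (le_of_eq hx43)) ![0,1,2,1] (by decide) (by decide) 1 (by decide))
        · -- 24=(1,1)
          rcases d34 with ⟨rfl, rfl⟩ | ⟨rfl, rfl⟩ | ⟨rfl, rfl⟩ | ⟨rfl, rfl⟩ | ⟨rfl, rfl⟩ | ⟨rfl, rfl⟩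
          · -- 34=(0,0)
            exfalso; omega
          · -- 34=(1,1)
            exact False.elim (cert_false T ((skipEmb 1).trans (Function.Embedding.refl _)) (by norm_num) (fun _ => hall _) (((((((LB_zero T ((skipEmb 1).trans (Function.Embedding.refl _))).upd 1 2 1 (le_of_eq hx23)).upd 1 3 1 (le_of_eq hx24)).upd 2 1 2 (le_of_eq hx32)).upd 2 3 1 (le_of_eq hx34)).upd 3 1 1 (le_of_eq hx42)).upd 3 2 1 (le_of_eq hx43)) ![0,1,1,1] (by decide) (by decide) 1 (by decide))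
          · -- 34=(1,2)
            exact False.elim (cert_false T ((skipEmb 1).trans (Function.Embedding.refl _)) (by norm_num) (fun _ => hall _) (((((((LB_zero T ((skipEmb 1).trans (Function.Embedding.refl _))).upd 1 2 1 (le_of_eq hx23)).upd 1 3 1 (le_of_eq hx24)).upd 2 1 2 (le_of_eq hx32)).upd 2 3 1 (le_of_eq hx34)).upd 3 1 1 (le_of_eq hx42)).upd 3 2 2 (le_of_eq hx43)) ![0,1,1,1] (by decide) (by decide) 1 (by decide))
          · -- 34=(2,1)
            exact False.elim (cert_false T ((skipEmb 1).trans (Function.Embedding.refl _)) (by norm_num) (fun _ => hall _) (((((((LB_zero T ((skipEmb 1).trans (Function.Embedding.refl _))).upd 1 2 1 (le_of_eq hx23)).upd 1 3 1 (le_of_eq hx24)).upd 2 1 2 (le_of_eq hx32)).upd 2 3 2 (le_of_eq hx34)).upd 3 1 1 (le_of_eq hx42)).upd 3 2 1 (le_of_eq hx43)) ![0,1,1,1] (by decide) (by decide) 1 (by decide))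
          · -- 34=(1,3)
            exact False.elim (cert_false T ((skipEmb 1).trans (Function.Embedding.refl _)) (by norm_num) (fun _ => hall _) (((((((LB_zero T ((skipEmb 1).trans (Function.Embedding.refl _))).upd 1 2 1 (le_of_eq hx23)).upd 1 3 1 (le_of_eq hx24)).upd 2 1 2 (le_of_eq hx32)).upd 2 3 1 (le_of_eq hx34)).upd 3 1 1 (le_of_eq hx42)).upd 3 2 3 (le_of_eq hx43)) ![0,1,1,1] (by decide) (by decide) 1 (by decide))
          · -- 34=(3,1)
            exact False.elim (cert_false T ((skipEmb 1).trans (Function.Embedding.refl _)) (by norm_num) (fun _ => hall _) (((((((LB_zero T ((skipEmb 1).trans (Function.Embedding.refl _))).upd 1 2 1 (le_of_eq hx23)).upd 1 3 1 (le_of_eq hx24)).upd 2 1 2 (le_of_eq hx32)).upd 2 3 3 (le_of_eq hx34)).upd 3 1 1 (le_of_eq hx42)).upd 3 2 1 (le_of_eq hx43)) ![0,1,1,1] (by decide) (by decide) 1 (by decide))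
        · -- 24=(1,2)
          exact False.elim (cert_false T ((skipEmb 1).trans (Function.Embedding.refl _)) (by norm_num) (fun _ => hall _) (((((LB_zero T ((skipEmb 1).trans (Function.Embedding.refl _))).upd 1 2 1 (le_of_eq hx23)).upd 1 3 1 (le_of_eq hx24)).upd 2 1 2 (le_of_eq hx32)).upd 3 1 2 (le_of_eq hx42)) ![0,1,1,1] (by decide) (by decide) 1 (by decide))
        · -- 24=(2,1)
          exact False.elim (cert_false T ((skipEmb 1).trans (Function.Embedding.refl _)) (by norm_num) (fun _ => hall _) (((((LB_zero T ((skipEmb 1).trans (Function.Embedding.refl _))).upd 1 2 1 (le_of_eq hx23)).upd 1 3 2 (le_of_eq hx24)).upd 2 1 2 (le_of_eq hx32)).upd 3 1 1 (le_of_eq hx42)) ![0,2,2,1] (by decide) (by decide) 1 (by decide))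
        · -- 24=(1,3)
          exact False.elim (cert_false T ((skipEmb 1).trans (Function.Embedding.refl _)) (by norm_num) (fun _ => hall _) (((((LB_zero T ((skipEmb 1).trans (Function.Embedding.refl _))).upd 1 2 1 (le_of_eq hx23)).upd 1 3 1 (le_of_eq hx24)).upd 2 1 2 (le_of_eq hx32)).upd 3 1 3 (le_of_eq hx42)) ![0,1,1,1] (by decide) (by decide) 1 (by decide))
        · -- 24=(3,1)
          exact False.elim (cert_false T ((skipEmb 1).trans (Function.Embedding.refl _)) (by norm_num) (fun _ => hall _) (((((LB_zero T ((skipEmb 1).trans (Function.Embedding.refl _))).upd 1 2 1 (le_of_eq hx23)).upd 1 3 3 (le_of_eq hx24)).upd 2 1 2 (le_of_eq hx32)).upd 3 1 1 (le_of_eq hx42)) ![0,2,1,1] (by decide) (by decide) 1 (by decide))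
      · -- 14=(1,1)
        exact False.elim (cert_false T ((skipEmb 3).trans (Function.Embedding.refl _)) (by norm_num) (fun _ => hall _) (((((LB_zero T ((skipEmb 3).trans (Function.Embedding.refl _))).upd 0 1 1 (le_of_eq hx01)).upd 1 0 3 (le_of_eq hx10)).upd 1 3 1 (le_of_eq hx14)).upd 3 1 1 (le_of_eq hx41)) ![1,2,0,1] (by decide) (by decide) 0 (by decide))
      · -- 14=(1,2)
        exact False.elim (cert_false T ((skipEmb 3).trans (Function.Embedding.refl _)) (by norm_num) (fun _ => hall _) (((((LB_zero T ((skipEmb 3).trans (Function.Embedding.refl _))).upd 0 1 1 (le_of_eq hx01)).upd 1 0 3 (le_of_eq hx10)).upd 1 3 1 (le_of_eq hx14)).upd 3 1 2 (le_of_eq hx41)) ![1,2,0,1] (by decide) (by decide) 0 (by decide))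
      · -- 14=(2,1)
        exact False.elim (cert_false T ((skipEmb 3).trans (Function.Embedding.refl _)) (by norm_num) (fun _ => hall _) (((((LB_zero T ((skipEmb 3).trans (Function.Embedding.refl _))).upd 0 1 1 (le_of_eq hx01)).upd 1 0 3 (le_of_eq hx10)).upd 1 3 2 (le_of_eq hx14)).upd 3 1 1 (le_of_eq hx41)) ![1,2,0,1] (by decide) (by decide) 0 (by decide))
      · -- 14=(1,3)
        exact False.elim (cert_false T ((skipEmb 3).trans (Function.Embedding.refl _)) (by norm_num) (fun _ => hall _) (((((LB_zero T ((skipEmb 3).trans (Function.Embedding.refl _))).upd 0 1 1 (le_of_eq hx01)).upd 1 0 3 (le_of_eq hx10)).upd 1 3 1 (le_of_eq hx14)).upd 3 1 3 (le_of_eq hx41)) ![1,2,0,1] (by decide) (by decide) 0 (by decide))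
      · -- 14=(3,1)
        exact False.elim (cert_false T ((skipEmb 3).trans (Function.Embedding.refl _)) (by norm_num) (fun _ => hall _) (((((LB_zero T ((skipEmb 3).trans (Function.Embedding.refl _))).upd 0 1 1 (le_of_eq hx01)).upd 1 0 3 (le_of_eq hx10)).upd 1 3 3 (le_of_eq hx14)).upd 3 1 1 (le_of_eq hx41)) ![1,2,0,1] (by decide) (by decide) 0 (by decide))
    · -- 04=(1,1)
      exact False.elim (cert_false T ((skipEmb 3).trans (Function.Embedding.refl _)) (by norm_num) (fun _ => hall _) (((((LB_zero T ((skipEmb 3).trans (Function.Embedding.refl _))).upd 0 1 1 (le_of_eq hx01)).upd 0 3 1 (le_of_eq hx04)).upd 1 0 3 (le_of_eq hx10)).upd 3 0 1 (le_of_eq hx40)) ![2,3,0,1] (by decide) (by decide) 0 (by decide))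
    · -- 04=(1,2)
      exact False.elim (cert_false T ((skipEmb 3).trans (Function.Embedding.refl _)) (by norm_num) (fun _ => hall _) (((((LB_zero T ((skipEmb 3).trans (Function.Embedding.refl _))).upd 0 1 1 (le_of_eq hx01)).upd 0 3 1 (le_of_eq hx04)).upd 1 0 3 (le_of_eq hx10)).upd 3 0 2 (le_of_eq hx40)) ![1,1,0,1] (by decide) (by decide) 0 (by decide))
    · -- 04=(2,1)
      exact False.elim (cert_false T ((skipEmb 3).trans (Function.Embedding.refl _)) (by norm_num) (fun _ => hall _) (((((LB_zero T ((skipEmb 3).trans (Function.Embedding.refl _))).upd 0 1 1 (le_of_eq hx01)).upd 0 3 2 (le_of_eq hx04)).upd 1 0 3 (le_of_eq hx10)).upd 3 0 1 (le_of_eq hx40)) ![2,2,0,1] (by decide) (by decide) 0 (by decide))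
    · -- 04=(1,3)
      exact False.elim (cert_false T ((skipEmb 3).trans (Function.Embedding.refl _)) (by norm_num) (fun _ => hall _) (((((LB_zero T ((skipEmb 3).trans (Function.Embedding.refl _))).upd 0 1 1 (le_of_eq hx01)).upd 0 3 1 (le_of_eq hx04)).upd 1 0 3 (le_of_eq hx10)).upd 3 0 3 (le_of_eq hx40)) ![1,1,0,1] (by decide) (by decide) 0 (by decide))
    · -- 04=(3,1)
      exact False.elim (cert_false T ((skipEmb 3).trans (Function.Embedding.refl _)) (by norm_num) (fun _ => hall _) (((((LB_zero T ((skipEmb 3).trans (Function.Embedding.refl _))).upd 0 1 1 (le_of_eq hx01)).upd 0 3 3 (le_of_eq hx04)).upd 1 0 3 (le_of_eq hx10)).upd 3 0 1 (le_of_eq hx40)) ![2,1,0,1] (by decide) (by decide) 0 (by decide))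
  · -- 23=(2,1)
    rcases d04 with ⟨rfl, rfl⟩ | ⟨rfl, rfl⟩ | ⟨rfl, rfl⟩ | ⟨rfl, rfl⟩ | ⟨rfl, rfl⟩ | ⟨rfl, rfl⟩
    · -- 04=(0,0)
      rcases d14 with ⟨rfl, rfl⟩ | ⟨rfl, rfl⟩ | ⟨rfl, rfl⟩ | ⟨rfl, rfl⟩ | ⟨rfl, rfl⟩ | ⟨rfl, rfl⟩
      · -- 14=(0,0)
        rcases d24 with ⟨rfl, rfl⟩ | ⟨rfl, rfl⟩ | ⟨rfl, rfl⟩ | ⟨rfl, rfl⟩ | ⟨rfl, rfl⟩ | ⟨rfl, rfl⟩
        · -- 24=(0,0)
          rcases d34 with ⟨rfl, rfl⟩ | ⟨rfl, rfl⟩ | ⟨rfl, rfl⟩ | ⟨rfl, rfl⟩ | ⟨rfl, rfl⟩ | ⟨rfl, rfl⟩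
          · -- 34=(0,0)
            exfalso; omega
          · -- 34=(1,1)
            exfalso; omega
          · -- 34=(1,2)
            exact False.elim (cert_false T ((skipEmb 1).trans (Function.Embedding.refl _)) (by norm_num) (fun _ => hall _) (((((LB_zero T ((skipEmb 1).trans (Function.Embedding.refl _))).upd 1 2 2 (le_of_eq hx23)).upd 2 1 1 (le_of_eq hx32)).upd 2 3 1 (le_of_eq hx34)).upd 3 2 2 (le_of_eq hx43)) ![0,1,1,1] (by decide) (by decide) 1 (by decide))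
          · -- 34=(2,1)
            exact False.elim (cert_false T ((skipEmb 1).trans (Function.Embedding.refl _)) (by norm_num) (fun _ => hall _) (((((LB_zero T ((skipEmb 1).trans (Function.Embedding.refl _))).upd 1 2 2 (le_of_eq hx23)).upd 2 1 1 (le_of_eq hx32)).upd 2 3 2 (le_of_eq hx34)).upd 3 2 1 (le_of_eq hx43)) ![0,2,2,1] (by decide) (by decide) 1 (by decide))
          · -- 34=(1,3)
            exact False.elim (cert_false T ((skipEmb 1).trans (Function.Embedding.refl _)) (by norm_num) (fun _ => hall _) (((((LB_zero T ((skipEmb 1).trans (Function.Embedding.refl _))).upd 1 2 2 (le_of_eq hx23)).upd 2 1 1 (le_of_eq hx32)).upd 2 3 1 (le_of_eq hx34)).upd 3 2 3 (le_of_eq hx43)) ![0,1,1,1] (by decide) (by decide) 1 (by decide))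
          · -- 34=(3,1)
            exact False.elim (cert_false T ((skipEmb 1).trans (Function.Embedding.refl _)) (by norm_num) (fun _ => hall _) (((((LB_zero T ((skipEmb 1).trans (Function.Embedding.refl _))).upd 1 2 2 (le_of_eq hx23)).upd 2 1 1 (le_of_eq hx32)).upd 2 3 3 (le_of_eq hx34)).upd 3 2 1 (le_of_eq hx43)) ![0,1,2,1] (by decide) (by decide) 1 (by decide))
        · -- 24=(1,1)
          rcases d34 with ⟨rfl, rfl⟩ | ⟨rfl, rfl⟩ | ⟨rfl, rfl⟩ | ⟨rfl, rfl⟩ | ⟨rfl, rfl⟩ | ⟨rfl, rfl⟩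
          · -- 34=(0,0)
            exfalso; omega
          · -- 34=(1,1)
            exact False.elim (cert_false T ((skipEmb 1).trans (Function.Embedding.refl _)) (by norm_num) (fun _ => hall _) (((((((LB_zero T ((skipEmb 1).trans (Function.Embedding.refl _))).upd 1 2 2 (le_of_eq hx23)).upd 1 3 1 (le_of_eq hx24)).upd 2 1 1 (le_of_eq hx32)).upd 2 3 1 (le_of_eq hx34)).upd 3 1 1 (le_of_eq hx42)).upd 3 2 1 (le_of_eq hx43)) ![0,1,1,1] (by decide) (by decide) 1 (by decide))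
          · -- 34=(1,2)
            exact False.elim (cert_false T ((skipEmb 1).trans (Function.Embedding.refl _)) (by norm_num) (fun _ => hall _) (((((((LB_zero T ((skipEmb 1).trans (Function.Embedding.refl _))).upd 1 2 2 (le_of_eq hx23)).upd 1 3 1 (le_of_eq hx24)).upd 2 1 1 (le_of_eq hx32)).upd 2 3 1 (le_of_eq hx34)).upd 3 1 1 (le_of_eq hx42)).upd 3 2 2 (le_of_eq hx43)) ![0,1,1,1] (by decide) (by decide) 1 (by decide))
          · -- 34=(2,1)
            exact False.elim (cert_false T ((skipEmb 1).trans (Function.Embedding.refl _)) (by norm_num) (fun _ => hall _) (((((((LB_zero T ((skipEmb 1).trans (Function.Embedding.refl _))).upd 1 2 2 (le_of_eq hx23)).upd 1 3 1 (le_of_eq hx24)).upd 2 1 1 (le_of_eq hx32)).upd 2 3 2 (le_of_eq hx34)).upd 3 1 1 (le_of_eq hx42)).upd 3 2 1 (le_of_eq hx43)) ![0,1,1,1] (by decide) (by decide) 1 (by decide))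
          · -- 34=(1,3)
            exact False.elim (cert_false T ((skipEmb 1).trans (Function.Embedding.refl _)) (by norm_num) (fun _ => hall _) (((((((LB_zero T ((skipEmb 1).trans (Function.Embedding.refl _))).upd 1 2 2 (le_of_eq hx23)).upd 1 3 1 (le_of_eq hx24)).upd 2 1 1 (le_of_eq hx32)).upd 2 3 1 (le_of_eq hx34)).upd 3 1 1 (le_of_eq hx42)).upd 3 2 3 (le_of_eq hx43)) ![0,1,1,1] (by decide) (by decide) 1 (by decide))
          · -- 34=(3,1)
            exact False.elim (cert_false T ((skipEmb 1).trans (Function.Embedding.refl _)) (by norm_num) (fun _ => hall _) (((((((LB_zero T ((skipEmb 1).trans (Function.Embedding.refl _))).upd 1 2 2 (le_of_eq hx23)).upd 1 3 1 (le_of_eq hx24)).upd 2 1 1 (le_of_eq hx32)).upd 2 3 3 (le_of_eq hx34)).upd 3 1 1 (le_of_eq hx42)).upd 3 2 1 (le_of_eq hx43)) ![0,1,1,1] (by decide) (by decide) 1 (by decide))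
        · -- 24=(1,2)
          exact False.elim (cert_false T ((skipEmb 1).trans (Function.Embedding.refl _)) (by norm_num) (fun _ => hall _) (((((LB_zero T ((skipEmb 1).trans (Function.Embedding.refl _))).upd 1 2 2 (le_of_eq hx23)).upd 1 3 1 (le_of_eq hx24)).upd 2 1 1 (le_of_eq hx32)).upd 3 1 2 (le_of_eq hx42)) ![0,2,1,2] (by decide) (by decide) 1 (by decide))
        · -- 24=(2,1)
          exact False.elim (cert_false T ((skipEmb 1).trans (Function.Embedding.refl _)) (by norm_num) (fun _ => hall _) (((((LB_zero T ((skipEmb 1).trans (Function.Embedding.refl _))).upd 1 2 2 (le_of_eq hx23)).upd 1 3 2 (le_of_eq hx24)).upd 2 1 1 (le_of_eq hx32)).upd 3 1 1 (le_of_eq hx42)) ![0,2,1,1] (by decide) (by decide) 1 (by decide))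
        · -- 24=(1,3)
          exact False.elim (cert_false T ((skipEmb 1).trans (Function.Embedding.refl _)) (by norm_num) (fun _ => hall _) (((((LB_zero T ((skipEmb 1).trans (Function.Embedding.refl _))).upd 1 2 2 (le_of_eq hx23)).upd 1 3 1 (le_of_eq hx24)).upd 2 1 1 (le_of_eq hx32)).upd 3 1 3 (le_of_eq hx42)) ![0,2,1,2] (by decide) (by decide) 1 (by decide))
        · -- 24=(3,1)
          exact False.elim (cert_false T ((skipEmb 1).trans (Function.Embedding.refl _)) (by norm_num) (fun _ => hall _) (((((LB_zero T ((skipEmb 1).trans (Function.Embedding.refl _))).upd 1 2 2 (le_of_eq hx23)).upd 1 3 3 (le_of_eq hx24)).upd 2 1 1 (le_of_eq hx32)).upd 3 1 1 (le_of_eq hx42)) ![0,2,1,1] (by decide) (by decide) 1 (by decide))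
      · -- 14=(1,1)
        exact False.elim (cert_false T ((skipEmb 3).trans (Function.Embedding.refl _)) (by norm_num) (fun _ => hall _) (((((LB_zero T ((skipEmb 3).trans (Function.Embedding.refl _))).upd 0 1 1 (le_of_eq hx01)).upd 1 0 3 (le_of_eq hx10)).upd 1 3 1 (le_of_eq hx14)).upd 3 1 1 (le_of_eq hx41)) ![1,2,0,1] (by decide) (by decide) 0 (by decide))
      · -- 14=(1,2)
        exact False.elim (cert_false T ((skipEmb 3).trans (Function.Embedding.refl _)) (by norm_num) (fun _ => hall _) (((((LB_zero T ((skipEmb 3).trans (Function.Embedding.refl _))).upd 0 1 1 (le_of_eq hx01)).upd 1 0 3 (le_of_eq hx10)).upd 1 3 1 (le_of_eq hx14)).upd 3 1 2 (le_of_eq hx41)) ![1,2,0,1] (by decide) (by decide) 0 (by decide))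
      · -- 14=(2,1)
        exact False.elim (cert_false T ((skipEmb 3).trans (Function.Embedding.refl _)) (by norm_num) (fun _ => hall _) (((((LB_zero T ((skipEmb 3).trans (Function.Embedding.refl _))).upd 0 1 1 (le_of_eq hx01)).upd 1 0 3 (le_of_eq hx10)).upd 1 3 2 (le_of_eq hx14)).upd 3 1 1 (le_of_eq hx41)) ![1,2,0,1] (by decide) (by decide) 0 (by decide))
      · -- 14=(1,3)
        exact False.elim (cert_false T ((skipEmb 3).trans (Function.Embedding.refl _)) (by norm_num) (fun _ => hall _) (((((LB_zero T ((skipEmb 3).trans (Function.Embedding.refl _))).upd 0 1 1 (le_of_eq hx01)).upd 1 0 3 (le_of_eq hx10)).upd 1 3 1 (le_of_eq hx14)).upd 3 1 3 (le_of_eq hx41)) ![1,2,0,1] (by decide) (by decide) 0 (by decide))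
      · -- 14=(3,1)
        exact False.elim (cert_false T ((skipEmb 3).trans (Function.Embedding.refl _)) (by norm_num) (fun _ => hall _) (((((LB_zero T ((skipEmb 3).trans (Function.Embedding.refl _))).upd 0 1 1 (le_of_eq hx01)).upd 1 0 3 (le_of_eq hx10)).upd 1 3 3 (le_of_eq hx14)).upd 3 1 1 (le_of_eq hx41)) ![1,2,0,1] (by decide) (by decide) 0 (by decide))
    · -- 04=(1,1)
      exact False.elim (cert_false T ((skipEmb 3).trans (Function.Embedding.refl _)) (by norm_num) (fun _ => hall _) (((((LB_zero T ((skipEmb 3).trans (Function.Embedding.refl _))).upd 0 1 1 (le_of_eq hx01)).upd 0 3 1 (le_of_eq hx04)).upd 1 0 3 (le_of_eq hx10)).upd 3 0 1 (le_of_eq hx40)) ![2,3,0,1] (by decide) (by decide) 0 (by decide))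
    · -- 04=(1,2)
      exact False.elim (cert_false T ((skipEmb 3).trans (Function.Embedding.refl _)) (by norm_num) (fun _ => hall _) (((((LB_zero T ((skipEmb 3).trans (Function.Embedding.refl _))).upd 0 1 1 (le_of_eq hx01)).upd 0 3 1 (le_of_eq hx04)).upd 1 0 3 (le_of_eq hx10)).upd 3 0 2 (le_of_eq hx40)) ![1,1,0,1] (by decide) (by decide) 0 (by decide))
    · -- 04=(2,1)
      exact False.elim (cert_false T ((skipEmb 3).trans (Function.Embedding.refl _)) (by norm_num) (fun _ => hall _) (((((LB_zero T ((skipEmb 3).trans (Function.Embedding.refl _))).upd 0 1 1 (le_of_eq hx01)).upd 0 3 2 (le_of_eq hx04)).upd 1 0 3 (le_of_eq hx10)).upd 3 0 1 (le_of_eq hx40)) ![2,2,0,1] (by decide) (by decide) 0 (by decide))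
    · -- 04=(1,3)
      exact False.elim (cert_false T ((skipEmb 3).trans (Function.Embedding.refl _)) (by norm_num) (fun _ => hall _) (((((LB_zero T ((skipEmb 3).trans (Function.Embedding.refl _))).upd 0 1 1 (le_of_eq hx01)).upd 0 3 1 (le_of_eq hx04)).upd 1 0 3 (le_of_eq hx10)).upd 3 0 3 (le_of_eq hx40)) ![1,1,0,1] (by decide) (by decide) 0 (by decide))
    · -- 04=(3,1)
      exact False.elim (cert_false T ((skipEmb 3).trans (Function.Embedding.refl _)) (by norm_num) (fun _ => hall _) (((((LB_zero T ((skipEmb 3).trans (Function.Embedding.refl _))).upd 0 1 1 (le_of_eq hx01)).upd 0 3 3 (le_of_eq hx04)).upd 1 0 3 (le_of_eq hx10)).upd 3 0 1 (le_of_eq hx40)) ![2,1,0,1] (by decide) (by decide) 0 (by decide))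
  · -- 23=(1,3)
    rcases d04 with ⟨rfl, rfl⟩ | ⟨rfl, rfl⟩ | ⟨rfl, rfl⟩ | ⟨rfl, rfl⟩ | ⟨rfl, rfl⟩ | ⟨rfl, rfl⟩
    · -- 04=(0,0)
      rcases d14 with ⟨rfl, rfl⟩ | ⟨rfl, rfl⟩ | ⟨rfl, rfl⟩ | ⟨rfl, rfl⟩ | ⟨rfl, rfl⟩ | ⟨rfl, rfl⟩
      · -- 14=(0,0)
        rcases d24 with ⟨rfl, rfl⟩ | ⟨rfl, rfl⟩ | ⟨rfl, rfl⟩ | ⟨rfl, rfl⟩ | ⟨rfl, rfl⟩ | ⟨rfl, rfl⟩
        · -- 24=(0,0)
          rcases d34 with ⟨rfl, rfl⟩ | ⟨rfl, rfl⟩ | ⟨rfl, rfl⟩ | ⟨rfl, rfl⟩ | ⟨rfl, rfl⟩ | ⟨rfl, rfl⟩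
          · -- 34=(0,0)
            exfalso; omega
          · -- 34=(1,1)
            exact False.elim (cert_false T ((skipEmb 1).trans (Function.Embedding.refl _)) (by norm_num) (fun _ => hall _) (((((LB_zero T ((skipEmb 1).trans (Function.Embedding.refl _))).upd 1 2 1 (le_of_eq hx23)).upd 2 1 3 (le_of_eq hx32)).upd 2 3 1 (le_of_eq hx34)).upd 3 2 1 (le_of_eq hx43)) ![0,1,2,1] (by decide) (by decide) 1 (by decide))
          · -- 34=(1,2)
            exact False.elim (cert_false T ((skipEmb 1).trans (Function.Embedding.refl _)) (by norm_num) (fun _ => hall _) (((((LB_zero T ((skipEmb 1).trans (Function.Embedding.refl _))).upd 1 2 1 (le_of_eq hx23)).upd 2 1 3 (le_of_eq hx32)).upd 2 3 1 (le_of_eq hx34)).upd 3 2 2 (le_of_eq hx43)) ![0,1,2,1] (by decide) (by decide) 1 (by decide))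
          · -- 34=(2,1)
            exact False.elim (cert_false T ((skipEmb 1).trans (Function.Embedding.refl _)) (by norm_num) (fun _ => hall _) (((((LB_zero T ((skipEmb 1).trans (Function.Embedding.refl _))).upd 1 2 1 (le_of_eq hx23)).upd 2 1 3 (le_of_eq hx32)).upd 2 3 2 (le_of_eq hx34)).upd 3 2 1 (le_of_eq hx43)) ![0,1,2,1] (by decide) (by decide) 1 (by decide))
          · -- 34=(1,3)
            exact False.elim (cert_false T ((skipEmb 1).trans (Function.Embedding.refl _)) (by norm_num) (fun _ => hall _) (((((LB_zero T ((skipEmb 1).trans (Function.Embedding.refl _))).upd 1 2 1 (le_of_eq hx23)).upd 2 1 3 (le_of_eq hx32)).upd 2 3 1 (le_of_eq hx34)).upd 3 2 3 (le_of_eq hx43)) ![0,1,2,1] (by decide) (by decide) 1 (by decide))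
          · -- 34=(3,1)
            exact False.elim (cert_false T ((skipEmb 1).trans (Function.Embedding.refl _)) (by norm_num) (fun _ => hall _) (((((LB_zero T ((skipEmb 1).trans (Function.Embedding.refl _))).upd 1 2 1 (le_of_eq hx23)).upd 2 1 3 (le_of_eq hx32)).upd 2 3 3 (le_of_eq hx34)).upd 3 2 1 (le_of_eq hx43)) ![0,1,2,1] (by decide) (by decide) 1 (by decide))
        · -- 24=(1,1)
          exact False.elim (cert_false T ((skipEmb 1).trans (Function.Embedding.refl _)) (by norm_num) (fun _ => hall _) (((((LB_zero T ((skipEmb 1).trans (Function.Embedding.refl _))).upd 1 2 1 (le_of_eq hx23)).upd 1 3 1 (le_of_eq hx24)).upd 2 1 3 (le_of_eq hx32)).upd 3 1 1 (le_of_eq hx42)) ![0,2,3,1] (by decide) (by decide) 1 (by decide))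
        · -- 24=(1,2)
          exact False.elim (cert_false T ((skipEmb 1).trans (Function.Embedding.refl _)) (by norm_num) (fun _ => hall _) (((((LB_zero T ((skipEmb 1).trans (Function.Embedding.refl _))).upd 1 2 1 (le_of_eq hx23)).upd 1 3 1 (le_of_eq hx24)).upd 2 1 3 (le_of_eq hx32)).upd 3 1 2 (le_of_eq hx42)) ![0,1,1,1] (by decide) (by decide) 1 (by decide))
        · -- 24=(2,1)
          exact False.elim (cert_false T ((skipEmb 1).trans (Function.Embedding.refl _)) (by norm_num) (fun _ => hall _) (((((LB_zero T ((skipEmb 1).trans (Function.Embedding.refl _))).upd 1 2 1 (le_of_eq hx23)).upd 1 3 2 (le_of_eq hx24)).upd 2 1 3 (le_of_eq hx32)).upd 3 1 1 (le_of_eq hx42)) ![0,2,2,1] (by decide) (by decide) 1 (by decide))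
        · -- 24=(1,3)
          exact False.elim (cert_false T ((skipEmb 1).trans (Function.Embedding.refl _)) (by norm_num) (fun _ => hall _) (((((LB_zero T ((skipEmb 1).trans (Function.Embedding.refl _))).upd 1 2 1 (le_of_eq hx23)).upd 1 3 1 (le_of_eq hx24)).upd 2 1 3 (le_of_eq hx32)).upd 3 1 3 (le_of_eq hx42)) ![0,1,1,1] (by decide) (by decide) 1 (by decide))
        · -- 24=(3,1)
          exact False.elim (cert_false T ((skipEmb 1).trans (Function.Embedding.refl _)) (by norm_num) (fun _ => hall _) (((((LB_zero T ((skipEmb 1).trans (Function.Embedding.refl _))).upd 1 2 1 (le_of_eq hx23)).upd 1 3 3 (le_of_eq hx24)).upd 2 1 3 (le_of_eq hx32)).upd 3 1 1 (le_of_eq hx42)) ![0,2,1,1] (by decide) (by decide) 1 (by decide))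
      · -- 14=(1,1)
        exact False.elim (cert_false T ((skipEmb 3).trans (Function.Embedding.refl _)) (by norm_num) (fun _ => hall _) (((((LB_zero T ((skipEmb 3).trans (Function.Embedding.refl _))).upd 0 1 1 (le_of_eq hx01)).upd 1 0 3 (le_of_eq hx10)).upd 1 3 1 (le_of_eq hx14)).upd 3 1 1 (le_of_eq hx41)) ![1,2,0,1] (by decide) (by decide) 0 (by decide))
      · -- 14=(1,2)
        exact False.elim (cert_false T ((skipEmb 3).trans (Function.Embedding.refl _)) (by norm_num) (fun _ => hall _) (((((LB_zero T ((skipEmb 3).trans (Function.Embedding.refl _))).upd 0 1 1 (le_of_eq hx01)).upd 1 0 3 (le_of_eq hx10)).upd 1 3 1 (le_of_eq hx14)).upd 3 1 2 (le_of_eq hx41)) ![1,2,0,1] (by decide) (by decide) 0 (by decide))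
      · -- 14=(2,1)
        exact False.elim (cert_false T ((skipEmb 3).trans (Function.Embedding.refl _)) (by norm_num) (fun _ => hall _) (((((LB_zero T ((skipEmb 3).trans (Function.Embedding.refl _))).upd 0 1 1 (le_of_eq hx01)).upd 1 0 3 (le_of_eq hx10)).upd 1 3 2 (le_of_eq hx14)).upd 3 1 1 (le_of_eq hx41)) ![1,2,0,1] (by decide) (by decide) 0 (by decide))
      · -- 14=(1,3)
        exact False.elim (cert_false T ((skipEmb 3).trans (Function.Embedding.refl _)) (by norm_num) (fun _ => hall _) (((((LB_zero T ((skipEmb 3).trans (Function.Embedding.refl _))).upd 0 1 1 (le_of_eq hx01)).upd 1 0 3 (le_of_eq hx10)).upd 1 3 1 (le_of_eq hx14)).upd 3 1 3 (le_of_eq hx41)) ![1,2,0,1] (by decide) (by decide) 0 (by decide))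
      · -- 14=(3,1)
        exact False.elim (cert_false T ((skipEmb 3).trans (Function.Embedding.refl _)) (by norm_num) (fun _ => hall _) (((((LB_zero T ((skipEmb 3).trans (Function.Embedding.refl _))).upd 0 1 1 (le_of_eq hx01)).upd 1 0 3 (le_of_eq hx10)).upd 1 3 3 (le_of_eq hx14)).upd 3 1 1 (le_of_eq hx41)) ![1,2,0,1] (by decide) (by decide) 0 (by decide))
    · -- 04=(1,1)
      exact False.elim (cert_false T ((skipEmb 3).trans (Function.Embedding.refl _)) (by norm_num) (fun _ => hall _) (((((LB_zero T ((skipEmb 3).trans (Function.Embedding.refl _))).upd 0 1 1 (le_of_eq hx01)).upd 0 3 1 (le_of_eq hx04)).upd 1 0 3 (le_of_eq hx10)).upd 3 0 1 (le_of_eq hx40)) ![2,3,0,1] (by decide) (by decide) 0 (by decide))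
    · -- 04=(1,2)
      exact False.elim (cert_false T ((skipEmb 3).trans (Function.Embedding.refl _)) (by norm_num) (fun _ => hall _) (((((LB_zero T ((skipEmb 3).trans (Function.Embedding.refl _))).upd 0 1 1 (le_of_eq hx01)).upd 0 3 1 (le_of_eq hx04)).upd 1 0 3 (le_of_eq hx10)).upd 3 0 2 (le_of_eq hx40)) ![1,1,0,1] (by decide) (by decide) 0 (by decide))
    · -- 04=(2,1)
      exact False.elim (cert_false T ((skipEmb 3).trans (Function.Embedding.refl _)) (by norm_num) (fun _ => hall _) (((((LB_zero T ((skipEmb 3).trans (Function.Embedding.refl _))).upd 0 1 1 (le_of_eq hx01)).upd 0 3 2 (le_of_eq hx04)).upd 1 0 3 (le_of_eq hx10)).upd 3 0 1 (le_of_eq hx40)) ![2,2,0,1] (by decide) (by decide) 0 (by decide))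
    · -- 04=(1,3)
      exact False.elim (cert_false T ((skipEmb 3).trans (Function.Embedding.refl _)) (by norm_num) (fun _ => hall _) (((((LB_zero T ((skipEmb 3).trans (Function.Embedding.refl _))).upd 0 1 1 (le_of_eq hx01)).upd 0 3 1 (le_of_eq hx04)).upd 1 0 3 (le_of_eq hx10)).upd 3 0 3 (le_of_eq hx40)) ![1,1,0,1] (by decide) (by decide) 0 (by decide))
    · -- 04=(3,1)
      exact False.elim (cert_false T ((skipEmb 3).trans (Function.Embedding.refl _)) (by norm_num) (fun _ => hall _) (((((LB_zero T ((skipEmb 3).trans (Function.Embedding.refl _))).upd 0 1 1 (le_of_eq hx01)).upd 0 3 3 (le_of_eq hx04)).upd 1 0 3 (le_of_eq hx10)).upd 3 0 1 (le_of_eq hx40)) ![2,1,0,1] (by decide) (by decide) 0 (by decide))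
  · -- 23=(3,1)
    rcases d04 with ⟨rfl, rfl⟩ | ⟨rfl, rfl⟩ | ⟨rfl, rfl⟩ | ⟨rfl, rfl⟩ | ⟨rfl, rfl⟩ | ⟨rfl, rfl⟩
    · -- 04=(0,0)
      rcases d14 with ⟨rfl, rfl⟩ | ⟨rfl, rfl⟩ | ⟨rfl, rfl⟩ | ⟨rfl, rfl⟩ | ⟨rfl, rfl⟩ | ⟨rfl, rfl⟩
      · -- 14=(0,0)
        rcases d24 with ⟨rfl, rfl⟩ | ⟨rfl, rfl⟩ | ⟨rfl, rfl⟩ | ⟨rfl, rfl⟩ | ⟨rfl, rfl⟩ | ⟨rfl, rfl⟩
        · -- 24=(0,0)
          rcases d34 with ⟨rfl, rfl⟩ | ⟨rfl, rfl⟩ | ⟨rfl, rfl⟩ | ⟨rfl, rfl⟩ | ⟨rfl, rfl⟩ | ⟨rfl, rfl⟩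
          · -- 34=(0,0)
            exfalso; omega
          · -- 34=(1,1)
            exact False.elim (cert_false T ((skipEmb 1).trans (Function.Embedding.refl _)) (by norm_num) (fun _ => hall _) (((((LB_zero T ((skipEmb 1).trans (Function.Embedding.refl _))).upd 1 2 3 (le_of_eq hx23)).upd 2 1 1 (le_of_eq hx32)).upd 2 3 1 (le_of_eq hx34)).upd 3 2 1 (le_of_eq hx43)) ![0,3,2,1] (by decide) (by decide) 1 (by decide))
          · -- 34=(1,2)
            exact False.elim (cert_false T ((skipEmb 1).trans (Function.Embedding.refl _)) (by norm_num) (fun _ => hall _) (((((LB_zero T ((skipEmb 1).trans (Function.Embedding.refl _))).upd 1 2 3 (le_of_eq hx23)).upd 2 1 1 (le_of_eq hx32)).upd 2 3 1 (le_of_eq hx34)).upd 3 2 2 (le_of_eq hx43)) ![0,1,1,1] (by decide) (by decide) 1 (by decide))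
          · -- 34=(2,1)
            exact False.elim (cert_false T ((skipEmb 1).trans (Function.Embedding.refl _)) (by norm_num) (fun _ => hall _) (((((LB_zero T ((skipEmb 1).trans (Function.Embedding.refl _))).upd 1 2 3 (le_of_eq hx23)).upd 2 1 1 (le_of_eq hx32)).upd 2 3 2 (le_of_eq hx34)).upd 3 2 1 (le_of_eq hx43)) ![0,2,2,1] (by decide) (by decide) 1 (by decide))
          · -- 34=(1,3)
            exact False.elim (cert_false T ((skipEmb 1).trans (Function.Embedding.refl _)) (by norm_num) (fun _ => hall _) (((((LB_zero T ((skipEmb 1).trans (Function.Embedding.refl _))).upd 1 2 3 (le_of_eq hx23)).upd 2 1 1 (le_of_eq hx32)).upd 2 3 1 (le_of_eq hx34)).upd 3 2 3 (le_of_eq hx43)) ![0,1,1,1] (by decide) (by decide) 1 (by decide))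
          · -- 34=(3,1)
            exact False.elim (cert_false T ((skipEmb 1).trans (Function.Embedding.refl _)) (by norm_num) (fun _ => hall _) (((((LB_zero T ((skipEmb 1).trans (Function.Embedding.refl _))).upd 1 2 3 (le_of_eq hx23)).upd 2 1 1 (le_of_eq hx32)).upd 2 3 3 (le_of_eq hx34)).upd 3 2 1 (le_of_eq hx43)) ![0,1,2,1] (by decide) (by decide) 1 (by decide))
        · -- 24=(1,1)
          exact False.elim (cert_false T ((skipEmb 1).trans (Function.Embedding.refl _)) (by norm_num) (fun _ => hall _) (((((LB_zero T ((skipEmb 1).trans (Function.Embedding.refl _))).upd 1 2 3 (le_of_eq hx23)).upd 1 3 1 (le_of_eq hx24)).upd 2 1 1 (le_of_eq hx32)).upd 3 1 1 (le_of_eq hx42)) ![0,2,1,1] (by decide) (by decide) 1 (by decide))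
        · -- 24=(1,2)
          exact False.elim (cert_false T ((skipEmb 1).trans (Function.Embedding.refl _)) (by norm_num) (fun _ => hall _) (((((LB_zero T ((skipEmb 1).trans (Function.Embedding.refl _))).upd 1 2 3 (le_of_eq hx23)).upd 1 3 1 (le_of_eq hx24)).upd 2 1 1 (le_of_eq hx32)).upd 3 1 2 (le_of_eq hx42)) ![0,2,1,1] (by decide) (by decide) 1 (by decide))
        · -- 24=(2,1)
          exact False.elim (cert_false T ((skipEmb 1).trans (Function.Embedding.refl _)) (by norm_num) (fun _ => hall _) (((((LB_zero T ((skipEmb 1).trans (Function.Embedding.refl _))).upd 1 2 3 (le_of_eq hx23)).upd 1 3 2 (le_of_eq hx24)).upd 2 1 1 (le_of_eq hx32)).upd 3 1 1 (le_of_eq hx42)) ![0,2,1,1] (by decide) (by decide) 1 (by decide))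
        · -- 24=(1,3)
          exact False.elim (cert_false T ((skipEmb 1).trans (Function.Embedding.refl _)) (by norm_num) (fun _ => hall _) (((((LB_zero T ((skipEmb 1).trans (Function.Embedding.refl _))).upd 1 2 3 (le_of_eq hx23)).upd 1 3 1 (le_of_eq hx24)).upd 2 1 1 (le_of_eq hx32)).upd 3 1 3 (le_of_eq hx42)) ![0,2,1,1] (by decide) (by decide) 1 (by decide))
        · -- 24=(3,1)
          exact False.elim (cert_false T ((skipEmb 1).trans (Function.Embedding.refl _)) (by norm_num) (fun _ => hall _) (((((LB_zero T ((skipEmb 1).trans (Function.Embedding.refl _))).upd 1 2 3 (le_of_eq hx23)).upd 1 3 3 (le_of_eq hx24)).upd 2 1 1 (le_of_eq hx32)).upd 3 1 1 (le_of_eq hx42)) ![0,2,1,1] (by decide) (by decide) 1 (by decide))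
      · -- 14=(1,1)
        exact False.elim (cert_false T ((skipEmb 3).trans (Function.Embedding.refl _)) (by norm_num) (fun _ => hall _) (((((LB_zero T ((skipEmb 3).trans (Function.Embedding.refl _))).upd 0 1 1 (le_of_eq hx01)).upd 1 0 3 (le_of_eq hx10)).upd 1 3 1 (le_of_eq hx14)).upd 3 1 1 (le_of_eq hx41)) ![1,2,0,1] (by decide) (by decide) 0 (by decide))
      · -- 14=(1,2)
        exact False.elim (cert_false T ((skipEmb 3).trans (Function.Embedding.refl _)) (by norm_num) (fun _ => hall _) (((((LB_zero T ((skipEmb 3).trans (Function.Embedding.refl _))).upd 0 1 1 (le_of_eq hx01)).upd 1 0 3 (le_of_eq hx10)).upd 1 3 1 (le_of_eq hx14)).upd 3 1 2 (le_of_eq hx41)) ![1,2,0,1] (by decide) (by decide) 0 (by decide))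
      · -- 14=(2,1)
        exact False.elim (cert_false T ((skipEmb 3).trans (Function.Embedding.refl _)) (by norm_num) (fun _ => hall _) (((((LB_zero T ((skipEmb 3).trans (Function.Embedding.refl _))).upd 0 1 1 (le_of_eq hx01)).upd 1 0 3 (le_of_eq hx10)).upd 1 3 2 (le_of_eq hx14)).upd 3 1 1 (le_of_eq hx41)) ![1,2,0,1] (by decide) (by decide) 0 (by decide))
      · -- 14=(1,3)
        exact False.elim (cert_false T ((skipEmb 3).trans (Function.Embedding.refl _)) (by norm_num) (fun _ => hall _) (((((LB_zero T ((skipEmb 3).trans (Function.Embedding.refl _))).upd 0 1 1 (le_of_eq hx01)).upd 1 0 3 (le_of_eq hx10)).upd 1 3 1 (le_of_eq hx14)).upd 3 1 3 (le_of_eq hx41)) ![1,2,0,1] (by decide) (by decide) 0 (by decide))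
      · -- 14=(3,1)
        exact False.elim (cert_false T ((skipEmb 3).trans (Function.Embedding.refl _)) (by norm_num) (fun _ => hall _) (((((LB_zero T ((skipEmb 3).trans (Function.Embedding.refl _))).upd 0 1 1 (le_of_eq hx01)).upd 1 0 3 (le_of_eq hx10)).upd 1 3 3 (le_of_eq hx14)).upd 3 1 1 (le_of_eq hx41)) ![1,2,0,1] (by decide) (by decide) 0 (by decide))
    · -- 04=(1,1)
      exact False.elim (cert_false T ((skipEmb 3).trans (Function.Embedding.refl _)) (by norm_num) (fun _ => hall _) (((((LB_zero T ((skipEmb 3).trans (Function.Embedding.refl _))).upd 0 1 1 (le_of_eq hx01)).upd 0 3 1 (le_of_eq hx04)).upd 1 0 3 (le_of_eq hx10)).upd 3 0 1 (le_of_eq hx40)) ![2,3,0,1] (by decide) (by decide) 0 (by decide))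
    · -- 04=(1,2)
      exact False.elim (cert_false T ((skipEmb 3).trans (Function.Embedding.refl _)) (by norm_num) (fun _ => hall _) (((((LB_zero T ((skipEmb 3).trans (Function.Embedding.refl _))).upd 0 1 1 (le_of_eq hx01)).upd 0 3 1 (le_of_eq hx04)).upd 1 0 3 (le_of_eq hx10)).upd 3 0 2 (le_of_eq hx40)) ![1,1,0,1] (by decide) (by decide) 0 (by decide))
    · -- 04=(2,1)
      exact False.elim (cert_false T ((skipEmb 3).trans (Function.Embedding.refl _)) (by norm_num) (fun _ => hall _) (((((LB_zero T ((skipEmb 3).trans (Function.Embedding.refl _))).upd 0 1 1 (le_of_eq hx01)).upd 0 3 2 (le_of_eq hx04)).upd 1 0 3 (le_of_eq hx10)).upd 3 0 1 (le_of_eq hx40)) ![2,2,0,1] (by decide) (by decide) 0 (by decide))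
    · -- 04=(1,3)
      exact False.elim (cert_false T ((skipEmb 3).trans (Function.Embedding.refl _)) (by norm_num) (fun _ => hall _) (((((LB_zero T ((skipEmb 3).trans (Function.Embedding.refl _))).upd 0 1 1 (le_of_eq hx01)).upd 0 3 1 (le_of_eq hx04)).upd 1 0 3 (le_of_eq hx10)).upd 3 0 3 (le_of_eq hx40)) ![1,1,0,1] (by decide) (by decide) 0 (by decide))
    · -- 04=(3,1)
      exact False.elim (cert_false T ((skipEmb 3).trans (Function.Embedding.refl _)) (by norm_num) (fun _ => hall _) (((((LB_zero T ((skipEmb 3).trans (Function.Embedding.refl _))).upd 0 1 1 (le_of_eq hx01)).upd 0 3 3 (le_of_eq hx04)).upd 1 0 3 (le_of_eq hx10)).upd 3 0 1 (le_of_eq hx40)) ![2,1,0,1] (by decide) (by decide) 0 (by decide))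

end Groth.Agent.Lib.helper11.G5
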