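import Groth.Agent.Lib.helper11.G5.Setup

set_option autoImplicit false
set_option maxRecDepth 4000

namespace Groth.Agent.Lib.helper11.G5

open Models Groth.Agent.Lib.helper11.NumType

theorem case67 (T : NumericalType 5) (hall : ∀ i, T.IsMinusTwo i) (d : SData T)
    (h01 : N T (Function.Embedding.refl _) 0 1 = 0) (h10 : N T (Function.Embedding.refl _) 1 0 = 0)
    (h02 : N T (Function.Embedding.refl _) 0 2 = 0) (h20 : N T (Function.Embedding.refl _) 2 0 = 0)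
    (h12 : N T (Function.Embedding.refl _) 1 2 = 0) (h21 : N T (Function.Embedding.refl _) 2 1 = 0)
    (h03 : N T (Function.Embedding.refl _) 0 3 = 1) (h30 : N T (Function.Embedding.refl _) 3 0 = 2)
    (h13 : N T (Function.Embedding.refl _) 1 3 = 0) (h31 : N T (Function.Embedding.refl _) 3 1 = 0)
    (h23 : N T (Function.Embedding.refl _) 2 3 = 0) (h32 : N T (Function.Embedding.refl _) 3 2 = 0)
    (h04 : N T (Function.Embedding.refl _) 0 4 = 0) (h40 : N T (Function.Embedding.refl _) 4 0 = 0) :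
    Goal T := by
  unfold Goal
  have hd := d
  obtain ⟨x01, x02, x03, x04, x10, x12, x13, x14, x20, x21, x23, x24, x30, x31, x32, x34, x40, x41, x42, x43, hx01, hx02, hx03, hx04, hx10, hx12, hx13, hx14, hx20, hx21, hx23, hx24, hx30, hx31, hx32, hx34, hx40, hx41, hx42, hx43, hw0, hm0, hw1, hm1, hw2, hm2, hw3, hm3, hw4, hm4, a00, a01, a02, a03, a04, a11, a10, a12, a13, a14, a22, a20, a21, a23, a24, a33, a30, a31, a32, a34, a44, a40, a41, a42, a43, wN01, wN02, wN12, wN03, wN13, wN23, wN04, wN14, wN24, wN34, e0, e1, e2, e3, e4, d01, d02, d12, d03, d13, d23, d04, d14, d24, d34⟩ := d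
  obtain rfl : x01 = 0 := hx01.trans h01
  obtain rfl : x10 = 0 := hx10.trans h10
  obtain rfl : x02 = 0 := hx02.trans h02
  obtain rfl : x20 = 0 := hx20.trans h20
  obtain rfl : x12 = 0 := hx12.trans h12
  obtain rfl : x21 = 0 := hx21.trans h21
  obtain rfl : x03 = 1 := hx03.trans h03
  obtain rfl : x30 = 2 := hx30.trans h30
  obtain rfl : x13 = 0 := hx13.trans h13
  obtain rfl : x31 = 0 := hx31.trans h31
  obtain rfl : x23 = 0 := hx23.trans h23
  obtain rfl : x32 = 0 := hx32.trans h32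
  obtain rfl : x04 = 0 := hx04.trans h04
  obtain rfl : x40 = 0 := hx40.trans h40
  rcases d14 with ⟨rfl, rfl⟩ | ⟨rfl, rfl⟩ | ⟨rfl, rfl⟩ | ⟨rfl, rfl⟩ | ⟨rfl, rfl⟩ | ⟨rfl, rfl⟩
  · -- 14=(0,0)
    rcases d24 with ⟨rfl, rfl⟩ | ⟨rfl, rfl⟩ | ⟨rfl, rfl⟩ | ⟨rfl, rfl⟩ | ⟨rfl, rfl⟩ | ⟨rfl, rfl⟩
    · -- 24=(0,0)
      rcases d34 with ⟨rfl, rfl⟩ | ⟨rfl, rfl⟩ | ⟨rfl, rfl⟩ | ⟨rfl, rfl⟩ | ⟨rfl, rfl⟩ | ⟨rfl, rfl⟩
      · -- 34=(0,0)
        exfalso; omega
      · -- 34=(1,1)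
        exfalso; omega
      · -- 34=(1,2)
        exact False.elim (cert_false T ((skipEmb 2).trans (Function.Embedding.refl _)) (by norm_num) (fun _ => hall _) (((((LB_zero T ((skipEmb 2).trans (Function.Embedding.refl _))).upd 0 2 1 (le_of_eq hx03)).upd 2 0 2 (le_of_eq hx30)).upd 2 3 1 (le_of_eq hx34)).upd 3 2 2 (le_of_eq hx43)) ![1,0,2,2] (by decide) (by decide) 0 (by decide))
      · -- 34=(2,1)
        exact False.elim (cert_false T ((skipEmb 2).trans (Function.Embedding.refl _)) (by norm_num) (fun _ => hall _) (((((LB_zero T ((skipEmb 2).trans (Function.Embedding.refl _))).upd 0 2 1 (le_of_eq hx03)).upd 2 0 2 (le_of_eq hx30)).upd 2 3 2 (le_of_eq hx34)).upd 3 2 1 (le_of_eq hx43)) ![1,0,2,1] (by decide) (by decide) 0 (by decide))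
      · -- 34=(1,3)
        exact False.elim (cert_false T ((skipEmb 2).trans (Function.Embedding.refl _)) (by norm_num) (fun _ => hall _) (((((LB_zero T ((skipEmb 2).trans (Function.Embedding.refl _))).upd 0 2 1 (le_of_eq hx03)).upd 2 0 2 (le_of_eq hx30)).upd 2 3 1 (le_of_eq hx34)).upd 3 2 3 (le_of_eq hx43)) ![1,0,2,2] (by decide) (by decide) 0 (by decide))
      · -- 34=(3,1)
        exact False.elim (cert_false T ((skipEmb 2).trans (Function.Embedding.refl _)) (by norm_num) (fun _ => hall _) (((((LB_zero T ((skipEmb 2).trans (Function.Embedding.refl _))).upd 0 2 1 (le_of_eq hx03)).upd 2 0 2 (le_of_eq hx30)).upd 2 3 3 (le_of_eq hx34)).upd 3 2 1 (le_of_eq hx43)) ![1,0,2,1] (by decide) (by decide) 0 (by decide))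
    · -- 24=(1,1)
      rcases d34 with ⟨rfl, rfl⟩ | ⟨rfl, rfl⟩ | ⟨rfl, rfl⟩ | ⟨rfl, rfl⟩ | ⟨rfl, rfl⟩ | ⟨rfl, rfl⟩
      · -- 34=(0,0)
        exfalso; omega
      · -- 34=(1,1)
        exfalso; omega
      · -- 34=(1,2)
        exact False.elim (cert_false T ((skipEmb 2).trans (Function.Embedding.refl _)) (by norm_num) (fun _ => hall _) (((((LB_zero T ((skipEmb 2).trans (Function.Embedding.refl _))).upd 0 2 1 (le_of_eq hx03)).upd 2 0 2 (le_of_eq hx30)).upd 2 3 1 (le_of_eq hx34)).upd 3 2 2 (le_of_eq hx43)) ![1,0,2,2] (by decide) (by decide) 0 (by decide))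
      · -- 34=(2,1)
        exact False.elim (cert_false T ((skipEmb 2).trans (Function.Embedding.refl _)) (by norm_num) (fun _ => hall _) (((((LB_zero T ((skipEmb 2).trans (Function.Embedding.refl _))).upd 0 2 1 (le_of_eq hx03)).upd 2 0 2 (le_of_eq hx30)).upd 2 3 2 (le_of_eq hx34)).upd 3 2 1 (le_of_eq hx43)) ![1,0,2,1] (by decide) (by decide) 0 (by decide))
      · -- 34=(1,3)
        exact False.elim (cert_false T ((skipEmb 2).trans (Function.Embedding.refl _)) (by norm_num) (fun _ => hall _) (((((LB_zero T ((skipEmb 2).trans (Function.Embedding.refl _))).upd 0 2 1 (le_of_eq hx03)).upd 2 0 2 (le_of_eq hx30)).upd 2 3 1 (le_of_eq hx34)).upd 3 2 3 (le_of_eq hx43)) ![1,0,2,2] (by decide) (by decide) 0 (by decide))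
      · -- 34=(3,1)
        exact False.elim (cert_false T ((skipEmb 2).trans (Function.Embedding.refl _)) (by norm_num) (fun _ => hall _) (((((LB_zero T ((skipEmb 2).trans (Function.Embedding.refl _))).upd 0 2 1 (le_of_eq hx03)).upd 2 0 2 (le_of_eq hx30)).upd 2 3 3 (le_of_eq hx34)).upd 3 2 1 (le_of_eq hx43)) ![1,0,2,1] (by decide) (by decide) 0 (by decide))
    · -- 24=(1,2)
      rcases d34 with ⟨rfl, rfl⟩ | ⟨rfl, rfl⟩ | ⟨rfl, rfl⟩ | ⟨rfl, rfl⟩ | ⟨rfl, rfl⟩ | ⟨rfl, rfl⟩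
      · -- 34=(0,0)
        exfalso; omega
      · -- 34=(1,1)
        exact False.elim (cert_false T ((skipEmb 1).trans (Function.Embedding.refl _)) (by norm_num) (fun _ => hall _) (((((((LB_zero T ((skipEmb 1).trans (Function.Embedding.refl _))).upd 0 2 1 (le_of_eq hx03)).upd 1 3 1 (le_of_eq hx24)).upd 2 0 2 (le_of_eq hx30)).upd 2 3 1 (le_of_eq hx34)).upd 3 1 2 (le_of_eq hx42)).upd 3 2 1 (le_of_eq hx43)) ![1,1,2,2] (by decide) (by decide) 0 (by decide))
      · -- 34=(1,2)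
        exact False.elim (cert_false T ((skipEmb 2).trans (Function.Embedding.refl _)) (by norm_num) (fun _ => hall _) (((((LB_zero T ((skipEmb 2).trans (Function.Embedding.refl _))).upd 0 2 1 (le_of_eq hx03)).upd 2 0 2 (le_of_eq hx30)).upd 2 3 1 (le_of_eq hx34)).upd 3 2 2 (le_of_eq hx43)) ![1,0,2,2] (by decide) (by decide) 0 (by decide))
      · -- 34=(2,1)
        exact False.elim (cert_false T ((skipEmb 2).trans (Function.Embedding.refl _)) (by norm_num) (fun _ => hall _) (((((LB_zero T ((skipEmb 2).trans (Function.Embedding.refl _))).upd 0 2 1 (le_of_eq hx03)).upd 2 0 2 (le_of_eq hx30)).upd 2 3 2 (le_of_eq hx34)).upd 3 2 1 (le_of_eq hx43)) ![1,0,2,1] (by decide) (by decide) 0 (by decide))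
      · -- 34=(1,3)
        exact False.elim (cert_false T ((skipEmb 2).trans (Function.Embedding.refl _)) (by norm_num) (fun _ => hall _) (((((LB_zero T ((skipEmb 2).trans (Function.Embedding.refl _))).upd 0 2 1 (le_of_eq hx03)).upd 2 0 2 (le_of_eq hx30)).upd 2 3 1 (le_of_eq hx34)).upd 3 2 3 (le_of_eq hx43)) ![1,0,2,2] (by decide) (by decide) 0 (by decide))
      · -- 34=(3,1)
        exact False.elim (cert_false T ((skipEmb 2).trans (Function.Embedding.refl _)) (by norm_num) (fun _ => hall _) (((((LB_zero T ((skipEmb 2).trans (Function.Embedding.refl _))).upd 0 2 1 (le_of_eq hx03)).upd 2 0 2 (le_of_eq hx30)).upd 2 3 3 (le_of_eq hx34)).upd 3 2 1 (le_of_eq hx43)) ![1,0,2,1] (by decide) (by decide) 0 (by decide))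
    · -- 24=(2,1)
      rcases d34 with ⟨rfl, rfl⟩ | ⟨rfl, rfl⟩ | ⟨rfl, rfl⟩ | ⟨rfl, rfl⟩ | ⟨rfl, rfl⟩ | ⟨rfl, rfl⟩
      · -- 34=(0,0)
        exfalso; omega
      · -- 34=(1,1)
        exact False.elim (cert_false T ((skipEmb 1).trans (Function.Embedding.refl _)) (by norm_num) (fun _ => hall _) (((((((LB_zero T ((skipEmb 1).trans (Function.Embedding.refl _))).upd 0 2 1 (le_of_eq hx03)).upd 1 3 2 (le_of_eq hx24)).upd 2 0 2 (le_of_eq hx30)).upd 2 3 1 (le_of_eq hx34)).upd 3 1 1 (le_of_eq hx42)).upd 3 2 1 (le_of_eq hx43)) ![1,2,2,2] (by decide) (by decide) 0 (by decide))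
      · -- 34=(1,2)
        exact False.elim (cert_false T ((skipEmb 2).trans (Function.Embedding.refl _)) (by norm_num) (fun _ => hall _) (((((LB_zero T ((skipEmb 2).trans (Function.Embedding.refl _))).upd 0 2 1 (le_of_eq hx03)).upd 2 0 2 (le_of_eq hx30)).upd 2 3 1 (le_of_eq hx34)).upd 3 2 2 (le_of_eq hx43)) ![1,0,2,2] (by decide) (by decide) 0 (by decide))
      · -- 34=(2,1)
        exact False.elim (cert_false T ((skipEmb 2).trans (Function.Embedding.refl _)) (by norm_num) (fun _ => hall _) (((((LB_zero T ((skipEmb 2).trans (Function.Embedding.refl _))).upd 0 2 1 (le_of_eq hx03)).upd 2 0 2 (le_of_eq hx30)).upd 2 3 2 (le_of_eq hx34)).upd 3 2 1 (le_of_eq hx43)) ![1,0,2,1] (by decide) (by decide) 0 (by decide))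
      · -- 34=(1,3)
        exact False.elim (cert_false T ((skipEmb 2).trans (Function.Embedding.refl _)) (by norm_num) (fun _ => hall _) (((((LB_zero T ((skipEmb 2).trans (Function.Embedding.refl _))).upd 0 2 1 (le_of_eq hx03)).upd 2 0 2 (le_of_eq hx30)).upd 2 3 1 (le_of_eq hx34)).upd 3 2 3 (le_of_eq hx43)) ![1,0,2,2] (by decide) (by decide) 0 (by decide))
      · -- 34=(3,1)
        exact False.elim (cert_false T ((skipEmb 2).trans (Function.Embedding.refl _)) (by norm_num) (fun _ => hall _) (((((LB_zero T ((skipEmb 2).trans (Function.Embedding.refl _))).upd 0 2 1 (le_of_eq hx03)).upd 2 0 2 (le_of_eq hx30)).upd 2 3 3 (le_of_eq hx34)).upd 3 2 1 (le_of_eq hx43)) ![1,0,2,1] (by decide) (by decide) 0 (by decide))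
    · -- 24=(1,3)
      rcases d34 with ⟨rfl, rfl⟩ | ⟨rfl, rfl⟩ | ⟨rfl, rfl⟩ | ⟨rfl, rfl⟩ | ⟨rfl, rfl⟩ | ⟨rfl, rfl⟩
      · -- 34=(0,0)
        exfalso; omega
      · -- 34=(1,1)
        exact False.elim (cert_false T ((skipEmb 1).trans (Function.Embedding.refl _)) (by norm_num) (fun _ => hall _) (((((LB_zero T ((skipEmb 1).trans (Function.Embedding.refl _))).upd 1 3 1 (le_of_eq hx24)).upd 2 3 1 (le_of_eq hx34)).upd 3 1 3 (le_of_eq hx42)).upd 3 2 1 (le_of_eq hx43)) ![0,1,1,2] (by decide) (by decide) 1 (by decide))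
      · -- 34=(1,2)
        exact False.elim (cert_false T ((skipEmb 2).trans (Function.Embedding.refl _)) (by norm_num) (fun _ => hall _) (((((LB_zero T ((skipEmb 2).trans (Function.Embedding.refl _))).upd 0 2 1 (le_of_eq hx03)).upd 2 0 2 (le_of_eq hx30)).upd 2 3 1 (le_of_eq hx34)).upd 3 2 2 (le_of_eq hx43)) ![1,0,2,2] (by decide) (by decide) 0 (by decide))
      · -- 34=(2,1)
        exact False.elim (cert_false T ((skipEmb 2).trans (Function.Embedding.refl _)) (by norm_num) (fun _ => hall _) (((((LB_zero T ((skipEmb 2).trans (Function.Embedding.refl _))).upd 0 2 1 (le_of_eq hx03)).upd 2 0 2 (le_of_eq hx30)).upd 2 3 2 (le_of_eq hx34)).upd 3 2 1 (le_of_eq hx43)) ![1,0,2,1] (by decide) (by decide) 0 (by decide))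
      · -- 34=(1,3)
        exact False.elim (cert_false T ((skipEmb 2).trans (Function.Embedding.refl _)) (by norm_num) (fun _ => hall _) (((((LB_zero T ((skipEmb 2).trans (Function.Embedding.refl _))).upd 0 2 1 (le_of_eq hx03)).upd 2 0 2 (le_of_eq hx30)).upd 2 3 1 (le_of_eq hx34)).upd 3 2 3 (le_of_eq hx43)) ![1,0,2,2] (by decide) (by decide) 0 (by decide))
      · -- 34=(3,1)
        exact False.elim (cert_false T ((skipEmb 2).trans (Function.Embedding.refl _)) (by norm_num) (fun _ => hall _) (((((LB_zero T ((skipEmb 2).trans (Function.Embedding.refl _))).upd 0 2 1 (le_of_eq hx03)).upd 2 0 2 (le_of_eq hx30)).upd 2 3 3 (le_of_eq hx34)).upd 3 2 1 (le_of_eq hx43)) ![1,0,2,1] (by decide) (by decide) 0 (by decide))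
    · -- 24=(3,1)
      rcases d34 with ⟨rfl, rfl⟩ | ⟨rfl, rfl⟩ | ⟨rfl, rfl⟩ | ⟨rfl, rfl⟩ | ⟨rfl, rfl⟩ | ⟨rfl, rfl⟩
      · -- 34=(0,0)
        exfalso; omega
      · -- 34=(1,1)
        exact False.elim (cert_false T ((skipEmb 1).trans (Function.Embedding.refl _)) (by norm_num) (fun _ => hall _) (((((((LB_zero T ((skipEmb 1).trans (Function.Embedding.refl _))).upd 0 2 1 (le_of_eq hx03)).upd 1 3 3 (le_of_eq hx24)).upd 2 0 2 (le_of_eq hx30)).upd 2 3 1 (le_of_eq hx34)).upd 3 1 1 (le_of_eq hx42)).upd 3 2 1 (le_of_eq hx43)) ![1,2,2,2] (by decide) (by decide) 0 (by decide))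
      · -- 34=(1,2)
        exact False.elim (cert_false T ((skipEmb 2).trans (Function.Embedding.refl _)) (by norm_num) (fun _ => hall _) (((((LB_zero T ((skipEmb 2).trans (Function.Embedding.refl _))).upd 0 2 1 (le_of_eq hx03)).upd 2 0 2 (le_of_eq hx30)).upd 2 3 1 (le_of_eq hx34)).upd 3 2 2 (le_of_eq hx43)) ![1,0,2,2] (by decide) (by decide) 0 (by decide))
      · -- 34=(2,1)
        exact False.elim (cert_false T ((skipEmb 2).trans (Function.Embedding.refl _)) (by norm_num) (fun _ => hall _) (((((LB_zero T ((skipEmb 2).trans (Function.Embedding.refl _))).upd 0 2 1 (le_of_eq hx03)).upd 2 0 2 (le_of_eq hx30)).upd 2 3 2 (le_of_eq hx34)).upd 3 2 1 (le_of_eq hx43)) ![1,0,2,1] (by decide) (by decide) 0 (by decide))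
      · -- 34=(1,3)
        exact False.elim (cert_false T ((skipEmb 2).trans (Function.Embedding.refl _)) (by norm_num) (fun _ => hall _) (((((LB_zero T ((skipEmb 2).trans (Function.Embedding.refl _))).upd 0 2 1 (le_of_eq hx03)).upd 2 0 2 (le_of_eq hx30)).upd 2 3 1 (le_of_eq hx34)).upd 3 2 3 (le_of_eq hx43)) ![1,0,2,2] (by decide) (by decide) 0 (by decide))
      · -- 34=(3,1)
        exact False.elim (cert_false T ((skipEmb 2).trans (Function.Embedding.refl _)) (by norm_num) (fun _ => hall _) (((((LB_zero T ((skipEmb 2).trans (Function.Embedding.refl _))).upd 0 2 1 (le_of_eq hx03)).upd 2 0 2 (le_of_eq hx30)).upd 2 3 3 (le_of_eq hx34)).upd 3 2 1 (le_of_eq hx43)) ![1,0,2,1] (by decide) (by decide) 0 (by decide))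
  · -- 14=(1,1)
    rcases d24 with ⟨rfl, rfl⟩ | ⟨rfl, rfl⟩ | ⟨rfl, rfl⟩ | ⟨rfl, rfl⟩ | ⟨rfl, rfl⟩ | ⟨rfl, rfl⟩
    · -- 24=(0,0)
      rcases d34 with ⟨rfl, rfl⟩ | ⟨rfl, rfl⟩ | ⟨rfl, rfl⟩ | ⟨rfl, rfl⟩ | ⟨rfl, rfl⟩ | ⟨rfl, rfl⟩
      · -- 34=(0,0)
        exfalso; omega
      · -- 34=(1,1)
        exfalso; omega
      · -- 34=(1,2)
        exact False.elim (cert_false T ((skipEmb 2).trans (Function.Embedding.refl _)) (by norm_num) (fun _ => hall _) (((((LB_zero T ((skipEmb 2).trans (Function.Embedding.refl _))).upd 0 2 1 (le_of_eq hx03)).upd 2 0 2 (le_of_eq hx30)).upd 2 3 1 (le_of_eq hx34)).upd 3 2 2 (le_of_eq hx43)) ![1,0,2,2] (by decide) (by decide) 0 (by decide))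
      · -- 34=(2,1)
        exact False.elim (cert_false T ((skipEmb 2).trans (Function.Embedding.refl _)) (by norm_num) (fun _ => hall _) (((((LB_zero T ((skipEmb 2).trans (Function.Embedding.refl _))).upd 0 2 1 (le_of_eq hx03)).upd 2 0 2 (le_of_eq hx30)).upd 2 3 2 (le_of_eq hx34)).upd 3 2 1 (le_of_eq hx43)) ![1,0,2,1] (by decide) (by decide) 0 (by decide))
      · -- 34=(1,3)
        exact False.elim (cert_false T ((skipEmb 2).trans (Function.Embedding.refl _)) (by norm_num) (fun _ => hall _) (((((LB_zero T ((skipEmb 2).trans (Function.Embedding.refl _))).upd 0 2 1 (le_of_eq hx03)).upd 2 0 2 (le_of_eq hx30)).upd 2 3 1 (le_of_eq hx34)).upd 3 2 3 (le_of_eq hx43)) ![1,0,2,2] (by decide) (by decide) 0 (by decide))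
      · -- 34=(3,1)
        exact False.elim (cert_false T ((skipEmb 2).trans (Function.Embedding.refl _)) (by norm_num) (fun _ => hall _) (((((LB_zero T ((skipEmb 2).trans (Function.Embedding.refl _))).upd 0 2 1 (le_of_eq hx03)).upd 2 0 2 (le_of_eq hx30)).upd 2 3 3 (le_of_eq hx34)).upd 3 2 1 (le_of_eq hx43)) ![1,0,2,1] (by decide) (by decide) 0 (by decide))
    · -- 24=(1,1)
      rcases d34 with ⟨rfl, rfl⟩ | ⟨rfl, rfl⟩ | ⟨rfl, rfl⟩ | ⟨rfl, rfl⟩ | ⟨rfl, rfl⟩ | ⟨rfl, rfl⟩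
      · -- 34=(0,0)
        exfalso; omega
      · -- 34=(1,1)
        refine ⟨(⟨![0, 3, 4, 1, 2], ![0, 3, 4, 1, 2], by decide, by decide⟩ : Equiv.Perm (Fin 5)), T.m 0, T.w 3, Or.inr (Or.inr (Or.inr (Or.inr (Or.inr (Or.inr (Or.inr (Or.inl ?_)))))))⟩
        show T.m 0 = T.m 0 ∧ T.m 3 = 2 * T.m 0 ∧ T.m 4 = 2 * T.m 0 ∧ T.m 1 = T.m 0 ∧ T.m 2 = T.m 0 ∧ T.w 0 = 2 * T.w 3 ∧ T.w 3 = T.w 3 ∧ T.w 4 = T.w 3 ∧ T.w 1 = T.w 3 ∧ T.w 2 = T.w 3 ∧ T.a 0 0 = -4 * T.w 3 ∧ T.a 0 3 = 2 * T.w 3 ∧ T.a 0 4 = 0 ∧ T.a 0 1 = 0 ∧ T.a 0 2 = 0 ∧ T.a 3 3 = -2 * T.w 3 ∧ T.a 3 4 = T.w 3 ∧ T.a 3 1 = 0 ∧ T.a 3 2 = 0 ∧ T.a 4 4 = -2 * T.w 3 ∧ T.a 4 1 = T.w 3 ∧ T.a 4 2 = T.w 3 ∧ T.a 1 1 = -2 * T.w 3 ∧ T.a 1 2 = 0 ∧ T.a 2 2 = -2 * T.w 3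
        refine ⟨?_, ?_, ?_, ?_, ?_, ?_, ?_, ?_, ?_, ?_, ?_, ?_, ?_, ?_, ?_, ?_, ?_, ?_, ?_, ?_, ?_, ?_, ?_, ?_, ?_⟩ <;> omega
      · -- 34=(1,2)
        exact False.elim (cert_false T ((skipEmb 2).trans (Function.Embedding.refl _)) (by norm_num) (fun _ => hall _) (((((LB_zero T ((skipEmb 2).trans (Function.Embedding.refl _))).upd 0 2 1 (le_of_eq hx03)).upd 2 0 2 (le_of_eq hx30)).upd 2 3 1 (le_of_eq hx34)).upd 3 2 2 (le_of_eq hx43)) ![1,0,2,2] (by decide) (by decide) 0 (by decide))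
      · -- 34=(2,1)
        exact False.elim (cert_false T ((skipEmb 2).trans (Function.Embedding.refl _)) (by norm_num) (fun _ => hall _) (((((LB_zero T ((skipEmb 2).trans (Function.Embedding.refl _))).upd 0 2 1 (le_of_eq hx03)).upd 2 0 2 (le_of_eq hx30)).upd 2 3 2 (le_of_eq hx34)).upd 3 2 1 (le_of_eq hx43)) ![1,0,2,1] (by decide) (by decide) 0 (by decide))
      · -- 34=(1,3)
        exact False.elim (cert_false T ((skipEmb 2).trans (Function.Embedding.refl _)) (by norm_num) (fun _ => hall _) (((((LB_zero T ((skipEmb 2).trans (Function.Embedding.refl _))).upd 0 2 1 (le_of_eq hx03)).upd 2 0 2 (le_of_eq hx30)).upd 2 3 1 (le_of_eq hx34)).upd 3 2 3 (le_of_eq hx43)) ![1,0,2,2] (by decide) (by decide) 0 (by decide))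
      · -- 34=(3,1)
        exact False.elim (cert_false T ((skipEmb 2).trans (Function.Embedding.refl _)) (by norm_num) (fun _ => hall _) (((((LB_zero T ((skipEmb 2).trans (Function.Embedding.refl _))).upd 0 2 1 (le_of_eq hx03)).upd 2 0 2 (le_of_eq hx30)).upd 2 3 3 (le_of_eq hx34)).upd 3 2 1 (le_of_eq hx43)) ![1,0,2,1] (by decide) (by decide) 0 (by decide))
    · -- 24=(1,2)
      rcases d34 with ⟨rfl, rfl⟩ | ⟨rfl, rfl⟩ | ⟨rfl, rfl⟩ | ⟨rfl, rfl⟩ | ⟨rfl, rfl⟩ | ⟨rfl, rfl⟩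
      · -- 34=(0,0)
        exfalso; omega
      · -- 34=(1,1)
        exact False.elim (cert_false T ((skipEmb 1).trans (Function.Embedding.refl _)) (by norm_num) (fun _ => hall _) (((((((LB_zero T ((skipEmb 1).trans (Function.Embedding.refl _))).upd 0 2 1 (le_of_eq hx03)).upd 1 3 1 (le_of_eq hx24)).upd 2 0 2 (le_of_eq hx30)).upd 2 3 1 (le_of_eq hx34)).upd 3 1 2 (le_of_eq hx42)).upd 3 2 1 (le_of_eq hx43)) ![1,1,2,2] (by decide) (by decide) 0 (by decide))
      · -- 34=(1,2)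
        exact False.elim (cert_false T ((skipEmb 2).trans (Function.Embedding.refl _)) (by norm_num) (fun _ => hall _) (((((LB_zero T ((skipEmb 2).trans (Function.Embedding.refl _))).upd 0 2 1 (le_of_eq hx03)).upd 2 0 2 (le_of_eq hx30)).upd 2 3 1 (le_of_eq hx34)).upd 3 2 2 (le_of_eq hx43)) ![1,0,2,2] (by decide) (by decide) 0 (by decide))
      · -- 34=(2,1)
        exact False.elim (cert_false T ((skipEmb 2).trans (Function.Embedding.refl _)) (by norm_num) (fun _ => hall _) (((((LB_zero T ((skipEmb 2).trans (Function.Embedding.refl _))).upd 0 2 1 (le_of_eq hx03)).upd 2 0 2 (le_of_eq hx30)).upd 2 3 2 (le_of_eq hx34)).upd 3 2 1 (le_of_eq hx43)) ![1,0,2,1] (by decide) (by decide) 0 (by decide))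
      · -- 34=(1,3)
        exact False.elim (cert_false T ((skipEmb 2).trans (Function.Embedding.refl _)) (by norm_num) (fun _ => hall _) (((((LB_zero T ((skipEmb 2).trans (Function.Embedding.refl _))).upd 0 2 1 (le_of_eq hx03)).upd 2 0 2 (le_of_eq hx30)).upd 2 3 1 (le_of_eq hx34)).upd 3 2 3 (le_of_eq hx43)) ![1,0,2,2] (by decide) (by decide) 0 (by decide))
      · -- 34=(3,1)
        exact False.elim (cert_false T ((skipEmb 2).trans (Function.Embedding.refl _)) (by norm_num) (fun _ => hall _) (((((LB_zero T ((skipEmb 2).trans (Function.Embedding.refl _))).upd 0 2 1 (le_of_eq hx03)).upd 2 0 2 (le_of_eq hx30)).upd 2 3 3 (le_of_eq hx34)).upd 3 2 1 (le_of_eq hx43)) ![1,0,2,1] (by decide) (by decide) 0 (by decide))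
    · -- 24=(2,1)
      rcases d34 with ⟨rfl, rfl⟩ | ⟨rfl, rfl⟩ | ⟨rfl, rfl⟩ | ⟨rfl, rfl⟩ | ⟨rfl, rfl⟩ | ⟨rfl, rfl⟩
      · -- 34=(0,0)
        exfalso; omega
      · -- 34=(1,1)
        exact False.elim (cert_false T ((skipEmb 1).trans (Function.Embedding.refl _)) (by norm_num) (fun _ => hall _) (((((((LB_zero T ((skipEmb 1).trans (Function.Embedding.refl _))).upd 0 2 1 (le_of_eq hx03)).upd 1 3 2 (le_of_eq hx24)).upd 2 0 2 (le_of_eq hx30)).upd 2 3 1 (le_of_eq hx34)).upd 3 1 1 (le_of_eq hx42)).upd 3 2 1 (le_of_eq hx43)) ![1,2,2,2] (by decide) (by decide) 0 (by decide))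
      · -- 34=(1,2)
        exact False.elim (cert_false T ((skipEmb 2).trans (Function.Embedding.refl _)) (by norm_num) (fun _ => hall _) (((((LB_zero T ((skipEmb 2).trans (Function.Embedding.refl _))).upd 0 2 1 (le_of_eq hx03)).upd 2 0 2 (le_of_eq hx30)).upd 2 3 1 (le_of_eq hx34)).upd 3 2 2 (le_of_eq hx43)) ![1,0,2,2] (by decide) (by decide) 0 (by decide))
      · -- 34=(2,1)
        exact False.elim (cert_false T ((skipEmb 2).trans (Function.Embedding.refl _)) (by norm_num) (fun _ => hall _) (((((LB_zero T ((skipEmb 2).trans (Function.Embedding.refl _))).upd 0 2 1 (le_of_eq hx03)).upd 2 0 2 (le_of_eq hx30)).upd 2 3 2 (le_of_eq hx34)).upd 3 2 1 (le_of_eq hx43)) ![1,0,2,1] (by decide) (by decide) 0 (by decide))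
      · -- 34=(1,3)
        exact False.elim (cert_false T ((skipEmb 2).trans (Function.Embedding.refl _)) (by norm_num) (fun _ => hall _) (((((LB_zero T ((skipEmb 2).trans (Function.Embedding.refl _))).upd 0 2 1 (le_of_eq hx03)).upd 2 0 2 (le_of_eq hx30)).upd 2 3 1 (le_of_eq hx34)).upd 3 2 3 (le_of_eq hx43)) ![1,0,2,2] (by decide) (by decide) 0 (by decide))
      · -- 34=(3,1)
        exact False.elim (cert_false T ((skipEmb 2).trans (Function.Embedding.refl _)) (by norm_num) (fun _ => hall _) (((((LB_zero T ((skipEmb 2).trans (Function.Embedding.refl _))).upd 0 2 1 (le_of_eq hx03)).upd 2 0 2 (le_of_eq hx30)).upd 2 3 3 (le_of_eq hx34)).upd 3 2 1 (le_of_eq hx43)) ![1,0,2,1] (by decide) (by decide) 0 (by decide))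
    · -- 24=(1,3)
      exact False.elim (cert_false T ((skipEmb 3).trans (Function.Embedding.refl _)) (by norm_num) (fun _ => hall _) (((((LB_zero T ((skipEmb 3).trans (Function.Embedding.refl _))).upd 1 3 1 (le_of_eq hx14)).upd 2 3 1 (le_of_eq hx24)).upd 3 1 1 (le_of_eq hx41)).upd 3 2 3 (le_of_eq hx42)) ![0,1,1,2] (by decide) (by decide) 1 (by decide))
    · -- 24=(3,1)
      exact False.elim (cert_false T ((skipEmb 3).trans (Function.Embedding.refl _)) (by norm_num) (fun _ => hall _) (((((LB_zero T ((skipEmb 3).trans (Function.Embedding.refl _))).upd 1 3 1 (le_of_eq hx14)).upd 2 3 3 (le_of_eq hx24)).upd 3 1 1 (le_of_eq hx41)).upd 3 2 1 (le_of_eq hx42)) ![0,1,3,2] (by decide) (by decide) 1 (by decide))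
  · -- 14=(1,2)
    rcases d24 with ⟨rfl, rfl⟩ | ⟨rfl, rfl⟩ | ⟨rfl, rfl⟩ | ⟨rfl, rfl⟩ | ⟨rfl, rfl⟩ | ⟨rfl, rfl⟩
    · -- 24=(0,0)
      rcases d34 with ⟨rfl, rfl⟩ | ⟨rfl, rfl⟩ | ⟨rfl, rfl⟩ | ⟨rfl, rfl⟩ | ⟨rfl, rfl⟩ | ⟨rfl, rfl⟩
      · -- 34=(0,0)
        exfalso; omega
      · -- 34=(1,1)
        exact False.elim (cert_false T ((skipEmb 2).trans (Function.Embedding.refl _)) (by norm_num) (fun _ => hall _) (((((((LB_zero T ((skipEmb 2).trans (Function.Embedding.refl _))).upd 0 2 1 (le_of_eq hx03)).upd 1 3 1 (le_of_eq hx14)).upd 2 0 2 (le_of_eq hx30)).upd 2 3 1 (le_of_eq hx34)).upd 3 1 2 (le_of_eq hx41)).upd 3 2 1 (le_of_eq hx43)) ![1,1,2,2] (by decide) (by decide) 0 (by decide))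
      · -- 34=(1,2)
        exact False.elim (cert_false T ((skipEmb 2).trans (Function.Embedding.refl _)) (by norm_num) (fun _ => hall _) (((((LB_zero T ((skipEmb 2).trans (Function.Embedding.refl _))).upd 0 2 1 (le_of_eq hx03)).upd 2 0 2 (le_of_eq hx30)).upd 2 3 1 (le_of_eq hx34)).upd 3 2 2 (le_of_eq hx43)) ![1,0,2,2] (by decide) (by decide) 0 (by decide))
      · -- 34=(2,1)
        exact False.elim (cert_false T ((skipEmb 2).trans (Function.Embedding.refl _)) (by norm_num) (fun _ => hall _) (((((LB_zero T ((skipEmb 2).trans (Function.Embedding.refl _))).upd 1 3 1 (le_of_eq hx14)).upd 2 3 2 (le_of_eq hx34)).upd 3 1 2 (le_of_eq hx41)).upd 3 2 1 (le_of_eq hx43)) ![0,1,2,2] (by decide) (by decide) 1 (by decide))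
      · -- 34=(1,3)
        exact False.elim (cert_false T ((skipEmb 2).trans (Function.Embedding.refl _)) (by norm_num) (fun _ => hall _) (((((LB_zero T ((skipEmb 2).trans (Function.Embedding.refl _))).upd 0 2 1 (le_of_eq hx03)).upd 2 0 2 (le_of_eq hx30)).upd 2 3 1 (le_of_eq hx34)).upd 3 2 3 (le_of_eq hx43)) ![1,0,2,2] (by decide) (by decide) 0 (by decide))
      · -- 34=(3,1)
        exact False.elim (cert_false T ((skipEmb 2).trans (Function.Embedding.refl _)) (by norm_num) (fun _ => hall _) (((((LB_zero T ((skipEmb 2).trans (Function.Embedding.refl _))).upd 1 3 1 (le_of_eq hx14)).upd 2 3 3 (le_of_eq hx34)).upd 3 1 2 (le_of_eq hx41)).upd 3 2 1 (le_of_eq hx43)) ![0,1,2,2] (by decide) (by decide) 1 (by decide))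
    · -- 24=(1,1)
      rcases d34 with ⟨rfl, rfl⟩ | ⟨rfl, rfl⟩ | ⟨rfl, rfl⟩ | ⟨rfl, rfl⟩ | ⟨rfl, rfl⟩ | ⟨rfl, rfl⟩
      · -- 34=(0,0)
        exfalso; omega
      · -- 34=(1,1)
        exact False.elim (cert_false T ((skipEmb 2).trans (Function.Embedding.refl _)) (by norm_num) (fun _ => hall _) (((((((LB_zero T ((skipEmb 2).trans (Function.Embedding.refl _))).upd 0 2 1 (le_of_eq hx03)).upd 1 3 1 (le_of_eq hx14)).upd 2 0 2 (le_of_eq hx30)).upd 2 3 1 (le_of_eq hx34)).upd 3 1 2 (le_of_eq hx41)).upd 3 2 1 (le_of_eq hx43)) ![1,1,2,2] (by decide) (by decide) 0 (by decide))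
      · -- 34=(1,2)
        exact False.elim (cert_false T ((skipEmb 2).trans (Function.Embedding.refl _)) (by norm_num) (fun _ => hall _) (((((LB_zero T ((skipEmb 2).trans (Function.Embedding.refl _))).upd 0 2 1 (le_of_eq hx03)).upd 2 0 2 (le_of_eq hx30)).upd 2 3 1 (le_of_eq hx34)).upd 3 2 2 (le_of_eq hx43)) ![1,0,2,2] (by decide) (by decide) 0 (by decide))
      · -- 34=(2,1)
        exact False.elim (cert_false T ((skipEmb 2).trans (Function.Embedding.refl _)) (by norm_num) (fun _ => hall _) (((((LB_zero T ((skipEmb 2).trans (Function.Embedding.refl _))).upd 1 3 1 (le_of_eq hx14)).upd 2 3 2 (le_of_eq hx34)).upd 3 1 2 (le_of_eq hx41)).upd 3 2 1 (le_of_eq hx43)) ![0,1,2,2] (by decide) (by decide) 1 (by decide))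
      · -- 34=(1,3)
        exact False.elim (cert_false T ((skipEmb 2).trans (Function.Embedding.refl _)) (by norm_num) (fun _ => hall _) (((((LB_zero T ((skipEmb 2).trans (Function.Embedding.refl _))).upd 0 2 1 (le_of_eq hx03)).upd 2 0 2 (le_of_eq hx30)).upd 2 3 1 (le_of_eq hx34)).upd 3 2 3 (le_of_eq hx43)) ![1,0,2,2] (by decide) (by decide) 0 (by decide))
      · -- 34=(3,1)
        exact False.elim (cert_false T ((skipEmb 2).trans (Function.Embedding.refl _)) (by norm_num) (fun _ => hall _) (((((LB_zero T ((skipEmb 2).trans (Function.Embedding.refl _))).upd 1 3 1 (le_of_eq hx14)).upd 2 3 3 (le_of_eq hx34)).upd 3 1 2 (le_of_eq hx41)).upd 3 2 1 (le_of_eq hx43)) ![0,1,2,2] (by decide) (by decide) 1 (by decide))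
    · -- 24=(1,2)
      exact False.elim (cert_false T ((skipEmb 3).trans (Function.Embedding.refl _)) (by norm_num) (fun _ => hall _) (((((LB_zero T ((skipEmb 3).trans (Function.Embedding.refl _))).upd 1 3 1 (le_of_eq hx14)).upd 2 3 1 (le_of_eq hx24)).upd 3 1 2 (le_of_eq hx41)).upd 3 2 2 (le_of_eq hx42)) ![0,1,1,2] (by decide) (by decide) 1 (by decide))
    · -- 24=(2,1)
      exact False.elim (cert_false T ((skipEmb 3).trans (Function.Embedding.refl _)) (by norm_num) (fun _ => hall _) (((((LB_zero T ((skipEmb 3).trans (Function.Embedding.refl _))).upd 1 3 1 (le_of_eq hx14)).upd 2 3 2 (le_of_eq hx24)).upd 3 1 2 (le_of_eq hx41)).upd 3 2 1 (le_of_eq hx42)) ![0,1,2,2] (by decide) (by decide) 1 (by decide))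
    · -- 24=(1,3)
      exact False.elim (cert_false T ((skipEmb 3).trans (Function.Embedding.refl _)) (by norm_num) (fun _ => hall _) (((((LB_zero T ((skipEmb 3).trans (Function.Embedding.refl _))).upd 1 3 1 (le_of_eq hx14)).upd 2 3 1 (le_of_eq hx24)).upd 3 1 2 (le_of_eq hx41)).upd 3 2 3 (le_of_eq hx42)) ![0,1,1,2] (by decide) (by decide) 1 (by decide))
    · -- 24=(3,1)
      exact False.elim (cert_false T ((skipEmb 3).trans (Function.Embedding.refl _)) (by norm_num) (fun _ => hall _) (((((LB_zero T ((skipEmb 3).trans (Function.Embedding.refl _))).upd 1 3 1 (le_of_eq hx14)).upd 2 3 3 (le_of_eq hx24)).upd 3 1 2 (le_of_eq hx41)).upd 3 2 1 (le_of_eq hx42)) ![0,1,2,2] (by decide) (by decide) 1 (by decide))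
  · -- 14=(2,1)
    rcases d24 with ⟨rfl, rfl⟩ | ⟨rfl, rfl⟩ | ⟨rfl, rfl⟩ | ⟨rfl, rfl⟩ | ⟨rfl, rfl⟩ | ⟨rfl, rfl⟩
    · -- 24=(0,0)
      rcases d34 with ⟨rfl, rfl⟩ | ⟨rfl, rfl⟩ | ⟨rfl, rfl⟩ | ⟨rfl, rfl⟩ | ⟨rfl, rfl⟩ | ⟨rfl, rfl⟩
      · -- 34=(0,0)
        exfalso; omega
      · -- 34=(1,1)
        exact False.elim (cert_false T ((skipEmb 2).trans (Function.Embedding.refl _)) (by norm_num) (fun _ => hall _) (((((((LB_zero T ((skipEmb 2).trans (Function.Embedding.refl _))).upd 0 2 1 (le_of_eq hx03)).upd 1 3 2 (le_of_eq hx14)).upd 2 0 2 (le_of_eq hx30)).upd 2 3 1 (le_of_eq hx34)).upd 3 1 1 (le_of_eq hx41)).upd 3 2 1 (le_of_eq hx43)) ![1,2,2,2] (by decide) (by decide) 0 (by decide))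
      · -- 34=(1,2)
        exact False.elim (cert_false T ((skipEmb 2).trans (Function.Embedding.refl _)) (by norm_num) (fun _ => hall _) (((((LB_zero T ((skipEmb 2).trans (Function.Embedding.refl _))).upd 1 3 2 (le_of_eq hx14)).upd 2 3 1 (le_of_eq hx34)).upd 3 1 1 (le_of_eq hx41)).upd 3 2 2 (le_of_eq hx43)) ![0,2,1,2] (by decide) (by decide) 1 (by decide))
      · -- 34=(2,1)
        exact False.elim (cert_false T ((skipEmb 2).trans (Function.Embedding.refl _)) (by norm_num) (fun _ => hall _) (((((LB_zero T ((skipEmb 2).trans (Function.Embedding.refl _))).upd 1 3 2 (le_of_eq hx14)).upd 2 3 2 (le_of_eq hx34)).upd 3 1 1 (le_of_eq hx41)).upd 3 2 1 (le_of_eq hx43)) ![0,1,1,1] (by decide) (by decide) 1 (by decide))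
      · -- 34=(1,3)
        exact False.elim (cert_false T ((skipEmb 2).trans (Function.Embedding.refl _)) (by norm_num) (fun _ => hall _) (((((LB_zero T ((skipEmb 2).trans (Function.Embedding.refl _))).upd 0 2 1 (le_of_eq hx03)).upd 2 0 2 (le_of_eq hx30)).upd 2 3 1 (le_of_eq hx34)).upd 3 2 3 (le_of_eq hx43)) ![1,0,2,2] (by decide) (by decide) 0 (by decide))
      · -- 34=(3,1)
        exact False.elim (cert_false T ((skipEmb 2).trans (Function.Embedding.refl _)) (by norm_num) (fun _ => hall _) (((((LB_zero T ((skipEmb 2).trans (Function.Embedding.refl _))).upd 1 3 2 (le_of_eq hx14)).upd 2 3 3 (le_of_eq hx34)).upd 3 1 1 (le_of_eq hx41)).upd 3 2 1 (le_of_eq hx43)) ![0,1,1,1] (by decide) (by decide) 1 (by decide))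
    · -- 24=(1,1)
      rcases d34 with ⟨rfl, rfl⟩ | ⟨rfl, rfl⟩ | ⟨rfl, rfl⟩ | ⟨rfl, rfl⟩ | ⟨rfl, rfl⟩ | ⟨rfl, rfl⟩
      · -- 34=(0,0)
        exfalso; omega
      · -- 34=(1,1)
        exact False.elim (cert_false T ((skipEmb 2).trans (Function.Embedding.refl _)) (by norm_num) (fun _ => hall _) (((((((LB_zero T ((skipEmb 2).trans (Function.Embedding.refl _))).upd 0 2 1 (le_of_eq hx03)).upd 1 3 2 (le_of_eq hx14)).upd 2 0 2 (le_of_eq hx30)).upd 2 3 1 (le_of_eq hx34)).upd 3 1 1 (le_of_eq hx41)).upd 3 2 1 (le_of_eq hx43)) ![1,2,2,2] (by decide) (by decide) 0 (by decide))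
      · -- 34=(1,2)
        exact False.elim (cert_false T ((skipEmb 2).trans (Function.Embedding.refl _)) (by norm_num) (fun _ => hall _) (((((LB_zero T ((skipEmb 2).trans (Function.Embedding.refl _))).upd 1 3 2 (le_of_eq hx14)).upd 2 3 1 (le_of_eq hx34)).upd 3 1 1 (le_of_eq hx41)).upd 3 2 2 (le_of_eq hx43)) ![0,2,1,2] (by decide) (by decide) 1 (by decide))
      · -- 34=(2,1)
        exact False.elim (cert_false T ((skipEmb 2).trans (Function.Embedding.refl _)) (by norm_num) (fun _ => hall _) (((((LB_zero T ((skipEmb 2).trans (Function.Embedding.refl _))).upd 1 3 2 (le_of_eq hx14)).upd 2 3 2 (le_of_eq hx34)).upd 3 1 1 (le_of_eq hx41)).upd 3 2 1 (le_of_eq hx43)) ![0,1,1,1] (by decide) (by decide) 1 (by decide))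
      · -- 34=(1,3)
        exact False.elim (cert_false T ((skipEmb 2).trans (Function.Embedding.refl _)) (by norm_num) (fun _ => hall _) (((((LB_zero T ((skipEmb 2).trans (Function.Embedding.refl _))).upd 0 2 1 (le_of_eq hx03)).upd 2 0 2 (le_of_eq hx30)).upd 2 3 1 (le_of_eq hx34)).upd 3 2 3 (le_of_eq hx43)) ![1,0,2,2] (by decide) (by decide) 0 (by decide))
      · -- 34=(3,1)
        exact False.elim (cert_false T ((skipEmb 2).trans (Function.Embedding.refl _)) (by norm_num) (fun _ => hall _) (((((LB_zero T ((skipEmb 2).trans (Function.Embedding.refl _))).upd 1 3 2 (le_of_eq hx14)).upd 2 3 3 (le_of_eq hx34)).upd 3 1 1 (le_of_eq hx41)).upd 3 2 1 (le_of_eq hx43)) ![0,1,1,1] (by decide) (by decide) 1 (by decide))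
    · -- 24=(1,2)
      exact False.elim (cert_false T ((skipEmb 3).trans (Function.Embedding.refl _)) (by norm_num) (fun _ => hall _) (((((LB_zero T ((skipEmb 3).trans (Function.Embedding.refl _))).upd 1 3 2 (le_of_eq hx14)).upd 2 3 1 (le_of_eq hx24)).upd 3 1 1 (le_of_eq hx41)).upd 3 2 2 (le_of_eq hx42)) ![0,2,1,2] (by decide) (by decide) 1 (by decide))
    · -- 24=(2,1)
      exact False.elim (cert_false T ((skipEmb 3).trans (Function.Embedding.refl _)) (by norm_num) (fun _ => hall _) (((((LB_zero T ((skipEmb 3).trans (Function.Embedding.refl _))).upd 1 3 2 (le_of_eq hx14)).upd 2 3 2 (le_of_eq hx24)).upd 3 1 1 (le_of_eq hx41)).upd 3 2 1 (le_of_eq hx42)) ![0,1,1,1] (by decide) (by decide) 1 (by decide))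
    · -- 24=(1,3)
      exact False.elim (cert_false T ((skipEmb 3).trans (Function.Embedding.refl _)) (by norm_num) (fun _ => hall _) (((((LB_zero T ((skipEmb 3).trans (Function.Embedding.refl _))).upd 1 3 2 (le_of_eq hx14)).upd 2 3 1 (le_of_eq hx24)).upd 3 1 1 (le_of_eq hx41)).upd 3 2 3 (le_of_eq hx42)) ![0,1,1,2] (by decide) (by decide) 1 (by decide))
    · -- 24=(3,1)
      exact False.elim (cert_false T ((skipEmb 3).trans (Function.Embedding.refl _)) (by norm_num) (fun _ => hall _) (((((LB_zero T ((skipEmb 3).trans (Function.Embedding.refl _))).upd 1 3 2 (le_of_eq hx14)).upd 2 3 3 (le_of_eq hx24)).upd 3 1 1 (le_of_eq hx41)).upd 3 2 1 (le_of_eq hx42)) ![0,1,1,1] (by decide) (by decide) 1 (by decide))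
  · -- 14=(1,3)
    rcases d24 with ⟨rfl, rfl⟩ | ⟨rfl, rfl⟩ | ⟨rfl, rfl⟩ | ⟨rfl, rfl⟩ | ⟨rfl, rfl⟩ | ⟨rfl, rfl⟩
    · -- 24=(0,0)
      rcases d34 with ⟨rfl, rfl⟩ | ⟨rfl, rfl⟩ | ⟨rfl, rfl⟩ | ⟨rfl, rfl⟩ | ⟨rfl, rfl⟩ | ⟨rfl, rfl⟩
      · -- 34=(0,0)
        exfalso; omega
      · -- 34=(1,1)
        exact False.elim (cert_false T ((skipEmb 2).trans (Function.Embedding.refl _)) (by norm_num) (fun _ => hall _) (((((LB_zero T ((skipEmb 2).trans (Function.Embedding.refl _))).upd 1 3 1 (le_of_eq hx14)).upd 2 3 1 (le_of_eq hx34)).upd 3 1 3 (le_of_eq hx41)).upd 3 2 1 (le_of_eq hx43)) ![0,1,1,2] (by decide) (by decide) 1 (by decide))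
      · -- 34=(1,2)
        exact False.elim (cert_false T ((skipEmb 2).trans (Function.Embedding.refl _)) (by norm_num) (fun _ => hall _) (((((LB_zero T ((skipEmb 2).trans (Function.Embedding.refl _))).upd 0 2 1 (le_of_eq hx03)).upd 2 0 2 (le_of_eq hx30)).upd 2 3 1 (le_of_eq hx34)).upd 3 2 2 (le_of_eq hx43)) ![1,0,2,2] (by decide) (by decide) 0 (by decide))
      · -- 34=(2,1)
        exact False.elim (cert_false T ((skipEmb 2).trans (Function.Embedding.refl _)) (by norm_num) (fun _ => hall _) (((((LB_zero T ((skipEmb 2).trans (Function.Embedding.refl _))).upd 1 3 1 (le_of_eq hx14)).upd 2 3 2 (le_of_eq hx34)).upd 3 1 3 (le_of_eq hx41)).upd 3 2 1 (le_of_eq hx43)) ![0,1,1,2] (by decide) (by decide) 1 (by decide))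
      · -- 34=(1,3)
        exact False.elim (cert_false T ((skipEmb 2).trans (Function.Embedding.refl _)) (by norm_num) (fun _ => hall _) (((((LB_zero T ((skipEmb 2).trans (Function.Embedding.refl _))).upd 0 2 1 (le_of_eq hx03)).upd 2 0 2 (le_of_eq hx30)).upd 2 3 1 (le_of_eq hx34)).upd 3 2 3 (le_of_eq hx43)) ![1,0,2,2] (by decide) (by decide) 0 (by decide))
      · -- 34=(3,1)
        exact False.elim (cert_false T ((skipEmb 2).trans (Function.Embedding.refl _)) (by norm_num) (fun _ => hall _) (((((LB_zero T ((skipEmb 2).trans (Function.Embedding.refl _))).upd 1 3 1 (le_of_eq hx14)).upd 2 3 3 (le_of_eq hx34)).upd 3 1 3 (le_of_eq hx41)).upd 3 2 1 (le_of_eq hx43)) ![0,1,1,2] (by decide) (by decide) 1 (by decide))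
    · -- 24=(1,1)
      exact False.elim (cert_false T ((skipEmb 3).trans (Function.Embedding.refl _)) (by norm_num) (fun _ => hall _) (((((LB_zero T ((skipEmb 3).trans (Function.Embedding.refl _))).upd 1 3 1 (le_of_eq hx14)).upd 2 3 1 (le_of_eq hx24)).upd 3 1 3 (le_of_eq hx41)).upd 3 2 1 (le_of_eq hx42)) ![0,1,1,2] (by decide) (by decide) 1 (by decide))
    · -- 24=(1,2)
      exact False.elim (cert_false T ((skipEmb 3).trans (Function.Embedding.refl _)) (by norm_num) (fun _ => hall _) (((((LB_zero T ((skipEmb 3).trans (Function.Embedding.refl _))).upd 1 3 1 (le_of_eq hx14)).upd 2 3 1 (le_of_eq hx24)).upd 3 1 3 (le_of_eq hx41)).upd 3 2 2 (le_of_eq hx42)) ![0,1,1,2] (by decide) (by decide) 1 (by decide))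
    · -- 24=(2,1)
      exact False.elim (cert_false T ((skipEmb 3).trans (Function.Embedding.refl _)) (by norm_num) (fun _ => hall _) (((((LB_zero T ((skipEmb 3).trans (Function.Embedding.refl _))).upd 1 3 1 (le_of_eq hx14)).upd 2 3 2 (le_of_eq hx24)).upd 3 1 3 (le_of_eq hx41)).upd 3 2 1 (le_of_eq hx42)) ![0,1,1,2] (by decide) (by decide) 1 (by decide))
    · -- 24=(1,3)
      exact False.elim (cert_false T ((skipEmb 3).trans (Function.Embedding.refl _)) (by norm_num) (fun _ => hall _) (((((LB_zero T ((skipEmb 3).trans (Function.Embedding.refl _))).upd 1 3 1 (le_of_eq hx14)).upd 2 3 1 (le_of_eq hx24)).upd 3 1 3 (le_of_eq hx41)).upd 3 2 3 (le_of_eq hx42)) ![0,1,1,2] (by decide) (by decide) 1 (by decide))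
    · -- 24=(3,1)
      exact False.elim (cert_false T ((skipEmb 3).trans (Function.Embedding.refl _)) (by norm_num) (fun _ => hall _) (((((LB_zero T ((skipEmb 3).trans (Function.Embedding.refl _))).upd 1 3 1 (le_of_eq hx14)).upd 2 3 3 (le_of_eq hx24)).upd 3 1 3 (le_of_eq hx41)).upd 3 2 1 (le_of_eq hx42)) ![0,1,1,2] (by decide) (by decide) 1 (by decide))
  · -- 14=(3,1)
    rcases d24 with ⟨rfl, rfl⟩ | ⟨rfl, rfl⟩ | ⟨rfl, rfl⟩ | ⟨rfl, rfl⟩ | ⟨rfl, rfl⟩ | ⟨rfl, rfl⟩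
    · -- 24=(0,0)
      rcases d34 with ⟨rfl, rfl⟩ | ⟨rfl, rfl⟩ | ⟨rfl, rfl⟩ | ⟨rfl, rfl⟩ | ⟨rfl, rfl⟩ | ⟨rfl, rfl⟩
      · -- 34=(0,0)
        exfalso; omega
      · -- 34=(1,1)
        exact False.elim (cert_false T ((skipEmb 2).trans (Function.Embedding.refl _)) (by norm_num) (fun _ => hall _) (((((((LB_zero T ((skipEmb 2).trans (Function.Embedding.refl _))).upd 0 2 1 (le_of_eq hx03)).upd 1 3 3 (le_of_eq hx14)).upd 2 0 2 (le_of_eq hx30)).upd 2 3 1 (le_of_eq hx34)).upd 3 1 1 (le_of_eq hx41)).upd 3 2 1 (le_of_eq hx43)) ![1,2,2,2] (by decide) (by decide) 0 (by decide))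
      · -- 34=(1,2)
        exact False.elim (cert_false T ((skipEmb 2).trans (Function.Embedding.refl _)) (by norm_num) (fun _ => hall _) (((((LB_zero T ((skipEmb 2).trans (Function.Embedding.refl _))).upd 0 2 1 (le_of_eq hx03)).upd 2 0 2 (le_of_eq hx30)).upd 2 3 1 (le_of_eq hx34)).upd 3 2 2 (le_of_eq hx43)) ![1,0,2,2] (by decide) (by decide) 0 (by decide))
      · -- 34=(2,1)
        exact False.elim (cert_false T ((skipEmb 2).trans (Function.Embedding.refl _)) (by norm_num) (fun _ => hall _) (((((LB_zero T ((skipEmb 2).trans (Function.Embedding.refl _))).upd 1 3 3 (le_of_eq hx14)).upd 2 3 2 (le_of_eq hx34)).upd 3 1 1 (le_of_eq hx41)).upd 3 2 1 (le_of_eq hx43)) ![0,1,1,1] (by decide) (by decide) 1 (by decide))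
      · -- 34=(1,3)
        exact False.elim (cert_false T ((skipEmb 2).trans (Function.Embedding.refl _)) (by norm_num) (fun _ => hall _) (((((LB_zero T ((skipEmb 2).trans (Function.Embedding.refl _))).upd 0 2 1 (le_of_eq hx03)).upd 2 0 2 (le_of_eq hx30)).upd 2 3 1 (le_of_eq hx34)).upd 3 2 3 (le_of_eq hx43)) ![1,0,2,2] (by decide) (by decide) 0 (by decide))
      · -- 34=(3,1)
        exact False.elim (cert_false T ((skipEmb 2).trans (Function.Embedding.refl _)) (by norm_num) (fun _ => hall _) (((((LB_zero T ((skipEmb 2).trans (Function.Embedding.refl _))).upd 1 3 3 (le_of_eq hx14)).upd 2 3 3 (le_of_eq hx34)).upd 3 1 1 (le_of_eq hx41)).upd 3 2 1 (le_of_eq hx43)) ![0,1,1,1] (by decide) (by decide) 1 (by decide))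
    · -- 24=(1,1)
      exact False.elim (cert_false T ((skipEmb 3).trans (Function.Embedding.refl _)) (by norm_num) (fun _ => hall _) (((((LB_zero T ((skipEmb 3).trans (Function.Embedding.refl _))).upd 1 3 3 (le_of_eq hx14)).upd 2 3 1 (le_of_eq hx24)).upd 3 1 1 (le_of_eq hx41)).upd 3 2 1 (le_of_eq hx42)) ![0,3,1,2] (by decide) (by decide) 1 (by decide))
    · -- 24=(1,2)
      exact False.elim (cert_false T ((skipEmb 3).trans (Function.Embedding.refl _)) (by norm_num) (fun _ => hall _) (((((LB_zero T ((skipEmb 3).trans (Function.Embedding.refl _))).upd 1 3 3 (le_of_eq hx14)).upd 2 3 1 (le_of_eq hx24)).upd 3 1 1 (le_of_eq hx41)).upd 3 2 2 (le_of_eq hx42)) ![0,2,1,2] (by decide) (by decide) 1 (by decide))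
    · -- 24=(2,1)
      exact False.elim (cert_false T ((skipEmb 3).trans (Function.Embedding.refl _)) (by norm_num) (fun _ => hall _) (((((LB_zero T ((skipEmb 3).trans (Function.Embedding.refl _))).upd 1 3 3 (le_of_eq hx14)).upd 2 3 2 (le_of_eq hx24)).upd 3 1 1 (le_of_eq hx41)).upd 3 2 1 (le_of_eq hx42)) ![0,1,1,1] (by decide) (by decide) 1 (by decide))
    · -- 24=(1,3)
      exact False.elim (cert_false T ((skipEmb 3).trans (Function.Embedding.refl _)) (by norm_num) (fun _ => hall _) (((((LB_zero T ((skipEmb 3).trans (Function.Embedding.refl _))).upd 1 3 3 (le_of_eq hx14)).upd 2 3 1 (le_of_eq hx24)).upd 3 1 1 (le_of_eq hx41)).upd 3 2 3 (le_of_eq hx42)) ![0,1,1,2] (by decide) (by decide) 1 (by decide))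
    · -- 24=(3,1)
      exact False.elim (cert_false T ((skipEmb 3).trans (Function.Embedding.refl _)) (by norm_num) (fun _ => hall _) (((((LB_zero T ((skipEmb 3).trans (Function.Embedding.refl _))).upd 1 3 3 (le_of_eq hx14)).upd 2 3 3 (le_of_eq hx24)).upd 3 1 1 (le_of_eq hx41)).upd 3 2 1 (le_of_eq hx42)) ![0,1,1,1] (by decide) (by decide) 1 (by decide))

theorem case66 (T : NumericalType 5) (hall : ∀ i, T.IsMinusTwo i) (d : SData T)
    (h01 : N T (Function.Embedding.refl _) 0 1 = 0) (h10 : N T (Function.Embedding.refl _) 1 0 = 0)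
    (h02 : N T (Function.Embedding.refl _) 0 2 = 0) (h20 : N T (Function.Embedding.refl _) 2 0 = 0)
    (h12 : N T (Function.Embedding.refl _) 1 2 = 0) (h21 : N T (Function.Embedding.refl _) 2 1 = 0)
    (h03 : N T (Function.Embedding.refl _) 0 3 = 1) (h30 : N T (Function.Embedding.refl _) 3 0 = 2)
    (h13 : N T (Function.Embedding.refl _) 1 3 = 0) (h31 : N T (Function.Embedding.refl _) 3 1 = 0)
    (h23 : N T (Function.Embedding.refl _) 2 3 = 0) (h32 : N T (Function.Embedding.refl _) 3 2 = 0) :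
    Goal T := by
  unfold Goal
  have hd := d
  obtain ⟨x01, x02, x03, x04, x10, x12, x13, x14, x20, x21, x23, x24, x30, x31, x32, x34, x40, x41, x42, x43, hx01, hx02, hx03, hx04, hx10, hx12, hx13, hx14, hx20, hx21, hx23, hx24, hx30, hx31, hx32, hx34, hx40, hx41, hx42, hx43, hw0, hm0, hw1, hm1, hw2, hm2, hw3, hm3, hw4, hm4, a00, a01, a02, a03, a04, a11, a10, a12, a13, a14, a22, a20, a21, a23, a24, a33, a30, a31, a32, a34, a44, a40, a41, a42, a43, wN01, wN02, wN12, wN03, wN13, wN23, wN04, wN14, wN24, wN34, e0, e1, e2, e3, e4, d01, d02, d12, d03, d13, d23, d04, d14, d24, d34⟩ := d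
  obtain rfl : x01 = 0 := hx01.trans h01
  obtain rfl : x10 = 0 := hx10.trans h10
  obtain rfl : x02 = 0 := hx02.trans h02
  obtain rfl : x20 = 0 := hx20.trans h20
  obtain rfl : x12 = 0 := hx12.trans h12
  obtain rfl : x21 = 0 := hx21.trans h21
  obtain rfl : x03 = 1 := hx03.trans h03
  obtain rfl : x30 = 2 := hx30.trans h30
  obtain rfl : x13 = 0 := hx13.trans h13
  obtain rfl : x31 = 0 := hx31.trans h31
  obtain rfl : x23 = 0 := hx23.trans h23
  obtain rfl : x32 = 0 := hx32.trans h32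
  rcases d04 with ⟨rfl, rfl⟩ | ⟨rfl, rfl⟩ | ⟨rfl, rfl⟩ | ⟨rfl, rfl⟩ | ⟨rfl, rfl⟩ | ⟨rfl, rfl⟩
  · -- 04=(0,0)
    exact case67 T hall hd hx01.symm hx10.symm hx02.symm hx20.symm hx12.symm hx21.symm hx03.symm hx30.symm hx13.symm hx31.symm hx23.symm hx32.symm hx04.symm hx40.symm
  · -- 04=(1,1)
    rcases d14 with ⟨rfl, rfl⟩ | ⟨rfl, rfl⟩ | ⟨rfl, rfl⟩ | ⟨rfl, rfl⟩ | ⟨rfl, rfl⟩ | ⟨rfl, rfl⟩
    · -- 14=(0,0)
      rcases d24 with ⟨rfl, rfl⟩ | ⟨rfl, rfl⟩ | ⟨rfl, rfl⟩ | ⟨rfl, rfl⟩ | ⟨rfl, rfl⟩ | ⟨rfl, rfl⟩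
      · -- 24=(0,0)
        rcases d34 with ⟨rfl, rfl⟩ | ⟨rfl, rfl⟩ | ⟨rfl, rfl⟩ | ⟨rfl, rfl⟩ | ⟨rfl, rfl⟩ | ⟨rfl, rfl⟩
        · -- 34=(0,0)
          exfalso; omega
        · -- 34=(1,1)
          exact False.elim (cert_false T ((skipEmb 2).trans (Function.Embedding.refl _)) (by norm_num) (fun _ => hall _) (((((((LB_zero T ((skipEmb 2).trans (Function.Embedding.refl _))).upd 0 2 1 (le_of_eq hx03)).upd 0 3 1 (le_of_eq hx04)).upd 2 0 2 (le_of_eq hx30)).upd 2 3 1 (le_of_eq hx34)).upd 3 0 1 (le_of_eq hx40)).upd 3 2 1 (le_of_eq hx43)) ![1,0,1,1] (by decide) (by decide) 0 (by decide))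
        · -- 34=(1,2)
          exact False.elim (cert_false T ((skipEmb 2).trans (Function.Embedding.refl _)) (by norm_num) (fun _ => hall _) (((((((LB_zero T ((skipEmb 2).trans (Function.Embedding.refl _))).upd 0 2 1 (le_of_eq hx03)).upd 0 3 1 (le_of_eq hx04)).upd 2 0 2 (le_of_eq hx30)).upd 2 3 1 (le_of_eq hx34)).upd 3 0 1 (le_of_eq hx40)).upd 3 2 2 (le_of_eq hx43)) ![1,0,1,1] (by decide) (by decide) 0 (by decide))
        · -- 34=(2,1)
          exact False.elim (cert_false T ((skipEmb 2).trans (Function.Embedding.refl _)) (by norm_num) (fun _ => hall _) (((((((LB_zero T ((skipEmb 2).trans (Function.Embedding.refl _))).upd 0 2 1 (le_of_eq hx03)).upd 0 3 1 (le_of_eq hx04)).upd 2 0 2 (le_of_eq hx30)).upd 2 3 2 (le_of_eq hx34)).upd 3 0 1 (le_of_eq hx40)).upd 3 2 1 (le_of_eq hx43)) ![1,0,1,1] (by decide) (by decide) 0 (by decide))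
        · -- 34=(1,3)
          exact False.elim (cert_false T ((skipEmb 2).trans (Function.Embedding.refl _)) (by norm_num) (fun _ => hall _) (((((((LB_zero T ((skipEmb 2).trans (Function.Embedding.refl _))).upd 0 2 1 (le_of_eq hx03)).upd 0 3 1 (le_of_eq hx04)).upd 2 0 2 (le_of_eq hx30)).upd 2 3 1 (le_of_eq hx34)).upd 3 0 1 (le_of_eq hx40)).upd 3 2 3 (le_of_eq hx43)) ![1,0,1,1] (by decide) (by decide) 0 (by decide))
        · -- 34=(3,1)
          exact False.elim (cert_false T ((skipEmb 2).trans (Function.Embedding.refl _)) (by norm_num) (fun _ => hall _) (((((((LB_zero T ((skipEmb 2).trans (Function.Embedding.refl _))).upd 0 2 1 (le_of_eq hx03)).upd 0 3 1 (le_of_eq hx04)).upd 2 0 2 (le_of_eq hx30)).upd 2 3 3 (le_of_eq hx34)).upd 3 0 1 (le_of_eq hx40)).upd 3 2 1 (le_of_eq hx43)) ![1,0,1,1] (by decide) (by decide) 0 (by decide))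
      · -- 24=(1,1)
        rcases d34 with ⟨rfl, rfl⟩ | ⟨rfl, rfl⟩ | ⟨rfl, rfl⟩ | ⟨rfl, rfl⟩ | ⟨rfl, rfl⟩ | ⟨rfl, rfl⟩
        · -- 34=(0,0)
          exfalso; omega
        · -- 34=(1,1)
          exact False.elim (cert_false T ((skipEmb 2).trans (Function.Embedding.refl _)) (by norm_num) (fun _ => hall _) (((((((LB_zero T ((skipEmb 2).trans (Function.Embedding.refl _))).upd 0 2 1 (le_of_eq hx03)).upd 0 3 1 (le_of_eq hx04)).upd 2 0 2 (le_of_eq hx30)).upd 2 3 1 (le_of_eq hx34)).upd 3 0 1 (le_of_eq hx40)).upd 3 2 1 (le_of_eq hx43)) ![1,0,1,1] (by decide) (by decide) 0 (by decide))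
        · -- 34=(1,2)
          exact False.elim (cert_false T ((skipEmb 2).trans (Function.Embedding.refl _)) (by norm_num) (fun _ => hall _) (((((((LB_zero T ((skipEmb 2).trans (Function.Embedding.refl _))).upd 0 2 1 (le_of_eq hx03)).upd 0 3 1 (le_of_eq hx04)).upd 2 0 2 (le_of_eq hx30)).upd 2 3 1 (le_of_eq hx34)).upd 3 0 1 (le_of_eq hx40)).upd 3 2 2 (le_of_eq hx43)) ![1,0,1,1] (by decide) (by decide) 0 (by decide))
        · -- 34=(2,1)
          exact False.elim (cert_false T ((skipEmb 2).trans (Function.Embedding.refl _)) (by norm_num) (fun _ => hall _) (((((((LB_zero T ((skipEmb 2).trans (Function.Embedding.refl _))).upd 0 2 1 (le_of_eq hx03)).upd 0 3 1 (le_of_eq hx04)).upd 2 0 2 (le_of_eq hx30)).upd 2 3 2 (le_of_eq hx34)).upd 3 0 1 (le_of_eq hx40)).upd 3 2 1 (le_of_eq hx43)) ![1,0,1,1] (by decide) (by decide) 0 (by decide))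
        · -- 34=(1,3)
          exact False.elim (cert_false T ((skipEmb 2).trans (Function.Embedding.refl _)) (by norm_num) (fun _ => hall _) (((((((LB_zero T ((skipEmb 2).trans (Function.Embedding.refl _))).upd 0 2 1 (le_of_eq hx03)).upd 0 3 1 (le_of_eq hx04)).upd 2 0 2 (le_of_eq hx30)).upd 2 3 1 (le_of_eq hx34)).upd 3 0 1 (le_of_eq hx40)).upd 3 2 3 (le_of_eq hx43)) ![1,0,1,1] (by decide) (by decide) 0 (by decide))
        · -- 34=(3,1)
          exact False.elim (cert_false T ((skipEmb 2).trans (Function.Embedding.refl _)) (by norm_num) (fun _ => hall _) (((((((LB_zero T ((skipEmb 2).trans (Function.Embedding.refl _))).upd 0 2 1 (le_of_eq hx03)).upd 0 3 1 (le_of_eq hx04)).upd 2 0 2 (le_of_eq hx30)).upd 2 3 3 (le_of_eq hx34)).upd 3 0 1 (le_of_eq hx40)).upd 3 2 1 (le_of_eq hx43)) ![1,0,1,1] (by decide) (by decide) 0 (by decide))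
      · -- 24=(1,2)
        exact False.elim (cert_false T ((skipEmb 1).trans (Function.Embedding.refl _)) (by norm_num) (fun _ => hall _) (((((((LB_zero T ((skipEmb 1).trans (Function.Embedding.refl _))).upd 0 2 1 (le_of_eq hx03)).upd 0 3 1 (le_of_eq hx04)).upd 1 3 1 (le_of_eq hx24)).upd 2 0 2 (le_of_eq hx30)).upd 3 0 1 (le_of_eq hx40)).upd 3 1 2 (le_of_eq hx42)) ![2,1,2,2] (by decide) (by decide) 0 (by decide))
      · -- 24=(2,1)
        exact False.elim (cert_false T ((skipEmb 1).trans (Function.Embedding.refl _)) (by norm_num) (fun _ => hall _) (((((((LB_zero T ((skipEmb 1).trans (Function.Embedding.refl _))).upd 0 2 1 (le_of_eq hx03)).upd 0 3 1 (le_of_eq hx04)).upd 1 3 2 (le_of_eq hx24)).upd 2 0 2 (le_of_eq hx30)).upd 3 0 1 (le_of_eq hx40)).upd 3 1 1 (le_of_eq hx42)) ![1,1,1,1] (by decide) (by decide) 0 (by decide))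
      · -- 24=(1,3)
        exact False.elim (cert_false T ((skipEmb 3).trans (Function.Embedding.refl _)) (by norm_num) (fun _ => hall _) (((((LB_zero T ((skipEmb 3).trans (Function.Embedding.refl _))).upd 0 3 1 (le_of_eq hx04)).upd 2 3 1 (le_of_eq hx24)).upd 3 0 1 (le_of_eq hx40)).upd 3 2 3 (le_of_eq hx42)) ![1,0,1,2] (by decide) (by decide) 0 (by decide))
      · -- 24=(3,1)
        exact False.elim (cert_false T ((skipEmb 3).trans (Function.Embedding.refl _)) (by norm_num) (fun _ => hall _) (((((LB_zero T ((skipEmb 3).trans (Function.Embedding.refl _))).upd 0 3 1 (le_of_eq hx04)).upd 2 3 3 (le_of_eq hx24)).upd 3 0 1 (le_of_eq hx40)).upd 3 2 1 (le_of_eq hx42)) ![1,0,3,2] (by decide) (by decide) 0 (by decide))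
    · -- 14=(1,1)
      rcases d24 with ⟨rfl, rfl⟩ | ⟨rfl, rfl⟩ | ⟨rfl, rfl⟩ | ⟨rfl, rfl⟩ | ⟨rfl, rfl⟩ | ⟨rfl, rfl⟩
      · -- 24=(0,0)
        rcases d34 with ⟨rfl, rfl⟩ | ⟨rfl, rfl⟩ | ⟨rfl, rfl⟩ | ⟨rfl, rfl⟩ | ⟨rfl, rfl⟩ | ⟨rfl, rfl⟩
        · -- 34=(0,0)
          exfalso; omega
        · -- 34=(1,1)
          exact False.elim (cert_false T ((skipEmb 2).trans (Function.Embedding.refl _)) (by norm_num) (fun _ => hall _) (((((((LB_zero T ((skipEmb 2).trans (Function.Embedding.refl _))).upd 0 2 1 (le_of_eq hx03)).upd 0 3 1 (le_of_eq hx04)).upd 2 0 2 (le_of_eq hx30)).upd 2 3 1 (le_of_eq hx34)).upd 3 0 1 (le_of_eq hx40)).upd 3 2 1 (le_of_eq hx43)) ![1,0,1,1] (by decide) (by decide) 0 (by decide))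
        · -- 34=(1,2)
          exact False.elim (cert_false T ((skipEmb 2).trans (Function.Embedding.refl _)) (by norm_num) (fun _ => hall _) (((((((LB_zero T ((skipEmb 2).trans (Function.Embedding.refl _))).upd 0 2 1 (le_of_eq hx03)).upd 0 3 1 (le_of_eq hx04)).upd 2 0 2 (le_of_eq hx30)).upd 2 3 1 (le_of_eq hx34)).upd 3 0 1 (le_of_eq hx40)).upd 3 2 2 (le_of_eq hx43)) ![1,0,1,1] (by decide) (by decide) 0 (by decide))
        · -- 34=(2,1)
          exact False.elim (cert_false T ((skipEmb 2).trans (Function.Embedding.refl _)) (by norm_num) (fun _ => hall _) (((((((LB_zero T ((skipEmb 2).trans (Function.Embedding.refl _))).upd 0 2 1 (le_of_eq hx03)).upd 0 3 1 (le_of_eq hx04)).upd 2 0 2 (le_of_eq hx30)).upd 2 3 2 (le_of_eq hx34)).upd 3 0 1 (le_of_eq hx40)).upd 3 2 1 (le_of_eq hx43)) ![1,0,1,1] (by decide) (by decide) 0 (by decide))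
        · -- 34=(1,3)
          exact False.elim (cert_false T ((skipEmb 2).trans (Function.Embedding.refl _)) (by norm_num) (fun _ => hall _) (((((((LB_zero T ((skipEmb 2).trans (Function.Embedding.refl _))).upd 0 2 1 (le_of_eq hx03)).upd 0 3 1 (le_of_eq hx04)).upd 2 0 2 (le_of_eq hx30)).upd 2 3 1 (le_of_eq hx34)).upd 3 0 1 (le_of_eq hx40)).upd 3 2 3 (le_of_eq hx43)) ![1,0,1,1] (by decide) (by decide) 0 (by decide))
        · -- 34=(3,1)
          exact False.elim (cert_false T ((skipEmb 2).trans (Function.Embedding.refl _)) (by norm_num) (fun _ => hall _) (((((((LB_zero T ((skipEmb 2).trans (Function.Embedding.refl _))).upd 0 2 1 (le_of_eq hx03)).upd 0 3 1 (le_of_eq hx04)).upd 2 0 2 (le_of_eq hx30)).upd 2 3 3 (le_of_eq hx34)).upd 3 0 1 (le_of_eq hx40)).upd 3 2 1 (le_of_eq hx43)) ![1,0,1,1] (by decide) (by decide) 0 (by decide))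
      · -- 24=(1,1)
        rcases d34 with ⟨rfl, rfl⟩ | ⟨rfl, rfl⟩ | ⟨rfl, rfl⟩ | ⟨rfl, rfl⟩ | ⟨rfl, rfl⟩ | ⟨rfl, rfl⟩
        · -- 34=(0,0)
          refine ⟨(⟨![3, 0, 4, 1, 2], ![1, 3, 4, 0, 2], by decide, by decide⟩ : Equiv.Perm (Fin 5)), T.m 1, T.w 3, Or.inr (Or.inr (Or.inr (Or.inr (Or.inr (Or.inr (Or.inr (Or.inr (?_))))))))⟩
          show T.m 3 = 2 * T.m 1 ∧ T.m 0 = 2 * T.m 1 ∧ T.m 4 = 2 * T.m 1 ∧ T.m 1 = T.m 1 ∧ T.m 2 = T.m 1 ∧ T.w 3 = T.w 3 ∧ T.w 0 = 2 * T.w 3 ∧ T.w 4 = 2 * T.w 3 ∧ T.w 1 = 2 * T.w 3 ∧ T.w 2 = 2 * T.w 3 ∧ T.a 3 3 = -2 * T.w 3 ∧ T.a 3 0 = 2 * T.w 3 ∧ T.a 3 4 = 0 ∧ T.a 3 1 = 0 ∧ T.a 3 2 = 0 ∧ T.a 0 0 = -4 * T.w 3 ∧ T.a 0 4 = 2 * T.w 3 ∧ T.a 0 1 = 0 ∧ T.a 0 2 = 0 ∧ T.a 4 4 = -4 * T.w 3 ∧ T.a 4 1 = 2 * T.w 3 ∧ T.a 4 2 = 2 * T.w 3 ∧ T.a 1 1 = -4 * T.w 3 ∧ T.a 1 2 = 0 ∧ T.a 2 2 = -4 * T.w 3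
          refine ⟨?_, ?_, ?_, ?_, ?_, ?_, ?_, ?_, ?_, ?_, ?_, ?_, ?_, ?_, ?_, ?_, ?_, ?_, ?_, ?_, ?_, ?_, ?_, ?_, ?_⟩ <;> omega
        · -- 34=(1,1)
          exact False.elim (cert_false T ((skipEmb 2).trans (Function.Embedding.refl _)) (by norm_num) (fun _ => hall _) (((((((LB_zero T ((skipEmb 2).trans (Function.Embedding.refl _))).upd 0 2 1 (le_of_eq hx03)).upd 0 3 1 (le_of_eq hx04)).upd 2 0 2 (le_of_eq hx30)).upd 2 3 1 (le_of_eq hx34)).upd 3 0 1 (le_of_eq hx40)).upd 3 2 1 (le_of_eq hx43)) ![1,0,1,1] (by decide) (by decide) 0 (by decide))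
        · -- 34=(1,2)
          exact False.elim (cert_false T ((skipEmb 2).trans (Function.Embedding.refl _)) (by norm_num) (fun _ => hall _) (((((((LB_zero T ((skipEmb 2).trans (Function.Embedding.refl _))).upd 0 2 1 (le_of_eq hx03)).upd 0 3 1 (le_of_eq hx04)).upd 2 0 2 (le_of_eq hx30)).upd 2 3 1 (le_of_eq hx34)).upd 3 0 1 (le_of_eq hx40)).upd 3 2 2 (le_of_eq hx43)) ![1,0,1,1] (by decide) (by decide) 0 (by decide))
        · -- 34=(2,1)
          exact False.elim (cert_false T ((skipEmb 2).trans (Function.Embedding.refl _)) (by norm_num) (fun _ => hall _) (((((((LB_zero T ((skipEmb 2).trans (Function.Embedding.refl _))).upd 0 2 1 (le_of_eq hx03)).upd 0 3 1 (le_of_eq hx04)).upd 2 0 2 (le_of_eq hx30)).upd 2 3 2 (le_of_eq hx34)).upd 3 0 1 (le_of_eq hx40)).upd 3 2 1 (le_of_eq hx43)) ![1,0,1,1] (by decide) (by decide) 0 (by decide))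
        · -- 34=(1,3)
          exact False.elim (cert_false T ((skipEmb 2).trans (Function.Embedding.refl _)) (by norm_num) (fun _ => hall _) (((((((LB_zero T ((skipEmb 2).trans (Function.Embedding.refl _))).upd 0 2 1 (le_of_eq hx03)).upd 0 3 1 (le_of_eq hx04)).upd 2 0 2 (le_of_eq hx30)).upd 2 3 1 (le_of_eq hx34)).upd 3 0 1 (le_of_eq hx40)).upd 3 2 3 (le_of_eq hx43)) ![1,0,1,1] (by decide) (by decide) 0 (by decide))
        · -- 34=(3,1)
          exact False.elim (cert_false T ((skipEmb 2).trans (Function.Embedding.refl _)) (by norm_num) (fun _ => hall _) (((((((LB_zero T ((skipEmb 2).trans (Function.Embedding.refl _))).upd 0 2 1 (le_of_eq hx03)).upd 0 3 1 (le_of_eq hx04)).upd 2 0 2 (le_of_eq hx30)).upd 2 3 3 (le_of_eq hx34)).upd 3 0 1 (le_of_eq hx40)).upd 3 2 1 (le_of_eq hx43)) ![1,0,1,1] (by decide) (by decide) 0 (by decide))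
      · -- 24=(1,2)
        exact False.elim (cert_false T ((skipEmb 3).trans (Function.Embedding.refl _)) (by norm_num) (fun _ => hall _) (((((((LB_zero T ((skipEmb 3).trans (Function.Embedding.refl _))).upd 0 3 1 (le_of_eq hx04)).upd 1 3 1 (le_of_eq hx14)).upd 2 3 1 (le_of_eq hx24)).upd 3 0 1 (le_of_eq hx40)).upd 3 1 1 (le_of_eq hx41)).upd 3 2 2 (le_of_eq hx42)) ![1,1,1,2] (by decide) (by decide) 0 (by decide))
      · -- 24=(2,1)
        exact False.elim (cert_false T ((skipEmb 3).trans (Function.Embedding.refl _)) (by norm_num) (fun _ => hall _) (((((((LB_zero T ((skipEmb 3).trans (Function.Embedding.refl _))).upd 0 3 1 (le_of_eq hx04)).upd 1 3 1 (le_of_eq hx14)).upd 2 3 2 (le_of_eq hx24)).upd 3 0 1 (le_of_eq hx40)).upd 3 1 1 (le_of_eq hx41)).upd 3 2 1 (le_of_eq hx42)) ![1,1,2,2] (by decide) (by decide) 0 (by decide))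
      · -- 24=(1,3)
        exact False.elim (cert_false T ((skipEmb 3).trans (Function.Embedding.refl _)) (by norm_num) (fun _ => hall _) (((((LB_zero T ((skipEmb 3).trans (Function.Embedding.refl _))).upd 1 3 1 (le_of_eq hx14)).upd 2 3 1 (le_of_eq hx24)).upd 3 1 1 (le_of_eq hx41)).upd 3 2 3 (le_of_eq hx42)) ![0,1,1,2] (by decide) (by decide) 1 (by decide))
      · -- 24=(3,1)
        exact False.elim (cert_false T ((skipEmb 3).trans (Function.Embedding.refl _)) (by norm_num) (fun _ => hall _) (((((((LB_zero T ((skipEmb 3).trans (Function.Embedding.refl _))).upd 0 3 1 (le_of_eq hx04)).upd 1 3 1 (le_of_eq hx14)).upd 2 3 3 (le_of_eq hx24)).upd 3 0 1 (le_of_eq hx40)).upd 3 1 1 (le_of_eq hx41)).upd 3 2 1 (le_of_eq hx42)) ![1,1,2,2] (by decide) (by decide) 0 (by decide))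
    · -- 14=(1,2)
      exact False.elim (cert_false T ((skipEmb 2).trans (Function.Embedding.refl _)) (by norm_num) (fun _ => hall _) (((((((LB_zero T ((skipEmb 2).trans (Function.Embedding.refl _))).upd 0 2 1 (le_of_eq hx03)).upd 0 3 1 (le_of_eq hx04)).upd 1 3 1 (le_of_eq hx14)).upd 2 0 2 (le_of_eq hx30)).upd 3 0 1 (le_of_eq hx40)).upd 3 1 2 (le_of_eq hx41)) ![2,1,2,2] (by decide) (by decide) 0 (by decide))
    · -- 14=(2,1)
      exact False.elim (cert_false T ((skipEmb 2).trans (Function.Embedding.refl _)) (by norm_num) (fun _ => hall _) (((((((LB_zero T ((skipEmb 2).trans (Function.Embedding.refl _))).upd 0 2 1 (le_of_eq hx03)).upd 0 3 1 (le_of_eq hx04)).upd 1 3 2 (le_of_eq hx14)).upd 2 0 2 (le_of_eq hx30)).upd 3 0 1 (le_of_eq hx40)).upd 3 1 1 (le_of_eq hx41)) ![1,1,1,1] (by decide) (by decide) 0 (by decide))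
    · -- 14=(1,3)
      exact False.elim (cert_false T ((skipEmb 3).trans (Function.Embedding.refl _)) (by norm_num) (fun _ => hall _) (((((LB_zero T ((skipEmb 3).trans (Function.Embedding.refl _))).upd 0 3 1 (le_of_eq hx04)).upd 1 3 1 (le_of_eq hx14)).upd 3 0 1 (le_of_eq hx40)).upd 3 1 3 (le_of_eq hx41)) ![1,1,0,2] (by decide) (by decide) 0 (by decide))
    · -- 14=(3,1)
      exact False.elim (cert_false T ((skipEmb 3).trans (Function.Embedding.refl _)) (by norm_num) (fun _ => hall _) (((((LB_zero T ((skipEmb 3).trans (Function.Embedding.refl _))).upd 0 3 1 (le_of_eq hx04)).upd 1 3 3 (le_of_eq hx14)).upd 3 0 1 (le_of_eq hx40)).upd 3 1 1 (le_of_eq hx41)) ![1,3,0,2] (by decide) (by decide) 0 (by decide))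
  · -- 04=(1,2)
    exact False.elim (cert_false T ((skipEmb 2).trans (Function.Embedding.refl _)) (by norm_num) (fun _ => hall _) (((((LB_zero T ((skipEmb 2).trans (Function.Embedding.refl _))).upd 0 2 1 (le_of_eq hx03)).upd 0 3 1 (le_of_eq hx04)).upd 2 0 2 (le_of_eq hx30)).upd 3 0 2 (le_of_eq hx40)) ![1,0,1,1] (by decide) (by decide) 0 (by decide))
  · -- 04=(2,1)
    exact False.elim (cert_false T ((skipEmb 2).trans (Function.Embedding.refl _)) (by norm_num) (fun _ => hall _) (((((LB_zero T ((skipEmb 2).trans (Function.Embedding.refl _))).upd 0 2 1 (le_of_eq hx03)).upd 0 3 2 (le_of_eq hx04)).upd 2 0 2 (le_of_eq hx30)).upd 3 0 1 (le_of_eq hx40)) ![2,0,2,1] (by decide) (by decide) 0 (by decide))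
  · -- 04=(1,3)
    exact False.elim (cert_false T ((skipEmb 2).trans (Function.Embedding.refl _)) (by norm_num) (fun _ => hall _) (((((LB_zero T ((skipEmb 2).trans (Function.Embedding.refl _))).upd 0 2 1 (le_of_eq hx03)).upd 0 3 1 (le_of_eq hx04)).upd 2 0 2 (le_of_eq hx30)).upd 3 0 3 (le_of_eq hx40)) ![1,0,1,1] (by decide) (by decide) 0 (by decide))
  · -- 04=(3,1)
    exact False.elim (cert_false T ((skipEmb 2).trans (Function.Embedding.refl _)) (by norm_num) (fun _ => hall _) (((((LB_zero T ((skipEmb 2).trans (Function.Embedding.refl _))).upd 0 2 1 (le_of_eq hx03)).upd 0 3 3 (le_of_eq hx04)).upd 2 0 2 (le_of_eq hx30)).upd 3 0 1 (le_of_eq hx40)) ![2,0,1,1] (by decide) (by decide) 0 (by decide))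

theorem case69 (T : NumericalType 5) (hall : ∀ i, T.IsMinusTwo i) (d : SData T)
    (h01 : N T (Function.Embedding.refl _) 0 1 = 0) (h10 : N T (Function.Embedding.refl _) 1 0 = 0)
    (h02 : N T (Function.Embedding.refl _) 0 2 = 0) (h20 : N T (Function.Embedding.refl _) 2 0 = 0)
    (h12 : N T (Function.Embedding.refl _) 1 2 = 0) (h21 : N T (Function.Embedding.refl _) 2 1 = 0)
    (h03 : N T (Function.Embedding.refl _) 0 3 = 1) (h30 : N T (Function.Embedding.refl _) 3 0 = 2)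
    (h13 : N T (Function.Embedding.refl _) 1 3 = 0) (h31 : N T (Function.Embedding.refl _) 3 1 = 0)
    (h23 : N T (Function.Embedding.refl _) 2 3 = 1) (h32 : N T (Function.Embedding.refl _) 3 2 = 1)
    (h04 : N T (Function.Embedding.refl _) 0 4 = 0) (h40 : N T (Function.Embedding.refl _) 4 0 = 0) :
    Goal T := by
  unfold Goal
  have hd := d
  obtain ⟨x01, x02, x03, x04, x10, x12, x13, x14, x20, x21, x23, x24, x30, x31, x32, x34, x40, x41, x42, x43, hx01, hx02, hx03, hx04, hx10, hx12, hx13, hx14, hx20, hx21, hx23, hx24, hx30, hx31, hx32, hx34, hx40, hx41, hx42, hx43, hw0, hm0, hw1, hm1, hw2, hm2, hw3, hm3, hw4, hm4, a00, a01, a02, a03, a04, a11, a10, a12, a13, a14, a22, a20, a21, a23, a24, a33, a30, a31, a32, a34, a44, a40, a41, a42, a43, wN01, wN02, wN12, wN03, wN13, wN23, wN04, wN14, wN24, wN34, e0, e1, e2, e3, e4, d01, d02, d12, d03, d13, d23, d04, d14, d24, d34⟩ := d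
  obtain rfl : x01 = 0 := hx01.trans h01
  obtain rfl : x10 = 0 := hx10.trans h10
  obtain rfl : x02 = 0 := hx02.trans h02
  obtain rfl : x20 = 0 := hx20.trans h20
  obtain rfl : x12 = 0 := hx12.trans h12
  obtain rfl : x21 = 0 := hx21.trans h21
  obtain rfl : x03 = 1 := hx03.trans h03
  obtain rfl : x30 = 2 := hx30.trans h30
  obtain rfl : x13 = 0 := hx13.trans h13
  obtain rfl : x31 = 0 := hx31.trans h31
  obtain rfl : x23 = 1 := hx23.trans h23
  obtain rfl : x32 = 1 := hx32.trans h32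
  obtain rfl : x04 = 0 := hx04.trans h04
  obtain rfl : x40 = 0 := hx40.trans h40
  rcases d14 with ⟨rfl, rfl⟩ | ⟨rfl, rfl⟩ | ⟨rfl, rfl⟩ | ⟨rfl, rfl⟩ | ⟨rfl, rfl⟩ | ⟨rfl, rfl⟩
  · -- 14=(0,0)
    rcases d24 with ⟨rfl, rfl⟩ | ⟨rfl, rfl⟩ | ⟨rfl, rfl⟩ | ⟨rfl, rfl⟩ | ⟨rfl, rfl⟩ | ⟨rfl, rfl⟩
    · -- 24=(0,0)
      rcases d34 with ⟨rfl, rfl⟩ | ⟨rfl, rfl⟩ | ⟨rfl, rfl⟩ | ⟨rfl, rfl⟩ | ⟨rfl, rfl⟩ | ⟨rfl, rfl⟩
      · -- 34=(0,0)
        exfalso; omega
      · -- 34=(1,1)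
        exact False.elim (cert_false T ((skipEmb 1).trans (Function.Embedding.refl _)) (by norm_num) (fun _ => hall _) (((((((LB_zero T ((skipEmb 1).trans (Function.Embedding.refl _))).upd 0 2 1 (le_of_eq hx03)).upd 1 2 1 (le_of_eq hx23)).upd 2 0 2 (le_of_eq hx30)).upd 2 1 1 (le_of_eq hx32)).upd 2 3 1 (le_of_eq hx34)).upd 3 2 1 (le_of_eq hx43)) ![1,1,2,1] (by decide) (by decide) 0 (by decide))
      · -- 34=(1,2)
        exact False.elim (cert_false T ((skipEmb 2).trans (Function.Embedding.refl _)) (by norm_num) (fun _ => hall _) (((((LB_zero T ((skipEmb 2).trans (Function.Embedding.refl _))).upd 0 2 1 (le_of_eq hx03)).upd 2 0 2 (le_of_eq hx30)).upd 2 3 1 (le_of_eq hx34)).upd 3 2 2 (le_of_eq hx43)) ![1,0,2,2] (by decide) (by decide) 0 (by decide))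
      · -- 34=(2,1)
        exact False.elim (cert_false T ((skipEmb 2).trans (Function.Embedding.refl _)) (by norm_num) (fun _ => hall _) (((((LB_zero T ((skipEmb 2).trans (Function.Embedding.refl _))).upd 0 2 1 (le_of_eq hx03)).upd 2 0 2 (le_of_eq hx30)).upd 2 3 2 (le_of_eq hx34)).upd 3 2 1 (le_of_eq hx43)) ![1,0,2,1] (by decide) (by decide) 0 (by decide))
      · -- 34=(1,3)
        exact False.elim (cert_false T ((skipEmb 2).trans (Function.Embedding.refl _)) (by norm_num) (fun _ => hall _) (((((LB_zero T ((skipEmb 2).trans (Function.Embedding.refl _))).upd 0 2 1 (le_of_eq hx03)).upd 2 0 2 (le_of_eq hx30)).upd 2 3 1 (le_of_eq hx34)).upd 3 2 3 (le_of_eq hx43)) ![1,0,2,2] (by decide) (by decide) 0 (by decide))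
      · -- 34=(3,1)
        exact False.elim (cert_false T ((skipEmb 2).trans (Function.Embedding.refl _)) (by norm_num) (fun _ => hall _) (((((LB_zero T ((skipEmb 2).trans (Function.Embedding.refl _))).upd 0 2 1 (le_of_eq hx03)).upd 2 0 2 (le_of_eq hx30)).upd 2 3 3 (le_of_eq hx34)).upd 3 2 1 (le_of_eq hx43)) ![1,0,2,1] (by decide) (by decide) 0 (by decide))
    · -- 24=(1,1)
      rcases d34 with ⟨rfl, rfl⟩ | ⟨rfl, rfl⟩ | ⟨rfl, rfl⟩ | ⟨rfl, rfl⟩ | ⟨rfl, rfl⟩ | ⟨rfl, rfl⟩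
      · -- 34=(0,0)
        exfalso; omega
      · -- 34=(1,1)
        exact False.elim (cert_false T ((skipEmb 1).trans (Function.Embedding.refl _)) (by norm_num) (fun _ => hall _) (((((((LB_zero T ((skipEmb 1).trans (Function.Embedding.refl _))).upd 1 2 1 (le_of_eq hx23)).upd 1 3 1 (le_of_eq hx24)).upd 2 1 1 (le_of_eq hx32)).upd 2 3 1 (le_of_eq hx34)).upd 3 1 1 (le_of_eq hx42)).upd 3 2 1 (le_of_eq hx43)) ![0,1,1,1] (by decide) (by decide) 1 (by decide))
      · -- 34=(1,2)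
        exact False.elim (cert_false T ((skipEmb 2).trans (Function.Embedding.refl _)) (by norm_num) (fun _ => hall _) (((((LB_zero T ((skipEmb 2).trans (Function.Embedding.refl _))).upd 0 2 1 (le_of_eq hx03)).upd 2 0 2 (le_of_eq hx30)).upd 2 3 1 (le_of_eq hx34)).upd 3 2 2 (le_of_eq hx43)) ![1,0,2,2] (by decide) (by decide) 0 (by decide))
      · -- 34=(2,1)
        exact False.elim (cert_false T ((skipEmb 2).trans (Function.Embedding.refl _)) (by norm_num) (fun _ => hall _) (((((LB_zero T ((skipEmb 2).trans (Function.Embedding.refl _))).upd 0 2 1 (le_of_eq hx03)).upd 2 0 2 (le_of_eq hx30)).upd 2 3 2 (le_of_eq hx34)).upd 3 2 1 (le_of_eq hx43)) ![1,0,2,1] (by decide) (by decide) 0 (by decide))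
      · -- 34=(1,3)
        exact False.elim (cert_false T ((skipEmb 2).trans (Function.Embedding.refl _)) (by norm_num) (fun _ => hall _) (((((LB_zero T ((skipEmb 2).trans (Function.Embedding.refl _))).upd 0 2 1 (le_of_eq hx03)).upd 2 0 2 (le_of_eq hx30)).upd 2 3 1 (le_of_eq hx34)).upd 3 2 3 (le_of_eq hx43)) ![1,0,2,2] (by decide) (by decide) 0 (by decide))
      · -- 34=(3,1)
        exact False.elim (cert_false T ((skipEmb 2).trans (Function.Embedding.refl _)) (by norm_num) (fun _ => hall _) (((((LB_zero T ((skipEmb 2).trans (Function.Embedding.refl _))).upd 0 2 1 (le_of_eq hx03)).upd 2 0 2 (le_of_eq hx30)).upd 2 3 3 (le_of_eq hx34)).upd 3 2 1 (le_of_eq hx43)) ![1,0,2,1] (by decide) (by decide) 0 (by decide))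
    · -- 24=(1,2)
      exact False.elim (cert_false T ((skipEmb 1).trans (Function.Embedding.refl _)) (by norm_num) (fun _ => hall _) (((((((LB_zero T ((skipEmb 1).trans (Function.Embedding.refl _))).upd 0 2 1 (le_of_eq hx03)).upd 1 2 1 (le_of_eq hx23)).upd 1 3 1 (le_of_eq hx24)).upd 2 0 2 (le_of_eq hx30)).upd 2 1 1 (le_of_eq hx32)).upd 3 1 2 (le_of_eq hx42)) ![1,2,2,2] (by decide) (by decide) 0 (by decide))
    · -- 24=(2,1)
      exact False.elim (cert_false T ((skipEmb 1).trans (Function.Embedding.refl _)) (by norm_num) (fun _ => hall _) (((((((LB_zero T ((skipEmb 1).trans (Function.Embedding.refl _))).upd 0 2 1 (le_of_eq hx03)).upd 1 2 1 (le_of_eq hx23)).upd 1 3 2 (le_of_eq hx24)).upd 2 0 2 (le_of_eq hx30)).upd 2 1 1 (le_of_eq hx32)).upd 3 1 1 (le_of_eq hx42)) ![1,2,2,1] (by decide) (by decide) 0 (by decide))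
    · -- 24=(1,3)
      exact False.elim (cert_false T ((skipEmb 1).trans (Function.Embedding.refl _)) (by norm_num) (fun _ => hall _) (((((((LB_zero T ((skipEmb 1).trans (Function.Embedding.refl _))).upd 0 2 1 (le_of_eq hx03)).upd 1 2 1 (le_of_eq hx23)).upd 1 3 1 (le_of_eq hx24)).upd 2 0 2 (le_of_eq hx30)).upd 2 1 1 (le_of_eq hx32)).upd 3 1 3 (le_of_eq hx42)) ![1,2,2,2] (by decide) (by decide) 0 (by decide))
    · -- 24=(3,1)
      exact False.elim (cert_false T ((skipEmb 1).trans (Function.Embedding.refl _)) (by norm_num) (fun _ => hall _) (((((LB_zero T ((skipEmb 1).trans (Function.Embedding.refl _))).upd 1 2 1 (le_of_eq hx23)).upd 1 3 3 (le_of_eq hx24)).upd 2 1 1 (le_of_eq hx32)).upd 3 1 1 (le_of_eq hx42)) ![0,2,1,1] (by decide) (by decide) 1 (by decide))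
  · -- 14=(1,1)
    rcases d24 with ⟨rfl, rfl⟩ | ⟨rfl, rfl⟩ | ⟨rfl, rfl⟩ | ⟨rfl, rfl⟩ | ⟨rfl, rfl⟩ | ⟨rfl, rfl⟩
    · -- 24=(0,0)
      rcases d34 with ⟨rfl, rfl⟩ | ⟨rfl, rfl⟩ | ⟨rfl, rfl⟩ | ⟨rfl, rfl⟩ | ⟨rfl, rfl⟩ | ⟨rfl, rfl⟩
      · -- 34=(0,0)
        exfalso; omega
      · -- 34=(1,1)
        exact False.elim (cert_false T ((skipEmb 1).trans (Function.Embedding.refl _)) (by norm_num) (fun _ => hall _) (((((((LB_zero T ((skipEmb 1).trans (Function.Embedding.refl _))).upd 0 2 1 (le_of_eq hx03)).upd 1 2 1 (le_of_eq hx23)).upd 2 0 2 (le_of_eq hx30)).upd 2 1 1 (le_of_eq hx32)).upd 2 3 1 (le_of_eq hx34)).upd 3 2 1 (le_of_eq hx43)) ![1,1,2,1] (by decide) (by decide) 0 (by decide))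
      · -- 34=(1,2)
        exact False.elim (cert_false T ((skipEmb 2).trans (Function.Embedding.refl _)) (by norm_num) (fun _ => hall _) (((((LB_zero T ((skipEmb 2).trans (Function.Embedding.refl _))).upd 0 2 1 (le_of_eq hx03)).upd 2 0 2 (le_of_eq hx30)).upd 2 3 1 (le_of_eq hx34)).upd 3 2 2 (le_of_eq hx43)) ![1,0,2,2] (by decide) (by decide) 0 (by decide))
      · -- 34=(2,1)
        exact False.elim (cert_false T ((skipEmb 2).trans (Function.Embedding.refl _)) (by norm_num) (fun _ => hall _) (((((LB_zero T ((skipEmb 2).trans (Function.Embedding.refl _))).upd 0 2 1 (le_of_eq hx03)).upd 2 0 2 (le_of_eq hx30)).upd 2 3 2 (le_of_eq hx34)).upd 3 2 1 (le_of_eq hx43)) ![1,0,2,1] (by decide) (by decide) 0 (by decide))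
      · -- 34=(1,3)
        exact False.elim (cert_false T ((skipEmb 2).trans (Function.Embedding.refl _)) (by norm_num) (fun _ => hall _) (((((LB_zero T ((skipEmb 2).trans (Function.Embedding.refl _))).upd 0 2 1 (le_of_eq hx03)).upd 2 0 2 (le_of_eq hx30)).upd 2 3 1 (le_of_eq hx34)).upd 3 2 3 (le_of_eq hx43)) ![1,0,2,2] (by decide) (by decide) 0 (by decide))
      · -- 34=(3,1)
        exact False.elim (cert_false T ((skipEmb 2).trans (Function.Embedding.refl _)) (by norm_num) (fun _ => hall _) (((((LB_zero T ((skipEmb 2).trans (Function.Embedding.refl _))).upd 0 2 1 (le_of_eq hx03)).upd 2 0 2 (le_of_eq hx30)).upd 2 3 3 (le_of_eq hx34)).upd 3 2 1 (le_of_eq hx43)) ![1,0,2,1] (by decide) (by decide) 0 (by decide))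
    · -- 24=(1,1)
      rcases d34 with ⟨rfl, rfl⟩ | ⟨rfl, rfl⟩ | ⟨rfl, rfl⟩ | ⟨rfl, rfl⟩ | ⟨rfl, rfl⟩ | ⟨rfl, rfl⟩
      · -- 34=(0,0)
        exfalso; omega
      · -- 34=(1,1)
        exact False.elim (cert_false T ((skipEmb 1).trans (Function.Embedding.refl _)) (by norm_num) (fun _ => hall _) (((((((LB_zero T ((skipEmb 1).trans (Function.Embedding.refl _))).upd 1 2 1 (le_of_eq hx23)).upd 1 3 1 (le_of_eq hx24)).upd 2 1 1 (le_of_eq hx32)).upd 2 3 1 (le_of_eq hx34)).upd 3 1 1 (le_of_eq hx42)).upd 3 2 1 (le_of_eq hx43)) ![0,1,1,1] (by decide) (by decide) 1 (by decide))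
      · -- 34=(1,2)
        exact False.elim (cert_false T ((skipEmb 2).trans (Function.Embedding.refl _)) (by norm_num) (fun _ => hall _) (((((LB_zero T ((skipEmb 2).trans (Function.Embedding.refl _))).upd 0 2 1 (le_of_eq hx03)).upd 2 0 2 (le_of_eq hx30)).upd 2 3 1 (le_of_eq hx34)).upd 3 2 2 (le_of_eq hx43)) ![1,0,2,2] (by decide) (by decide) 0 (by decide))
      · -- 34=(2,1)
        exact False.elim (cert_false T ((skipEmb 2).trans (Function.Embedding.refl _)) (by norm_num) (fun _ => hall _) (((((LB_zero T ((skipEmb 2).trans (Function.Embedding.refl _))).upd 0 2 1 (le_of_eq hx03)).upd 2 0 2 (le_of_eq hx30)).upd 2 3 2 (le_of_eq hx34)).upd 3 2 1 (le_of_eq hx43)) ![1,0,2,1] (by decide) (by decide) 0 (by decide))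
      · -- 34=(1,3)
        exact False.elim (cert_false T ((skipEmb 2).trans (Function.Embedding.refl _)) (by norm_num) (fun _ => hall _) (((((LB_zero T ((skipEmb 2).trans (Function.Embedding.refl _))).upd 0 2 1 (le_of_eq hx03)).upd 2 0 2 (le_of_eq hx30)).upd 2 3 1 (le_of_eq hx34)).upd 3 2 3 (le_of_eq hx43)) ![1,0,2,2] (by decide) (by decide) 0 (by decide))
      · -- 34=(3,1)
        exact False.elim (cert_false T ((skipEmb 2).trans (Function.Embedding.refl _)) (by norm_num) (fun _ => hall _) (((((LB_zero T ((skipEmb 2).trans (Function.Embedding.refl _))).upd 0 2 1 (le_of_eq hx03)).upd 2 0 2 (le_of_eq hx30)).upd 2 3 3 (le_of_eq hx34)).upd 3 2 1 (le_of_eq hx43)) ![1,0,2,1] (by decide) (by decide) 0 (by decide))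
    · -- 24=(1,2)
      exact False.elim (cert_false T ((skipEmb 1).trans (Function.Embedding.refl _)) (by norm_num) (fun _ => hall _) (((((((LB_zero T ((skipEmb 1).trans (Function.Embedding.refl _))).upd 0 2 1 (le_of_eq hx03)).upd 1 2 1 (le_of_eq hx23)).upd 1 3 1 (le_of_eq hx24)).upd 2 0 2 (le_of_eq hx30)).upd 2 1 1 (le_of_eq hx32)).upd 3 1 2 (le_of_eq hx42)) ![1,2,2,2] (by decide) (by decide) 0 (by decide))
    · -- 24=(2,1)
      exact False.elim (cert_false T ((skipEmb 1).trans (Function.Embedding.refl _)) (by norm_num) (fun _ => hall _) (((((((LB_zero T ((skipEmb 1).trans (Function.Embedding.refl _))).upd 0 2 1 (le_of_eq hx03)).upd 1 2 1 (le_of_eq hx23)).upd 1 3 2 (le_of_eq hx24)).upd 2 0 2 (le_of_eq hx30)).upd 2 1 1 (le_of_eq hx32)).upd 3 1 1 (le_of_eq hx42)) ![1,2,2,1] (by decide) (by decide) 0 (by decide))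
    · -- 24=(1,3)
      exact False.elim (cert_false T ((skipEmb 3).trans (Function.Embedding.refl _)) (by norm_num) (fun _ => hall _) (((((LB_zero T ((skipEmb 3).trans (Function.Embedding.refl _))).upd 1 3 1 (le_of_eq hx14)).upd 2 3 1 (le_of_eq hx24)).upd 3 1 1 (le_of_eq hx41)).upd 3 2 3 (le_of_eq hx42)) ![0,1,1,2] (by decide) (by decide) 1 (by decide))
    · -- 24=(3,1)
      exact False.elim (cert_false T ((skipEmb 3).trans (Function.Embedding.refl _)) (by norm_num) (fun _ => hall _) (((((LB_zero T ((skipEmb 3).trans (Function.Embedding.refl _))).upd 1 3 1 (le_of_eq hx14)).upd 2 3 3 (le_of_eq hx24)).upd 3 1 1 (le_of_eq hx41)).upd 3 2 1 (le_of_eq hx42)) ![0,1,3,2] (by decide) (by decide) 1 (by decide))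
  · -- 14=(1,2)
    rcases d24 with ⟨rfl, rfl⟩ | ⟨rfl, rfl⟩ | ⟨rfl, rfl⟩ | ⟨rfl, rfl⟩ | ⟨rfl, rfl⟩ | ⟨rfl, rfl⟩
    · -- 24=(0,0)
      rcases d34 with ⟨rfl, rfl⟩ | ⟨rfl, rfl⟩ | ⟨rfl, rfl⟩ | ⟨rfl, rfl⟩ | ⟨rfl, rfl⟩ | ⟨rfl, rfl⟩
      · -- 34=(0,0)
        exfalso; omega
      · -- 34=(1,1)
        exact False.elim (cert_false T ((skipEmb 2).trans (Function.Embedding.refl _)) (by norm_num) (fun _ => hall _) (((((((LB_zero T ((skipEmb 2).trans (Function.Embedding.refl _))).upd 0 2 1 (le_of_eq hx03)).upd 1 3 1 (le_of_eq hx14)).upd 2 0 2 (le_of_eq hx30)).upd 2 3 1 (le_of_eq hx34)).upd 3 1 2 (le_of_eq hx41)).upd 3 2 1 (le_of_eq hx43)) ![1,1,2,2] (by decide) (by decide) 0 (by decide))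
      · -- 34=(1,2)
        exact False.elim (cert_false T ((skipEmb 2).trans (Function.Embedding.refl _)) (by norm_num) (fun _ => hall _) (((((LB_zero T ((skipEmb 2).trans (Function.Embedding.refl _))).upd 0 2 1 (le_of_eq hx03)).upd 2 0 2 (le_of_eq hx30)).upd 2 3 1 (le_of_eq hx34)).upd 3 2 2 (le_of_eq hx43)) ![1,0,2,2] (by decide) (by decide) 0 (by decide))
      · -- 34=(2,1)
        exact False.elim (cert_false T ((skipEmb 2).trans (Function.Embedding.refl _)) (by norm_num) (fun _ => hall _) (((((LB_zero T ((skipEmb 2).trans (Function.Embedding.refl _))).upd 1 3 1 (le_of_eq hx14)).upd 2 3 2 (le_of_eq hx34)).upd 3 1 2 (le_of_eq hx41)).upd 3 2 1 (le_of_eq hx43)) ![0,1,2,2] (by decide) (by decide) 1 (by decide))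
      · -- 34=(1,3)
        exact False.elim (cert_false T ((skipEmb 2).trans (Function.Embedding.refl _)) (by norm_num) (fun _ => hall _) (((((LB_zero T ((skipEmb 2).trans (Function.Embedding.refl _))).upd 0 2 1 (le_of_eq hx03)).upd 2 0 2 (le_of_eq hx30)).upd 2 3 1 (le_of_eq hx34)).upd 3 2 3 (le_of_eq hx43)) ![1,0,2,2] (by decide) (by decide) 0 (by decide))
      · -- 34=(3,1)
        exact False.elim (cert_false T ((skipEmb 2).trans (Function.Embedding.refl _)) (by norm_num) (fun _ => hall _) (((((LB_zero T ((skipEmb 2).trans (Function.Embedding.refl _))).upd 1 3 1 (le_of_eq hx14)).upd 2 3 3 (le_of_eq hx34)).upd 3 1 2 (le_of_eq hx41)).upd 3 2 1 (le_of_eq hx43)) ![0,1,2,2] (by decide) (by decide) 1 (by decide))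
    · -- 24=(1,1)
      rcases d34 with ⟨rfl, rfl⟩ | ⟨rfl, rfl⟩ | ⟨rfl, rfl⟩ | ⟨rfl, rfl⟩ | ⟨rfl, rfl⟩ | ⟨rfl, rfl⟩
      · -- 34=(0,0)
        refine ⟨(⟨![0, 3, 2, 4, 1], ![0, 4, 2, 1, 3], by decide, by decide⟩ : Equiv.Perm (Fin 5)), T.m 0, T.w 3, Or.inr (Or.inr (Or.inr (Or.inr (Or.inr (Or.inl ?_)))))⟩
        show T.m 0 = T.m 0 ∧ T.m 3 = 2 * T.m 0 ∧ T.m 2 = 2 * T.m 0 ∧ T.m 4 = 2 * T.m 0 ∧ T.m 1 = T.m 0 ∧ T.w 0 = 2 * T.w 3 ∧ T.w 3 = T.w 3 ∧ T.w 2 = T.w 3 ∧ T.w 4 = T.w 3 ∧ T.w 1 = 2 * T.w 3 ∧ T.a 0 0 = -4 * T.w 3 ∧ T.a 0 3 = 2 * T.w 3 ∧ T.a 0 2 = 0 ∧ T.a 0 4 = 0 ∧ T.a 0 1 = 0 ∧ T.a 3 3 = -2 * T.w 3 ∧ T.a 3 2 = T.w 3 ∧ T.a 3 4 = 0 ∧ T.a 3 1 = 0 ∧ T.a 2 2 = -2 * T.w 3 ∧ T.a 2 4 = T.w 3 ∧ T.a 2 1 = 0 ∧ T.a 4 4 = -2 * T.w 3 ∧ T.a 4 1 = 2 * T.w 3 ∧ T.a 1 1 = -4 * T.w 3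
        refine ⟨?_, ?_, ?_, ?_, ?_, ?_, ?_, ?_, ?_, ?_, ?_, ?_, ?_, ?_, ?_, ?_, ?_, ?_, ?_, ?_, ?_, ?_, ?_, ?_, ?_⟩ <;> omega
      · -- 34=(1,1)
        exact False.elim (cert_false T ((skipEmb 2).trans (Function.Embedding.refl _)) (by norm_num) (fun _ => hall _) (((((((LB_zero T ((skipEmb 2).trans (Function.Embedding.refl _))).upd 0 2 1 (le_of_eq hx03)).upd 1 3 1 (le_of_eq hx14)).upd 2 0 2 (le_of_eq hx30)).upd 2 3 1 (le_of_eq hx34)).upd 3 1 2 (le_of_eq hx41)).upd 3 2 1 (le_of_eq hx43)) ![1,1,2,2] (by decide) (by decide) 0 (by decide))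
      · -- 34=(1,2)
        exact False.elim (cert_false T ((skipEmb 2).trans (Function.Embedding.refl _)) (by norm_num) (fun _ => hall _) (((((LB_zero T ((skipEmb 2).trans (Function.Embedding.refl _))).upd 0 2 1 (le_of_eq hx03)).upd 2 0 2 (le_of_eq hx30)).upd 2 3 1 (le_of_eq hx34)).upd 3 2 2 (le_of_eq hx43)) ![1,0,2,2] (by decide) (by decide) 0 (by decide))
      · -- 34=(2,1)
        exact False.elim (cert_false T ((skipEmb 2).trans (Function.Embedding.refl _)) (by norm_num) (fun _ => hall _) (((((LB_zero T ((skipEmb 2).trans (Function.Embedding.refl _))).upd 1 3 1 (le_of_eq hx14)).upd 2 3 2 (le_of_eq hx34)).upd 3 1 2 (le_of_eq hx41)).upd 3 2 1 (le_of_eq hx43)) ![0,1,2,2] (by decide) (by decide) 1 (by decide))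
      · -- 34=(1,3)
        exact False.elim (cert_false T ((skipEmb 2).trans (Function.Embedding.refl _)) (by norm_num) (fun _ => hall _) (((((LB_zero T ((skipEmb 2).trans (Function.Embedding.refl _))).upd 0 2 1 (le_of_eq hx03)).upd 2 0 2 (le_of_eq hx30)).upd 2 3 1 (le_of_eq hx34)).upd 3 2 3 (le_of_eq hx43)) ![1,0,2,2] (by decide) (by decide) 0 (by decide))
      · -- 34=(3,1)
        exact False.elim (cert_false T ((skipEmb 2).trans (Function.Embedding.refl _)) (by norm_num) (fun _ => hall _) (((((LB_zero T ((skipEmb 2).trans (Function.Embedding.refl _))).upd 1 3 1 (le_of_eq hx14)).upd 2 3 3 (le_of_eq hx34)).upd 3 1 2 (le_of_eq hx41)).upd 3 2 1 (le_of_eq hx43)) ![0,1,2,2] (by decide) (by decide) 1 (by decide))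
    · -- 24=(1,2)
      exact False.elim (cert_false T ((skipEmb 3).trans (Function.Embedding.refl _)) (by norm_num) (fun _ => hall _) (((((LB_zero T ((skipEmb 3).trans (Function.Embedding.refl _))).upd 1 3 1 (le_of_eq hx14)).upd 2 3 1 (le_of_eq hx24)).upd 3 1 2 (le_of_eq hx41)).upd 3 2 2 (le_of_eq hx42)) ![0,1,1,2] (by decide) (by decide) 1 (by decide))
    · -- 24=(2,1)
      exact False.elim (cert_false T ((skipEmb 3).trans (Function.Embedding.refl _)) (by norm_num) (fun _ => hall _) (((((LB_zero T ((skipEmb 3).trans (Function.Embedding.refl _))).upd 1 3 1 (le_of_eq hx14)).upd 2 3 2 (le_of_eq hx24)).upd 3 1 2 (le_of_eq hx41)).upd 3 2 1 (le_of_eq hx42)) ![0,1,2,2] (by decide) (by decide) 1 (by decide))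
    · -- 24=(1,3)
      exact False.elim (cert_false T ((skipEmb 3).trans (Function.Embedding.refl _)) (by norm_num) (fun _ => hall _) (((((LB_zero T ((skipEmb 3).trans (Function.Embedding.refl _))).upd 1 3 1 (le_of_eq hx14)).upd 2 3 1 (le_of_eq hx24)).upd 3 1 2 (le_of_eq hx41)).upd 3 2 3 (le_of_eq hx42)) ![0,1,1,2] (by decide) (by decide) 1 (by decide))
    · -- 24=(3,1)
      exact False.elim (cert_false T ((skipEmb 3).trans (Function.Embedding.refl _)) (by norm_num) (fun _ => hall _) (((((LB_zero T ((skipEmb 3).trans (Function.Embedding.refl _))).upd 1 3 1 (le_of_eq hx14)).upd 2 3 3 (le_of_eq hx24)).upd 3 1 2 (le_of_eq hx41)).upd 3 2 1 (le_of_eq hx42)) ![0,1,2,2] (by decide) (by decide) 1 (by decide))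
  · -- 14=(2,1)
    rcases d24 with ⟨rfl, rfl⟩ | ⟨rfl, rfl⟩ | ⟨rfl, rfl⟩ | ⟨rfl, rfl⟩ | ⟨rfl, rfl⟩ | ⟨rfl, rfl⟩
    · -- 24=(0,0)
      rcases d34 with ⟨rfl, rfl⟩ | ⟨rfl, rfl⟩ | ⟨rfl, rfl⟩ | ⟨rfl, rfl⟩ | ⟨rfl, rfl⟩ | ⟨rfl, rfl⟩
      · -- 34=(0,0)
        exfalso; omega
      · -- 34=(1,1)
        exact False.elim (cert_false T ((skipEmb 2).trans (Function.Embedding.refl _)) (by norm_num) (fun _ => hall _) (((((((LB_zero T ((skipEmb 2).trans (Function.Embedding.refl _))).upd 0 2 1 (le_of_eq hx03)).upd 1 3 2 (le_of_eq hx14)).upd 2 0 2 (le_of_eq hx30)).upd 2 3 1 (le_of_eq hx34)).upd 3 1 1 (le_of_eq hx41)).upd 3 2 1 (le_of_eq hx43)) ![1,2,2,2] (by decide) (by decide) 0 (by decide))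
      · -- 34=(1,2)
        exact False.elim (cert_false T ((skipEmb 2).trans (Function.Embedding.refl _)) (by norm_num) (fun _ => hall _) (((((LB_zero T ((skipEmb 2).trans (Function.Embedding.refl _))).upd 1 3 2 (le_of_eq hx14)).upd 2 3 1 (le_of_eq hx34)).upd 3 1 1 (le_of_eq hx41)).upd 3 2 2 (le_of_eq hx43)) ![0,2,1,2] (by decide) (by decide) 1 (by decide))
      · -- 34=(2,1)
        exact False.elim (cert_false T ((skipEmb 2).trans (Function.Embedding.refl _)) (by norm_num) (fun _ => hall _) (((((LB_zero T ((skipEmb 2).trans (Function.Embedding.refl _))).upd 1 3 2 (le_of_eq hx14)).upd 2 3 2 (le_of_eq hx34)).upd 3 1 1 (le_of_eq hx41)).upd 3 2 1 (le_of_eq hx43)) ![0,1,1,1] (by decide) (by decide) 1 (by decide))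
      · -- 34=(1,3)
        exact False.elim (cert_false T ((skipEmb 2).trans (Function.Embedding.refl _)) (by norm_num) (fun _ => hall _) (((((LB_zero T ((skipEmb 2).trans (Function.Embedding.refl _))).upd 0 2 1 (le_of_eq hx03)).upd 2 0 2 (le_of_eq hx30)).upd 2 3 1 (le_of_eq hx34)).upd 3 2 3 (le_of_eq hx43)) ![1,0,2,2] (by decide) (by decide) 0 (by decide))
      · -- 34=(3,1)
        exact False.elim (cert_false T ((skipEmb 2).trans (Function.Embedding.refl _)) (by norm_num) (fun _ => hall _) (((((LB_zero T ((skipEmb 2).trans (Function.Embedding.refl _))).upd 1 3 2 (le_of_eq hx14)).upd 2 3 3 (le_of_eq hx34)).upd 3 1 1 (le_of_eq hx41)).upd 3 2 1 (le_of_eq hx43)) ![0,1,1,1] (by decide) (by decide) 1 (by decide))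
    · -- 24=(1,1)
      rcases d34 with ⟨rfl, rfl⟩ | ⟨rfl, rfl⟩ | ⟨rfl, rfl⟩ | ⟨rfl, rfl⟩ | ⟨rfl, rfl⟩ | ⟨rfl, rfl⟩
      · -- 34=(0,0)
        refine ⟨(⟨![1, 4, 2, 3, 0], ![4, 0, 2, 3, 1], by decide, by decide⟩ : Equiv.Perm (Fin 5)), T.m 0, T.w 1, Or.inr (Or.inr (Or.inr (Or.inl ?_)))⟩
        show T.m 1 = 2 * T.m 0 ∧ T.m 4 = 2 * T.m 0 ∧ T.m 2 = 2 * T.m 0 ∧ T.m 3 = 2 * T.m 0 ∧ T.m 0 = T.m 0 ∧ T.w 1 = T.w 1 ∧ T.w 4 = 2 * T.w 1 ∧ T.w 2 = 2 * T.w 1 ∧ T.w 3 = 2 * T.w 1 ∧ T.w 0 = 4 * T.w 1 ∧ T.a 1 1 = -2 * T.w 1 ∧ T.a 1 4 = 2 * T.w 1 ∧ T.a 1 2 = 0 ∧ T.a 1 3 = 0 ∧ T.a 1 0 = 0 ∧ T.a 4 4 = -4 * T.w 1 ∧ T.a 4 2 = 2 * T.w 1 ∧ T.a 4 3 = 0 ∧ T.a 4 0 = 0 ∧ T.a 2 2 = -4 * T.w 1 ∧ T.a 2 3 = 2 * T.w 1 ∧ T.a 2 0 = 0 ∧ T.a 3 3 = -4 * T.w 1 ∧ T.a 3 0 = 4 * T.w 1 ∧ T.a 0 0 = -8 * T.w 1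
        refine ⟨?_, ?_, ?_, ?_, ?_, ?_, ?_, ?_, ?_, ?_, ?_, ?_, ?_, ?_, ?_, ?_, ?_, ?_, ?_, ?_, ?_, ?_, ?_, ?_, ?_⟩ <;> omega
      · -- 34=(1,1)
        exact False.elim (cert_false T ((skipEmb 2).trans (Function.Embedding.refl _)) (by norm_num) (fun _ => hall _) (((((((LB_zero T ((skipEmb 2).trans (Function.Embedding.refl _))).upd 0 2 1 (le_of_eq hx03)).upd 1 3 2 (le_of_eq hx14)).upd 2 0 2 (le_of_eq hx30)).upd 2 3 1 (le_of_eq hx34)).upd 3 1 1 (le_of_eq hx41)).upd 3 2 1 (le_of_eq hx43)) ![1,2,2,2] (by decide) (by decide) 0 (by decide))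
      · -- 34=(1,2)
        exact False.elim (cert_false T ((skipEmb 2).trans (Function.Embedding.refl _)) (by norm_num) (fun _ => hall _) (((((LB_zero T ((skipEmb 2).trans (Function.Embedding.refl _))).upd 1 3 2 (le_of_eq hx14)).upd 2 3 1 (le_of_eq hx34)).upd 3 1 1 (le_of_eq hx41)).upd 3 2 2 (le_of_eq hx43)) ![0,2,1,2] (by decide) (by decide) 1 (by decide))
      · -- 34=(2,1)
        exact False.elim (cert_false T ((skipEmb 2).trans (Function.Embedding.refl _)) (by norm_num) (fun _ => hall _) (((((LB_zero T ((skipEmb 2).trans (Function.Embedding.refl _))).upd 1 3 2 (le_of_eq hx14)).upd 2 3 2 (le_of_eq hx34)).upd 3 1 1 (le_of_eq hx41)).upd 3 2 1 (le_of_eq hx43)) ![0,1,1,1] (by decide) (by decide) 1 (by decide))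
      · -- 34=(1,3)
        exact False.elim (cert_false T ((skipEmb 2).trans (Function.Embedding.refl _)) (by norm_num) (fun _ => hall _) (((((LB_zero T ((skipEmb 2).trans (Function.Embedding.refl _))).upd 0 2 1 (le_of_eq hx03)).upd 2 0 2 (le_of_eq hx30)).upd 2 3 1 (le_of_eq hx34)).upd 3 2 3 (le_of_eq hx43)) ![1,0,2,2] (by decide) (by decide) 0 (by decide))
      · -- 34=(3,1)
        exact False.elim (cert_false T ((skipEmb 2).trans (Function.Embedding.refl _)) (by norm_num) (fun _ => hall _) (((((LB_zero T ((skipEmb 2).trans (Function.Embedding.refl _))).upd 1 3 2 (le_of_eq hx14)).upd 2 3 3 (le_of_eq hx34)).upd 3 1 1 (le_of_eq hx41)).upd 3 2 1 (le_of_eq hx43)) ![0,1,1,1] (by decide) (by decide) 1 (by decide))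
    · -- 24=(1,2)
      exact False.elim (cert_false T ((skipEmb 3).trans (Function.Embedding.refl _)) (by norm_num) (fun _ => hall _) (((((LB_zero T ((skipEmb 3).trans (Function.Embedding.refl _))).upd 1 3 2 (le_of_eq hx14)).upd 2 3 1 (le_of_eq hx24)).upd 3 1 1 (le_of_eq hx41)).upd 3 2 2 (le_of_eq hx42)) ![0,2,1,2] (by decide) (by decide) 1 (by decide))
    · -- 24=(2,1)
      exact False.elim (cert_false T ((skipEmb 3).trans (Function.Embedding.refl _)) (by norm_num) (fun _ => hall _) (((((LB_zero T ((skipEmb 3).trans (Function.Embedding.refl _))).upd 1 3 2 (le_of_eq hx14)).upd 2 3 2 (le_of_eq hx24)).upd 3 1 1 (le_of_eq hx41)).upd 3 2 1 (le_of_eq hx42)) ![0,1,1,1] (by decide) (by decide) 1 (by decide))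
    · -- 24=(1,3)
      exact False.elim (cert_false T ((skipEmb 3).trans (Function.Embedding.refl _)) (by norm_num) (fun _ => hall _) (((((LB_zero T ((skipEmb 3).trans (Function.Embedding.refl _))).upd 1 3 2 (le_of_eq hx14)).upd 2 3 1 (le_of_eq hx24)).upd 3 1 1 (le_of_eq hx41)).upd 3 2 3 (le_of_eq hx42)) ![0,1,1,2] (by decide) (by decide) 1 (by decide))
    · -- 24=(3,1)
      exact False.elim (cert_false T ((skipEmb 3).trans (Function.Embedding.refl _)) (by norm_num) (fun _ => hall _) (((((LB_zero T ((skipEmb 3).trans (Function.Embedding.refl _))).upd 1 3 2 (le_of_eq hx14)).upd 2 3 3 (le_of_eq hx24)).upd 3 1 1 (le_of_eq hx41)).upd 3 2 1 (le_of_eq hx42)) ![0,1,1,1] (by decide) (by decide) 1 (by decide))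
  · -- 14=(1,3)
    rcases d24 with ⟨rfl, rfl⟩ | ⟨rfl, rfl⟩ | ⟨rfl, rfl⟩ | ⟨rfl, rfl⟩ | ⟨rfl, rfl⟩ | ⟨rfl, rfl⟩
    · -- 24=(0,0)
      rcases d34 with ⟨rfl, rfl⟩ | ⟨rfl, rfl⟩ | ⟨rfl, rfl⟩ | ⟨rfl, rfl⟩ | ⟨rfl, rfl⟩ | ⟨rfl, rfl⟩
      · -- 34=(0,0)
        exfalso; omega
      · -- 34=(1,1)
        exact False.elim (cert_false T ((skipEmb 2).trans (Function.Embedding.refl _)) (by norm_num) (fun _ => hall _) (((((LB_zero T ((skipEmb 2).trans (Function.Embedding.refl _))).upd 1 3 1 (le_of_eq hx14)).upd 2 3 1 (le_of_eq hx34)).upd 3 1 3 (le_of_eq hx41)).upd 3 2 1 (le_of_eq hx43)) ![0,1,1,2] (by decide) (by decide) 1 (by decide))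
      · -- 34=(1,2)
        exact False.elim (cert_false T ((skipEmb 2).trans (Function.Embedding.refl _)) (by norm_num) (fun _ => hall _) (((((LB_zero T ((skipEmb 2).trans (Function.Embedding.refl _))).upd 0 2 1 (le_of_eq hx03)).upd 2 0 2 (le_of_eq hx30)).upd 2 3 1 (le_of_eq hx34)).upd 3 2 2 (le_of_eq hx43)) ![1,0,2,2] (by decide) (by decide) 0 (by decide))
      · -- 34=(2,1)
        exact False.elim (cert_false T ((skipEmb 2).trans (Function.Embedding.refl _)) (by norm_num) (fun _ => hall _) (((((LB_zero T ((skipEmb 2).trans (Function.Embedding.refl _))).upd 1 3 1 (le_of_eq hx14)).upd 2 3 2 (le_of_eq hx34)).upd 3 1 3 (le_of_eq hx41)).upd 3 2 1 (le_of_eq hx43)) ![0,1,1,2] (by decide) (by decide) 1 (by decide))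
      · -- 34=(1,3)
        exact False.elim (cert_false T ((skipEmb 2).trans (Function.Embedding.refl _)) (by norm_num) (fun _ => hall _) (((((LB_zero T ((skipEmb 2).trans (Function.Embedding.refl _))).upd 0 2 1 (le_of_eq hx03)).upd 2 0 2 (le_of_eq hx30)).upd 2 3 1 (le_of_eq hx34)).upd 3 2 3 (le_of_eq hx43)) ![1,0,2,2] (by decide) (by decide) 0 (by decide))
      · -- 34=(3,1)
        exact False.elim (cert_false T ((skipEmb 2).trans (Function.Embedding.refl _)) (by norm_num) (fun _ => hall _) (((((LB_zero T ((skipEmb 2).trans (Function.Embedding.refl _))).upd 1 3 1 (le_of_eq hx14)).upd 2 3 3 (le_of_eq hx34)).upd 3 1 3 (le_of_eq hx41)).upd 3 2 1 (le_of_eq hx43)) ![0,1,1,2] (by decide) (by decide) 1 (by decide))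
    · -- 24=(1,1)
      exact False.elim (cert_false T ((skipEmb 3).trans (Function.Embedding.refl _)) (by norm_num) (fun _ => hall _) (((((LB_zero T ((skipEmb 3).trans (Function.Embedding.refl _))).upd 1 3 1 (le_of_eq hx14)).upd 2 3 1 (le_of_eq hx24)).upd 3 1 3 (le_of_eq hx41)).upd 3 2 1 (le_of_eq hx42)) ![0,1,1,2] (by decide) (by decide) 1 (by decide))
    · -- 24=(1,2)
      exact False.elim (cert_false T ((skipEmb 3).trans (Function.Embedding.refl _)) (by norm_num) (fun _ => hall _) (((((LB_zero T ((skipEmb 3).trans (Function.Embedding.refl _))).upd 1 3 1 (le_of_eq hx14)).upd 2 3 1 (le_of_eq hx24)).upd 3 1 3 (le_of_eq hx41)).upd 3 2 2 (le_of_eq hx42)) ![0,1,1,2] (by decide) (by decide) 1 (by decide))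
    · -- 24=(2,1)
      exact False.elim (cert_false T ((skipEmb 3).trans (Function.Embedding.refl _)) (by norm_num) (fun _ => hall _) (((((LB_zero T ((skipEmb 3).trans (Function.Embedding.refl _))).upd 1 3 1 (le_of_eq hx14)).upd 2 3 2 (le_of_eq hx24)).upd 3 1 3 (le_of_eq hx41)).upd 3 2 1 (le_of_eq hx42)) ![0,1,1,2] (by decide) (by decide) 1 (by decide))
    · -- 24=(1,3)
      exact False.elim (cert_false T ((skipEmb 3).trans (Function.Embedding.refl _)) (by norm_num) (fun _ => hall _) (((((LB_zero T ((skipEmb 3).trans (Function.Embedding.refl _))).upd 1 3 1 (le_of_eq hx14)).upd 2 3 1 (le_of_eq hx24)).upd 3 1 3 (le_of_eq hx41)).upd 3 2 3 (le_of_eq hx42)) ![0,1,1,2] (by decide) (by decide) 1 (by decide))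
    · -- 24=(3,1)
      exact False.elim (cert_false T ((skipEmb 3).trans (Function.Embedding.refl _)) (by norm_num) (fun _ => hall _) (((((LB_zero T ((skipEmb 3).trans (Function.Embedding.refl _))).upd 1 3 1 (le_of_eq hx14)).upd 2 3 3 (le_of_eq hx24)).upd 3 1 3 (le_of_eq hx41)).upd 3 2 1 (le_of_eq hx42)) ![0,1,1,2] (by decide) (by decide) 1 (by decide))
  · -- 14=(3,1)
    rcases d24 with ⟨rfl, rfl⟩ | ⟨rfl, rfl⟩ | ⟨rfl, rfl⟩ | ⟨rfl, rfl⟩ | ⟨rfl, rfl⟩ | ⟨rfl, rfl⟩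
    · -- 24=(0,0)
      rcases d34 with ⟨rfl, rfl⟩ | ⟨rfl, rfl⟩ | ⟨rfl, rfl⟩ | ⟨rfl, rfl⟩ | ⟨rfl, rfl⟩ | ⟨rfl, rfl⟩
      · -- 34=(0,0)
        exfalso; omega
      · -- 34=(1,1)
        exact False.elim (cert_false T ((skipEmb 2).trans (Function.Embedding.refl _)) (by norm_num) (fun _ => hall _) (((((((LB_zero T ((skipEmb 2).trans (Function.Embedding.refl _))).upd 0 2 1 (le_of_eq hx03)).upd 1 3 3 (le_of_eq hx14)).upd 2 0 2 (le_of_eq hx30)).upd 2 3 1 (le_of_eq hx34)).upd 3 1 1 (le_of_eq hx41)).upd 3 2 1 (le_of_eq hx43)) ![1,2,2,2] (by decide) (by decide) 0 (by decide))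
      · -- 34=(1,2)
        exact False.elim (cert_false T ((skipEmb 2).trans (Function.Embedding.refl _)) (by norm_num) (fun _ => hall _) (((((LB_zero T ((skipEmb 2).trans (Function.Embedding.refl _))).upd 0 2 1 (le_of_eq hx03)).upd 2 0 2 (le_of_eq hx30)).upd 2 3 1 (le_of_eq hx34)).upd 3 2 2 (le_of_eq hx43)) ![1,0,2,2] (by decide) (by decide) 0 (by decide))
      · -- 34=(2,1)
        exact False.elim (cert_false T ((skipEmb 2).trans (Function.Embedding.refl _)) (by norm_num) (fun _ => hall _) (((((LB_zero T ((skipEmb 2).trans (Function.Embedding.refl _))).upd 1 3 3 (le_of_eq hx14)).upd 2 3 2 (le_of_eq hx34)).upd 3 1 1 (le_of_eq hx41)).upd 3 2 1 (le_of_eq hx43)) ![0,1,1,1] (by decide) (by decide) 1 (by decide))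
      · -- 34=(1,3)
        exact False.elim (cert_false T ((skipEmb 2).trans (Function.Embedding.refl _)) (by norm_num) (fun _ => hall _) (((((LB_zero T ((skipEmb 2).trans (Function.Embedding.refl _))).upd 0 2 1 (le_of_eq hx03)).upd 2 0 2 (le_of_eq hx30)).upd 2 3 1 (le_of_eq hx34)).upd 3 2 3 (le_of_eq hx43)) ![1,0,2,2] (by decide) (by decide) 0 (by decide))
      · -- 34=(3,1)
        exact False.elim (cert_false T ((skipEmb 2).trans (Function.Embedding.refl _)) (by norm_num) (fun _ => hall _) (((((LB_zero T ((skipEmb 2).trans (Function.Embedding.refl _))).upd 1 3 3 (le_of_eq hx14)).upd 2 3 3 (le_of_eq hx34)).upd 3 1 1 (le_of_eq hx41)).upd 3 2 1 (le_of_eq hx43)) ![0,1,1,1] (by decide) (by decide) 1 (by decide))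
    · -- 24=(1,1)
      exact False.elim (cert_false T ((skipEmb 3).trans (Function.Embedding.refl _)) (by norm_num) (fun _ => hall _) (((((LB_zero T ((skipEmb 3).trans (Function.Embedding.refl _))).upd 1 3 3 (le_of_eq hx14)).upd 2 3 1 (le_of_eq hx24)).upd 3 1 1 (le_of_eq hx41)).upd 3 2 1 (le_of_eq hx42)) ![0,3,1,2] (by decide) (by decide) 1 (by decide))
    · -- 24=(1,2)
      exact False.elim (cert_false T ((skipEmb 3).trans (Function.Embedding.refl _)) (by norm_num) (fun _ => hall _) (((((LB_zero T ((skipEmb 3).trans (Function.Embedding.refl _))).upd 1 3 3 (le_of_eq hx14)).upd 2 3 1 (le_of_eq hx24)).upd 3 1 1 (le_of_eq hx41)).upd 3 2 2 (le_of_eq hx42)) ![0,2,1,2] (by decide) (by decide) 1 (by decide))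
    · -- 24=(2,1)
      exact False.elim (cert_false T ((skipEmb 3).trans (Function.Embedding.refl _)) (by norm_num) (fun _ => hall _) (((((LB_zero T ((skipEmb 3).trans (Function.Embedding.refl _))).upd 1 3 3 (le_of_eq hx14)).upd 2 3 2 (le_of_eq hx24)).upd 3 1 1 (le_of_eq hx41)).upd 3 2 1 (le_of_eq hx42)) ![0,1,1,1] (by decide) (by decide) 1 (by decide))
    · -- 24=(1,3)
      exact False.elim (cert_false T ((skipEmb 3).trans (Function.Embedding.refl _)) (by norm_num) (fun _ => hall _) (((((LB_zero T ((skipEmb 3).trans (Function.Embedding.refl _))).upd 1 3 3 (le_of_eq hx14)).upd 2 3 1 (le_of_eq hx24)).upd 3 1 1 (le_of_eq hx41)).upd 3 2 3 (le_of_eq hx42)) ![0,1,1,2] (by decide) (by decide) 1 (by decide))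
    · -- 24=(3,1)
      exact False.elim (cert_false T ((skipEmb 3).trans (Function.Embedding.refl _)) (by norm_num) (fun _ => hall _) (((((LB_zero T ((skipEmb 3).trans (Function.Embedding.refl _))).upd 1 3 3 (le_of_eq hx14)).upd 2 3 3 (le_of_eq hx24)).upd 3 1 1 (le_of_eq hx41)).upd 3 2 1 (le_of_eq hx42)) ![0,1,1,1] (by decide) (by decide) 1 (by decide))

theorem case68 (T : NumericalType 5) (hall : ∀ i, T.IsMinusTwo i) (d : SData T)
    (h01 : N T (Function.Embedding.refl _) 0 1 = 0) (h10 : N T (Function.Embedding.refl _) 1 0 = 0)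
    (h02 : N T (Function.Embedding.refl _) 0 2 = 0) (h20 : N T (Function.Embedding.refl _) 2 0 = 0)
    (h12 : N T (Function.Embedding.refl _) 1 2 = 0) (h21 : N T (Function.Embedding.refl _) 2 1 = 0)
    (h03 : N T (Function.Embedding.refl _) 0 3 = 1) (h30 : N T (Function.Embedding.refl _) 3 0 = 2)
    (h13 : N T (Function.Embedding.refl _) 1 3 = 0) (h31 : N T (Function.Embedding.refl _) 3 1 = 0)
    (h23 : N T (Function.Embedding.refl _) 2 3 = 1) (h32 : N T (Function.Embedding.refl _) 3 2 = 1) :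
    Goal T := by
  unfold Goal
  have hd := d
  obtain ⟨x01, x02, x03, x04, x10, x12, x13, x14, x20, x21, x23, x24, x30, x31, x32, x34, x40, x41, x42, x43, hx01, hx02, hx03, hx04, hx10, hx12, hx13, hx14, hx20, hx21, hx23, hx24, hx30, hx31, hx32, hx34, hx40, hx41, hx42, hx43, hw0, hm0, hw1, hm1, hw2, hm2, hw3, hm3, hw4, hm4, a00, a01, a02, a03, a04, a11, a10, a12, a13, a14, a22, a20, a21, a23, a24, a33, a30, a31, a32, a34, a44, a40, a41, a42, a43, wN01, wN02, wN12, wN03, wN13, wN23, wN04, wN14, wN24, wN34, e0, e1, e2, e3, e4, d01, d02, d12, d03, d13, d23, d04, d14, d24, d34⟩ := d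
  obtain rfl : x01 = 0 := hx01.trans h01
  obtain rfl : x10 = 0 := hx10.trans h10
  obtain rfl : x02 = 0 := hx02.trans h02
  obtain rfl : x20 = 0 := hx20.trans h20
  obtain rfl : x12 = 0 := hx12.trans h12
  obtain rfl : x21 = 0 := hx21.trans h21
  obtain rfl : x03 = 1 := hx03.trans h03
  obtain rfl : x30 = 2 := hx30.trans h30
  obtain rfl : x13 = 0 := hx13.trans h13
  obtain rfl : x31 = 0 := hx31.trans h31
  obtain rfl : x23 = 1 := hx23.trans h23
  obtain rfl : x32 = 1 := hx32.trans h32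
  rcases d04 with ⟨rfl, rfl⟩ | ⟨rfl, rfl⟩ | ⟨rfl, rfl⟩ | ⟨rfl, rfl⟩ | ⟨rfl, rfl⟩ | ⟨rfl, rfl⟩
  · -- 04=(0,0)
    exact case69 T hall hd hx01.symm hx10.symm hx02.symm hx20.symm hx12.symm hx21.symm hx03.symm hx30.symm hx13.symm hx31.symm hx23.symm hx32.symm hx04.symm hx40.symm
  · -- 04=(1,1)
    rcases d14 with ⟨rfl, rfl⟩ | ⟨rfl, rfl⟩ | ⟨rfl, rfl⟩ | ⟨rfl, rfl⟩ | ⟨rfl, rfl⟩ | ⟨rfl, rfl⟩
    · -- 14=(0,0)
      rcases d24 with ⟨rfl, rfl⟩ | ⟨rfl, rfl⟩ | ⟨rfl, rfl⟩ | ⟨rfl, rfl⟩ | ⟨rfl, rfl⟩ | ⟨rfl, rfl⟩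
      · -- 24=(0,0)
        rcases d34 with ⟨rfl, rfl⟩ | ⟨rfl, rfl⟩ | ⟨rfl, rfl⟩ | ⟨rfl, rfl⟩ | ⟨rfl, rfl⟩ | ⟨rfl, rfl⟩
        · -- 34=(0,0)
          exfalso; omega
        · -- 34=(1,1)
          exact False.elim (cert_false T ((skipEmb 2).trans (Function.Embedding.refl _)) (by norm_num) (fun _ => hall _) (((((((LB_zero T ((skipEmb 2).trans (Function.Embedding.refl _))).upd 0 2 1 (le_of_eq hx03)).upd 0 3 1 (le_of_eq hx04)).upd 2 0 2 (le_of_eq hx30)).upd 2 3 1 (le_of_eq hx34)).upd 3 0 1 (le_of_eq hx40)).upd 3 2 1 (le_of_eq hx43)) ![1,0,1,1] (by decide) (by decide) 0 (by decide))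
        · -- 34=(1,2)
          exact False.elim (cert_false T ((skipEmb 2).trans (Function.Embedding.refl _)) (by norm_num) (fun _ => hall _) (((((((LB_zero T ((skipEmb 2).trans (Function.Embedding.refl _))).upd 0 2 1 (le_of_eq hx03)).upd 0 3 1 (le_of_eq hx04)).upd 2 0 2 (le_of_eq hx30)).upd 2 3 1 (le_of_eq hx34)).upd 3 0 1 (le_of_eq hx40)).upd 3 2 2 (le_of_eq hx43)) ![1,0,1,1] (by decide) (by decide) 0 (by decide))
        · -- 34=(2,1)
          exact False.elim (cert_false T ((skipEmb 2).trans (Function.Embedding.refl _)) (by norm_num) (fun _ => hall _) (((((((LB_zero T ((skipEmb 2).trans (Function.Embedding.refl _))).upd 0 2 1 (le_of_eq hx03)).upd 0 3 1 (le_of_eq hx04)).upd 2 0 2 (le_of_eq hx30)).upd 2 3 2 (le_of_eq hx34)).upd 3 0 1 (le_of_eq hx40)).upd 3 2 1 (le_of_eq hx43)) ![1,0,1,1] (by decide) (by decide) 0 (by decide))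
        · -- 34=(1,3)
          exact False.elim (cert_false T ((skipEmb 2).trans (Function.Embedding.refl _)) (by norm_num) (fun _ => hall _) (((((((LB_zero T ((skipEmb 2).trans (Function.Embedding.refl _))).upd 0 2 1 (le_of_eq hx03)).upd 0 3 1 (le_of_eq hx04)).upd 2 0 2 (le_of_eq hx30)).upd 2 3 1 (le_of_eq hx34)).upd 3 0 1 (le_of_eq hx40)).upd 3 2 3 (le_of_eq hx43)) ![1,0,1,1] (by decide) (by decide) 0 (by decide))
        · -- 34=(3,1)
          exact False.elim (cert_false T ((skipEmb 2).trans (Function.Embedding.refl _)) (by norm_num) (fun _ => hall _) (((((((LB_zero T ((skipEmb 2).trans (Function.Embedding.refl _))).upd 0 2 1 (le_of_eq hx03)).upd 0 3 1 (le_of_eq hx04)).upd 2 0 2 (le_of_eq hx30)).upd 2 3 3 (le_of_eq hx34)).upd 3 0 1 (le_of_eq hx40)).upd 3 2 1 (le_of_eq hx43)) ![1,0,1,1] (by decide) (by decide) 0 (by decide))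
      · -- 24=(1,1)
        exact False.elim (cert_false T ((skipEmb 1).trans (Function.Embedding.refl _)) (by norm_num) (fun _ => hall _) (((((((((LB_zero T ((skipEmb 1).trans (Function.Embedding.refl _))).upd 0 2 1 (le_of_eq hx03)).upd 0 3 1 (le_of_eq hx04)).upd 1 2 1 (le_of_eq hx23)).upd 1 3 1 (le_of_eq hx24)).upd 2 0 2 (le_of_eq hx30)).upd 2 1 1 (le_of_eq hx32)).upd 3 0 1 (le_of_eq hx40)).upd 3 1 1 (le_of_eq hx42)) ![1,1,1,1] (by decide) (by decide) 0 (by decide))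
      · -- 24=(1,2)
        exact False.elim (cert_false T ((skipEmb 1).trans (Function.Embedding.refl _)) (by norm_num) (fun _ => hall _) (((((((((LB_zero T ((skipEmb 1).trans (Function.Embedding.refl _))).upd 0 2 1 (le_of_eq hx03)).upd 0 3 1 (le_of_eq hx04)).upd 1 2 1 (le_of_eq hx23)).upd 1 3 1 (le_of_eq hx24)).upd 2 0 2 (le_of_eq hx30)).upd 2 1 1 (le_of_eq hx32)).upd 3 0 1 (le_of_eq hx40)).upd 3 1 2 (le_of_eq hx42)) ![1,1,1,1] (by decide) (by decide) 0 (by decide))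
      · -- 24=(2,1)
        exact False.elim (cert_false T ((skipEmb 1).trans (Function.Embedding.refl _)) (by norm_num) (fun _ => hall _) (((((((((LB_zero T ((skipEmb 1).trans (Function.Embedding.refl _))).upd 0 2 1 (le_of_eq hx03)).upd 0 3 1 (le_of_eq hx04)).upd 1 2 1 (le_of_eq hx23)).upd 1 3 2 (le_of_eq hx24)).upd 2 0 2 (le_of_eq hx30)).upd 2 1 1 (le_of_eq hx32)).upd 3 0 1 (le_of_eq hx40)).upd 3 1 1 (le_of_eq hx42)) ![1,1,1,1] (by decide) (by decide) 0 (by decide))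
      · -- 24=(1,3)
        exact False.elim (cert_false T ((skipEmb 3).trans (Function.Embedding.refl _)) (by norm_num) (fun _ => hall _) (((((LB_zero T ((skipEmb 3).trans (Function.Embedding.refl _))).upd 0 3 1 (le_of_eq hx04)).upd 2 3 1 (le_of_eq hx24)).upd 3 0 1 (le_of_eq hx40)).upd 3 2 3 (le_of_eq hx42)) ![1,0,1,2] (by decide) (by decide) 0 (by decide))
      · -- 24=(3,1)
        exact False.elim (cert_false T ((skipEmb 3).trans (Function.Embedding.refl _)) (by norm_num) (fun _ => hall _) (((((LB_zero T ((skipEmb 3).trans (Function.Embedding.refl _))).upd 0 3 1 (le_of_eq hx04)).upd 2 3 3 (le_of_eq hx24)).upd 3 0 1 (le_of_eq hx40)).upd 3 2 1 (le_of_eq hx42)) ![1,0,3,2] (by decide) (by decide) 0 (by decide))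
    · -- 14=(1,1)
      rcases d24 with ⟨rfl, rfl⟩ | ⟨rfl, rfl⟩ | ⟨rfl, rfl⟩ | ⟨rfl, rfl⟩ | ⟨rfl, rfl⟩ | ⟨rfl, rfl⟩
      · -- 24=(0,0)
        rcases d34 with ⟨rfl, rfl⟩ | ⟨rfl, rfl⟩ | ⟨rfl, rfl⟩ | ⟨rfl, rfl⟩ | ⟨rfl, rfl⟩ | ⟨rfl, rfl⟩
        · -- 34=(0,0)
          refine ⟨(⟨![1, 4, 0, 3, 2], ![2, 0, 4, 3, 1], by decide, by decide⟩ : Equiv.Perm (Fin 5)), T.m 1, T.w 3, Or.inr (Or.inr (Or.inl ?_))⟩
          show T.m 1 = T.m 1 ∧ T.m 4 = 2 * T.m 1 ∧ T.m 0 = 3 * T.m 1 ∧ T.m 3 = 4 * T.m 1 ∧ T.m 2 = 2 * T.m 1 ∧ T.w 1 = 2 * T.w 3 ∧ T.w 4 = 2 * T.w 3 ∧ T.w 0 = 2 * T.w 3 ∧ T.w 3 = T.w 3 ∧ T.w 2 = T.w 3 ∧ T.a 1 1 = -4 * T.w 3 ∧ T.a 1 4 = 2 * T.w 3 ∧ T.a 1 0 = 0 ∧ T.a 1 3 = 0 ∧ T.a 1 2 = 0 ∧ T.a 4 4 = -4 * T.w 3 ∧ T.a 4 0 = 2 * T.w 3 ∧ T.a 4 3 = 0 ∧ T.a 4 2 = 0 ∧ T.a 0 0 = -4 * T.w 3 ∧ T.a 0 3 = 2 * T.w 3 ∧ T.a 0 2 = 0 ∧ T.a 3 3 = -2 * T.w 3 ∧ T.a 3 2 = T.w 3 ∧ T.a 2 2 = -2 * T.w 3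
          refine ⟨?_, ?_, ?_, ?_, ?_, ?_, ?_, ?_, ?_, ?_, ?_, ?_, ?_, ?_, ?_, ?_, ?_, ?_, ?_, ?_, ?_, ?_, ?_, ?_, ?_⟩ <;> omega
        · -- 34=(1,1)
          exact False.elim (cert_false T ((skipEmb 2).trans (Function.Embedding.refl _)) (by norm_num) (fun _ => hall _) (((((((LB_zero T ((skipEmb 2).trans (Function.Embedding.refl _))).upd 0 2 1 (le_of_eq hx03)).upd 0 3 1 (le_of_eq hx04)).upd 2 0 2 (le_of_eq hx30)).upd 2 3 1 (le_of_eq hx34)).upd 3 0 1 (le_of_eq hx40)).upd 3 2 1 (le_of_eq hx43)) ![1,0,1,1] (by decide) (by decide) 0 (by decide))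
        · -- 34=(1,2)
          exact False.elim (cert_false T ((skipEmb 2).trans (Function.Embedding.refl _)) (by norm_num) (fun _ => hall _) (((((((LB_zero T ((skipEmb 2).trans (Function.Embedding.refl _))).upd 0 2 1 (le_of_eq hx03)).upd 0 3 1 (le_of_eq hx04)).upd 2 0 2 (le_of_eq hx30)).upd 2 3 1 (le_of_eq hx34)).upd 3 0 1 (le_of_eq hx40)).upd 3 2 2 (le_of_eq hx43)) ![1,0,1,1] (by decide) (by decide) 0 (by decide))
        · -- 34=(2,1)
          exact False.elim (cert_false T ((skipEmb 2).trans (Function.Embedding.refl _)) (by norm_num) (fun _ => hall _) (((((((LB_zero T ((skipEmb 2).trans (Function.Embedding.refl _))).upd 0 2 1 (le_of_eq hx03)).upd 0 3 1 (le_of_eq hx04)).upd 2 0 2 (le_of_eq hx30)).upd 2 3 2 (le_of_eq hx34)).upd 3 0 1 (le_of_eq hx40)).upd 3 2 1 (le_of_eq hx43)) ![1,0,1,1] (by decide) (by decide) 0 (by decide))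
        · -- 34=(1,3)
          exact False.elim (cert_false T ((skipEmb 2).trans (Function.Embedding.refl _)) (by norm_num) (fun _ => hall _) (((((((LB_zero T ((skipEmb 2).trans (Function.Embedding.refl _))).upd 0 2 1 (le_of_eq hx03)).upd 0 3 1 (le_of_eq hx04)).upd 2 0 2 (le_of_eq hx30)).upd 2 3 1 (le_of_eq hx34)).upd 3 0 1 (le_of_eq hx40)).upd 3 2 3 (le_of_eq hx43)) ![1,0,1,1] (by decide) (by decide) 0 (by decide))
        · -- 34=(3,1)
          exact False.elim (cert_false T ((skipEmb 2).trans (Function.Embedding.refl _)) (by norm_num) (fun _ => hall _) (((((((LB_zero T ((skipEmb 2).trans (Function.Embedding.refl _))).upd 0 2 1 (le_of_eq hx03)).upd 0 3 1 (le_of_eq hx04)).upd 2 0 2 (le_of_eq hx30)).upd 2 3 3 (le_of_eq hx34)).upd 3 0 1 (le_of_eq hx40)).upd 3 2 1 (le_of_eq hx43)) ![1,0,1,1] (by decide) (by decide) 0 (by decide))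
      · -- 24=(1,1)
        exact False.elim (cert_false T ((skipEmb 1).trans (Function.Embedding.refl _)) (by norm_num) (fun _ => hall _) (((((((((LB_zero T ((skipEmb 1).trans (Function.Embedding.refl _))).upd 0 2 1 (le_of_eq hx03)).upd 0 3 1 (le_of_eq hx04)).upd 1 2 1 (le_of_eq hx23)).upd 1 3 1 (le_of_eq hx24)).upd 2 0 2 (le_of_eq hx30)).upd 2 1 1 (le_of_eq hx32)).upd 3 0 1 (le_of_eq hx40)).upd 3 1 1 (le_of_eq hx42)) ![1,1,1,1] (by decide) (by decide) 0 (by decide))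
      · -- 24=(1,2)
        exact False.elim (cert_false T ((skipEmb 3).trans (Function.Embedding.refl _)) (by norm_num) (fun _ => hall _) (((((((LB_zero T ((skipEmb 3).trans (Function.Embedding.refl _))).upd 0 3 1 (le_of_eq hx04)).upd 1 3 1 (le_of_eq hx14)).upd 2 3 1 (le_of_eq hx24)).upd 3 0 1 (le_of_eq hx40)).upd 3 1 1 (le_of_eq hx41)).upd 3 2 2 (le_of_eq hx42)) ![1,1,1,2] (by decide) (by decide) 0 (by decide))
      · -- 24=(2,1)
        exact False.elim (cert_false T ((skipEmb 3).trans (Function.Embedding.refl _)) (by norm_num) (fun _ => hall _) (((((((LB_zero T ((skipEmb 3).trans (Function.Embedding.refl _))).upd 0 3 1 (le_of_eq hx04)).upd 1 3 1 (le_of_eq hx14)).upd 2 3 2 (le_of_eq hx24)).upd 3 0 1 (le_of_eq hx40)).upd 3 1 1 (le_of_eq hx41)).upd 3 2 1 (le_of_eq hx42)) ![1,1,2,2] (by decide) (by decide) 0 (by decide))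
      · -- 24=(1,3)
        exact False.elim (cert_false T ((skipEmb 3).trans (Function.Embedding.refl _)) (by norm_num) (fun _ => hall _) (((((LB_zero T ((skipEmb 3).trans (Function.Embedding.refl _))).upd 1 3 1 (le_of_eq hx14)).upd 2 3 1 (le_of_eq hx24)).upd 3 1 1 (le_of_eq hx41)).upd 3 2 3 (le_of_eq hx42)) ![0,1,1,2] (by decide) (by decide) 1 (by decide))
      · -- 24=(3,1)
        exact False.elim (cert_false T ((skipEmb 3).trans (Function.Embedding.refl _)) (by norm_num) (fun _ => hall _) (((((((LB_zero T ((skipEmb 3).trans (Function.Embedding.refl _))).upd 0 3 1 (le_of_eq hx04)).upd 1 3 1 (le_of_eq hx14)).upd 2 3 3 (le_of_eq hx24)).upd 3 0 1 (le_of_eq hx40)).upd 3 1 1 (le_of_eq hx41)).upd 3 2 1 (le_of_eq hx42)) ![1,1,2,2] (by decide) (by decide) 0 (by decide))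
    · -- 14=(1,2)
      exact False.elim (cert_false T ((skipEmb 2).trans (Function.Embedding.refl _)) (by norm_num) (fun _ => hall _) (((((((LB_zero T ((skipEmb 2).trans (Function.Embedding.refl _))).upd 0 2 1 (le_of_eq hx03)).upd 0 3 1 (le_of_eq hx04)).upd 1 3 1 (le_of_eq hx14)).upd 2 0 2 (le_of_eq hx30)).upd 3 0 1 (le_of_eq hx40)).upd 3 1 2 (le_of_eq hx41)) ![2,1,2,2] (by decide) (by decide) 0 (by decide))
    · -- 14=(2,1)
      exact False.elim (cert_false T ((skipEmb 2).trans (Function.Embedding.refl _)) (by norm_num) (fun _ => hall _) (((((((LB_zero T ((skipEmb 2).trans (Function.Embedding.refl _))).upd 0 2 1 (le_of_eq hx03)).upd 0 3 1 (le_of_eq hx04)).upd 1 3 2 (le_of_eq hx14)).upd 2 0 2 (le_of_eq hx30)).upd 3 0 1 (le_of_eq hx40)).upd 3 1 1 (le_of_eq hx41)) ![1,1,1,1] (by decide) (by decide) 0 (by decide))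
    · -- 14=(1,3)
      exact False.elim (cert_false T ((skipEmb 3).trans (Function.Embedding.refl _)) (by norm_num) (fun _ => hall _) (((((LB_zero T ((skipEmb 3).trans (Function.Embedding.refl _))).upd 0 3 1 (le_of_eq hx04)).upd 1 3 1 (le_of_eq hx14)).upd 3 0 1 (le_of_eq hx40)).upd 3 1 3 (le_of_eq hx41)) ![1,1,0,2] (by decide) (by decide) 0 (by decide))
    · -- 14=(3,1)
      exact False.elim (cert_false T ((skipEmb 3).trans (Function.Embedding.refl _)) (by norm_num) (fun _ => hall _) (((((LB_zero T ((skipEmb 3).trans (Function.Embedding.refl _))).upd 0 3 1 (le_of_eq hx04)).upd 1 3 3 (le_of_eq hx14)).upd 3 0 1 (le_of_eq hx40)).upd 3 1 1 (le_of_eq hx41)) ![1,3,0,2] (by decide) (by decide) 0 (by decide))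
  · -- 04=(1,2)
    exact False.elim (cert_false T ((skipEmb 2).trans (Function.Embedding.refl _)) (by norm_num) (fun _ => hall _) (((((LB_zero T ((skipEmb 2).trans (Function.Embedding.refl _))).upd 0 2 1 (le_of_eq hx03)).upd 0 3 1 (le_of_eq hx04)).upd 2 0 2 (le_of_eq hx30)).upd 3 0 2 (le_of_eq hx40)) ![1,0,1,1] (by decide) (by decide) 0 (by decide))
  · -- 04=(2,1)
    exact False.elim (cert_false T ((skipEmb 2).trans (Function.Embedding.refl _)) (by norm_num) (fun _ => hall _) (((((LB_zero T ((skipEmb 2).trans (Function.Embedding.refl _))).upd 0 2 1 (le_of_eq hx03)).upd 0 3 2 (le_of_eq hx04)).upd 2 0 2 (le_of_eq hx30)).upd 3 0 1 (le_of_eq hx40)) ![2,0,2,1] (by decide) (by decide) 0 (by decide))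
  · -- 04=(1,3)
    exact False.elim (cert_false T ((skipEmb 2).trans (Function.Embedding.refl _)) (by norm_num) (fun _ => hall _) (((((LB_zero T ((skipEmb 2).trans (Function.Embedding.refl _))).upd 0 2 1 (le_of_eq hx03)).upd 0 3 1 (le_of_eq hx04)).upd 2 0 2 (le_of_eq hx30)).upd 3 0 3 (le_of_eq hx40)) ![1,0,1,1] (by decide) (by decide) 0 (by decide))
  · -- 04=(3,1)
    exact False.elim (cert_false T ((skipEmb 2).trans (Function.Embedding.refl _)) (by norm_num) (fun _ => hall _) (((((LB_zero T ((skipEmb 2).trans (Function.Embedding.refl _))).upd 0 2 1 (le_of_eq hx03)).upd 0 3 3 (le_of_eq hx04)).upd 2 0 2 (le_of_eq hx30)).upd 3 0 1 (le_of_eq hx40)) ![2,0,1,1] (by decide) (by decide) 0 (by decide))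

theorem case65 (T : NumericalType 5) (hall : ∀ i, T.IsMinusTwo i) (d : SData T)
    (h01 : N T (Function.Embedding.refl _) 0 1 = 0) (h10 : N T (Function.Embedding.refl _) 1 0 = 0)
    (h02 : N T (Function.Embedding.refl _) 0 2 = 0) (h20 : N T (Function.Embedding.refl _) 2 0 = 0)
    (h12 : N T (Function.Embedding.refl _) 1 2 = 0) (h21 : N T (Function.Embedding.refl _) 2 1 = 0)
    (h03 : N T (Function.Embedding.refl _) 0 3 = 1) (h30 : N T (Function.Embedding.refl _) 3 0 = 2)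
    (h13 : N T (Function.Embedding.refl _) 1 3 = 0) (h31 : N T (Function.Embedding.refl _) 3 1 = 0) :
    Goal T := by
  unfold Goal
  have hd := d
  obtain ⟨x01, x02, x03, x04, x10, x12, x13, x14, x20, x21, x23, x24, x30, x31, x32, x34, x40, x41, x42, x43, hx01, hx02, hx03, hx04, hx10, hx12, hx13, hx14, hx20, hx21, hx23, hx24, hx30, hx31, hx32, hx34, hx40, hx41, hx42, hx43, hw0, hm0, hw1, hm1, hw2, hm2, hw3, hm3, hw4, hm4, a00, a01, a02, a03, a04, a11, a10, a12, a13, a14, a22, a20, a21, a23, a24, a33, a30, a31, a32, a34, a44, a40, a41, a42, a43, wN01, wN02, wN12, wN03, wN13, wN23, wN04, wN14, wN24, wN34, e0, e1, e2, e3, e4, d01, d02, d12, d03, d13, d23, d04, d14, d24, d34⟩ := d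
  obtain rfl : x01 = 0 := hx01.trans h01
  obtain rfl : x10 = 0 := hx10.trans h10
  obtain rfl : x02 = 0 := hx02.trans h02
  obtain rfl : x20 = 0 := hx20.trans h20
  obtain rfl : x12 = 0 := hx12.trans h12
  obtain rfl : x21 = 0 := hx21.trans h21
  obtain rfl : x03 = 1 := hx03.trans h03
  obtain rfl : x30 = 2 := hx30.trans h30
  obtain rfl : x13 = 0 := hx13.trans h13
  obtain rfl : x31 = 0 := hx31.trans h31
  rcases d23 with ⟨rfl, rfl⟩ | ⟨rfl, rfl⟩ | ⟨rfl, rfl⟩ | ⟨rfl, rfl⟩ | ⟨rfl, rfl⟩ | ⟨rfl, rfl⟩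
  · -- 23=(0,0)
    exact case66 T hall hd hx01.symm hx10.symm hx02.symm hx20.symm hx12.symm hx21.symm hx03.symm hx30.symm hx13.symm hx31.symm hx23.symm hx32.symm
  · -- 23=(1,1)
    exact case68 T hall hd hx01.symm hx10.symm hx02.symm hx20.symm hx12.symm hx21.symm hx03.symm hx30.symm hx13.symm hx31.symm hx23.symm hx32.symm
  · -- 23=(1,2)
    exact False.elim (cert_false T ((skipEmb 4).trans (Function.Embedding.refl _)) (by norm_num) (fun _ => hall _) (((((LB_zero T ((skipEmb 4).trans (Function.Embedding.refl _))).upd 0 3 1 (le_of_eq hx03)).upd 2 3 1 (le_of_eq hx23)).upd 3 0 2 (le_of_eq hx30)).upd 3 2 2 (le_of_eq hx32)) ![1,0,1,2] (by decide) (by decide) 0 (by decide))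
  · -- 23=(2,1)
    exact False.elim (cert_false T ((skipEmb 4).trans (Function.Embedding.refl _)) (by norm_num) (fun _ => hall _) (((((LB_zero T ((skipEmb 4).trans (Function.Embedding.refl _))).upd 0 3 1 (le_of_eq hx03)).upd 2 3 2 (le_of_eq hx23)).upd 3 0 2 (le_of_eq hx30)).upd 3 2 1 (le_of_eq hx32)) ![1,0,2,2] (by decide) (by decide) 0 (by decide))
  · -- 23=(1,3)
    exact False.elim (cert_false T ((skipEmb 4).trans (Function.Embedding.refl _)) (by norm_num) (fun _ => hall _) (((((LB_zero T ((skipEmb 4).trans (Function.Embedding.refl _))).upd 0 3 1 (le_of_eq hx03)).upd 2 3 1 (le_of_eq hx23)).upd 3 0 2 (le_of_eq hx30)).upd 3 2 3 (le_of_eq hx32)) ![1,0,1,2] (by decide) (by decide) 0 (by decide))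
  · -- 23=(3,1)
    exact False.elim (cert_false T ((skipEmb 4).trans (Function.Embedding.refl _)) (by norm_num) (fun _ => hall _) (((((LB_zero T ((skipEmb 4).trans (Function.Embedding.refl _))).upd 0 3 1 (le_of_eq hx03)).upd 2 3 3 (le_of_eq hx23)).upd 3 0 2 (le_of_eq hx30)).upd 3 2 1 (le_of_eq hx32)) ![1,0,2,2] (by decide) (by decide) 0 (by decide))

theorem case89 (T : NumericalType 5) (hall : ∀ i, T.IsMinusTwo i) (d : SData T)
    (h01 : N T (Function.Embedding.refl _) 0 1 = 0) (h10 : N T (Function.Embedding.refl _) 1 0 = 0)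
    (h02 : N T (Function.Embedding.refl _) 0 2 = 0) (h20 : N T (Function.Embedding.refl _) 2 0 = 0)
    (h12 : N T (Function.Embedding.refl _) 1 2 = 0) (h21 : N T (Function.Embedding.refl _) 2 1 = 0)
    (h03 : N T (Function.Embedding.refl _) 0 3 = 3) (h30 : N T (Function.Embedding.refl _) 3 0 = 1)
    (h13 : N T (Function.Embedding.refl _) 1 3 = 0) (h31 : N T (Function.Embedding.refl _) 3 1 = 0)
    (h23 : N T (Function.Embedding.refl _) 2 3 = 0) (h32 : N T (Function.Embedding.refl _) 3 2 = 0)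
    (h04 : N T (Function.Embedding.refl _) 0 4 = 0) (h40 : N T (Function.Embedding.refl _) 4 0 = 0) :
    Goal T := by
  unfold Goal
  have hd := d
  obtain ⟨x01, x02, x03, x04, x10, x12, x13, x14, x20, x21, x23, x24, x30, x31, x32, x34, x40, x41, x42, x43, hx01, hx02, hx03, hx04, hx10, hx12, hx13, hx14, hx20, hx21, hx23, hx24, hx30, hx31, hx32, hx34, hx40, hx41, hx42, hx43, hw0, hm0, hw1, hm1, hw2, hm2, hw3, hm3, hw4, hm4, a00, a01, a02, a03, a04, a11, a10, a12, a13, a14, a22, a20, a21, a23, a24, a33, a30, a31, a32, a34, a44, a40, a41, a42, a43, wN01, wN02, wN12, wN03, wN13, wN23, wN04, wN14, wN24, wN34, e0, e1, e2, e3, e4, d01, d02, d12, d03, d13, d23, d04, d14, d24, d34⟩ := d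
  obtain rfl : x01 = 0 := hx01.trans h01
  obtain rfl : x10 = 0 := hx10.trans h10
  obtain rfl : x02 = 0 := hx02.trans h02
  obtain rfl : x20 = 0 := hx20.trans h20
  obtain rfl : x12 = 0 := hx12.trans h12
  obtain rfl : x21 = 0 := hx21.trans h21
  obtain rfl : x03 = 3 := hx03.trans h03
  obtain rfl : x30 = 1 := hx30.trans h30
  obtain rfl : x13 = 0 := hx13.trans h13
  obtain rfl : x31 = 0 := hx31.trans h31
  obtain rfl : x23 = 0 := hx23.trans h23
  obtain rfl : x32 = 0 := hx32.trans h32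
  obtain rfl : x04 = 0 := hx04.trans h04
  obtain rfl : x40 = 0 := hx40.trans h40
  rcases d14 with ⟨rfl, rfl⟩ | ⟨rfl, rfl⟩ | ⟨rfl, rfl⟩ | ⟨rfl, rfl⟩ | ⟨rfl, rfl⟩ | ⟨rfl, rfl⟩
  · -- 14=(0,0)
    rcases d24 with ⟨rfl, rfl⟩ | ⟨rfl, rfl⟩ | ⟨rfl, rfl⟩ | ⟨rfl, rfl⟩ | ⟨rfl, rfl⟩ | ⟨rfl, rfl⟩
    · -- 24=(0,0)
      rcases d34 with ⟨rfl, rfl⟩ | ⟨rfl, rfl⟩ | ⟨rfl, rfl⟩ | ⟨rfl, rfl⟩ | ⟨rfl, rfl⟩ | ⟨rfl, rfl⟩
      · -- 34=(0,0)
        exfalso; omega
      · -- 34=(1,1)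
        exact False.elim (cert_false T ((skipEmb 2).trans (Function.Embedding.refl _)) (by norm_num) (fun _ => hall _) (((((LB_zero T ((skipEmb 2).trans (Function.Embedding.refl _))).upd 0 2 3 (le_of_eq hx03)).upd 2 0 1 (le_of_eq hx30)).upd 2 3 1 (le_of_eq hx34)).upd 3 2 1 (le_of_eq hx43)) ![3,0,2,1] (by decide) (by decide) 0 (by decide))
      · -- 34=(1,2)
        exact False.elim (cert_false T ((skipEmb 2).trans (Function.Embedding.refl _)) (by norm_num) (fun _ => hall _) (((((LB_zero T ((skipEmb 2).trans (Function.Embedding.refl _))).upd 0 2 3 (le_of_eq hx03)).upd 2 0 1 (le_of_eq hx30)).upd 2 3 1 (le_of_eq hx34)).upd 3 2 2 (le_of_eq hx43)) ![1,0,1,1] (by decide) (by decide) 0 (by decide))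
      · -- 34=(2,1)
        exact False.elim (cert_false T ((skipEmb 2).trans (Function.Embedding.refl _)) (by norm_num) (fun _ => hall _) (((((LB_zero T ((skipEmb 2).trans (Function.Embedding.refl _))).upd 0 2 3 (le_of_eq hx03)).upd 2 0 1 (le_of_eq hx30)).upd 2 3 2 (le_of_eq hx34)).upd 3 2 1 (le_of_eq hx43)) ![2,0,2,1] (by decide) (by decide) 0 (by decide))
      · -- 34=(1,3)
        exact False.elim (cert_false T ((skipEmb 2).trans (Function.Embedding.refl _)) (by norm_num) (fun _ => hall _) (((((LB_zero T ((skipEmb 2).trans (Function.Embedding.refl _))).upd 0 2 3 (le_of_eq hx03)).upd 2 0 1 (le_of_eq hx30)).upd 2 3 1 (le_of_eq hx34)).upd 3 2 3 (le_of_eq hx43)) ![1,0,1,1] (by decide) (by decide) 0 (by decide))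
      · -- 34=(3,1)
        exact False.elim (cert_false T ((skipEmb 2).trans (Function.Embedding.refl _)) (by norm_num) (fun _ => hall _) (((((LB_zero T ((skipEmb 2).trans (Function.Embedding.refl _))).upd 0 2 3 (le_of_eq hx03)).upd 2 0 1 (le_of_eq hx30)).upd 2 3 3 (le_of_eq hx34)).upd 3 2 1 (le_of_eq hx43)) ![1,0,2,1] (by decide) (by decide) 0 (by decide))
    · -- 24=(1,1)
      rcases d34 with ⟨rfl, rfl⟩ | ⟨rfl, rfl⟩ | ⟨rfl, rfl⟩ | ⟨rfl, rfl⟩ | ⟨rfl, rfl⟩ | ⟨rfl, rfl⟩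
      · -- 34=(0,0)
        exfalso; omega
      · -- 34=(1,1)
        exact False.elim (cert_false T ((skipEmb 2).trans (Function.Embedding.refl _)) (by norm_num) (fun _ => hall _) (((((LB_zero T ((skipEmb 2).trans (Function.Embedding.refl _))).upd 0 2 3 (le_of_eq hx03)).upd 2 0 1 (le_of_eq hx30)).upd 2 3 1 (le_of_eq hx34)).upd 3 2 1 (le_of_eq hx43)) ![3,0,2,1] (by decide) (by decide) 0 (by decide))
      · -- 34=(1,2)
        exact False.elim (cert_false T ((skipEmb 2).trans (Function.Embedding.refl _)) (by norm_num) (fun _ => hall _) (((((LB_zero T ((skipEmb 2).trans (Function.Embedding.refl _))).upd 0 2 3 (le_of_eq hx03)).upd 2 0 1 (le_of_eq hx30)).upd 2 3 1 (le_of_eq hx34)).upd 3 2 2 (le_of_eq hx43)) ![1,0,1,1] (by decide) (by decide) 0 (by decide))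
      · -- 34=(2,1)
        exact False.elim (cert_false T ((skipEmb 2).trans (Function.Embedding.refl _)) (by norm_num) (fun _ => hall _) (((((LB_zero T ((skipEmb 2).trans (Function.Embedding.refl _))).upd 0 2 3 (le_of_eq hx03)).upd 2 0 1 (le_of_eq hx30)).upd 2 3 2 (le_of_eq hx34)).upd 3 2 1 (le_of_eq hx43)) ![2,0,2,1] (by decide) (by decide) 0 (by decide))
      · -- 34=(1,3)
        exact False.elim (cert_false T ((skipEmb 2).trans (Function.Embedding.refl _)) (by norm_num) (fun _ => hall _) (((((LB_zero T ((skipEmb 2).trans (Function.Embedding.refl _))).upd 0 2 3 (le_of_eq hx03)).upd 2 0 1 (le_of_eq hx30)).upd 2 3 1 (le_of_eq hx34)).upd 3 2 3 (le_of_eq hx43)) ![1,0,1,1] (by decide) (by decide) 0 (by decide))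
      · -- 34=(3,1)
        exact False.elim (cert_false T ((skipEmb 2).trans (Function.Embedding.refl _)) (by norm_num) (fun _ => hall _) (((((LB_zero T ((skipEmb 2).trans (Function.Embedding.refl _))).upd 0 2 3 (le_of_eq hx03)).upd 2 0 1 (le_of_eq hx30)).upd 2 3 3 (le_of_eq hx34)).upd 3 2 1 (le_of_eq hx43)) ![1,0,2,1] (by decide) (by decide) 0 (by decide))
    · -- 24=(1,2)
      rcases d34 with ⟨rfl, rfl⟩ | ⟨rfl, rfl⟩ | ⟨rfl, rfl⟩ | ⟨rfl, rfl⟩ | ⟨rfl, rfl⟩ | ⟨rfl, rfl⟩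
      · -- 34=(0,0)
        exfalso; omega
      · -- 34=(1,1)
        exact False.elim (cert_false T ((skipEmb 2).trans (Function.Embedding.refl _)) (by norm_num) (fun _ => hall _) (((((LB_zero T ((skipEmb 2).trans (Function.Embedding.refl _))).upd 0 2 3 (le_of_eq hx03)).upd 2 0 1 (le_of_eq hx30)).upd 2 3 1 (le_of_eq hx34)).upd 3 2 1 (le_of_eq hx43)) ![3,0,2,1] (by decide) (by decide) 0 (by decide))
      · -- 34=(1,2)
        exact False.elim (cert_false T ((skipEmb 2).trans (Function.Embedding.refl _)) (by norm_num) (fun _ => hall _) (((((LB_zero T ((skipEmb 2).trans (Function.Embedding.refl _))).upd 0 2 3 (le_of_eq hx03)).upd 2 0 1 (le_of_eq hx30)).upd 2 3 1 (le_of_eq hx34)).upd 3 2 2 (le_of_eq hx43)) ![1,0,1,1] (by decide) (by decide) 0 (by decide))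
      · -- 34=(2,1)
        exact False.elim (cert_false T ((skipEmb 2).trans (Function.Embedding.refl _)) (by norm_num) (fun _ => hall _) (((((LB_zero T ((skipEmb 2).trans (Function.Embedding.refl _))).upd 0 2 3 (le_of_eq hx03)).upd 2 0 1 (le_of_eq hx30)).upd 2 3 2 (le_of_eq hx34)).upd 3 2 1 (le_of_eq hx43)) ![2,0,2,1] (by decide) (by decide) 0 (by decide))
      · -- 34=(1,3)
        exact False.elim (cert_false T ((skipEmb 2).trans (Function.Embedding.refl _)) (by norm_num) (fun _ => hall _) (((((LB_zero T ((skipEmb 2).trans (Function.Embedding.refl _))).upd 0 2 3 (le_of_eq hx03)).upd 2 0 1 (le_of_eq hx30)).upd 2 3 1 (le_of_eq hx34)).upd 3 2 3 (le_of_eq hx43)) ![1,0,1,1] (by decide) (by decide) 0 (by decide))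
      · -- 34=(3,1)
        exact False.elim (cert_false T ((skipEmb 2).trans (Function.Embedding.refl _)) (by norm_num) (fun _ => hall _) (((((LB_zero T ((skipEmb 2).trans (Function.Embedding.refl _))).upd 0 2 3 (le_of_eq hx03)).upd 2 0 1 (le_of_eq hx30)).upd 2 3 3 (le_of_eq hx34)).upd 3 2 1 (le_of_eq hx43)) ![1,0,2,1] (by decide) (by decide) 0 (by decide))
    · -- 24=(2,1)
      rcases d34 with ⟨rfl, rfl⟩ | ⟨rfl, rfl⟩ | ⟨rfl, rfl⟩ | ⟨rfl, rfl⟩ | ⟨rfl, rfl⟩ | ⟨rfl, rfl⟩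
      · -- 34=(0,0)
        exfalso; omega
      · -- 34=(1,1)
        exact False.elim (cert_false T ((skipEmb 2).trans (Function.Embedding.refl _)) (by norm_num) (fun _ => hall _) (((((LB_zero T ((skipEmb 2).trans (Function.Embedding.refl _))).upd 0 2 3 (le_of_eq hx03)).upd 2 0 1 (le_of_eq hx30)).upd 2 3 1 (le_of_eq hx34)).upd 3 2 1 (le_of_eq hx43)) ![3,0,2,1] (by decide) (by decide) 0 (by decide))
      · -- 34=(1,2)
        exact False.elim (cert_false T ((skipEmb 2).trans (Function.Embedding.refl _)) (by norm_num) (fun _ => hall _) (((((LB_zero T ((skipEmb 2).trans (Function.Embedding.refl _))).upd 0 2 3 (le_of_eq hx03)).upd 2 0 1 (le_of_eq hx30)).upd 2 3 1 (le_of_eq hx34)).upd 3 2 2 (le_of_eq hx43)) ![1,0,1,1] (by decide) (by decide) 0 (by decide))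
      · -- 34=(2,1)
        exact False.elim (cert_false T ((skipEmb 2).trans (Function.Embedding.refl _)) (by norm_num) (fun _ => hall _) (((((LB_zero T ((skipEmb 2).trans (Function.Embedding.refl _))).upd 0 2 3 (le_of_eq hx03)).upd 2 0 1 (le_of_eq hx30)).upd 2 3 2 (le_of_eq hx34)).upd 3 2 1 (le_of_eq hx43)) ![2,0,2,1] (by decide) (by decide) 0 (by decide))
      · -- 34=(1,3)
        exact False.elim (cert_false T ((skipEmb 2).trans (Function.Embedding.refl _)) (by norm_num) (fun _ => hall _) (((((LB_zero T ((skipEmb 2).trans (Function.Embedding.refl _))).upd 0 2 3 (le_of_eq hx03)).upd 2 0 1 (le_of_eq hx30)).upd 2 3 1 (le_of_eq hx34)).upd 3 2 3 (le_of_eq hx43)) ![1,0,1,1] (by decide) (by decide) 0 (by decide))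
      · -- 34=(3,1)
        exact False.elim (cert_false T ((skipEmb 2).trans (Function.Embedding.refl _)) (by norm_num) (fun _ => hall _) (((((LB_zero T ((skipEmb 2).trans (Function.Embedding.refl _))).upd 0 2 3 (le_of_eq hx03)).upd 2 0 1 (le_of_eq hx30)).upd 2 3 3 (le_of_eq hx34)).upd 3 2 1 (le_of_eq hx43)) ![1,0,2,1] (by decide) (by decide) 0 (by decide))
    · -- 24=(1,3)
      rcases d34 with ⟨rfl, rfl⟩ | ⟨rfl, rfl⟩ | ⟨rfl, rfl⟩ | ⟨rfl, rfl⟩ | ⟨rfl, rfl⟩ | ⟨rfl, rfl⟩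
      · -- 34=(0,0)
        exfalso; omega
      · -- 34=(1,1)
        exact False.elim (cert_false T ((skipEmb 2).trans (Function.Embedding.refl _)) (by norm_num) (fun _ => hall _) (((((LB_zero T ((skipEmb 2).trans (Function.Embedding.refl _))).upd 0 2 3 (le_of_eq hx03)).upd 2 0 1 (le_of_eq hx30)).upd 2 3 1 (le_of_eq hx34)).upd 3 2 1 (le_of_eq hx43)) ![3,0,2,1] (by decide) (by decide) 0 (by decide))
      · -- 34=(1,2)
        exact False.elim (cert_false T ((skipEmb 2).trans (Function.Embedding.refl _)) (by norm_num) (fun _ => hall _) (((((LB_zero T ((skipEmb 2).trans (Function.Embedding.refl _))).upd 0 2 3 (le_of_eq hx03)).upd 2 0 1 (le_of_eq hx30)).upd 2 3 1 (le_of_eq hx34)).upd 3 2 2 (le_of_eq hx43)) ![1,0,1,1] (by decide) (by decide) 0 (by decide))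
      · -- 34=(2,1)
        exact False.elim (cert_false T ((skipEmb 2).trans (Function.Embedding.refl _)) (by norm_num) (fun _ => hall _) (((((LB_zero T ((skipEmb 2).trans (Function.Embedding.refl _))).upd 0 2 3 (le_of_eq hx03)).upd 2 0 1 (le_of_eq hx30)).upd 2 3 2 (le_of_eq hx34)).upd 3 2 1 (le_of_eq hx43)) ![2,0,2,1] (by decide) (by decide) 0 (by decide))
      · -- 34=(1,3)
        exact False.elim (cert_false T ((skipEmb 2).trans (Function.Embedding.refl _)) (by norm_num) (fun _ => hall _) (((((LB_zero T ((skipEmb 2).trans (Function.Embedding.refl _))).upd 0 2 3 (le_of_eq hx03)).upd 2 0 1 (le_of_eq hx30)).upd 2 3 1 (le_of_eq hx34)).upd 3 2 3 (le_of_eq hx43)) ![1,0,1,1] (by decide) (by decide) 0 (by decide))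
      · -- 34=(3,1)
        exact False.elim (cert_false T ((skipEmb 2).trans (Function.Embedding.refl _)) (by norm_num) (fun _ => hall _) (((((LB_zero T ((skipEmb 2).trans (Function.Embedding.refl _))).upd 0 2 3 (le_of_eq hx03)).upd 2 0 1 (le_of_eq hx30)).upd 2 3 3 (le_of_eq hx34)).upd 3 2 1 (le_of_eq hx43)) ![1,0,2,1] (by decide) (by decide) 0 (by decide))
    · -- 24=(3,1)
      rcases d34 with ⟨rfl, rfl⟩ | ⟨rfl, rfl⟩ | ⟨rfl, rfl⟩ | ⟨rfl, rfl⟩ | ⟨rfl, rfl⟩ | ⟨rfl, rfl⟩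
      · -- 34=(0,0)
        exfalso; omega
      · -- 34=(1,1)
        exact False.elim (cert_false T ((skipEmb 2).trans (Function.Embedding.refl _)) (by norm_num) (fun _ => hall _) (((((LB_zero T ((skipEmb 2).trans (Function.Embedding.refl _))).upd 0 2 3 (le_of_eq hx03)).upd 2 0 1 (le_of_eq hx30)).upd 2 3 1 (le_of_eq hx34)).upd 3 2 1 (le_of_eq hx43)) ![3,0,2,1] (by decide) (by decide) 0 (by decide))
      · -- 34=(1,2)
        exact False.elim (cert_false T ((skipEmb 2).trans (Function.Embedding.refl _)) (by norm_num) (fun _ => hall _) (((((LB_zero T ((skipEmb 2).trans (Function.Embedding.refl _))).upd 0 2 3 (le_of_eq hx03)).upd 2 0 1 (le_of_eq hx30)).upd 2 3 1 (le_of_eq hx34)).upd 3 2 2 (le_of_eq hx43)) ![1,0,1,1] (by decide) (by decide) 0 (by decide))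
      · -- 34=(2,1)
        exact False.elim (cert_false T ((skipEmb 2).trans (Function.Embedding.refl _)) (by norm_num) (fun _ => hall _) (((((LB_zero T ((skipEmb 2).trans (Function.Embedding.refl _))).upd 0 2 3 (le_of_eq hx03)).upd 2 0 1 (le_of_eq hx30)).upd 2 3 2 (le_of_eq hx34)).upd 3 2 1 (le_of_eq hx43)) ![2,0,2,1] (by decide) (by decide) 0 (by decide))
      · -- 34=(1,3)
        exact False.elim (cert_false T ((skipEmb 2).trans (Function.Embedding.refl _)) (by norm_num) (fun _ => hall _) (((((LB_zero T ((skipEmb 2).trans (Function.Embedding.refl _))).upd 0 2 3 (le_of_eq hx03)).upd 2 0 1 (le_of_eq hx30)).upd 2 3 1 (le_of_eq hx34)).upd 3 2 3 (le_of_eq hx43)) ![1,0,1,1] (by decide) (by decide) 0 (by decide))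
      · -- 34=(3,1)
        exact False.elim (cert_false T ((skipEmb 2).trans (Function.Embedding.refl _)) (by norm_num) (fun _ => hall _) (((((LB_zero T ((skipEmb 2).trans (Function.Embedding.refl _))).upd 0 2 3 (le_of_eq hx03)).upd 2 0 1 (le_of_eq hx30)).upd 2 3 3 (le_of_eq hx34)).upd 3 2 1 (le_of_eq hx43)) ![1,0,2,1] (by decide) (by decide) 0 (by decide))
  · -- 14=(1,1)
    rcases d24 with ⟨rfl, rfl⟩ | ⟨rfl, rfl⟩ | ⟨rfl, rfl⟩ | ⟨rfl, rfl⟩ | ⟨rfl, rfl⟩ | ⟨rfl, rfl⟩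
    · -- 24=(0,0)
      rcases d34 with ⟨rfl, rfl⟩ | ⟨rfl, rfl⟩ | ⟨rfl, rfl⟩ | ⟨rfl, rfl⟩ | ⟨rfl, rfl⟩ | ⟨rfl, rfl⟩
      · -- 34=(0,0)
        exfalso; omega
      · -- 34=(1,1)
        exact False.elim (cert_false T ((skipEmb 2).trans (Function.Embedding.refl _)) (by norm_num) (fun _ => hall _) (((((LB_zero T ((skipEmb 2).trans (Function.Embedding.refl _))).upd 0 2 3 (le_of_eq hx03)).upd 2 0 1 (le_of_eq hx30)).upd 2 3 1 (le_of_eq hx34)).upd 3 2 1 (le_of_eq hx43)) ![3,0,2,1] (by decide) (by decide) 0 (by decide))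
      · -- 34=(1,2)
        exact False.elim (cert_false T ((skipEmb 2).trans (Function.Embedding.refl _)) (by norm_num) (fun _ => hall _) (((((LB_zero T ((skipEmb 2).trans (Function.Embedding.refl _))).upd 0 2 3 (le_of_eq hx03)).upd 2 0 1 (le_of_eq hx30)).upd 2 3 1 (le_of_eq hx34)).upd 3 2 2 (le_of_eq hx43)) ![1,0,1,1] (by decide) (by decide) 0 (by decide))
      · -- 34=(2,1)
        exact False.elim (cert_false T ((skipEmb 2).trans (Function.Embedding.refl _)) (by norm_num) (fun _ => hall _) (((((LB_zero T ((skipEmb 2).trans (Function.Embedding.refl _))).upd 0 2 3 (le_of_eq hx03)).upd 2 0 1 (le_of_eq hx30)).upd 2 3 2 (le_of_eq hx34)).upd 3 2 1 (le_of_eq hx43)) ![2,0,2,1] (by decide) (by decide) 0 (by decide))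
      · -- 34=(1,3)
        exact False.elim (cert_false T ((skipEmb 2).trans (Function.Embedding.refl _)) (by norm_num) (fun _ => hall _) (((((LB_zero T ((skipEmb 2).trans (Function.Embedding.refl _))).upd 0 2 3 (le_of_eq hx03)).upd 2 0 1 (le_of_eq hx30)).upd 2 3 1 (le_of_eq hx34)).upd 3 2 3 (le_of_eq hx43)) ![1,0,1,1] (by decide) (by decide) 0 (by decide))
      · -- 34=(3,1)
        exact False.elim (cert_false T ((skipEmb 2).trans (Function.Embedding.refl _)) (by norm_num) (fun _ => hall _) (((((LB_zero T ((skipEmb 2).trans (Function.Embedding.refl _))).upd 0 2 3 (le_of_eq hx03)).upd 2 0 1 (le_of_eq hx30)).upd 2 3 3 (le_of_eq hx34)).upd 3 2 1 (le_of_eq hx43)) ![1,0,2,1] (by decide) (by decide) 0 (by decide))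
    · -- 24=(1,1)
      rcases d34 with ⟨rfl, rfl⟩ | ⟨rfl, rfl⟩ | ⟨rfl, rfl⟩ | ⟨rfl, rfl⟩ | ⟨rfl, rfl⟩ | ⟨rfl, rfl⟩
      · -- 34=(0,0)
        exfalso; omega
      · -- 34=(1,1)
        exact False.elim (cert_false T ((skipEmb 2).trans (Function.Embedding.refl _)) (by norm_num) (fun _ => hall _) (((((LB_zero T ((skipEmb 2).trans (Function.Embedding.refl _))).upd 0 2 3 (le_of_eq hx03)).upd 2 0 1 (le_of_eq hx30)).upd 2 3 1 (le_of_eq hx34)).upd 3 2 1 (le_of_eq hx43)) ![3,0,2,1] (by decide) (by decide) 0 (by decide))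
      · -- 34=(1,2)
        exact False.elim (cert_false T ((skipEmb 2).trans (Function.Embedding.refl _)) (by norm_num) (fun _ => hall _) (((((LB_zero T ((skipEmb 2).trans (Function.Embedding.refl _))).upd 0 2 3 (le_of_eq hx03)).upd 2 0 1 (le_of_eq hx30)).upd 2 3 1 (le_of_eq hx34)).upd 3 2 2 (le_of_eq hx43)) ![1,0,1,1] (by decide) (by decide) 0 (by decide))
      · -- 34=(2,1)
        exact False.elim (cert_false T ((skipEmb 2).trans (Function.Embedding.refl _)) (by norm_num) (fun _ => hall _) (((((LB_zero T ((skipEmb 2).trans (Function.Embedding.refl _))).upd 0 2 3 (le_of_eq hx03)).upd 2 0 1 (le_of_eq hx30)).upd 2 3 2 (le_of_eq hx34)).upd 3 2 1 (le_of_eq hx43)) ![2,0,2,1] (by decide) (by decide) 0 (by decide))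
      · -- 34=(1,3)
        exact False.elim (cert_false T ((skipEmb 2).trans (Function.Embedding.refl _)) (by norm_num) (fun _ => hall _) (((((LB_zero T ((skipEmb 2).trans (Function.Embedding.refl _))).upd 0 2 3 (le_of_eq hx03)).upd 2 0 1 (le_of_eq hx30)).upd 2 3 1 (le_of_eq hx34)).upd 3 2 3 (le_of_eq hx43)) ![1,0,1,1] (by decide) (by decide) 0 (by decide))
      · -- 34=(3,1)
        exact False.elim (cert_false T ((skipEmb 2).trans (Function.Embedding.refl _)) (by norm_num) (fun _ => hall _) (((((LB_zero T ((skipEmb 2).trans (Function.Embedding.refl _))).upd 0 2 3 (le_of_eq hx03)).upd 2 0 1 (le_of_eq hx30)).upd 2 3 3 (le_of_eq hx34)).upd 3 2 1 (le_of_eq hx43)) ![1,0,2,1] (by decide) (by decide) 0 (by decide))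
    · -- 24=(1,2)
      rcases d34 with ⟨rfl, rfl⟩ | ⟨rfl, rfl⟩ | ⟨rfl, rfl⟩ | ⟨rfl, rfl⟩ | ⟨rfl, rfl⟩ | ⟨rfl, rfl⟩
      · -- 34=(0,0)
        exfalso; omega
      · -- 34=(1,1)
        exact False.elim (cert_false T ((skipEmb 2).trans (Function.Embedding.refl _)) (by norm_num) (fun _ => hall _) (((((LB_zero T ((skipEmb 2).trans (Function.Embedding.refl _))).upd 0 2 3 (le_of_eq hx03)).upd 2 0 1 (le_of_eq hx30)).upd 2 3 1 (le_of_eq hx34)).upd 3 2 1 (le_of_eq hx43)) ![3,0,2,1] (by decide) (by decide) 0 (by decide))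
      · -- 34=(1,2)
        exact False.elim (cert_false T ((skipEmb 2).trans (Function.Embedding.refl _)) (by norm_num) (fun _ => hall _) (((((LB_zero T ((skipEmb 2).trans (Function.Embedding.refl _))).upd 0 2 3 (le_of_eq hx03)).upd 2 0 1 (le_of_eq hx30)).upd 2 3 1 (le_of_eq hx34)).upd 3 2 2 (le_of_eq hx43)) ![1,0,1,1] (by decide) (by decide) 0 (by decide))
      · -- 34=(2,1)
        exact False.elim (cert_false T ((skipEmb 2).trans (Function.Embedding.refl _)) (by norm_num) (fun _ => hall _) (((((LB_zero T ((skipEmb 2).trans (Function.Embedding.refl _))).upd 0 2 3 (le_of_eq hx03)).upd 2 0 1 (le_of_eq hx30)).upd 2 3 2 (le_of_eq hx34)).upd 3 2 1 (le_of_eq hx43)) ![2,0,2,1] (by decide) (by decide) 0 (by decide))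
      · -- 34=(1,3)
        exact False.elim (cert_false T ((skipEmb 2).trans (Function.Embedding.refl _)) (by norm_num) (fun _ => hall _) (((((LB_zero T ((skipEmb 2).trans (Function.Embedding.refl _))).upd 0 2 3 (le_of_eq hx03)).upd 2 0 1 (le_of_eq hx30)).upd 2 3 1 (le_of_eq hx34)).upd 3 2 3 (le_of_eq hx43)) ![1,0,1,1] (by decide) (by decide) 0 (by decide))
      · -- 34=(3,1)
        exact False.elim (cert_false T ((skipEmb 2).trans (Function.Embedding.refl _)) (by norm_num) (fun _ => hall _) (((((LB_zero T ((skipEmb 2).trans (Function.Embedding.refl _))).upd 0 2 3 (le_of_eq hx03)).upd 2 0 1 (le_of_eq hx30)).upd 2 3 3 (le_of_eq hx34)).upd 3 2 1 (le_of_eq hx43)) ![1,0,2,1] (by decide) (by decide) 0 (by decide))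
    · -- 24=(2,1)
      rcases d34 with ⟨rfl, rfl⟩ | ⟨rfl, rfl⟩ | ⟨rfl, rfl⟩ | ⟨rfl, rfl⟩ | ⟨rfl, rfl⟩ | ⟨rfl, rfl⟩
      · -- 34=(0,0)
        exfalso; omega
      · -- 34=(1,1)
        exact False.elim (cert_false T ((skipEmb 2).trans (Function.Embedding.refl _)) (by norm_num) (fun _ => hall _) (((((LB_zero T ((skipEmb 2).trans (Function.Embedding.refl _))).upd 0 2 3 (le_of_eq hx03)).upd 2 0 1 (le_of_eq hx30)).upd 2 3 1 (le_of_eq hx34)).upd 3 2 1 (le_of_eq hx43)) ![3,0,2,1] (by decide) (by decide) 0 (by decide))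
      · -- 34=(1,2)
        exact False.elim (cert_false T ((skipEmb 2).trans (Function.Embedding.refl _)) (by norm_num) (fun _ => hall _) (((((LB_zero T ((skipEmb 2).trans (Function.Embedding.refl _))).upd 0 2 3 (le_of_eq hx03)).upd 2 0 1 (le_of_eq hx30)).upd 2 3 1 (le_of_eq hx34)).upd 3 2 2 (le_of_eq hx43)) ![1,0,1,1] (by decide) (by decide) 0 (by decide))
      · -- 34=(2,1)
        exact False.elim (cert_false T ((skipEmb 2).trans (Function.Embedding.refl _)) (by norm_num) (fun _ => hall _) (((((LB_zero T ((skipEmb 2).trans (Function.Embedding.refl _))).upd 0 2 3 (le_of_eq hx03)).upd 2 0 1 (le_of_eq hx30)).upd 2 3 2 (le_of_eq hx34)).upd 3 2 1 (le_of_eq hx43)) ![2,0,2,1] (by decide) (by decide) 0 (by decide))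
      · -- 34=(1,3)
        exact False.elim (cert_false T ((skipEmb 2).trans (Function.Embedding.refl _)) (by norm_num) (fun _ => hall _) (((((LB_zero T ((skipEmb 2).trans (Function.Embedding.refl _))).upd 0 2 3 (le_of_eq hx03)).upd 2 0 1 (le_of_eq hx30)).upd 2 3 1 (le_of_eq hx34)).upd 3 2 3 (le_of_eq hx43)) ![1,0,1,1] (by decide) (by decide) 0 (by decide))
      · -- 34=(3,1)
        exact False.elim (cert_false T ((skipEmb 2).trans (Function.Embedding.refl _)) (by norm_num) (fun _ => hall _) (((((LB_zero T ((skipEmb 2).trans (Function.Embedding.refl _))).upd 0 2 3 (le_of_eq hx03)).upd 2 0 1 (le_of_eq hx30)).upd 2 3 3 (le_of_eq hx34)).upd 3 2 1 (le_of_eq hx43)) ![1,0,2,1] (by decide) (by decide) 0 (by decide))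
    · -- 24=(1,3)
      exact False.elim (cert_false T ((skipEmb 3).trans (Function.Embedding.refl _)) (by norm_num) (fun _ => hall _) (((((LB_zero T ((skipEmb 3).trans (Function.Embedding.refl _))).upd 1 3 1 (le_of_eq hx14)).upd 2 3 1 (le_of_eq hx24)).upd 3 1 1 (le_of_eq hx41)).upd 3 2 3 (le_of_eq hx42)) ![0,1,1,2] (by decide) (by decide) 1 (by decide))
    · -- 24=(3,1)
      exact False.elim (cert_false T ((skipEmb 3).trans (Function.Embedding.refl _)) (by norm_num) (fun _ => hall _) (((((LB_zero T ((skipEmb 3).trans (Function.Embedding.refl _))).upd 1 3 1 (le_of_eq hx14)).upd 2 3 3 (le_of_eq hx24)).upd 3 1 1 (le_of_eq hx41)).upd 3 2 1 (le_of_eq hx42)) ![0,1,3,2] (by decide) (by decide) 1 (by decide))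
  · -- 14=(1,2)
    rcases d24 with ⟨rfl, rfl⟩ | ⟨rfl, rfl⟩ | ⟨rfl, rfl⟩ | ⟨rfl, rfl⟩ | ⟨rfl, rfl⟩ | ⟨rfl, rfl⟩
    · -- 24=(0,0)
      rcases d34 with ⟨rfl, rfl⟩ | ⟨rfl, rfl⟩ | ⟨rfl, rfl⟩ | ⟨rfl, rfl⟩ | ⟨rfl, rfl⟩ | ⟨rfl, rfl⟩
      · -- 34=(0,0)
        exfalso; omega
      · -- 34=(1,1)
        exact False.elim (cert_false T ((skipEmb 2).trans (Function.Embedding.refl _)) (by norm_num) (fun _ => hall _) (((((((LB_zero T ((skipEmb 2).trans (Function.Embedding.refl _))).upd 0 2 3 (le_of_eq hx03)).upd 1 3 1 (le_of_eq hx14)).upd 2 0 1 (le_of_eq hx30)).upd 2 3 1 (le_of_eq hx34)).upd 3 1 2 (le_of_eq hx41)).upd 3 2 1 (le_of_eq hx43)) ![2,1,2,2] (by decide) (by decide) 0 (by decide))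
      · -- 34=(1,2)
        exact False.elim (cert_false T ((skipEmb 2).trans (Function.Embedding.refl _)) (by norm_num) (fun _ => hall _) (((((LB_zero T ((skipEmb 2).trans (Function.Embedding.refl _))).upd 0 2 3 (le_of_eq hx03)).upd 2 0 1 (le_of_eq hx30)).upd 2 3 1 (le_of_eq hx34)).upd 3 2 2 (le_of_eq hx43)) ![1,0,1,1] (by decide) (by decide) 0 (by decide))
      · -- 34=(2,1)
        exact False.elim (cert_false T ((skipEmb 2).trans (Function.Embedding.refl _)) (by norm_num) (fun _ => hall _) (((((LB_zero T ((skipEmb 2).trans (Function.Embedding.refl _))).upd 1 3 1 (le_of_eq hx14)).upd 2 3 2 (le_of_eq hx34)).upd 3 1 2 (le_of_eq hx41)).upd 3 2 1 (le_of_eq hx43)) ![0,1,2,2] (by decide) (by decide) 1 (by decide))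
      · -- 34=(1,3)
        exact False.elim (cert_false T ((skipEmb 2).trans (Function.Embedding.refl _)) (by norm_num) (fun _ => hall _) (((((LB_zero T ((skipEmb 2).trans (Function.Embedding.refl _))).upd 0 2 3 (le_of_eq hx03)).upd 2 0 1 (le_of_eq hx30)).upd 2 3 1 (le_of_eq hx34)).upd 3 2 3 (le_of_eq hx43)) ![1,0,1,1] (by decide) (by decide) 0 (by decide))
      · -- 34=(3,1)
        exact False.elim (cert_false T ((skipEmb 2).trans (Function.Embedding.refl _)) (by norm_num) (fun _ => hall _) (((((LB_zero T ((skipEmb 2).trans (Function.Embedding.refl _))).upd 1 3 1 (le_of_eq hx14)).upd 2 3 3 (le_of_eq hx34)).upd 3 1 2 (le_of_eq hx41)).upd 3 2 1 (le_of_eq hx43)) ![0,1,2,2] (by decide) (by decide) 1 (by decide))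
    · -- 24=(1,1)
      rcases d34 with ⟨rfl, rfl⟩ | ⟨rfl, rfl⟩ | ⟨rfl, rfl⟩ | ⟨rfl, rfl⟩ | ⟨rfl, rfl⟩ | ⟨rfl, rfl⟩
      · -- 34=(0,0)
        exfalso; omega
      · -- 34=(1,1)
        exact False.elim (cert_false T ((skipEmb 2).trans (Function.Embedding.refl _)) (by norm_num) (fun _ => hall _) (((((((LB_zero T ((skipEmb 2).trans (Function.Embedding.refl _))).upd 0 2 3 (le_of_eq hx03)).upd 1 3 1 (le_of_eq hx14)).upd 2 0 1 (le_of_eq hx30)).upd 2 3 1 (le_of_eq hx34)).upd 3 1 2 (le_of_eq hx41)).upd 3 2 1 (le_of_eq hx43)) ![2,1,2,2] (by decide) (by decide) 0 (by decide))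
      · -- 34=(1,2)
        exact False.elim (cert_false T ((skipEmb 2).trans (Function.Embedding.refl _)) (by norm_num) (fun _ => hall _) (((((LB_zero T ((skipEmb 2).trans (Function.Embedding.refl _))).upd 0 2 3 (le_of_eq hx03)).upd 2 0 1 (le_of_eq hx30)).upd 2 3 1 (le_of_eq hx34)).upd 3 2 2 (le_of_eq hx43)) ![1,0,1,1] (by decide) (by decide) 0 (by decide))
      · -- 34=(2,1)
        exact False.elim (cert_false T ((skipEmb 2).trans (Function.Embedding.refl _)) (by norm_num) (fun _ => hall _) (((((LB_zero T ((skipEmb 2).trans (Function.Embedding.refl _))).upd 1 3 1 (le_of_eq hx14)).upd 2 3 2 (le_of_eq hx34)).upd 3 1 2 (le_of_eq hx41)).upd 3 2 1 (le_of_eq hx43)) ![0,1,2,2] (by decide) (by decide) 1 (by decide))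
      · -- 34=(1,3)
        exact False.elim (cert_false T ((skipEmb 2).trans (Function.Embedding.refl _)) (by norm_num) (fun _ => hall _) (((((LB_zero T ((skipEmb 2).trans (Function.Embedding.refl _))).upd 0 2 3 (le_of_eq hx03)).upd 2 0 1 (le_of_eq hx30)).upd 2 3 1 (le_of_eq hx34)).upd 3 2 3 (le_of_eq hx43)) ![1,0,1,1] (by decide) (by decide) 0 (by decide))
      · -- 34=(3,1)
        exact False.elim (cert_false T ((skipEmb 2).trans (Function.Embedding.refl _)) (by norm_num) (fun _ => hall _) (((((LB_zero T ((skipEmb 2).trans (Function.Embedding.refl _))).upd 1 3 1 (le_of_eq hx14)).upd 2 3 3 (le_of_eq hx34)).upd 3 1 2 (le_of_eq hx41)).upd 3 2 1 (le_of_eq hx43)) ![0,1,2,2] (by decide) (by decide) 1 (by decide))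
    · -- 24=(1,2)
      exact False.elim (cert_false T ((skipEmb 3).trans (Function.Embedding.refl _)) (by norm_num) (fun _ => hall _) (((((LB_zero T ((skipEmb 3).trans (Function.Embedding.refl _))).upd 1 3 1 (le_of_eq hx14)).upd 2 3 1 (le_of_eq hx24)).upd 3 1 2 (le_of_eq hx41)).upd 3 2 2 (le_of_eq hx42)) ![0,1,1,2] (by decide) (by decide) 1 (by decide))
    · -- 24=(2,1)
      exact False.elim (cert_false T ((skipEmb 3).trans (Function.Embedding.refl _)) (by norm_num) (fun _ => hall _) (((((LB_zero T ((skipEmb 3).trans (Function.Embedding.refl _))).upd 1 3 1 (le_of_eq hx14)).upd 2 3 2 (le_of_eq hx24)).upd 3 1 2 (le_of_eq hx41)).upd 3 2 1 (le_of_eq hx42)) ![0,1,2,2] (by decide) (by decide) 1 (by decide))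
    · -- 24=(1,3)
      exact False.elim (cert_false T ((skipEmb 3).trans (Function.Embedding.refl _)) (by norm_num) (fun _ => hall _) (((((LB_zero T ((skipEmb 3).trans (Function.Embedding.refl _))).upd 1 3 1 (le_of_eq hx14)).upd 2 3 1 (le_of_eq hx24)).upd 3 1 2 (le_of_eq hx41)).upd 3 2 3 (le_of_eq hx42)) ![0,1,1,2] (by decide) (by decide) 1 (by decide))
    · -- 24=(3,1)
      exact False.elim (cert_false T ((skipEmb 3).trans (Function.Embedding.refl _)) (by norm_num) (fun _ => hall _) (((((LB_zero T ((skipEmb 3).trans (Function.Embedding.refl _))).upd 1 3 1 (le_of_eq hx14)).upd 2 3 3 (le_of_eq hx24)).upd 3 1 2 (le_of_eq hx41)).upd 3 2 1 (le_of_eq hx42)) ![0,1,2,2] (by decide) (by decide) 1 (by decide))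
  · -- 14=(2,1)
    rcases d24 with ⟨rfl, rfl⟩ | ⟨rfl, rfl⟩ | ⟨rfl, rfl⟩ | ⟨rfl, rfl⟩ | ⟨rfl, rfl⟩ | ⟨rfl, rfl⟩
    · -- 24=(0,0)
      rcases d34 with ⟨rfl, rfl⟩ | ⟨rfl, rfl⟩ | ⟨rfl, rfl⟩ | ⟨rfl, rfl⟩ | ⟨rfl, rfl⟩ | ⟨rfl, rfl⟩
      · -- 34=(0,0)
        exfalso; omega
      · -- 34=(1,1)
        exact False.elim (cert_false T ((skipEmb 2).trans (Function.Embedding.refl _)) (by norm_num) (fun _ => hall _) (((((((LB_zero T ((skipEmb 2).trans (Function.Embedding.refl _))).upd 0 2 3 (le_of_eq hx03)).upd 1 3 2 (le_of_eq hx14)).upd 2 0 1 (le_of_eq hx30)).upd 2 3 1 (le_of_eq hx34)).upd 3 1 1 (le_of_eq hx41)).upd 3 2 1 (le_of_eq hx43)) ![1,1,1,1] (by decide) (by decide) 0 (by decide))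
      · -- 34=(1,2)
        exact False.elim (cert_false T ((skipEmb 2).trans (Function.Embedding.refl _)) (by norm_num) (fun _ => hall _) (((((LB_zero T ((skipEmb 2).trans (Function.Embedding.refl _))).upd 0 2 3 (le_of_eq hx03)).upd 2 0 1 (le_of_eq hx30)).upd 2 3 1 (le_of_eq hx34)).upd 3 2 2 (le_of_eq hx43)) ![1,0,1,1] (by decide) (by decide) 0 (by decide))
      · -- 34=(2,1)
        exact False.elim (cert_false T ((skipEmb 2).trans (Function.Embedding.refl _)) (by norm_num) (fun _ => hall _) (((((LB_zero T ((skipEmb 2).trans (Function.Embedding.refl _))).upd 1 3 2 (le_of_eq hx14)).upd 2 3 2 (le_of_eq hx34)).upd 3 1 1 (le_of_eq hx41)).upd 3 2 1 (le_of_eq hx43)) ![0,1,1,1] (by decide) (by decide) 1 (by decide))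
      · -- 34=(1,3)
        exact False.elim (cert_false T ((skipEmb 2).trans (Function.Embedding.refl _)) (by norm_num) (fun _ => hall _) (((((LB_zero T ((skipEmb 2).trans (Function.Embedding.refl _))).upd 0 2 3 (le_of_eq hx03)).upd 2 0 1 (le_of_eq hx30)).upd 2 3 1 (le_of_eq hx34)).upd 3 2 3 (le_of_eq hx43)) ![1,0,1,1] (by decide) (by decide) 0 (by decide))
      · -- 34=(3,1)
        exact False.elim (cert_false T ((skipEmb 2).trans (Function.Embedding.refl _)) (by norm_num) (fun _ => hall _) (((((LB_zero T ((skipEmb 2).trans (Function.Embedding.refl _))).upd 1 3 2 (le_of_eq hx14)).upd 2 3 3 (le_of_eq hx34)).upd 3 1 1 (le_of_eq hx41)).upd 3 2 1 (le_of_eq hx43)) ![0,1,1,1] (by decide) (by decide) 1 (by decide))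
    · -- 24=(1,1)
      rcases d34 with ⟨rfl, rfl⟩ | ⟨rfl, rfl⟩ | ⟨rfl, rfl⟩ | ⟨rfl, rfl⟩ | ⟨rfl, rfl⟩ | ⟨rfl, rfl⟩
      · -- 34=(0,0)
        exfalso; omega
      · -- 34=(1,1)
        exact False.elim (cert_false T ((skipEmb 2).trans (Function.Embedding.refl _)) (by norm_num) (fun _ => hall _) (((((((LB_zero T ((skipEmb 2).trans (Function.Embedding.refl _))).upd 0 2 3 (le_of_eq hx03)).upd 1 3 2 (le_of_eq hx14)).upd 2 0 1 (le_of_eq hx30)).upd 2 3 1 (le_of_eq hx34)).upd 3 1 1 (le_of_eq hx41)).upd 3 2 1 (le_of_eq hx43)) ![1,1,1,1] (by decide) (by decide) 0 (by decide))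
      · -- 34=(1,2)
        exact False.elim (cert_false T ((skipEmb 2).trans (Function.Embedding.refl _)) (by norm_num) (fun _ => hall _) (((((LB_zero T ((skipEmb 2).trans (Function.Embedding.refl _))).upd 0 2 3 (le_of_eq hx03)).upd 2 0 1 (le_of_eq hx30)).upd 2 3 1 (le_of_eq hx34)).upd 3 2 2 (le_of_eq hx43)) ![1,0,1,1] (by decide) (by decide) 0 (by decide))
      · -- 34=(2,1)
        exact False.elim (cert_false T ((skipEmb 2).trans (Function.Embedding.refl _)) (by norm_num) (fun _ => hall _) (((((LB_zero T ((skipEmb 2).trans (Function.Embedding.refl _))).upd 1 3 2 (le_of_eq hx14)).upd 2 3 2 (le_of_eq hx34)).upd 3 1 1 (le_of_eq hx41)).upd 3 2 1 (le_of_eq hx43)) ![0,1,1,1] (by decide) (by decide) 1 (by decide))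
      · -- 34=(1,3)
        exact False.elim (cert_false T ((skipEmb 2).trans (Function.Embedding.refl _)) (by norm_num) (fun _ => hall _) (((((LB_zero T ((skipEmb 2).trans (Function.Embedding.refl _))).upd 0 2 3 (le_of_eq hx03)).upd 2 0 1 (le_of_eq hx30)).upd 2 3 1 (le_of_eq hx34)).upd 3 2 3 (le_of_eq hx43)) ![1,0,1,1] (by decide) (by decide) 0 (by decide))
      · -- 34=(3,1)
        exact False.elim (cert_false T ((skipEmb 2).trans (Function.Embedding.refl _)) (by norm_num) (fun _ => hall _) (((((LB_zero T ((skipEmb 2).trans (Function.Embedding.refl _))).upd 1 3 2 (le_of_eq hx14)).upd 2 3 3 (le_of_eq hx34)).upd 3 1 1 (le_of_eq hx41)).upd 3 2 1 (le_of_eq hx43)) ![0,1,1,1] (by decide) (by decide) 1 (by decide))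
    · -- 24=(1,2)
      exact False.elim (cert_false T ((skipEmb 3).trans (Function.Embedding.refl _)) (by norm_num) (fun _ => hall _) (((((LB_zero T ((skipEmb 3).trans (Function.Embedding.refl _))).upd 1 3 2 (le_of_eq hx14)).upd 2 3 1 (le_of_eq hx24)).upd 3 1 1 (le_of_eq hx41)).upd 3 2 2 (le_of_eq hx42)) ![0,2,1,2] (by decide) (by decide) 1 (by decide))
    · -- 24=(2,1)
      exact False.elim (cert_false T ((skipEmb 3).trans (Function.Embedding.refl _)) (by norm_num) (fun _ => hall _) (((((LB_zero T ((skipEmb 3).trans (Function.Embedding.refl _))).upd 1 3 2 (le_of_eq hx14)).upd 2 3 2 (le_of_eq hx24)).upd 3 1 1 (le_of_eq hx41)).upd 3 2 1 (le_of_eq hx42)) ![0,1,1,1] (by decide) (by decide) 1 (by decide))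
    · -- 24=(1,3)
      exact False.elim (cert_false T ((skipEmb 3).trans (Function.Embedding.refl _)) (by norm_num) (fun _ => hall _) (((((LB_zero T ((skipEmb 3).trans (Function.Embedding.refl _))).upd 1 3 2 (le_of_eq hx14)).upd 2 3 1 (le_of_eq hx24)).upd 3 1 1 (le_of_eq hx41)).upd 3 2 3 (le_of_eq hx42)) ![0,1,1,2] (by decide) (by decide) 1 (by decide))
    · -- 24=(3,1)
      exact False.elim (cert_false T ((skipEmb 3).trans (Function.Embedding.refl _)) (by norm_num) (fun _ => hall _) (((((LB_zero T ((skipEmb 3).trans (Function.Embedding.refl _))).upd 1 3 2 (le_of_eq hx14)).upd 2 3 3 (le_of_eq hx24)).upd 3 1 1 (le_of_eq hx41)).upd 3 2 1 (le_of_eq hx42)) ![0,1,1,1] (by decide) (by decide) 1 (by decide))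
  · -- 14=(1,3)
    rcases d24 with ⟨rfl, rfl⟩ | ⟨rfl, rfl⟩ | ⟨rfl, rfl⟩ | ⟨rfl, rfl⟩ | ⟨rfl, rfl⟩ | ⟨rfl, rfl⟩
    · -- 24=(0,0)
      rcases d34 with ⟨rfl, rfl⟩ | ⟨rfl, rfl⟩ | ⟨rfl, rfl⟩ | ⟨rfl, rfl⟩ | ⟨rfl, rfl⟩ | ⟨rfl, rfl⟩
      · -- 34=(0,0)
        exfalso; omega
      · -- 34=(1,1)
        exact False.elim (cert_false T ((skipEmb 2).trans (Function.Embedding.refl _)) (by norm_num) (fun _ => hall _) (((((LB_zero T ((skipEmb 2).trans (Function.Embedding.refl _))).upd 1 3 1 (le_of_eq hx14)).upd 2 3 1 (le_of_eq hx34)).upd 3 1 3 (le_of_eq hx41)).upd 3 2 1 (le_of_eq hx43)) ![0,1,1,2] (by decide) (by decide) 1 (by decide))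
      · -- 34=(1,2)
        exact False.elim (cert_false T ((skipEmb 2).trans (Function.Embedding.refl _)) (by norm_num) (fun _ => hall _) (((((LB_zero T ((skipEmb 2).trans (Function.Embedding.refl _))).upd 0 2 3 (le_of_eq hx03)).upd 2 0 1 (le_of_eq hx30)).upd 2 3 1 (le_of_eq hx34)).upd 3 2 2 (le_of_eq hx43)) ![1,0,1,1] (by decide) (by decide) 0 (by decide))
      · -- 34=(2,1)
        exact False.elim (cert_false T ((skipEmb 2).trans (Function.Embedding.refl _)) (by norm_num) (fun _ => hall _) (((((LB_zero T ((skipEmb 2).trans (Function.Embedding.refl _))).upd 0 2 3 (le_of_eq hx03)).upd 2 0 1 (le_of_eq hx30)).upd 2 3 2 (le_of_eq hx34)).upd 3 2 1 (le_of_eq hx43)) ![2,0,2,1] (by decide) (by decide) 0 (by decide))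
      · -- 34=(1,3)
        exact False.elim (cert_false T ((skipEmb 2).trans (Function.Embedding.refl _)) (by norm_num) (fun _ => hall _) (((((LB_zero T ((skipEmb 2).trans (Function.Embedding.refl _))).upd 0 2 3 (le_of_eq hx03)).upd 2 0 1 (le_of_eq hx30)).upd 2 3 1 (le_of_eq hx34)).upd 3 2 3 (le_of_eq hx43)) ![1,0,1,1] (by decide) (by decide) 0 (by decide))
      · -- 34=(3,1)
        exact False.elim (cert_false T ((skipEmb 2).trans (Function.Embedding.refl _)) (by norm_num) (fun _ => hall _) (((((LB_zero T ((skipEmb 2).trans (Function.Embedding.refl _))).upd 1 3 1 (le_of_eq hx14)).upd 2 3 3 (le_of_eq hx34)).upd 3 1 3 (le_of_eq hx41)).upd 3 2 1 (le_of_eq hx43)) ![0,1,1,2] (by decide) (by decide) 1 (by decide))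
    · -- 24=(1,1)
      exact False.elim (cert_false T ((skipEmb 3).trans (Function.Embedding.refl _)) (by norm_num) (fun _ => hall _) (((((LB_zero T ((skipEmb 3).trans (Function.Embedding.refl _))).upd 1 3 1 (le_of_eq hx14)).upd 2 3 1 (le_of_eq hx24)).upd 3 1 3 (le_of_eq hx41)).upd 3 2 1 (le_of_eq hx42)) ![0,1,1,2] (by decide) (by decide) 1 (by decide))
    · -- 24=(1,2)
      exact False.elim (cert_false T ((skipEmb 3).trans (Function.Embedding.refl _)) (by norm_num) (fun _ => hall _) (((((LB_zero T ((skipEmb 3).trans (Function.Embedding.refl _))).upd 1 3 1 (le_of_eq hx14)).upd 2 3 1 (le_of_eq hx24)).upd 3 1 3 (le_of_eq hx41)).upd 3 2 2 (le_of_eq hx42)) ![0,1,1,2] (by decide) (by decide) 1 (by decide))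
    · -- 24=(2,1)
      exact False.elim (cert_false T ((skipEmb 3).trans (Function.Embedding.refl _)) (by norm_num) (fun _ => hall _) (((((LB_zero T ((skipEmb 3).trans (Function.Embedding.refl _))).upd 1 3 1 (le_of_eq hx14)).upd 2 3 2 (le_of_eq hx24)).upd 3 1 3 (le_of_eq hx41)).upd 3 2 1 (le_of_eq hx42)) ![0,1,1,2] (by decide) (by decide) 1 (by decide))
    · -- 24=(1,3)
      exact False.elim (cert_false T ((skipEmb 3).trans (Function.Embedding.refl _)) (by norm_num) (fun _ => hall _) (((((LB_zero T ((skipEmb 3).trans (Function.Embedding.refl _))).upd 1 3 1 (le_of_eq hx14)).upd 2 3 1 (le_of_eq hx24)).upd 3 1 3 (le_of_eq hx41)).upd 3 2 3 (le_of_eq hx42)) ![0,1,1,2] (by decide) (by decide) 1 (by decide))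
    · -- 24=(3,1)
      exact False.elim (cert_false T ((skipEmb 3).trans (Function.Embedding.refl _)) (by norm_num) (fun _ => hall _) (((((LB_zero T ((skipEmb 3).trans (Function.Embedding.refl _))).upd 1 3 1 (le_of_eq hx14)).upd 2 3 3 (le_of_eq hx24)).upd 3 1 3 (le_of_eq hx41)).upd 3 2 1 (le_of_eq hx42)) ![0,1,1,2] (by decide) (by decide) 1 (by decide))
  · -- 14=(3,1)
    rcases d24 with ⟨rfl, rfl⟩ | ⟨rfl, rfl⟩ | ⟨rfl, rfl⟩ | ⟨rfl, rfl⟩ | ⟨rfl, rfl⟩ | ⟨rfl, rfl⟩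
    · -- 24=(0,0)
      rcases d34 with ⟨rfl, rfl⟩ | ⟨rfl, rfl⟩ | ⟨rfl, rfl⟩ | ⟨rfl, rfl⟩ | ⟨rfl, rfl⟩ | ⟨rfl, rfl⟩
      · -- 34=(0,0)
        exfalso; omega
      · -- 34=(1,1)
        exact False.elim (cert_false T ((skipEmb 2).trans (Function.Embedding.refl _)) (by norm_num) (fun _ => hall _) (((((((LB_zero T ((skipEmb 2).trans (Function.Embedding.refl _))).upd 0 2 3 (le_of_eq hx03)).upd 1 3 3 (le_of_eq hx14)).upd 2 0 1 (le_of_eq hx30)).upd 2 3 1 (le_of_eq hx34)).upd 3 1 1 (le_of_eq hx41)).upd 3 2 1 (le_of_eq hx43)) ![1,1,1,1] (by decide) (by decide) 0 (by decide))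
      · -- 34=(1,2)
        exact False.elim (cert_false T ((skipEmb 2).trans (Function.Embedding.refl _)) (by norm_num) (fun _ => hall _) (((((LB_zero T ((skipEmb 2).trans (Function.Embedding.refl _))).upd 0 2 3 (le_of_eq hx03)).upd 2 0 1 (le_of_eq hx30)).upd 2 3 1 (le_of_eq hx34)).upd 3 2 2 (le_of_eq hx43)) ![1,0,1,1] (by decide) (by decide) 0 (by decide))
      · -- 34=(2,1)
        exact False.elim (cert_false T ((skipEmb 2).trans (Function.Embedding.refl _)) (by norm_num) (fun _ => hall _) (((((LB_zero T ((skipEmb 2).trans (Function.Embedding.refl _))).upd 1 3 3 (le_of_eq hx14)).upd 2 3 2 (le_of_eq hx34)).upd 3 1 1 (le_of_eq hx41)).upd 3 2 1 (le_of_eq hx43)) ![0,1,1,1] (by decide) (by decide) 1 (by decide))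
      · -- 34=(1,3)
        exact False.elim (cert_false T ((skipEmb 2).trans (Function.Embedding.refl _)) (by norm_num) (fun _ => hall _) (((((LB_zero T ((skipEmb 2).trans (Function.Embedding.refl _))).upd 0 2 3 (le_of_eq hx03)).upd 2 0 1 (le_of_eq hx30)).upd 2 3 1 (le_of_eq hx34)).upd 3 2 3 (le_of_eq hx43)) ![1,0,1,1] (by decide) (by decide) 0 (by decide))
      · -- 34=(3,1)
        exact False.elim (cert_false T ((skipEmb 2).trans (Function.Embedding.refl _)) (by norm_num) (fun _ => hall _) (((((LB_zero T ((skipEmb 2).trans (Function.Embedding.refl _))).upd 1 3 3 (le_of_eq hx14)).upd 2 3 3 (le_of_eq hx34)).upd 3 1 1 (le_of_eq hx41)).upd 3 2 1 (le_of_eq hx43)) ![0,1,1,1] (by decide) (by decide) 1 (by decide))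
    · -- 24=(1,1)
      exact False.elim (cert_false T ((skipEmb 3).trans (Function.Embedding.refl _)) (by norm_num) (fun _ => hall _) (((((LB_zero T ((skipEmb 3).trans (Function.Embedding.refl _))).upd 1 3 3 (le_of_eq hx14)).upd 2 3 1 (le_of_eq hx24)).upd 3 1 1 (le_of_eq hx41)).upd 3 2 1 (le_of_eq hx42)) ![0,3,1,2] (by decide) (by decide) 1 (by decide))
    · -- 24=(1,2)
      exact False.elim (cert_false T ((skipEmb 3).trans (Function.Embedding.refl _)) (by norm_num) (fun _ => hall _) (((((LB_zero T ((skipEmb 3).trans (Function.Embedding.refl _))).upd 1 3 3 (le_of_eq hx14)).upd 2 3 1 (le_of_eq hx24)).upd 3 1 1 (le_of_eq hx41)).upd 3 2 2 (le_of_eq hx42)) ![0,2,1,2] (by decide) (by decide) 1 (by decide))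
    · -- 24=(2,1)
      exact False.elim (cert_false T ((skipEmb 3).trans (Function.Embedding.refl _)) (by norm_num) (fun _ => hall _) (((((LB_zero T ((skipEmb 3).trans (Function.Embedding.refl _))).upd 1 3 3 (le_of_eq hx14)).upd 2 3 2 (le_of_eq hx24)).upd 3 1 1 (le_of_eq hx41)).upd 3 2 1 (le_of_eq hx42)) ![0,1,1,1] (by decide) (by decide) 1 (by decide))
    · -- 24=(1,3)
      exact False.elim (cert_false T ((skipEmb 3).trans (Function.Embedding.refl _)) (by norm_num) (fun _ => hall _) (((((LB_zero T ((skipEmb 3).trans (Function.Embedding.refl _))).upd 1 3 3 (le_of_eq hx14)).upd 2 3 1 (le_of_eq hx24)).upd 3 1 1 (le_of_eq hx41)).upd 3 2 3 (le_of_eq hx42)) ![0,1,1,2] (by decide) (by decide) 1 (by decide))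
    · -- 24=(3,1)
      exact False.elim (cert_false T ((skipEmb 3).trans (Function.Embedding.refl _)) (by norm_num) (fun _ => hall _) (((((LB_zero T ((skipEmb 3).trans (Function.Embedding.refl _))).upd 1 3 3 (le_of_eq hx14)).upd 2 3 3 (le_of_eq hx24)).upd 3 1 1 (le_of_eq hx41)).upd 3 2 1 (le_of_eq hx42)) ![0,1,1,1] (by decide) (by decide) 1 (by decide))

theorem case88 (T : NumericalType 5) (hall : ∀ i, T.IsMinusTwo i) (d : SData T)
    (h01 : N T (Function.Embedding.refl _) 0 1 = 0) (h10 : N T (Function.Embedding.refl _) 1 0 = 0)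
    (h02 : N T (Function.Embedding.refl _) 0 2 = 0) (h20 : N T (Function.Embedding.refl _) 2 0 = 0)
    (h12 : N T (Function.Embedding.refl _) 1 2 = 0) (h21 : N T (Function.Embedding.refl _) 2 1 = 0)
    (h03 : N T (Function.Embedding.refl _) 0 3 = 3) (h30 : N T (Function.Embedding.refl _) 3 0 = 1)
    (h13 : N T (Function.Embedding.refl _) 1 3 = 0) (h31 : N T (Function.Embedding.refl _) 3 1 = 0)
    (h23 : N T (Function.Embedding.refl _) 2 3 = 0) (h32 : N T (Function.Embedding.refl _) 3 2 = 0) :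
    Goal T := by
  unfold Goal
  have hd := d
  obtain ⟨x01, x02, x03, x04, x10, x12, x13, x14, x20, x21, x23, x24, x30, x31, x32, x34, x40, x41, x42, x43, hx01, hx02, hx03, hx04, hx10, hx12, hx13, hx14, hx20, hx21, hx23, hx24, hx30, hx31, hx32, hx34, hx40, hx41, hx42, hx43, hw0, hm0, hw1, hm1, hw2, hm2, hw3, hm3, hw4, hm4, a00, a01, a02, a03, a04, a11, a10, a12, a13, a14, a22, a20, a21, a23, a24, a33, a30, a31, a32, a34, a44, a40, a41, a42, a43, wN01, wN02, wN12, wN03, wN13, wN23, wN04, wN14, wN24, wN34, e0, e1, e2, e3, e4, d01, d02, d12, d03, d13, d23, d04, d14, d24, d34⟩ := d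
  obtain rfl : x01 = 0 := hx01.trans h01
  obtain rfl : x10 = 0 := hx10.trans h10
  obtain rfl : x02 = 0 := hx02.trans h02
  obtain rfl : x20 = 0 := hx20.trans h20
  obtain rfl : x12 = 0 := hx12.trans h12
  obtain rfl : x21 = 0 := hx21.trans h21
  obtain rfl : x03 = 3 := hx03.trans h03
  obtain rfl : x30 = 1 := hx30.trans h30
  obtain rfl : x13 = 0 := hx13.trans h13
  obtain rfl : x31 = 0 := hx31.trans h31
  obtain rfl : x23 = 0 := hx23.trans h23
  obtain rfl : x32 = 0 := hx32.trans h32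
  rcases d04 with ⟨rfl, rfl⟩ | ⟨rfl, rfl⟩ | ⟨rfl, rfl⟩ | ⟨rfl, rfl⟩ | ⟨rfl, rfl⟩ | ⟨rfl, rfl⟩
  · -- 04=(0,0)
    exact case89 T hall hd hx01.symm hx10.symm hx02.symm hx20.symm hx12.symm hx21.symm hx03.symm hx30.symm hx13.symm hx31.symm hx23.symm hx32.symm hx04.symm hx40.symm
  · -- 04=(1,1)
    exact False.elim (cert_false T ((skipEmb 2).trans (Function.Embedding.refl _)) (by norm_num) (fun _ => hall _) (((((LB_zero T ((skipEmb 2).trans (Function.Embedding.refl _))).upd 0 2 3 (le_of_eq hx03)).upd 0 3 1 (le_of_eq hx04)).upd 2 0 1 (le_of_eq hx30)).upd 3 0 1 (le_of_eq hx40)) ![2,0,1,1] (by decide) (by decide) 0 (by decide))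
  · -- 04=(1,2)
    exact False.elim (cert_false T ((skipEmb 2).trans (Function.Embedding.refl _)) (by norm_num) (fun _ => hall _) (((((LB_zero T ((skipEmb 2).trans (Function.Embedding.refl _))).upd 0 2 3 (le_of_eq hx03)).upd 0 3 1 (le_of_eq hx04)).upd 2 0 1 (le_of_eq hx30)).upd 3 0 2 (le_of_eq hx40)) ![2,0,1,1] (by decide) (by decide) 0 (by decide))
  · -- 04=(2,1)
    exact False.elim (cert_false T ((skipEmb 2).trans (Function.Embedding.refl _)) (by norm_num) (fun _ => hall _) (((((LB_zero T ((skipEmb 2).trans (Function.Embedding.refl _))).upd 0 2 3 (le_of_eq hx03)).upd 0 3 2 (le_of_eq hx04)).upd 2 0 1 (le_of_eq hx30)).upd 3 0 1 (le_of_eq hx40)) ![2,0,1,1] (by decide) (by decide) 0 (by decide))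
  · -- 04=(1,3)
    exact False.elim (cert_false T ((skipEmb 2).trans (Function.Embedding.refl _)) (by norm_num) (fun _ => hall _) (((((LB_zero T ((skipEmb 2).trans (Function.Embedding.refl _))).upd 0 2 3 (le_of_eq hx03)).upd 0 3 1 (le_of_eq hx04)).upd 2 0 1 (le_of_eq hx30)).upd 3 0 3 (le_of_eq hx40)) ![2,0,1,1] (by decide) (by decide) 0 (by decide))
  · -- 04=(3,1)
    exact False.elim (cert_false T ((skipEmb 2).trans (Function.Embedding.refl _)) (by norm_num) (fun _ => hall _) (((((LB_zero T ((skipEmb 2).trans (Function.Embedding.refl _))).upd 0 2 3 (le_of_eq hx03)).upd 0 3 3 (le_of_eq hx04)).upd 2 0 1 (le_of_eq hx30)).upd 3 0 1 (le_of_eq hx40)) ![2,0,1,1] (by decide) (by decide) 0 (by decide))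

theorem case87 (T : NumericalType 5) (hall : ∀ i, T.IsMinusTwo i) (d : SData T)
    (h01 : N T (Function.Embedding.refl _) 0 1 = 0) (h10 : N T (Function.Embedding.refl _) 1 0 = 0)
    (h02 : N T (Function.Embedding.refl _) 0 2 = 0) (h20 : N T (Function.Embedding.refl _) 2 0 = 0)
    (h12 : N T (Function.Embedding.refl _) 1 2 = 0) (h21 : N T (Function.Embedding.refl _) 2 1 = 0)
    (h03 : N T (Function.Embedding.refl _) 0 3 = 3) (h30 : N T (Function.Embedding.refl _) 3 0 = 1)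
    (h13 : N T (Function.Embedding.refl _) 1 3 = 0) (h31 : N T (Function.Embedding.refl _) 3 1 = 0) :
    Goal T := by
  unfold Goal
  have hd := d
  obtain ⟨x01, x02, x03, x04, x10, x12, x13, x14, x20, x21, x23, x24, x30, x31, x32, x34, x40, x41, x42, x43, hx01, hx02, hx03, hx04, hx10, hx12, hx13, hx14, hx20, hx21, hx23, hx24, hx30, hx31, hx32, hx34, hx40, hx41, hx42, hx43, hw0, hm0, hw1, hm1, hw2, hm2, hw3, hm3, hw4, hm4, a00, a01, a02, a03, a04, a11, a10, a12, a13, a14, a22, a20, a21, a23, a24, a33, a30, a31, a32, a34, a44, a40, a41, a42, a43, wN01, wN02, wN12, wN03, wN13, wN23, wN04, wN14, wN24, wN34, e0, e1, e2, e3, e4, d01, d02, d12, d03, d13, d23, d04, d14, d24, d34⟩ := d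
  obtain rfl : x01 = 0 := hx01.trans h01
  obtain rfl : x10 = 0 := hx10.trans h10
  obtain rfl : x02 = 0 := hx02.trans h02
  obtain rfl : x20 = 0 := hx20.trans h20
  obtain rfl : x12 = 0 := hx12.trans h12
  obtain rfl : x21 = 0 := hx21.trans h21
  obtain rfl : x03 = 3 := hx03.trans h03
  obtain rfl : x30 = 1 := hx30.trans h30
  obtain rfl : x13 = 0 := hx13.trans h13
  obtain rfl : x31 = 0 := hx31.trans h31
  rcases d23 with ⟨rfl, rfl⟩ | ⟨rfl, rfl⟩ | ⟨rfl, rfl⟩ | ⟨rfl, rfl⟩ | ⟨rfl, rfl⟩ | ⟨rfl, rfl⟩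
  · -- 23=(0,0)
    exact case88 T hall hd hx01.symm hx10.symm hx02.symm hx20.symm hx12.symm hx21.symm hx03.symm hx30.symm hx13.symm hx31.symm hx23.symm hx32.symm
  · -- 23=(1,1)
    exact False.elim (cert_false T ((skipEmb 4).trans (Function.Embedding.refl _)) (by norm_num) (fun _ => hall _) (((((LB_zero T ((skipEmb 4).trans (Function.Embedding.refl _))).upd 0 3 3 (le_of_eq hx03)).upd 2 3 1 (le_of_eq hx23)).upd 3 0 1 (le_of_eq hx30)).upd 3 2 1 (le_of_eq hx32)) ![3,0,1,2] (by decide) (by decide) 0 (by decide))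
  · -- 23=(1,2)
    exact False.elim (cert_false T ((skipEmb 4).trans (Function.Embedding.refl _)) (by norm_num) (fun _ => hall _) (((((LB_zero T ((skipEmb 4).trans (Function.Embedding.refl _))).upd 0 3 3 (le_of_eq hx03)).upd 2 3 1 (le_of_eq hx23)).upd 3 0 1 (le_of_eq hx30)).upd 3 2 2 (le_of_eq hx32)) ![2,0,1,2] (by decide) (by decide) 0 (by decide))
  · -- 23=(2,1)
    exact False.elim (cert_false T ((skipEmb 4).trans (Function.Embedding.refl _)) (by norm_num) (fun _ => hall _) (((((LB_zero T ((skipEmb 4).trans (Function.Embedding.refl _))).upd 0 3 3 (le_of_eq hx03)).upd 2 3 2 (le_of_eq hx23)).upd 3 0 1 (le_of_eq hx30)).upd 3 2 1 (le_of_eq hx32)) ![1,0,1,1] (by decide) (by decide) 0 (by decide))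
  · -- 23=(1,3)
    exact False.elim (cert_false T ((skipEmb 4).trans (Function.Embedding.refl _)) (by norm_num) (fun _ => hall _) (((((LB_zero T ((skipEmb 4).trans (Function.Embedding.refl _))).upd 0 3 3 (le_of_eq hx03)).upd 2 3 1 (le_of_eq hx23)).upd 3 0 1 (le_of_eq hx30)).upd 3 2 3 (le_of_eq hx32)) ![1,0,1,2] (by decide) (by decide) 0 (by decide))
  · -- 23=(3,1)
    exact False.elim (cert_false T ((skipEmb 4).trans (Function.Embedding.refl _)) (by norm_num) (fun _ => hall _) (((((LB_zero T ((skipEmb 4).trans (Function.Embedding.refl _))).upd 0 3 3 (le_of_eq hx03)).upd 2 3 3 (le_of_eq hx23)).upd 3 0 1 (le_of_eq hx30)).upd 3 2 1 (le_of_eq hx32)) ![1,0,1,1] (by decide) (by decide) 0 (by decide))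

theorem case131 (T : NumericalType 5) (hall : ∀ i, T.IsMinusTwo i) (d : SData T)
    (h01 : N T (Function.Embedding.refl _) 0 1 = 0) (h10 : N T (Function.Embedding.refl _) 1 0 = 0)
    (h02 : N T (Function.Embedding.refl _) 0 2 = 0) (h20 : N T (Function.Embedding.refl _) 2 0 = 0)
    (h12 : N T (Function.Embedding.refl _) 1 2 = 1) (h21 : N T (Function.Embedding.refl _) 2 1 = 1)
    (h03 : N T (Function.Embedding.refl _) 0 3 = 2) (h30 : N T (Function.Embedding.refl _) 3 0 = 1)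
    (h13 : N T (Function.Embedding.refl _) 1 3 = 0) (h31 : N T (Function.Embedding.refl _) 3 1 = 0)
    (h23 : N T (Function.Embedding.refl _) 2 3 = 0) (h32 : N T (Function.Embedding.refl _) 3 2 = 0)
    (h04 : N T (Function.Embedding.refl _) 0 4 = 0) (h40 : N T (Function.Embedding.refl _) 4 0 = 0) :
    Goal T := by
  unfold Goal
  have hd := d
  obtain ⟨x01, x02, x03, x04, x10, x12, x13, x14, x20, x21, x23, x24, x30, x31, x32, x34, x40, x41, x42, x43, hx01, hx02, hx03, hx04, hx10, hx12, hx13, hx14, hx20, hx21, hx23, hx24, hx30, hx31, hx32, hx34, hx40, hx41, hx42, hx43, hw0, hm0, hw1, hm1, hw2, hm2, hw3, hm3, hw4, hm4, a00, a01, a02, a03, a04, a11, a10, a12, a13, a14, a22, a20, a21, a23, a24, a33, a30, a31, a32, a34, a44, a40, a41, a42, a43, wN01, wN02, wN12, wN03, wN13, wN23, wN04, wN14, wN24, wN34, e0, e1, e2, e3, e4, d01, d02, d12, d03, d13, d23, d04, d14, d24, d34⟩ := d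
  obtain rfl : x01 = 0 := hx01.trans h01
  obtain rfl : x10 = 0 := hx10.trans h10
  obtain rfl : x02 = 0 := hx02.trans h02
  obtain rfl : x20 = 0 := hx20.trans h20
  obtain rfl : x12 = 1 := hx12.trans h12
  obtain rfl : x21 = 1 := hx21.trans h21
  obtain rfl : x03 = 2 := hx03.trans h03
  obtain rfl : x30 = 1 := hx30.trans h30
  obtain rfl : x13 = 0 := hx13.trans h13
  obtain rfl : x31 = 0 := hx31.trans h31
  obtain rfl : x23 = 0 := hx23.trans h23
  obtain rfl : x32 = 0 := hx32.trans h32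
  obtain rfl : x04 = 0 := hx04.trans h04
  obtain rfl : x40 = 0 := hx40.trans h40
  rcases d14 with ⟨rfl, rfl⟩ | ⟨rfl, rfl⟩ | ⟨rfl, rfl⟩ | ⟨rfl, rfl⟩ | ⟨rfl, rfl⟩ | ⟨rfl, rfl⟩
  · -- 14=(0,0)
    rcases d24 with ⟨rfl, rfl⟩ | ⟨rfl, rfl⟩ | ⟨rfl, rfl⟩ | ⟨rfl, rfl⟩ | ⟨rfl, rfl⟩ | ⟨rfl, rfl⟩
    · -- 24=(0,0)
      rcases d34 with ⟨rfl, rfl⟩ | ⟨rfl, rfl⟩ | ⟨rfl, rfl⟩ | ⟨rfl, rfl⟩ | ⟨rfl, rfl⟩ | ⟨rfl, rfl⟩
      · -- 34=(0,0)
        exfalso; omega
      · -- 34=(1,1)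
        exfalso; omega
      · -- 34=(1,2)
        exact False.elim (cert_false T ((skipEmb 2).trans (Function.Embedding.refl _)) (by norm_num) (fun _ => hall _) (((((LB_zero T ((skipEmb 2).trans (Function.Embedding.refl _))).upd 0 2 2 (le_of_eq hx03)).upd 2 0 1 (le_of_eq hx30)).upd 2 3 1 (le_of_eq hx34)).upd 3 2 2 (le_of_eq hx43)) ![1,0,1,1] (by decide) (by decide) 0 (by decide))
      · -- 34=(2,1)
        exact False.elim (cert_false T ((skipEmb 2).trans (Function.Embedding.refl _)) (by norm_num) (fun _ => hall _) (((((LB_zero T ((skipEmb 2).trans (Function.Embedding.refl _))).upd 0 2 2 (le_of_eq hx03)).upd 2 0 1 (le_of_eq hx30)).upd 2 3 2 (le_of_eq hx34)).upd 3 2 1 (le_of_eq hx43)) ![2,0,2,1] (by decide) (by decide) 0 (by decide))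
      · -- 34=(1,3)
        exact False.elim (cert_false T ((skipEmb 2).trans (Function.Embedding.refl _)) (by norm_num) (fun _ => hall _) (((((LB_zero T ((skipEmb 2).trans (Function.Embedding.refl _))).upd 0 2 2 (le_of_eq hx03)).upd 2 0 1 (le_of_eq hx30)).upd 2 3 1 (le_of_eq hx34)).upd 3 2 3 (le_of_eq hx43)) ![1,0,1,1] (by decide) (by decide) 0 (by decide))
      · -- 34=(3,1)
        exact False.elim (cert_false T ((skipEmb 2).trans (Function.Embedding.refl _)) (by norm_num) (fun _ => hall _) (((((LB_zero T ((skipEmb 2).trans (Function.Embedding.refl _))).upd 0 2 2 (le_of_eq hx03)).upd 2 0 1 (le_of_eq hx30)).upd 2 3 3 (le_of_eq hx34)).upd 3 2 1 (le_of_eq hx43)) ![1,0,2,1] (by decide) (by decide) 0 (by decide))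
    · -- 24=(1,1)
      rcases d34 with ⟨rfl, rfl⟩ | ⟨rfl, rfl⟩ | ⟨rfl, rfl⟩ | ⟨rfl, rfl⟩ | ⟨rfl, rfl⟩ | ⟨rfl, rfl⟩
      · -- 34=(0,0)
        exfalso; omega
      · -- 34=(1,1)
        exfalso; omega
      · -- 34=(1,2)
        exact False.elim (cert_false T ((skipEmb 2).trans (Function.Embedding.refl _)) (by norm_num) (fun _ => hall _) (((((LB_zero T ((skipEmb 2).trans (Function.Embedding.refl _))).upd 0 2 2 (le_of_eq hx03)).upd 2 0 1 (le_of_eq hx30)).upd 2 3 1 (le_of_eq hx34)).upd 3 2 2 (le_of_eq hx43)) ![1,0,1,1] (by decide) (by decide) 0 (by decide))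
      · -- 34=(2,1)
        exact False.elim (cert_false T ((skipEmb 2).trans (Function.Embedding.refl _)) (by norm_num) (fun _ => hall _) (((((LB_zero T ((skipEmb 2).trans (Function.Embedding.refl _))).upd 0 2 2 (le_of_eq hx03)).upd 2 0 1 (le_of_eq hx30)).upd 2 3 2 (le_of_eq hx34)).upd 3 2 1 (le_of_eq hx43)) ![2,0,2,1] (by decide) (by decide) 0 (by decide))
      · -- 34=(1,3)
        exact False.elim (cert_false T ((skipEmb 2).trans (Function.Embedding.refl _)) (by norm_num) (fun _ => hall _) (((((LB_zero T ((skipEmb 2).trans (Function.Embedding.refl _))).upd 0 2 2 (le_of_eq hx03)).upd 2 0 1 (le_of_eq hx30)).upd 2 3 1 (le_of_eq hx34)).upd 3 2 3 (le_of_eq hx43)) ![1,0,1,1] (by decide) (by decide) 0 (by decide))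
      · -- 34=(3,1)
        exact False.elim (cert_false T ((skipEmb 2).trans (Function.Embedding.refl _)) (by norm_num) (fun _ => hall _) (((((LB_zero T ((skipEmb 2).trans (Function.Embedding.refl _))).upd 0 2 2 (le_of_eq hx03)).upd 2 0 1 (le_of_eq hx30)).upd 2 3 3 (le_of_eq hx34)).upd 3 2 1 (le_of_eq hx43)) ![1,0,2,1] (by decide) (by decide) 0 (by decide))
    · -- 24=(1,2)
      rcases d34 with ⟨rfl, rfl⟩ | ⟨rfl, rfl⟩ | ⟨rfl, rfl⟩ | ⟨rfl, rfl⟩ | ⟨rfl, rfl⟩ | ⟨rfl, rfl⟩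
      · -- 34=(0,0)
        exfalso; omega
      · -- 34=(1,1)
        exact False.elim (cert_false T ((skipEmb 1).trans (Function.Embedding.refl _)) (by norm_num) (fun _ => hall _) (((((((LB_zero T ((skipEmb 1).trans (Function.Embedding.refl _))).upd 0 2 2 (le_of_eq hx03)).upd 1 3 1 (le_of_eq hx24)).upd 2 0 1 (le_of_eq hx30)).upd 2 3 1 (le_of_eq hx34)).upd 3 1 2 (le_of_eq hx42)).upd 3 2 1 (le_of_eq hx43)) ![2,1,2,2] (by decide) (by decide) 0 (by decide))
      · -- 34=(1,2)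
        exact False.elim (cert_false T ((skipEmb 2).trans (Function.Embedding.refl _)) (by norm_num) (fun _ => hall _) (((((LB_zero T ((skipEmb 2).trans (Function.Embedding.refl _))).upd 0 2 2 (le_of_eq hx03)).upd 2 0 1 (le_of_eq hx30)).upd 2 3 1 (le_of_eq hx34)).upd 3 2 2 (le_of_eq hx43)) ![1,0,1,1] (by decide) (by decide) 0 (by decide))
      · -- 34=(2,1)
        exact False.elim (cert_false T ((skipEmb 2).trans (Function.Embedding.refl _)) (by norm_num) (fun _ => hall _) (((((LB_zero T ((skipEmb 2).trans (Function.Embedding.refl _))).upd 0 2 2 (le_of_eq hx03)).upd 2 0 1 (le_of_eq hx30)).upd 2 3 2 (le_of_eq hx34)).upd 3 2 1 (le_of_eq hx43)) ![2,0,2,1] (by decide) (by decide) 0 (by decide))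
      · -- 34=(1,3)
        exact False.elim (cert_false T ((skipEmb 2).trans (Function.Embedding.refl _)) (by norm_num) (fun _ => hall _) (((((LB_zero T ((skipEmb 2).trans (Function.Embedding.refl _))).upd 0 2 2 (le_of_eq hx03)).upd 2 0 1 (le_of_eq hx30)).upd 2 3 1 (le_of_eq hx34)).upd 3 2 3 (le_of_eq hx43)) ![1,0,1,1] (by decide) (by decide) 0 (by decide))
      · -- 34=(3,1)
        exact False.elim (cert_false T ((skipEmb 2).trans (Function.Embedding.refl _)) (by norm_num) (fun _ => hall _) (((((LB_zero T ((skipEmb 2).trans (Function.Embedding.refl _))).upd 0 2 2 (le_of_eq hx03)).upd 2 0 1 (le_of_eq hx30)).upd 2 3 3 (le_of_eq hx34)).upd 3 2 1 (le_of_eq hx43)) ![1,0,2,1] (by decide) (by decide) 0 (by decide))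
    · -- 24=(2,1)
      rcases d34 with ⟨rfl, rfl⟩ | ⟨rfl, rfl⟩ | ⟨rfl, rfl⟩ | ⟨rfl, rfl⟩ | ⟨rfl, rfl⟩ | ⟨rfl, rfl⟩
      · -- 34=(0,0)
        exfalso; omega
      · -- 34=(1,1)
        exact False.elim (cert_false T ((skipEmb 1).trans (Function.Embedding.refl _)) (by norm_num) (fun _ => hall _) (((((((LB_zero T ((skipEmb 1).trans (Function.Embedding.refl _))).upd 0 2 2 (le_of_eq hx03)).upd 1 3 2 (le_of_eq hx24)).upd 2 0 1 (le_of_eq hx30)).upd 2 3 1 (le_of_eq hx34)).upd 3 1 1 (le_of_eq hx42)).upd 3 2 1 (le_of_eq hx43)) ![1,1,1,1] (by decide) (by decide) 0 (by decide))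
      · -- 34=(1,2)
        exact False.elim (cert_false T ((skipEmb 2).trans (Function.Embedding.refl _)) (by norm_num) (fun _ => hall _) (((((LB_zero T ((skipEmb 2).trans (Function.Embedding.refl _))).upd 0 2 2 (le_of_eq hx03)).upd 2 0 1 (le_of_eq hx30)).upd 2 3 1 (le_of_eq hx34)).upd 3 2 2 (le_of_eq hx43)) ![1,0,1,1] (by decide) (by decide) 0 (by decide))
      · -- 34=(2,1)
        exact False.elim (cert_false T ((skipEmb 2).trans (Function.Embedding.refl _)) (by norm_num) (fun _ => hall _) (((((LB_zero T ((skipEmb 2).trans (Function.Embedding.refl _))).upd 0 2 2 (le_of_eq hx03)).upd 2 0 1 (le_of_eq hx30)).upd 2 3 2 (le_of_eq hx34)).upd 3 2 1 (le_of_eq hx43)) ![2,0,2,1] (by decide) (by decide) 0 (by decide))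
      · -- 34=(1,3)
        exact False.elim (cert_false T ((skipEmb 2).trans (Function.Embedding.refl _)) (by norm_num) (fun _ => hall _) (((((LB_zero T ((skipEmb 2).trans (Function.Embedding.refl _))).upd 0 2 2 (le_of_eq hx03)).upd 2 0 1 (le_of_eq hx30)).upd 2 3 1 (le_of_eq hx34)).upd 3 2 3 (le_of_eq hx43)) ![1,0,1,1] (by decide) (by decide) 0 (by decide))
      · -- 34=(3,1)
        exact False.elim (cert_false T ((skipEmb 2).trans (Function.Embedding.refl _)) (by norm_num) (fun _ => hall _) (((((LB_zero T ((skipEmb 2).trans (Function.Embedding.refl _))).upd 0 2 2 (le_of_eq hx03)).upd 2 0 1 (le_of_eq hx30)).upd 2 3 3 (le_of_eq hx34)).upd 3 2 1 (le_of_eq hx43)) ![1,0,2,1] (by decide) (by decide) 0 (by decide))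
    · -- 24=(1,3)
      exact False.elim (cert_false T ((skipEmb 3).trans (Function.Embedding.refl _)) (by norm_num) (fun _ => hall _) (((((LB_zero T ((skipEmb 3).trans (Function.Embedding.refl _))).upd 1 2 1 (le_of_eq hx12)).upd 2 1 1 (le_of_eq hx21)).upd 2 3 1 (le_of_eq hx24)).upd 3 2 3 (le_of_eq hx42)) ![0,1,2,3] (by decide) (by decide) 1 (by decide))
    · -- 24=(3,1)
      exact False.elim (cert_false T ((skipEmb 3).trans (Function.Embedding.refl _)) (by norm_num) (fun _ => hall _) (((((LB_zero T ((skipEmb 3).trans (Function.Embedding.refl _))).upd 1 2 1 (le_of_eq hx12)).upd 2 1 1 (le_of_eq hx21)).upd 2 3 3 (le_of_eq hx24)).upd 3 2 1 (le_of_eq hx42)) ![0,1,2,1] (by decide) (by decide) 1 (by decide))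
  · -- 14=(1,1)
    rcases d24 with ⟨rfl, rfl⟩ | ⟨rfl, rfl⟩ | ⟨rfl, rfl⟩ | ⟨rfl, rfl⟩ | ⟨rfl, rfl⟩ | ⟨rfl, rfl⟩
    · -- 24=(0,0)
      rcases d34 with ⟨rfl, rfl⟩ | ⟨rfl, rfl⟩ | ⟨rfl, rfl⟩ | ⟨rfl, rfl⟩ | ⟨rfl, rfl⟩ | ⟨rfl, rfl⟩
      · -- 34=(0,0)
        exfalso; omega
      · -- 34=(1,1)
        exfalso; omega
      · -- 34=(1,2)
        exact False.elim (cert_false T ((skipEmb 2).trans (Function.Embedding.refl _)) (by norm_num) (fun _ => hall _) (((((LB_zero T ((skipEmb 2).trans (Function.Embedding.refl _))).upd 0 2 2 (le_of_eq hx03)).upd 2 0 1 (le_of_eq hx30)).upd 2 3 1 (le_of_eq hx34)).upd 3 2 2 (le_of_eq hx43)) ![1,0,1,1] (by decide) (by decide) 0 (by decide))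
      · -- 34=(2,1)
        exact False.elim (cert_false T ((skipEmb 2).trans (Function.Embedding.refl _)) (by norm_num) (fun _ => hall _) (((((LB_zero T ((skipEmb 2).trans (Function.Embedding.refl _))).upd 0 2 2 (le_of_eq hx03)).upd 2 0 1 (le_of_eq hx30)).upd 2 3 2 (le_of_eq hx34)).upd 3 2 1 (le_of_eq hx43)) ![2,0,2,1] (by decide) (by decide) 0 (by decide))
      · -- 34=(1,3)
        exact False.elim (cert_false T ((skipEmb 2).trans (Function.Embedding.refl _)) (by norm_num) (fun _ => hall _) (((((LB_zero T ((skipEmb 2).trans (Function.Embedding.refl _))).upd 0 2 2 (le_of_eq hx03)).upd 2 0 1 (le_of_eq hx30)).upd 2 3 1 (le_of_eq hx34)).upd 3 2 3 (le_of_eq hx43)) ![1,0,1,1] (by decide) (by decide) 0 (by decide))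
      · -- 34=(3,1)
        exact False.elim (cert_false T ((skipEmb 2).trans (Function.Embedding.refl _)) (by norm_num) (fun _ => hall _) (((((LB_zero T ((skipEmb 2).trans (Function.Embedding.refl _))).upd 0 2 2 (le_of_eq hx03)).upd 2 0 1 (le_of_eq hx30)).upd 2 3 3 (le_of_eq hx34)).upd 3 2 1 (le_of_eq hx43)) ![1,0,2,1] (by decide) (by decide) 0 (by decide))
    · -- 24=(1,1)
      exact False.elim (cert_false T ((skipEmb 3).trans (Function.Embedding.refl _)) (by norm_num) (fun _ => hall _) (((((((LB_zero T ((skipEmb 3).trans (Function.Embedding.refl _))).upd 1 2 1 (le_of_eq hx12)).upd 1 3 1 (le_of_eq hx14)).upd 2 1 1 (le_of_eq hx21)).upd 2 3 1 (le_of_eq hx24)).upd 3 1 1 (le_of_eq hx41)).upd 3 2 1 (le_of_eq hx42)) ![0,1,1,1] (by decide) (by decide) 1 (by decide))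
    · -- 24=(1,2)
      exact False.elim (cert_false T ((skipEmb 3).trans (Function.Embedding.refl _)) (by norm_num) (fun _ => hall _) (((((((LB_zero T ((skipEmb 3).trans (Function.Embedding.refl _))).upd 1 2 1 (le_of_eq hx12)).upd 1 3 1 (le_of_eq hx14)).upd 2 1 1 (le_of_eq hx21)).upd 2 3 1 (le_of_eq hx24)).upd 3 1 1 (le_of_eq hx41)).upd 3 2 2 (le_of_eq hx42)) ![0,1,1,1] (by decide) (by decide) 1 (by decide))
    · -- 24=(2,1)
      exact False.elim (cert_false T ((skipEmb 3).trans (Function.Embedding.refl _)) (by norm_num) (fun _ => hall _) (((((((LB_zero T ((skipEmb 3).trans (Function.Embedding.refl _))).upd 1 2 1 (le_of_eq hx12)).upd 1 3 1 (le_of_eq hx14)).upd 2 1 1 (le_of_eq hx21)).upd 2 3 2 (le_of_eq hx24)).upd 3 1 1 (le_of_eq hx41)).upd 3 2 1 (le_of_eq hx42)) ![0,1,1,1] (by decide) (by decide) 1 (by decide))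
    · -- 24=(1,3)
      exact False.elim (cert_false T ((skipEmb 3).trans (Function.Embedding.refl _)) (by norm_num) (fun _ => hall _) (((((((LB_zero T ((skipEmb 3).trans (Function.Embedding.refl _))).upd 1 2 1 (le_of_eq hx12)).upd 1 3 1 (le_of_eq hx14)).upd 2 1 1 (le_of_eq hx21)).upd 2 3 1 (le_of_eq hx24)).upd 3 1 1 (le_of_eq hx41)).upd 3 2 3 (le_of_eq hx42)) ![0,1,1,1] (by decide) (by decide) 1 (by decide))
    · -- 24=(3,1)
      exact False.elim (cert_false T ((skipEmb 3).trans (Function.Embedding.refl _)) (by norm_num) (fun _ => hall _) (((((((LB_zero T ((skipEmb 3).trans (Function.Embedding.refl _))).upd 1 2 1 (le_of_eq hx12)).upd 1 3 1 (le_of_eq hx14)).upd 2 1 1 (le_of_eq hx21)).upd 2 3 3 (le_of_eq hx24)).upd 3 1 1 (le_of_eq hx41)).upd 3 2 1 (le_of_eq hx42)) ![0,1,1,1] (by decide) (by decide) 1 (by decide))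
  · -- 14=(1,2)
    rcases d24 with ⟨rfl, rfl⟩ | ⟨rfl, rfl⟩ | ⟨rfl, rfl⟩ | ⟨rfl, rfl⟩ | ⟨rfl, rfl⟩ | ⟨rfl, rfl⟩
    · -- 24=(0,0)
      rcases d34 with ⟨rfl, rfl⟩ | ⟨rfl, rfl⟩ | ⟨rfl, rfl⟩ | ⟨rfl, rfl⟩ | ⟨rfl, rfl⟩ | ⟨rfl, rfl⟩
      · -- 34=(0,0)
        exfalso; omega
      · -- 34=(1,1)
        exact False.elim (cert_false T ((skipEmb 2).trans (Function.Embedding.refl _)) (by norm_num) (fun _ => hall _) (((((((LB_zero T ((skipEmb 2).trans (Function.Embedding.refl _))).upd 0 2 2 (le_of_eq hx03)).upd 1 3 1 (le_of_eq hx14)).upd 2 0 1 (le_of_eq hx30)).upd 2 3 1 (le_of_eq hx34)).upd 3 1 2 (le_of_eq hx41)).upd 3 2 1 (le_of_eq hx43)) ![2,1,2,2] (by decide) (by decide) 0 (by decide))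
      · -- 34=(1,2)
        exact False.elim (cert_false T ((skipEmb 2).trans (Function.Embedding.refl _)) (by norm_num) (fun _ => hall _) (((((LB_zero T ((skipEmb 2).trans (Function.Embedding.refl _))).upd 0 2 2 (le_of_eq hx03)).upd 2 0 1 (le_of_eq hx30)).upd 2 3 1 (le_of_eq hx34)).upd 3 2 2 (le_of_eq hx43)) ![1,0,1,1] (by decide) (by decide) 0 (by decide))
      · -- 34=(2,1)
        exact False.elim (cert_false T ((skipEmb 2).trans (Function.Embedding.refl _)) (by norm_num) (fun _ => hall _) (((((LB_zero T ((skipEmb 2).trans (Function.Embedding.refl _))).upd 1 3 1 (le_of_eq hx14)).upd 2 3 2 (le_of_eq hx34)).upd 3 1 2 (le_of_eq hx41)).upd 3 2 1 (le_of_eq hx43)) ![0,1,2,2] (by decide) (by decide) 1 (by decide))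
      · -- 34=(1,3)
        exact False.elim (cert_false T ((skipEmb 2).trans (Function.Embedding.refl _)) (by norm_num) (fun _ => hall _) (((((LB_zero T ((skipEmb 2).trans (Function.Embedding.refl _))).upd 0 2 2 (le_of_eq hx03)).upd 2 0 1 (le_of_eq hx30)).upd 2 3 1 (le_of_eq hx34)).upd 3 2 3 (le_of_eq hx43)) ![1,0,1,1] (by decide) (by decide) 0 (by decide))
      · -- 34=(3,1)
        exact False.elim (cert_false T ((skipEmb 2).trans (Function.Embedding.refl _)) (by norm_num) (fun _ => hall _) (((((LB_zero T ((skipEmb 2).trans (Function.Embedding.refl _))).upd 1 3 1 (le_of_eq hx14)).upd 2 3 3 (le_of_eq hx34)).upd 3 1 2 (le_of_eq hx41)).upd 3 2 1 (le_of_eq hx43)) ![0,1,2,2] (by decide) (by decide) 1 (by decide))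
    · -- 24=(1,1)
      exact False.elim (cert_false T ((skipEmb 3).trans (Function.Embedding.refl _)) (by norm_num) (fun _ => hall _) (((((((LB_zero T ((skipEmb 3).trans (Function.Embedding.refl _))).upd 1 2 1 (le_of_eq hx12)).upd 1 3 1 (le_of_eq hx14)).upd 2 1 1 (le_of_eq hx21)).upd 2 3 1 (le_of_eq hx24)).upd 3 1 2 (le_of_eq hx41)).upd 3 2 1 (le_of_eq hx42)) ![0,1,1,1] (by decide) (by decide) 1 (by decide))
    · -- 24=(1,2)
      exact False.elim (cert_false T ((skipEmb 3).trans (Function.Embedding.refl _)) (by norm_num) (fun _ => hall _) (((((((LB_zero T ((skipEmb 3).trans (Function.Embedding.refl _))).upd 1 2 1 (le_of_eq hx12)).upd 1 3 1 (le_of_eq hx14)).upd 2 1 1 (le_of_eq hx21)).upd 2 3 1 (le_of_eq hx24)).upd 3 1 2 (le_of_eq hx41)).upd 3 2 2 (le_of_eq hx42)) ![0,1,1,1] (by decide) (by decide) 1 (by decide))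
    · -- 24=(2,1)
      exact False.elim (cert_false T ((skipEmb 3).trans (Function.Embedding.refl _)) (by norm_num) (fun _ => hall _) (((((((LB_zero T ((skipEmb 3).trans (Function.Embedding.refl _))).upd 1 2 1 (le_of_eq hx12)).upd 1 3 1 (le_of_eq hx14)).upd 2 1 1 (le_of_eq hx21)).upd 2 3 2 (le_of_eq hx24)).upd 3 1 2 (le_of_eq hx41)).upd 3 2 1 (le_of_eq hx42)) ![0,1,1,1] (by decide) (by decide) 1 (by decide))
    · -- 24=(1,3)
      exact False.elim (cert_false T ((skipEmb 3).trans (Function.Embedding.refl _)) (by norm_num) (fun _ => hall _) (((((((LB_zero T ((skipEmb 3).trans (Function.Embedding.refl _))).upd 1 2 1 (le_of_eq hx12)).upd 1 3 1 (le_of_eq hx14)).upd 2 1 1 (le_of_eq hx21)).upd 2 3 1 (le_of_eq hx24)).upd 3 1 2 (le_of_eq hx41)).upd 3 2 3 (le_of_eq hx42)) ![0,1,1,1] (by decide) (by decide) 1 (by decide))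
    · -- 24=(3,1)
      exact False.elim (cert_false T ((skipEmb 3).trans (Function.Embedding.refl _)) (by norm_num) (fun _ => hall _) (((((((LB_zero T ((skipEmb 3).trans (Function.Embedding.refl _))).upd 1 2 1 (le_of_eq hx12)).upd 1 3 1 (le_of_eq hx14)).upd 2 1 1 (le_of_eq hx21)).upd 2 3 3 (le_of_eq hx24)).upd 3 1 2 (le_of_eq hx41)).upd 3 2 1 (le_of_eq hx42)) ![0,1,1,1] (by decide) (by decide) 1 (by decide))
  · -- 14=(2,1)
    rcases d24 with ⟨rfl, rfl⟩ | ⟨rfl, rfl⟩ | ⟨rfl, rfl⟩ | ⟨rfl, rfl⟩ | ⟨rfl, rfl⟩ | ⟨rfl, rfl⟩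
    · -- 24=(0,0)
      rcases d34 with ⟨rfl, rfl⟩ | ⟨rfl, rfl⟩ | ⟨rfl, rfl⟩ | ⟨rfl, rfl⟩ | ⟨rfl, rfl⟩ | ⟨rfl, rfl⟩
      · -- 34=(0,0)
        exfalso; omega
      · -- 34=(1,1)
        exact False.elim (cert_false T ((skipEmb 2).trans (Function.Embedding.refl _)) (by norm_num) (fun _ => hall _) (((((((LB_zero T ((skipEmb 2).trans (Function.Embedding.refl _))).upd 0 2 2 (le_of_eq hx03)).upd 1 3 2 (le_of_eq hx14)).upd 2 0 1 (le_of_eq hx30)).upd 2 3 1 (le_of_eq hx34)).upd 3 1 1 (le_of_eq hx41)).upd 3 2 1 (le_of_eq hx43)) ![1,1,1,1] (by decide) (by decide) 0 (by decide))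
      · -- 34=(1,2)
        exact False.elim (cert_false T ((skipEmb 2).trans (Function.Embedding.refl _)) (by norm_num) (fun _ => hall _) (((((LB_zero T ((skipEmb 2).trans (Function.Embedding.refl _))).upd 0 2 2 (le_of_eq hx03)).upd 2 0 1 (le_of_eq hx30)).upd 2 3 1 (le_of_eq hx34)).upd 3 2 2 (le_of_eq hx43)) ![1,0,1,1] (by decide) (by decide) 0 (by decide))
      · -- 34=(2,1)
        exact False.elim (cert_false T ((skipEmb 2).trans (Function.Embedding.refl _)) (by norm_num) (fun _ => hall _) (((((LB_zero T ((skipEmb 2).trans (Function.Embedding.refl _))).upd 1 3 2 (le_of_eq hx14)).upd 2 3 2 (le_of_eq hx34)).upd 3 1 1 (le_of_eq hx41)).upd 3 2 1 (le_of_eq hx43)) ![0,1,1,1] (by decide) (by decide) 1 (by decide))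
      · -- 34=(1,3)
        exact False.elim (cert_false T ((skipEmb 2).trans (Function.Embedding.refl _)) (by norm_num) (fun _ => hall _) (((((LB_zero T ((skipEmb 2).trans (Function.Embedding.refl _))).upd 0 2 2 (le_of_eq hx03)).upd 2 0 1 (le_of_eq hx30)).upd 2 3 1 (le_of_eq hx34)).upd 3 2 3 (le_of_eq hx43)) ![1,0,1,1] (by decide) (by decide) 0 (by decide))
      · -- 34=(3,1)
        exact False.elim (cert_false T ((skipEmb 2).trans (Function.Embedding.refl _)) (by norm_num) (fun _ => hall _) (((((LB_zero T ((skipEmb 2).trans (Function.Embedding.refl _))).upd 1 3 2 (le_of_eq hx14)).upd 2 3 3 (le_of_eq hx34)).upd 3 1 1 (le_of_eq hx41)).upd 3 2 1 (le_of_eq hx43)) ![0,1,1,1] (by decide) (by decide) 1 (by decide))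
    · -- 24=(1,1)
      exact False.elim (cert_false T ((skipEmb 3).trans (Function.Embedding.refl _)) (by norm_num) (fun _ => hall _) (((((((LB_zero T ((skipEmb 3).trans (Function.Embedding.refl _))).upd 1 2 1 (le_of_eq hx12)).upd 1 3 2 (le_of_eq hx14)).upd 2 1 1 (le_of_eq hx21)).upd 2 3 1 (le_of_eq hx24)).upd 3 1 1 (le_of_eq hx41)).upd 3 2 1 (le_of_eq hx42)) ![0,1,1,1] (by decide) (by decide) 1 (by decide))
    · -- 24=(1,2)
      exact False.elim (cert_false T ((skipEmb 3).trans (Function.Embedding.refl _)) (by norm_num) (fun _ => hall _) (((((((LB_zero T ((skipEmb 3).trans (Function.Embedding.refl _))).upd 1 2 1 (le_of_eq hx12)).upd 1 3 2 (le_of_eq hx14)).upd 2 1 1 (le_of_eq hx21)).upd 2 3 1 (le_of_eq hx24)).upd 3 1 1 (le_of_eq hx41)).upd 3 2 2 (le_of_eq hx42)) ![0,1,1,1] (by decide) (by decide) 1 (by decide))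
    · -- 24=(2,1)
      exact False.elim (cert_false T ((skipEmb 3).trans (Function.Embedding.refl _)) (by norm_num) (fun _ => hall _) (((((((LB_zero T ((skipEmb 3).trans (Function.Embedding.refl _))).upd 1 2 1 (le_of_eq hx12)).upd 1 3 2 (le_of_eq hx14)).upd 2 1 1 (le_of_eq hx21)).upd 2 3 2 (le_of_eq hx24)).upd 3 1 1 (le_of_eq hx41)).upd 3 2 1 (le_of_eq hx42)) ![0,1,1,1] (by decide) (by decide) 1 (by decide))
    · -- 24=(1,3)
      exact False.elim (cert_false T ((skipEmb 3).trans (Function.Embedding.refl _)) (by norm_num) (fun _ => hall _) (((((((LB_zero T ((skipEmb 3).trans (Function.Embedding.refl _))).upd 1 2 1 (le_of_eq hx12)).upd 1 3 2 (le_of_eq hx14)).upd 2 1 1 (le_of_eq hx21)).upd 2 3 1 (le_of_eq hx24)).upd 3 1 1 (le_of_eq hx41)).upd 3 2 3 (le_of_eq hx42)) ![0,1,1,1] (by decide) (by decide) 1 (by decide))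
    · -- 24=(3,1)
      exact False.elim (cert_false T ((skipEmb 3).trans (Function.Embedding.refl _)) (by norm_num) (fun _ => hall _) (((((((LB_zero T ((skipEmb 3).trans (Function.Embedding.refl _))).upd 1 2 1 (le_of_eq hx12)).upd 1 3 2 (le_of_eq hx14)).upd 2 1 1 (le_of_eq hx21)).upd 2 3 3 (le_of_eq hx24)).upd 3 1 1 (le_of_eq hx41)).upd 3 2 1 (le_of_eq hx42)) ![0,1,1,1] (by decide) (by decide) 1 (by decide))
  · -- 14=(1,3)
    exact False.elim (cert_false T ((skipEmb 3).trans (Function.Embedding.refl _)) (by norm_num) (fun _ => hall _) (((((LB_zero T ((skipEmb 3).trans (Function.Embedding.refl _))).upd 1 2 1 (le_of_eq hx12)).upd 1 3 1 (le_of_eq hx14)).upd 2 1 1 (le_of_eq hx21)).upd 3 1 3 (le_of_eq hx41)) ![0,2,1,3] (by decide) (by decide) 1 (by decide))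
  · -- 14=(3,1)
    exact False.elim (cert_false T ((skipEmb 3).trans (Function.Embedding.refl _)) (by norm_num) (fun _ => hall _) (((((LB_zero T ((skipEmb 3).trans (Function.Embedding.refl _))).upd 1 2 1 (le_of_eq hx12)).upd 1 3 3 (le_of_eq hx14)).upd 2 1 1 (le_of_eq hx21)).upd 3 1 1 (le_of_eq hx41)) ![0,2,1,1] (by decide) (by decide) 1 (by decide))

theorem case130 (T : NumericalType 5) (hall : ∀ i, T.IsMinusTwo i) (d : SData T)
    (h01 : N T (Function.Embedding.refl _) 0 1 = 0) (h10 : N T (Function.Embedding.refl _) 1 0 = 0)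
    (h02 : N T (Function.Embedding.refl _) 0 2 = 0) (h20 : N T (Function.Embedding.refl _) 2 0 = 0)
    (h12 : N T (Function.Embedding.refl _) 1 2 = 1) (h21 : N T (Function.Embedding.refl _) 2 1 = 1)
    (h03 : N T (Function.Embedding.refl _) 0 3 = 2) (h30 : N T (Function.Embedding.refl _) 3 0 = 1)
    (h13 : N T (Function.Embedding.refl _) 1 3 = 0) (h31 : N T (Function.Embedding.refl _) 3 1 = 0)
    (h23 : N T (Function.Embedding.refl _) 2 3 = 0) (h32 : N T (Function.Embedding.refl _) 3 2 = 0) :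
    Goal T := by
  unfold Goal
  have hd := d
  obtain ⟨x01, x02, x03, x04, x10, x12, x13, x14, x20, x21, x23, x24, x30, x31, x32, x34, x40, x41, x42, x43, hx01, hx02, hx03, hx04, hx10, hx12, hx13, hx14, hx20, hx21, hx23, hx24, hx30, hx31, hx32, hx34, hx40, hx41, hx42, hx43, hw0, hm0, hw1, hm1, hw2, hm2, hw3, hm3, hw4, hm4, a00, a01, a02, a03, a04, a11, a10, a12, a13, a14, a22, a20, a21, a23, a24, a33, a30, a31, a32, a34, a44, a40, a41, a42, a43, wN01, wN02, wN12, wN03, wN13, wN23, wN04, wN14, wN24, wN34, e0, e1, e2, e3, e4, d01, d02, d12, d03, d13, d23, d04, d14, d24, d34⟩ := d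
  obtain rfl : x01 = 0 := hx01.trans h01
  obtain rfl : x10 = 0 := hx10.trans h10
  obtain rfl : x02 = 0 := hx02.trans h02
  obtain rfl : x20 = 0 := hx20.trans h20
  obtain rfl : x12 = 1 := hx12.trans h12
  obtain rfl : x21 = 1 := hx21.trans h21
  obtain rfl : x03 = 2 := hx03.trans h03
  obtain rfl : x30 = 1 := hx30.trans h30
  obtain rfl : x13 = 0 := hx13.trans h13
  obtain rfl : x31 = 0 := hx31.trans h31
  obtain rfl : x23 = 0 := hx23.trans h23
  obtain rfl : x32 = 0 := hx32.trans h32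
  rcases d04 with ⟨rfl, rfl⟩ | ⟨rfl, rfl⟩ | ⟨rfl, rfl⟩ | ⟨rfl, rfl⟩ | ⟨rfl, rfl⟩ | ⟨rfl, rfl⟩
  · -- 04=(0,0)
    exact case131 T hall hd hx01.symm hx10.symm hx02.symm hx20.symm hx12.symm hx21.symm hx03.symm hx30.symm hx13.symm hx31.symm hx23.symm hx32.symm hx04.symm hx40.symm
  · -- 04=(1,1)
    rcases d14 with ⟨rfl, rfl⟩ | ⟨rfl, rfl⟩ | ⟨rfl, rfl⟩ | ⟨rfl, rfl⟩ | ⟨rfl, rfl⟩ | ⟨rfl, rfl⟩
    · -- 14=(0,0)
      rcases d24 with ⟨rfl, rfl⟩ | ⟨rfl, rfl⟩ | ⟨rfl, rfl⟩ | ⟨rfl, rfl⟩ | ⟨rfl, rfl⟩ | ⟨rfl, rfl⟩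
      · -- 24=(0,0)
        rcases d34 with ⟨rfl, rfl⟩ | ⟨rfl, rfl⟩ | ⟨rfl, rfl⟩ | ⟨rfl, rfl⟩ | ⟨rfl, rfl⟩ | ⟨rfl, rfl⟩
        · -- 34=(0,0)
          exfalso; omega
        · -- 34=(1,1)
          exact False.elim (cert_false T ((skipEmb 2).trans (Function.Embedding.refl _)) (by norm_num) (fun _ => hall _) (((((((LB_zero T ((skipEmb 2).trans (Function.Embedding.refl _))).upd 0 2 2 (le_of_eq hx03)).upd 0 3 1 (le_of_eq hx04)).upd 2 0 1 (le_of_eq hx30)).upd 2 3 1 (le_of_eq hx34)).upd 3 0 1 (le_of_eq hx40)).upd 3 2 1 (le_of_eq hx43)) ![1,0,1,1] (by decide) (by decide) 0 (by decide))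
        · -- 34=(1,2)
          exact False.elim (cert_false T ((skipEmb 2).trans (Function.Embedding.refl _)) (by norm_num) (fun _ => hall _) (((((((LB_zero T ((skipEmb 2).trans (Function.Embedding.refl _))).upd 0 2 2 (le_of_eq hx03)).upd 0 3 1 (le_of_eq hx04)).upd 2 0 1 (le_of_eq hx30)).upd 2 3 1 (le_of_eq hx34)).upd 3 0 1 (le_of_eq hx40)).upd 3 2 2 (le_of_eq hx43)) ![1,0,1,1] (by decide) (by decide) 0 (by decide))
        · -- 34=(2,1)
          exact False.elim (cert_false T ((skipEmb 2).trans (Function.Embedding.refl _)) (by norm_num) (fun _ => hall _) (((((((LB_zero T ((skipEmb 2).trans (Function.Embedding.refl _))).upd 0 2 2 (le_of_eq hx03)).upd 0 3 1 (le_of_eq hx04)).upd 2 0 1 (le_of_eq hx30)).upd 2 3 2 (le_of_eq hx34)).upd 3 0 1 (le_of_eq hx40)).upd 3 2 1 (le_of_eq hx43)) ![1,0,1,1] (by decide) (by decide) 0 (by decide))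
        · -- 34=(1,3)
          exact False.elim (cert_false T ((skipEmb 2).trans (Function.Embedding.refl _)) (by norm_num) (fun _ => hall _) (((((((LB_zero T ((skipEmb 2).trans (Function.Embedding.refl _))).upd 0 2 2 (le_of_eq hx03)).upd 0 3 1 (le_of_eq hx04)).upd 2 0 1 (le_of_eq hx30)).upd 2 3 1 (le_of_eq hx34)).upd 3 0 1 (le_of_eq hx40)).upd 3 2 3 (le_of_eq hx43)) ![1,0,1,1] (by decide) (by decide) 0 (by decide))
        · -- 34=(3,1)
          exact False.elim (cert_false T ((skipEmb 2).trans (Function.Embedding.refl _)) (by norm_num) (fun _ => hall _) (((((((LB_zero T ((skipEmb 2).trans (Function.Embedding.refl _))).upd 0 2 2 (le_of_eq hx03)).upd 0 3 1 (le_of_eq hx04)).upd 2 0 1 (le_of_eq hx30)).upd 2 3 3 (le_of_eq hx34)).upd 3 0 1 (le_of_eq hx40)).upd 3 2 1 (le_of_eq hx43)) ![1,0,1,1] (by decide) (by decide) 0 (by decide))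
      · -- 24=(1,1)
        rcases d34 with ⟨rfl, rfl⟩ | ⟨rfl, rfl⟩ | ⟨rfl, rfl⟩ | ⟨rfl, rfl⟩ | ⟨rfl, rfl⟩ | ⟨rfl, rfl⟩
        · -- 34=(0,0)
          exfalso; omega
        · -- 34=(1,1)
          exact False.elim (cert_false T ((skipEmb 2).trans (Function.Embedding.refl _)) (by norm_num) (fun _ => hall _) (((((((LB_zero T ((skipEmb 2).trans (Function.Embedding.refl _))).upd 0 2 2 (le_of_eq hx03)).upd 0 3 1 (le_of_eq hx04)).upd 2 0 1 (le_of_eq hx30)).upd 2 3 1 (le_of_eq hx34)).upd 3 0 1 (le_of_eq hx40)).upd 3 2 1 (le_of_eq hx43)) ![1,0,1,1] (by decide) (by decide) 0 (by decide))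
        · -- 34=(1,2)
          exact False.elim (cert_false T ((skipEmb 2).trans (Function.Embedding.refl _)) (by norm_num) (fun _ => hall _) (((((((LB_zero T ((skipEmb 2).trans (Function.Embedding.refl _))).upd 0 2 2 (le_of_eq hx03)).upd 0 3 1 (le_of_eq hx04)).upd 2 0 1 (le_of_eq hx30)).upd 2 3 1 (le_of_eq hx34)).upd 3 0 1 (le_of_eq hx40)).upd 3 2 2 (le_of_eq hx43)) ![1,0,1,1] (by decide) (by decide) 0 (by decide))
        · -- 34=(2,1)
          exact False.elim (cert_false T ((skipEmb 2).trans (Function.Embedding.refl _)) (by norm_num) (fun _ => hall _) (((((((LB_zero T ((skipEmb 2).trans (Function.Embedding.refl _))).upd 0 2 2 (le_of_eq hx03)).upd 0 3 1 (le_of_eq hx04)).upd 2 0 1 (le_of_eq hx30)).upd 2 3 2 (le_of_eq hx34)).upd 3 0 1 (le_of_eq hx40)).upd 3 2 1 (le_of_eq hx43)) ![1,0,1,1] (by decide) (by decide) 0 (by decide))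
        · -- 34=(1,3)
          exact False.elim (cert_false T ((skipEmb 2).trans (Function.Embedding.refl _)) (by norm_num) (fun _ => hall _) (((((((LB_zero T ((skipEmb 2).trans (Function.Embedding.refl _))).upd 0 2 2 (le_of_eq hx03)).upd 0 3 1 (le_of_eq hx04)).upd 2 0 1 (le_of_eq hx30)).upd 2 3 1 (le_of_eq hx34)).upd 3 0 1 (le_of_eq hx40)).upd 3 2 3 (le_of_eq hx43)) ![1,0,1,1] (by decide) (by decide) 0 (by decide))
        · -- 34=(3,1)
          exact False.elim (cert_false T ((skipEmb 2).trans (Function.Embedding.refl _)) (by norm_num) (fun _ => hall _) (((((((LB_zero T ((skipEmb 2).trans (Function.Embedding.refl _))).upd 0 2 2 (le_of_eq hx03)).upd 0 3 1 (le_of_eq hx04)).upd 2 0 1 (le_of_eq hx30)).upd 2 3 3 (le_of_eq hx34)).upd 3 0 1 (le_of_eq hx40)).upd 3 2 1 (le_of_eq hx43)) ![1,0,1,1] (by decide) (by decide) 0 (by decide))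
      · -- 24=(1,2)
        exact False.elim (cert_false T ((skipEmb 1).trans (Function.Embedding.refl _)) (by norm_num) (fun _ => hall _) (((((((LB_zero T ((skipEmb 1).trans (Function.Embedding.refl _))).upd 0 2 2 (le_of_eq hx03)).upd 0 3 1 (le_of_eq hx04)).upd 1 3 1 (le_of_eq hx24)).upd 2 0 1 (le_of_eq hx30)).upd 3 0 1 (le_of_eq hx40)).upd 3 1 2 (le_of_eq hx42)) ![2,1,1,2] (by decide) (by decide) 0 (by decide))
      · -- 24=(2,1)
        exact False.elim (cert_false T ((skipEmb 1).trans (Function.Embedding.refl _)) (by norm_num) (fun _ => hall _) (((((((LB_zero T ((skipEmb 1).trans (Function.Embedding.refl _))).upd 0 2 2 (le_of_eq hx03)).upd 0 3 1 (le_of_eq hx04)).upd 1 3 2 (le_of_eq hx24)).upd 2 0 1 (le_of_eq hx30)).upd 3 0 1 (le_of_eq hx40)).upd 3 1 1 (le_of_eq hx42)) ![2,2,1,2] (by decide) (by decide) 0 (by decide))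
      · -- 24=(1,3)
        exact False.elim (cert_false T ((skipEmb 3).trans (Function.Embedding.refl _)) (by norm_num) (fun _ => hall _) (((((LB_zero T ((skipEmb 3).trans (Function.Embedding.refl _))).upd 0 3 1 (le_of_eq hx04)).upd 2 3 1 (le_of_eq hx24)).upd 3 0 1 (le_of_eq hx40)).upd 3 2 3 (le_of_eq hx42)) ![1,0,1,2] (by decide) (by decide) 0 (by decide))
      · -- 24=(3,1)
        exact False.elim (cert_false T ((skipEmb 3).trans (Function.Embedding.refl _)) (by norm_num) (fun _ => hall _) (((((LB_zero T ((skipEmb 3).trans (Function.Embedding.refl _))).upd 1 2 1 (le_of_eq hx12)).upd 2 1 1 (le_of_eq hx21)).upd 2 3 3 (le_of_eq hx24)).upd 3 2 1 (le_of_eq hx42)) ![0,1,2,1] (by decide) (by decide) 1 (by decide))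
    · -- 14=(1,1)
      rcases d24 with ⟨rfl, rfl⟩ | ⟨rfl, rfl⟩ | ⟨rfl, rfl⟩ | ⟨rfl, rfl⟩ | ⟨rfl, rfl⟩ | ⟨rfl, rfl⟩
      · -- 24=(0,0)
        rcases d34 with ⟨rfl, rfl⟩ | ⟨rfl, rfl⟩ | ⟨rfl, rfl⟩ | ⟨rfl, rfl⟩ | ⟨rfl, rfl⟩ | ⟨rfl, rfl⟩
        · -- 34=(0,0)
          exfalso; omega
        · -- 34=(1,1)
          exact False.elim (cert_false T ((skipEmb 2).trans (Function.Embedding.refl _)) (by norm_num) (fun _ => hall _) (((((((LB_zero T ((skipEmb 2).trans (Function.Embedding.refl _))).upd 0 2 2 (le_of_eq hx03)).upd 0 3 1 (le_of_eq hx04)).upd 2 0 1 (le_of_eq hx30)).upd 2 3 1 (le_of_eq hx34)).upd 3 0 1 (le_of_eq hx40)).upd 3 2 1 (le_of_eq hx43)) ![1,0,1,1] (by decide) (by decide) 0 (by decide))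
        · -- 34=(1,2)
          exact False.elim (cert_false T ((skipEmb 2).trans (Function.Embedding.refl _)) (by norm_num) (fun _ => hall _) (((((((LB_zero T ((skipEmb 2).trans (Function.Embedding.refl _))).upd 0 2 2 (le_of_eq hx03)).upd 0 3 1 (le_of_eq hx04)).upd 2 0 1 (le_of_eq hx30)).upd 2 3 1 (le_of_eq hx34)).upd 3 0 1 (le_of_eq hx40)).upd 3 2 2 (le_of_eq hx43)) ![1,0,1,1] (by decide) (by decide) 0 (by decide))
        · -- 34=(2,1)
          exact False.elim (cert_false T ((skipEmb 2).trans (Function.Embedding.refl _)) (by norm_num) (fun _ => hall _) (((((((LB_zero T ((skipEmb 2).trans (Function.Embedding.refl _))).upd 0 2 2 (le_of_eq hx03)).upd 0 3 1 (le_of_eq hx04)).upd 2 0 1 (le_of_eq hx30)).upd 2 3 2 (le_of_eq hx34)).upd 3 0 1 (le_of_eq hx40)).upd 3 2 1 (le_of_eq hx43)) ![1,0,1,1] (by decide) (by decide) 0 (by decide))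
        · -- 34=(1,3)
          exact False.elim (cert_false T ((skipEmb 2).trans (Function.Embedding.refl _)) (by norm_num) (fun _ => hall _) (((((((LB_zero T ((skipEmb 2).trans (Function.Embedding.refl _))).upd 0 2 2 (le_of_eq hx03)).upd 0 3 1 (le_of_eq hx04)).upd 2 0 1 (le_of_eq hx30)).upd 2 3 1 (le_of_eq hx34)).upd 3 0 1 (le_of_eq hx40)).upd 3 2 3 (le_of_eq hx43)) ![1,0,1,1] (by decide) (by decide) 0 (by decide))
        · -- 34=(3,1)
          exact False.elim (cert_false T ((skipEmb 2).trans (Function.Embedding.refl _)) (by norm_num) (fun _ => hall _) (((((((LB_zero T ((skipEmb 2).trans (Function.Embedding.refl _))).upd 0 2 2 (le_of_eq hx03)).upd 0 3 1 (le_of_eq hx04)).upd 2 0 1 (le_of_eq hx30)).upd 2 3 3 (le_of_eq hx34)).upd 3 0 1 (le_of_eq hx40)).upd 3 2 1 (le_of_eq hx43)) ![1,0,1,1] (by decide) (by decide) 0 (by decide))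
      · -- 24=(1,1)
        exact False.elim (cert_false T ((skipEmb 3).trans (Function.Embedding.refl _)) (by norm_num) (fun _ => hall _) (((((((LB_zero T ((skipEmb 3).trans (Function.Embedding.refl _))).upd 1 2 1 (le_of_eq hx12)).upd 1 3 1 (le_of_eq hx14)).upd 2 1 1 (le_of_eq hx21)).upd 2 3 1 (le_of_eq hx24)).upd 3 1 1 (le_of_eq hx41)).upd 3 2 1 (le_of_eq hx42)) ![0,1,1,1] (by decide) (by decide) 1 (by decide))
      · -- 24=(1,2)
        exact False.elim (cert_false T ((skipEmb 3).trans (Function.Embedding.refl _)) (by norm_num) (fun _ => hall _) (((((((LB_zero T ((skipEmb 3).trans (Function.Embedding.refl _))).upd 1 2 1 (le_of_eq hx12)).upd 1 3 1 (le_of_eq hx14)).upd 2 1 1 (le_of_eq hx21)).upd 2 3 1 (le_of_eq hx24)).upd 3 1 1 (le_of_eq hx41)).upd 3 2 2 (le_of_eq hx42)) ![0,1,1,1] (by decide) (by decide) 1 (by decide))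
      · -- 24=(2,1)
        exact False.elim (cert_false T ((skipEmb 3).trans (Function.Embedding.refl _)) (by norm_num) (fun _ => hall _) (((((((LB_zero T ((skipEmb 3).trans (Function.Embedding.refl _))).upd 1 2 1 (le_of_eq hx12)).upd 1 3 1 (le_of_eq hx14)).upd 2 1 1 (le_of_eq hx21)).upd 2 3 2 (le_of_eq hx24)).upd 3 1 1 (le_of_eq hx41)).upd 3 2 1 (le_of_eq hx42)) ![0,1,1,1] (by decide) (by decide) 1 (by decide))
      · -- 24=(1,3)
        exact False.elim (cert_false T ((skipEmb 3).trans (Function.Embedding.refl _)) (by norm_num) (fun _ => hall _) (((((((LB_zero T ((skipEmb 3).trans (Function.Embedding.refl _))).upd 1 2 1 (le_of_eq hx12)).upd 1 3 1 (le_of_eq hx14)).upd 2 1 1 (le_of_eq hx21)).upd 2 3 1 (le_of_eq hx24)).upd 3 1 1 (le_of_eq hx41)).upd 3 2 3 (le_of_eq hx42)) ![0,1,1,1] (by decide) (by decide) 1 (by decide))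
      · -- 24=(3,1)
        exact False.elim (cert_false T ((skipEmb 3).trans (Function.Embedding.refl _)) (by norm_num) (fun _ => hall _) (((((((LB_zero T ((skipEmb 3).trans (Function.Embedding.refl _))).upd 1 2 1 (le_of_eq hx12)).upd 1 3 1 (le_of_eq hx14)).upd 2 1 1 (le_of_eq hx21)).upd 2 3 3 (le_of_eq hx24)).upd 3 1 1 (le_of_eq hx41)).upd 3 2 1 (le_of_eq hx42)) ![0,1,1,1] (by decide) (by decide) 1 (by decide))
    · -- 14=(1,2)
      exact False.elim (cert_false T ((skipEmb 2).trans (Function.Embedding.refl _)) (by norm_num) (fun _ => hall _) (((((((LB_zero T ((skipEmb 2).trans (Function.Embedding.refl _))).upd 0 2 2 (le_of_eq hx03)).upd 0 3 1 (le_of_eq hx04)).upd 1 3 1 (le_of_eq hx14)).upd 2 0 1 (le_of_eq hx30)).upd 3 0 1 (le_of_eq hx40)).upd 3 1 2 (le_of_eq hx41)) ![2,1,1,2] (by decide) (by decide) 0 (by decide))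
    · -- 14=(2,1)
      exact False.elim (cert_false T ((skipEmb 2).trans (Function.Embedding.refl _)) (by norm_num) (fun _ => hall _) (((((((LB_zero T ((skipEmb 2).trans (Function.Embedding.refl _))).upd 0 2 2 (le_of_eq hx03)).upd 0 3 1 (le_of_eq hx04)).upd 1 3 2 (le_of_eq hx14)).upd 2 0 1 (le_of_eq hx30)).upd 3 0 1 (le_of_eq hx40)).upd 3 1 1 (le_of_eq hx41)) ![2,2,1,2] (by decide) (by decide) 0 (by decide))
    · -- 14=(1,3)
      exact False.elim (cert_false T ((skipEmb 3).trans (Function.Embedding.refl _)) (by norm_num) (fun _ => hall _) (((((LB_zero T ((skipEmb 3).trans (Function.Embedding.refl _))).upd 0 3 1 (le_of_eq hx04)).upd 1 3 1 (le_of_eq hx14)).upd 3 0 1 (le_of_eq hx40)).upd 3 1 3 (le_of_eq hx41)) ![1,1,0,2] (by decide) (by decide) 0 (by decide))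
    · -- 14=(3,1)
      exact False.elim (cert_false T ((skipEmb 3).trans (Function.Embedding.refl _)) (by norm_num) (fun _ => hall _) (((((LB_zero T ((skipEmb 3).trans (Function.Embedding.refl _))).upd 1 2 1 (le_of_eq hx12)).upd 1 3 3 (le_of_eq hx14)).upd 2 1 1 (le_of_eq hx21)).upd 3 1 1 (le_of_eq hx41)) ![0,2,1,1] (by decide) (by decide) 1 (by decide))
  · -- 04=(1,2)
    exact False.elim (cert_false T ((skipEmb 2).trans (Function.Embedding.refl _)) (by norm_num) (fun _ => hall _) (((((LB_zero T ((skipEmb 2).trans (Function.Embedding.refl _))).upd 0 2 2 (le_of_eq hx03)).upd 0 3 1 (le_of_eq hx04)).upd 2 0 1 (le_of_eq hx30)).upd 3 0 2 (le_of_eq hx40)) ![2,0,1,2] (by decide) (by decide) 0 (by decide))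
  · -- 04=(2,1)
    exact False.elim (cert_false T ((skipEmb 2).trans (Function.Embedding.refl _)) (by norm_num) (fun _ => hall _) (((((LB_zero T ((skipEmb 2).trans (Function.Embedding.refl _))).upd 0 2 2 (le_of_eq hx03)).upd 0 3 2 (le_of_eq hx04)).upd 2 0 1 (le_of_eq hx30)).upd 3 0 1 (le_of_eq hx40)) ![2,0,1,1] (by decide) (by decide) 0 (by decide))
  · -- 04=(1,3)
    exact False.elim (cert_false T ((skipEmb 2).trans (Function.Embedding.refl _)) (by norm_num) (fun _ => hall _) (((((LB_zero T ((skipEmb 2).trans (Function.Embedding.refl _))).upd 0 2 2 (le_of_eq hx03)).upd 0 3 1 (le_of_eq hx04)).upd 2 0 1 (le_of_eq hx30)).upd 3 0 3 (le_of_eq hx40)) ![2,0,1,2] (by decide) (by decide) 0 (by decide))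
  · -- 04=(3,1)
    exact False.elim (cert_false T ((skipEmb 2).trans (Function.Embedding.refl _)) (by norm_num) (fun _ => hall _) (((((LB_zero T ((skipEmb 2).trans (Function.Embedding.refl _))).upd 0 2 2 (le_of_eq hx03)).upd 0 3 3 (le_of_eq hx04)).upd 2 0 1 (le_of_eq hx30)).upd 3 0 1 (le_of_eq hx40)) ![2,0,1,1] (by decide) (by decide) 0 (by decide))

theorem case133 (T : NumericalType 5) (hall : ∀ i, T.IsMinusTwo i) (d : SData T)
    (h01 : N T (Function.Embedding.refl _) 0 1 = 0) (h10 : N T (Function.Embedding.refl _) 1 0 = 0)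
    (h02 : N T (Function.Embedding.refl _) 0 2 = 0) (h20 : N T (Function.Embedding.refl _) 2 0 = 0)
    (h12 : N T (Function.Embedding.refl _) 1 2 = 1) (h21 : N T (Function.Embedding.refl _) 2 1 = 1)
    (h03 : N T (Function.Embedding.refl _) 0 3 = 2) (h30 : N T (Function.Embedding.refl _) 3 0 = 1)
    (h13 : N T (Function.Embedding.refl _) 1 3 = 0) (h31 : N T (Function.Embedding.refl _) 3 1 = 0)
    (h23 : N T (Function.Embedding.refl _) 2 3 = 1) (h32 : N T (Function.Embedding.refl _) 3 2 = 1)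
    (h04 : N T (Function.Embedding.refl _) 0 4 = 0) (h40 : N T (Function.Embedding.refl _) 4 0 = 0) :
    Goal T := by
  unfold Goal
  have hd := d
  obtain ⟨x01, x02, x03, x04, x10, x12, x13, x14, x20, x21, x23, x24, x30, x31, x32, x34, x40, x41, x42, x43, hx01, hx02, hx03, hx04, hx10, hx12, hx13, hx14, hx20, hx21, hx23, hx24, hx30, hx31, hx32, hx34, hx40, hx41, hx42, hx43, hw0, hm0, hw1, hm1, hw2, hm2, hw3, hm3, hw4, hm4, a00, a01, a02, a03, a04, a11, a10, a12, a13, a14, a22, a20, a21, a23, a24, a33, a30, a31, a32, a34, a44, a40, a41, a42, a43, wN01, wN02, wN12, wN03, wN13, wN23, wN04, wN14, wN24, wN34, e0, e1, e2, e3, e4, d01, d02, d12, d03, d13, d23, d04, d14, d24, d34⟩ := d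
  obtain rfl : x01 = 0 := hx01.trans h01
  obtain rfl : x10 = 0 := hx10.trans h10
  obtain rfl : x02 = 0 := hx02.trans h02
  obtain rfl : x20 = 0 := hx20.trans h20
  obtain rfl : x12 = 1 := hx12.trans h12
  obtain rfl : x21 = 1 := hx21.trans h21
  obtain rfl : x03 = 2 := hx03.trans h03
  obtain rfl : x30 = 1 := hx30.trans h30
  obtain rfl : x13 = 0 := hx13.trans h13
  obtain rfl : x31 = 0 := hx31.trans h31
  obtain rfl : x23 = 1 := hx23.trans h23
  obtain rfl : x32 = 1 := hx32.trans h32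
  obtain rfl : x04 = 0 := hx04.trans h04
  obtain rfl : x40 = 0 := hx40.trans h40
  rcases d14 with ⟨rfl, rfl⟩ | ⟨rfl, rfl⟩ | ⟨rfl, rfl⟩ | ⟨rfl, rfl⟩ | ⟨rfl, rfl⟩ | ⟨rfl, rfl⟩
  · -- 14=(0,0)
    rcases d24 with ⟨rfl, rfl⟩ | ⟨rfl, rfl⟩ | ⟨rfl, rfl⟩ | ⟨rfl, rfl⟩ | ⟨rfl, rfl⟩ | ⟨rfl, rfl⟩
    · -- 24=(0,0)
      rcases d34 with ⟨rfl, rfl⟩ | ⟨rfl, rfl⟩ | ⟨rfl, rfl⟩ | ⟨rfl, rfl⟩ | ⟨rfl, rfl⟩ | ⟨rfl, rfl⟩
      · -- 34=(0,0)
        exfalso; omega
      · -- 34=(1,1)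
        exact False.elim (cert_false T ((skipEmb 1).trans (Function.Embedding.refl _)) (by norm_num) (fun _ => hall _) (((((((LB_zero T ((skipEmb 1).trans (Function.Embedding.refl _))).upd 0 2 2 (le_of_eq hx03)).upd 1 2 1 (le_of_eq hx23)).upd 2 0 1 (le_of_eq hx30)).upd 2 1 1 (le_of_eq hx32)).upd 2 3 1 (le_of_eq hx34)).upd 3 2 1 (le_of_eq hx43)) ![2,1,2,1] (by decide) (by decide) 0 (by decide))
      · -- 34=(1,2)
        exact False.elim (cert_false T ((skipEmb 2).trans (Function.Embedding.refl _)) (by norm_num) (fun _ => hall _) (((((LB_zero T ((skipEmb 2).trans (Function.Embedding.refl _))).upd 0 2 2 (le_of_eq hx03)).upd 2 0 1 (le_of_eq hx30)).upd 2 3 1 (le_of_eq hx34)).upd 3 2 2 (le_of_eq hx43)) ![1,0,1,1] (by decide) (by decide) 0 (by decide))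
      · -- 34=(2,1)
        exact False.elim (cert_false T ((skipEmb 2).trans (Function.Embedding.refl _)) (by norm_num) (fun _ => hall _) (((((LB_zero T ((skipEmb 2).trans (Function.Embedding.refl _))).upd 0 2 2 (le_of_eq hx03)).upd 2 0 1 (le_of_eq hx30)).upd 2 3 2 (le_of_eq hx34)).upd 3 2 1 (le_of_eq hx43)) ![2,0,2,1] (by decide) (by decide) 0 (by decide))
      · -- 34=(1,3)
        exact False.elim (cert_false T ((skipEmb 2).trans (Function.Embedding.refl _)) (by norm_num) (fun _ => hall _) (((((LB_zero T ((skipEmb 2).trans (Function.Embedding.refl _))).upd 0 2 2 (le_of_eq hx03)).upd 2 0 1 (le_of_eq hx30)).upd 2 3 1 (le_of_eq hx34)).upd 3 2 3 (le_of_eq hx43)) ![1,0,1,1] (by decide) (by decide) 0 (by decide))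
      · -- 34=(3,1)
        exact False.elim (cert_false T ((skipEmb 2).trans (Function.Embedding.refl _)) (by norm_num) (fun _ => hall _) (((((LB_zero T ((skipEmb 2).trans (Function.Embedding.refl _))).upd 0 2 2 (le_of_eq hx03)).upd 2 0 1 (le_of_eq hx30)).upd 2 3 3 (le_of_eq hx34)).upd 3 2 1 (le_of_eq hx43)) ![1,0,2,1] (by decide) (by decide) 0 (by decide))
    · -- 24=(1,1)
      rcases d34 with ⟨rfl, rfl⟩ | ⟨rfl, rfl⟩ | ⟨rfl, rfl⟩ | ⟨rfl, rfl⟩ | ⟨rfl, rfl⟩ | ⟨rfl, rfl⟩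
      · -- 34=(0,0)
        refine ⟨(⟨![0, 3, 2, 1, 4], ![0, 3, 2, 1, 4], by decide, by decide⟩ : Equiv.Perm (Fin 5)), T.m 1, T.w 0, Or.inr (Or.inr (Or.inr (Or.inr (Or.inr (Or.inr (Or.inr (Or.inr (?_))))))))⟩
        show T.m 0 = 2 * T.m 1 ∧ T.m 3 = 2 * T.m 1 ∧ T.m 2 = 2 * T.m 1 ∧ T.m 1 = T.m 1 ∧ T.m 4 = T.m 1 ∧ T.w 0 = T.w 0 ∧ T.w 3 = 2 * T.w 0 ∧ T.w 2 = 2 * T.w 0 ∧ T.w 1 = 2 * T.w 0 ∧ T.w 4 = 2 * T.w 0 ∧ T.a 0 0 = -2 * T.w 0 ∧ T.a 0 3 = 2 * T.w 0 ∧ T.a 0 2 = 0 ∧ T.a 0 1 = 0 ∧ T.a 0 4 = 0 ∧ T.a 3 3 = -4 * T.w 0 ∧ T.a 3 2 = 2 * T.w 0 ∧ T.a 3 1 = 0 ∧ T.a 3 4 = 0 ∧ T.a 2 2 = -4 * T.w 0 ∧ T.a 2 1 = 2 * T.w 0 ∧ T.a 2 4 = 2 * T.w 0 ∧ T.a 1 1 = -4 * T.w 0 ∧ T.a 1 4 = 0 ∧ T.a 4 4 = -4 * T.w 0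
        refine ⟨?_, ?_, ?_, ?_, ?_, ?_, ?_, ?_, ?_, ?_, ?_, ?_, ?_, ?_, ?_, ?_, ?_, ?_, ?_, ?_, ?_, ?_, ?_, ?_, ?_⟩ <;> omega
      · -- 34=(1,1)
        exact False.elim (cert_false T ((skipEmb 1).trans (Function.Embedding.refl _)) (by norm_num) (fun _ => hall _) (((((((LB_zero T ((skipEmb 1).trans (Function.Embedding.refl _))).upd 1 2 1 (le_of_eq hx23)).upd 1 3 1 (le_of_eq hx24)).upd 2 1 1 (le_of_eq hx32)).upd 2 3 1 (le_of_eq hx34)).upd 3 1 1 (le_of_eq hx42)).upd 3 2 1 (le_of_eq hx43)) ![0,1,1,1] (by decide) (by decide) 1 (by decide))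
      · -- 34=(1,2)
        exact False.elim (cert_false T ((skipEmb 2).trans (Function.Embedding.refl _)) (by norm_num) (fun _ => hall _) (((((LB_zero T ((skipEmb 2).trans (Function.Embedding.refl _))).upd 0 2 2 (le_of_eq hx03)).upd 2 0 1 (le_of_eq hx30)).upd 2 3 1 (le_of_eq hx34)).upd 3 2 2 (le_of_eq hx43)) ![1,0,1,1] (by decide) (by decide) 0 (by decide))
      · -- 34=(2,1)
        exact False.elim (cert_false T ((skipEmb 2).trans (Function.Embedding.refl _)) (by norm_num) (fun _ => hall _) (((((LB_zero T ((skipEmb 2).trans (Function.Embedding.refl _))).upd 0 2 2 (le_of_eq hx03)).upd 2 0 1 (le_of_eq hx30)).upd 2 3 2 (le_of_eq hx34)).upd 3 2 1 (le_of_eq hx43)) ![2,0,2,1] (by decide) (by decide) 0 (by decide))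
      · -- 34=(1,3)
        exact False.elim (cert_false T ((skipEmb 2).trans (Function.Embedding.refl _)) (by norm_num) (fun _ => hall _) (((((LB_zero T ((skipEmb 2).trans (Function.Embedding.refl _))).upd 0 2 2 (le_of_eq hx03)).upd 2 0 1 (le_of_eq hx30)).upd 2 3 1 (le_of_eq hx34)).upd 3 2 3 (le_of_eq hx43)) ![1,0,1,1] (by decide) (by decide) 0 (by decide))
      · -- 34=(3,1)
        exact False.elim (cert_false T ((skipEmb 2).trans (Function.Embedding.refl _)) (by norm_num) (fun _ => hall _) (((((LB_zero T ((skipEmb 2).trans (Function.Embedding.refl _))).upd 0 2 2 (le_of_eq hx03)).upd 2 0 1 (le_of_eq hx30)).upd 2 3 3 (le_of_eq hx34)).upd 3 2 1 (le_of_eq hx43)) ![1,0,2,1] (by decide) (by decide) 0 (by decide))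
    · -- 24=(1,2)
      exact False.elim (cert_false T ((skipEmb 1).trans (Function.Embedding.refl _)) (by norm_num) (fun _ => hall _) (((((((LB_zero T ((skipEmb 1).trans (Function.Embedding.refl _))).upd 0 2 2 (le_of_eq hx03)).upd 1 2 1 (le_of_eq hx23)).upd 1 3 1 (le_of_eq hx24)).upd 2 0 1 (le_of_eq hx30)).upd 2 1 1 (le_of_eq hx32)).upd 3 1 2 (le_of_eq hx42)) ![1,1,1,1] (by decide) (by decide) 0 (by decide))
    · -- 24=(2,1)
      exact False.elim (cert_false T ((skipEmb 1).trans (Function.Embedding.refl _)) (by norm_num) (fun _ => hall _) (((((((LB_zero T ((skipEmb 1).trans (Function.Embedding.refl _))).upd 0 2 2 (le_of_eq hx03)).upd 1 2 1 (le_of_eq hx23)).upd 1 3 2 (le_of_eq hx24)).upd 2 0 1 (le_of_eq hx30)).upd 2 1 1 (le_of_eq hx32)).upd 3 1 1 (le_of_eq hx42)) ![2,2,2,1] (by decide) (by decide) 0 (by decide))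
    · -- 24=(1,3)
      exact False.elim (cert_false T ((skipEmb 3).trans (Function.Embedding.refl _)) (by norm_num) (fun _ => hall _) (((((LB_zero T ((skipEmb 3).trans (Function.Embedding.refl _))).upd 1 2 1 (le_of_eq hx12)).upd 2 1 1 (le_of_eq hx21)).upd 2 3 1 (le_of_eq hx24)).upd 3 2 3 (le_of_eq hx42)) ![0,1,2,3] (by decide) (by decide) 1 (by decide))
    · -- 24=(3,1)
      exact False.elim (cert_false T ((skipEmb 3).trans (Function.Embedding.refl _)) (by norm_num) (fun _ => hall _) (((((LB_zero T ((skipEmb 3).trans (Function.Embedding.refl _))).upd 1 2 1 (le_of_eq hx12)).upd 2 1 1 (le_of_eq hx21)).upd 2 3 3 (le_of_eq hx24)).upd 3 2 1 (le_of_eq hx42)) ![0,1,2,1] (by decide) (by decide) 1 (by decide))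
  · -- 14=(1,1)
    rcases d24 with ⟨rfl, rfl⟩ | ⟨rfl, rfl⟩ | ⟨rfl, rfl⟩ | ⟨rfl, rfl⟩ | ⟨rfl, rfl⟩ | ⟨rfl, rfl⟩
    · -- 24=(0,0)
      rcases d34 with ⟨rfl, rfl⟩ | ⟨rfl, rfl⟩ | ⟨rfl, rfl⟩ | ⟨rfl, rfl⟩ | ⟨rfl, rfl⟩ | ⟨rfl, rfl⟩
      · -- 34=(0,0)
        exfalso; omega
      · -- 34=(1,1)
        exact False.elim (cert_false T ((skipEmb 1).trans (Function.Embedding.refl _)) (by norm_num) (fun _ => hall _) (((((((LB_zero T ((skipEmb 1).trans (Function.Embedding.refl _))).upd 0 2 2 (le_of_eq hx03)).upd 1 2 1 (le_of_eq hx23)).upd 2 0 1 (le_of_eq hx30)).upd 2 1 1 (le_of_eq hx32)).upd 2 3 1 (le_of_eq hx34)).upd 3 2 1 (le_of_eq hx43)) ![2,1,2,1] (by decide) (by decide) 0 (by decide))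
      · -- 34=(1,2)
        exact False.elim (cert_false T ((skipEmb 2).trans (Function.Embedding.refl _)) (by norm_num) (fun _ => hall _) (((((LB_zero T ((skipEmb 2).trans (Function.Embedding.refl _))).upd 0 2 2 (le_of_eq hx03)).upd 2 0 1 (le_of_eq hx30)).upd 2 3 1 (le_of_eq hx34)).upd 3 2 2 (le_of_eq hx43)) ![1,0,1,1] (by decide) (by decide) 0 (by decide))
      · -- 34=(2,1)
        exact False.elim (cert_false T ((skipEmb 2).trans (Function.Embedding.refl _)) (by norm_num) (fun _ => hall _) (((((LB_zero T ((skipEmb 2).trans (Function.Embedding.refl _))).upd 0 2 2 (le_of_eq hx03)).upd 2 0 1 (le_of_eq hx30)).upd 2 3 2 (le_of_eq hx34)).upd 3 2 1 (le_of_eq hx43)) ![2,0,2,1] (by decide) (by decide) 0 (by decide))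
      · -- 34=(1,3)
        exact False.elim (cert_false T ((skipEmb 2).trans (Function.Embedding.refl _)) (by norm_num) (fun _ => hall _) (((((LB_zero T ((skipEmb 2).trans (Function.Embedding.refl _))).upd 0 2 2 (le_of_eq hx03)).upd 2 0 1 (le_of_eq hx30)).upd 2 3 1 (le_of_eq hx34)).upd 3 2 3 (le_of_eq hx43)) ![1,0,1,1] (by decide) (by decide) 0 (by decide))
      · -- 34=(3,1)
        exact False.elim (cert_false T ((skipEmb 2).trans (Function.Embedding.refl _)) (by norm_num) (fun _ => hall _) (((((LB_zero T ((skipEmb 2).trans (Function.Embedding.refl _))).upd 0 2 2 (le_of_eq hx03)).upd 2 0 1 (le_of_eq hx30)).upd 2 3 3 (le_of_eq hx34)).upd 3 2 1 (le_of_eq hx43)) ![1,0,2,1] (by decide) (by decide) 0 (by decide))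
    · -- 24=(1,1)
      exact False.elim (cert_false T ((skipEmb 3).trans (Function.Embedding.refl _)) (by norm_num) (fun _ => hall _) (((((((LB_zero T ((skipEmb 3).trans (Function.Embedding.refl _))).upd 1 2 1 (le_of_eq hx12)).upd 1 3 1 (le_of_eq hx14)).upd 2 1 1 (le_of_eq hx21)).upd 2 3 1 (le_of_eq hx24)).upd 3 1 1 (le_of_eq hx41)).upd 3 2 1 (le_of_eq hx42)) ![0,1,1,1] (by decide) (by decide) 1 (by decide))
    · -- 24=(1,2)
      exact False.elim (cert_false T ((skipEmb 3).trans (Function.Embedding.refl _)) (by norm_num) (fun _ => hall _) (((((((LB_zero T ((skipEmb 3).trans (Function.Embedding.refl _))).upd 1 2 1 (le_of_eq hx12)).upd 1 3 1 (le_of_eq hx14)).upd 2 1 1 (le_of_eq hx21)).upd 2 3 1 (le_of_eq hx24)).upd 3 1 1 (le_of_eq hx41)).upd 3 2 2 (le_of_eq hx42)) ![0,1,1,1] (by decide) (by decide) 1 (by decide))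
    · -- 24=(2,1)
      exact False.elim (cert_false T ((skipEmb 3).trans (Function.Embedding.refl _)) (by norm_num) (fun _ => hall _) (((((((LB_zero T ((skipEmb 3).trans (Function.Embedding.refl _))).upd 1 2 1 (le_of_eq hx12)).upd 1 3 1 (le_of_eq hx14)).upd 2 1 1 (le_of_eq hx21)).upd 2 3 2 (le_of_eq hx24)).upd 3 1 1 (le_of_eq hx41)).upd 3 2 1 (le_of_eq hx42)) ![0,1,1,1] (by decide) (by decide) 1 (by decide))
    · -- 24=(1,3)
      exact False.elim (cert_false T ((skipEmb 3).trans (Function.Embedding.refl _)) (by norm_num) (fun _ => hall _) (((((((LB_zero T ((skipEmb 3).trans (Function.Embedding.refl _))).upd 1 2 1 (le_of_eq hx12)).upd 1 3 1 (le_of_eq hx14)).upd 2 1 1 (le_of_eq hx21)).upd 2 3 1 (le_of_eq hx24)).upd 3 1 1 (le_of_eq hx41)).upd 3 2 3 (le_of_eq hx42)) ![0,1,1,1] (by decide) (by decide) 1 (by decide))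
    · -- 24=(3,1)
      exact False.elim (cert_false T ((skipEmb 3).trans (Function.Embedding.refl _)) (by norm_num) (fun _ => hall _) (((((((LB_zero T ((skipEmb 3).trans (Function.Embedding.refl _))).upd 1 2 1 (le_of_eq hx12)).upd 1 3 1 (le_of_eq hx14)).upd 2 1 1 (le_of_eq hx21)).upd 2 3 3 (le_of_eq hx24)).upd 3 1 1 (le_of_eq hx41)).upd 3 2 1 (le_of_eq hx42)) ![0,1,1,1] (by decide) (by decide) 1 (by decide))
  · -- 14=(1,2)
    rcases d24 with ⟨rfl, rfl⟩ | ⟨rfl, rfl⟩ | ⟨rfl, rfl⟩ | ⟨rfl, rfl⟩ | ⟨rfl, rfl⟩ | ⟨rfl, rfl⟩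
    · -- 24=(0,0)
      rcases d34 with ⟨rfl, rfl⟩ | ⟨rfl, rfl⟩ | ⟨rfl, rfl⟩ | ⟨rfl, rfl⟩ | ⟨rfl, rfl⟩ | ⟨rfl, rfl⟩
      · -- 34=(0,0)
        refine ⟨(⟨![0, 3, 2, 1, 4], ![0, 3, 2, 1, 4], by decide, by decide⟩ : Equiv.Perm (Fin 5)), T.m 0, T.w 0, Or.inr (Or.inr (Or.inr (Or.inr (Or.inl ?_))))⟩
        show T.m 0 = T.m 0 ∧ T.m 3 = T.m 0 ∧ T.m 2 = T.m 0 ∧ T.m 1 = T.m 0 ∧ T.m 4 = T.m 0 ∧ T.w 0 = T.w 0 ∧ T.w 3 = 2 * T.w 0 ∧ T.w 2 = 2 * T.w 0 ∧ T.w 1 = 2 * T.w 0 ∧ T.w 4 = T.w 0 ∧ T.a 0 0 = -2 * T.w 0 ∧ T.a 0 3 = 2 * T.w 0 ∧ T.a 0 2 = 0 ∧ T.a 0 1 = 0 ∧ T.a 0 4 = 0 ∧ T.a 3 3 = -4 * T.w 0 ∧ T.a 3 2 = 2 * T.w 0 ∧ T.a 3 1 = 0 ∧ T.a 3 4 = 0 ∧ T.a 2 2 = -4 * T.w 0 ∧ T.a 2 1 = 2 * T.w 0 ∧ T.a 2 4 = 0 ∧ T.a 1 1 = -4 * T.w 0 ∧ T.a 1 4 = 2 * T.w 0 ∧ T.a 4 4 = -2 * T.w 0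
        refine ⟨?_, ?_, ?_, ?_, ?_, ?_, ?_, ?_, ?_, ?_, ?_, ?_, ?_, ?_, ?_, ?_, ?_, ?_, ?_, ?_, ?_, ?_, ?_, ?_, ?_⟩ <;> omega
      · -- 34=(1,1)
        exact False.elim (cert_false T ((skipEmb 2).trans (Function.Embedding.refl _)) (by norm_num) (fun _ => hall _) (((((((LB_zero T ((skipEmb 2).trans (Function.Embedding.refl _))).upd 0 2 2 (le_of_eq hx03)).upd 1 3 1 (le_of_eq hx14)).upd 2 0 1 (le_of_eq hx30)).upd 2 3 1 (le_of_eq hx34)).upd 3 1 2 (le_of_eq hx41)).upd 3 2 1 (le_of_eq hx43)) ![2,1,2,2] (by decide) (by decide) 0 (by decide))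
      · -- 34=(1,2)
        exact False.elim (cert_false T ((skipEmb 2).trans (Function.Embedding.refl _)) (by norm_num) (fun _ => hall _) (((((LB_zero T ((skipEmb 2).trans (Function.Embedding.refl _))).upd 0 2 2 (le_of_eq hx03)).upd 2 0 1 (le_of_eq hx30)).upd 2 3 1 (le_of_eq hx34)).upd 3 2 2 (le_of_eq hx43)) ![1,0,1,1] (by decide) (by decide) 0 (by decide))
      · -- 34=(2,1)
        exact False.elim (cert_false T ((skipEmb 2).trans (Function.Embedding.refl _)) (by norm_num) (fun _ => hall _) (((((LB_zero T ((skipEmb 2).trans (Function.Embedding.refl _))).upd 1 3 1 (le_of_eq hx14)).upd 2 3 2 (le_of_eq hx34)).upd 3 1 2 (le_of_eq hx41)).upd 3 2 1 (le_of_eq hx43)) ![0,1,2,2] (by decide) (by decide) 1 (by decide))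
      · -- 34=(1,3)
        exact False.elim (cert_false T ((skipEmb 2).trans (Function.Embedding.refl _)) (by norm_num) (fun _ => hall _) (((((LB_zero T ((skipEmb 2).trans (Function.Embedding.refl _))).upd 0 2 2 (le_of_eq hx03)).upd 2 0 1 (le_of_eq hx30)).upd 2 3 1 (le_of_eq hx34)).upd 3 2 3 (le_of_eq hx43)) ![1,0,1,1] (by decide) (by decide) 0 (by decide))
      · -- 34=(3,1)
        exact False.elim (cert_false T ((skipEmb 2).trans (Function.Embedding.refl _)) (by norm_num) (fun _ => hall _) (((((LB_zero T ((skipEmb 2).trans (Function.Embedding.refl _))).upd 1 3 1 (le_of_eq hx14)).upd 2 3 3 (le_of_eq hx34)).upd 3 1 2 (le_of_eq hx41)).upd 3 2 1 (le_of_eq hx43)) ![0,1,2,2] (by decide) (by decide) 1 (by decide))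
    · -- 24=(1,1)
      exact False.elim (cert_false T ((skipEmb 3).trans (Function.Embedding.refl _)) (by norm_num) (fun _ => hall _) (((((((LB_zero T ((skipEmb 3).trans (Function.Embedding.refl _))).upd 1 2 1 (le_of_eq hx12)).upd 1 3 1 (le_of_eq hx14)).upd 2 1 1 (le_of_eq hx21)).upd 2 3 1 (le_of_eq hx24)).upd 3 1 2 (le_of_eq hx41)).upd 3 2 1 (le_of_eq hx42)) ![0,1,1,1] (by decide) (by decide) 1 (by decide))
    · -- 24=(1,2)
      exact False.elim (cert_false T ((skipEmb 3).trans (Function.Embedding.refl _)) (by norm_num) (fun _ => hall _) (((((((LB_zero T ((skipEmb 3).trans (Function.Embedding.refl _))).upd 1 2 1 (le_of_eq hx12)).upd 1 3 1 (le_of_eq hx14)).upd 2 1 1 (le_of_eq hx21)).upd 2 3 1 (le_of_eq hx24)).upd 3 1 2 (le_of_eq hx41)).upd 3 2 2 (le_of_eq hx42)) ![0,1,1,1] (by decide) (by decide) 1 (by decide))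
    · -- 24=(2,1)
      exact False.elim (cert_false T ((skipEmb 3).trans (Function.Embedding.refl _)) (by norm_num) (fun _ => hall _) (((((((LB_zero T ((skipEmb 3).trans (Function.Embedding.refl _))).upd 1 2 1 (le_of_eq hx12)).upd 1 3 1 (le_of_eq hx14)).upd 2 1 1 (le_of_eq hx21)).upd 2 3 2 (le_of_eq hx24)).upd 3 1 2 (le_of_eq hx41)).upd 3 2 1 (le_of_eq hx42)) ![0,1,1,1] (by decide) (by decide) 1 (by decide))
    · -- 24=(1,3)
      exact False.elim (cert_false T ((skipEmb 3).trans (Function.Embedding.refl _)) (by norm_num) (fun _ => hall _) (((((((LB_zero T ((skipEmb 3).trans (Function.Embedding.refl _))).upd 1 2 1 (le_of_eq hx12)).upd 1 3 1 (le_of_eq hx14)).upd 2 1 1 (le_of_eq hx21)).upd 2 3 1 (le_of_eq hx24)).upd 3 1 2 (le_of_eq hx41)).upd 3 2 3 (le_of_eq hx42)) ![0,1,1,1] (by decide) (by decide) 1 (by decide))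
    · -- 24=(3,1)
      exact False.elim (cert_false T ((skipEmb 3).trans (Function.Embedding.refl _)) (by norm_num) (fun _ => hall _) (((((((LB_zero T ((skipEmb 3).trans (Function.Embedding.refl _))).upd 1 2 1 (le_of_eq hx12)).upd 1 3 1 (le_of_eq hx14)).upd 2 1 1 (le_of_eq hx21)).upd 2 3 3 (le_of_eq hx24)).upd 3 1 2 (le_of_eq hx41)).upd 3 2 1 (le_of_eq hx42)) ![0,1,1,1] (by decide) (by decide) 1 (by decide))
  · -- 14=(2,1)
    rcases d24 with ⟨rfl, rfl⟩ | ⟨rfl, rfl⟩ | ⟨rfl, rfl⟩ | ⟨rfl, rfl⟩ | ⟨rfl, rfl⟩ | ⟨rfl, rfl⟩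
    · -- 24=(0,0)
      rcases d34 with ⟨rfl, rfl⟩ | ⟨rfl, rfl⟩ | ⟨rfl, rfl⟩ | ⟨rfl, rfl⟩ | ⟨rfl, rfl⟩ | ⟨rfl, rfl⟩
      · -- 34=(0,0)
        refine ⟨(⟨![0, 3, 2, 1, 4], ![0, 3, 2, 1, 4], by decide, by decide⟩ : Equiv.Perm (Fin 5)), T.m 4, T.w 0, Or.inr (Or.inr (Or.inr (Or.inl ?_)))⟩
        show T.m 0 = 2 * T.m 4 ∧ T.m 3 = 2 * T.m 4 ∧ T.m 2 = 2 * T.m 4 ∧ T.m 1 = 2 * T.m 4 ∧ T.m 4 = T.m 4 ∧ T.w 0 = T.w 0 ∧ T.w 3 = 2 * T.w 0 ∧ T.w 2 = 2 * T.w 0 ∧ T.w 1 = 2 * T.w 0 ∧ T.w 4 = 4 * T.w 0 ∧ T.a 0 0 = -2 * T.w 0 ∧ T.a 0 3 = 2 * T.w 0 ∧ T.a 0 2 = 0 ∧ T.a 0 1 = 0 ∧ T.a 0 4 = 0 ∧ T.a 3 3 = -4 * T.w 0 ∧ T.a 3 2 = 2 * T.w 0 ∧ T.a 3 1 = 0 ∧ T.a 3 4 = 0 ∧ T.a 2 2 = -4 * T.w 0 ∧ T.a 2 1 = 2 * T.w 0 ∧ T.a 2 4 = 0 ∧ T.a 1 1 = -4 * T.w 0 ∧ T.a 1 4 = 4 * T.w 0 ∧ T.a 4 4 = -8 * T.w 0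
        refine ⟨?_, ?_, ?_, ?_, ?_, ?_, ?_, ?_, ?_, ?_, ?_, ?_, ?_, ?_, ?_, ?_, ?_, ?_, ?_, ?_, ?_, ?_, ?_, ?_, ?_⟩ <;> omega
      · -- 34=(1,1)
        exact False.elim (cert_false T ((skipEmb 2).trans (Function.Embedding.refl _)) (by norm_num) (fun _ => hall _) (((((((LB_zero T ((skipEmb 2).trans (Function.Embedding.refl _))).upd 0 2 2 (le_of_eq hx03)).upd 1 3 2 (le_of_eq hx14)).upd 2 0 1 (le_of_eq hx30)).upd 2 3 1 (le_of_eq hx34)).upd 3 1 1 (le_of_eq hx41)).upd 3 2 1 (le_of_eq hx43)) ![1,1,1,1] (by decide) (by decide) 0 (by decide))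
      · -- 34=(1,2)
        exact False.elim (cert_false T ((skipEmb 2).trans (Function.Embedding.refl _)) (by norm_num) (fun _ => hall _) (((((LB_zero T ((skipEmb 2).trans (Function.Embedding.refl _))).upd 0 2 2 (le_of_eq hx03)).upd 2 0 1 (le_of_eq hx30)).upd 2 3 1 (le_of_eq hx34)).upd 3 2 2 (le_of_eq hx43)) ![1,0,1,1] (by decide) (by decide) 0 (by decide))
      · -- 34=(2,1)
        exact False.elim (cert_false T ((skipEmb 2).trans (Function.Embedding.refl _)) (by norm_num) (fun _ => hall _) (((((LB_zero T ((skipEmb 2).trans (Function.Embedding.refl _))).upd 1 3 2 (le_of_eq hx14)).upd 2 3 2 (le_of_eq hx34)).upd 3 1 1 (le_of_eq hx41)).upd 3 2 1 (le_of_eq hx43)) ![0,1,1,1] (by decide) (by decide) 1 (by decide))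
      · -- 34=(1,3)
        exact False.elim (cert_false T ((skipEmb 2).trans (Function.Embedding.refl _)) (by norm_num) (fun _ => hall _) (((((LB_zero T ((skipEmb 2).trans (Function.Embedding.refl _))).upd 0 2 2 (le_of_eq hx03)).upd 2 0 1 (le_of_eq hx30)).upd 2 3 1 (le_of_eq hx34)).upd 3 2 3 (le_of_eq hx43)) ![1,0,1,1] (by decide) (by decide) 0 (by decide))
      · -- 34=(3,1)
        exact False.elim (cert_false T ((skipEmb 2).trans (Function.Embedding.refl _)) (by norm_num) (fun _ => hall _) (((((LB_zero T ((skipEmb 2).trans (Function.Embedding.refl _))).upd 1 3 2 (le_of_eq hx14)).upd 2 3 3 (le_of_eq hx34)).upd 3 1 1 (le_of_eq hx41)).upd 3 2 1 (le_of_eq hx43)) ![0,1,1,1] (by decide) (by decide) 1 (by decide))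
    · -- 24=(1,1)
      exact False.elim (cert_false T ((skipEmb 3).trans (Function.Embedding.refl _)) (by norm_num) (fun _ => hall _) (((((((LB_zero T ((skipEmb 3).trans (Function.Embedding.refl _))).upd 1 2 1 (le_of_eq hx12)).upd 1 3 2 (le_of_eq hx14)).upd 2 1 1 (le_of_eq hx21)).upd 2 3 1 (le_of_eq hx24)).upd 3 1 1 (le_of_eq hx41)).upd 3 2 1 (le_of_eq hx42)) ![0,1,1,1] (by decide) (by decide) 1 (by decide))
    · -- 24=(1,2)
      exact False.elim (cert_false T ((skipEmb 3).trans (Function.Embedding.refl _)) (by norm_num) (fun _ => hall _) (((((((LB_zero T ((skipEmb 3).trans (Function.Embedding.refl _))).upd 1 2 1 (le_of_eq hx12)).upd 1 3 2 (le_of_eq hx14)).upd 2 1 1 (le_of_eq hx21)).upd 2 3 1 (le_of_eq hx24)).upd 3 1 1 (le_of_eq hx41)).upd 3 2 2 (le_of_eq hx42)) ![0,1,1,1] (by decide) (by decide) 1 (by decide))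
    · -- 24=(2,1)
      exact False.elim (cert_false T ((skipEmb 3).trans (Function.Embedding.refl _)) (by norm_num) (fun _ => hall _) (((((((LB_zero T ((skipEmb 3).trans (Function.Embedding.refl _))).upd 1 2 1 (le_of_eq hx12)).upd 1 3 2 (le_of_eq hx14)).upd 2 1 1 (le_of_eq hx21)).upd 2 3 2 (le_of_eq hx24)).upd 3 1 1 (le_of_eq hx41)).upd 3 2 1 (le_of_eq hx42)) ![0,1,1,1] (by decide) (by decide) 1 (by decide))
    · -- 24=(1,3)
      exact False.elim (cert_false T ((skipEmb 3).trans (Function.Embedding.refl _)) (by norm_num) (fun _ => hall _) (((((((LB_zero T ((skipEmb 3).trans (Function.Embedding.refl _))).upd 1 2 1 (le_of_eq hx12)).upd 1 3 2 (le_of_eq hx14)).upd 2 1 1 (le_of_eq hx21)).upd 2 3 1 (le_of_eq hx24)).upd 3 1 1 (le_of_eq hx41)).upd 3 2 3 (le_of_eq hx42)) ![0,1,1,1] (by decide) (by decide) 1 (by decide))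
    · -- 24=(3,1)
      exact False.elim (cert_false T ((skipEmb 3).trans (Function.Embedding.refl _)) (by norm_num) (fun _ => hall _) (((((((LB_zero T ((skipEmb 3).trans (Function.Embedding.refl _))).upd 1 2 1 (le_of_eq hx12)).upd 1 3 2 (le_of_eq hx14)).upd 2 1 1 (le_of_eq hx21)).upd 2 3 3 (le_of_eq hx24)).upd 3 1 1 (le_of_eq hx41)).upd 3 2 1 (le_of_eq hx42)) ![0,1,1,1] (by decide) (by decide) 1 (by decide))
  · -- 14=(1,3)
    exact False.elim (cert_false T ((skipEmb 3).trans (Function.Embedding.refl _)) (by norm_num) (fun _ => hall _) (((((LB_zero T ((skipEmb 3).trans (Function.Embedding.refl _))).upd 1 2 1 (le_of_eq hx12)).upd 1 3 1 (le_of_eq hx14)).upd 2 1 1 (le_of_eq hx21)).upd 3 1 3 (le_of_eq hx41)) ![0,2,1,3] (by decide) (by decide) 1 (by decide))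
  · -- 14=(3,1)
    exact False.elim (cert_false T ((skipEmb 3).trans (Function.Embedding.refl _)) (by norm_num) (fun _ => hall _) (((((LB_zero T ((skipEmb 3).trans (Function.Embedding.refl _))).upd 1 2 1 (le_of_eq hx12)).upd 1 3 3 (le_of_eq hx14)).upd 2 1 1 (le_of_eq hx21)).upd 3 1 1 (le_of_eq hx41)) ![0,2,1,1] (by decide) (by decide) 1 (by decide))

theorem case132 (T : NumericalType 5) (hall : ∀ i, T.IsMinusTwo i) (d : SData T)
    (h01 : N T (Function.Embedding.refl _) 0 1 = 0) (h10 : N T (Function.Embedding.refl _) 1 0 = 0)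
    (h02 : N T (Function.Embedding.refl _) 0 2 = 0) (h20 : N T (Function.Embedding.refl _) 2 0 = 0)
    (h12 : N T (Function.Embedding.refl _) 1 2 = 1) (h21 : N T (Function.Embedding.refl _) 2 1 = 1)
    (h03 : N T (Function.Embedding.refl _) 0 3 = 2) (h30 : N T (Function.Embedding.refl _) 3 0 = 1)
    (h13 : N T (Function.Embedding.refl _) 1 3 = 0) (h31 : N T (Function.Embedding.refl _) 3 1 = 0)
    (h23 : N T (Function.Embedding.refl _) 2 3 = 1) (h32 : N T (Function.Embedding.refl _) 3 2 = 1) :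
    Goal T := by
  unfold Goal
  have hd := d
  obtain ⟨x01, x02, x03, x04, x10, x12, x13, x14, x20, x21, x23, x24, x30, x31, x32, x34, x40, x41, x42, x43, hx01, hx02, hx03, hx04, hx10, hx12, hx13, hx14, hx20, hx21, hx23, hx24, hx30, hx31, hx32, hx34, hx40, hx41, hx42, hx43, hw0, hm0, hw1, hm1, hw2, hm2, hw3, hm3, hw4, hm4, a00, a01, a02, a03, a04, a11, a10, a12, a13, a14, a22, a20, a21, a23, a24, a33, a30, a31, a32, a34, a44, a40, a41, a42, a43, wN01, wN02, wN12, wN03, wN13, wN23, wN04, wN14, wN24, wN34, e0, e1, e2, e3, e4, d01, d02, d12, d03, d13, d23, d04, d14, d24, d34⟩ := d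
  obtain rfl : x01 = 0 := hx01.trans h01
  obtain rfl : x10 = 0 := hx10.trans h10
  obtain rfl : x02 = 0 := hx02.trans h02
  obtain rfl : x20 = 0 := hx20.trans h20
  obtain rfl : x12 = 1 := hx12.trans h12
  obtain rfl : x21 = 1 := hx21.trans h21
  obtain rfl : x03 = 2 := hx03.trans h03
  obtain rfl : x30 = 1 := hx30.trans h30
  obtain rfl : x13 = 0 := hx13.trans h13
  obtain rfl : x31 = 0 := hx31.trans h31
  obtain rfl : x23 = 1 := hx23.trans h23
  obtain rfl : x32 = 1 := hx32.trans h32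
  rcases d04 with ⟨rfl, rfl⟩ | ⟨rfl, rfl⟩ | ⟨rfl, rfl⟩ | ⟨rfl, rfl⟩ | ⟨rfl, rfl⟩ | ⟨rfl, rfl⟩
  · -- 04=(0,0)
    exact case133 T hall hd hx01.symm hx10.symm hx02.symm hx20.symm hx12.symm hx21.symm hx03.symm hx30.symm hx13.symm hx31.symm hx23.symm hx32.symm hx04.symm hx40.symm
  · -- 04=(1,1)
    rcases d14 with ⟨rfl, rfl⟩ | ⟨rfl, rfl⟩ | ⟨rfl, rfl⟩ | ⟨rfl, rfl⟩ | ⟨rfl, rfl⟩ | ⟨rfl, rfl⟩
    · -- 14=(0,0)
      rcases d24 with ⟨rfl, rfl⟩ | ⟨rfl, rfl⟩ | ⟨rfl, rfl⟩ | ⟨rfl, rfl⟩ | ⟨rfl, rfl⟩ | ⟨rfl, rfl⟩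
      · -- 24=(0,0)
        rcases d34 with ⟨rfl, rfl⟩ | ⟨rfl, rfl⟩ | ⟨rfl, rfl⟩ | ⟨rfl, rfl⟩ | ⟨rfl, rfl⟩ | ⟨rfl, rfl⟩
        · -- 34=(0,0)
          refine ⟨(⟨![1, 2, 3, 0, 4], ![3, 0, 1, 2, 4], by decide, by decide⟩ : Equiv.Perm (Fin 5)), T.m 1, T.w 0, Or.inr (Or.inr (Or.inl ?_))⟩
          show T.m 1 = T.m 1 ∧ T.m 2 = 2 * T.m 1 ∧ T.m 3 = 3 * T.m 1 ∧ T.m 0 = 4 * T.m 1 ∧ T.m 4 = 2 * T.m 1 ∧ T.w 1 = 2 * T.w 0 ∧ T.w 2 = 2 * T.w 0 ∧ T.w 3 = 2 * T.w 0 ∧ T.w 0 = T.w 0 ∧ T.w 4 = T.w 0 ∧ T.a 1 1 = -4 * T.w 0 ∧ T.a 1 2 = 2 * T.w 0 ∧ T.a 1 3 = 0 ∧ T.a 1 0 = 0 ∧ T.a 1 4 = 0 ∧ T.a 2 2 = -4 * T.w 0 ∧ T.a 2 3 = 2 * T.w 0 ∧ T.a 2 0 = 0 ∧ T.a 2 4 = 0 ∧ T.a 3 3 = -4 * T.w 0 ∧ T.a 3 0 = 2 * T.w 0 ∧ T.a 3 4 = 0 ∧ T.a 0 0 = -2 * T.w 0 ∧ T.a 0 4 = T.w 0 ∧ T.a 4 4 = -2 * T.w 0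
          refine ⟨?_, ?_, ?_, ?_, ?_, ?_, ?_, ?_, ?_, ?_, ?_, ?_, ?_, ?_, ?_, ?_, ?_, ?_, ?_, ?_, ?_, ?_, ?_, ?_, ?_⟩ <;> omega
        · -- 34=(1,1)
          exact False.elim (cert_false T ((skipEmb 2).trans (Function.Embedding.refl _)) (by norm_num) (fun _ => hall _) (((((((LB_zero T ((skipEmb 2).trans (Function.Embedding.refl _))).upd 0 2 2 (le_of_eq hx03)).upd 0 3 1 (le_of_eq hx04)).upd 2 0 1 (le_of_eq hx30)).upd 2 3 1 (le_of_eq hx34)).upd 3 0 1 (le_of_eq hx40)).upd 3 2 1 (le_of_eq hx43)) ![1,0,1,1] (by decide) (by decide) 0 (by decide))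
        · -- 34=(1,2)
          exact False.elim (cert_false T ((skipEmb 2).trans (Function.Embedding.refl _)) (by norm_num) (fun _ => hall _) (((((((LB_zero T ((skipEmb 2).trans (Function.Embedding.refl _))).upd 0 2 2 (le_of_eq hx03)).upd 0 3 1 (le_of_eq hx04)).upd 2 0 1 (le_of_eq hx30)).upd 2 3 1 (le_of_eq hx34)).upd 3 0 1 (le_of_eq hx40)).upd 3 2 2 (le_of_eq hx43)) ![1,0,1,1] (by decide) (by decide) 0 (by decide))
        · -- 34=(2,1)
          exact False.elim (cert_false T ((skipEmb 2).trans (Function.Embedding.refl _)) (by norm_num) (fun _ => hall _) (((((((LB_zero T ((skipEmb 2).trans (Function.Embedding.refl _))).upd 0 2 2 (le_of_eq hx03)).upd 0 3 1 (le_of_eq hx04)).upd 2 0 1 (le_of_eq hx30)).upd 2 3 2 (le_of_eq hx34)).upd 3 0 1 (le_of_eq hx40)).upd 3 2 1 (le_of_eq hx43)) ![1,0,1,1] (by decide) (by decide) 0 (by decide))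
        · -- 34=(1,3)
          exact False.elim (cert_false T ((skipEmb 2).trans (Function.Embedding.refl _)) (by norm_num) (fun _ => hall _) (((((((LB_zero T ((skipEmb 2).trans (Function.Embedding.refl _))).upd 0 2 2 (le_of_eq hx03)).upd 0 3 1 (le_of_eq hx04)).upd 2 0 1 (le_of_eq hx30)).upd 2 3 1 (le_of_eq hx34)).upd 3 0 1 (le_of_eq hx40)).upd 3 2 3 (le_of_eq hx43)) ![1,0,1,1] (by decide) (by decide) 0 (by decide))
        · -- 34=(3,1)
          exact False.elim (cert_false T ((skipEmb 2).trans (Function.Embedding.refl _)) (by norm_num) (fun _ => hall _) (((((((LB_zero T ((skipEmb 2).trans (Function.Embedding.refl _))).upd 0 2 2 (le_of_eq hx03)).upd 0 3 1 (le_of_eq hx04)).upd 2 0 1 (le_of_eq hx30)).upd 2 3 3 (le_of_eq hx34)).upd 3 0 1 (le_of_eq hx40)).upd 3 2 1 (le_of_eq hx43)) ![1,0,1,1] (by decide) (by decide) 0 (by decide))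
      · -- 24=(1,1)
        exact False.elim (cert_false T ((skipEmb 1).trans (Function.Embedding.refl _)) (by norm_num) (fun _ => hall _) (((((((((LB_zero T ((skipEmb 1).trans (Function.Embedding.refl _))).upd 0 2 2 (le_of_eq hx03)).upd 0 3 1 (le_of_eq hx04)).upd 1 2 1 (le_of_eq hx23)).upd 1 3 1 (le_of_eq hx24)).upd 2 0 1 (le_of_eq hx30)).upd 2 1 1 (le_of_eq hx32)).upd 3 0 1 (le_of_eq hx40)).upd 3 1 1 (le_of_eq hx42)) ![1,1,1,1] (by decide) (by decide) 0 (by decide))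
      · -- 24=(1,2)
        exact False.elim (cert_false T ((skipEmb 1).trans (Function.Embedding.refl _)) (by norm_num) (fun _ => hall _) (((((((((LB_zero T ((skipEmb 1).trans (Function.Embedding.refl _))).upd 0 2 2 (le_of_eq hx03)).upd 0 3 1 (le_of_eq hx04)).upd 1 2 1 (le_of_eq hx23)).upd 1 3 1 (le_of_eq hx24)).upd 2 0 1 (le_of_eq hx30)).upd 2 1 1 (le_of_eq hx32)).upd 3 0 1 (le_of_eq hx40)).upd 3 1 2 (le_of_eq hx42)) ![1,1,1,1] (by decide) (by decide) 0 (by decide))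
      · -- 24=(2,1)
        exact False.elim (cert_false T ((skipEmb 1).trans (Function.Embedding.refl _)) (by norm_num) (fun _ => hall _) (((((((((LB_zero T ((skipEmb 1).trans (Function.Embedding.refl _))).upd 0 2 2 (le_of_eq hx03)).upd 0 3 1 (le_of_eq hx04)).upd 1 2 1 (le_of_eq hx23)).upd 1 3 2 (le_of_eq hx24)).upd 2 0 1 (le_of_eq hx30)).upd 2 1 1 (le_of_eq hx32)).upd 3 0 1 (le_of_eq hx40)).upd 3 1 1 (le_of_eq hx42)) ![1,1,1,1] (by decide) (by decide) 0 (by decide))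
      · -- 24=(1,3)
        exact False.elim (cert_false T ((skipEmb 3).trans (Function.Embedding.refl _)) (by norm_num) (fun _ => hall _) (((((LB_zero T ((skipEmb 3).trans (Function.Embedding.refl _))).upd 0 3 1 (le_of_eq hx04)).upd 2 3 1 (le_of_eq hx24)).upd 3 0 1 (le_of_eq hx40)).upd 3 2 3 (le_of_eq hx42)) ![1,0,1,2] (by decide) (by decide) 0 (by decide))
      · -- 24=(3,1)
        exact False.elim (cert_false T ((skipEmb 3).trans (Function.Embedding.refl _)) (by norm_num) (fun _ => hall _) (((((LB_zero T ((skipEmb 3).trans (Function.Embedding.refl _))).upd 1 2 1 (le_of_eq hx12)).upd 2 1 1 (le_of_eq hx21)).upd 2 3 3 (le_of_eq hx24)).upd 3 2 1 (le_of_eq hx42)) ![0,1,2,1] (by decide) (by decide) 1 (by decide))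
    · -- 14=(1,1)
      rcases d24 with ⟨rfl, rfl⟩ | ⟨rfl, rfl⟩ | ⟨rfl, rfl⟩ | ⟨rfl, rfl⟩ | ⟨rfl, rfl⟩ | ⟨rfl, rfl⟩
      · -- 24=(0,0)
        rcases d34 with ⟨rfl, rfl⟩ | ⟨rfl, rfl⟩ | ⟨rfl, rfl⟩ | ⟨rfl, rfl⟩ | ⟨rfl, rfl⟩ | ⟨rfl, rfl⟩
        · -- 34=(0,0)
          exfalso; omega
        · -- 34=(1,1)
          exact False.elim (cert_false T ((skipEmb 2).trans (Function.Embedding.refl _)) (by norm_num) (fun _ => hall _) (((((((LB_zero T ((skipEmb 2).trans (Function.Embedding.refl _))).upd 0 2 2 (le_of_eq hx03)).upd 0 3 1 (le_of_eq hx04)).upd 2 0 1 (le_of_eq hx30)).upd 2 3 1 (le_of_eq hx34)).upd 3 0 1 (le_of_eq hx40)).upd 3 2 1 (le_of_eq hx43)) ![1,0,1,1] (by decide) (by decide) 0 (by decide))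
        · -- 34=(1,2)
          exact False.elim (cert_false T ((skipEmb 2).trans (Function.Embedding.refl _)) (by norm_num) (fun _ => hall _) (((((((LB_zero T ((skipEmb 2).trans (Function.Embedding.refl _))).upd 0 2 2 (le_of_eq hx03)).upd 0 3 1 (le_of_eq hx04)).upd 2 0 1 (le_of_eq hx30)).upd 2 3 1 (le_of_eq hx34)).upd 3 0 1 (le_of_eq hx40)).upd 3 2 2 (le_of_eq hx43)) ![1,0,1,1] (by decide) (by decide) 0 (by decide))
        · -- 34=(2,1)
          exact False.elim (cert_false T ((skipEmb 2).trans (Function.Embedding.refl _)) (by norm_num) (fun _ => hall _) (((((((LB_zero T ((skipEmb 2).trans (Function.Embedding.refl _))).upd 0 2 2 (le_of_eq hx03)).upd 0 3 1 (le_of_eq hx04)).upd 2 0 1 (le_of_eq hx30)).upd 2 3 2 (le_of_eq hx34)).upd 3 0 1 (le_of_eq hx40)).upd 3 2 1 (le_of_eq hx43)) ![1,0,1,1] (by decide) (by decide) 0 (by decide))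
        · -- 34=(1,3)
          exact False.elim (cert_false T ((skipEmb 2).trans (Function.Embedding.refl _)) (by norm_num) (fun _ => hall _) (((((((LB_zero T ((skipEmb 2).trans (Function.Embedding.refl _))).upd 0 2 2 (le_of_eq hx03)).upd 0 3 1 (le_of_eq hx04)).upd 2 0 1 (le_of_eq hx30)).upd 2 3 1 (le_of_eq hx34)).upd 3 0 1 (le_of_eq hx40)).upd 3 2 3 (le_of_eq hx43)) ![1,0,1,1] (by decide) (by decide) 0 (by decide))
        · -- 34=(3,1)
          exact False.elim (cert_false T ((skipEmb 2).trans (Function.Embedding.refl _)) (by norm_num) (fun _ => hall _) (((((((LB_zero T ((skipEmb 2).trans (Function.Embedding.refl _))).upd 0 2 2 (le_of_eq hx03)).upd 0 3 1 (le_of_eq hx04)).upd 2 0 1 (le_of_eq hx30)).upd 2 3 3 (le_of_eq hx34)).upd 3 0 1 (le_of_eq hx40)).upd 3 2 1 (le_of_eq hx43)) ![1,0,1,1] (by decide) (by decide) 0 (by decide))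
      · -- 24=(1,1)
        exact False.elim (cert_false T ((skipEmb 3).trans (Function.Embedding.refl _)) (by norm_num) (fun _ => hall _) (((((((LB_zero T ((skipEmb 3).trans (Function.Embedding.refl _))).upd 1 2 1 (le_of_eq hx12)).upd 1 3 1 (le_of_eq hx14)).upd 2 1 1 (le_of_eq hx21)).upd 2 3 1 (le_of_eq hx24)).upd 3 1 1 (le_of_eq hx41)).upd 3 2 1 (le_of_eq hx42)) ![0,1,1,1] (by decide) (by decide) 1 (by decide))
      · -- 24=(1,2)
        exact False.elim (cert_false T ((skipEmb 3).trans (Function.Embedding.refl _)) (by norm_num) (fun _ => hall _) (((((((LB_zero T ((skipEmb 3).trans (Function.Embedding.refl _))).upd 1 2 1 (le_of_eq hx12)).upd 1 3 1 (le_of_eq hx14)).upd 2 1 1 (le_of_eq hx21)).upd 2 3 1 (le_of_eq hx24)).upd 3 1 1 (le_of_eq hx41)).upd 3 2 2 (le_of_eq hx42)) ![0,1,1,1] (by decide) (by decide) 1 (by decide))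
      · -- 24=(2,1)
        exact False.elim (cert_false T ((skipEmb 3).trans (Function.Embedding.refl _)) (by norm_num) (fun _ => hall _) (((((((LB_zero T ((skipEmb 3).trans (Function.Embedding.refl _))).upd 1 2 1 (le_of_eq hx12)).upd 1 3 1 (le_of_eq hx14)).upd 2 1 1 (le_of_eq hx21)).upd 2 3 2 (le_of_eq hx24)).upd 3 1 1 (le_of_eq hx41)).upd 3 2 1 (le_of_eq hx42)) ![0,1,1,1] (by decide) (by decide) 1 (by decide))
      · -- 24=(1,3)
        exact False.elim (cert_false T ((skipEmb 3).trans (Function.Embedding.refl _)) (by norm_num) (fun _ => hall _) (((((((LB_zero T ((skipEmb 3).trans (Function.Embedding.refl _))).upd 1 2 1 (le_of_eq hx12)).upd 1 3 1 (le_of_eq hx14)).upd 2 1 1 (le_of_eq hx21)).upd 2 3 1 (le_of_eq hx24)).upd 3 1 1 (le_of_eq hx41)).upd 3 2 3 (le_of_eq hx42)) ![0,1,1,1] (by decide) (by decide) 1 (by decide))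
      · -- 24=(3,1)
        exact False.elim (cert_false T ((skipEmb 3).trans (Function.Embedding.refl _)) (by norm_num) (fun _ => hall _) (((((((LB_zero T ((skipEmb 3).trans (Function.Embedding.refl _))).upd 1 2 1 (le_of_eq hx12)).upd 1 3 1 (le_of_eq hx14)).upd 2 1 1 (le_of_eq hx21)).upd 2 3 3 (le_of_eq hx24)).upd 3 1 1 (le_of_eq hx41)).upd 3 2 1 (le_of_eq hx42)) ![0,1,1,1] (by decide) (by decide) 1 (by decide))
    · -- 14=(1,2)
      exact False.elim (cert_false T ((skipEmb 2).trans (Function.Embedding.refl _)) (by norm_num) (fun _ => hall _) (((((((LB_zero T ((skipEmb 2).trans (Function.Embedding.refl _))).upd 0 2 2 (le_of_eq hx03)).upd 0 3 1 (le_of_eq hx04)).upd 1 3 1 (le_of_eq hx14)).upd 2 0 1 (le_of_eq hx30)).upd 3 0 1 (le_of_eq hx40)).upd 3 1 2 (le_of_eq hx41)) ![2,1,1,2] (by decide) (by decide) 0 (by decide))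
    · -- 14=(2,1)
      exact False.elim (cert_false T ((skipEmb 2).trans (Function.Embedding.refl _)) (by norm_num) (fun _ => hall _) (((((((LB_zero T ((skipEmb 2).trans (Function.Embedding.refl _))).upd 0 2 2 (le_of_eq hx03)).upd 0 3 1 (le_of_eq hx04)).upd 1 3 2 (le_of_eq hx14)).upd 2 0 1 (le_of_eq hx30)).upd 3 0 1 (le_of_eq hx40)).upd 3 1 1 (le_of_eq hx41)) ![2,2,1,2] (by decide) (by decide) 0 (by decide))
    · -- 14=(1,3)
      exact False.elim (cert_false T ((skipEmb 3).trans (Function.Embedding.refl _)) (by norm_num) (fun _ => hall _) (((((LB_zero T ((skipEmb 3).trans (Function.Embedding.refl _))).upd 0 3 1 (le_of_eq hx04)).upd 1 3 1 (le_of_eq hx14)).upd 3 0 1 (le_of_eq hx40)).upd 3 1 3 (le_of_eq hx41)) ![1,1,0,2] (by decide) (by decide) 0 (by decide))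
    · -- 14=(3,1)
      exact False.elim (cert_false T ((skipEmb 3).trans (Function.Embedding.refl _)) (by norm_num) (fun _ => hall _) (((((LB_zero T ((skipEmb 3).trans (Function.Embedding.refl _))).upd 1 2 1 (le_of_eq hx12)).upd 1 3 3 (le_of_eq hx14)).upd 2 1 1 (le_of_eq hx21)).upd 3 1 1 (le_of_eq hx41)) ![0,2,1,1] (by decide) (by decide) 1 (by decide))
  · -- 04=(1,2)
    exact False.elim (cert_false T ((skipEmb 2).trans (Function.Embedding.refl _)) (by norm_num) (fun _ => hall _) (((((LB_zero T ((skipEmb 2).trans (Function.Embedding.refl _))).upd 0 2 2 (le_of_eq hx03)).upd 0 3 1 (le_of_eq hx04)).upd 2 0 1 (le_of_eq hx30)).upd 3 0 2 (le_of_eq hx40)) ![2,0,1,2] (by decide) (by decide) 0 (by decide))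
  · -- 04=(2,1)
    exact False.elim (cert_false T ((skipEmb 2).trans (Function.Embedding.refl _)) (by norm_num) (fun _ => hall _) (((((LB_zero T ((skipEmb 2).trans (Function.Embedding.refl _))).upd 0 2 2 (le_of_eq hx03)).upd 0 3 2 (le_of_eq hx04)).upd 2 0 1 (le_of_eq hx30)).upd 3 0 1 (le_of_eq hx40)) ![2,0,1,1] (by decide) (by decide) 0 (by decide))
  · -- 04=(1,3)
    exact False.elim (cert_false T ((skipEmb 2).trans (Function.Embedding.refl _)) (by norm_num) (fun _ => hall _) (((((LB_zero T ((skipEmb 2).trans (Function.Embedding.refl _))).upd 0 2 2 (le_of_eq hx03)).upd 0 3 1 (le_of_eq hx04)).upd 2 0 1 (le_of_eq hx30)).upd 3 0 3 (le_of_eq hx40)) ![2,0,1,2] (by decide) (by decide) 0 (by decide))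
  · -- 04=(3,1)
    exact False.elim (cert_false T ((skipEmb 2).trans (Function.Embedding.refl _)) (by norm_num) (fun _ => hall _) (((((LB_zero T ((skipEmb 2).trans (Function.Embedding.refl _))).upd 0 2 2 (le_of_eq hx03)).upd 0 3 3 (le_of_eq hx04)).upd 2 0 1 (le_of_eq hx30)).upd 3 0 1 (le_of_eq hx40)) ![2,0,1,1] (by decide) (by decide) 0 (by decide))

theorem case129 (T : NumericalType 5) (hall : ∀ i, T.IsMinusTwo i) (d : SData T)
    (h01 : N T (Function.Embedding.refl _) 0 1 = 0) (h10 : N T (Function.Embedding.refl _) 1 0 = 0)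
    (h02 : N T (Function.Embedding.refl _) 0 2 = 0) (h20 : N T (Function.Embedding.refl _) 2 0 = 0)
    (h12 : N T (Function.Embedding.refl _) 1 2 = 1) (h21 : N T (Function.Embedding.refl _) 2 1 = 1)
    (h03 : N T (Function.Embedding.refl _) 0 3 = 2) (h30 : N T (Function.Embedding.refl _) 3 0 = 1)
    (h13 : N T (Function.Embedding.refl _) 1 3 = 0) (h31 : N T (Function.Embedding.refl _) 3 1 = 0) :
    Goal T := by
  unfold Goal
  have hd := d
  obtain ⟨x01, x02, x03, x04, x10, x12, x13, x14, x20, x21, x23, x24, x30, x31, x32, x34, x40, x41, x42, x43, hx01, hx02, hx03, hx04, hx10, hx12, hx13, hx14, hx20, hx21, hx23, hx24, hx30, hx31, hx32, hx34, hx40, hx41, hx42, hx43, hw0, hm0, hw1, hm1, hw2, hm2, hw3, hm3, hw4, hm4, a00, a01, a02, a03, a04, a11, a10, a12, a13, a14, a22, a20, a21, a23, a24, a33, a30, a31, a32, a34, a44, a40, a41, a42, a43, wN01, wN02, wN12, wN03, wN13, wN23, wN04, wN14, wN24, wN34, e0, e1, e2, e3,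 e4, d01, d02, d12, d03, d13, d23, d04, d14, d24, d34⟩ := d
  obtain rfl : x01 = 0 := hx01.trans h01
  obtain rfl : x10 = 0 := hx10.trans h10
  obtain rfl : x02 = 0 := hx02.trans h02
  obtain rfl : x20 = 0 := hx20.trans h20
  obtain rfl : x12 = 1 := hx12.trans h12
  obtain rfl : x21 = 1 := hx21.trans h21
  obtain rfl : x03 = 2 := hx03.trans h03
  obtain rfl : x30 = 1 := hx30.trans h30
  obtain rfl : x13 = 0 := hx13.trans h13
  obtain rfl : x31 = 0 := hx31.trans h31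
  rcases d23 with ⟨rfl, rfl⟩ | ⟨rfl, rfl⟩ | ⟨rfl, rfl⟩ | ⟨rfl, rfl⟩ | ⟨rfl, rfl⟩ | ⟨rfl, rfl⟩
  · -- 23=(0,0)
    exact case130 T hall hd hx01.symm hx10.symm hx02.symm hx20.symm hx12.symm hx21.symm hx03.symm hx30.symm hx13.symm hx31.symm hx23.symm hx32.symm
  · -- 23=(1,1)
    exact case132 T hall hd hx01.symm hx10.symm hx02.symm hx20.symm hx12.symm hx21.symm hx03.symm hx30.symm hx13.symm hx31.symm hx23.symm hx32.symm
  · -- 23=(1,2)
    exact False.elim (cert_false T ((skipEmb 4).trans (Function.Embedding.refl _)) (by norm_num) (fun _ => hall _) (((((LB_zero T ((skipEmb 4).trans (Function.Embedding.refl _))).upd 0 3 2 (le_of_eq hx03)).upd 2 3 1 (le_of_eq hx23)).upd 3 0 1 (le_of_eq hx30)).upd 3 2 2 (le_of_eq hx32)) ![2,0,1,2] (by decide) (by decide) 0 (by decide))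
  · -- 23=(2,1)
    exact False.elim (cert_false T ((skipEmb 4).trans (Function.Embedding.refl _)) (by norm_num) (fun _ => hall _) (((((LB_zero T ((skipEmb 4).trans (Function.Embedding.refl _))).upd 0 3 2 (le_of_eq hx03)).upd 2 3 2 (le_of_eq hx23)).upd 3 0 1 (le_of_eq hx30)).upd 3 2 1 (le_of_eq hx32)) ![1,0,1,1] (by decide) (by decide) 0 (by decide))
  · -- 23=(1,3)
    exact False.elim (cert_false T ((skipEmb 4).trans (Function.Embedding.refl _)) (by norm_num) (fun _ => hall _) (((((LB_zero T ((skipEmb 4).trans (Function.Embedding.refl _))).upd 0 3 2 (le_of_eq hx03)).upd 2 3 1 (le_of_eq hx23)).upd 3 0 1 (le_of_eq hx30)).upd 3 2 3 (le_of_eq hx32)) ![1,0,1,2] (by decide) (by decide) 0 (by decide))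
  · -- 23=(3,1)
    exact False.elim (cert_false T ((skipEmb 4).trans (Function.Embedding.refl _)) (by norm_num) (fun _ => hall _) (((((LB_zero T ((skipEmb 4).trans (Function.Embedding.refl _))).upd 0 3 2 (le_of_eq hx03)).upd 2 3 3 (le_of_eq hx23)).upd 3 0 1 (le_of_eq hx30)).upd 3 2 1 (le_of_eq hx32)) ![1,0,1,1] (by decide) (by decide) 0 (by decide))

theorem case178 (T : NumericalType 5) (hall : ∀ i, T.IsMinusTwo i) (d : SData T)
    (h01 : N T (Function.Embedding.refl _) 0 1 = 0) (h10 : N T (Function.Embedding.refl _) 1 0 = 0)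
    (h02 : N T (Function.Embedding.refl _) 0 2 = 0) (h20 : N T (Function.Embedding.refl _) 2 0 = 0)
    (h12 : N T (Function.Embedding.refl _) 1 2 = 2) (h21 : N T (Function.Embedding.refl _) 2 1 = 1)
    (h03 : N T (Function.Embedding.refl _) 0 3 = 1) (h30 : N T (Function.Embedding.refl _) 3 0 = 2)
    (h13 : N T (Function.Embedding.refl _) 1 3 = 0) (h31 : N T (Function.Embedding.refl _) 3 1 = 0)
    (h23 : N T (Function.Embedding.refl _) 2 3 = 0) (h32 : N T (Function.Embedding.refl _) 3 2 = 0) :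
    Goal T := by
  unfold Goal
  have hd := d
  obtain ⟨x01, x02, x03, x04, x10, x12, x13, x14, x20, x21, x23, x24, x30, x31, x32, x34, x40, x41, x42, x43, hx01, hx02, hx03, hx04, hx10, hx12, hx13, hx14, hx20, hx21, hx23, hx24, hx30, hx31, hx32, hx34, hx40, hx41, hx42, hx43, hw0, hm0, hw1, hm1, hw2, hm2, hw3, hm3, hw4, hm4, a00, a01, a02, a03, a04, a11, a10, a12, a13, a14, a22, a20, a21, a23, a24, a33, a30, a31, a32, a34, a44, a40, a41, a42, a43, wN01, wN02, wN12, wN03, wN13, wN23, wN04, wN14, wN24, wN34, e0, e1, e2, e3, e4, d01, d02, d12, d03, d13, d23, d04, d14, d24, d34⟩ := d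
  obtain rfl : x01 = 0 := hx01.trans h01
  obtain rfl : x10 = 0 := hx10.trans h10
  obtain rfl : x02 = 0 := hx02.trans h02
  obtain rfl : x20 = 0 := hx20.trans h20
  obtain rfl : x12 = 2 := hx12.trans h12
  obtain rfl : x21 = 1 := hx21.trans h21
  obtain rfl : x03 = 1 := hx03.trans h03
  obtain rfl : x30 = 2 := hx30.trans h30
  obtain rfl : x13 = 0 := hx13.trans h13
  obtain rfl : x31 = 0 := hx31.trans h31
  obtain rfl : x23 = 0 := hx23.trans h23
  obtain rfl : x32 = 0 := hx32.trans h32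
  rcases d04 with ⟨rfl, rfl⟩ | ⟨rfl, rfl⟩ | ⟨rfl, rfl⟩ | ⟨rfl, rfl⟩ | ⟨rfl, rfl⟩ | ⟨rfl, rfl⟩
  · -- 04=(0,0)
    rcases d14 with ⟨rfl, rfl⟩ | ⟨rfl, rfl⟩ | ⟨rfl, rfl⟩ | ⟨rfl, rfl⟩ | ⟨rfl, rfl⟩ | ⟨rfl, rfl⟩
    · -- 14=(0,0)
      rcases d24 with ⟨rfl, rfl⟩ | ⟨rfl, rfl⟩ | ⟨rfl, rfl⟩ | ⟨rfl, rfl⟩ | ⟨rfl, rfl⟩ | ⟨rfl, rfl⟩
      · -- 24=(0,0)
        rcases d34 with ⟨rfl, rfl⟩ | ⟨rfl, rfl⟩ | ⟨rfl, rfl⟩ | ⟨rfl, rfl⟩ | ⟨rfl, rfl⟩ | ⟨rfl, rfl⟩
        · -- 34=(0,0)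
          exfalso; omega
        · -- 34=(1,1)
          exfalso; omega
        · -- 34=(1,2)
          exact False.elim (cert_false T ((skipEmb 2).trans (Function.Embedding.refl _)) (by norm_num) (fun _ => hall _) (((((LB_zero T ((skipEmb 2).trans (Function.Embedding.refl _))).upd 0 2 1 (le_of_eq hx03)).upd 2 0 2 (le_of_eq hx30)).upd 2 3 1 (le_of_eq hx34)).upd 3 2 2 (le_of_eq hx43)) ![1,0,2,2] (by decide) (by decide) 0 (by decide))
        · -- 34=(2,1)
          exact False.elim (cert_false T ((skipEmb 2).trans (Function.Embedding.refl _)) (by norm_num) (fun _ => hall _) (((((LB_zero T ((skipEmb 2).trans (Function.Embedding.refl _))).upd 0 2 1 (le_of_eq hx03)).upd 2 0 2 (le_of_eq hx30)).upd 2 3 2 (le_of_eq hx34)).upd 3 2 1 (le_of_eq hx43)) ![1,0,2,1] (by decide) (by decide) 0 (by decide))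
        · -- 34=(1,3)
          exact False.elim (cert_false T ((skipEmb 2).trans (Function.Embedding.refl _)) (by norm_num) (fun _ => hall _) (((((LB_zero T ((skipEmb 2).trans (Function.Embedding.refl _))).upd 0 2 1 (le_of_eq hx03)).upd 2 0 2 (le_of_eq hx30)).upd 2 3 1 (le_of_eq hx34)).upd 3 2 3 (le_of_eq hx43)) ![1,0,2,2] (by decide) (by decide) 0 (by decide))
        · -- 34=(3,1)
          exact False.elim (cert_false T ((skipEmb 2).trans (Function.Embedding.refl _)) (by norm_num) (fun _ => hall _) (((((LB_zero T ((skipEmb 2).trans (Function.Embedding.refl _))).upd 0 2 1 (le_of_eq hx03)).upd 2 0 2 (le_of_eq hx30)).upd 2 3 3 (le_of_eq hx34)).upd 3 2 1 (le_of_eq hx43)) ![1,0,2,1] (by decide) (by decide) 0 (by decide))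
      · -- 24=(1,1)
        rcases d34 with ⟨rfl, rfl⟩ | ⟨rfl, rfl⟩ | ⟨rfl, rfl⟩ | ⟨rfl, rfl⟩ | ⟨rfl, rfl⟩ | ⟨rfl, rfl⟩
        · -- 34=(0,0)
          exfalso; omega
        · -- 34=(1,1)
          refine ⟨(⟨![1, 2, 4, 3, 0], ![4, 0, 1, 3, 2], by decide, by decide⟩ : Equiv.Perm (Fin 5)), T.m 0, T.w 1, Or.inr (Or.inr (Or.inr (Or.inl ?_)))⟩
          show T.m 1 = 2 * T.m 0 ∧ T.m 2 = 2 * T.m 0 ∧ T.m 4 = 2 * T.m 0 ∧ T.m 3 = 2 * T.m 0 ∧ T.m 0 = T.m 0 ∧ T.w 1 = T.w 1 ∧ T.w 2 = 2 * T.w 1 ∧ T.w 4 = 2 * T.w 1 ∧ T.w 3 = 2 * T.w 1 ∧ T.w 0 = 4 * T.w 1 ∧ T.a 1 1 = -2 * T.w 1 ∧ T.a 1 2 = 2 * T.w 1 ∧ T.a 1 4 = 0 ∧ T.a 1 3 = 0 ∧ T.a 1 0 = 0 ∧ T.a 2 2 = -4 * T.w 1 ∧ T.a 2 4 = 2 * T.w 1 ∧ T.a 2 3 = 0 ∧ T.a 2 0 = 0 ∧ T.a 4 4 = -4 * T.w 1 ∧ T.a 4 3 = 2 * T.w 1 ∧ T.a 4 0 = 0 ∧ T.a 3 3 = -4 * T.w 1 ∧ T.a 3 0 = 4 * T.w 1 ∧ T.a 0 0 = -8 * T.w 1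
          refine ⟨?_, ?_, ?_, ?_, ?_, ?_, ?_, ?_, ?_, ?_, ?_, ?_, ?_, ?_, ?_, ?_, ?_, ?_, ?_, ?_, ?_, ?_, ?_, ?_, ?_⟩ <;> omega
        · -- 34=(1,2)
          exact False.elim (cert_false T ((skipEmb 2).trans (Function.Embedding.refl _)) (by norm_num) (fun _ => hall _) (((((LB_zero T ((skipEmb 2).trans (Function.Embedding.refl _))).upd 0 2 1 (le_of_eq hx03)).upd 2 0 2 (le_of_eq hx30)).upd 2 3 1 (le_of_eq hx34)).upd 3 2 2 (le_of_eq hx43)) ![1,0,2,2] (by decide) (by decide) 0 (by decide))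
        · -- 34=(2,1)
          exact False.elim (cert_false T ((skipEmb 2).trans (Function.Embedding.refl _)) (by norm_num) (fun _ => hall _) (((((LB_zero T ((skipEmb 2).trans (Function.Embedding.refl _))).upd 0 2 1 (le_of_eq hx03)).upd 2 0 2 (le_of_eq hx30)).upd 2 3 2 (le_of_eq hx34)).upd 3 2 1 (le_of_eq hx43)) ![1,0,2,1] (by decide) (by decide) 0 (by decide))
        · -- 34=(1,3)
          exact False.elim (cert_false T ((skipEmb 2).trans (Function.Embedding.refl _)) (by norm_num) (fun _ => hall _) (((((LB_zero T ((skipEmb 2).trans (Function.Embedding.refl _))).upd 0 2 1 (le_of_eq hx03)).upd 2 0 2 (le_of_eq hx30)).upd 2 3 1 (le_of_eq hx34)).upd 3 2 3 (le_of_eq hx43)) ![1,0,2,2] (by decide) (by decide) 0 (by decide))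
        · -- 34=(3,1)
          exact False.elim (cert_false T ((skipEmb 2).trans (Function.Embedding.refl _)) (by norm_num) (fun _ => hall _) (((((LB_zero T ((skipEmb 2).trans (Function.Embedding.refl _))).upd 0 2 1 (le_of_eq hx03)).upd 2 0 2 (le_of_eq hx30)).upd 2 3 3 (le_of_eq hx34)).upd 3 2 1 (le_of_eq hx43)) ![1,0,2,1] (by decide) (by decide) 0 (by decide))
      · -- 24=(1,2)
        exact False.elim (cert_false T ((skipEmb 3).trans (Function.Embedding.refl _)) (by norm_num) (fun _ => hall _) (((((LB_zero T ((skipEmb 3).trans (Function.Embedding.refl _))).upd 1 2 2 (le_of_eq hx12)).upd 2 1 1 (le_of_eq hx21)).upd 2 3 1 (le_of_eq hx24)).upd 3 2 2 (le_of_eq hx42)) ![0,1,1,1] (by decide) (by decide) 1 (by decide))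
      · -- 24=(2,1)
        exact False.elim (cert_false T ((skipEmb 3).trans (Function.Embedding.refl _)) (by norm_num) (fun _ => hall _) (((((LB_zero T ((skipEmb 3).trans (Function.Embedding.refl _))).upd 1 2 2 (le_of_eq hx12)).upd 2 1 1 (le_of_eq hx21)).upd 2 3 2 (le_of_eq hx24)).upd 3 2 1 (le_of_eq hx42)) ![0,2,2,1] (by decide) (by decide) 1 (by decide))
      · -- 24=(1,3)
        exact False.elim (cert_false T ((skipEmb 3).trans (Function.Embedding.refl _)) (by norm_num) (fun _ => hall _) (((((LB_zero T ((skipEmb 3).trans (Function.Embedding.refl _))).upd 1 2 2 (le_of_eq hx12)).upd 2 1 1 (le_of_eq hx21)).upd 2 3 1 (le_of_eq hx24)).upd 3 2 3 (le_of_eq hx42)) ![0,1,1,1] (by decide) (by decide) 1 (by decide))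
      · -- 24=(3,1)
        exact False.elim (cert_false T ((skipEmb 3).trans (Function.Embedding.refl _)) (by norm_num) (fun _ => hall _) (((((LB_zero T ((skipEmb 3).trans (Function.Embedding.refl _))).upd 1 2 2 (le_of_eq hx12)).upd 2 1 1 (le_of_eq hx21)).upd 2 3 3 (le_of_eq hx24)).upd 3 2 1 (le_of_eq hx42)) ![0,1,2,1] (by decide) (by decide) 1 (by decide))
    · -- 14=(1,1)
      rcases d24 with ⟨rfl, rfl⟩ | ⟨rfl, rfl⟩ | ⟨rfl, rfl⟩ | ⟨rfl, rfl⟩ | ⟨rfl, rfl⟩ | ⟨rfl, rfl⟩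
      · -- 24=(0,0)
        rcases d34 with ⟨rfl, rfl⟩ | ⟨rfl, rfl⟩ | ⟨rfl, rfl⟩ | ⟨rfl, rfl⟩ | ⟨rfl, rfl⟩ | ⟨rfl, rfl⟩
        · -- 34=(0,0)
          exfalso; omega
        · -- 34=(1,1)
          refine ⟨(⟨![0, 3, 4, 1, 2], ![0, 3, 4, 1, 2], by decide, by decide⟩ : Equiv.Perm (Fin 5)), T.m 0, T.w 3, Or.inr (Or.inr (Or.inr (Or.inr (Or.inr (Or.inl ?_)))))⟩
          show T.m 0 = T.m 0 ∧ T.m 3 = 2 * T.m 0 ∧ T.m 4 = 2 * T.m 0 ∧ T.m 1 = 2 * T.m 0 ∧ T.m 2 = T.m 0 ∧ T.w 0 = 2 * T.w 3 ∧ T.w 3 = T.w 3 ∧ T.w 4 = T.w 3 ∧ T.w 1 = T.w 3 ∧ T.w 2 = 2 * T.w 3 ∧ T.a 0 0 = -4 * T.w 3 ∧ T.a 0 3 = 2 * T.w 3 ∧ T.a 0 4 = 0 ∧ T.a 0 1 = 0 ∧ T.a 0 2 = 0 ∧ T.a 3 3 = -2 * T.w 3 ∧ T.a 3 4 = T.w 3 ∧ T.a 3 1 = 0 ∧ T.a 3 2 = 0 ∧ T.a 4 4 = -2 * T.w 3 ∧ T.a 4 1 = T.w 3 ∧ T.a 4 2 = 0 ∧ T.a 1 1 = -2 * T.w 3 ∧ T.a 1 2 = 2 * T.w 3 ∧ T.a 2 2 = -4 * T.w 3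
          refine ⟨?_, ?_, ?_, ?_, ?_, ?_, ?_, ?_, ?_, ?_, ?_, ?_, ?_, ?_, ?_, ?_, ?_, ?_, ?_, ?_, ?_, ?_, ?_, ?_, ?_⟩ <;> omega
        · -- 34=(1,2)
          exact False.elim (cert_false T ((skipEmb 2).trans (Function.Embedding.refl _)) (by norm_num) (fun _ => hall _) (((((LB_zero T ((skipEmb 2).trans (Function.Embedding.refl _))).upd 0 2 1 (le_of_eq hx03)).upd 2 0 2 (le_of_eq hx30)).upd 2 3 1 (le_of_eq hx34)).upd 3 2 2 (le_of_eq hx43)) ![1,0,2,2] (by decide) (by decide) 0 (by decide))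
        · -- 34=(2,1)
          exact False.elim (cert_false T ((skipEmb 2).trans (Function.Embedding.refl _)) (by norm_num) (fun _ => hall _) (((((LB_zero T ((skipEmb 2).trans (Function.Embedding.refl _))).upd 0 2 1 (le_of_eq hx03)).upd 2 0 2 (le_of_eq hx30)).upd 2 3 2 (le_of_eq hx34)).upd 3 2 1 (le_of_eq hx43)) ![1,0,2,1] (by decide) (by decide) 0 (by decide))
        · -- 34=(1,3)
          exact False.elim (cert_false T ((skipEmb 2).trans (Function.Embedding.refl _)) (by norm_num) (fun _ => hall _) (((((LB_zero T ((skipEmb 2).trans (Function.Embedding.refl _))).upd 0 2 1 (le_of_eq hx03)).upd 2 0 2 (le_of_eq hx30)).upd 2 3 1 (le_of_eq hx34)).upd 3 2 3 (le_of_eq hx43)) ![1,0,2,2] (by decide) (by decide) 0 (by decide))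
        · -- 34=(3,1)
          exact False.elim (cert_false T ((skipEmb 2).trans (Function.Embedding.refl _)) (by norm_num) (fun _ => hall _) (((((LB_zero T ((skipEmb 2).trans (Function.Embedding.refl _))).upd 0 2 1 (le_of_eq hx03)).upd 2 0 2 (le_of_eq hx30)).upd 2 3 3 (le_of_eq hx34)).upd 3 2 1 (le_of_eq hx43)) ![1,0,2,1] (by decide) (by decide) 0 (by decide))
      · -- 24=(1,1)
        exact False.elim (cert_false T ((skipEmb 3).trans (Function.Embedding.refl _)) (by norm_num) (fun _ => hall _) (((((((LB_zero T ((skipEmb 3).trans (Function.Embedding.refl _))).upd 1 2 2 (le_of_eq hx12)).upd 1 3 1 (le_of_eq hx14)).upd 2 1 1 (le_of_eq hx21)).upd 2 3 1 (le_of_eq hx24)).upd 3 1 1 (le_of_eq hx41)).upd 3 2 1 (le_of_eq hx42)) ![0,1,1,1] (by decide) (by decide) 1 (by decide))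
      · -- 24=(1,2)
        exact False.elim (cert_false T ((skipEmb 3).trans (Function.Embedding.refl _)) (by norm_num) (fun _ => hall _) (((((((LB_zero T ((skipEmb 3).trans (Function.Embedding.refl _))).upd 1 2 2 (le_of_eq hx12)).upd 1 3 1 (le_of_eq hx14)).upd 2 1 1 (le_of_eq hx21)).upd 2 3 1 (le_of_eq hx24)).upd 3 1 1 (le_of_eq hx41)).upd 3 2 2 (le_of_eq hx42)) ![0,1,1,1] (by decide) (by decide) 1 (by decide))
      · -- 24=(2,1)
        exact False.elim (cert_false T ((skipEmb 3).trans (Function.Embedding.refl _)) (by norm_num) (fun _ => hall _) (((((((LB_zero T ((skipEmb 3).trans (Function.Embedding.refl _))).upd 1 2 2 (le_of_eq hx12)).upd 1 3 1 (le_of_eq hx14)).upd 2 1 1 (le_of_eq hx21)).upd 2 3 2 (le_of_eq hx24)).upd 3 1 1 (le_of_eq hx41)).upd 3 2 1 (le_of_eq hx42)) ![0,1,1,1] (by decide) (by decide) 1 (by decide))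
      · -- 24=(1,3)
        exact False.elim (cert_false T ((skipEmb 3).trans (Function.Embedding.refl _)) (by norm_num) (fun _ => hall _) (((((((LB_zero T ((skipEmb 3).trans (Function.Embedding.refl _))).upd 1 2 2 (le_of_eq hx12)).upd 1 3 1 (le_of_eq hx14)).upd 2 1 1 (le_of_eq hx21)).upd 2 3 1 (le_of_eq hx24)).upd 3 1 1 (le_of_eq hx41)).upd 3 2 3 (le_of_eq hx42)) ![0,1,1,1] (by decide) (by decide) 1 (by decide))
      · -- 24=(3,1)
        exact False.elim (cert_false T ((skipEmb 3).trans (Function.Embedding.refl _)) (by norm_num) (fun _ => hall _) (((((((LB_zero T ((skipEmb 3).trans (Function.Embedding.refl _))).upd 1 2 2 (le_of_eq hx12)).upd 1 3 1 (le_of_eq hx14)).upd 2 1 1 (le_of_eq hx21)).upd 2 3 3 (le_of_eq hx24)).upd 3 1 1 (le_of_eq hx41)).upd 3 2 1 (le_of_eq hx42)) ![0,1,1,1] (by decide) (by decide) 1 (by decide))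
    · -- 14=(1,2)
      exact False.elim (cert_false T ((skipEmb 3).trans (Function.Embedding.refl _)) (by norm_num) (fun _ => hall _) (((((LB_zero T ((skipEmb 3).trans (Function.Embedding.refl _))).upd 1 2 2 (le_of_eq hx12)).upd 1 3 1 (le_of_eq hx14)).upd 2 1 1 (le_of_eq hx21)).upd 3 1 2 (le_of_eq hx41)) ![0,2,1,2] (by decide) (by decide) 1 (by decide))
    · -- 14=(2,1)
      exact False.elim (cert_false T ((skipEmb 3).trans (Function.Embedding.refl _)) (by norm_num) (fun _ => hall _) (((((LB_zero T ((skipEmb 3).trans (Function.Embedding.refl _))).upd 1 2 2 (le_of_eq hx12)).upd 1 3 2 (le_of_eq hx14)).upd 2 1 1 (le_of_eq hx21)).upd 3 1 1 (le_of_eq hx41)) ![0,2,1,1] (by decide) (by decide) 1 (by decide))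
    · -- 14=(1,3)
      exact False.elim (cert_false T ((skipEmb 3).trans (Function.Embedding.refl _)) (by norm_num) (fun _ => hall _) (((((LB_zero T ((skipEmb 3).trans (Function.Embedding.refl _))).upd 1 2 2 (le_of_eq hx12)).upd 1 3 1 (le_of_eq hx14)).upd 2 1 1 (le_of_eq hx21)).upd 3 1 3 (le_of_eq hx41)) ![0,2,1,2] (by decide) (by decide) 1 (by decide))
    · -- 14=(3,1)
      exact False.elim (cert_false T ((skipEmb 3).trans (Function.Embedding.refl _)) (by norm_num) (fun _ => hall _) (((((LB_zero T ((skipEmb 3).trans (Function.Embedding.refl _))).upd 1 2 2 (le_of_eq hx12)).upd 1 3 3 (le_of_eq hx14)).upd 2 1 1 (le_of_eq hx21)).upd 3 1 1 (le_of_eq hx41)) ![0,2,1,1] (by decide) (by decide) 1 (by decide))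
  · -- 04=(1,1)
    rcases d14 with ⟨rfl, rfl⟩ | ⟨rfl, rfl⟩ | ⟨rfl, rfl⟩ | ⟨rfl, rfl⟩ | ⟨rfl, rfl⟩ | ⟨rfl, rfl⟩
    · -- 14=(0,0)
      rcases d24 with ⟨rfl, rfl⟩ | ⟨rfl, rfl⟩ | ⟨rfl, rfl⟩ | ⟨rfl, rfl⟩ | ⟨rfl, rfl⟩ | ⟨rfl, rfl⟩
      · -- 24=(0,0)
        rcases d34 with ⟨rfl, rfl⟩ | ⟨rfl, rfl⟩ | ⟨rfl, rfl⟩ | ⟨rfl, rfl⟩ | ⟨rfl, rfl⟩ | ⟨rfl, rfl⟩
        · -- 34=(0,0)
          exfalso; omega
        · -- 34=(1,1)
          exact False.elim (cert_false T ((skipEmb 2).trans (Function.Embedding.refl _)) (by norm_num) (fun _ => hall _) (((((((LB_zero T ((skipEmb 2).trans (Function.Embedding.refl _))).upd 0 2 1 (le_of_eq hx03)).upd 0 3 1 (le_of_eq hx04)).upd 2 0 2 (le_of_eq hx30)).upd 2 3 1 (le_of_eq hx34)).upd 3 0 1 (le_of_eq hx40)).upd 3 2 1 (le_of_eq hx43)) ![1,0,1,1] (by decide) (by decide) 0 (by decide))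
        · -- 34=(1,2)
          exact False.elim (cert_false T ((skipEmb 2).trans (Function.Embedding.refl _)) (by norm_num) (fun _ => hall _) (((((((LB_zero T ((skipEmb 2).trans (Function.Embedding.refl _))).upd 0 2 1 (le_of_eq hx03)).upd 0 3 1 (le_of_eq hx04)).upd 2 0 2 (le_of_eq hx30)).upd 2 3 1 (le_of_eq hx34)).upd 3 0 1 (le_of_eq hx40)).upd 3 2 2 (le_of_eq hx43)) ![1,0,1,1] (by decide) (by decide) 0 (by decide))
        · -- 34=(2,1)
          exact False.elim (cert_false T ((skipEmb 2).trans (Function.Embedding.refl _)) (by norm_num) (fun _ => hall _) (((((((LB_zero T ((skipEmb 2).trans (Function.Embedding.refl _))).upd 0 2 1 (le_of_eq hx03)).upd 0 3 1 (le_of_eq hx04)).upd 2 0 2 (le_of_eq hx30)).upd 2 3 2 (le_of_eq hx34)).upd 3 0 1 (le_of_eq hx40)).upd 3 2 1 (le_of_eq hx43)) ![1,0,1,1] (by decide) (by decide) 0 (by decide))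
        · -- 34=(1,3)
          exact False.elim (cert_false T ((skipEmb 2).trans (Function.Embedding.refl _)) (by norm_num) (fun _ => hall _) (((((((LB_zero T ((skipEmb 2).trans (Function.Embedding.refl _))).upd 0 2 1 (le_of_eq hx03)).upd 0 3 1 (le_of_eq hx04)).upd 2 0 2 (le_of_eq hx30)).upd 2 3 1 (le_of_eq hx34)).upd 3 0 1 (le_of_eq hx40)).upd 3 2 3 (le_of_eq hx43)) ![1,0,1,1] (by decide) (by decide) 0 (by decide))
        · -- 34=(3,1)
          exact False.elim (cert_false T ((skipEmb 2).trans (Function.Embedding.refl _)) (by norm_num) (fun _ => hall _) (((((((LB_zero T ((skipEmb 2).trans (Function.Embedding.refl _))).upd 0 2 1 (le_of_eq hx03)).upd 0 3 1 (le_of_eq hx04)).upd 2 0 2 (le_of_eq hx30)).upd 2 3 3 (le_of_eq hx34)).upd 3 0 1 (le_of_eq hx40)).upd 3 2 1 (le_of_eq hx43)) ![1,0,1,1] (by decide) (by decide) 0 (by decide))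
      · -- 24=(1,1)
        rcases d34 with ⟨rfl, rfl⟩ | ⟨rfl, rfl⟩ | ⟨rfl, rfl⟩ | ⟨rfl, rfl⟩ | ⟨rfl, rfl⟩ | ⟨rfl, rfl⟩
        · -- 34=(0,0)
          refine ⟨(⟨![1, 2, 4, 0, 3], ![3, 0, 1, 4, 2], by decide, by decide⟩ : Equiv.Perm (Fin 5)), T.m 1, T.w 1, Or.inr (Or.inr (Or.inr (Or.inr (Or.inl ?_))))⟩
          show T.m 1 = T.m 1 ∧ T.m 2 = T.m 1 ∧ T.m 4 = T.m 1 ∧ T.m 0 = T.m 1 ∧ T.m 3 = T.m 1 ∧ T.w 1 = T.w 1 ∧ T.w 2 = 2 * T.w 1 ∧ T.w 4 = 2 * T.w 1 ∧ T.w 0 = 2 * T.w 1 ∧ T.w 3 = T.w 1 ∧ T.a 1 1 = -2 * T.w 1 ∧ T.a 1 2 = 2 * T.w 1 ∧ T.a 1 4 = 0 ∧ T.a 1 0 = 0 ∧ T.a 1 3 = 0 ∧ T.a 2 2 = -4 * T.w 1 ∧ T.a 2 4 = 2 * T.w 1 ∧ T.a 2 0 = 0 ∧ T.a 2 3 = 0 ∧ T.a 4 4 = -4 * T.w 1 ∧ T.a 4 0 = 2 * T.w 1 ∧ T.a 4 3 = 0 ∧ T.a 0 0 = -4 * T.w 1 ∧ T.a 0 3 = 2 * T.w 1 ∧ T.a 3 3 = -2 * T.w 1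
          refine ⟨?_, ?_, ?_, ?_, ?_, ?_, ?_, ?_, ?_, ?_, ?_, ?_, ?_, ?_, ?_, ?_, ?_, ?_, ?_, ?_, ?_, ?_, ?_, ?_, ?_⟩ <;> omega
        · -- 34=(1,1)
          exact False.elim (cert_false T ((skipEmb 2).trans (Function.Embedding.refl _)) (by norm_num) (fun _ => hall _) (((((((LB_zero T ((skipEmb 2).trans (Function.Embedding.refl _))).upd 0 2 1 (le_of_eq hx03)).upd 0 3 1 (le_of_eq hx04)).upd 2 0 2 (le_of_eq hx30)).upd 2 3 1 (le_of_eq hx34)).upd 3 0 1 (le_of_eq hx40)).upd 3 2 1 (le_of_eq hx43)) ![1,0,1,1] (by decide) (by decide) 0 (by decide))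
        · -- 34=(1,2)
          exact False.elim (cert_false T ((skipEmb 2).trans (Function.Embedding.refl _)) (by norm_num) (fun _ => hall _) (((((((LB_zero T ((skipEmb 2).trans (Function.Embedding.refl _))).upd 0 2 1 (le_of_eq hx03)).upd 0 3 1 (le_of_eq hx04)).upd 2 0 2 (le_of_eq hx30)).upd 2 3 1 (le_of_eq hx34)).upd 3 0 1 (le_of_eq hx40)).upd 3 2 2 (le_of_eq hx43)) ![1,0,1,1] (by decide) (by decide) 0 (by decide))
        · -- 34=(2,1)
          exact False.elim (cert_false T ((skipEmb 2).trans (Function.Embedding.refl _)) (by norm_num) (fun _ => hall _) (((((((LB_zero T ((skipEmb 2).trans (Function.Embedding.refl _))).upd 0 2 1 (le_of_eq hx03)).upd 0 3 1 (le_of_eq hx04)).upd 2 0 2 (le_of_eq hx30)).upd 2 3 2 (le_of_eq hx34)).upd 3 0 1 (le_of_eq hx40)).upd 3 2 1 (le_of_eq hx43)) ![1,0,1,1] (by decide) (by decide) 0 (by decide))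
        · -- 34=(1,3)
          exact False.elim (cert_false T ((skipEmb 2).trans (Function.Embedding.refl _)) (by norm_num) (fun _ => hall _) (((((((LB_zero T ((skipEmb 2).trans (Function.Embedding.refl _))).upd 0 2 1 (le_of_eq hx03)).upd 0 3 1 (le_of_eq hx04)).upd 2 0 2 (le_of_eq hx30)).upd 2 3 1 (le_of_eq hx34)).upd 3 0 1 (le_of_eq hx40)).upd 3 2 3 (le_of_eq hx43)) ![1,0,1,1] (by decide) (by decide) 0 (by decide))
        · -- 34=(3,1)
          exact False.elim (cert_false T ((skipEmb 2).trans (Function.Embedding.refl _)) (by norm_num) (fun _ => hall _) (((((((LB_zero T ((skipEmb 2).trans (Function.Embedding.refl _))).upd 0 2 1 (le_of_eq hx03)).upd 0 3 1 (le_of_eq hx04)).upd 2 0 2 (le_of_eq hx30)).upd 2 3 3 (le_of_eq hx34)).upd 3 0 1 (le_of_eq hx40)).upd 3 2 1 (le_of_eq hx43)) ![1,0,1,1] (by decide) (by decide) 0 (by decide))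
      · -- 24=(1,2)
        exact False.elim (cert_false T ((skipEmb 3).trans (Function.Embedding.refl _)) (by norm_num) (fun _ => hall _) (((((LB_zero T ((skipEmb 3).trans (Function.Embedding.refl _))).upd 1 2 2 (le_of_eq hx12)).upd 2 1 1 (le_of_eq hx21)).upd 2 3 1 (le_of_eq hx24)).upd 3 2 2 (le_of_eq hx42)) ![0,1,1,1] (by decide) (by decide) 1 (by decide))
      · -- 24=(2,1)
        exact False.elim (cert_false T ((skipEmb 3).trans (Function.Embedding.refl _)) (by norm_num) (fun _ => hall _) (((((LB_zero T ((skipEmb 3).trans (Function.Embedding.refl _))).upd 1 2 2 (le_of_eq hx12)).upd 2 1 1 (le_of_eq hx21)).upd 2 3 2 (le_of_eq hx24)).upd 3 2 1 (le_of_eq hx42)) ![0,2,2,1] (by decide) (by decide) 1 (by decide))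
      · -- 24=(1,3)
        exact False.elim (cert_false T ((skipEmb 3).trans (Function.Embedding.refl _)) (by norm_num) (fun _ => hall _) (((((LB_zero T ((skipEmb 3).trans (Function.Embedding.refl _))).upd 1 2 2 (le_of_eq hx12)).upd 2 1 1 (le_of_eq hx21)).upd 2 3 1 (le_of_eq hx24)).upd 3 2 3 (le_of_eq hx42)) ![0,1,1,1] (by decide) (by decide) 1 (by decide))
      · -- 24=(3,1)
        exact False.elim (cert_false T ((skipEmb 3).trans (Function.Embedding.refl _)) (by norm_num) (fun _ => hall _) (((((LB_zero T ((skipEmb 3).trans (Function.Embedding.refl _))).upd 1 2 2 (le_of_eq hx12)).upd 2 1 1 (le_of_eq hx21)).upd 2 3 3 (le_of_eq hx24)).upd 3 2 1 (le_of_eq hx42)) ![0,1,2,1] (by decide) (by decide) 1 (by decide))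
    · -- 14=(1,1)
      rcases d24 with ⟨rfl, rfl⟩ | ⟨rfl, rfl⟩ | ⟨rfl, rfl⟩ | ⟨rfl, rfl⟩ | ⟨rfl, rfl⟩ | ⟨rfl, rfl⟩
      · -- 24=(0,0)
        rcases d34 with ⟨rfl, rfl⟩ | ⟨rfl, rfl⟩ | ⟨rfl, rfl⟩ | ⟨rfl, rfl⟩ | ⟨rfl, rfl⟩ | ⟨rfl, rfl⟩
        · -- 34=(0,0)
          refine ⟨(⟨![3, 0, 4, 1, 2], ![1, 3, 4, 0, 2], by decide, by decide⟩ : Equiv.Perm (Fin 5)), T.m 2, T.w 3, Or.inr (Or.inr (Or.inr (Or.inl ?_)))⟩
          show T.m 3 = 2 * T.m 2 ∧ T.m 0 = 2 * T.m 2 ∧ T.m 4 = 2 * T.m 2 ∧ T.m 1 = 2 * T.m 2 ∧ T.m 2 = T.m 2 ∧ T.w 3 = T.w 3 ∧ T.w 0 = 2 * T.w 3 ∧ T.w 4 = 2 * T.w 3 ∧ T.w 1 = 2 * T.w 3 ∧ T.w 2 = 4 * T.w 3 ∧ T.a 3 3 = -2 * T.w 3 ∧ T.a 3 0 = 2 * T.w 3 ∧ T.a 3 4 = 0 ∧ T.a 3 1 = 0 ∧ T.a 3 2 = 0 ∧ T.a 0 0 = -4 * T.w 3 ∧ T.a 0 4 = 2 * T.w 3 ∧ T.a 0 1 = 0 ∧ T.a 0 2 = 0 ∧ T.a 4 4 = -4 * T.w 3 ∧ T.a 4 1 = 2 * T.w 3 ∧ T.a 4 2 = 0 ∧ T.a 1 1 = -4 * T.w 3 ∧ T.a 1 2 = 4 * T.w 3 ∧ T.a 2 2 = -8 * T.w 3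
          refine ⟨?_, ?_, ?_, ?_, ?_, ?_, ?_, ?_, ?_, ?_, ?_, ?_, ?_, ?_, ?_, ?_, ?_, ?_, ?_, ?_, ?_, ?_, ?_, ?_, ?_⟩ <;> omega
        · -- 34=(1,1)
          exact False.elim (cert_false T ((skipEmb 2).trans (Function.Embedding.refl _)) (by norm_num) (fun _ => hall _) (((((((LB_zero T ((skipEmb 2).trans (Function.Embedding.refl _))).upd 0 2 1 (le_of_eq hx03)).upd 0 3 1 (le_of_eq hx04)).upd 2 0 2 (le_of_eq hx30)).upd 2 3 1 (le_of_eq hx34)).upd 3 0 1 (le_of_eq hx40)).upd 3 2 1 (le_of_eq hx43)) ![1,0,1,1] (by decide) (by decide) 0 (by decide))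
        · -- 34=(1,2)
          exact False.elim (cert_false T ((skipEmb 2).trans (Function.Embedding.refl _)) (by norm_num) (fun _ => hall _) (((((((LB_zero T ((skipEmb 2).trans (Function.Embedding.refl _))).upd 0 2 1 (le_of_eq hx03)).upd 0 3 1 (le_of_eq hx04)).upd 2 0 2 (le_of_eq hx30)).upd 2 3 1 (le_of_eq hx34)).upd 3 0 1 (le_of_eq hx40)).upd 3 2 2 (le_of_eq hx43)) ![1,0,1,1] (by decide) (by decide) 0 (by decide))
        · -- 34=(2,1)
          exact False.elim (cert_false T ((skipEmb 2).trans (Function.Embedding.refl _)) (by norm_num) (fun _ => hall _) (((((((LB_zero T ((skipEmb 2).trans (Function.Embedding.refl _))).upd 0 2 1 (le_of_eq hx03)).upd 0 3 1 (le_of_eq hx04)).upd 2 0 2 (le_of_eq hx30)).upd 2 3 2 (le_of_eq hx34)).upd 3 0 1 (le_of_eq hx40)).upd 3 2 1 (le_of_eq hx43)) ![1,0,1,1] (by decide) (by decide) 0 (by decide))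
        · -- 34=(1,3)
          exact False.elim (cert_false T ((skipEmb 2).trans (Function.Embedding.refl _)) (by norm_num) (fun _ => hall _) (((((((LB_zero T ((skipEmb 2).trans (Function.Embedding.refl _))).upd 0 2 1 (le_of_eq hx03)).upd 0 3 1 (le_of_eq hx04)).upd 2 0 2 (le_of_eq hx30)).upd 2 3 1 (le_of_eq hx34)).upd 3 0 1 (le_of_eq hx40)).upd 3 2 3 (le_of_eq hx43)) ![1,0,1,1] (by decide) (by decide) 0 (by decide))
        · -- 34=(3,1)
          exact False.elim (cert_false T ((skipEmb 2).trans (Function.Embedding.refl _)) (by norm_num) (fun _ => hall _) (((((((LB_zero T ((skipEmb 2).trans (Function.Embedding.refl _))).upd 0 2 1 (le_of_eq hx03)).upd 0 3 1 (le_of_eq hx04)).upd 2 0 2 (le_of_eq hx30)).upd 2 3 3 (le_of_eq hx34)).upd 3 0 1 (le_of_eq hx40)).upd 3 2 1 (le_of_eq hx43)) ![1,0,1,1] (by decide) (by decide) 0 (by decide))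
      · -- 24=(1,1)
        exact False.elim (cert_false T ((skipEmb 3).trans (Function.Embedding.refl _)) (by norm_num) (fun _ => hall _) (((((((LB_zero T ((skipEmb 3).trans (Function.Embedding.refl _))).upd 1 2 2 (le_of_eq hx12)).upd 1 3 1 (le_of_eq hx14)).upd 2 1 1 (le_of_eq hx21)).upd 2 3 1 (le_of_eq hx24)).upd 3 1 1 (le_of_eq hx41)).upd 3 2 1 (le_of_eq hx42)) ![0,1,1,1] (by decide) (by decide) 1 (by decide))
      · -- 24=(1,2)
        exact False.elim (cert_false T ((skipEmb 3).trans (Function.Embedding.refl _)) (by norm_num) (fun _ => hall _) (((((((LB_zero T ((skipEmb 3).trans (Function.Embedding.refl _))).upd 1 2 2 (le_of_eq hx12)).upd 1 3 1 (le_of_eq hx14)).upd 2 1 1 (le_of_eq hx21)).upd 2 3 1 (le_of_eq hx24)).upd 3 1 1 (le_of_eq hx41)).upd 3 2 2 (le_of_eq hx42)) ![0,1,1,1] (by decide) (by decide) 1 (by decide))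
      · -- 24=(2,1)
        exact False.elim (cert_false T ((skipEmb 3).trans (Function.Embedding.refl _)) (by norm_num) (fun _ => hall _) (((((((LB_zero T ((skipEmb 3).trans (Function.Embedding.refl _))).upd 1 2 2 (le_of_eq hx12)).upd 1 3 1 (le_of_eq hx14)).upd 2 1 1 (le_of_eq hx21)).upd 2 3 2 (le_of_eq hx24)).upd 3 1 1 (le_of_eq hx41)).upd 3 2 1 (le_of_eq hx42)) ![0,1,1,1] (by decide) (by decide) 1 (by decide))
      · -- 24=(1,3)
        exact False.elim (cert_false T ((skipEmb 3).trans (Function.Embedding.refl _)) (by norm_num) (fun _ => hall _) (((((((LB_zero T ((skipEmb 3).trans (Function.Embedding.refl _))).upd 1 2 2 (le_of_eq hx12)).upd 1 3 1 (le_of_eq hx14)).upd 2 1 1 (le_of_eq hx21)).upd 2 3 1 (le_of_eq hx24)).upd 3 1 1 (le_of_eq hx41)).upd 3 2 3 (le_of_eq hx42)) ![0,1,1,1] (by decide) (by decide) 1 (by decide))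
      · -- 24=(3,1)
        exact False.elim (cert_false T ((skipEmb 3).trans (Function.Embedding.refl _)) (by norm_num) (fun _ => hall _) (((((((LB_zero T ((skipEmb 3).trans (Function.Embedding.refl _))).upd 1 2 2 (le_of_eq hx12)).upd 1 3 1 (le_of_eq hx14)).upd 2 1 1 (le_of_eq hx21)).upd 2 3 3 (le_of_eq hx24)).upd 3 1 1 (le_of_eq hx41)).upd 3 2 1 (le_of_eq hx42)) ![0,1,1,1] (by decide) (by decide) 1 (by decide))
    · -- 14=(1,2)
      exact False.elim (cert_false T ((skipEmb 3).trans (Function.Embedding.refl _)) (by norm_num) (fun _ => hall _) (((((LB_zero T ((skipEmb 3).trans (Function.Embedding.refl _))).upd 1 2 2 (le_of_eq hx12)).upd 1 3 1 (le_of_eq hx14)).upd 2 1 1 (le_of_eq hx21)).upd 3 1 2 (le_of_eq hx41)) ![0,2,1,2] (by decide) (by decide) 1 (by decide))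
    · -- 14=(2,1)
      exact False.elim (cert_false T ((skipEmb 3).trans (Function.Embedding.refl _)) (by norm_num) (fun _ => hall _) (((((LB_zero T ((skipEmb 3).trans (Function.Embedding.refl _))).upd 1 2 2 (le_of_eq hx12)).upd 1 3 2 (le_of_eq hx14)).upd 2 1 1 (le_of_eq hx21)).upd 3 1 1 (le_of_eq hx41)) ![0,2,1,1] (by decide) (by decide) 1 (by decide))
    · -- 14=(1,3)
      exact False.elim (cert_false T ((skipEmb 3).trans (Function.Embedding.refl _)) (by norm_num) (fun _ => hall _) (((((LB_zero T ((skipEmb 3).trans (Function.Embedding.refl _))).upd 1 2 2 (le_of_eq hx12)).upd 1 3 1 (le_of_eq hx14)).upd 2 1 1 (le_of_eq hx21)).upd 3 1 3 (le_of_eq hx41)) ![0,2,1,2] (by decide) (by decide) 1 (by decide))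
    · -- 14=(3,1)
      exact False.elim (cert_false T ((skipEmb 3).trans (Function.Embedding.refl _)) (by norm_num) (fun _ => hall _) (((((LB_zero T ((skipEmb 3).trans (Function.Embedding.refl _))).upd 1 2 2 (le_of_eq hx12)).upd 1 3 3 (le_of_eq hx14)).upd 2 1 1 (le_of_eq hx21)).upd 3 1 1 (le_of_eq hx41)) ![0,2,1,1] (by decide) (by decide) 1 (by decide))
  · -- 04=(1,2)
    exact False.elim (cert_false T ((skipEmb 2).trans (Function.Embedding.refl _)) (by norm_num) (fun _ => hall _) (((((LB_zero T ((skipEmb 2).trans (Function.Embedding.refl _))).upd 0 2 1 (le_of_eq hx03)).upd 0 3 1 (le_of_eq hx04)).upd 2 0 2 (le_of_eq hx30)).upd 3 0 2 (le_of_eq hx40)) ![1,0,1,1] (by decide) (by decide) 0 (by decide))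
  · -- 04=(2,1)
    exact False.elim (cert_false T ((skipEmb 2).trans (Function.Embedding.refl _)) (by norm_num) (fun _ => hall _) (((((LB_zero T ((skipEmb 2).trans (Function.Embedding.refl _))).upd 0 2 1 (le_of_eq hx03)).upd 0 3 2 (le_of_eq hx04)).upd 2 0 2 (le_of_eq hx30)).upd 3 0 1 (le_of_eq hx40)) ![2,0,2,1] (by decide) (by decide) 0 (by decide))
  · -- 04=(1,3)
    exact False.elim (cert_false T ((skipEmb 2).trans (Function.Embedding.refl _)) (by norm_num) (fun _ => hall _) (((((LB_zero T ((skipEmb 2).trans (Function.Embedding.refl _))).upd 0 2 1 (le_of_eq hx03)).upd 0 3 1 (le_of_eq hx04)).upd 2 0 2 (le_of_eq hx30)).upd 3 0 3 (le_of_eq hx40)) ![1,0,1,1] (by decide) (by decide) 0 (by decide))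
  · -- 04=(3,1)
    exact False.elim (cert_false T ((skipEmb 2).trans (Function.Embedding.refl _)) (by norm_num) (fun _ => hall _) (((((LB_zero T ((skipEmb 2).trans (Function.Embedding.refl _))).upd 0 2 1 (le_of_eq hx03)).upd 0 3 3 (le_of_eq hx04)).upd 2 0 2 (le_of_eq hx30)).upd 3 0 1 (le_of_eq hx40)) ![2,0,1,1] (by decide) (by decide) 0 (by decide))

theorem case177 (T : NumericalType 5) (hall : ∀ i, T.IsMinusTwo i) (d : SData T)
    (h01 : N T (Function.Embedding.refl _) 0 1 = 0) (h10 : N T (Function.Embedding.refl _) 1 0 = 0)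
    (h02 : N T (Function.Embedding.refl _) 0 2 = 0) (h20 : N T (Function.Embedding.refl _) 2 0 = 0)
    (h12 : N T (Function.Embedding.refl _) 1 2 = 2) (h21 : N T (Function.Embedding.refl _) 2 1 = 1)
    (h03 : N T (Function.Embedding.refl _) 0 3 = 1) (h30 : N T (Function.Embedding.refl _) 3 0 = 2)
    (h13 : N T (Function.Embedding.refl _) 1 3 = 0) (h31 : N T (Function.Embedding.refl _) 3 1 = 0) :
    Goal T := by
  unfold Goal
  have hd := d
  obtain ⟨x01, x02, x03, x04, x10, x12, x13, x14, x20, x21, x23, x24, x30, x31, x32, x34, x40, x41, x42, x43, hx01, hx02, hx03, hx04, hx10, hx12, hx13, hx14, hx20, hx21, hx23, hx24, hx30, hx31, hx32, hx34, hx40, hx41, hx42, hx43, hw0, hm0, hw1, hm1, hw2, hm2, hw3, hm3, hw4, hm4, a00, a01, a02, a03, a04, a11, a10, a12, a13, a14, a22, a20, a21, a23, a24, a33, a30, a31, a32, a34, a44, a40, a41, a42, a43, wN01, wN02, wN12, wN03, wN13, wN23, wN04, wN14, wN24, wN34, e0, e1, e2, e3,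 e4, d01, d02, d12, d03, d13, d23, d04, d14, d24, d34⟩ := d
  obtain rfl : x01 = 0 := hx01.trans h01
  obtain rfl : x10 = 0 := hx10.trans h10
  obtain rfl : x02 = 0 := hx02.trans h02
  obtain rfl : x20 = 0 := hx20.trans h20
  obtain rfl : x12 = 2 := hx12.trans h12
  obtain rfl : x21 = 1 := hx21.trans h21
  obtain rfl : x03 = 1 := hx03.trans h03
  obtain rfl : x30 = 2 := hx30.trans h30
  obtain rfl : x13 = 0 := hx13.trans h13
  obtain rfl : x31 = 0 := hx31.trans h31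
  rcases d23 with ⟨rfl, rfl⟩ | ⟨rfl, rfl⟩ | ⟨rfl, rfl⟩ | ⟨rfl, rfl⟩ | ⟨rfl, rfl⟩ | ⟨rfl, rfl⟩
  · -- 23=(0,0)
    exact case178 T hall hd hx01.symm hx10.symm hx02.symm hx20.symm hx12.symm hx21.symm hx03.symm hx30.symm hx13.symm hx31.symm hx23.symm hx32.symm
  · -- 23=(1,1)
    exact False.elim (cert_false T ((skipEmb 4).trans (Function.Embedding.refl _)) (by norm_num) (fun _ => hall _) (((((((LB_zero T ((skipEmb 4).trans (Function.Embedding.refl _))).upd 0 3 1 (le_of_eq hx03)).upd 1 2 2 (le_of_eq hx12)).upd 2 1 1 (le_of_eq hx21)).upd 2 3 1 (le_of_eq hx23)).upd 3 0 2 (le_of_eq hx30)).upd 3 2 1 (le_of_eq hx32)) ![1,2,2,2] (by decide) (by decide) 0 (by decide))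
  · -- 23=(1,2)
    exact False.elim (cert_false T ((skipEmb 4).trans (Function.Embedding.refl _)) (by norm_num) (fun _ => hall _) (((((LB_zero T ((skipEmb 4).trans (Function.Embedding.refl _))).upd 1 2 2 (le_of_eq hx12)).upd 2 1 1 (le_of_eq hx21)).upd 2 3 1 (le_of_eq hx23)).upd 3 2 2 (le_of_eq hx32)) ![0,1,1,1] (by decide) (by decide) 1 (by decide))
  · -- 23=(2,1)
    exact False.elim (cert_false T ((skipEmb 4).trans (Function.Embedding.refl _)) (by norm_num) (fun _ => hall _) (((((LB_zero T ((skipEmb 4).trans (Function.Embedding.refl _))).upd 0 3 1 (le_of_eq hx03)).upd 2 3 2 (le_of_eq hx23)).upd 3 0 2 (le_of_eq hx30)).upd 3 2 1 (le_of_eq hx32)) ![1,0,2,2] (by decide) (by decide) 0 (by decide))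
  · -- 23=(1,3)
    exact False.elim (cert_false T ((skipEmb 4).trans (Function.Embedding.refl _)) (by norm_num) (fun _ => hall _) (((((LB_zero T ((skipEmb 4).trans (Function.Embedding.refl _))).upd 1 2 2 (le_of_eq hx12)).upd 2 1 1 (le_of_eq hx21)).upd 2 3 1 (le_of_eq hx23)).upd 3 2 3 (le_of_eq hx32)) ![0,1,1,1] (by decide) (by decide) 1 (by decide))
  · -- 23=(3,1)
    exact False.elim (cert_false T ((skipEmb 4).trans (Function.Embedding.refl _)) (by norm_num) (fun _ => hall _) (((((LB_zero T ((skipEmb 4).trans (Function.Embedding.refl _))).upd 0 3 1 (le_of_eq hx03)).upd 2 3 3 (le_of_eq hx23)).upd 3 0 2 (le_of_eq hx30)).upd 3 2 1 (le_of_eq hx32)) ![1,0,2,2] (by decide) (by decide) 0 (by decide))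

theorem case188 (T : NumericalType 5) (hall : ∀ i, T.IsMinusTwo i) (d : SData T)
    (h01 : N T (Function.Embedding.refl _) 0 1 = 0) (h10 : N T (Function.Embedding.refl _) 1 0 = 0)
    (h02 : N T (Function.Embedding.refl _) 0 2 = 0) (h20 : N T (Function.Embedding.refl _) 2 0 = 0)
    (h12 : N T (Function.Embedding.refl _) 1 2 = 1) (h21 : N T (Function.Embedding.refl _) 2 1 = 3)
    (h03 : N T (Function.Embedding.refl _) 0 3 = 1) (h30 : N T (Function.Embedding.refl _) 3 0 = 1)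
    (h13 : N T (Function.Embedding.refl _) 1 3 = 0) (h31 : N T (Function.Embedding.refl _) 3 1 = 0)
    (h23 : N T (Function.Embedding.refl _) 2 3 = 0) (h32 : N T (Function.Embedding.refl _) 3 2 = 0) :
    Goal T := by
  unfold Goal
  have hd := d
  obtain ⟨x01, x02, x03, x04, x10, x12, x13, x14, x20, x21, x23, x24, x30, x31, x32, x34, x40, x41, x42, x43, hx01, hx02, hx03, hx04, hx10, hx12, hx13, hx14, hx20, hx21, hx23, hx24, hx30, hx31, hx32, hx34, hx40, hx41, hx42, hx43, hw0, hm0, hw1, hm1, hw2, hm2, hw3, hm3, hw4, hm4, a00, a01, a02, a03, a04, a11, a10, a12, a13, a14, a22, a20, a21, a23, a24, a33, a30, a31, a32, a34, a44, a40, a41, a42, a43, wN01, wN02, wN12, wN03, wN13, wN23, wN04, wN14, wN24, wN34, e0, e1, e2, e3, e4, d01, d02, d12, d03, d13, d23, d04, d14, d24, d34⟩ := d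
  obtain rfl : x01 = 0 := hx01.trans h01
  obtain rfl : x10 = 0 := hx10.trans h10
  obtain rfl : x02 = 0 := hx02.trans h02
  obtain rfl : x20 = 0 := hx20.trans h20
  obtain rfl : x12 = 1 := hx12.trans h12
  obtain rfl : x21 = 3 := hx21.trans h21
  obtain rfl : x03 = 1 := hx03.trans h03
  obtain rfl : x30 = 1 := hx30.trans h30
  obtain rfl : x13 = 0 := hx13.trans h13
  obtain rfl : x31 = 0 := hx31.trans h31
  obtain rfl : x23 = 0 := hx23.trans h23
  obtain rfl : x32 = 0 := hx32.trans h32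
  rcases d04 with ⟨rfl, rfl⟩ | ⟨rfl, rfl⟩ | ⟨rfl, rfl⟩ | ⟨rfl, rfl⟩ | ⟨rfl, rfl⟩ | ⟨rfl, rfl⟩
  · -- 04=(0,0)
    rcases d14 with ⟨rfl, rfl⟩ | ⟨rfl, rfl⟩ | ⟨rfl, rfl⟩ | ⟨rfl, rfl⟩ | ⟨rfl, rfl⟩ | ⟨rfl, rfl⟩
    · -- 14=(0,0)
      rcases d24 with ⟨rfl, rfl⟩ | ⟨rfl, rfl⟩ | ⟨rfl, rfl⟩ | ⟨rfl, rfl⟩ | ⟨rfl, rfl⟩ | ⟨rfl, rfl⟩
      · -- 24=(0,0)
        rcases d34 with ⟨rfl, rfl⟩ | ⟨rfl, rfl⟩ | ⟨rfl, rfl⟩ | ⟨rfl, rfl⟩ | ⟨rfl, rfl⟩ | ⟨rfl, rfl⟩
        · -- 34=(0,0)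
          exfalso; omega
        · -- 34=(1,1)
          exfalso; omega
        · -- 34=(1,2)
          exfalso; omega
        · -- 34=(2,1)
          exfalso; omega
        · -- 34=(1,3)
          exact False.elim (cert_false T ((skipEmb 2).trans (Function.Embedding.refl _)) (by norm_num) (fun _ => hall _) (((((LB_zero T ((skipEmb 2).trans (Function.Embedding.refl _))).upd 0 2 1 (le_of_eq hx03)).upd 2 0 1 (le_of_eq hx30)).upd 2 3 1 (le_of_eq hx34)).upd 3 2 3 (le_of_eq hx43)) ![1,0,2,3] (by decide) (by decide) 0 (by decide))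
        · -- 34=(3,1)
          exact False.elim (cert_false T ((skipEmb 2).trans (Function.Embedding.refl _)) (by norm_num) (fun _ => hall _) (((((LB_zero T ((skipEmb 2).trans (Function.Embedding.refl _))).upd 0 2 1 (le_of_eq hx03)).upd 2 0 1 (le_of_eq hx30)).upd 2 3 3 (le_of_eq hx34)).upd 3 2 1 (le_of_eq hx43)) ![1,0,2,1] (by decide) (by decide) 0 (by decide))
      · -- 24=(1,1)
        exact False.elim (cert_false T ((skipEmb 3).trans (Function.Embedding.refl _)) (by norm_num) (fun _ => hall _) (((((LB_zero T ((skipEmb 3).trans (Function.Embedding.refl _))).upd 1 2 1 (le_of_eq hx12)).upd 2 1 3 (le_of_eq hx21)).upd 2 3 1 (le_of_eq hx24)).upd 3 2 1 (le_of_eq hx42)) ![0,1,2,1] (by decide) (by decide) 1 (by decide))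
      · -- 24=(1,2)
        exact False.elim (cert_false T ((skipEmb 3).trans (Function.Embedding.refl _)) (by norm_num) (fun _ => hall _) (((((LB_zero T ((skipEmb 3).trans (Function.Embedding.refl _))).upd 1 2 1 (le_of_eq hx12)).upd 2 1 3 (le_of_eq hx21)).upd 2 3 1 (le_of_eq hx24)).upd 3 2 2 (le_of_eq hx42)) ![0,1,2,1] (by decide) (by decide) 1 (by decide))
      · -- 24=(2,1)
        exact False.elim (cert_false T ((skipEmb 3).trans (Function.Embedding.refl _)) (by norm_num) (fun _ => hall _) (((((LB_zero T ((skipEmb 3).trans (Function.Embedding.refl _))).upd 1 2 1 (le_of_eq hx12)).upd 2 1 3 (le_of_eq hx21)).upd 2 3 2 (le_of_eq hx24)).upd 3 2 1 (le_of_eq hx42)) ![0,1,2,1] (by decide) (by decide) 1 (by decide))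
      · -- 24=(1,3)
        exact False.elim (cert_false T ((skipEmb 3).trans (Function.Embedding.refl _)) (by norm_num) (fun _ => hall _) (((((LB_zero T ((skipEmb 3).trans (Function.Embedding.refl _))).upd 1 2 1 (le_of_eq hx12)).upd 2 1 3 (le_of_eq hx21)).upd 2 3 1 (le_of_eq hx24)).upd 3 2 3 (le_of_eq hx42)) ![0,1,2,1] (by decide) (by decide) 1 (by decide))
      · -- 24=(3,1)
        exact False.elim (cert_false T ((skipEmb 3).trans (Function.Embedding.refl _)) (by norm_num) (fun _ => hall _) (((((LB_zero T ((skipEmb 3).trans (Function.Embedding.refl _))).upd 1 2 1 (le_of_eq hx12)).upd 2 1 3 (le_of_eq hx21)).upd 2 3 3 (le_of_eq hx24)).upd 3 2 1 (le_of_eq hx42)) ![0,1,2,1] (by decide) (by decide) 1 (by decide))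
    · -- 14=(1,1)
      exact False.elim (cert_false T ((skipEmb 3).trans (Function.Embedding.refl _)) (by norm_num) (fun _ => hall _) (((((LB_zero T ((skipEmb 3).trans (Function.Embedding.refl _))).upd 1 2 1 (le_of_eq hx12)).upd 1 3 1 (le_of_eq hx14)).upd 2 1 3 (le_of_eq hx21)).upd 3 1 1 (le_of_eq hx41)) ![0,2,3,1] (by decide) (by decide) 1 (by decide))
    · -- 14=(1,2)
      exact False.elim (cert_false T ((skipEmb 3).trans (Function.Embedding.refl _)) (by norm_num) (fun _ => hall _) (((((LB_zero T ((skipEmb 3).trans (Function.Embedding.refl _))).upd 1 2 1 (le_of_eq hx12)).upd 1 3 1 (le_of_eq hx14)).upd 2 1 3 (le_of_eq hx21)).upd 3 1 2 (le_of_eq hx41)) ![0,1,1,1] (by decide) (by decide) 1 (by decide))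
    · -- 14=(2,1)
      exact False.elim (cert_false T ((skipEmb 3).trans (Function.Embedding.refl _)) (by norm_num) (fun _ => hall _) (((((LB_zero T ((skipEmb 3).trans (Function.Embedding.refl _))).upd 1 2 1 (le_of_eq hx12)).upd 1 3 2 (le_of_eq hx14)).upd 2 1 3 (le_of_eq hx21)).upd 3 1 1 (le_of_eq hx41)) ![0,2,2,1] (by decide) (by decide) 1 (by decide))
    · -- 14=(1,3)
      exact False.elim (cert_false T ((skipEmb 3).trans (Function.Embedding.refl _)) (by norm_num) (fun _ => hall _) (((((LB_zero T ((skipEmb 3).trans (Function.Embedding.refl _))).upd 1 2 1 (le_of_eq hx12)).upd 1 3 1 (le_of_eq hx14)).upd 2 1 3 (le_of_eq hx21)).upd 3 1 3 (le_of_eq hx41)) ![0,1,1,1] (by decide) (by decide) 1 (by decide))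
    · -- 14=(3,1)
      exact False.elim (cert_false T ((skipEmb 3).trans (Function.Embedding.refl _)) (by norm_num) (fun _ => hall _) (((((LB_zero T ((skipEmb 3).trans (Function.Embedding.refl _))).upd 1 2 1 (le_of_eq hx12)).upd 1 3 3 (le_of_eq hx14)).upd 2 1 3 (le_of_eq hx21)).upd 3 1 1 (le_of_eq hx41)) ![0,2,1,1] (by decide) (by decide) 1 (by decide))
  · -- 04=(1,1)
    rcases d14 with ⟨rfl, rfl⟩ | ⟨rfl, rfl⟩ | ⟨rfl, rfl⟩ | ⟨rfl, rfl⟩ | ⟨rfl, rfl⟩ | ⟨rfl, rfl⟩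
    · -- 14=(0,0)
      rcases d24 with ⟨rfl, rfl⟩ | ⟨rfl, rfl⟩ | ⟨rfl, rfl⟩ | ⟨rfl, rfl⟩ | ⟨rfl, rfl⟩ | ⟨rfl, rfl⟩
      · -- 24=(0,0)
        rcases d34 with ⟨rfl, rfl⟩ | ⟨rfl, rfl⟩ | ⟨rfl, rfl⟩ | ⟨rfl, rfl⟩ | ⟨rfl, rfl⟩ | ⟨rfl, rfl⟩
        · -- 34=(0,0)
          exfalso; omega
        · -- 34=(1,1)
          exact False.elim (cert_false T ((skipEmb 2).trans (Function.Embedding.refl _)) (by norm_num) (fun _ => hall _) (((((((LB_zero T ((skipEmb 2).trans (Function.Embedding.refl _))).upd 0 2 1 (le_of_eq hx03)).upd 0 3 1 (le_of_eq hx04)).upd 2 0 1 (le_of_eq hx30)).upd 2 3 1 (le_of_eq hx34)).upd 3 0 1 (le_of_eq hx40)).upd 3 2 1 (le_of_eq hx43)) ![1,0,1,1] (by decide) (by decide) 0 (by decide))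
        · -- 34=(1,2)
          exact False.elim (cert_false T ((skipEmb 2).trans (Function.Embedding.refl _)) (by norm_num) (fun _ => hall _) (((((((LB_zero T ((skipEmb 2).trans (Function.Embedding.refl _))).upd 0 2 1 (le_of_eq hx03)).upd 0 3 1 (le_of_eq hx04)).upd 2 0 1 (le_of_eq hx30)).upd 2 3 1 (le_of_eq hx34)).upd 3 0 1 (le_of_eq hx40)).upd 3 2 2 (le_of_eq hx43)) ![1,0,1,1] (by decide) (by decide) 0 (by decide))
        · -- 34=(2,1)
          exact False.elim (cert_false T ((skipEmb 2).trans (Function.Embedding.refl _)) (by norm_num) (fun _ => hall _) (((((((LB_zero T ((skipEmb 2).trans (Function.Embedding.refl _))).upd 0 2 1 (le_of_eq hx03)).upd 0 3 1 (le_of_eq hx04)).upd 2 0 1 (le_of_eq hx30)).upd 2 3 2 (le_of_eq hx34)).upd 3 0 1 (le_of_eq hx40)).upd 3 2 1 (le_of_eq hx43)) ![1,0,1,1] (by decide) (by decide) 0 (by decide))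
        · -- 34=(1,3)
          exact False.elim (cert_false T ((skipEmb 2).trans (Function.Embedding.refl _)) (by norm_num) (fun _ => hall _) (((((((LB_zero T ((skipEmb 2).trans (Function.Embedding.refl _))).upd 0 2 1 (le_of_eq hx03)).upd 0 3 1 (le_of_eq hx04)).upd 2 0 1 (le_of_eq hx30)).upd 2 3 1 (le_of_eq hx34)).upd 3 0 1 (le_of_eq hx40)).upd 3 2 3 (le_of_eq hx43)) ![1,0,1,1] (by decide) (by decide) 0 (by decide))
        · -- 34=(3,1)
          exact False.elim (cert_false T ((skipEmb 2).trans (Function.Embedding.refl _)) (by norm_num) (fun _ => hall _) (((((((LB_zero T ((skipEmb 2).trans (Function.Embedding.refl _))).upd 0 2 1 (le_of_eq hx03)).upd 0 3 1 (le_of_eq hx04)).upd 2 0 1 (le_of_eq hx30)).upd 2 3 3 (le_of_eq hx34)).upd 3 0 1 (le_of_eq hx40)).upd 3 2 1 (le_of_eq hx43)) ![1,0,1,1] (by decide) (by decide) 0 (by decide))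
      · -- 24=(1,1)
        exact False.elim (cert_false T ((skipEmb 3).trans (Function.Embedding.refl _)) (by norm_num) (fun _ => hall _) (((((LB_zero T ((skipEmb 3).trans (Function.Embedding.refl _))).upd 1 2 1 (le_of_eq hx12)).upd 2 1 3 (le_of_eq hx21)).upd 2 3 1 (le_of_eq hx24)).upd 3 2 1 (le_of_eq hx42)) ![0,1,2,1] (by decide) (by decide) 1 (by decide))
      · -- 24=(1,2)
        exact False.elim (cert_false T ((skipEmb 3).trans (Function.Embedding.refl _)) (by norm_num) (fun _ => hall _) (((((LB_zero T ((skipEmb 3).trans (Function.Embedding.refl _))).upd 1 2 1 (le_of_eq hx12)).upd 2 1 3 (le_of_eq hx21)).upd 2 3 1 (le_of_eq hx24)).upd 3 2 2 (le_of_eq hx42)) ![0,1,2,1] (by decide) (by decide) 1 (by decide))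
      · -- 24=(2,1)
        exact False.elim (cert_false T ((skipEmb 3).trans (Function.Embedding.refl _)) (by norm_num) (fun _ => hall _) (((((LB_zero T ((skipEmb 3).trans (Function.Embedding.refl _))).upd 1 2 1 (le_of_eq hx12)).upd 2 1 3 (le_of_eq hx21)).upd 2 3 2 (le_of_eq hx24)).upd 3 2 1 (le_of_eq hx42)) ![0,1,2,1] (by decide) (by decide) 1 (by decide))
      · -- 24=(1,3)
        exact False.elim (cert_false T ((skipEmb 3).trans (Function.Embedding.refl _)) (by norm_num) (fun _ => hall _) (((((LB_zero T ((skipEmb 3).trans (Function.Embedding.refl _))).upd 0 3 1 (le_of_eq hx04)).upd 2 3 1 (le_of_eq hx24)).upd 3 0 1 (le_of_eq hx40)).upd 3 2 3 (le_of_eq hx42)) ![1,0,1,2] (by decide) (by decide) 0 (by decide))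
      · -- 24=(3,1)
        exact False.elim (cert_false T ((skipEmb 3).trans (Function.Embedding.refl _)) (by norm_num) (fun _ => hall _) (((((LB_zero T ((skipEmb 3).trans (Function.Embedding.refl _))).upd 1 2 1 (le_of_eq hx12)).upd 2 1 3 (le_of_eq hx21)).upd 2 3 3 (le_of_eq hx24)).upd 3 2 1 (le_of_eq hx42)) ![0,1,2,1] (by decide) (by decide) 1 (by decide))
    · -- 14=(1,1)
      exact False.elim (cert_false T ((skipEmb 3).trans (Function.Embedding.refl _)) (by norm_num) (fun _ => hall _) (((((LB_zero T ((skipEmb 3).trans (Function.Embedding.refl _))).upd 1 2 1 (le_of_eq hx12)).upd 1 3 1 (le_of_eq hx14)).upd 2 1 3 (le_of_eq hx21)).upd 3 1 1 (le_of_eq hx41)) ![0,2,3,1] (by decide) (by decide) 1 (by decide))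
    · -- 14=(1,2)
      exact False.elim (cert_false T ((skipEmb 3).trans (Function.Embedding.refl _)) (by norm_num) (fun _ => hall _) (((((LB_zero T ((skipEmb 3).trans (Function.Embedding.refl _))).upd 1 2 1 (le_of_eq hx12)).upd 1 3 1 (le_of_eq hx14)).upd 2 1 3 (le_of_eq hx21)).upd 3 1 2 (le_of_eq hx41)) ![0,1,1,1] (by decide) (by decide) 1 (by decide))
    · -- 14=(2,1)
      exact False.elim (cert_false T ((skipEmb 3).trans (Function.Embedding.refl _)) (by norm_num) (fun _ => hall _) (((((LB_zero T ((skipEmb 3).trans (Function.Embedding.refl _))).upd 1 2 1 (le_of_eq hx12)).upd 1 3 2 (le_of_eq hx14)).upd 2 1 3 (le_of_eq hx21)).upd 3 1 1 (le_of_eq hx41)) ![0,2,2,1] (by decide) (by decide) 1 (by decide))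
    · -- 14=(1,3)
      exact False.elim (cert_false T ((skipEmb 3).trans (Function.Embedding.refl _)) (by norm_num) (fun _ => hall _) (((((LB_zero T ((skipEmb 3).trans (Function.Embedding.refl _))).upd 1 2 1 (le_of_eq hx12)).upd 1 3 1 (le_of_eq hx14)).upd 2 1 3 (le_of_eq hx21)).upd 3 1 3 (le_of_eq hx41)) ![0,1,1,1] (by decide) (by decide) 1 (by decide))
    · -- 14=(3,1)
      exact False.elim (cert_false T ((skipEmb 3).trans (Function.Embedding.refl _)) (by norm_num) (fun _ => hall _) (((((LB_zero T ((skipEmb 3).trans (Function.Embedding.refl _))).upd 1 2 1 (le_of_eq hx12)).upd 1 3 3 (le_of_eq hx14)).upd 2 1 3 (le_of_eq hx21)).upd 3 1 1 (le_of_eq hx41)) ![0,2,1,1] (by decide) (by decide) 1 (by decide))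
  · -- 04=(1,2)
    rcases d14 with ⟨rfl, rfl⟩ | ⟨rfl, rfl⟩ | ⟨rfl, rfl⟩ | ⟨rfl, rfl⟩ | ⟨rfl, rfl⟩ | ⟨rfl, rfl⟩
    · -- 14=(0,0)
      rcases d24 with ⟨rfl, rfl⟩ | ⟨rfl, rfl⟩ | ⟨rfl, rfl⟩ | ⟨rfl, rfl⟩ | ⟨rfl, rfl⟩ | ⟨rfl, rfl⟩
      · -- 24=(0,0)
        rcases d34 with ⟨rfl, rfl⟩ | ⟨rfl, rfl⟩ | ⟨rfl, rfl⟩ | ⟨rfl, rfl⟩ | ⟨rfl, rfl⟩ | ⟨rfl, rfl⟩
        · -- 34=(0,0)
          exfalso; omega
        · -- 34=(1,1)
          exact False.elim (cert_false T ((skipEmb 2).trans (Function.Embedding.refl _)) (by norm_num) (fun _ => hall _) (((((((LB_zero T ((skipEmb 2).trans (Function.Embedding.refl _))).upd 0 2 1 (le_of_eq hx03)).upd 0 3 1 (le_of_eq hx04)).upd 2 0 1 (le_of_eq hx30)).upd 2 3 1 (le_of_eq hx34)).upd 3 0 2 (le_of_eq hx40)).upd 3 2 1 (le_of_eq hx43)) ![1,0,1,1] (by decide) (by decide) 0 (by decide))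
        · -- 34=(1,2)
          exact False.elim (cert_false T ((skipEmb 2).trans (Function.Embedding.refl _)) (by norm_num) (fun _ => hall _) (((((((LB_zero T ((skipEmb 2).trans (Function.Embedding.refl _))).upd 0 2 1 (le_of_eq hx03)).upd 0 3 1 (le_of_eq hx04)).upd 2 0 1 (le_of_eq hx30)).upd 2 3 1 (le_of_eq hx34)).upd 3 0 2 (le_of_eq hx40)).upd 3 2 2 (le_of_eq hx43)) ![1,0,1,1] (by decide) (by decide) 0 (by decide))
        · -- 34=(2,1)
          exact False.elim (cert_false T ((skipEmb 2).trans (Function.Embedding.refl _)) (by norm_num) (fun _ => hall _) (((((((LB_zero T ((skipEmb 2).trans (Function.Embedding.refl _))).upd 0 2 1 (le_of_eq hx03)).upd 0 3 1 (le_of_eq hx04)).upd 2 0 1 (le_of_eq hx30)).upd 2 3 2 (le_of_eq hx34)).upd 3 0 2 (le_of_eq hx40)).upd 3 2 1 (le_of_eq hx43)) ![1,0,1,1] (by decide) (by decide) 0 (by decide))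
        · -- 34=(1,3)
          exact False.elim (cert_false T ((skipEmb 2).trans (Function.Embedding.refl _)) (by norm_num) (fun _ => hall _) (((((((LB_zero T ((skipEmb 2).trans (Function.Embedding.refl _))).upd 0 2 1 (le_of_eq hx03)).upd 0 3 1 (le_of_eq hx04)).upd 2 0 1 (le_of_eq hx30)).upd 2 3 1 (le_of_eq hx34)).upd 3 0 2 (le_of_eq hx40)).upd 3 2 3 (le_of_eq hx43)) ![1,0,1,1] (by decide) (by decide) 0 (by decide))
        · -- 34=(3,1)
          exact False.elim (cert_false T ((skipEmb 2).trans (Function.Embedding.refl _)) (by norm_num) (fun _ => hall _) (((((((LB_zero T ((skipEmb 2).trans (Function.Embedding.refl _))).upd 0 2 1 (le_of_eq hx03)).upd 0 3 1 (le_of_eq hx04)).upd 2 0 1 (le_of_eq hx30)).upd 2 3 3 (le_of_eq hx34)).upd 3 0 2 (le_of_eq hx40)).upd 3 2 1 (le_of_eq hx43)) ![1,0,1,1] (by decide) (by decide) 0 (by decide))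
      · -- 24=(1,1)
        exact False.elim (cert_false T ((skipEmb 3).trans (Function.Embedding.refl _)) (by norm_num) (fun _ => hall _) (((((LB_zero T ((skipEmb 3).trans (Function.Embedding.refl _))).upd 1 2 1 (le_of_eq hx12)).upd 2 1 3 (le_of_eq hx21)).upd 2 3 1 (le_of_eq hx24)).upd 3 2 1 (le_of_eq hx42)) ![0,1,2,1] (by decide) (by decide) 1 (by decide))
      · -- 24=(1,2)
        exact False.elim (cert_false T ((skipEmb 3).trans (Function.Embedding.refl _)) (by norm_num) (fun _ => hall _) (((((LB_zero T ((skipEmb 3).trans (Function.Embedding.refl _))).upd 0 3 1 (le_of_eq hx04)).upd 2 3 1 (le_of_eq hx24)).upd 3 0 2 (le_of_eq hx40)).upd 3 2 2 (le_of_eq hx42)) ![1,0,1,2] (by decide) (by decide) 0 (by decide))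
      · -- 24=(2,1)
        exact False.elim (cert_false T ((skipEmb 3).trans (Function.Embedding.refl _)) (by norm_num) (fun _ => hall _) (((((LB_zero T ((skipEmb 3).trans (Function.Embedding.refl _))).upd 0 3 1 (le_of_eq hx04)).upd 2 3 2 (le_of_eq hx24)).upd 3 0 2 (le_of_eq hx40)).upd 3 2 1 (le_of_eq hx42)) ![1,0,2,2] (by decide) (by decide) 0 (by decide))
      · -- 24=(1,3)
        exact False.elim (cert_false T ((skipEmb 3).trans (Function.Embedding.refl _)) (by norm_num) (fun _ => hall _) (((((LB_zero T ((skipEmb 3).trans (Function.Embedding.refl _))).upd 1 2 1 (le_of_eq hx12)).upd 2 1 3 (le_of_eq hx21)).upd 2 3 1 (le_of_eq hx24)).upd 3 2 3 (le_of_eq hx42)) ![0,1,2,1] (by decide) (by decide) 1 (by decide))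
      · -- 24=(3,1)
        exact False.elim (cert_false T ((skipEmb 3).trans (Function.Embedding.refl _)) (by norm_num) (fun _ => hall _) (((((LB_zero T ((skipEmb 3).trans (Function.Embedding.refl _))).upd 0 3 1 (le_of_eq hx04)).upd 2 3 3 (le_of_eq hx24)).upd 3 0 2 (le_of_eq hx40)).upd 3 2 1 (le_of_eq hx42)) ![1,0,2,2] (by decide) (by decide) 0 (by decide))
    · -- 14=(1,1)
      exact False.elim (cert_false T ((skipEmb 3).trans (Function.Embedding.refl _)) (by norm_num) (fun _ => hall _) (((((((LB_zero T ((skipEmb 3).trans (Function.Embedding.refl _))).upd 0 3 1 (le_of_eq hx04)).upd 1 2 1 (le_of_eq hx12)).upd 1 3 1 (le_of_eq hx14)).upd 2 1 3 (le_of_eq hx21)).upd 3 0 2 (le_of_eq hx40)).upd 3 1 1 (le_of_eq hx41)) ![1,2,2,2] (by decide) (by decide) 0 (by decide))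
    · -- 14=(1,2)
      exact False.elim (cert_false T ((skipEmb 3).trans (Function.Embedding.refl _)) (by norm_num) (fun _ => hall _) (((((LB_zero T ((skipEmb 3).trans (Function.Embedding.refl _))).upd 1 2 1 (le_of_eq hx12)).upd 1 3 1 (le_of_eq hx14)).upd 2 1 3 (le_of_eq hx21)).upd 3 1 2 (le_of_eq hx41)) ![0,1,1,1] (by decide) (by decide) 1 (by decide))
    · -- 14=(2,1)
      exact False.elim (cert_false T ((skipEmb 3).trans (Function.Embedding.refl _)) (by norm_num) (fun _ => hall _) (((((LB_zero T ((skipEmb 3).trans (Function.Embedding.refl _))).upd 0 3 1 (le_of_eq hx04)).upd 1 3 2 (le_of_eq hx14)).upd 3 0 2 (le_of_eq hx40)).upd 3 1 1 (le_of_eq hx41)) ![1,2,0,2] (by decide) (by decide) 0 (by decide))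
    · -- 14=(1,3)
      exact False.elim (cert_false T ((skipEmb 3).trans (Function.Embedding.refl _)) (by norm_num) (fun _ => hall _) (((((LB_zero T ((skipEmb 3).trans (Function.Embedding.refl _))).upd 1 2 1 (le_of_eq hx12)).upd 1 3 1 (le_of_eq hx14)).upd 2 1 3 (le_of_eq hx21)).upd 3 1 3 (le_of_eq hx41)) ![0,1,1,1] (by decide) (by decide) 1 (by decide))
    · -- 14=(3,1)
      exact False.elim (cert_false T ((skipEmb 3).trans (Function.Embedding.refl _)) (by norm_num) (fun _ => hall _) (((((LB_zero T ((skipEmb 3).trans (Function.Embedding.refl _))).upd 0 3 1 (le_of_eq hx04)).upd 1 3 3 (le_of_eq hx14)).upd 3 0 2 (le_of_eq hx40)).upd 3 1 1 (le_of_eq hx41)) ![1,2,0,2] (by decide) (by decide) 0 (by decide))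
  · -- 04=(2,1)
    rcases d14 with ⟨rfl, rfl⟩ | ⟨rfl, rfl⟩ | ⟨rfl, rfl⟩ | ⟨rfl, rfl⟩ | ⟨rfl, rfl⟩ | ⟨rfl, rfl⟩
    · -- 14=(0,0)
      rcases d24 with ⟨rfl, rfl⟩ | ⟨rfl, rfl⟩ | ⟨rfl, rfl⟩ | ⟨rfl, rfl⟩ | ⟨rfl, rfl⟩ | ⟨rfl, rfl⟩
      · -- 24=(0,0)
        rcases d34 with ⟨rfl, rfl⟩ | ⟨rfl, rfl⟩ | ⟨rfl, rfl⟩ | ⟨rfl, rfl⟩ | ⟨rfl, rfl⟩ | ⟨rfl, rfl⟩
        · -- 34=(0,0)
          exfalso; omega
        · -- 34=(1,1)
          exact False.elim (cert_false T ((skipEmb 2).trans (Function.Embedding.refl _)) (by norm_num) (fun _ => hall _) (((((((LB_zero T ((skipEmb 2).trans (Function.Embedding.refl _))).upd 0 2 1 (le_of_eq hx03)).upd 0 3 2 (le_of_eq hx04)).upd 2 0 1 (le_of_eq hx30)).upd 2 3 1 (le_of_eq hx34)).upd 3 0 1 (le_of_eq hx40)).upd 3 2 1 (le_of_eq hx43)) ![1,0,1,1] (by decide) (by decide) 0 (by decide))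
        · -- 34=(1,2)
          exact False.elim (cert_false T ((skipEmb 2).trans (Function.Embedding.refl _)) (by norm_num) (fun _ => hall _) (((((((LB_zero T ((skipEmb 2).trans (Function.Embedding.refl _))).upd 0 2 1 (le_of_eq hx03)).upd 0 3 2 (le_of_eq hx04)).upd 2 0 1 (le_of_eq hx30)).upd 2 3 1 (le_of_eq hx34)).upd 3 0 1 (le_of_eq hx40)).upd 3 2 2 (le_of_eq hx43)) ![1,0,1,1] (by decide) (by decide) 0 (by decide))
        · -- 34=(2,1)
          exact False.elim (cert_false T ((skipEmb 2).trans (Function.Embedding.refl _)) (by norm_num) (fun _ => hall _) (((((((LB_zero T ((skipEmb 2).trans (Function.Embedding.refl _))).upd 0 2 1 (le_of_eq hx03)).upd 0 3 2 (le_of_eq hx04)).upd 2 0 1 (le_of_eq hx30)).upd 2 3 2 (le_of_eq hx34)).upd 3 0 1 (le_of_eq hx40)).upd 3 2 1 (le_of_eq hx43)) ![1,0,1,1] (by decide) (by decide) 0 (by decide))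
        · -- 34=(1,3)
          exact False.elim (cert_false T ((skipEmb 2).trans (Function.Embedding.refl _)) (by norm_num) (fun _ => hall _) (((((((LB_zero T ((skipEmb 2).trans (Function.Embedding.refl _))).upd 0 2 1 (le_of_eq hx03)).upd 0 3 2 (le_of_eq hx04)).upd 2 0 1 (le_of_eq hx30)).upd 2 3 1 (le_of_eq hx34)).upd 3 0 1 (le_of_eq hx40)).upd 3 2 3 (le_of_eq hx43)) ![1,0,1,1] (by decide) (by decide) 0 (by decide))
        · -- 34=(3,1)
          exact False.elim (cert_false T ((skipEmb 2).trans (Function.Embedding.refl _)) (by norm_num) (fun _ => hall _) (((((((LB_zero T ((skipEmb 2).trans (Function.Embedding.refl _))).upd 0 2 1 (le_of_eq hx03)).upd 0 3 2 (le_of_eq hx04)).upd 2 0 1 (le_of_eq hx30)).upd 2 3 3 (le_of_eq hx34)).upd 3 0 1 (le_of_eq hx40)).upd 3 2 1 (le_of_eq hx43)) ![1,0,1,1] (by decide) (by decide) 0 (by decide))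
      · -- 24=(1,1)
        exact False.elim (cert_false T ((skipEmb 3).trans (Function.Embedding.refl _)) (by norm_num) (fun _ => hall _) (((((LB_zero T ((skipEmb 3).trans (Function.Embedding.refl _))).upd 1 2 1 (le_of_eq hx12)).upd 2 1 3 (le_of_eq hx21)).upd 2 3 1 (le_of_eq hx24)).upd 3 2 1 (le_of_eq hx42)) ![0,1,2,1] (by decide) (by decide) 1 (by decide))
      · -- 24=(1,2)
        exact False.elim (cert_false T ((skipEmb 3).trans (Function.Embedding.refl _)) (by norm_num) (fun _ => hall _) (((((LB_zero T ((skipEmb 3).trans (Function.Embedding.refl _))).upd 0 3 2 (le_of_eq hx04)).upd 2 3 1 (le_of_eq hx24)).upd 3 0 1 (le_of_eq hx40)).upd 3 2 2 (le_of_eq hx42)) ![2,0,1,2] (by decide) (by decide) 0 (by decide))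
      · -- 24=(2,1)
        exact False.elim (cert_false T ((skipEmb 3).trans (Function.Embedding.refl _)) (by norm_num) (fun _ => hall _) (((((LB_zero T ((skipEmb 3).trans (Function.Embedding.refl _))).upd 0 3 2 (le_of_eq hx04)).upd 2 3 2 (le_of_eq hx24)).upd 3 0 1 (le_of_eq hx40)).upd 3 2 1 (le_of_eq hx42)) ![1,0,1,1] (by decide) (by decide) 0 (by decide))
      · -- 24=(1,3)
        exact False.elim (cert_false T ((skipEmb 3).trans (Function.Embedding.refl _)) (by norm_num) (fun _ => hall _) (((((LB_zero T ((skipEmb 3).trans (Function.Embedding.refl _))).upd 0 3 2 (le_of_eq hx04)).upd 2 3 1 (le_of_eq hx24)).upd 3 0 1 (le_of_eq hx40)).upd 3 2 3 (le_of_eq hx42)) ![1,0,1,2] (by decide) (by decide) 0 (by decide))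
      · -- 24=(3,1)
        exact False.elim (cert_false T ((skipEmb 3).trans (Function.Embedding.refl _)) (by norm_num) (fun _ => hall _) (((((LB_zero T ((skipEmb 3).trans (Function.Embedding.refl _))).upd 0 3 2 (le_of_eq hx04)).upd 2 3 3 (le_of_eq hx24)).upd 3 0 1 (le_of_eq hx40)).upd 3 2 1 (le_of_eq hx42)) ![1,0,1,1] (by decide) (by decide) 0 (by decide))
    · -- 14=(1,1)
      exact False.elim (cert_false T ((skipEmb 3).trans (Function.Embedding.refl _)) (by norm_num) (fun _ => hall _) (((((((LB_zero T ((skipEmb 3).trans (Function.Embedding.refl _))).upd 0 3 2 (le_of_eq hx04)).upd 1 2 1 (le_of_eq hx12)).upd 1 3 1 (le_of_eq hx14)).upd 2 1 3 (le_of_eq hx21)).upd 3 0 1 (le_of_eq hx40)).upd 3 1 1 (le_of_eq hx41)) ![1,1,1,1] (by decide) (by decide) 0 (by decide))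
    · -- 14=(1,2)
      exact False.elim (cert_false T ((skipEmb 3).trans (Function.Embedding.refl _)) (by norm_num) (fun _ => hall _) (((((LB_zero T ((skipEmb 3).trans (Function.Embedding.refl _))).upd 1 2 1 (le_of_eq hx12)).upd 1 3 1 (le_of_eq hx14)).upd 2 1 3 (le_of_eq hx21)).upd 3 1 2 (le_of_eq hx41)) ![0,1,1,1] (by decide) (by decide) 1 (by decide))
    · -- 14=(2,1)
      exact False.elim (cert_false T ((skipEmb 3).trans (Function.Embedding.refl _)) (by norm_num) (fun _ => hall _) (((((LB_zero T ((skipEmb 3).trans (Function.Embedding.refl _))).upd 0 3 2 (le_of_eq hx04)).upd 1 3 2 (le_of_eq hx14)).upd 3 0 1 (le_of_eq hx40)).upd 3 1 1 (le_of_eq hx41)) ![1,1,0,1] (by decide) (by decide) 0 (by decide))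
    · -- 14=(1,3)
      exact False.elim (cert_false T ((skipEmb 3).trans (Function.Embedding.refl _)) (by norm_num) (fun _ => hall _) (((((LB_zero T ((skipEmb 3).trans (Function.Embedding.refl _))).upd 1 2 1 (le_of_eq hx12)).upd 1 3 1 (le_of_eq hx14)).upd 2 1 3 (le_of_eq hx21)).upd 3 1 3 (le_of_eq hx41)) ![0,1,1,1] (by decide) (by decide) 1 (by decide))
    · -- 14=(3,1)
      exact False.elim (cert_false T ((skipEmb 3).trans (Function.Embedding.refl _)) (by norm_num) (fun _ => hall _) (((((LB_zero T ((skipEmb 3).trans (Function.Embedding.refl _))).upd 0 3 2 (le_of_eq hx04)).upd 1 3 3 (le_of_eq hx14)).upd 3 0 1 (le_of_eq hx40)).upd 3 1 1 (le_of_eq hx41)) ![1,1,0,1] (by decide) (by decide) 0 (by decide))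
  · -- 04=(1,3)
    exact False.elim (cert_false T ((skipEmb 2).trans (Function.Embedding.refl _)) (by norm_num) (fun _ => hall _) (((((LB_zero T ((skipEmb 2).trans (Function.Embedding.refl _))).upd 0 2 1 (le_of_eq hx03)).upd 0 3 1 (le_of_eq hx04)).upd 2 0 1 (le_of_eq hx30)).upd 3 0 3 (le_of_eq hx40)) ![2,0,1,3] (by decide) (by decide) 0 (by decide))
  · -- 04=(3,1)
    exact False.elim (cert_false T ((skipEmb 2).trans (Function.Embedding.refl _)) (by norm_num) (fun _ => hall _) (((((LB_zero T ((skipEmb 2).trans (Function.Embedding.refl _))).upd 0 2 1 (le_of_eq hx03)).upd 0 3 3 (le_of_eq hx04)).upd 2 0 1 (le_of_eq hx30)).upd 3 0 1 (le_of_eq hx40)) ![2,0,1,1] (by decide) (by decide) 0 (by decide))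

theorem case187 (T : NumericalType 5) (hall : ∀ i, T.IsMinusTwo i) (d : SData T)
    (h01 : N T (Function.Embedding.refl _) 0 1 = 0) (h10 : N T (Function.Embedding.refl _) 1 0 = 0)
    (h02 : N T (Function.Embedding.refl _) 0 2 = 0) (h20 : N T (Function.Embedding.refl _) 2 0 = 0)
    (h12 : N T (Function.Embedding.refl _) 1 2 = 1) (h21 : N T (Function.Embedding.refl _) 2 1 = 3)
    (h03 : N T (Function.Embedding.refl _) 0 3 = 1) (h30 : N T (Function.Embedding.refl _) 3 0 = 1)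
    (h13 : N T (Function.Embedding.refl _) 1 3 = 0) (h31 : N T (Function.Embedding.refl _) 3 1 = 0) :
    Goal T := by
  unfold Goal
  have hd := d
  obtain ⟨x01, x02, x03, x04, x10, x12, x13, x14, x20, x21, x23, x24, x30, x31, x32, x34, x40, x41, x42, x43, hx01, hx02, hx03, hx04, hx10, hx12, hx13, hx14, hx20, hx21, hx23, hx24, hx30, hx31, hx32, hx34, hx40, hx41, hx42, hx43, hw0, hm0, hw1, hm1, hw2, hm2, hw3, hm3, hw4, hm4, a00, a01, a02, a03, a04, a11, a10, a12, a13, a14, a22, a20, a21, a23, a24, a33, a30, a31, a32, a34, a44, a40, a41, a42, a43, wN01, wN02, wN12, wN03, wN13, wN23, wN04, wN14, wN24, wN34, e0, e1, e2, e3, e4, d01, d02, d12, d03, d13, d23, d04, d14, d24, d34⟩ := d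
  obtain rfl : x01 = 0 := hx01.trans h01
  obtain rfl : x10 = 0 := hx10.trans h10
  obtain rfl : x02 = 0 := hx02.trans h02
  obtain rfl : x20 = 0 := hx20.trans h20
  obtain rfl : x12 = 1 := hx12.trans h12
  obtain rfl : x21 = 3 := hx21.trans h21
  obtain rfl : x03 = 1 := hx03.trans h03
  obtain rfl : x30 = 1 := hx30.trans h30
  obtain rfl : x13 = 0 := hx13.trans h13
  obtain rfl : x31 = 0 := hx31.trans h31
  rcases d23 with ⟨rfl, rfl⟩ | ⟨rfl, rfl⟩ | ⟨rfl, rfl⟩ | ⟨rfl, rfl⟩ | ⟨rfl, rfl⟩ | ⟨rfl, rfl⟩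
  · -- 23=(0,0)
    exact case188 T hall hd hx01.symm hx10.symm hx02.symm hx20.symm hx12.symm hx21.symm hx03.symm hx30.symm hx13.symm hx31.symm hx23.symm hx32.symm
  · -- 23=(1,1)
    exact False.elim (cert_false T ((skipEmb 4).trans (Function.Embedding.refl _)) (by norm_num) (fun _ => hall _) (((((LB_zero T ((skipEmb 4).trans (Function.Embedding.refl _))).upd 1 2 1 (le_of_eq hx12)).upd 2 1 3 (le_of_eq hx21)).upd 2 3 1 (le_of_eq hx23)).upd 3 2 1 (le_of_eq hx32)) ![0,1,2,1] (by decide) (by decide) 1 (by decide))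
  · -- 23=(1,2)
    exact False.elim (cert_false T ((skipEmb 4).trans (Function.Embedding.refl _)) (by norm_num) (fun _ => hall _) (((((LB_zero T ((skipEmb 4).trans (Function.Embedding.refl _))).upd 1 2 1 (le_of_eq hx12)).upd 2 1 3 (le_of_eq hx21)).upd 2 3 1 (le_of_eq hx23)).upd 3 2 2 (le_of_eq hx32)) ![0,1,2,1] (by decide) (by decide) 1 (by decide))
  · -- 23=(2,1)
    exact False.elim (cert_false T ((skipEmb 4).trans (Function.Embedding.refl _)) (by norm_num) (fun _ => hall _) (((((LB_zero T ((skipEmb 4).trans (Function.Embedding.refl _))).upd 1 2 1 (le_of_eq hx12)).upd 2 1 3 (le_of_eq hx21)).upd 2 3 2 (le_of_eq hx23)).upd 3 2 1 (le_of_eq hx32)) ![0,1,2,1] (by decide) (by decide) 1 (by decide))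
  · -- 23=(1,3)
    exact False.elim (cert_false T ((skipEmb 4).trans (Function.Embedding.refl _)) (by norm_num) (fun _ => hall _) (((((LB_zero T ((skipEmb 4).trans (Function.Embedding.refl _))).upd 0 3 1 (le_of_eq hx03)).upd 2 3 1 (le_of_eq hx23)).upd 3 0 1 (le_of_eq hx30)).upd 3 2 3 (le_of_eq hx32)) ![1,0,1,2] (by decide) (by decide) 0 (by decide))
  · -- 23=(3,1)
    exact False.elim (cert_false T ((skipEmb 4).trans (Function.Embedding.refl _)) (by norm_num) (fun _ => hall _) (((((LB_zero T ((skipEmb 4).trans (Function.Embedding.refl _))).upd 1 2 1 (le_of_eq hx12)).upd 2 1 3 (le_of_eq hx21)).upd 2 3 3 (le_of_eq hx23)).upd 3 2 1 (le_of_eq hx32)) ![0,1,2,1] (by decide) (by decide) 1 (by decide))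

theorem case231 (T : NumericalType 5) (hall : ∀ i, T.IsMinusTwo i) (d : SData T)
    (h01 : N T (Function.Embedding.refl _) 0 1 = 0) (h10 : N T (Function.Embedding.refl _) 1 0 = 0)
    (h02 : N T (Function.Embedding.refl _) 0 2 = 1) (h20 : N T (Function.Embedding.refl _) 2 0 = 1)
    (h12 : N T (Function.Embedding.refl _) 1 2 = 0) (h21 : N T (Function.Embedding.refl _) 2 1 = 0)
    (h03 : N T (Function.Embedding.refl _) 0 3 = 1) (h30 : N T (Function.Embedding.refl _) 3 0 = 1)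
    (h13 : N T (Function.Embedding.refl _) 1 3 = 1) (h31 : N T (Function.Embedding.refl _) 3 1 = 1)
    (h23 : N T (Function.Embedding.refl _) 2 3 = 0) (h32 : N T (Function.Embedding.refl _) 3 2 = 0)
    (h04 : N T (Function.Embedding.refl _) 0 4 = 0) (h40 : N T (Function.Embedding.refl _) 4 0 = 0) :
    Goal T := by
  unfold Goal
  have hd := d
  obtain ⟨x01, x02, x03, x04, x10, x12, x13, x14, x20, x21, x23, x24, x30, x31, x32, x34, x40, x41, x42, x43, hx01, hx02, hx03, hx04, hx10, hx12, hx13, hx14, hx20, hx21, hx23, hx24, hx30, hx31, hx32, hx34, hx40, hx41, hx42, hx43, hw0, hm0, hw1, hm1, hw2, hm2, hw3, hm3, hw4, hm4, a00, a01, a02, a03, a04, a11, a10, a12, a13, a14, a22, a20, a21, a23, a24, a33, a30, a31, a32, a34, a44, a40, a41, a42, a43, wN01, wN02, wN12, wN03, wN13, wN23, wN04, wN14, wN24, wN34, e0, e1, e2, e3, e4, d01, d02, d12, d03, d13, d23, d04, d14, d24, d34⟩ := d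
  obtain rfl : x01 = 0 := hx01.trans h01
  obtain rfl : x10 = 0 := hx10.trans h10
  obtain rfl : x02 = 1 := hx02.trans h02
  obtain rfl : x20 = 1 := hx20.trans h20
  obtain rfl : x12 = 0 := hx12.trans h12
  obtain rfl : x21 = 0 := hx21.trans h21
  obtain rfl : x03 = 1 := hx03.trans h03
  obtain rfl : x30 = 1 := hx30.trans h30
  obtain rfl : x13 = 1 := hx13.trans h13
  obtain rfl : x31 = 1 := hx31.trans h31
  obtain rfl : x23 = 0 := hx23.trans h23
  obtain rfl : x32 = 0 := hx32.trans h32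
  obtain rfl : x04 = 0 := hx04.trans h04
  obtain rfl : x40 = 0 := hx40.trans h40
  rcases d14 with ⟨rfl, rfl⟩ | ⟨rfl, rfl⟩ | ⟨rfl, rfl⟩ | ⟨rfl, rfl⟩ | ⟨rfl, rfl⟩ | ⟨rfl, rfl⟩
  · -- 14=(0,0)
    rcases d24 with ⟨rfl, rfl⟩ | ⟨rfl, rfl⟩ | ⟨rfl, rfl⟩ | ⟨rfl, rfl⟩ | ⟨rfl, rfl⟩ | ⟨rfl, rfl⟩
    · -- 24=(0,0)
      rcases d34 with ⟨rfl, rfl⟩ | ⟨rfl, rfl⟩ | ⟨rfl, rfl⟩ | ⟨rfl, rfl⟩ | ⟨rfl, rfl⟩ | ⟨rfl, rfl⟩
      · -- 34=(0,0)
        exfalso; omega
      · -- 34=(1,1)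
        exfalso; omega
      · -- 34=(1,2)
        exact False.elim (cert_false T ((skipEmb 2).trans (Function.Embedding.refl _)) (by norm_num) (fun _ => hall _) (((((((LB_zero T ((skipEmb 2).trans (Function.Embedding.refl _))).upd 0 2 1 (le_of_eq hx03)).upd 1 2 1 (le_of_eq hx13)).upd 2 0 1 (le_of_eq hx30)).upd 2 1 1 (le_of_eq hx31)).upd 2 3 1 (le_of_eq hx34)).upd 3 2 2 (le_of_eq hx43)) ![1,1,2,2] (by decide) (by decide) 0 (by decide))
      · -- 34=(2,1)
        exact False.elim (cert_false T ((skipEmb 2).trans (Function.Embedding.refl _)) (by norm_num) (fun _ => hall _) (((((((LB_zero T ((skipEmb 2).trans (Function.Embedding.refl _))).upd 0 2 1 (le_of_eq hx03)).upd 1 2 1 (le_of_eq hx13)).upd 2 0 1 (le_of_eq hx30)).upd 2 1 1 (le_of_eq hx31)).upd 2 3 2 (le_of_eq hx34)).upd 3 2 1 (le_of_eq hx43)) ![1,1,2,1] (by decide) (by decide) 0 (by decide))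
      · -- 34=(1,3)
        exact False.elim (cert_false T ((skipEmb 2).trans (Function.Embedding.refl _)) (by norm_num) (fun _ => hall _) (((((((LB_zero T ((skipEmb 2).trans (Function.Embedding.refl _))).upd 0 2 1 (le_of_eq hx03)).upd 1 2 1 (le_of_eq hx13)).upd 2 0 1 (le_of_eq hx30)).upd 2 1 1 (le_of_eq hx31)).upd 2 3 1 (le_of_eq hx34)).upd 3 2 3 (le_of_eq hx43)) ![1,1,2,2] (by decide) (by decide) 0 (by decide))
      · -- 34=(3,1)
        exact False.elim (cert_false T ((skipEmb 2).trans (Function.Embedding.refl _)) (by norm_num) (fun _ => hall _) (((((LB_zero T ((skipEmb 2).trans (Function.Embedding.refl _))).upd 1 2 1 (le_of_eq hx13)).upd 2 1 1 (le_of_eq hx31)).upd 2 3 3 (le_of_eq hx34)).upd 3 2 1 (le_of_eq hx43)) ![0,1,2,1] (by decide) (by decide) 1 (by decide))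
    · -- 24=(1,1)
      rcases d34 with ⟨rfl, rfl⟩ | ⟨rfl, rfl⟩ | ⟨rfl, rfl⟩ | ⟨rfl, rfl⟩ | ⟨rfl, rfl⟩ | ⟨rfl, rfl⟩
      · -- 34=(0,0)
        exfalso; omega
      · -- 34=(1,1)
        exact False.elim (cert_false T ((skipEmb 1).trans (Function.Embedding.refl _)) (by norm_num) (fun _ => hall _) (((((((((LB_zero T ((skipEmb 1).trans (Function.Embedding.refl _))).upd 0 1 1 (le_of_eq hx02)).upd 0 2 1 (le_of_eq hx03)).upd 1 0 1 (le_of_eq hx20)).upd 1 3 1 (le_of_eq hx24)).upd 2 0 1 (le_of_eq hx30)).upd 2 3 1 (le_of_eq hx34)).upd 3 1 1 (le_of_eq hx42)).upd 3 2 1 (le_of_eq hx43)) ![1,1,1,1] (by decide) (by decide) 0 (by decide))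
      · -- 34=(1,2)
        exact False.elim (cert_false T ((skipEmb 2).trans (Function.Embedding.refl _)) (by norm_num) (fun _ => hall _) (((((((LB_zero T ((skipEmb 2).trans (Function.Embedding.refl _))).upd 0 2 1 (le_of_eq hx03)).upd 1 2 1 (le_of_eq hx13)).upd 2 0 1 (le_of_eq hx30)).upd 2 1 1 (le_of_eq hx31)).upd 2 3 1 (le_of_eq hx34)).upd 3 2 2 (le_of_eq hx43)) ![1,1,2,2] (by decide) (by decide) 0 (by decide))
      · -- 34=(2,1)
        exact False.elim (cert_false T ((skipEmb 2).trans (Function.Embedding.refl _)) (by norm_num) (fun _ => hall _) (((((((LB_zero T ((skipEmb 2).trans (Function.Embedding.refl _))).upd 0 2 1 (le_of_eq hx03)).upd 1 2 1 (le_of_eq hx13)).upd 2 0 1 (le_of_eq hx30)).upd 2 1 1 (le_of_eq hx31)).upd 2 3 2 (le_of_eq hx34)).upd 3 2 1 (le_of_eq hx43)) ![1,1,2,1] (by decide) (by decide) 0 (by decide))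
      · -- 34=(1,3)
        exact False.elim (cert_false T ((skipEmb 2).trans (Function.Embedding.refl _)) (by norm_num) (fun _ => hall _) (((((((LB_zero T ((skipEmb 2).trans (Function.Embedding.refl _))).upd 0 2 1 (le_of_eq hx03)).upd 1 2 1 (le_of_eq hx13)).upd 2 0 1 (le_of_eq hx30)).upd 2 1 1 (le_of_eq hx31)).upd 2 3 1 (le_of_eq hx34)).upd 3 2 3 (le_of_eq hx43)) ![1,1,2,2] (by decide) (by decide) 0 (by decide))
      · -- 34=(3,1)
        exact False.elim (cert_false T ((skipEmb 2).trans (Function.Embedding.refl _)) (by norm_num) (fun _ => hall _) (((((LB_zero T ((skipEmb 2).trans (Function.Embedding.refl _))).upd 1 2 1 (le_of_eq hx13)).upd 2 1 1 (le_of_eq hx31)).upd 2 3 3 (le_of_eq hx34)).upd 3 2 1 (le_of_eq hx43)) ![0,1,2,1] (by decide) (by decide) 1 (by decide))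
    · -- 24=(1,2)
      rcases d34 with ⟨rfl, rfl⟩ | ⟨rfl, rfl⟩ | ⟨rfl, rfl⟩ | ⟨rfl, rfl⟩ | ⟨rfl, rfl⟩ | ⟨rfl, rfl⟩
      · -- 34=(0,0)
        exfalso; omega
      · -- 34=(1,1)
        exact False.elim (cert_false T ((skipEmb 1).trans (Function.Embedding.refl _)) (by norm_num) (fun _ => hall _) (((((((((LB_zero T ((skipEmb 1).trans (Function.Embedding.refl _))).upd 0 1 1 (le_of_eq hx02)).upd 0 2 1 (le_of_eq hx03)).upd 1 0 1 (le_of_eq hx20)).upd 1 3 1 (le_of_eq hx24)).upd 2 0 1 (le_of_eq hx30)).upd 2 3 1 (le_of_eq hx34)).upd 3 1 2 (le_of_eq hx42)).upd 3 2 1 (le_of_eq hx43)) ![1,1,1,1] (by decide) (by decide) 0 (by decide))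
      · -- 34=(1,2)
        exact False.elim (cert_false T ((skipEmb 2).trans (Function.Embedding.refl _)) (by norm_num) (fun _ => hall _) (((((((LB_zero T ((skipEmb 2).trans (Function.Embedding.refl _))).upd 0 2 1 (le_of_eq hx03)).upd 1 2 1 (le_of_eq hx13)).upd 2 0 1 (le_of_eq hx30)).upd 2 1 1 (le_of_eq hx31)).upd 2 3 1 (le_of_eq hx34)).upd 3 2 2 (le_of_eq hx43)) ![1,1,2,2] (by decide) (by decide) 0 (by decide))
      · -- 34=(2,1)
        exact False.elim (cert_false T ((skipEmb 2).trans (Function.Embedding.refl _)) (by norm_num) (fun _ => hall _) (((((((LB_zero T ((skipEmb 2).trans (Function.Embedding.refl _))).upd 0 2 1 (le_of_eq hx03)).upd 1 2 1 (le_of_eq hx13)).upd 2 0 1 (le_of_eq hx30)).upd 2 1 1 (le_of_eq hx31)).upd 2 3 2 (le_of_eq hx34)).upd 3 2 1 (le_of_eq hx43)) ![1,1,2,1] (by decide) (by decide) 0 (by decide))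
      · -- 34=(1,3)
        exact False.elim (cert_false T ((skipEmb 2).trans (Function.Embedding.refl _)) (by norm_num) (fun _ => hall _) (((((((LB_zero T ((skipEmb 2).trans (Function.Embedding.refl _))).upd 0 2 1 (le_of_eq hx03)).upd 1 2 1 (le_of_eq hx13)).upd 2 0 1 (le_of_eq hx30)).upd 2 1 1 (le_of_eq hx31)).upd 2 3 1 (le_of_eq hx34)).upd 3 2 3 (le_of_eq hx43)) ![1,1,2,2] (by decide) (by decide) 0 (by decide))
      · -- 34=(3,1)
        exact False.elim (cert_false T ((skipEmb 2).trans (Function.Embedding.refl _)) (by norm_num) (fun _ => hall _) (((((LB_zero T ((skipEmb 2).trans (Function.Embedding.refl _))).upd 1 2 1 (le_of_eq hx13)).upd 2 1 1 (le_of_eq hx31)).upd 2 3 3 (le_of_eq hx34)).upd 3 2 1 (le_of_eq hx43)) ![0,1,2,1] (by decide) (by decide) 1 (by decide))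
    · -- 24=(2,1)
      rcases d34 with ⟨rfl, rfl⟩ | ⟨rfl, rfl⟩ | ⟨rfl, rfl⟩ | ⟨rfl, rfl⟩ | ⟨rfl, rfl⟩ | ⟨rfl, rfl⟩
      · -- 34=(0,0)
        exfalso; omega
      · -- 34=(1,1)
        exact False.elim (cert_false T ((skipEmb 1).trans (Function.Embedding.refl _)) (by norm_num) (fun _ => hall _) (((((((((LB_zero T ((skipEmb 1).trans (Function.Embedding.refl _))).upd 0 1 1 (le_of_eq hx02)).upd 0 2 1 (le_of_eq hx03)).upd 1 0 1 (le_of_eq hx20)).upd 1 3 2 (le_of_eq hx24)).upd 2 0 1 (le_of_eq hx30)).upd 2 3 1 (le_of_eq hx34)).upd 3 1 1 (le_of_eq hx42)).upd 3 2 1 (le_of_eq hx43)) ![1,1,1,1] (by decide) (by decide) 0 (by decide))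
      · -- 34=(1,2)
        exact False.elim (cert_false T ((skipEmb 2).trans (Function.Embedding.refl _)) (by norm_num) (fun _ => hall _) (((((((LB_zero T ((skipEmb 2).trans (Function.Embedding.refl _))).upd 0 2 1 (le_of_eq hx03)).upd 1 2 1 (le_of_eq hx13)).upd 2 0 1 (le_of_eq hx30)).upd 2 1 1 (le_of_eq hx31)).upd 2 3 1 (le_of_eq hx34)).upd 3 2 2 (le_of_eq hx43)) ![1,1,2,2] (by decide) (by decide) 0 (by decide))
      · -- 34=(2,1)
        exact False.elim (cert_false T ((skipEmb 2).trans (Function.Embedding.refl _)) (by norm_num) (fun _ => hall _) (((((((LB_zero T ((skipEmb 2).trans (Function.Embedding.refl _))).upd 0 2 1 (le_of_eq hx03)).upd 1 2 1 (le_of_eq hx13)).upd 2 0 1 (le_of_eq hx30)).upd 2 1 1 (le_of_eq hx31)).upd 2 3 2 (le_of_eq hx34)).upd 3 2 1 (le_of_eq hx43)) ![1,1,2,1] (by decide) (by decide) 0 (by decide))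
      · -- 34=(1,3)
        exact False.elim (cert_false T ((skipEmb 2).trans (Function.Embedding.refl _)) (by norm_num) (fun _ => hall _) (((((((LB_zero T ((skipEmb 2).trans (Function.Embedding.refl _))).upd 0 2 1 (le_of_eq hx03)).upd 1 2 1 (le_of_eq hx13)).upd 2 0 1 (le_of_eq hx30)).upd 2 1 1 (le_of_eq hx31)).upd 2 3 1 (le_of_eq hx34)).upd 3 2 3 (le_of_eq hx43)) ![1,1,2,2] (by decide) (by decide) 0 (by decide))
      · -- 34=(3,1)
        exact False.elim (cert_false T ((skipEmb 2).trans (Function.Embedding.refl _)) (by norm_num) (fun _ => hall _) (((((LB_zero T ((skipEmb 2).trans (Function.Embedding.refl _))).upd 1 2 1 (le_of_eq hx13)).upd 2 1 1 (le_of_eq hx31)).upd 2 3 3 (le_of_eq hx34)).upd 3 2 1 (le_of_eq hx43)) ![0,1,2,1] (by decide) (by decide) 1 (by decide))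
    · -- 24=(1,3)
      exact False.elim (cert_false T ((skipEmb 3).trans (Function.Embedding.refl _)) (by norm_num) (fun _ => hall _) (((((LB_zero T ((skipEmb 3).trans (Function.Embedding.refl _))).upd 0 2 1 (le_of_eq hx02)).upd 2 0 1 (le_of_eq hx20)).upd 2 3 1 (le_of_eq hx24)).upd 3 2 3 (le_of_eq hx42)) ![1,0,2,3] (by decide) (by decide) 0 (by decide))
    · -- 24=(3,1)
      exact False.elim (cert_false T ((skipEmb 3).trans (Function.Embedding.refl _)) (by norm_num) (fun _ => hall _) (((((LB_zero T ((skipEmb 3).trans (Function.Embedding.refl _))).upd 0 2 1 (le_of_eq hx02)).upd 2 0 1 (le_of_eq hx20)).upd 2 3 3 (le_of_eq hx24)).upd 3 2 1 (le_of_eq hx42)) ![1,0,2,1] (by decide) (by decide) 0 (by decide))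
  · -- 14=(1,1)
    rcases d24 with ⟨rfl, rfl⟩ | ⟨rfl, rfl⟩ | ⟨rfl, rfl⟩ | ⟨rfl, rfl⟩ | ⟨rfl, rfl⟩ | ⟨rfl, rfl⟩
    · -- 24=(0,0)
      rcases d34 with ⟨rfl, rfl⟩ | ⟨rfl, rfl⟩ | ⟨rfl, rfl⟩ | ⟨rfl, rfl⟩ | ⟨rfl, rfl⟩ | ⟨rfl, rfl⟩
      · -- 34=(0,0)
        exfalso; omega
      · -- 34=(1,1)
        exact False.elim (cert_false T ((skipEmb 2).trans (Function.Embedding.refl _)) (by norm_num) (fun _ => hall _) (((((((LB_zero T ((skipEmb 2).trans (Function.Embedding.refl _))).upd 1 2 1 (le_of_eq hx13)).upd 1 3 1 (le_of_eq hx14)).upd 2 1 1 (le_of_eq hx31)).upd 2 3 1 (le_of_eq hx34)).upd 3 1 1 (le_of_eq hx41)).upd 3 2 1 (le_of_eq hx43)) ![0,1,1,1] (by decide) (by decide) 1 (by decide))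
      · -- 34=(1,2)
        exact False.elim (cert_false T ((skipEmb 2).trans (Function.Embedding.refl _)) (by norm_num) (fun _ => hall _) (((((((LB_zero T ((skipEmb 2).trans (Function.Embedding.refl _))).upd 1 2 1 (le_of_eq hx13)).upd 1 3 1 (le_of_eq hx14)).upd 2 1 1 (le_of_eq hx31)).upd 2 3 1 (le_of_eq hx34)).upd 3 1 1 (le_of_eq hx41)).upd 3 2 2 (le_of_eq hx43)) ![0,1,1,1] (by decide) (by decide) 1 (by decide))
      · -- 34=(2,1)
        exact False.elim (cert_false T ((skipEmb 2).trans (Function.Embedding.refl _)) (by norm_num) (fun _ => hall _) (((((((LB_zero T ((skipEmb 2).trans (Function.Embedding.refl _))).upd 1 2 1 (le_of_eq hx13)).upd 1 3 1 (le_of_eq hx14)).upd 2 1 1 (le_of_eq hx31)).upd 2 3 2 (le_of_eq hx34)).upd 3 1 1 (le_of_eq hx41)).upd 3 2 1 (le_of_eq hx43)) ![0,1,1,1] (by decide) (by decide) 1 (by decide))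
      · -- 34=(1,3)
        exact False.elim (cert_false T ((skipEmb 2).trans (Function.Embedding.refl _)) (by norm_num) (fun _ => hall _) (((((((LB_zero T ((skipEmb 2).trans (Function.Embedding.refl _))).upd 1 2 1 (le_of_eq hx13)).upd 1 3 1 (le_of_eq hx14)).upd 2 1 1 (le_of_eq hx31)).upd 2 3 1 (le_of_eq hx34)).upd 3 1 1 (le_of_eq hx41)).upd 3 2 3 (le_of_eq hx43)) ![0,1,1,1] (by decide) (by decide) 1 (by decide))
      · -- 34=(3,1)
        exact False.elim (cert_false T ((skipEmb 2).trans (Function.Embedding.refl _)) (by norm_num) (fun _ => hall _) (((((((LB_zero T ((skipEmb 2).trans (Function.Embedding.refl _))).upd 1 2 1 (le_of_eq hx13)).upd 1 3 1 (le_of_eq hx14)).upd 2 1 1 (le_of_eq hx31)).upd 2 3 3 (le_of_eq hx34)).upd 3 1 1 (le_of_eq hx41)).upd 3 2 1 (le_of_eq hx43)) ![0,1,1,1] (by decide) (by decide) 1 (by decide))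
    · -- 24=(1,1)
      rcases d34 with ⟨rfl, rfl⟩ | ⟨rfl, rfl⟩ | ⟨rfl, rfl⟩ | ⟨rfl, rfl⟩ | ⟨rfl, rfl⟩ | ⟨rfl, rfl⟩
      · -- 34=(0,0)
        refine ⟨(⟨![0, 2, 4, 1, 3], ![0, 3, 1, 4, 2], by decide, by decide⟩ : Equiv.Perm (Fin 5)), T.m 0, T.w 0, Or.inl ?_⟩
        show T.m 0 = T.m 0 ∧ T.m 2 = T.m 0 ∧ T.m 4 = T.m 0 ∧ T.m 1 = T.m 0 ∧ T.m 3 = T.m 0 ∧ T.w 0 = T.w 0 ∧ T.w 2 = T.w 0 ∧ T.w 4 = T.w 0 ∧ T.w 1 = T.w 0 ∧ T.w 3 = T.w 0 ∧ T.a 0 0 = -2 * T.w 0 ∧ T.a 0 2 = T.w 0 ∧ T.a 0 4 = 0 ∧ T.a 0 1 = 0 ∧ T.a 0 3 = T.w 0 ∧ T.a 2 2 = -2 * T.w 0 ∧ T.a 2 4 = T.w 0 ∧ T.a 2 1 = 0 ∧ T.a 2 3 = 0 ∧ T.a 4 4 = -2 * T.w 0 ∧ T.a 4 1 = T.w 0 ∧ T.a 4 3 = 0 ∧ T.a 1 1 = -2 * T.w 0 ∧ T.a 1 3 = T.w 0 ∧ T.a 3 3 = -2 * T.w 0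
        refine ⟨?_, ?_, ?_, ?_, ?_, ?_, ?_, ?_, ?_, ?_, ?_, ?_, ?_, ?_, ?_, ?_, ?_, ?_, ?_, ?_, ?_, ?_, ?_, ?_, ?_⟩ <;> omega
      · -- 34=(1,1)
        exact False.elim (cert_false T ((skipEmb 2).trans (Function.Embedding.refl _)) (by norm_num) (fun _ => hall _) (((((((LB_zero T ((skipEmb 2).trans (Function.Embedding.refl _))).upd 1 2 1 (le_of_eq hx13)).upd 1 3 1 (le_of_eq hx14)).upd 2 1 1 (le_of_eq hx31)).upd 2 3 1 (le_of_eq hx34)).upd 3 1 1 (le_of_eq hx41)).upd 3 2 1 (le_of_eq hx43)) ![0,1,1,1] (by decide) (by decide) 1 (by decide))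
      · -- 34=(1,2)
        exact False.elim (cert_false T ((skipEmb 2).trans (Function.Embedding.refl _)) (by norm_num) (fun _ => hall _) (((((((LB_zero T ((skipEmb 2).trans (Function.Embedding.refl _))).upd 1 2 1 (le_of_eq hx13)).upd 1 3 1 (le_of_eq hx14)).upd 2 1 1 (le_of_eq hx31)).upd 2 3 1 (le_of_eq hx34)).upd 3 1 1 (le_of_eq hx41)).upd 3 2 2 (le_of_eq hx43)) ![0,1,1,1] (by decide) (by decide) 1 (by decide))
      · -- 34=(2,1)
        exact False.elim (cert_false T ((skipEmb 2).trans (Function.Embedding.refl _)) (by norm_num) (fun _ => hall _) (((((((LB_zero T ((skipEmb 2).trans (Function.Embedding.refl _))).upd 1 2 1 (le_of_eq hx13)).upd 1 3 1 (le_of_eq hx14)).upd 2 1 1 (le_of_eq hx31)).upd 2 3 2 (le_of_eq hx34)).upd 3 1 1 (le_of_eq hx41)).upd 3 2 1 (le_of_eq hx43)) ![0,1,1,1] (by decide) (by decide) 1 (by decide))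
      · -- 34=(1,3)
        exact False.elim (cert_false T ((skipEmb 2).trans (Function.Embedding.refl _)) (by norm_num) (fun _ => hall _) (((((((LB_zero T ((skipEmb 2).trans (Function.Embedding.refl _))).upd 1 2 1 (le_of_eq hx13)).upd 1 3 1 (le_of_eq hx14)).upd 2 1 1 (le_of_eq hx31)).upd 2 3 1 (le_of_eq hx34)).upd 3 1 1 (le_of_eq hx41)).upd 3 2 3 (le_of_eq hx43)) ![0,1,1,1] (by decide) (by decide) 1 (by decide))
      · -- 34=(3,1)
        exact False.elim (cert_false T ((skipEmb 2).trans (Function.Embedding.refl _)) (by norm_num) (fun _ => hall _) (((((((LB_zero T ((skipEmb 2).trans (Function.Embedding.refl _))).upd 1 2 1 (le_of_eq hx13)).upd 1 3 1 (le_of_eq hx14)).upd 2 1 1 (le_of_eq hx31)).upd 2 3 3 (le_of_eq hx34)).upd 3 1 1 (le_of_eq hx41)).upd 3 2 1 (le_of_eq hx43)) ![0,1,1,1] (by decide) (by decide) 1 (by decide))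
    · -- 24=(1,2)
      rcases d34 with ⟨rfl, rfl⟩ | ⟨rfl, rfl⟩ | ⟨rfl, rfl⟩ | ⟨rfl, rfl⟩ | ⟨rfl, rfl⟩ | ⟨rfl, rfl⟩
      · -- 34=(0,0)
        exfalso; omega
      · -- 34=(1,1)
        exact False.elim (cert_false T ((skipEmb 2).trans (Function.Embedding.refl _)) (by norm_num) (fun _ => hall _) (((((((LB_zero T ((skipEmb 2).trans (Function.Embedding.refl _))).upd 1 2 1 (le_of_eq hx13)).upd 1 3 1 (le_of_eq hx14)).upd 2 1 1 (le_of_eq hx31)).upd 2 3 1 (le_of_eq hx34)).upd 3 1 1 (le_of_eq hx41)).upd 3 2 1 (le_of_eq hx43)) ![0,1,1,1] (by decide) (by decide) 1 (by decide))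
      · -- 34=(1,2)
        exact False.elim (cert_false T ((skipEmb 2).trans (Function.Embedding.refl _)) (by norm_num) (fun _ => hall _) (((((((LB_zero T ((skipEmb 2).trans (Function.Embedding.refl _))).upd 1 2 1 (le_of_eq hx13)).upd 1 3 1 (le_of_eq hx14)).upd 2 1 1 (le_of_eq hx31)).upd 2 3 1 (le_of_eq hx34)).upd 3 1 1 (le_of_eq hx41)).upd 3 2 2 (le_of_eq hx43)) ![0,1,1,1] (by decide) (by decide) 1 (by decide))
      · -- 34=(2,1)
        exact False.elim (cert_false T ((skipEmb 2).trans (Function.Embedding.refl _)) (by norm_num) (fun _ => hall _) (((((((LB_zero T ((skipEmb 2).trans (Function.Embedding.refl _))).upd 1 2 1 (le_of_eq hx13)).upd 1 3 1 (le_of_eq hx14)).upd 2 1 1 (le_of_eq hx31)).upd 2 3 2 (le_of_eq hx34)).upd 3 1 1 (le_of_eq hx41)).upd 3 2 1 (le_of_eq hx43)) ![0,1,1,1] (by decide) (by decide) 1 (by decide))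
      · -- 34=(1,3)
        exact False.elim (cert_false T ((skipEmb 2).trans (Function.Embedding.refl _)) (by norm_num) (fun _ => hall _) (((((((LB_zero T ((skipEmb 2).trans (Function.Embedding.refl _))).upd 1 2 1 (le_of_eq hx13)).upd 1 3 1 (le_of_eq hx14)).upd 2 1 1 (le_of_eq hx31)).upd 2 3 1 (le_of_eq hx34)).upd 3 1 1 (le_of_eq hx41)).upd 3 2 3 (le_of_eq hx43)) ![0,1,1,1] (by decide) (by decide) 1 (by decide))
      · -- 34=(3,1)
        exact False.elim (cert_false T ((skipEmb 2).trans (Function.Embedding.refl _)) (by norm_num) (fun _ => hall _) (((((((LB_zero T ((skipEmb 2).trans (Function.Embedding.refl _))).upd 1 2 1 (le_of_eq hx13)).upd 1 3 1 (le_of_eq hx14)).upd 2 1 1 (le_of_eq hx31)).upd 2 3 3 (le_of_eq hx34)).upd 3 1 1 (le_of_eq hx41)).upd 3 2 1 (le_of_eq hx43)) ![0,1,1,1] (by decide) (by decide) 1 (by decide))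
    · -- 24=(2,1)
      rcases d34 with ⟨rfl, rfl⟩ | ⟨rfl, rfl⟩ | ⟨rfl, rfl⟩ | ⟨rfl, rfl⟩ | ⟨rfl, rfl⟩ | ⟨rfl, rfl⟩
      · -- 34=(0,0)
        exfalso; omega
      · -- 34=(1,1)
        exact False.elim (cert_false T ((skipEmb 2).trans (Function.Embedding.refl _)) (by norm_num) (fun _ => hall _) (((((((LB_zero T ((skipEmb 2).trans (Function.Embedding.refl _))).upd 1 2 1 (le_of_eq hx13)).upd 1 3 1 (le_of_eq hx14)).upd 2 1 1 (le_of_eq hx31)).upd 2 3 1 (le_of_eq hx34)).upd 3 1 1 (le_of_eq hx41)).upd 3 2 1 (le_of_eq hx43)) ![0,1,1,1] (by decide) (by decide) 1 (by decide))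
      · -- 34=(1,2)
        exact False.elim (cert_false T ((skipEmb 2).trans (Function.Embedding.refl _)) (by norm_num) (fun _ => hall _) (((((((LB_zero T ((skipEmb 2).trans (Function.Embedding.refl _))).upd 1 2 1 (le_of_eq hx13)).upd 1 3 1 (le_of_eq hx14)).upd 2 1 1 (le_of_eq hx31)).upd 2 3 1 (le_of_eq hx34)).upd 3 1 1 (le_of_eq hx41)).upd 3 2 2 (le_of_eq hx43)) ![0,1,1,1] (by decide) (by decide) 1 (by decide))
      · -- 34=(2,1)
        exact False.elim (cert_false T ((skipEmb 2).trans (Function.Embedding.refl _)) (by norm_num) (fun _ => hall _) (((((((LB_zero T ((skipEmb 2).trans (Function.Embedding.refl _))).upd 1 2 1 (le_of_eq hx13)).upd 1 3 1 (le_of_eq hx14)).upd 2 1 1 (le_of_eq hx31)).upd 2 3 2 (le_of_eq hx34)).upd 3 1 1 (le_of_eq hx41)).upd 3 2 1 (le_of_eq hx43)) ![0,1,1,1] (by decide) (by decide) 1 (by decide))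
      · -- 34=(1,3)
        exact False.elim (cert_false T ((skipEmb 2).trans (Function.Embedding.refl _)) (by norm_num) (fun _ => hall _) (((((((LB_zero T ((skipEmb 2).trans (Function.Embedding.refl _))).upd 1 2 1 (le_of_eq hx13)).upd 1 3 1 (le_of_eq hx14)).upd 2 1 1 (le_of_eq hx31)).upd 2 3 1 (le_of_eq hx34)).upd 3 1 1 (le_of_eq hx41)).upd 3 2 3 (le_of_eq hx43)) ![0,1,1,1] (by decide) (by decide) 1 (by decide))
      · -- 34=(3,1)
        exact False.elim (cert_false T ((skipEmb 2).trans (Function.Embedding.refl _)) (by norm_num) (fun _ => hall _) (((((((LB_zero T ((skipEmb 2).trans (Function.Embedding.refl _))).upd 1 2 1 (le_of_eq hx13)).upd 1 3 1 (le_of_eq hx14)).upd 2 1 1 (le_of_eq hx31)).upd 2 3 3 (le_of_eq hx34)).upd 3 1 1 (le_of_eq hx41)).upd 3 2 1 (le_of_eq hx43)) ![0,1,1,1] (by decide) (by decide) 1 (by decide))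
    · -- 24=(1,3)
      exact False.elim (cert_false T ((skipEmb 3).trans (Function.Embedding.refl _)) (by norm_num) (fun _ => hall _) (((((LB_zero T ((skipEmb 3).trans (Function.Embedding.refl _))).upd 1 3 1 (le_of_eq hx14)).upd 2 3 1 (le_of_eq hx24)).upd 3 1 1 (le_of_eq hx41)).upd 3 2 3 (le_of_eq hx42)) ![0,1,1,2] (by decide) (by decide) 1 (by decide))
    · -- 24=(3,1)
      exact False.elim (cert_false T ((skipEmb 3).trans (Function.Embedding.refl _)) (by norm_num) (fun _ => hall _) (((((LB_zero T ((skipEmb 3).trans (Function.Embedding.refl _))).upd 0 2 1 (le_of_eq hx02)).upd 2 0 1 (le_of_eq hx20)).upd 2 3 3 (le_of_eq hx24)).upd 3 2 1 (le_of_eq hx42)) ![1,0,2,1] (by decide) (by decide) 0 (by decide))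
  · -- 14=(1,2)
    rcases d24 with ⟨rfl, rfl⟩ | ⟨rfl, rfl⟩ | ⟨rfl, rfl⟩ | ⟨rfl, rfl⟩ | ⟨rfl, rfl⟩ | ⟨rfl, rfl⟩
    · -- 24=(0,0)
      rcases d34 with ⟨rfl, rfl⟩ | ⟨rfl, rfl⟩ | ⟨rfl, rfl⟩ | ⟨rfl, rfl⟩ | ⟨rfl, rfl⟩ | ⟨rfl, rfl⟩
      · -- 34=(0,0)
        exfalso; omega
      · -- 34=(1,1)
        exact False.elim (cert_false T ((skipEmb 2).trans (Function.Embedding.refl _)) (by norm_num) (fun _ => hall _) (((((((LB_zero T ((skipEmb 2).trans (Function.Embedding.refl _))).upd 1 2 1 (le_of_eq hx13)).upd 1 3 1 (le_of_eq hx14)).upd 2 1 1 (le_of_eq hx31)).upd 2 3 1 (le_of_eq hx34)).upd 3 1 2 (le_of_eq hx41)).upd 3 2 1 (le_of_eq hx43)) ![0,1,1,1] (by decide) (by decide) 1 (by decide))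
      · -- 34=(1,2)
        exact False.elim (cert_false T ((skipEmb 2).trans (Function.Embedding.refl _)) (by norm_num) (fun _ => hall _) (((((((LB_zero T ((skipEmb 2).trans (Function.Embedding.refl _))).upd 1 2 1 (le_of_eq hx13)).upd 1 3 1 (le_of_eq hx14)).upd 2 1 1 (le_of_eq hx31)).upd 2 3 1 (le_of_eq hx34)).upd 3 1 2 (le_of_eq hx41)).upd 3 2 2 (le_of_eq hx43)) ![0,1,1,1] (by decide) (by decide) 1 (by decide))
      · -- 34=(2,1)
        exact False.elim (cert_false T ((skipEmb 2).trans (Function.Embedding.refl _)) (by norm_num) (fun _ => hall _) (((((((LB_zero T ((skipEmb 2).trans (Function.Embedding.refl _))).upd 1 2 1 (le_of_eq hx13)).upd 1 3 1 (le_of_eq hx14)).upd 2 1 1 (le_of_eq hx31)).upd 2 3 2 (le_of_eq hx34)).upd 3 1 2 (le_of_eq hx41)).upd 3 2 1 (le_of_eq hx43)) ![0,1,1,1] (by decide) (by decide) 1 (by decide))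
      · -- 34=(1,3)
        exact False.elim (cert_false T ((skipEmb 2).trans (Function.Embedding.refl _)) (by norm_num) (fun _ => hall _) (((((((LB_zero T ((skipEmb 2).trans (Function.Embedding.refl _))).upd 1 2 1 (le_of_eq hx13)).upd 1 3 1 (le_of_eq hx14)).upd 2 1 1 (le_of_eq hx31)).upd 2 3 1 (le_of_eq hx34)).upd 3 1 2 (le_of_eq hx41)).upd 3 2 3 (le_of_eq hx43)) ![0,1,1,1] (by decide) (by decide) 1 (by decide))
      · -- 34=(3,1)
        exact False.elim (cert_false T ((skipEmb 2).trans (Function.Embedding.refl _)) (by norm_num) (fun _ => hall _) (((((((LB_zero T ((skipEmb 2).trans (Function.Embedding.refl _))).upd 1 2 1 (le_of_eq hx13)).upd 1 3 1 (le_of_eq hx14)).upd 2 1 1 (le_of_eq hx31)).upd 2 3 3 (le_of_eq hx34)).upd 3 1 2 (le_of_eq hx41)).upd 3 2 1 (le_of_eq hx43)) ![0,1,1,1] (by decide) (by decide) 1 (by decide))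
    · -- 24=(1,1)
      rcases d34 with ⟨rfl, rfl⟩ | ⟨rfl, rfl⟩ | ⟨rfl, rfl⟩ | ⟨rfl, rfl⟩ | ⟨rfl, rfl⟩ | ⟨rfl, rfl⟩
      · -- 34=(0,0)
        exfalso; omega
      · -- 34=(1,1)
        exact False.elim (cert_false T ((skipEmb 2).trans (Function.Embedding.refl _)) (by norm_num) (fun _ => hall _) (((((((LB_zero T ((skipEmb 2).trans (Function.Embedding.refl _))).upd 1 2 1 (le_of_eq hx13)).upd 1 3 1 (le_of_eq hx14)).upd 2 1 1 (le_of_eq hx31)).upd 2 3 1 (le_of_eq hx34)).upd 3 1 2 (le_of_eq hx41)).upd 3 2 1 (le_of_eq hx43)) ![0,1,1,1] (by decide) (by decide) 1 (by decide))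
      · -- 34=(1,2)
        exact False.elim (cert_false T ((skipEmb 2).trans (Function.Embedding.refl _)) (by norm_num) (fun _ => hall _) (((((((LB_zero T ((skipEmb 2).trans (Function.Embedding.refl _))).upd 1 2 1 (le_of_eq hx13)).upd 1 3 1 (le_of_eq hx14)).upd 2 1 1 (le_of_eq hx31)).upd 2 3 1 (le_of_eq hx34)).upd 3 1 2 (le_of_eq hx41)).upd 3 2 2 (le_of_eq hx43)) ![0,1,1,1] (by decide) (by decide) 1 (by decide))
      · -- 34=(2,1)
        exact False.elim (cert_false T ((skipEmb 2).trans (Function.Embedding.refl _)) (by norm_num) (fun _ => hall _) (((((((LB_zero T ((skipEmb 2).trans (Function.Embedding.refl _))).upd 1 2 1 (le_of_eq hx13)).upd 1 3 1 (le_of_eq hx14)).upd 2 1 1 (le_of_eq hx31)).upd 2 3 2 (le_of_eq hx34)).upd 3 1 2 (le_of_eq hx41)).upd 3 2 1 (le_of_eq hx43)) ![0,1,1,1] (by decide) (by decide) 1 (by decide))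
      · -- 34=(1,3)
        exact False.elim (cert_false T ((skipEmb 2).trans (Function.Embedding.refl _)) (by norm_num) (fun _ => hall _) (((((((LB_zero T ((skipEmb 2).trans (Function.Embedding.refl _))).upd 1 2 1 (le_of_eq hx13)).upd 1 3 1 (le_of_eq hx14)).upd 2 1 1 (le_of_eq hx31)).upd 2 3 1 (le_of_eq hx34)).upd 3 1 2 (le_of_eq hx41)).upd 3 2 3 (le_of_eq hx43)) ![0,1,1,1] (by decide) (by decide) 1 (by decide))
      · -- 34=(3,1)
        exact False.elim (cert_false T ((skipEmb 2).trans (Function.Embedding.refl _)) (by norm_num) (fun _ => hall _) (((((((LB_zero T ((skipEmb 2).trans (Function.Embedding.refl _))).upd 1 2 1 (le_of_eq hx13)).upd 1 3 1 (le_of_eq hx14)).upd 2 1 1 (le_of_eq hx31)).upd 2 3 3 (le_of_eq hx34)).upd 3 1 2 (le_of_eq hx41)).upd 3 2 1 (le_of_eq hx43)) ![0,1,1,1] (by decide) (by decide) 1 (by decide))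
    · -- 24=(1,2)
      exact False.elim (cert_false T ((skipEmb 3).trans (Function.Embedding.refl _)) (by norm_num) (fun _ => hall _) (((((LB_zero T ((skipEmb 3).trans (Function.Embedding.refl _))).upd 1 3 1 (le_of_eq hx14)).upd 2 3 1 (le_of_eq hx24)).upd 3 1 2 (le_of_eq hx41)).upd 3 2 2 (le_of_eq hx42)) ![0,1,1,2] (by decide) (by decide) 1 (by decide))
    · -- 24=(2,1)
      exact False.elim (cert_false T ((skipEmb 3).trans (Function.Embedding.refl _)) (by norm_num) (fun _ => hall _) (((((LB_zero T ((skipEmb 3).trans (Function.Embedding.refl _))).upd 1 3 1 (le_of_eq hx14)).upd 2 3 2 (le_of_eq hx24)).upd 3 1 2 (le_of_eq hx41)).upd 3 2 1 (le_of_eq hx42)) ![0,1,2,2] (by decide) (by decide) 1 (by decide))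
    · -- 24=(1,3)
      exact False.elim (cert_false T ((skipEmb 3).trans (Function.Embedding.refl _)) (by norm_num) (fun _ => hall _) (((((LB_zero T ((skipEmb 3).trans (Function.Embedding.refl _))).upd 1 3 1 (le_of_eq hx14)).upd 2 3 1 (le_of_eq hx24)).upd 3 1 2 (le_of_eq hx41)).upd 3 2 3 (le_of_eq hx42)) ![0,1,1,2] (by decide) (by decide) 1 (by decide))
    · -- 24=(3,1)
      exact False.elim (cert_false T ((skipEmb 3).trans (Function.Embedding.refl _)) (by norm_num) (fun _ => hall _) (((((LB_zero T ((skipEmb 3).trans (Function.Embedding.refl _))).upd 1 3 1 (le_of_eq hx14)).upd 2 3 3 (le_of_eq hx24)).upd 3 1 2 (le_of_eq hx41)).upd 3 2 1 (le_of_eq hx42)) ![0,1,2,2] (by decide) (by decide) 1 (by decide))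
  · -- 14=(2,1)
    rcases d24 with ⟨rfl, rfl⟩ | ⟨rfl, rfl⟩ | ⟨rfl, rfl⟩ | ⟨rfl, rfl⟩ | ⟨rfl, rfl⟩ | ⟨rfl, rfl⟩
    · -- 24=(0,0)
      rcases d34 with ⟨rfl, rfl⟩ | ⟨rfl, rfl⟩ | ⟨rfl, rfl⟩ | ⟨rfl, rfl⟩ | ⟨rfl, rfl⟩ | ⟨rfl, rfl⟩
      · -- 34=(0,0)
        exfalso; omega
      · -- 34=(1,1)
        exact False.elim (cert_false T ((skipEmb 2).trans (Function.Embedding.refl _)) (by norm_num) (fun _ => hall _) (((((((LB_zero T ((skipEmb 2).trans (Function.Embedding.refl _))).upd 1 2 1 (le_of_eq hx13)).upd 1 3 2 (le_of_eq hx14)).upd 2 1 1 (le_of_eq hx31)).upd 2 3 1 (le_of_eq hx34)).upd 3 1 1 (le_of_eq hx41)).upd 3 2 1 (le_of_eq hx43)) ![0,1,1,1] (by decide) (by decide) 1 (by decide))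
      · -- 34=(1,2)
        exact False.elim (cert_false T ((skipEmb 2).trans (Function.Embedding.refl _)) (by norm_num) (fun _ => hall _) (((((((LB_zero T ((skipEmb 2).trans (Function.Embedding.refl _))).upd 1 2 1 (le_of_eq hx13)).upd 1 3 2 (le_of_eq hx14)).upd 2 1 1 (le_of_eq hx31)).upd 2 3 1 (le_of_eq hx34)).upd 3 1 1 (le_of_eq hx41)).upd 3 2 2 (le_of_eq hx43)) ![0,1,1,1] (by decide) (by decide) 1 (by decide))
      · -- 34=(2,1)
        exact False.elim (cert_false T ((skipEmb 2).trans (Function.Embedding.refl _)) (by norm_num) (fun _ => hall _) (((((((LB_zero T ((skipEmb 2).trans (Function.Embedding.refl _))).upd 1 2 1 (le_of_eq hx13)).upd 1 3 2 (le_of_eq hx14)).upd 2 1 1 (le_of_eq hx31)).upd 2 3 2 (le_of_eq hx34)).upd 3 1 1 (le_of_eq hx41)).upd 3 2 1 (le_of_eq hx43)) ![0,1,1,1] (by decide) (by decide) 1 (by decide))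
      · -- 34=(1,3)
        exact False.elim (cert_false T ((skipEmb 2).trans (Function.Embedding.refl _)) (by norm_num) (fun _ => hall _) (((((((LB_zero T ((skipEmb 2).trans (Function.Embedding.refl _))).upd 1 2 1 (le_of_eq hx13)).upd 1 3 2 (le_of_eq hx14)).upd 2 1 1 (le_of_eq hx31)).upd 2 3 1 (le_of_eq hx34)).upd 3 1 1 (le_of_eq hx41)).upd 3 2 3 (le_of_eq hx43)) ![0,1,1,1] (by decide) (by decide) 1 (by decide))
      · -- 34=(3,1)
        exact False.elim (cert_false T ((skipEmb 2).trans (Function.Embedding.refl _)) (by norm_num) (fun _ => hall _) (((((((LB_zero T ((skipEmb 2).trans (Function.Embedding.refl _))).upd 1 2 1 (le_of_eq hx13)).upd 1 3 2 (le_of_eq hx14)).upd 2 1 1 (le_of_eq hx31)).upd 2 3 3 (le_of_eq hx34)).upd 3 1 1 (le_of_eq hx41)).upd 3 2 1 (le_of_eq hx43)) ![0,1,1,1] (by decide) (by decide) 1 (by decide))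
    · -- 24=(1,1)
      rcases d34 with ⟨rfl, rfl⟩ | ⟨rfl, rfl⟩ | ⟨rfl, rfl⟩ | ⟨rfl, rfl⟩ | ⟨rfl, rfl⟩ | ⟨rfl, rfl⟩
      · -- 34=(0,0)
        exfalso; omega
      · -- 34=(1,1)
        exact False.elim (cert_false T ((skipEmb 2).trans (Function.Embedding.refl _)) (by norm_num) (fun _ => hall _) (((((((LB_zero T ((skipEmb 2).trans (Function.Embedding.refl _))).upd 1 2 1 (le_of_eq hx13)).upd 1 3 2 (le_of_eq hx14)).upd 2 1 1 (le_of_eq hx31)).upd 2 3 1 (le_of_eq hx34)).upd 3 1 1 (le_of_eq hx41)).upd 3 2 1 (le_of_eq hx43)) ![0,1,1,1] (by decide) (by decide) 1 (by decide))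
      · -- 34=(1,2)
        exact False.elim (cert_false T ((skipEmb 2).trans (Function.Embedding.refl _)) (by norm_num) (fun _ => hall _) (((((((LB_zero T ((skipEmb 2).trans (Function.Embedding.refl _))).upd 1 2 1 (le_of_eq hx13)).upd 1 3 2 (le_of_eq hx14)).upd 2 1 1 (le_of_eq hx31)).upd 2 3 1 (le_of_eq hx34)).upd 3 1 1 (le_of_eq hx41)).upd 3 2 2 (le_of_eq hx43)) ![0,1,1,1] (by decide) (by decide) 1 (by decide))
      · -- 34=(2,1)
        exact False.elim (cert_false T ((skipEmb 2).trans (Function.Embedding.refl _)) (by norm_num) (fun _ => hall _) (((((((LB_zero T ((skipEmb 2).trans (Function.Embedding.refl _))).upd 1 2 1 (le_of_eq hx13)).upd 1 3 2 (le_of_eq hx14)).upd 2 1 1 (le_of_eq hx31)).upd 2 3 2 (le_of_eq hx34)).upd 3 1 1 (le_of_eq hx41)).upd 3 2 1 (le_of_eq hx43)) ![0,1,1,1] (by decide) (by decide) 1 (by decide))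
      · -- 34=(1,3)
        exact False.elim (cert_false T ((skipEmb 2).trans (Function.Embedding.refl _)) (by norm_num) (fun _ => hall _) (((((((LB_zero T ((skipEmb 2).trans (Function.Embedding.refl _))).upd 1 2 1 (le_of_eq hx13)).upd 1 3 2 (le_of_eq hx14)).upd 2 1 1 (le_of_eq hx31)).upd 2 3 1 (le_of_eq hx34)).upd 3 1 1 (le_of_eq hx41)).upd 3 2 3 (le_of_eq hx43)) ![0,1,1,1] (by decide) (by decide) 1 (by decide))
      · -- 34=(3,1)
        exact False.elim (cert_false T ((skipEmb 2).trans (Function.Embedding.refl _)) (by norm_num) (fun _ => hall _) (((((((LB_zero T ((skipEmb 2).trans (Function.Embedding.refl _))).upd 1 2 1 (le_of_eq hx13)).upd 1 3 2 (le_of_eq hx14)).upd 2 1 1 (le_of_eq hx31)).upd 2 3 3 (le_of_eq hx34)).upd 3 1 1 (le_of_eq hx41)).upd 3 2 1 (le_of_eq hx43)) ![0,1,1,1] (by decide) (by decide) 1 (by decide))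
    · -- 24=(1,2)
      exact False.elim (cert_false T ((skipEmb 3).trans (Function.Embedding.refl _)) (by norm_num) (fun _ => hall _) (((((LB_zero T ((skipEmb 3).trans (Function.Embedding.refl _))).upd 1 3 2 (le_of_eq hx14)).upd 2 3 1 (le_of_eq hx24)).upd 3 1 1 (le_of_eq hx41)).upd 3 2 2 (le_of_eq hx42)) ![0,2,1,2] (by decide) (by decide) 1 (by decide))
    · -- 24=(2,1)
      exact False.elim (cert_false T ((skipEmb 3).trans (Function.Embedding.refl _)) (by norm_num) (fun _ => hall _) (((((LB_zero T ((skipEmb 3).trans (Function.Embedding.refl _))).upd 1 3 2 (le_of_eq hx14)).upd 2 3 2 (le_of_eq hx24)).upd 3 1 1 (le_of_eq hx41)).upd 3 2 1 (le_of_eq hx42)) ![0,1,1,1] (by decide) (by decide) 1 (by decide))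
    · -- 24=(1,3)
      exact False.elim (cert_false T ((skipEmb 3).trans (Function.Embedding.refl _)) (by norm_num) (fun _ => hall _) (((((LB_zero T ((skipEmb 3).trans (Function.Embedding.refl _))).upd 1 3 2 (le_of_eq hx14)).upd 2 3 1 (le_of_eq hx24)).upd 3 1 1 (le_of_eq hx41)).upd 3 2 3 (le_of_eq hx42)) ![0,1,1,2] (by decide) (by decide) 1 (by decide))
    · -- 24=(3,1)
      exact False.elim (cert_false T ((skipEmb 3).trans (Function.Embedding.refl _)) (by norm_num) (fun _ => hall _) (((((LB_zero T ((skipEmb 3).trans (Function.Embedding.refl _))).upd 1 3 2 (le_of_eq hx14)).upd 2 3 3 (le_of_eq hx24)).upd 3 1 1 (le_of_eq hx41)).upd 3 2 1 (le_of_eq hx42)) ![0,1,1,1] (by decide) (by decide) 1 (by decide))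
  · -- 14=(1,3)
    exact False.elim (cert_false T ((skipEmb 2).trans (Function.Embedding.refl _)) (by norm_num) (fun _ => hall _) (((((LB_zero T ((skipEmb 2).trans (Function.Embedding.refl _))).upd 1 2 1 (le_of_eq hx13)).upd 1 3 1 (le_of_eq hx14)).upd 2 1 1 (le_of_eq hx31)).upd 3 1 3 (le_of_eq hx41)) ![0,2,1,3] (by decide) (by decide) 1 (by decide))
  · -- 14=(3,1)
    exact False.elim (cert_false T ((skipEmb 2).trans (Function.Embedding.refl _)) (by norm_num) (fun _ => hall _) (((((LB_zero T ((skipEmb 2).trans (Function.Embedding.refl _))).upd 1 2 1 (le_of_eq hx13)).upd 1 3 3 (le_of_eq hx14)).upd 2 1 1 (le_of_eq hx31)).upd 3 1 1 (le_of_eq hx41)) ![0,2,1,1] (by decide) (by decide) 1 (by decide))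

theorem case230 (T : NumericalType 5) (hall : ∀ i, T.IsMinusTwo i) (d : SData T)
    (h01 : N T (Function.Embedding.refl _) 0 1 = 0) (h10 : N T (Function.Embedding.refl _) 1 0 = 0)
    (h02 : N T (Function.Embedding.refl _) 0 2 = 1) (h20 : N T (Function.Embedding.refl _) 2 0 = 1)
    (h12 : N T (Function.Embedding.refl _) 1 2 = 0) (h21 : N T (Function.Embedding.refl _) 2 1 = 0)
    (h03 : N T (Function.Embedding.refl _) 0 3 = 1) (h30 : N T (Function.Embedding.refl _) 3 0 = 1)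
    (h13 : N T (Function.Embedding.refl _) 1 3 = 1) (h31 : N T (Function.Embedding.refl _) 3 1 = 1)
    (h23 : N T (Function.Embedding.refl _) 2 3 = 0) (h32 : N T (Function.Embedding.refl _) 3 2 = 0) :
    Goal T := by
  unfold Goal
  have hd := d
  obtain ⟨x01, x02, x03, x04, x10, x12, x13, x14, x20, x21, x23, x24, x30, x31, x32, x34, x40, x41, x42, x43, hx01, hx02, hx03, hx04, hx10, hx12, hx13, hx14, hx20, hx21, hx23, hx24, hx30, hx31, hx32, hx34, hx40, hx41, hx42, hx43, hw0, hm0, hw1, hm1, hw2, hm2, hw3, hm3, hw4, hm4, a00, a01, a02, a03, a04, a11, a10, a12, a13, a14, a22, a20, a21, a23, a24, a33, a30, a31, a32, a34, a44, a40, a41, a42, a43, wN01, wN02, wN12, wN03, wN13, wN23, wN04, wN14, wN24, wN34, e0, e1, e2, e3, e4, d01, d02, d12, d03, d13, d23, d04, d14, d24, d34⟩ := d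
  obtain rfl : x01 = 0 := hx01.trans h01
  obtain rfl : x10 = 0 := hx10.trans h10
  obtain rfl : x02 = 1 := hx02.trans h02
  obtain rfl : x20 = 1 := hx20.trans h20
  obtain rfl : x12 = 0 := hx12.trans h12
  obtain rfl : x21 = 0 := hx21.trans h21
  obtain rfl : x03 = 1 := hx03.trans h03
  obtain rfl : x30 = 1 := hx30.trans h30
  obtain rfl : x13 = 1 := hx13.trans h13
  obtain rfl : x31 = 1 := hx31.trans h31
  obtain rfl : x23 = 0 := hx23.trans h23
  obtain rfl : x32 = 0 := hx32.trans h32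
  rcases d04 with ⟨rfl, rfl⟩ | ⟨rfl, rfl⟩ | ⟨rfl, rfl⟩ | ⟨rfl, rfl⟩ | ⟨rfl, rfl⟩ | ⟨rfl, rfl⟩
  · -- 04=(0,0)
    exact case231 T hall hd hx01.symm hx10.symm hx02.symm hx20.symm hx12.symm hx21.symm hx03.symm hx30.symm hx13.symm hx31.symm hx23.symm hx32.symm hx04.symm hx40.symm
  · -- 04=(1,1)
    rcases d14 with ⟨rfl, rfl⟩ | ⟨rfl, rfl⟩ | ⟨rfl, rfl⟩ | ⟨rfl, rfl⟩ | ⟨rfl, rfl⟩ | ⟨rfl, rfl⟩
    · -- 14=(0,0)
      rcases d24 with ⟨rfl, rfl⟩ | ⟨rfl, rfl⟩ | ⟨rfl, rfl⟩ | ⟨rfl, rfl⟩ | ⟨rfl, rfl⟩ | ⟨rfl, rfl⟩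
      · -- 24=(0,0)
        rcases d34 with ⟨rfl, rfl⟩ | ⟨rfl, rfl⟩ | ⟨rfl, rfl⟩ | ⟨rfl, rfl⟩ | ⟨rfl, rfl⟩ | ⟨rfl, rfl⟩
        · -- 34=(0,0)
          exfalso; omega
        · -- 34=(1,1)
          exact False.elim (cert_false T ((skipEmb 2).trans (Function.Embedding.refl _)) (by norm_num) (fun _ => hall _) (((((((LB_zero T ((skipEmb 2).trans (Function.Embedding.refl _))).upd 0 2 1 (le_of_eq hx03)).upd 0 3 1 (le_of_eq hx04)).upd 2 0 1 (le_of_eq hx30)).upd 2 3 1 (le_of_eq hx34)).upd 3 0 1 (le_of_eq hx40)).upd 3 2 1 (le_of_eq hx43)) ![1,0,1,1] (by decide) (by decide) 0 (by decide))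
        · -- 34=(1,2)
          exact False.elim (cert_false T ((skipEmb 2).trans (Function.Embedding.refl _)) (by norm_num) (fun _ => hall _) (((((((LB_zero T ((skipEmb 2).trans (Function.Embedding.refl _))).upd 0 2 1 (le_of_eq hx03)).upd 0 3 1 (le_of_eq hx04)).upd 2 0 1 (le_of_eq hx30)).upd 2 3 1 (le_of_eq hx34)).upd 3 0 1 (le_of_eq hx40)).upd 3 2 2 (le_of_eq hx43)) ![1,0,1,1] (by decide) (by decide) 0 (by decide))
        · -- 34=(2,1)
          exact False.elim (cert_false T ((skipEmb 2).trans (Function.Embedding.refl _)) (by norm_num) (fun _ => hall _) (((((((LB_zero T ((skipEmb 2).trans (Function.Embedding.refl _))).upd 0 2 1 (le_of_eq hx03)).upd 0 3 1 (le_of_eq hx04)).upd 2 0 1 (le_of_eq hx30)).upd 2 3 2 (le_of_eq hx34)).upd 3 0 1 (le_of_eq hx40)).upd 3 2 1 (le_of_eq hx43)) ![1,0,1,1] (by decide) (by decide) 0 (by decide))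
        · -- 34=(1,3)
          exact False.elim (cert_false T ((skipEmb 2).trans (Function.Embedding.refl _)) (by norm_num) (fun _ => hall _) (((((((LB_zero T ((skipEmb 2).trans (Function.Embedding.refl _))).upd 0 2 1 (le_of_eq hx03)).upd 0 3 1 (le_of_eq hx04)).upd 2 0 1 (le_of_eq hx30)).upd 2 3 1 (le_of_eq hx34)).upd 3 0 1 (le_of_eq hx40)).upd 3 2 3 (le_of_eq hx43)) ![1,0,1,1] (by decide) (by decide) 0 (by decide))
        · -- 34=(3,1)
          exact False.elim (cert_false T ((skipEmb 2).trans (Function.Embedding.refl _)) (by norm_num) (fun _ => hall _) (((((((LB_zero T ((skipEmb 2).trans (Function.Embedding.refl _))).upd 0 2 1 (le_of_eq hx03)).upd 0 3 1 (le_of_eq hx04)).upd 2 0 1 (le_of_eq hx30)).upd 2 3 3 (le_of_eq hx34)).upd 3 0 1 (le_of_eq hx40)).upd 3 2 1 (le_of_eq hx43)) ![1,0,1,1] (by decide) (by decide) 0 (by decide))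
      · -- 24=(1,1)
        exact False.elim (cert_false T ((skipEmb 3).trans (Function.Embedding.refl _)) (by norm_num) (fun _ => hall _) (((((((LB_zero T ((skipEmb 3).trans (Function.Embedding.refl _))).upd 0 2 1 (le_of_eq hx02)).upd 0 3 1 (le_of_eq hx04)).upd 2 0 1 (le_of_eq hx20)).upd 2 3 1 (le_of_eq hx24)).upd 3 0 1 (le_of_eq hx40)).upd 3 2 1 (le_of_eq hx42)) ![1,0,1,1] (by decide) (by decide) 0 (by decide))
      · -- 24=(1,2)
        exact False.elim (cert_false T ((skipEmb 3).trans (Function.Embedding.refl _)) (by norm_num) (fun _ => hall _) (((((((LB_zero T ((skipEmb 3).trans (Function.Embedding.refl _))).upd 0 2 1 (le_of_eq hx02)).upd 0 3 1 (le_of_eq hx04)).upd 2 0 1 (le_of_eq hx20)).upd 2 3 1 (le_of_eq hx24)).upd 3 0 1 (le_of_eq hx40)).upd 3 2 2 (le_of_eq hx42)) ![1,0,1,1] (by decide) (by decide) 0 (by decide))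
      · -- 24=(2,1)
        exact False.elim (cert_false T ((skipEmb 3).trans (Function.Embedding.refl _)) (by norm_num) (fun _ => hall _) (((((((LB_zero T ((skipEmb 3).trans (Function.Embedding.refl _))).upd 0 2 1 (le_of_eq hx02)).upd 0 3 1 (le_of_eq hx04)).upd 2 0 1 (le_of_eq hx20)).upd 2 3 2 (le_of_eq hx24)).upd 3 0 1 (le_of_eq hx40)).upd 3 2 1 (le_of_eq hx42)) ![1,0,1,1] (by decide) (by decide) 0 (by decide))
      · -- 24=(1,3)
        exact False.elim (cert_false T ((skipEmb 3).trans (Function.Embedding.refl _)) (by norm_num) (fun _ => hall _) (((((((LB_zero T ((skipEmb 3).trans (Function.Embedding.refl _))).upd 0 2 1 (le_of_eq hx02)).upd 0 3 1 (le_of_eq hx04)).upd 2 0 1 (le_of_eq hx20)).upd 2 3 1 (le_of_eq hx24)).upd 3 0 1 (le_of_eq hx40)).upd 3 2 3 (le_of_eq hx42)) ![1,0,1,1] (by decide) (by decide) 0 (by decide))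
      · -- 24=(3,1)
        exact False.elim (cert_false T ((skipEmb 3).trans (Function.Embedding.refl _)) (by norm_num) (fun _ => hall _) (((((((LB_zero T ((skipEmb 3).trans (Function.Embedding.refl _))).upd 0 2 1 (le_of_eq hx02)).upd 0 3 1 (le_of_eq hx04)).upd 2 0 1 (le_of_eq hx20)).upd 2 3 3 (le_of_eq hx24)).upd 3 0 1 (le_of_eq hx40)).upd 3 2 1 (le_of_eq hx42)) ![1,0,1,1] (by decide) (by decide) 0 (by decide))
    · -- 14=(1,1)
      exact False.elim (cert_false T ((skipEmb 2).trans (Function.Embedding.refl _)) (by norm_num) (fun _ => hall _) (((((((((LB_zero T ((skipEmb 2).trans (Function.Embedding.refl _))).upd 0 2 1 (le_of_eq hx03)).upd 0 3 1 (le_of_eq hx04)).upd 1 2 1 (le_of_eq hx13)).upd 1 3 1 (le_of_eq hx14)).upd 2 0 1 (le_of_eq hx30)).upd 2 1 1 (le_of_eq hx31)).upd 3 0 1 (le_of_eq hx40)).upd 3 1 1 (le_of_eq hx41)) ![1,1,1,1] (by decide) (by decide) 0 (by decide))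
    · -- 14=(1,2)
      exact False.elim (cert_false T ((skipEmb 2).trans (Function.Embedding.refl _)) (by norm_num) (fun _ => hall _) (((((((((LB_zero T ((skipEmb 2).trans (Function.Embedding.refl _))).upd 0 2 1 (le_of_eq hx03)).upd 0 3 1 (le_of_eq hx04)).upd 1 2 1 (le_of_eq hx13)).upd 1 3 1 (le_of_eq hx14)).upd 2 0 1 (le_of_eq hx30)).upd 2 1 1 (le_of_eq hx31)).upd 3 0 1 (le_of_eq hx40)).upd 3 1 2 (le_of_eq hx41)) ![1,1,1,1] (by decide) (by decide) 0 (by decide))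
    · -- 14=(2,1)
      exact False.elim (cert_false T ((skipEmb 2).trans (Function.Embedding.refl _)) (by norm_num) (fun _ => hall _) (((((((((LB_zero T ((skipEmb 2).trans (Function.Embedding.refl _))).upd 0 2 1 (le_of_eq hx03)).upd 0 3 1 (le_of_eq hx04)).upd 1 2 1 (le_of_eq hx13)).upd 1 3 2 (le_of_eq hx14)).upd 2 0 1 (le_of_eq hx30)).upd 2 1 1 (le_of_eq hx31)).upd 3 0 1 (le_of_eq hx40)).upd 3 1 1 (le_of_eq hx41)) ![1,1,1,1] (by decide) (by decide) 0 (by decide))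
    · -- 14=(1,3)
      exact False.elim (cert_false T ((skipEmb 3).trans (Function.Embedding.refl _)) (by norm_num) (fun _ => hall _) (((((LB_zero T ((skipEmb 3).trans (Function.Embedding.refl _))).upd 0 3 1 (le_of_eq hx04)).upd 1 3 1 (le_of_eq hx14)).upd 3 0 1 (le_of_eq hx40)).upd 3 1 3 (le_of_eq hx41)) ![1,1,0,2] (by decide) (by decide) 0 (by decide))
    · -- 14=(3,1)
      exact False.elim (cert_false T ((skipEmb 3).trans (Function.Embedding.refl _)) (by norm_num) (fun _ => hall _) (((((LB_zero T ((skipEmb 3).trans (Function.Embedding.refl _))).upd 0 3 1 (le_of_eq hx04)).upd 1 3 3 (le_of_eq hx14)).upd 3 0 1 (le_of_eq hx40)).upd 3 1 1 (le_of_eq hx41)) ![1,3,0,2] (by decide) (by decide) 0 (by decide))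
  · -- 04=(1,2)
    exact False.elim (cert_false T ((skipEmb 1).trans (Function.Embedding.refl _)) (by norm_num) (fun _ => hall _) (((((((LB_zero T ((skipEmb 1).trans (Function.Embedding.refl _))).upd 0 1 1 (le_of_eq hx02)).upd 0 2 1 (le_of_eq hx03)).upd 0 3 1 (le_of_eq hx04)).upd 1 0 1 (le_of_eq hx20)).upd 2 0 1 (le_of_eq hx30)).upd 3 0 2 (le_of_eq hx40)) ![2,1,1,2] (by decide) (by decide) 0 (by decide))
  · -- 04=(2,1)
    exact False.elim (cert_false T ((skipEmb 1).trans (Function.Embedding.refl _)) (by norm_num) (fun _ => hall _) (((((((LB_zero T ((skipEmb 1).trans (Function.Embedding.refl _))).upd 0 1 1 (le_of_eq hx02)).upd 0 2 1 (le_of_eq hx03)).upd 0 3 2 (le_of_eq hx04)).upd 1 0 1 (le_of_eq hx20)).upd 2 0 1 (le_of_eq hx30)).upd 3 0 1 (le_of_eq hx40)) ![2,1,1,1] (by decide) (by decide) 0 (by decide))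
  · -- 04=(1,3)
    exact False.elim (cert_false T ((skipEmb 3).trans (Function.Embedding.refl _)) (by norm_num) (fun _ => hall _) (((((LB_zero T ((skipEmb 3).trans (Function.Embedding.refl _))).upd 0 2 1 (le_of_eq hx02)).upd 0 3 1 (le_of_eq hx04)).upd 2 0 1 (le_of_eq hx20)).upd 3 0 3 (le_of_eq hx40)) ![2,0,1,3] (by decide) (by decide) 0 (by decide))
  · -- 04=(3,1)
    exact False.elim (cert_false T ((skipEmb 3).trans (Function.Embedding.refl _)) (by norm_num) (fun _ => hall _) (((((LB_zero T ((skipEmb 3).trans (Function.Embedding.refl _))).upd 0 2 1 (le_of_eq hx02)).upd 0 3 3 (le_of_eq hx04)).upd 2 0 1 (le_of_eq hx20)).upd 3 0 1 (le_of_eq hx40)) ![2,0,1,1] (by decide) (by decide) 0 (by decide))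

theorem case229 (T : NumericalType 5) (hall : ∀ i, T.IsMinusTwo i) (d : SData T)
    (h01 : N T (Function.Embedding.refl _) 0 1 = 0) (h10 : N T (Function.Embedding.refl _) 1 0 = 0)
    (h02 : N T (Function.Embedding.refl _) 0 2 = 1) (h20 : N T (Function.Embedding.refl _) 2 0 = 1)
    (h12 : N T (Function.Embedding.refl _) 1 2 = 0) (h21 : N T (Function.Embedding.refl _) 2 1 = 0)
    (h03 : N T (Function.Embedding.refl _) 0 3 = 1) (h30 : N T (Function.Embedding.refl _) 3 0 = 1)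
    (h13 : N T (Function.Embedding.refl _) 1 3 = 1) (h31 : N T (Function.Embedding.refl _) 3 1 = 1) :
    Goal T := by
  unfold Goal
  have hd := d
  obtain ⟨x01, x02, x03, x04, x10, x12, x13, x14, x20, x21, x23, x24, x30, x31, x32, x34, x40, x41, x42, x43, hx01, hx02, hx03, hx04, hx10, hx12, hx13, hx14, hx20, hx21, hx23, hx24, hx30, hx31, hx32, hx34, hx40, hx41, hx42, hx43, hw0, hm0, hw1, hm1, hw2, hm2, hw3, hm3, hw4, hm4, a00, a01, a02, a03, a04, a11, a10, a12, a13, a14, a22, a20, a21, a23, a24, a33, a30, a31, a32, a34, a44, a40, a41, a42, a43, wN01, wN02, wN12, wN03, wN13, wN23, wN04, wN14, wN24, wN34, e0, e1, e2, e3, e4, d01, d02, d12, d03, d13, d23, d04, d14, d24, d34⟩ := d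
  obtain rfl : x01 = 0 := hx01.trans h01
  obtain rfl : x10 = 0 := hx10.trans h10
  obtain rfl : x02 = 1 := hx02.trans h02
  obtain rfl : x20 = 1 := hx20.trans h20
  obtain rfl : x12 = 0 := hx12.trans h12
  obtain rfl : x21 = 0 := hx21.trans h21
  obtain rfl : x03 = 1 := hx03.trans h03
  obtain rfl : x30 = 1 := hx30.trans h30
  obtain rfl : x13 = 1 := hx13.trans h13
  obtain rfl : x31 = 1 := hx31.trans h31
  rcases d23 with ⟨rfl, rfl⟩ | ⟨rfl, rfl⟩ | ⟨rfl, rfl⟩ | ⟨rfl, rfl⟩ | ⟨rfl, rfl⟩ | ⟨rfl, rfl⟩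
  · -- 23=(0,0)
    exact case230 T hall hd hx01.symm hx10.symm hx02.symm hx20.symm hx12.symm hx21.symm hx03.symm hx30.symm hx13.symm hx31.symm hx23.symm hx32.symm
  · -- 23=(1,1)
    exact False.elim (cert_false T ((skipEmb 4).trans (Function.Embedding.refl _)) (by norm_num) (fun _ => hall _) (((((((LB_zero T ((skipEmb 4).trans (Function.Embedding.refl _))).upd 0 2 1 (le_of_eq hx02)).upd 0 3 1 (le_of_eq hx03)).upd 2 0 1 (le_of_eq hx20)).upd 2 3 1 (le_of_eq hx23)).upd 3 0 1 (le_of_eq hx30)).upd 3 2 1 (le_of_eq hx32)) ![1,0,1,1] (by decide) (by decide) 0 (by decide))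
  · -- 23=(1,2)
    exact False.elim (cert_false T ((skipEmb 4).trans (Function.Embedding.refl _)) (by norm_num) (fun _ => hall _) (((((((LB_zero T ((skipEmb 4).trans (Function.Embedding.refl _))).upd 0 2 1 (le_of_eq hx02)).upd 0 3 1 (le_of_eq hx03)).upd 2 0 1 (le_of_eq hx20)).upd 2 3 1 (le_of_eq hx23)).upd 3 0 1 (le_of_eq hx30)).upd 3 2 2 (le_of_eq hx32)) ![1,0,1,1] (by decide) (by decide) 0 (by decide))
  · -- 23=(2,1)
    exact False.elim (cert_false T ((skipEmb 4).trans (Function.Embedding.refl _)) (by norm_num) (fun _ => hall _) (((((((LB_zero T ((skipEmb 4).trans (Function.Embedding.refl _))).upd 0 2 1 (le_of_eq hx02)).upd 0 3 1 (le_of_eq hx03)).upd 2 0 1 (le_of_eq hx20)).upd 2 3 2 (le_of_eq hx23)).upd 3 0 1 (le_of_eq hx30)).upd 3 2 1 (le_of_eq hx32)) ![1,0,1,1] (by decide) (by decide) 0 (by decide))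
  · -- 23=(1,3)
    exact False.elim (cert_false T ((skipEmb 4).trans (Function.Embedding.refl _)) (by norm_num) (fun _ => hall _) (((((((LB_zero T ((skipEmb 4).trans (Function.Embedding.refl _))).upd 0 2 1 (le_of_eq hx02)).upd 0 3 1 (le_of_eq hx03)).upd 2 0 1 (le_of_eq hx20)).upd 2 3 1 (le_of_eq hx23)).upd 3 0 1 (le_of_eq hx30)).upd 3 2 3 (le_of_eq hx32)) ![1,0,1,1] (by decide) (by decide) 0 (by decide))
  · -- 23=(3,1)
    exact False.elim (cert_false T ((skipEmb 4).trans (Function.Embedding.refl _)) (by norm_num) (fun _ => hall _) (((((((LB_zero T ((skipEmb 4).trans (Function.Embedding.refl _))).upd 0 2 1 (le_of_eq hx02)).upd 0 3 1 (le_of_eq hx03)).upd 2 0 1 (le_of_eq hx20)).upd 2 3 3 (le_of_eq hx23)).upd 3 0 1 (le_of_eq hx30)).upd 3 2 1 (le_of_eq hx32)) ![1,0,1,1] (by decide) (by decide) 0 (by decide))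

theorem case252 (T : NumericalType 5) (hall : ∀ i, T.IsMinusTwo i) (d : SData T)
    (h01 : N T (Function.Embedding.refl _) 0 1 = 0) (h10 : N T (Function.Embedding.refl _) 1 0 = 0)
    (h02 : N T (Function.Embedding.refl _) 0 2 = 1) (h20 : N T (Function.Embedding.refl _) 2 0 = 1)
    (h12 : N T (Function.Embedding.refl _) 1 2 = 1) (h21 : N T (Function.Embedding.refl _) 2 1 = 1)
    (h03 : N T (Function.Embedding.refl _) 0 3 = 0) (h30 : N T (Function.Embedding.refl _) 3 0 = 0)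
    (h13 : N T (Function.Embedding.refl _) 1 3 = 1) (h31 : N T (Function.Embedding.refl _) 3 1 = 1)
    (h23 : N T (Function.Embedding.refl _) 2 3 = 0) (h32 : N T (Function.Embedding.refl _) 3 2 = 0) :
    Goal T := by
  unfold Goal
  have hd := d
  obtain ⟨x01, x02, x03, x04, x10, x12, x13, x14, x20, x21, x23, x24, x30, x31, x32, x34, x40, x41, x42, x43, hx01, hx02, hx03, hx04, hx10, hx12, hx13, hx14, hx20, hx21, hx23, hx24, hx30, hx31, hx32, hx34, hx40, hx41, hx42, hx43, hw0, hm0, hw1, hm1, hw2, hm2, hw3, hm3, hw4, hm4, a00, a01, a02, a03, a04, a11, a10, a12, a13, a14, a22, a20, a21, a23, a24, a33, a30, a31, a32, a34, a44, a40, a41, a42, a43, wN01, wN02, wN12, wN03, wN13, wN23, wN04, wN14, wN24, wN34, e0, e1, e2, e3, e4, d01, d02, d12, d03, d13, d23, d04, d14, d24, d34⟩ := d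
  obtain rfl : x01 = 0 := hx01.trans h01
  obtain rfl : x10 = 0 := hx10.trans h10
  obtain rfl : x02 = 1 := hx02.trans h02
  obtain rfl : x20 = 1 := hx20.trans h20
  obtain rfl : x12 = 1 := hx12.trans h12
  obtain rfl : x21 = 1 := hx21.trans h21
  obtain rfl : x03 = 0 := hx03.trans h03
  obtain rfl : x30 = 0 := hx30.trans h30
  obtain rfl : x13 = 1 := hx13.trans h13
  obtain rfl : x31 = 1 := hx31.trans h31
  obtain rfl : x23 = 0 := hx23.trans h23
  obtain rfl : x32 = 0 := hx32.trans h32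
  rcases d04 with ⟨rfl, rfl⟩ | ⟨rfl, rfl⟩ | ⟨rfl, rfl⟩ | ⟨rfl, rfl⟩ | ⟨rfl, rfl⟩ | ⟨rfl, rfl⟩
  · -- 04=(0,0)
    rcases d14 with ⟨rfl, rfl⟩ | ⟨rfl, rfl⟩ | ⟨rfl, rfl⟩ | ⟨rfl, rfl⟩ | ⟨rfl, rfl⟩ | ⟨rfl, rfl⟩
    · -- 14=(0,0)
      rcases d24 with ⟨rfl, rfl⟩ | ⟨rfl, rfl⟩ | ⟨rfl, rfl⟩ | ⟨rfl, rfl⟩ | ⟨rfl, rfl⟩ | ⟨rfl, rfl⟩
      · -- 24=(0,0)
        rcases d34 with ⟨rfl, rfl⟩ | ⟨rfl, rfl⟩ | ⟨rfl, rfl⟩ | ⟨rfl, rfl⟩ | ⟨rfl, rfl⟩ | ⟨rfl, rfl⟩
        · -- 34=(0,0)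
          exfalso; omega
        · -- 34=(1,1)
          exfalso; omega
        · -- 34=(1,2)
          exfalso; omega
        · -- 34=(2,1)
          exfalso; omega
        · -- 34=(1,3)
          exact False.elim (cert_false T ((skipEmb 2).trans (Function.Embedding.refl _)) (by norm_num) (fun _ => hall _) (((((LB_zero T ((skipEmb 2).trans (Function.Embedding.refl _))).upd 1 2 1 (le_of_eq hx13)).upd 2 1 1 (le_of_eq hx31)).upd 2 3 1 (le_of_eq hx34)).upd 3 2 3 (le_of_eq hx43)) ![0,1,2,3] (by decide) (by decide) 1 (by decide))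
        · -- 34=(3,1)
          exact False.elim (cert_false T ((skipEmb 2).trans (Function.Embedding.refl _)) (by norm_num) (fun _ => hall _) (((((LB_zero T ((skipEmb 2).trans (Function.Embedding.refl _))).upd 1 2 1 (le_of_eq hx13)).upd 2 1 1 (le_of_eq hx31)).upd 2 3 3 (le_of_eq hx34)).upd 3 2 1 (le_of_eq hx43)) ![0,1,2,1] (by decide) (by decide) 1 (by decide))
      · -- 24=(1,1)
        rcases d34 with ⟨rfl, rfl⟩ | ⟨rfl, rfl⟩ | ⟨rfl, rfl⟩ | ⟨rfl, rfl⟩ | ⟨rfl, rfl⟩ | ⟨rfl, rfl⟩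
        · -- 34=(0,0)
          exfalso; omega
        · -- 34=(1,1)
          exact False.elim (cert_false T ((skipEmb 0).trans (Function.Embedding.refl _)) (by norm_num) (fun _ => hall _) (((((((((LB_zero T ((skipEmb 0).trans (Function.Embedding.refl _))).upd 0 1 1 (le_of_eq hx12)).upd 0 2 1 (le_of_eq hx13)).upd 1 0 1 (le_of_eq hx21)).upd 1 3 1 (le_of_eq hx24)).upd 2 0 1 (le_of_eq hx31)).upd 2 3 1 (le_of_eq hx34)).upd 3 1 1 (le_of_eq hx42)).upd 3 2 1 (le_of_eq hx43)) ![1,1,1,1] (by decide) (by decide) 0 (by decide))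
        · -- 34=(1,2)
          exact False.elim (cert_false T ((skipEmb 0).trans (Function.Embedding.refl _)) (by norm_num) (fun _ => hall _) (((((((((LB_zero T ((skipEmb 0).trans (Function.Embedding.refl _))).upd 0 1 1 (le_of_eq hx12)).upd 0 2 1 (le_of_eq hx13)).upd 1 0 1 (le_of_eq hx21)).upd 1 3 1 (le_of_eq hx24)).upd 2 0 1 (le_of_eq hx31)).upd 2 3 1 (le_of_eq hx34)).upd 3 1 1 (le_of_eq hx42)).upd 3 2 2 (le_of_eq hx43)) ![1,1,1,1] (by decide) (by decide) 0 (by decide))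
        · -- 34=(2,1)
          exact False.elim (cert_false T ((skipEmb 0).trans (Function.Embedding.refl _)) (by norm_num) (fun _ => hall _) (((((((((LB_zero T ((skipEmb 0).trans (Function.Embedding.refl _))).upd 0 1 1 (le_of_eq hx12)).upd 0 2 1 (le_of_eq hx13)).upd 1 0 1 (le_of_eq hx21)).upd 1 3 1 (le_of_eq hx24)).upd 2 0 1 (le_of_eq hx31)).upd 2 3 2 (le_of_eq hx34)).upd 3 1 1 (le_of_eq hx42)).upd 3 2 1 (le_of_eq hx43)) ![1,1,1,1] (by decide) (by decide) 0 (by decide))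
        · -- 34=(1,3)
          exact False.elim (cert_false T ((skipEmb 2).trans (Function.Embedding.refl _)) (by norm_num) (fun _ => hall _) (((((LB_zero T ((skipEmb 2).trans (Function.Embedding.refl _))).upd 1 2 1 (le_of_eq hx13)).upd 2 1 1 (le_of_eq hx31)).upd 2 3 1 (le_of_eq hx34)).upd 3 2 3 (le_of_eq hx43)) ![0,1,2,3] (by decide) (by decide) 1 (by decide))
        · -- 34=(3,1)
          exact False.elim (cert_false T ((skipEmb 2).trans (Function.Embedding.refl _)) (by norm_num) (fun _ => hall _) (((((LB_zero T ((skipEmb 2).trans (Function.Embedding.refl _))).upd 1 2 1 (le_of_eq hx13)).upd 2 1 1 (le_of_eq hx31)).upd 2 3 3 (le_of_eq hx34)).upd 3 2 1 (le_of_eq hx43)) ![0,1,2,1] (by decide) (by decide) 1 (by decide))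
      · -- 24=(1,2)
        exact False.elim (cert_false T ((skipEmb 3).trans (Function.Embedding.refl _)) (by norm_num) (fun _ => hall _) (((((((LB_zero T ((skipEmb 3).trans (Function.Embedding.refl _))).upd 0 2 1 (le_of_eq hx02)).upd 1 2 1 (le_of_eq hx12)).upd 2 0 1 (le_of_eq hx20)).upd 2 1 1 (le_of_eq hx21)).upd 2 3 1 (le_of_eq hx24)).upd 3 2 2 (le_of_eq hx42)) ![1,1,2,2] (by decide) (by decide) 0 (by decide))
      · -- 24=(2,1)
        exact False.elim (cert_false T ((skipEmb 3).trans (Function.Embedding.refl _)) (by norm_num) (fun _ => hall _) (((((((LB_zero T ((skipEmb 3).trans (Function.Embedding.refl _))).upd 0 2 1 (le_of_eq hx02)).upd 1 2 1 (le_of_eq hx12)).upd 2 0 1 (le_of_eq hx20)).upd 2 1 1 (le_of_eq hx21)).upd 2 3 2 (le_of_eq hx24)).upd 3 2 1 (le_of_eq hx42)) ![1,1,2,1] (by decide) (by decide) 0 (by decide))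
      · -- 24=(1,3)
        exact False.elim (cert_false T ((skipEmb 3).trans (Function.Embedding.refl _)) (by norm_num) (fun _ => hall _) (((((((LB_zero T ((skipEmb 3).trans (Function.Embedding.refl _))).upd 0 2 1 (le_of_eq hx02)).upd 1 2 1 (le_of_eq hx12)).upd 2 0 1 (le_of_eq hx20)).upd 2 1 1 (le_of_eq hx21)).upd 2 3 1 (le_of_eq hx24)).upd 3 2 3 (le_of_eq hx42)) ![1,1,2,2] (by decide) (by decide) 0 (by decide))
      · -- 24=(3,1)
        exact False.elim (cert_false T ((skipEmb 3).trans (Function.Embedding.refl _)) (by norm_num) (fun _ => hall _) (((((LB_zero T ((skipEmb 3).trans (Function.Embedding.refl _))).upd 1 2 1 (le_of_eq hx12)).upd 2 1 1 (le_of_eq hx21)).upd 2 3 3 (le_of_eq hx24)).upd 3 2 1 (le_of_eq hx42)) ![0,1,2,1] (by decide) (by decide) 1 (by decide))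
    · -- 14=(1,1)
      rcases d24 with ⟨rfl, rfl⟩ | ⟨rfl, rfl⟩ | ⟨rfl, rfl⟩ | ⟨rfl, rfl⟩ | ⟨rfl, rfl⟩ | ⟨rfl, rfl⟩
      · -- 24=(0,0)
        rcases d34 with ⟨rfl, rfl⟩ | ⟨rfl, rfl⟩ | ⟨rfl, rfl⟩ | ⟨rfl, rfl⟩ | ⟨rfl, rfl⟩ | ⟨rfl, rfl⟩
        · -- 34=(0,0)
          exfalso; omega
        · -- 34=(1,1)
          exact False.elim (cert_false T ((skipEmb 2).trans (Function.Embedding.refl _)) (by norm_num) (fun _ => hall _) (((((((LB_zero T ((skipEmb 2).trans (Function.Embedding.refl _))).upd 1 2 1 (le_of_eq hx13)).upd 1 3 1 (le_of_eq hx14)).upd 2 1 1 (le_of_eq hx31)).upd 2 3 1 (le_of_eq hx34)).upd 3 1 1 (le_of_eq hx41)).upd 3 2 1 (le_of_eq hx43)) ![0,1,1,1] (by decide) (by decide) 1 (by decide))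
        · -- 34=(1,2)
          exact False.elim (cert_false T ((skipEmb 2).trans (Function.Embedding.refl _)) (by norm_num) (fun _ => hall _) (((((((LB_zero T ((skipEmb 2).trans (Function.Embedding.refl _))).upd 1 2 1 (le_of_eq hx13)).upd 1 3 1 (le_of_eq hx14)).upd 2 1 1 (le_of_eq hx31)).upd 2 3 1 (le_of_eq hx34)).upd 3 1 1 (le_of_eq hx41)).upd 3 2 2 (le_of_eq hx43)) ![0,1,1,1] (by decide) (by decide) 1 (by decide))
        · -- 34=(2,1)
          exact False.elim (cert_false T ((skipEmb 2).trans (Function.Embedding.refl _)) (by norm_num) (fun _ => hall _) (((((((LB_zero T ((skipEmb 2).trans (Function.Embedding.refl _))).upd 1 2 1 (le_of_eq hx13)).upd 1 3 1 (le_of_eq hx14)).upd 2 1 1 (le_of_eq hx31)).upd 2 3 2 (le_of_eq hx34)).upd 3 1 1 (le_of_eq hx41)).upd 3 2 1 (le_of_eq hx43)) ![0,1,1,1] (by decide) (by decide) 1 (by decide))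
        · -- 34=(1,3)
          exact False.elim (cert_false T ((skipEmb 2).trans (Function.Embedding.refl _)) (by norm_num) (fun _ => hall _) (((((((LB_zero T ((skipEmb 2).trans (Function.Embedding.refl _))).upd 1 2 1 (le_of_eq hx13)).upd 1 3 1 (le_of_eq hx14)).upd 2 1 1 (le_of_eq hx31)).upd 2 3 1 (le_of_eq hx34)).upd 3 1 1 (le_of_eq hx41)).upd 3 2 3 (le_of_eq hx43)) ![0,1,1,1] (by decide) (by decide) 1 (by decide))
        · -- 34=(3,1)
          exact False.elim (cert_false T ((skipEmb 2).trans (Function.Embedding.refl _)) (by norm_num) (fun _ => hall _) (((((((LB_zero T ((skipEmb 2).trans (Function.Embedding.refl _))).upd 1 2 1 (le_of_eq hx13)).upd 1 3 1 (le_of_eq hx14)).upd 2 1 1 (le_of_eq hx31)).upd 2 3 3 (le_of_eq hx34)).upd 3 1 1 (le_of_eq hx41)).upd 3 2 1 (le_of_eq hx43)) ![0,1,1,1] (by decide) (by decide) 1 (by decide))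
      · -- 24=(1,1)
        exact False.elim (cert_false T ((skipEmb 3).trans (Function.Embedding.refl _)) (by norm_num) (fun _ => hall _) (((((((LB_zero T ((skipEmb 3).trans (Function.Embedding.refl _))).upd 1 2 1 (le_of_eq hx12)).upd 1 3 1 (le_of_eq hx14)).upd 2 1 1 (le_of_eq hx21)).upd 2 3 1 (le_of_eq hx24)).upd 3 1 1 (le_of_eq hx41)).upd 3 2 1 (le_of_eq hx42)) ![0,1,1,1] (by decide) (by decide) 1 (by decide))
      · -- 24=(1,2)
        exact False.elim (cert_false T ((skipEmb 3).trans (Function.Embedding.refl _)) (by norm_num) (fun _ => hall _) (((((((LB_zero T ((skipEmb 3).trans (Function.Embedding.refl _))).upd 1 2 1 (le_of_eq hx12)).upd 1 3 1 (le_of_eq hx14)).upd 2 1 1 (le_of_eq hx21)).upd 2 3 1 (le_of_eq hx24)).upd 3 1 1 (le_of_eq hx41)).upd 3 2 2 (le_of_eq hx42)) ![0,1,1,1] (by decide) (by decide) 1 (by decide))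
      · -- 24=(2,1)
        exact False.elim (cert_false T ((skipEmb 3).trans (Function.Embedding.refl _)) (by norm_num) (fun _ => hall _) (((((((LB_zero T ((skipEmb 3).trans (Function.Embedding.refl _))).upd 1 2 1 (le_of_eq hx12)).upd 1 3 1 (le_of_eq hx14)).upd 2 1 1 (le_of_eq hx21)).upd 2 3 2 (le_of_eq hx24)).upd 3 1 1 (le_of_eq hx41)).upd 3 2 1 (le_of_eq hx42)) ![0,1,1,1] (by decide) (by decide) 1 (by decide))
      · -- 24=(1,3)
        exact False.elim (cert_false T ((skipEmb 3).trans (Function.Embedding.refl _)) (by norm_num) (fun _ => hall _) (((((((LB_zero T ((skipEmb 3).trans (Function.Embedding.refl _))).upd 1 2 1 (le_of_eq hx12)).upd 1 3 1 (le_of_eq hx14)).upd 2 1 1 (le_of_eq hx21)).upd 2 3 1 (le_of_eq hx24)).upd 3 1 1 (le_of_eq hx41)).upd 3 2 3 (le_of_eq hx42)) ![0,1,1,1] (by decide) (by decide) 1 (by decide))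
      · -- 24=(3,1)
        exact False.elim (cert_false T ((skipEmb 3).trans (Function.Embedding.refl _)) (by norm_num) (fun _ => hall _) (((((((LB_zero T ((skipEmb 3).trans (Function.Embedding.refl _))).upd 1 2 1 (le_of_eq hx12)).upd 1 3 1 (le_of_eq hx14)).upd 2 1 1 (le_of_eq hx21)).upd 2 3 3 (le_of_eq hx24)).upd 3 1 1 (le_of_eq hx41)).upd 3 2 1 (le_of_eq hx42)) ![0,1,1,1] (by decide) (by decide) 1 (by decide))
    · -- 14=(1,2)
      exact False.elim (cert_false T ((skipEmb 0).trans (Function.Embedding.refl _)) (by norm_num) (fun _ => hall _) (((((((LB_zero T ((skipEmb 0).trans (Function.Embedding.refl _))).upd 0 1 1 (le_of_eq hx12)).upd 0 2 1 (le_of_eq hx13)).upd 0 3 1 (le_of_eq hx14)).upd 1 0 1 (le_of_eq hx21)).upd 2 0 1 (le_of_eq hx31)).upd 3 0 2 (le_of_eq hx41)) ![2,1,1,2] (by decide) (by decide) 0 (by decide))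
    · -- 14=(2,1)
      exact False.elim (cert_false T ((skipEmb 0).trans (Function.Embedding.refl _)) (by norm_num) (fun _ => hall _) (((((((LB_zero T ((skipEmb 0).trans (Function.Embedding.refl _))).upd 0 1 1 (le_of_eq hx12)).upd 0 2 1 (le_of_eq hx13)).upd 0 3 2 (le_of_eq hx14)).upd 1 0 1 (le_of_eq hx21)).upd 2 0 1 (le_of_eq hx31)).upd 3 0 1 (le_of_eq hx41)) ![2,1,1,1] (by decide) (by decide) 0 (by decide))
    · -- 14=(1,3)
      exact False.elim (cert_false T ((skipEmb 3).trans (Function.Embedding.refl _)) (by norm_num) (fun _ => hall _) (((((LB_zero T ((skipEmb 3).trans (Function.Embedding.refl _))).upd 1 2 1 (le_of_eq hx12)).upd 1 3 1 (le_of_eq hx14)).upd 2 1 1 (le_of_eq hx21)).upd 3 1 3 (le_of_eq hx41)) ![0,2,1,3] (by decide) (by decide) 1 (by decide))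
    · -- 14=(3,1)
      exact False.elim (cert_false T ((skipEmb 3).trans (Function.Embedding.refl _)) (by norm_num) (fun _ => hall _) (((((LB_zero T ((skipEmb 3).trans (Function.Embedding.refl _))).upd 1 2 1 (le_of_eq hx12)).upd 1 3 3 (le_of_eq hx14)).upd 2 1 1 (le_of_eq hx21)).upd 3 1 1 (le_of_eq hx41)) ![0,2,1,1] (by decide) (by decide) 1 (by decide))
  · -- 04=(1,1)
    rcases d14 with ⟨rfl, rfl⟩ | ⟨rfl, rfl⟩ | ⟨rfl, rfl⟩ | ⟨rfl, rfl⟩ | ⟨rfl, rfl⟩ | ⟨rfl, rfl⟩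
    · -- 14=(0,0)
      rcases d24 with ⟨rfl, rfl⟩ | ⟨rfl, rfl⟩ | ⟨rfl, rfl⟩ | ⟨rfl, rfl⟩ | ⟨rfl, rfl⟩ | ⟨rfl, rfl⟩
      · -- 24=(0,0)
        rcases d34 with ⟨rfl, rfl⟩ | ⟨rfl, rfl⟩ | ⟨rfl, rfl⟩ | ⟨rfl, rfl⟩ | ⟨rfl, rfl⟩ | ⟨rfl, rfl⟩
        · -- 34=(0,0)
          exfalso; omega
        · -- 34=(1,1)
          refine ⟨(⟨![0, 2, 1, 3, 4], ![0, 2, 1, 3, 4], by decide, by decide⟩ : Equiv.Perm (Fin 5)), T.m 0, T.w 0, Or.inl ?_⟩
          show T.m 0 = T.m 0 ∧ T.m 2 = T.m 0 ∧ T.m 1 = T.m 0 ∧ T.m 3 = T.m 0 ∧ T.m 4 = T.m 0 ∧ T.w 0 = T.w 0 ∧ T.w 2 = T.w 0 ∧ T.w 1 = T.w 0 ∧ T.w 3 = T.w 0 ∧ T.w 4 = T.w 0 ∧ T.a 0 0 = -2 * T.w 0 ∧ T.a 0 2 = T.w 0 ∧ T.a 0 1 = 0 ∧ T.a 0 3 = 0 ∧ T.a 0 4 = T.w 0 ∧ T.a 2 2 = -2 * T.w 0 ∧ T.a 2 1 = T.w 0 ∧ T.a 2 3 = 0 ∧ T.a 2 4 = 0 ∧ T.a 1 1 = -2 * T.w 0 ∧ T.a 1 3 = T.w 0 ∧ T.a 1 4 = 0 ∧ T.a 3 3 = -2 * T.w 0 ∧ T.a 3 4 = T.w 0 ∧ T.a 4 4 = -2 * T.w 0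
          refine ⟨?_, ?_, ?_, ?_, ?_, ?_, ?_, ?_, ?_, ?_, ?_, ?_, ?_, ?_, ?_, ?_, ?_, ?_, ?_, ?_, ?_, ?_, ?_, ?_, ?_⟩ <;> omega
        · -- 34=(1,2)
          exfalso; omega
        · -- 34=(2,1)
          exfalso; omega
        · -- 34=(1,3)
          exact False.elim (cert_false T ((skipEmb 2).trans (Function.Embedding.refl _)) (by norm_num) (fun _ => hall _) (((((LB_zero T ((skipEmb 2).trans (Function.Embedding.refl _))).upd 0 3 1 (le_of_eq hx04)).upd 2 3 1 (le_of_eq hx34)).upd 3 0 1 (le_of_eq hx40)).upd 3 2 3 (le_of_eq hx43)) ![1,0,1,2] (by decide) (by decide) 0 (by decide))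
        · -- 34=(3,1)
          exact False.elim (cert_false T ((skipEmb 2).trans (Function.Embedding.refl _)) (by norm_num) (fun _ => hall _) (((((LB_zero T ((skipEmb 2).trans (Function.Embedding.refl _))).upd 1 2 1 (le_of_eq hx13)).upd 2 1 1 (le_of_eq hx31)).upd 2 3 3 (le_of_eq hx34)).upd 3 2 1 (le_of_eq hx43)) ![0,1,2,1] (by decide) (by decide) 1 (by decide))
      · -- 24=(1,1)
        exact False.elim (cert_false T ((skipEmb 3).trans (Function.Embedding.refl _)) (by norm_num) (fun _ => hall _) (((((((LB_zero T ((skipEmb 3).trans (Function.Embedding.refl _))).upd 0 2 1 (le_of_eq hx02)).upd 0 3 1 (le_of_eq hx04)).upd 2 0 1 (le_of_eq hx20)).upd 2 3 1 (le_of_eq hx24)).upd 3 0 1 (le_of_eq hx40)).upd 3 2 1 (le_of_eq hx42)) ![1,0,1,1] (by decide) (by decide) 0 (by decide))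
      · -- 24=(1,2)
        exact False.elim (cert_false T ((skipEmb 3).trans (Function.Embedding.refl _)) (by norm_num) (fun _ => hall _) (((((((LB_zero T ((skipEmb 3).trans (Function.Embedding.refl _))).upd 0 2 1 (le_of_eq hx02)).upd 0 3 1 (le_of_eq hx04)).upd 2 0 1 (le_of_eq hx20)).upd 2 3 1 (le_of_eq hx24)).upd 3 0 1 (le_of_eq hx40)).upd 3 2 2 (le_of_eq hx42)) ![1,0,1,1] (by decide) (by decide) 0 (by decide))
      · -- 24=(2,1)
        exact False.elim (cert_false T ((skipEmb 3).trans (Function.Embedding.refl _)) (by norm_num) (fun _ => hall _) (((((((LB_zero T ((skipEmb 3).trans (Function.Embedding.refl _))).upd 0 2 1 (le_of_eq hx02)).upd 0 3 1 (le_of_eq hx04)).upd 2 0 1 (le_of_eq hx20)).upd 2 3 2 (le_of_eq hx24)).upd 3 0 1 (le_of_eq hx40)).upd 3 2 1 (le_of_eq hx42)) ![1,0,1,1] (by decide) (by decide) 0 (by decide))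
      · -- 24=(1,3)
        exact False.elim (cert_false T ((skipEmb 3).trans (Function.Embedding.refl _)) (by norm_num) (fun _ => hall _) (((((((LB_zero T ((skipEmb 3).trans (Function.Embedding.refl _))).upd 0 2 1 (le_of_eq hx02)).upd 0 3 1 (le_of_eq hx04)).upd 2 0 1 (le_of_eq hx20)).upd 2 3 1 (le_of_eq hx24)).upd 3 0 1 (le_of_eq hx40)).upd 3 2 3 (le_of_eq hx42)) ![1,0,1,1] (by decide) (by decide) 0 (by decide))
      · -- 24=(3,1)
        exact False.elim (cert_false T ((skipEmb 3).trans (Function.Embedding.refl _)) (by norm_num) (fun _ => hall _) (((((((LB_zero T ((skipEmb 3).trans (Function.Embedding.refl _))).upd 0 2 1 (le_of_eq hx02)).upd 0 3 1 (le_of_eq hx04)).upd 2 0 1 (le_of_eq hx20)).upd 2 3 3 (le_of_eq hx24)).upd 3 0 1 (le_of_eq hx40)).upd 3 2 1 (le_of_eq hx42)) ![1,0,1,1] (by decide) (by decide) 0 (by decide))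
    · -- 14=(1,1)
      exact False.elim (cert_false T ((skipEmb 3).trans (Function.Embedding.refl _)) (by norm_num) (fun _ => hall _) (((((((((LB_zero T ((skipEmb 3).trans (Function.Embedding.refl _))).upd 0 2 1 (le_of_eq hx02)).upd 0 3 1 (le_of_eq hx04)).upd 1 2 1 (le_of_eq hx12)).upd 1 3 1 (le_of_eq hx14)).upd 2 0 1 (le_of_eq hx20)).upd 2 1 1 (le_of_eq hx21)).upd 3 0 1 (le_of_eq hx40)).upd 3 1 1 (le_of_eq hx41)) ![1,1,1,1] (by decide) (by decide) 0 (by decide))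
    · -- 14=(1,2)
      exact False.elim (cert_false T ((skipEmb 3).trans (Function.Embedding.refl _)) (by norm_num) (fun _ => hall _) (((((((((LB_zero T ((skipEmb 3).trans (Function.Embedding.refl _))).upd 0 2 1 (le_of_eq hx02)).upd 0 3 1 (le_of_eq hx04)).upd 1 2 1 (le_of_eq hx12)).upd 1 3 1 (le_of_eq hx14)).upd 2 0 1 (le_of_eq hx20)).upd 2 1 1 (le_of_eq hx21)).upd 3 0 1 (le_of_eq hx40)).upd 3 1 2 (le_of_eq hx41)) ![1,1,1,1] (by decide) (by decide) 0 (by decide))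
    · -- 14=(2,1)
      exact False.elim (cert_false T ((skipEmb 3).trans (Function.Embedding.refl _)) (by norm_num) (fun _ => hall _) (((((((((LB_zero T ((skipEmb 3).trans (Function.Embedding.refl _))).upd 0 2 1 (le_of_eq hx02)).upd 0 3 1 (le_of_eq hx04)).upd 1 2 1 (le_of_eq hx12)).upd 1 3 2 (le_of_eq hx14)).upd 2 0 1 (le_of_eq hx20)).upd 2 1 1 (le_of_eq hx21)).upd 3 0 1 (le_of_eq hx40)).upd 3 1 1 (le_of_eq hx41)) ![1,1,1,1] (by decide) (by decide) 0 (by decide))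
    · -- 14=(1,3)
      exact False.elim (cert_false T ((skipEmb 3).trans (Function.Embedding.refl _)) (by norm_num) (fun _ => hall _) (((((((((LB_zero T ((skipEmb 3).trans (Function.Embedding.refl _))).upd 0 2 1 (le_of_eq hx02)).upd 0 3 1 (le_of_eq hx04)).upd 1 2 1 (le_of_eq hx12)).upd 1 3 1 (le_of_eq hx14)).upd 2 0 1 (le_of_eq hx20)).upd 2 1 1 (le_of_eq hx21)).upd 3 0 1 (le_of_eq hx40)).upd 3 1 3 (le_of_eq hx41)) ![1,1,1,1] (by decide) (by decide) 0 (by decide))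
    · -- 14=(3,1)
      exact False.elim (cert_false T ((skipEmb 3).trans (Function.Embedding.refl _)) (by norm_num) (fun _ => hall _) (((((((((LB_zero T ((skipEmb 3).trans (Function.Embedding.refl _))).upd 0 2 1 (le_of_eq hx02)).upd 0 3 1 (le_of_eq hx04)).upd 1 2 1 (le_of_eq hx12)).upd 1 3 3 (le_of_eq hx14)).upd 2 0 1 (le_of_eq hx20)).upd 2 1 1 (le_of_eq hx21)).upd 3 0 1 (le_of_eq hx40)).upd 3 1 1 (le_of_eq hx41)) ![1,1,1,1] (by decide) (by decide) 0 (by decide))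
  · -- 04=(1,2)
    rcases d14 with ⟨rfl, rfl⟩ | ⟨rfl, rfl⟩ | ⟨rfl, rfl⟩ | ⟨rfl, rfl⟩ | ⟨rfl, rfl⟩ | ⟨rfl, rfl⟩
    · -- 14=(0,0)
      rcases d24 with ⟨rfl, rfl⟩ | ⟨rfl, rfl⟩ | ⟨rfl, rfl⟩ | ⟨rfl, rfl⟩ | ⟨rfl, rfl⟩ | ⟨rfl, rfl⟩
      · -- 24=(0,0)
        rcases d34 with ⟨rfl, rfl⟩ | ⟨rfl, rfl⟩ | ⟨rfl, rfl⟩ | ⟨rfl, rfl⟩ | ⟨rfl, rfl⟩ | ⟨rfl, rfl⟩
        · -- 34=(0,0)
          exfalso; omega
        · -- 34=(1,1)
          exfalso; omega
        · -- 34=(1,2)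
          exact False.elim (cert_false T ((skipEmb 2).trans (Function.Embedding.refl _)) (by norm_num) (fun _ => hall _) (((((LB_zero T ((skipEmb 2).trans (Function.Embedding.refl _))).upd 0 3 1 (le_of_eq hx04)).upd 2 3 1 (le_of_eq hx34)).upd 3 0 2 (le_of_eq hx40)).upd 3 2 2 (le_of_eq hx43)) ![1,0,1,2] (by decide) (by decide) 0 (by decide))
        · -- 34=(2,1)
          exact False.elim (cert_false T ((skipEmb 2).trans (Function.Embedding.refl _)) (by norm_num) (fun _ => hall _) (((((LB_zero T ((skipEmb 2).trans (Function.Embedding.refl _))).upd 0 3 1 (le_of_eq hx04)).upd 2 3 2 (le_of_eq hx34)).upd 3 0 2 (le_of_eq hx40)).upd 3 2 1 (le_of_eq hx43)) ![1,0,2,2] (by decide) (by decide) 0 (by decide))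
        · -- 34=(1,3)
          exact False.elim (cert_false T ((skipEmb 2).trans (Function.Embedding.refl _)) (by norm_num) (fun _ => hall _) (((((LB_zero T ((skipEmb 2).trans (Function.Embedding.refl _))).upd 0 3 1 (le_of_eq hx04)).upd 2 3 1 (le_of_eq hx34)).upd 3 0 2 (le_of_eq hx40)).upd 3 2 3 (le_of_eq hx43)) ![1,0,1,2] (by decide) (by decide) 0 (by decide))
        · -- 34=(3,1)
          exact False.elim (cert_false T ((skipEmb 2).trans (Function.Embedding.refl _)) (by norm_num) (fun _ => hall _) (((((LB_zero T ((skipEmb 2).trans (Function.Embedding.refl _))).upd 0 3 1 (le_of_eq hx04)).upd 2 3 3 (le_of_eq hx34)).upd 3 0 2 (le_of_eq hx40)).upd 3 2 1 (le_of_eq hx43)) ![1,0,2,2] (by decide) (by decide) 0 (by decide))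
      · -- 24=(1,1)
        exact False.elim (cert_false T ((skipEmb 3).trans (Function.Embedding.refl _)) (by norm_num) (fun _ => hall _) (((((((LB_zero T ((skipEmb 3).trans (Function.Embedding.refl _))).upd 0 2 1 (le_of_eq hx02)).upd 0 3 1 (le_of_eq hx04)).upd 2 0 1 (le_of_eq hx20)).upd 2 3 1 (le_of_eq hx24)).upd 3 0 2 (le_of_eq hx40)).upd 3 2 1 (le_of_eq hx42)) ![1,0,1,1] (by decide) (by decide) 0 (by decide))
      · -- 24=(1,2)
        exact False.elim (cert_false T ((skipEmb 3).trans (Function.Embedding.refl _)) (by norm_num) (fun _ => hall _) (((((((LB_zero T ((skipEmb 3).trans (Function.Embedding.refl _))).upd 0 2 1 (le_of_eq hx02)).upd 0 3 1 (le_of_eq hx04)).upd 2 0 1 (le_of_eq hx20)).upd 2 3 1 (le_of_eq hx24)).upd 3 0 2 (le_of_eq hx40)).upd 3 2 2 (le_of_eq hx42)) ![1,0,1,1] (by decide) (by decide) 0 (by decide))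
      · -- 24=(2,1)
        exact False.elim (cert_false T ((skipEmb 3).trans (Function.Embedding.refl _)) (by norm_num) (fun _ => hall _) (((((((LB_zero T ((skipEmb 3).trans (Function.Embedding.refl _))).upd 0 2 1 (le_of_eq hx02)).upd 0 3 1 (le_of_eq hx04)).upd 2 0 1 (le_of_eq hx20)).upd 2 3 2 (le_of_eq hx24)).upd 3 0 2 (le_of_eq hx40)).upd 3 2 1 (le_of_eq hx42)) ![1,0,1,1] (by decide) (by decide) 0 (by decide))
      · -- 24=(1,3)
        exact False.elim (cert_false T ((skipEmb 3).trans (Function.Embedding.refl _)) (by norm_num) (fun _ => hall _) (((((((LB_zero T ((skipEmb 3).trans (Function.Embedding.refl _))).upd 0 2 1 (le_of_eq hx02)).upd 0 3 1 (le_of_eq hx04)).upd 2 0 1 (le_of_eq hx20)).upd 2 3 1 (le_of_eq hx24)).upd 3 0 2 (le_of_eq hx40)).upd 3 2 3 (le_of_eq hx42)) ![1,0,1,1] (by decide) (by decide) 0 (by decide))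
      · -- 24=(3,1)
        exact False.elim (cert_false T ((skipEmb 3).trans (Function.Embedding.refl _)) (by norm_num) (fun _ => hall _) (((((((LB_zero T ((skipEmb 3).trans (Function.Embedding.refl _))).upd 0 2 1 (le_of_eq hx02)).upd 0 3 1 (le_of_eq hx04)).upd 2 0 1 (le_of_eq hx20)).upd 2 3 3 (le_of_eq hx24)).upd 3 0 2 (le_of_eq hx40)).upd 3 2 1 (le_of_eq hx42)) ![1,0,1,1] (by decide) (by decide) 0 (by decide))
    · -- 14=(1,1)
      exact False.elim (cert_false T ((skipEmb 3).trans (Function.Embedding.refl _)) (by norm_num) (fun _ => hall _) (((((((((LB_zero T ((skipEmb 3).trans (Function.Embedding.refl _))).upd 0 2 1 (le_of_eq hx02)).upd 0 3 1 (le_of_eq hx04)).upd 1 2 1 (le_of_eq hx12)).upd 1 3 1 (le_of_eq hx14)).upd 2 0 1 (le_of_eq hx20)).upd 2 1 1 (le_of_eq hx21)).upd 3 0 2 (le_of_eq hx40)).upd 3 1 1 (le_of_eq hx41)) ![1,1,1,1] (by decide) (by decide) 0 (by decide))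
    · -- 14=(1,2)
      exact False.elim (cert_false T ((skipEmb 3).trans (Function.Embedding.refl _)) (by norm_num) (fun _ => hall _) (((((((((LB_zero T ((skipEmb 3).trans (Function.Embedding.refl _))).upd 0 2 1 (le_of_eq hx02)).upd 0 3 1 (le_of_eq hx04)).upd 1 2 1 (le_of_eq hx12)).upd 1 3 1 (le_of_eq hx14)).upd 2 0 1 (le_of_eq hx20)).upd 2 1 1 (le_of_eq hx21)).upd 3 0 2 (le_of_eq hx40)).upd 3 1 2 (le_of_eq hx41)) ![1,1,1,1] (by decide) (by decide) 0 (by decide))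
    · -- 14=(2,1)
      exact False.elim (cert_false T ((skipEmb 3).trans (Function.Embedding.refl _)) (by norm_num) (fun _ => hall _) (((((((((LB_zero T ((skipEmb 3).trans (Function.Embedding.refl _))).upd 0 2 1 (le_of_eq hx02)).upd 0 3 1 (le_of_eq hx04)).upd 1 2 1 (le_of_eq hx12)).upd 1 3 2 (le_of_eq hx14)).upd 2 0 1 (le_of_eq hx20)).upd 2 1 1 (le_of_eq hx21)).upd 3 0 2 (le_of_eq hx40)).upd 3 1 1 (le_of_eq hx41)) ![1,1,1,1] (by decide) (by decide) 0 (by decide))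
    · -- 14=(1,3)
      exact False.elim (cert_false T ((skipEmb 3).trans (Function.Embedding.refl _)) (by norm_num) (fun _ => hall _) (((((((((LB_zero T ((skipEmb 3).trans (Function.Embedding.refl _))).upd 0 2 1 (le_of_eq hx02)).upd 0 3 1 (le_of_eq hx04)).upd 1 2 1 (le_of_eq hx12)).upd 1 3 1 (le_of_eq hx14)).upd 2 0 1 (le_of_eq hx20)).upd 2 1 1 (le_of_eq hx21)).upd 3 0 2 (le_of_eq hx40)).upd 3 1 3 (le_of_eq hx41)) ![1,1,1,1] (by decide) (by decide) 0 (by decide))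
    · -- 14=(3,1)
      exact False.elim (cert_false T ((skipEmb 3).trans (Function.Embedding.refl _)) (by norm_num) (fun _ => hall _) (((((((((LB_zero T ((skipEmb 3).trans (Function.Embedding.refl _))).upd 0 2 1 (le_of_eq hx02)).upd 0 3 1 (le_of_eq hx04)).upd 1 2 1 (le_of_eq hx12)).upd 1 3 3 (le_of_eq hx14)).upd 2 0 1 (le_of_eq hx20)).upd 2 1 1 (le_of_eq hx21)).upd 3 0 2 (le_of_eq hx40)).upd 3 1 1 (le_of_eq hx41)) ![1,1,1,1] (by decide) (by decide) 0 (by decide))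
  · -- 04=(2,1)
    rcases d14 with ⟨rfl, rfl⟩ | ⟨rfl, rfl⟩ | ⟨rfl, rfl⟩ | ⟨rfl, rfl⟩ | ⟨rfl, rfl⟩ | ⟨rfl, rfl⟩
    · -- 14=(0,0)
      rcases d24 with ⟨rfl, rfl⟩ | ⟨rfl, rfl⟩ | ⟨rfl, rfl⟩ | ⟨rfl, rfl⟩ | ⟨rfl, rfl⟩ | ⟨rfl, rfl⟩
      · -- 24=(0,0)
        rcases d34 with ⟨rfl, rfl⟩ | ⟨rfl, rfl⟩ | ⟨rfl, rfl⟩ | ⟨rfl, rfl⟩ | ⟨rfl, rfl⟩ | ⟨rfl, rfl⟩
        · -- 34=(0,0)
          exfalso; omega
        · -- 34=(1,1)
          exfalso; omega
        · -- 34=(1,2)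
          exact False.elim (cert_false T ((skipEmb 2).trans (Function.Embedding.refl _)) (by norm_num) (fun _ => hall _) (((((LB_zero T ((skipEmb 2).trans (Function.Embedding.refl _))).upd 0 3 2 (le_of_eq hx04)).upd 2 3 1 (le_of_eq hx34)).upd 3 0 1 (le_of_eq hx40)).upd 3 2 2 (le_of_eq hx43)) ![2,0,1,2] (by decide) (by decide) 0 (by decide))
        · -- 34=(2,1)
          exact False.elim (cert_false T ((skipEmb 2).trans (Function.Embedding.refl _)) (by norm_num) (fun _ => hall _) (((((LB_zero T ((skipEmb 2).trans (Function.Embedding.refl _))).upd 0 3 2 (le_of_eq hx04)).upd 2 3 2 (le_of_eq hx34)).upd 3 0 1 (le_of_eq hx40)).upd 3 2 1 (le_of_eq hx43)) ![1,0,1,1] (by decide) (by decide) 0 (by decide))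
        · -- 34=(1,3)
          exact False.elim (cert_false T ((skipEmb 2).trans (Function.Embedding.refl _)) (by norm_num) (fun _ => hall _) (((((LB_zero T ((skipEmb 2).trans (Function.Embedding.refl _))).upd 0 3 2 (le_of_eq hx04)).upd 2 3 1 (le_of_eq hx34)).upd 3 0 1 (le_of_eq hx40)).upd 3 2 3 (le_of_eq hx43)) ![1,0,1,2] (by decide) (by decide) 0 (by decide))
        · -- 34=(3,1)
          exact False.elim (cert_false T ((skipEmb 2).trans (Function.Embedding.refl _)) (by norm_num) (fun _ => hall _) (((((LB_zero T ((skipEmb 2).trans (Function.Embedding.refl _))).upd 0 3 2 (le_of_eq hx04)).upd 2 3 3 (le_of_eq hx34)).upd 3 0 1 (le_of_eq hx40)).upd 3 2 1 (le_of_eq hx43)) ![1,0,1,1] (by decide) (by decide) 0 (by decide))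
      · -- 24=(1,1)
        exact False.elim (cert_false T ((skipEmb 3).trans (Function.Embedding.refl _)) (by norm_num) (fun _ => hall _) (((((((LB_zero T ((skipEmb 3).trans (Function.Embedding.refl _))).upd 0 2 1 (le_of_eq hx02)).upd 0 3 2 (le_of_eq hx04)).upd 2 0 1 (le_of_eq hx20)).upd 2 3 1 (le_of_eq hx24)).upd 3 0 1 (le_of_eq hx40)).upd 3 2 1 (le_of_eq hx42)) ![1,0,1,1] (by decide) (by decide) 0 (by decide))
      · -- 24=(1,2)
        exact False.elim (cert_false T ((skipEmb 3).trans (Function.Embedding.refl _)) (by norm_num) (fun _ => hall _) (((((((LB_zero T ((skipEmb 3).trans (Function.Embedding.refl _))).upd 0 2 1 (le_of_eq hx02)).upd 0 3 2 (le_of_eq hx04)).upd 2 0 1 (le_of_eq hx20)).upd 2 3 1 (le_of_eq hx24)).upd 3 0 1 (le_of_eq hx40)).upd 3 2 2 (le_of_eq hx42)) ![1,0,1,1] (by decide) (by decide) 0 (by decide))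
      · -- 24=(2,1)
        exact False.elim (cert_false T ((skipEmb 3).trans (Function.Embedding.refl _)) (by norm_num) (fun _ => hall _) (((((((LB_zero T ((skipEmb 3).trans (Function.Embedding.refl _))).upd 0 2 1 (le_of_eq hx02)).upd 0 3 2 (le_of_eq hx04)).upd 2 0 1 (le_of_eq hx20)).upd 2 3 2 (le_of_eq hx24)).upd 3 0 1 (le_of_eq hx40)).upd 3 2 1 (le_of_eq hx42)) ![1,0,1,1] (by decide) (by decide) 0 (by decide))
      · -- 24=(1,3)
        exact False.elim (cert_false T ((skipEmb 3).trans (Function.Embedding.refl _)) (by norm_num) (fun _ => hall _) (((((((LB_zero T ((skipEmb 3).trans (Function.Embedding.refl _))).upd 0 2 1 (le_of_eq hx02)).upd 0 3 2 (le_of_eq hx04)).upd 2 0 1 (le_of_eq hx20)).upd 2 3 1 (le_of_eq hx24)).upd 3 0 1 (le_of_eq hx40)).upd 3 2 3 (le_of_eq hx42)) ![1,0,1,1] (by decide) (by decide) 0 (by decide))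
      · -- 24=(3,1)
        exact False.elim (cert_false T ((skipEmb 3).trans (Function.Embedding.refl _)) (by norm_num) (fun _ => hall _) (((((((LB_zero T ((skipEmb 3).trans (Function.Embedding.refl _))).upd 0 2 1 (le_of_eq hx02)).upd 0 3 2 (le_of_eq hx04)).upd 2 0 1 (le_of_eq hx20)).upd 2 3 3 (le_of_eq hx24)).upd 3 0 1 (le_of_eq hx40)).upd 3 2 1 (le_of_eq hx42)) ![1,0,1,1] (by decide) (by decide) 0 (by decide))
    · -- 14=(1,1)
      exact False.elim (cert_false T ((skipEmb 3).trans (Function.Embedding.refl _)) (by norm_num) (fun _ => hall _) (((((((((LB_zero T ((skipEmb 3).trans (Function.Embedding.refl _))).upd 0 2 1 (le_of_eq hx02)).upd 0 3 2 (le_of_eq hx04)).upd 1 2 1 (le_of_eq hx12)).upd 1 3 1 (le_of_eq hx14)).upd 2 0 1 (le_of_eq hx20)).upd 2 1 1 (le_of_eq hx21)).upd 3 0 1 (le_of_eq hx40)).upd 3 1 1 (le_of_eq hx41)) ![1,1,1,1] (by decide) (by decide) 0 (by decide))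
    · -- 14=(1,2)
      exact False.elim (cert_false T ((skipEmb 3).trans (Function.Embedding.refl _)) (by norm_num) (fun _ => hall _) (((((((((LB_zero T ((skipEmb 3).trans (Function.Embedding.refl _))).upd 0 2 1 (le_of_eq hx02)).upd 0 3 2 (le_of_eq hx04)).upd 1 2 1 (le_of_eq hx12)).upd 1 3 1 (le_of_eq hx14)).upd 2 0 1 (le_of_eq hx20)).upd 2 1 1 (le_of_eq hx21)).upd 3 0 1 (le_of_eq hx40)).upd 3 1 2 (le_of_eq hx41)) ![1,1,1,1] (by decide) (by decide) 0 (by decide))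
    · -- 14=(2,1)
      exact False.elim (cert_false T ((skipEmb 3).trans (Function.Embedding.refl _)) (by norm_num) (fun _ => hall _) (((((LB_zero T ((skipEmb 3).trans (Function.Embedding.refl _))).upd 0 3 2 (le_of_eq hx04)).upd 1 3 2 (le_of_eq hx14)).upd 3 0 1 (le_of_eq hx40)).upd 3 1 1 (le_of_eq hx41)) ![1,1,0,1] (by decide) (by decide) 0 (by decide))
    · -- 14=(1,3)
      exact False.elim (cert_false T ((skipEmb 3).trans (Function.Embedding.refl _)) (by norm_num) (fun _ => hall _) (((((((((LB_zero T ((skipEmb 3).trans (Function.Embedding.refl _))).upd 0 2 1 (le_of_eq hx02)).upd 0 3 2 (le_of_eq hx04)).upd 1 2 1 (le_of_eq hx12)).upd 1 3 1 (le_of_eq hx14)).upd 2 0 1 (le_of_eq hx20)).upd 2 1 1 (le_of_eq hx21)).upd 3 0 1 (le_of_eq hx40)).upd 3 1 3 (le_of_eq hx41)) ![1,1,1,1] (by decide) (by decide) 0 (by decide))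
    · -- 14=(3,1)
      exact False.elim (cert_false T ((skipEmb 3).trans (Function.Embedding.refl _)) (by norm_num) (fun _ => hall _) (((((LB_zero T ((skipEmb 3).trans (Function.Embedding.refl _))).upd 0 3 2 (le_of_eq hx04)).upd 1 3 3 (le_of_eq hx14)).upd 3 0 1 (le_of_eq hx40)).upd 3 1 1 (le_of_eq hx41)) ![1,1,0,1] (by decide) (by decide) 0 (by decide))
  · -- 04=(1,3)
    exact False.elim (cert_false T ((skipEmb 3).trans (Function.Embedding.refl _)) (by norm_num) (fun _ => hall _) (((((LB_zero T ((skipEmb 3).trans (Function.Embedding.refl _))).upd 0 2 1 (le_of_eq hx02)).upd 0 3 1 (le_of_eq hx04)).upd 2 0 1 (le_of_eq hx20)).upd 3 0 3 (le_of_eq hx40)) ![2,0,1,3] (by decide) (by decide) 0 (by decide))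
  · -- 04=(3,1)
    exact False.elim (cert_false T ((skipEmb 3).trans (Function.Embedding.refl _)) (by norm_num) (fun _ => hall _) (((((LB_zero T ((skipEmb 3).trans (Function.Embedding.refl _))).upd 0 2 1 (le_of_eq hx02)).upd 0 3 3 (le_of_eq hx04)).upd 2 0 1 (le_of_eq hx20)).upd 3 0 1 (le_of_eq hx40)) ![2,0,1,1] (by decide) (by decide) 0 (by decide))

theorem case251 (T : NumericalType 5) (hall : ∀ i, T.IsMinusTwo i) (d : SData T)
    (h01 : N T (Function.Embedding.refl _) 0 1 = 0) (h10 : N T (Function.Embedding.refl _) 1 0 = 0)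
    (h02 : N T (Function.Embedding.refl _) 0 2 = 1) (h20 : N T (Function.Embedding.refl _) 2 0 = 1)
    (h12 : N T (Function.Embedding.refl _) 1 2 = 1) (h21 : N T (Function.Embedding.refl _) 2 1 = 1)
    (h03 : N T (Function.Embedding.refl _) 0 3 = 0) (h30 : N T (Function.Embedding.refl _) 3 0 = 0)
    (h13 : N T (Function.Embedding.refl _) 1 3 = 1) (h31 : N T (Function.Embedding.refl _) 3 1 = 1) :
    Goal T := by
  unfold Goal
  have hd := d
  obtain ⟨x01, x02, x03, x04, x10, x12, x13, x14, x20, x21, x23, x24, x30, x31, x32, x34, x40, x41, x42, x43, hx01, hx02, hx03, hx04, hx10, hx12, hx13, hx14, hx20, hx21, hx23, hx24, hx30, hx31, hx32, hx34, hx40, hx41, hx42, hx43, hw0, hm0, hw1, hm1, hw2, hm2, hw3, hm3, hw4, hm4, a00, a01, a02, a03, a04, a11, a10, a12, a13, a14, a22, a20, a21, a23, a24, a33, a30, a31, a32, a34, a44, a40, a41, a42, a43, wN01, wN02, wN12, wN03, wN13, wN23, wN04, wN14, wN24, wN34, e0, e1, e2, e3,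 e4, d01, d02, d12, d03, d13, d23, d04, d14, d24, d34⟩ := d
  obtain rfl : x01 = 0 := hx01.trans h01
  obtain rfl : x10 = 0 := hx10.trans h10
  obtain rfl : x02 = 1 := hx02.trans h02
  obtain rfl : x20 = 1 := hx20.trans h20
  obtain rfl : x12 = 1 := hx12.trans h12
  obtain rfl : x21 = 1 := hx21.trans h21
  obtain rfl : x03 = 0 := hx03.trans h03
  obtain rfl : x30 = 0 := hx30.trans h30
  obtain rfl : x13 = 1 := hx13.trans h13
  obtain rfl : x31 = 1 := hx31.trans h31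
  rcases d23 with ⟨rfl, rfl⟩ | ⟨rfl, rfl⟩ | ⟨rfl, rfl⟩ | ⟨rfl, rfl⟩ | ⟨rfl, rfl⟩ | ⟨rfl, rfl⟩
  · -- 23=(0,0)
    exact case252 T hall hd hx01.symm hx10.symm hx02.symm hx20.symm hx12.symm hx21.symm hx03.symm hx30.symm hx13.symm hx31.symm hx23.symm hx32.symm
  · -- 23=(1,1)
    exact False.elim (cert_false T ((skipEmb 4).trans (Function.Embedding.refl _)) (by norm_num) (fun _ => hall _) (((((((LB_zero T ((skipEmb 4).trans (Function.Embedding.refl _))).upd 1 2 1 (le_of_eq hx12)).upd 1 3 1 (le_of_eq hx13)).upd 2 1 1 (le_of_eq hx21)).upd 2 3 1 (le_of_eq hx23)).upd 3 1 1 (le_of_eq hx31)).upd 3 2 1 (le_of_eq hx32)) ![0,1,1,1] (by decide) (by decide) 1 (by decide))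
  · -- 23=(1,2)
    exact False.elim (cert_false T ((skipEmb 4).trans (Function.Embedding.refl _)) (by norm_num) (fun _ => hall _) (((((((LB_zero T ((skipEmb 4).trans (Function.Embedding.refl _))).upd 1 2 1 (le_of_eq hx12)).upd 1 3 1 (le_of_eq hx13)).upd 2 1 1 (le_of_eq hx21)).upd 2 3 1 (le_of_eq hx23)).upd 3 1 1 (le_of_eq hx31)).upd 3 2 2 (le_of_eq hx32)) ![0,1,1,1] (by decide) (by decide) 1 (by decide))
  · -- 23=(2,1)
    exact False.elim (cert_false T ((skipEmb 4).trans (Function.Embedding.refl _)) (by norm_num) (fun _ => hall _) (((((((LB_zero T ((skipEmb 4).trans (Function.Embedding.refl _))).upd 1 2 1 (le_of_eq hx12)).upd 1 3 1 (le_of_eq hx13)).upd 2 1 1 (le_of_eq hx21)).upd 2 3 2 (le_of_eq hx23)).upd 3 1 1 (le_of_eq hx31)).upd 3 2 1 (le_of_eq hx32)) ![0,1,1,1] (by decide) (by decide) 1 (by decide))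
  · -- 23=(1,3)
    exact False.elim (cert_false T ((skipEmb 4).trans (Function.Embedding.refl _)) (by norm_num) (fun _ => hall _) (((((((LB_zero T ((skipEmb 4).trans (Function.Embedding.refl _))).upd 1 2 1 (le_of_eq hx12)).upd 1 3 1 (le_of_eq hx13)).upd 2 1 1 (le_of_eq hx21)).upd 2 3 1 (le_of_eq hx23)).upd 3 1 1 (le_of_eq hx31)).upd 3 2 3 (le_of_eq hx32)) ![0,1,1,1] (by decide) (by decide) 1 (by decide))
  · -- 23=(3,1)
    exact False.elim (cert_false T ((skipEmb 4).trans (Function.Embedding.refl _)) (by norm_num) (fun _ => hall _) (((((((LB_zero T ((skipEmb 4).trans (Function.Embedding.refl _))).upd 1 2 1 (le_of_eq hx12)).upd 1 3 1 (le_of_eq hx13)).upd 2 1 1 (le_of_eq hx21)).upd 2 3 3 (le_of_eq hx23)).upd 3 1 1 (le_of_eq hx31)).upd 3 2 1 (le_of_eq hx32)) ![0,1,1,1] (by decide) (by decide) 1 (by decide))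

theorem case264 (T : NumericalType 5) (hall : ∀ i, T.IsMinusTwo i) (d : SData T)
    (h01 : N T (Function.Embedding.refl _) 0 1 = 0) (h10 : N T (Function.Embedding.refl _) 1 0 = 0)
    (h02 : N T (Function.Embedding.refl _) 0 2 = 1) (h20 : N T (Function.Embedding.refl _) 2 0 = 1)
    (h12 : N T (Function.Embedding.refl _) 1 2 = 1) (h21 : N T (Function.Embedding.refl _) 2 1 = 1)
    (h03 : N T (Function.Embedding.refl _) 0 3 = 1) (h30 : N T (Function.Embedding.refl _) 3 0 = 2)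
    (h13 : N T (Function.Embedding.refl _) 1 3 = 0) (h31 : N T (Function.Embedding.refl _) 3 1 = 0)
    (h23 : N T (Function.Embedding.refl _) 2 3 = 0) (h32 : N T (Function.Embedding.refl _) 3 2 = 0)
    (h04 : N T (Function.Embedding.refl _) 0 4 = 0) (h40 : N T (Function.Embedding.refl _) 4 0 = 0) :
    Goal T := by
  unfold Goal
  have hd := d
  obtain ⟨x01, x02, x03, x04, x10, x12, x13, x14, x20, x21, x23, x24, x30, x31, x32, x34, x40, x41, x42, x43, hx01, hx02, hx03, hx04, hx10, hx12, hx13, hx14, hx20, hx21, hx23, hx24, hx30, hx31, hx32, hx34, hx40, hx41, hx42, hx43, hw0, hm0, hw1, hm1, hw2, hm2, hw3, hm3, hw4, hm4, a00, a01, a02, a03, a04, a11, a10, a12, a13, a14, a22, a20, a21, a23, a24, a33, a30, a31, a32, a34, a44, a40, a41, a42, a43, wN01, wN02, wN12, wN03, wN13, wN23, wN04, wN14, wN24, wN34, e0, e1, e2, e3, e4, d01, d02, d12, d03, d13, d23, d04, d14, d24, d34⟩ := d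
  obtain rfl : x01 = 0 := hx01.trans h01
  obtain rfl : x10 = 0 := hx10.trans h10
  obtain rfl : x02 = 1 := hx02.trans h02
  obtain rfl : x20 = 1 := hx20.trans h20
  obtain rfl : x12 = 1 := hx12.trans h12
  obtain rfl : x21 = 1 := hx21.trans h21
  obtain rfl : x03 = 1 := hx03.trans h03
  obtain rfl : x30 = 2 := hx30.trans h30
  obtain rfl : x13 = 0 := hx13.trans h13
  obtain rfl : x31 = 0 := hx31.trans h31
  obtain rfl : x23 = 0 := hx23.trans h23
  obtain rfl : x32 = 0 := hx32.trans h32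
  obtain rfl : x04 = 0 := hx04.trans h04
  obtain rfl : x40 = 0 := hx40.trans h40
  rcases d14 with ⟨rfl, rfl⟩ | ⟨rfl, rfl⟩ | ⟨rfl, rfl⟩ | ⟨rfl, rfl⟩ | ⟨rfl, rfl⟩ | ⟨rfl, rfl⟩
  · -- 14=(0,0)
    rcases d24 with ⟨rfl, rfl⟩ | ⟨rfl, rfl⟩ | ⟨rfl, rfl⟩ | ⟨rfl, rfl⟩ | ⟨rfl, rfl⟩ | ⟨rfl, rfl⟩
    · -- 24=(0,0)
      rcases d34 with ⟨rfl, rfl⟩ | ⟨rfl, rfl⟩ | ⟨rfl, rfl⟩ | ⟨rfl, rfl⟩ | ⟨rfl, rfl⟩ | ⟨rfl, rfl⟩
      · -- 34=(0,0)
        exfalso; omega
      · -- 34=(1,1)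
        refine ⟨(⟨![1, 2, 0, 3, 4], ![2, 0, 1, 3, 4], by decide, by decide⟩ : Equiv.Perm (Fin 5)), T.m 1, T.w 3, Or.inr (Or.inr (Or.inl ?_))⟩
        show T.m 1 = T.m 1 ∧ T.m 2 = 2 * T.m 1 ∧ T.m 0 = 3 * T.m 1 ∧ T.m 3 = 4 * T.m 1 ∧ T.m 4 = 2 * T.m 1 ∧ T.w 1 = 2 * T.w 3 ∧ T.w 2 = 2 * T.w 3 ∧ T.w 0 = 2 * T.w 3 ∧ T.w 3 = T.w 3 ∧ T.w 4 = T.w 3 ∧ T.a 1 1 = -4 * T.w 3 ∧ T.a 1 2 = 2 * T.w 3 ∧ T.a 1 0 = 0 ∧ T.a 1 3 = 0 ∧ T.a 1 4 = 0 ∧ T.a 2 2 = -4 * T.w 3 ∧ T.a 2 0 = 2 * T.w 3 ∧ T.a 2 3 = 0 ∧ T.a 2 4 = 0 ∧ T.a 0 0 = -4 * T.w 3 ∧ T.a 0 3 = 2 * T.w 3 ∧ T.a 0 4 = 0 ∧ T.a 3 3 = -2 * T.w 3 ∧ T.a 3 4 = T.w 3 ∧ T.a 4 4 = -2 * T.w 3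
        refine ⟨?_, ?_, ?_, ?_, ?_, ?_, ?_, ?_, ?_, ?_, ?_, ?_, ?_, ?_, ?_, ?_, ?_, ?_, ?_, ?_, ?_, ?_, ?_, ?_, ?_⟩ <;> omega
      · -- 34=(1,2)
        exact False.elim (cert_false T ((skipEmb 2).trans (Function.Embedding.refl _)) (by norm_num) (fun _ => hall _) (((((LB_zero T ((skipEmb 2).trans (Function.Embedding.refl _))).upd 0 2 1 (le_of_eq hx03)).upd 2 0 2 (le_of_eq hx30)).upd 2 3 1 (le_of_eq hx34)).upd 3 2 2 (le_of_eq hx43)) ![1,0,2,2] (by decide) (by decide) 0 (by decide))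
      · -- 34=(2,1)
        exact False.elim (cert_false T ((skipEmb 2).trans (Function.Embedding.refl _)) (by norm_num) (fun _ => hall _) (((((LB_zero T ((skipEmb 2).trans (Function.Embedding.refl _))).upd 0 2 1 (le_of_eq hx03)).upd 2 0 2 (le_of_eq hx30)).upd 2 3 2 (le_of_eq hx34)).upd 3 2 1 (le_of_eq hx43)) ![1,0,2,1] (by decide) (by decide) 0 (by decide))
      · -- 34=(1,3)
        exact False.elim (cert_false T ((skipEmb 2).trans (Function.Embedding.refl _)) (by norm_num) (fun _ => hall _) (((((LB_zero T ((skipEmb 2).trans (Function.Embedding.refl _))).upd 0 2 1 (le_of_eq hx03)).upd 2 0 2 (le_of_eq hx30)).upd 2 3 1 (le_of_eq hx34)).upd 3 2 3 (le_of_eq hx43)) ![1,0,2,2] (by decide) (by decide) 0 (by decide))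
      · -- 34=(3,1)
        exact False.elim (cert_false T ((skipEmb 2).trans (Function.Embedding.refl _)) (by norm_num) (fun _ => hall _) (((((LB_zero T ((skipEmb 2).trans (Function.Embedding.refl _))).upd 0 2 1 (le_of_eq hx03)).upd 2 0 2 (le_of_eq hx30)).upd 2 3 3 (le_of_eq hx34)).upd 3 2 1 (le_of_eq hx43)) ![1,0,2,1] (by decide) (by decide) 0 (by decide))
    · -- 24=(1,1)
      rcases d34 with ⟨rfl, rfl⟩ | ⟨rfl, rfl⟩ | ⟨rfl, rfl⟩ | ⟨rfl, rfl⟩ | ⟨rfl, rfl⟩ | ⟨rfl, rfl⟩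
      · -- 34=(0,0)
        refine ⟨(⟨![3, 0, 2, 1, 4], ![1, 3, 2, 0, 4], by decide, by decide⟩ : Equiv.Perm (Fin 5)), T.m 1, T.w 3, Or.inr (Or.inr (Or.inr (Or.inr (Or.inr (Or.inr (Or.inr (Or.inr (?_))))))))⟩
        show T.m 3 = 2 * T.m 1 ∧ T.m 0 = 2 * T.m 1 ∧ T.m 2 = 2 * T.m 1 ∧ T.m 1 = T.m 1 ∧ T.m 4 = T.m 1 ∧ T.w 3 = T.w 3 ∧ T.w 0 = 2 * T.w 3 ∧ T.w 2 = 2 * T.w 3 ∧ T.w 1 = 2 * T.w 3 ∧ T.w 4 = 2 * T.w 3 ∧ T.a 3 3 = -2 * T.w 3 ∧ T.a 3 0 = 2 * T.w 3 ∧ T.a 3 2 = 0 ∧ T.a 3 1 = 0 ∧ T.a 3 4 = 0 ∧ T.a 0 0 = -4 * T.w 3 ∧ T.a 0 2 = 2 * T.w 3 ∧ T.a 0 1 = 0 ∧ T.a 0 4 = 0 ∧ T.a 2 2 = -4 * T.w 3 ∧ T.a 2 1 = 2 * T.w 3 ∧ T.a 2 4 = 2 * T.w 3 ∧ T.a 1 1 = -4 * T.w 3 ∧ T.a 1 4 = 0 ∧ T.a 4 4 = -4 * T.w 3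
        refine ⟨?_, ?_, ?_, ?_, ?_, ?_, ?_, ?_, ?_, ?_, ?_, ?_, ?_, ?_, ?_, ?_, ?_, ?_, ?_, ?_, ?_, ?_, ?_, ?_, ?_⟩ <;> omega
      · -- 34=(1,1)
        exact False.elim (cert_false T ((skipEmb 1).trans (Function.Embedding.refl _)) (by norm_num) (fun _ => hall _) (((((((((LB_zero T ((skipEmb 1).trans (Function.Embedding.refl _))).upd 0 1 1 (le_of_eq hx02)).upd 0 2 1 (le_of_eq hx03)).upd 1 0 1 (le_of_eq hx20)).upd 1 3 1 (le_of_eq hx24)).upd 2 0 2 (le_of_eq hx30)).upd 2 3 1 (le_of_eq hx34)).upd 3 1 1 (le_of_eq hx42)).upd 3 2 1 (le_of_eq hx43)) ![1,1,1,1] (by decide) (by decide) 0 (by decide))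
      · -- 34=(1,2)
        exact False.elim (cert_false T ((skipEmb 2).trans (Function.Embedding.refl _)) (by norm_num) (fun _ => hall _) (((((LB_zero T ((skipEmb 2).trans (Function.Embedding.refl _))).upd 0 2 1 (le_of_eq hx03)).upd 2 0 2 (le_of_eq hx30)).upd 2 3 1 (le_of_eq hx34)).upd 3 2 2 (le_of_eq hx43)) ![1,0,2,2] (by decide) (by decide) 0 (by decide))
      · -- 34=(2,1)
        exact False.elim (cert_false T ((skipEmb 2).trans (Function.Embedding.refl _)) (by norm_num) (fun _ => hall _) (((((LB_zero T ((skipEmb 2).trans (Function.Embedding.refl _))).upd 0 2 1 (le_of_eq hx03)).upd 2 0 2 (le_of_eq hx30)).upd 2 3 2 (le_of_eq hx34)).upd 3 2 1 (le_of_eq hx43)) ![1,0,2,1] (by decide) (by decide) 0 (by decide))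
      · -- 34=(1,3)
        exact False.elim (cert_false T ((skipEmb 2).trans (Function.Embedding.refl _)) (by norm_num) (fun _ => hall _) (((((LB_zero T ((skipEmb 2).trans (Function.Embedding.refl _))).upd 0 2 1 (le_of_eq hx03)).upd 2 0 2 (le_of_eq hx30)).upd 2 3 1 (le_of_eq hx34)).upd 3 2 3 (le_of_eq hx43)) ![1,0,2,2] (by decide) (by decide) 0 (by decide))
      · -- 34=(3,1)
        exact False.elim (cert_false T ((skipEmb 2).trans (Function.Embedding.refl _)) (by norm_num) (fun _ => hall _) (((((LB_zero T ((skipEmb 2).trans (Function.Embedding.refl _))).upd 0 2 1 (le_of_eq hx03)).upd 2 0 2 (le_of_eq hx30)).upd 2 3 3 (le_of_eq hx34)).upd 3 2 1 (le_of_eq hx43)) ![1,0,2,1] (by decide) (by decide) 0 (by decide))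
    · -- 24=(1,2)
      exact False.elim (cert_false T ((skipEmb 3).trans (Function.Embedding.refl _)) (by norm_num) (fun _ => hall _) (((((((LB_zero T ((skipEmb 3).trans (Function.Embedding.refl _))).upd 0 2 1 (le_of_eq hx02)).upd 1 2 1 (le_of_eq hx12)).upd 2 0 1 (le_of_eq hx20)).upd 2 1 1 (le_of_eq hx21)).upd 2 3 1 (le_of_eq hx24)).upd 3 2 2 (le_of_eq hx42)) ![1,1,2,2] (by decide) (by decide) 0 (by decide))
    · -- 24=(2,1)
      exact False.elim (cert_false T ((skipEmb 3).trans (Function.Embedding.refl _)) (by norm_num) (fun _ => hall _) (((((((LB_zero T ((skipEmb 3).trans (Function.Embedding.refl _))).upd 0 2 1 (le_of_eq hx02)).upd 1 2 1 (le_of_eq hx12)).upd 2 0 1 (le_of_eq hx20)).upd 2 1 1 (le_of_eq hx21)).upd 2 3 2 (le_of_eq hx24)).upd 3 2 1 (le_of_eq hx42)) ![1,1,2,1] (by decide) (by decide) 0 (by decide))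
    · -- 24=(1,3)
      exact False.elim (cert_false T ((skipEmb 3).trans (Function.Embedding.refl _)) (by norm_num) (fun _ => hall _) (((((((LB_zero T ((skipEmb 3).trans (Function.Embedding.refl _))).upd 0 2 1 (le_of_eq hx02)).upd 1 2 1 (le_of_eq hx12)).upd 2 0 1 (le_of_eq hx20)).upd 2 1 1 (le_of_eq hx21)).upd 2 3 1 (le_of_eq hx24)).upd 3 2 3 (le_of_eq hx42)) ![1,1,2,2] (by decide) (by decide) 0 (by decide))
    · -- 24=(3,1)
      exact False.elim (cert_false T ((skipEmb 3).trans (Function.Embedding.refl _)) (by norm_num) (fun _ => hall _) (((((LB_zero T ((skipEmb 3).trans (Function.Embedding.refl _))).upd 1 2 1 (le_of_eq hx12)).upd 2 1 1 (le_of_eq hx21)).upd 2 3 3 (le_of_eq hx24)).upd 3 2 1 (le_of_eq hx42)) ![0,1,2,1] (by decide) (by decide) 1 (by decide))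
  · -- 14=(1,1)
    rcases d24 with ⟨rfl, rfl⟩ | ⟨rfl, rfl⟩ | ⟨rfl, rfl⟩ | ⟨rfl, rfl⟩ | ⟨rfl, rfl⟩ | ⟨rfl, rfl⟩
    · -- 24=(0,0)
      rcases d34 with ⟨rfl, rfl⟩ | ⟨rfl, rfl⟩ | ⟨rfl, rfl⟩ | ⟨rfl, rfl⟩ | ⟨rfl, rfl⟩ | ⟨rfl, rfl⟩
      · -- 34=(0,0)
        exfalso; omega
      · -- 34=(1,1)
        exfalso; omega
      · -- 34=(1,2)
        exact False.elim (cert_false T ((skipEmb 2).trans (Function.Embedding.refl _)) (by norm_num) (fun _ => hall _) (((((LB_zero T ((skipEmb 2).trans (Function.Embedding.refl _))).upd 0 2 1 (le_of_eq hx03)).upd 2 0 2 (le_of_eq hx30)).upd 2 3 1 (le_of_eq hx34)).upd 3 2 2 (le_of_eq hx43)) ![1,0,2,2] (by decide) (by decide) 0 (by decide))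
      · -- 34=(2,1)
        exact False.elim (cert_false T ((skipEmb 2).trans (Function.Embedding.refl _)) (by norm_num) (fun _ => hall _) (((((LB_zero T ((skipEmb 2).trans (Function.Embedding.refl _))).upd 0 2 1 (le_of_eq hx03)).upd 2 0 2 (le_of_eq hx30)).upd 2 3 2 (le_of_eq hx34)).upd 3 2 1 (le_of_eq hx43)) ![1,0,2,1] (by decide) (by decide) 0 (by decide))
      · -- 34=(1,3)
        exact False.elim (cert_false T ((skipEmb 2).trans (Function.Embedding.refl _)) (by norm_num) (fun _ => hall _) (((((LB_zero T ((skipEmb 2).trans (Function.Embedding.refl _))).upd 0 2 1 (le_of_eq hx03)).upd 2 0 2 (le_of_eq hx30)).upd 2 3 1 (le_of_eq hx34)).upd 3 2 3 (le_of_eq hx43)) ![1,0,2,2] (by decide) (by decide) 0 (by decide))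
      · -- 34=(3,1)
        exact False.elim (cert_false T ((skipEmb 2).trans (Function.Embedding.refl _)) (by norm_num) (fun _ => hall _) (((((LB_zero T ((skipEmb 2).trans (Function.Embedding.refl _))).upd 0 2 1 (le_of_eq hx03)).upd 2 0 2 (le_of_eq hx30)).upd 2 3 3 (le_of_eq hx34)).upd 3 2 1 (le_of_eq hx43)) ![1,0,2,1] (by decide) (by decide) 0 (by decide))
    · -- 24=(1,1)
      exact False.elim (cert_false T ((skipEmb 3).trans (Function.Embedding.refl _)) (by norm_num) (fun _ => hall _) (((((((LB_zero T ((skipEmb 3).trans (Function.Embedding.refl _))).upd 1 2 1 (le_of_eq hx12)).upd 1 3 1 (le_of_eq hx14)).upd 2 1 1 (le_of_eq hx21)).upd 2 3 1 (le_of_eq hx24)).upd 3 1 1 (le_of_eq hx41)).upd 3 2 1 (le_of_eq hx42)) ![0,1,1,1] (by decide) (by decide) 1 (by decide))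
    · -- 24=(1,2)
      exact False.elim (cert_false T ((skipEmb 3).trans (Function.Embedding.refl _)) (by norm_num) (fun _ => hall _) (((((((LB_zero T ((skipEmb 3).trans (Function.Embedding.refl _))).upd 1 2 1 (le_of_eq hx12)).upd 1 3 1 (le_of_eq hx14)).upd 2 1 1 (le_of_eq hx21)).upd 2 3 1 (le_of_eq hx24)).upd 3 1 1 (le_of_eq hx41)).upd 3 2 2 (le_of_eq hx42)) ![0,1,1,1] (by decide) (by decide) 1 (by decide))
    · -- 24=(2,1)
      exact False.elim (cert_false T ((skipEmb 3).trans (Function.Embedding.refl _)) (by norm_num) (fun _ => hall _) (((((((LB_zero T ((skipEmb 3).trans (Function.Embedding.refl _))).upd 1 2 1 (le_of_eq hx12)).upd 1 3 1 (le_of_eq hx14)).upd 2 1 1 (le_of_eq hx21)).upd 2 3 2 (le_of_eq hx24)).upd 3 1 1 (le_of_eq hx41)).upd 3 2 1 (le_of_eq hx42)) ![0,1,1,1] (by decide) (by decide) 1 (by decide))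
    · -- 24=(1,3)
      exact False.elim (cert_false T ((skipEmb 3).trans (Function.Embedding.refl _)) (by norm_num) (fun _ => hall _) (((((((LB_zero T ((skipEmb 3).trans (Function.Embedding.refl _))).upd 1 2 1 (le_of_eq hx12)).upd 1 3 1 (le_of_eq hx14)).upd 2 1 1 (le_of_eq hx21)).upd 2 3 1 (le_of_eq hx24)).upd 3 1 1 (le_of_eq hx41)).upd 3 2 3 (le_of_eq hx42)) ![0,1,1,1] (by decide) (by decide) 1 (by decide))
    · -- 24=(3,1)
      exact False.elim (cert_false T ((skipEmb 3).trans (Function.Embedding.refl _)) (by norm_num) (fun _ => hall _) (((((((LB_zero T ((skipEmb 3).trans (Function.Embedding.refl _))).upd 1 2 1 (le_of_eq hx12)).upd 1 3 1 (le_of_eq hx14)).upd 2 1 1 (le_of_eq hx21)).upd 2 3 3 (le_of_eq hx24)).upd 3 1 1 (le_of_eq hx41)).upd 3 2 1 (le_of_eq hx42)) ![0,1,1,1] (by decide) (by decide) 1 (by decide))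
  · -- 14=(1,2)
    rcases d24 with ⟨rfl, rfl⟩ | ⟨rfl, rfl⟩ | ⟨rfl, rfl⟩ | ⟨rfl, rfl⟩ | ⟨rfl, rfl⟩ | ⟨rfl, rfl⟩
    · -- 24=(0,0)
      rcases d34 with ⟨rfl, rfl⟩ | ⟨rfl, rfl⟩ | ⟨rfl, rfl⟩ | ⟨rfl, rfl⟩ | ⟨rfl, rfl⟩ | ⟨rfl, rfl⟩
      · -- 34=(0,0)
        refine ⟨(⟨![3, 0, 2, 1, 4], ![1, 3, 2, 0, 4], by decide, by decide⟩ : Equiv.Perm (Fin 5)), T.m 3, T.w 3, Or.inr (Or.inr (Or.inr (Or.inr (Or.inl ?_))))⟩
        show T.m 3 = T.m 3 ∧ T.m 0 = T.m 3 ∧ T.m 2 = T.m 3 ∧ T.m 1 = T.m 3 ∧ T.m 4 = T.m 3 ∧ T.w 3 = T.w 3 ∧ T.w 0 = 2 * T.w 3 ∧ T.w 2 = 2 * T.w 3 ∧ T.w 1 = 2 * T.w 3 ∧ T.w 4 = T.w 3 ∧ T.a 3 3 = -2 * T.w 3 ∧ T.a 3 0 = 2 * T.w 3 ∧ T.a 3 2 = 0 ∧ T.a 3 1 = 0 ∧ T.a 3 4 = 0 ∧ T.a 0 0 = -4 * T.w 3 ∧ T.a 0 2 = 2 * T.w 3 ∧ T.a 0 1 = 0 ∧ T.a 0 4 = 0 ∧ T.a 2 2 = -4 * T.w 3 ∧ T.a 2 1 = 2 * T.w 3 ∧ T.a 2 4 = 0 ∧ T.a 1 1 = -4 * T.w 3 ∧ T.a 1 4 = 2 * T.w 3 ∧ T.a 4 4 = -2 * T.w 3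
        refine ⟨?_, ?_, ?_, ?_, ?_, ?_, ?_, ?_, ?_, ?_, ?_, ?_, ?_, ?_, ?_, ?_, ?_, ?_, ?_, ?_, ?_, ?_, ?_, ?_, ?_⟩ <;> omega
      · -- 34=(1,1)
        exact False.elim (cert_false T ((skipEmb 2).trans (Function.Embedding.refl _)) (by norm_num) (fun _ => hall _) (((((((LB_zero T ((skipEmb 2).trans (Function.Embedding.refl _))).upd 0 2 1 (le_of_eq hx03)).upd 1 3 1 (le_of_eq hx14)).upd 2 0 2 (le_of_eq hx30)).upd 2 3 1 (le_of_eq hx34)).upd 3 1 2 (le_of_eq hx41)).upd 3 2 1 (le_of_eq hx43)) ![1,1,2,2] (by decide) (by decide) 0 (by decide))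
      · -- 34=(1,2)
        exact False.elim (cert_false T ((skipEmb 2).trans (Function.Embedding.refl _)) (by norm_num) (fun _ => hall _) (((((LB_zero T ((skipEmb 2).trans (Function.Embedding.refl _))).upd 0 2 1 (le_of_eq hx03)).upd 2 0 2 (le_of_eq hx30)).upd 2 3 1 (le_of_eq hx34)).upd 3 2 2 (le_of_eq hx43)) ![1,0,2,2] (by decide) (by decide) 0 (by decide))
      · -- 34=(2,1)
        exact False.elim (cert_false T ((skipEmb 2).trans (Function.Embedding.refl _)) (by norm_num) (fun _ => hall _) (((((LB_zero T ((skipEmb 2).trans (Function.Embedding.refl _))).upd 1 3 1 (le_of_eq hx14)).upd 2 3 2 (le_of_eq hx34)).upd 3 1 2 (le_of_eq hx41)).upd 3 2 1 (le_of_eq hx43)) ![0,1,2,2] (by decide) (by decide) 1 (by decide))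
      · -- 34=(1,3)
        exact False.elim (cert_false T ((skipEmb 2).trans (Function.Embedding.refl _)) (by norm_num) (fun _ => hall _) (((((LB_zero T ((skipEmb 2).trans (Function.Embedding.refl _))).upd 0 2 1 (le_of_eq hx03)).upd 2 0 2 (le_of_eq hx30)).upd 2 3 1 (le_of_eq hx34)).upd 3 2 3 (le_of_eq hx43)) ![1,0,2,2] (by decide) (by decide) 0 (by decide))
      · -- 34=(3,1)
        exact False.elim (cert_false T ((skipEmb 2).trans (Function.Embedding.refl _)) (by norm_num) (fun _ => hall _) (((((LB_zero T ((skipEmb 2).trans (Function.Embedding.refl _))).upd 1 3 1 (le_of_eq hx14)).upd 2 3 3 (le_of_eq hx34)).upd 3 1 2 (le_of_eq hx41)).upd 3 2 1 (le_of_eq hx43)) ![0,1,2,2] (by decide) (by decide) 1 (by decide))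
    · -- 24=(1,1)
      exact False.elim (cert_false T ((skipEmb 3).trans (Function.Embedding.refl _)) (by norm_num) (fun _ => hall _) (((((((LB_zero T ((skipEmb 3).trans (Function.Embedding.refl _))).upd 1 2 1 (le_of_eq hx12)).upd 1 3 1 (le_of_eq hx14)).upd 2 1 1 (le_of_eq hx21)).upd 2 3 1 (le_of_eq hx24)).upd 3 1 2 (le_of_eq hx41)).upd 3 2 1 (le_of_eq hx42)) ![0,1,1,1] (by decide) (by decide) 1 (by decide))
    · -- 24=(1,2)
      exact False.elim (cert_false T ((skipEmb 3).trans (Function.Embedding.refl _)) (by norm_num) (fun _ => hall _) (((((((LB_zero T ((skipEmb 3).trans (Function.Embedding.refl _))).upd 1 2 1 (le_of_eq hx12)).upd 1 3 1 (le_of_eq hx14)).upd 2 1 1 (le_of_eq hx21)).upd 2 3 1 (le_of_eq hx24)).upd 3 1 2 (le_of_eq hx41)).upd 3 2 2 (le_of_eq hx42)) ![0,1,1,1] (by decide) (by decide) 1 (by decide))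
    · -- 24=(2,1)
      exact False.elim (cert_false T ((skipEmb 3).trans (Function.Embedding.refl _)) (by norm_num) (fun _ => hall _) (((((((LB_zero T ((skipEmb 3).trans (Function.Embedding.refl _))).upd 1 2 1 (le_of_eq hx12)).upd 1 3 1 (le_of_eq hx14)).upd 2 1 1 (le_of_eq hx21)).upd 2 3 2 (le_of_eq hx24)).upd 3 1 2 (le_of_eq hx41)).upd 3 2 1 (le_of_eq hx42)) ![0,1,1,1] (by decide) (by decide) 1 (by decide))
    · -- 24=(1,3)
      exact False.elim (cert_false T ((skipEmb 3).trans (Function.Embedding.refl _)) (by norm_num) (fun _ => hall _) (((((((LB_zero T ((skipEmb 3).trans (Function.Embedding.refl _))).upd 1 2 1 (le_of_eq hx12)).upd 1 3 1 (le_of_eq hx14)).upd 2 1 1 (le_of_eq hx21)).upd 2 3 1 (le_of_eq hx24)).upd 3 1 2 (le_of_eq hx41)).upd 3 2 3 (le_of_eq hx42)) ![0,1,1,1] (by decide) (by decide) 1 (by decide))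
    · -- 24=(3,1)
      exact False.elim (cert_false T ((skipEmb 3).trans (Function.Embedding.refl _)) (by norm_num) (fun _ => hall _) (((((((LB_zero T ((skipEmb 3).trans (Function.Embedding.refl _))).upd 1 2 1 (le_of_eq hx12)).upd 1 3 1 (le_of_eq hx14)).upd 2 1 1 (le_of_eq hx21)).upd 2 3 3 (le_of_eq hx24)).upd 3 1 2 (le_of_eq hx41)).upd 3 2 1 (le_of_eq hx42)) ![0,1,1,1] (by decide) (by decide) 1 (by decide))
  · -- 14=(2,1)
    rcases d24 with ⟨rfl, rfl⟩ | ⟨rfl, rfl⟩ | ⟨rfl, rfl⟩ | ⟨rfl, rfl⟩ | ⟨rfl, rfl⟩ | ⟨rfl, rfl⟩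
    · -- 24=(0,0)
      rcases d34 with ⟨rfl, rfl⟩ | ⟨rfl, rfl⟩ | ⟨rfl, rfl⟩ | ⟨rfl, rfl⟩ | ⟨rfl, rfl⟩ | ⟨rfl, rfl⟩
      · -- 34=(0,0)
        refine ⟨(⟨![3, 0, 2, 1, 4], ![1, 3, 2, 0, 4], by decide, by decide⟩ : Equiv.Perm (Fin 5)), T.m 4, T.w 3, Or.inr (Or.inr (Or.inr (Or.inl ?_)))⟩
        show T.m 3 = 2 * T.m 4 ∧ T.m 0 = 2 * T.m 4 ∧ T.m 2 = 2 * T.m 4 ∧ T.m 1 = 2 * T.m 4 ∧ T.m 4 = T.m 4 ∧ T.w 3 = T.w 3 ∧ T.w 0 = 2 * T.w 3 ∧ T.w 2 = 2 * T.w 3 ∧ T.w 1 = 2 * T.w 3 ∧ T.w 4 = 4 * T.w 3 ∧ T.a 3 3 = -2 * T.w 3 ∧ T.a 3 0 = 2 * T.w 3 ∧ T.a 3 2 = 0 ∧ T.a 3 1 = 0 ∧ T.a 3 4 = 0 ∧ T.a 0 0 = -4 * T.w 3 ∧ T.a 0 2 = 2 * T.w 3 ∧ T.a 0 1 = 0 ∧ T.a 0 4 = 0 ∧ T.a 2 2 = -4 * T.w 3 ∧ T.a 2 1 = 2 * T.w 3 ∧ T.a 2 4 = 0 ∧ T.a 1 1 = -4 * T.w 3 ∧ T.a 1 4 = 4 * T.w 3 ∧ T.a 4 4 = -8 * T.w 3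
        refine ⟨?_, ?_, ?_, ?_, ?_, ?_, ?_, ?_, ?_, ?_, ?_, ?_, ?_, ?_, ?_, ?_, ?_, ?_, ?_, ?_, ?_, ?_, ?_, ?_, ?_⟩ <;> omega
      · -- 34=(1,1)
        exact False.elim (cert_false T ((skipEmb 2).trans (Function.Embedding.refl _)) (by norm_num) (fun _ => hall _) (((((((LB_zero T ((skipEmb 2).trans (Function.Embedding.refl _))).upd 0 2 1 (le_of_eq hx03)).upd 1 3 2 (le_of_eq hx14)).upd 2 0 2 (le_of_eq hx30)).upd 2 3 1 (le_of_eq hx34)).upd 3 1 1 (le_of_eq hx41)).upd 3 2 1 (le_of_eq hx43)) ![1,2,2,2] (by decide) (by decide) 0 (by decide))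
      · -- 34=(1,2)
        exact False.elim (cert_false T ((skipEmb 2).trans (Function.Embedding.refl _)) (by norm_num) (fun _ => hall _) (((((LB_zero T ((skipEmb 2).trans (Function.Embedding.refl _))).upd 1 3 2 (le_of_eq hx14)).upd 2 3 1 (le_of_eq hx34)).upd 3 1 1 (le_of_eq hx41)).upd 3 2 2 (le_of_eq hx43)) ![0,2,1,2] (by decide) (by decide) 1 (by decide))
      · -- 34=(2,1)
        exact False.elim (cert_false T ((skipEmb 2).trans (Function.Embedding.refl _)) (by norm_num) (fun _ => hall _) (((((LB_zero T ((skipEmb 2).trans (Function.Embedding.refl _))).upd 1 3 2 (le_of_eq hx14)).upd 2 3 2 (le_of_eq hx34)).upd 3 1 1 (le_of_eq hx41)).upd 3 2 1 (le_of_eq hx43)) ![0,1,1,1] (by decide) (by decide) 1 (by decide))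
      · -- 34=(1,3)
        exact False.elim (cert_false T ((skipEmb 2).trans (Function.Embedding.refl _)) (by norm_num) (fun _ => hall _) (((((LB_zero T ((skipEmb 2).trans (Function.Embedding.refl _))).upd 0 2 1 (le_of_eq hx03)).upd 2 0 2 (le_of_eq hx30)).upd 2 3 1 (le_of_eq hx34)).upd 3 2 3 (le_of_eq hx43)) ![1,0,2,2] (by decide) (by decide) 0 (by decide))
      · -- 34=(3,1)
        exact False.elim (cert_false T ((skipEmb 2).trans (Function.Embedding.refl _)) (by norm_num) (fun _ => hall _) (((((LB_zero T ((skipEmb 2).trans (Function.Embedding.refl _))).upd 1 3 2 (le_of_eq hx14)).upd 2 3 3 (le_of_eq hx34)).upd 3 1 1 (le_of_eq hx41)).upd 3 2 1 (le_of_eq hx43)) ![0,1,1,1] (by decide) (by decide) 1 (by decide))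
    · -- 24=(1,1)
      exact False.elim (cert_false T ((skipEmb 3).trans (Function.Embedding.refl _)) (by norm_num) (fun _ => hall _) (((((((LB_zero T ((skipEmb 3).trans (Function.Embedding.refl _))).upd 1 2 1 (le_of_eq hx12)).upd 1 3 2 (le_of_eq hx14)).upd 2 1 1 (le_of_eq hx21)).upd 2 3 1 (le_of_eq hx24)).upd 3 1 1 (le_of_eq hx41)).upd 3 2 1 (le_of_eq hx42)) ![0,1,1,1] (by decide) (by decide) 1 (by decide))
    · -- 24=(1,2)
      exact False.elim (cert_false T ((skipEmb 3).trans (Function.Embedding.refl _)) (by norm_num) (fun _ => hall _) (((((((LB_zero T ((skipEmb 3).trans (Function.Embedding.refl _))).upd 1 2 1 (le_of_eq hx12)).upd 1 3 2 (le_of_eq hx14)).upd 2 1 1 (le_of_eq hx21)).upd 2 3 1 (le_of_eq hx24)).upd 3 1 1 (le_of_eq hx41)).upd 3 2 2 (le_of_eq hx42)) ![0,1,1,1] (by decide) (by decide) 1 (by decide))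
    · -- 24=(2,1)
      exact False.elim (cert_false T ((skipEmb 3).trans (Function.Embedding.refl _)) (by norm_num) (fun _ => hall _) (((((((LB_zero T ((skipEmb 3).trans (Function.Embedding.refl _))).upd 1 2 1 (le_of_eq hx12)).upd 1 3 2 (le_of_eq hx14)).upd 2 1 1 (le_of_eq hx21)).upd 2 3 2 (le_of_eq hx24)).upd 3 1 1 (le_of_eq hx41)).upd 3 2 1 (le_of_eq hx42)) ![0,1,1,1] (by decide) (by decide) 1 (by decide))
    · -- 24=(1,3)
      exact False.elim (cert_false T ((skipEmb 3).trans (Function.Embedding.refl _)) (by norm_num) (fun _ => hall _) (((((((LB_zero T ((skipEmb 3).trans (Function.Embedding.refl _))).upd 1 2 1 (le_of_eq hx12)).upd 1 3 2 (le_of_eq hx14)).upd 2 1 1 (le_of_eq hx21)).upd 2 3 1 (le_of_eq hx24)).upd 3 1 1 (le_of_eq hx41)).upd 3 2 3 (le_of_eq hx42)) ![0,1,1,1] (by decide) (by decide) 1 (by decide))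
    · -- 24=(3,1)
      exact False.elim (cert_false T ((skipEmb 3).trans (Function.Embedding.refl _)) (by norm_num) (fun _ => hall _) (((((((LB_zero T ((skipEmb 3).trans (Function.Embedding.refl _))).upd 1 2 1 (le_of_eq hx12)).upd 1 3 2 (le_of_eq hx14)).upd 2 1 1 (le_of_eq hx21)).upd 2 3 3 (le_of_eq hx24)).upd 3 1 1 (le_of_eq hx41)).upd 3 2 1 (le_of_eq hx42)) ![0,1,1,1] (by decide) (by decide) 1 (by decide))
  · -- 14=(1,3)
    exact False.elim (cert_false T ((skipEmb 3).trans (Function.Embedding.refl _)) (by norm_num) (fun _ => hall _) (((((LB_zero T ((skipEmb 3).trans (Function.Embedding.refl _))).upd 1 2 1 (le_of_eq hx12)).upd 1 3 1 (le_of_eq hx14)).upd 2 1 1 (le_of_eq hx21)).upd 3 1 3 (le_of_eq hx41)) ![0,2,1,3] (by decide) (by decide) 1 (by decide))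
  · -- 14=(3,1)
    exact False.elim (cert_false T ((skipEmb 3).trans (Function.Embedding.refl _)) (by norm_num) (fun _ => hall _) (((((LB_zero T ((skipEmb 3).trans (Function.Embedding.refl _))).upd 1 2 1 (le_of_eq hx12)).upd 1 3 3 (le_of_eq hx14)).upd 2 1 1 (le_of_eq hx21)).upd 3 1 1 (le_of_eq hx41)) ![0,2,1,1] (by decide) (by decide) 1 (by decide))

theorem case263 (T : NumericalType 5) (hall : ∀ i, T.IsMinusTwo i) (d : SData T)
    (h01 : N T (Function.Embedding.refl _) 0 1 = 0) (h10 : N T (Function.Embedding.refl _) 1 0 = 0)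
    (h02 : N T (Function.Embedding.refl _) 0 2 = 1) (h20 : N T (Function.Embedding.refl _) 2 0 = 1)
    (h12 : N T (Function.Embedding.refl _) 1 2 = 1) (h21 : N T (Function.Embedding.refl _) 2 1 = 1)
    (h03 : N T (Function.Embedding.refl _) 0 3 = 1) (h30 : N T (Function.Embedding.refl _) 3 0 = 2)
    (h13 : N T (Function.Embedding.refl _) 1 3 = 0) (h31 : N T (Function.Embedding.refl _) 3 1 = 0)
    (h23 : N T (Function.Embedding.refl _) 2 3 = 0) (h32 : N T (Function.Embedding.refl _) 3 2 = 0) :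
    Goal T := by
  unfold Goal
  have hd := d
  obtain ⟨x01, x02, x03, x04, x10, x12, x13, x14, x20, x21, x23, x24, x30, x31, x32, x34, x40, x41, x42, x43, hx01, hx02, hx03, hx04, hx10, hx12, hx13, hx14, hx20, hx21, hx23, hx24, hx30, hx31, hx32, hx34, hx40, hx41, hx42, hx43, hw0, hm0, hw1, hm1, hw2, hm2, hw3, hm3, hw4, hm4, a00, a01, a02, a03, a04, a11, a10, a12, a13, a14, a22, a20, a21, a23, a24, a33, a30, a31, a32, a34, a44, a40, a41, a42, a43, wN01, wN02, wN12, wN03, wN13, wN23, wN04, wN14, wN24, wN34, e0, e1, e2, e3, e4, d01, d02, d12, d03, d13, d23, d04, d14, d24, d34⟩ := d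
  obtain rfl : x01 = 0 := hx01.trans h01
  obtain rfl : x10 = 0 := hx10.trans h10
  obtain rfl : x02 = 1 := hx02.trans h02
  obtain rfl : x20 = 1 := hx20.trans h20
  obtain rfl : x12 = 1 := hx12.trans h12
  obtain rfl : x21 = 1 := hx21.trans h21
  obtain rfl : x03 = 1 := hx03.trans h03
  obtain rfl : x30 = 2 := hx30.trans h30
  obtain rfl : x13 = 0 := hx13.trans h13
  obtain rfl : x31 = 0 := hx31.trans h31
  obtain rfl : x23 = 0 := hx23.trans h23
  obtain rfl : x32 = 0 := hx32.trans h32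
  rcases d04 with ⟨rfl, rfl⟩ | ⟨rfl, rfl⟩ | ⟨rfl, rfl⟩ | ⟨rfl, rfl⟩ | ⟨rfl, rfl⟩ | ⟨rfl, rfl⟩
  · -- 04=(0,0)
    exact case264 T hall hd hx01.symm hx10.symm hx02.symm hx20.symm hx12.symm hx21.symm hx03.symm hx30.symm hx13.symm hx31.symm hx23.symm hx32.symm hx04.symm hx40.symm
  · -- 04=(1,1)
    exact False.elim (cert_false T ((skipEmb 1).trans (Function.Embedding.refl _)) (by norm_num) (fun _ => hall _) (((((((LB_zero T ((skipEmb 1).trans (Function.Embedding.refl _))).upd 0 1 1 (le_of_eq hx02)).upd 0 2 1 (le_of_eq hx03)).upd 0 3 1 (le_of_eq hx04)).upd 1 0 1 (le_of_eq hx20)).upd 2 0 2 (le_of_eq hx30)).upd 3 0 1 (le_of_eq hx40)) ![2,1,2,1] (by decide) (by decide) 0 (by decide))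
  · -- 04=(1,2)
    exact False.elim (cert_false T ((skipEmb 2).trans (Function.Embedding.refl _)) (by norm_num) (fun _ => hall _) (((((LB_zero T ((skipEmb 2).trans (Function.Embedding.refl _))).upd 0 2 1 (le_of_eq hx03)).upd 0 3 1 (le_of_eq hx04)).upd 2 0 2 (le_of_eq hx30)).upd 3 0 2 (le_of_eq hx40)) ![1,0,1,1] (by decide) (by decide) 0 (by decide))
  · -- 04=(2,1)
    exact False.elim (cert_false T ((skipEmb 2).trans (Function.Embedding.refl _)) (by norm_num) (fun _ => hall _) (((((LB_zero T ((skipEmb 2).trans (Function.Embedding.refl _))).upd 0 2 1 (le_of_eq hx03)).upd 0 3 2 (le_of_eq hx04)).upd 2 0 2 (le_of_eq hx30)).upd 3 0 1 (le_of_eq hx40)) ![2,0,2,1] (by decide) (by decide) 0 (by decide))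
  · -- 04=(1,3)
    exact False.elim (cert_false T ((skipEmb 3).trans (Function.Embedding.refl _)) (by norm_num) (fun _ => hall _) (((((LB_zero T ((skipEmb 3).trans (Function.Embedding.refl _))).upd 0 2 1 (le_of_eq hx02)).upd 0 3 1 (le_of_eq hx04)).upd 2 0 1 (le_of_eq hx20)).upd 3 0 3 (le_of_eq hx40)) ![2,0,1,3] (by decide) (by decide) 0 (by decide))
  · -- 04=(3,1)
    exact False.elim (cert_false T ((skipEmb 3).trans (Function.Embedding.refl _)) (by norm_num) (fun _ => hall _) (((((LB_zero T ((skipEmb 3).trans (Function.Embedding.refl _))).upd 0 2 1 (le_of_eq hx02)).upd 0 3 3 (le_of_eq hx04)).upd 2 0 1 (le_of_eq hx20)).upd 3 0 1 (le_of_eq hx40)) ![2,0,1,1] (by decide) (by decide) 0 (by decide))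

theorem case262 (T : NumericalType 5) (hall : ∀ i, T.IsMinusTwo i) (d : SData T)
    (h01 : N T (Function.Embedding.refl _) 0 1 = 0) (h10 : N T (Function.Embedding.refl _) 1 0 = 0)
    (h02 : N T (Function.Embedding.refl _) 0 2 = 1) (h20 : N T (Function.Embedding.refl _) 2 0 = 1)
    (h12 : N T (Function.Embedding.refl _) 1 2 = 1) (h21 : N T (Function.Embedding.refl _) 2 1 = 1)
    (h03 : N T (Function.Embedding.refl _) 0 3 = 1) (h30 : N T (Function.Embedding.refl _) 3 0 = 2)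
    (h13 : N T (Function.Embedding.refl _) 1 3 = 0) (h31 : N T (Function.Embedding.refl _) 3 1 = 0) :
    Goal T := by
  unfold Goal
  have hd := d
  obtain ⟨x01, x02, x03, x04, x10, x12, x13, x14, x20, x21, x23, x24, x30, x31, x32, x34, x40, x41, x42, x43, hx01, hx02, hx03, hx04, hx10, hx12, hx13, hx14, hx20, hx21, hx23, hx24, hx30, hx31, hx32, hx34, hx40, hx41, hx42, hx43, hw0, hm0, hw1, hm1, hw2, hm2, hw3, hm3, hw4, hm4, a00, a01, a02, a03, a04, a11, a10, a12, a13, a14, a22, a20, a21, a23, a24, a33, a30, a31, a32, a34, a44, a40, a41, a42, a43, wN01, wN02, wN12, wN03, wN13, wN23, wN04, wN14, wN24, wN34, e0, e1, e2, e3, e4, d01, d02, d12, d03, d13, d23, d04, d14, d24, d34⟩ := d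
  obtain rfl : x01 = 0 := hx01.trans h01
  obtain rfl : x10 = 0 := hx10.trans h10
  obtain rfl : x02 = 1 := hx02.trans h02
  obtain rfl : x20 = 1 := hx20.trans h20
  obtain rfl : x12 = 1 := hx12.trans h12
  obtain rfl : x21 = 1 := hx21.trans h21
  obtain rfl : x03 = 1 := hx03.trans h03
  obtain rfl : x30 = 2 := hx30.trans h30
  obtain rfl : x13 = 0 := hx13.trans h13
  obtain rfl : x31 = 0 := hx31.trans h31
  rcases d23 with ⟨rfl, rfl⟩ | ⟨rfl, rfl⟩ | ⟨rfl, rfl⟩ | ⟨rfl, rfl⟩ | ⟨rfl, rfl⟩ | ⟨rfl, rfl⟩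
  · -- 23=(0,0)
    exact case263 T hall hd hx01.symm hx10.symm hx02.symm hx20.symm hx12.symm hx21.symm hx03.symm hx30.symm hx13.symm hx31.symm hx23.symm hx32.symm
  · -- 23=(1,1)
    exact False.elim (cert_false T ((skipEmb 4).trans (Function.Embedding.refl _)) (by norm_num) (fun _ => hall _) (((((((LB_zero T ((skipEmb 4).trans (Function.Embedding.refl _))).upd 0 2 1 (le_of_eq hx02)).upd 0 3 1 (le_of_eq hx03)).upd 2 0 1 (le_of_eq hx20)).upd 2 3 1 (le_of_eq hx23)).upd 3 0 2 (le_of_eq hx30)).upd 3 2 1 (le_of_eq hx32)) ![1,0,1,1] (by decide) (by decide) 0 (by decide))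
  · -- 23=(1,2)
    exact False.elim (cert_false T ((skipEmb 4).trans (Function.Embedding.refl _)) (by norm_num) (fun _ => hall _) (((((((LB_zero T ((skipEmb 4).trans (Function.Embedding.refl _))).upd 0 2 1 (le_of_eq hx02)).upd 0 3 1 (le_of_eq hx03)).upd 2 0 1 (le_of_eq hx20)).upd 2 3 1 (le_of_eq hx23)).upd 3 0 2 (le_of_eq hx30)).upd 3 2 2 (le_of_eq hx32)) ![1,0,1,1] (by decide) (by decide) 0 (by decide))
  · -- 23=(2,1)
    exact False.elim (cert_false T ((skipEmb 4).trans (Function.Embedding.refl _)) (by norm_num) (fun _ => hall _) (((((((LB_zero T ((skipEmb 4).trans (Function.Embedding.refl _))).upd 0 2 1 (le_of_eq hx02)).upd 0 3 1 (le_of_eq hx03)).upd 2 0 1 (le_of_eq hx20)).upd 2 3 2 (le_of_eq hx23)).upd 3 0 2 (le_of_eq hx30)).upd 3 2 1 (le_of_eq hx32)) ![1,0,1,1] (by decide) (by decide) 0 (by decide))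
  · -- 23=(1,3)
    exact False.elim (cert_false T ((skipEmb 4).trans (Function.Embedding.refl _)) (by norm_num) (fun _ => hall _) (((((((LB_zero T ((skipEmb 4).trans (Function.Embedding.refl _))).upd 0 2 1 (le_of_eq hx02)).upd 0 3 1 (le_of_eq hx03)).upd 2 0 1 (le_of_eq hx20)).upd 2 3 1 (le_of_eq hx23)).upd 3 0 2 (le_of_eq hx30)).upd 3 2 3 (le_of_eq hx32)) ![1,0,1,1] (by decide) (by decide) 0 (by decide))
  · -- 23=(3,1)
    exact False.elim (cert_false T ((skipEmb 4).trans (Function.Embedding.refl _)) (by norm_num) (fun _ => hall _) (((((((LB_zero T ((skipEmb 4).trans (Function.Embedding.refl _))).upd 0 2 1 (le_of_eq hx02)).upd 0 3 1 (le_of_eq hx03)).upd 2 0 1 (le_of_eq hx20)).upd 2 3 3 (le_of_eq hx23)).upd 3 0 2 (le_of_eq hx30)).upd 3 2 1 (le_of_eq hx32)) ![1,0,1,1] (by decide) (by decide) 0 (by decide))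

theorem case271 (T : NumericalType 5) (hall : ∀ i, T.IsMinusTwo i) (d : SData T)
    (h01 : N T (Function.Embedding.refl _) 0 1 = 0) (h10 : N T (Function.Embedding.refl _) 1 0 = 0)
    (h02 : N T (Function.Embedding.refl _) 0 2 = 1) (h20 : N T (Function.Embedding.refl _) 2 0 = 1)
    (h12 : N T (Function.Embedding.refl _) 1 2 = 1) (h21 : N T (Function.Embedding.refl _) 2 1 = 2)
    (h03 : N T (Function.Embedding.refl _) 0 3 = 0) (h30 : N T (Function.Embedding.refl _) 3 0 = 0)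
    (h13 : N T (Function.Embedding.refl _) 1 3 = 0) (h31 : N T (Function.Embedding.refl _) 3 1 = 0) :
    Goal T := by
  unfold Goal
  have hd := d
  obtain ⟨x01, x02, x03, x04, x10, x12, x13, x14, x20, x21, x23, x24, x30, x31, x32, x34, x40, x41, x42, x43, hx01, hx02, hx03, hx04, hx10, hx12, hx13, hx14, hx20, hx21, hx23, hx24, hx30, hx31, hx32, hx34, hx40, hx41, hx42, hx43, hw0, hm0, hw1, hm1, hw2, hm2, hw3, hm3, hw4, hm4, a00, a01, a02, a03, a04, a11, a10, a12, a13, a14, a22, a20, a21, a23, a24, a33, a30, a31, a32, a34, a44, a40, a41, a42, a43, wN01, wN02, wN12, wN03, wN13, wN23, wN04, wN14, wN24, wN34, e0, e1, e2, e3, e4, d01, d02, d12, d03, d13, d23, d04, d14, d24, d34⟩ := d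
  obtain rfl : x01 = 0 := hx01.trans h01
  obtain rfl : x10 = 0 := hx10.trans h10
  obtain rfl : x02 = 1 := hx02.trans h02
  obtain rfl : x20 = 1 := hx20.trans h20
  obtain rfl : x12 = 1 := hx12.trans h12
  obtain rfl : x21 = 2 := hx21.trans h21
  obtain rfl : x03 = 0 := hx03.trans h03
  obtain rfl : x30 = 0 := hx30.trans h30
  obtain rfl : x13 = 0 := hx13.trans h13
  obtain rfl : x31 = 0 := hx31.trans h31
  rcases d23 with ⟨rfl, rfl⟩ | ⟨rfl, rfl⟩ | ⟨rfl, rfl⟩ | ⟨rfl, rfl⟩ | ⟨rfl, rfl⟩ | ⟨rfl, rfl⟩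
  · -- 23=(0,0)
    rcases d04 with ⟨rfl, rfl⟩ | ⟨rfl, rfl⟩ | ⟨rfl, rfl⟩ | ⟨rfl, rfl⟩ | ⟨rfl, rfl⟩ | ⟨rfl, rfl⟩
    · -- 04=(0,0)
      rcases d14 with ⟨rfl, rfl⟩ | ⟨rfl, rfl⟩ | ⟨rfl, rfl⟩ | ⟨rfl, rfl⟩ | ⟨rfl, rfl⟩ | ⟨rfl, rfl⟩
      · -- 14=(0,0)
        rcases d24 with ⟨rfl, rfl⟩ | ⟨rfl, rfl⟩ | ⟨rfl, rfl⟩ | ⟨rfl, rfl⟩ | ⟨rfl, rfl⟩ | ⟨rfl, rfl⟩
        · -- 24=(0,0)
          rcases d34 with ⟨rfl, rfl⟩ | ⟨rfl, rfl⟩ | ⟨rfl, rfl⟩ | ⟨rfl, rfl⟩ | ⟨rfl, rfl⟩ | ⟨rfl, rfl⟩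
          · -- 34=(0,0)
            exfalso; omega
          · -- 34=(1,1)
            exfalso; omega
          · -- 34=(1,2)
            exfalso; omega
          · -- 34=(2,1)
            exfalso; omega
          · -- 34=(1,3)
            exfalso; omega
          · -- 34=(3,1)
            exfalso; omega
        · -- 24=(1,1)
          exact False.elim (cert_false T ((skipEmb 3).trans (Function.Embedding.refl _)) (by norm_num) (fun _ => hall _) (((((((LB_zero T ((skipEmb 3).trans (Function.Embedding.refl _))).upd 0 2 1 (le_of_eq hx02)).upd 1 2 1 (le_of_eq hx12)).upd 2 0 1 (le_of_eq hx20)).upd 2 1 2 (le_of_eq hx21)).upd 2 3 1 (le_of_eq hx24)).upd 3 2 1 (le_of_eq hx42)) ![1,1,2,1] (by decide) (by decide) 0 (by decide))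
        · -- 24=(1,2)
          exact False.elim (cert_false T ((skipEmb 3).trans (Function.Embedding.refl _)) (by norm_num) (fun _ => hall _) (((((LB_zero T ((skipEmb 3).trans (Function.Embedding.refl _))).upd 1 2 1 (le_of_eq hx12)).upd 2 1 2 (le_of_eq hx21)).upd 2 3 1 (le_of_eq hx24)).upd 3 2 2 (le_of_eq hx42)) ![0,1,2,2] (by decide) (by decide) 1 (by decide))
        · -- 24=(2,1)
          exact False.elim (cert_false T ((skipEmb 3).trans (Function.Embedding.refl _)) (by norm_num) (fun _ => hall _) (((((LB_zero T ((skipEmb 3).trans (Function.Embedding.refl _))).upd 1 2 1 (le_of_eq hx12)).upd 2 1 2 (le_of_eq hx21)).upd 2 3 2 (le_of_eq hx24)).upd 3 2 1 (le_of_eq hx42)) ![0,1,2,1] (by decide) (by decide) 1 (by decide))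
        · -- 24=(1,3)
          exact False.elim (cert_false T ((skipEmb 3).trans (Function.Embedding.refl _)) (by norm_num) (fun _ => hall _) (((((LB_zero T ((skipEmb 3).trans (Function.Embedding.refl _))).upd 1 2 1 (le_of_eq hx12)).upd 2 1 2 (le_of_eq hx21)).upd 2 3 1 (le_of_eq hx24)).upd 3 2 3 (le_of_eq hx42)) ![0,1,2,2] (by decide) (by decide) 1 (by decide))
        · -- 24=(3,1)
          exact False.elim (cert_false T ((skipEmb 3).trans (Function.Embedding.refl _)) (by norm_num) (fun _ => hall _) (((((LB_zero T ((skipEmb 3).trans (Function.Embedding.refl _))).upd 1 2 1 (le_of_eq hx12)).upd 2 1 2 (le_of_eq hx21)).upd 2 3 3 (le_of_eq hx24)).upd 3 2 1 (le_of_eq hx42)) ![0,1,2,1] (by decide) (by decide) 1 (by decide))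
      · -- 14=(1,1)
        rcases d24 with ⟨rfl, rfl⟩ | ⟨rfl, rfl⟩ | ⟨rfl, rfl⟩ | ⟨rfl, rfl⟩ | ⟨rfl, rfl⟩ | ⟨rfl, rfl⟩
        · -- 24=(0,0)
          rcases d34 with ⟨rfl, rfl⟩ | ⟨rfl, rfl⟩ | ⟨rfl, rfl⟩ | ⟨rfl, rfl⟩ | ⟨rfl, rfl⟩ | ⟨rfl, rfl⟩
          · -- 34=(0,0)
            exfalso; omega
          · -- 34=(1,1)
            refine ⟨(⟨![3, 4, 1, 2, 0], ![4, 2, 3, 0, 1], by decide, by decide⟩ : Equiv.Perm (Fin 5)), T.m 3, T.w 2, Or.inr (Or.inr (Or.inl ?_))⟩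
            show T.m 3 = T.m 3 ∧ T.m 4 = 2 * T.m 3 ∧ T.m 1 = 3 * T.m 3 ∧ T.m 2 = 4 * T.m 3 ∧ T.m 0 = 2 * T.m 3 ∧ T.w 3 = 2 * T.w 2 ∧ T.w 4 = 2 * T.w 2 ∧ T.w 1 = 2 * T.w 2 ∧ T.w 2 = T.w 2 ∧ T.w 0 = T.w 2 ∧ T.a 3 3 = -4 * T.w 2 ∧ T.a 3 4 = 2 * T.w 2 ∧ T.a 3 1 = 0 ∧ T.a 3 2 = 0 ∧ T.a 3 0 = 0 ∧ T.a 4 4 = -4 * T.w 2 ∧ T.a 4 1 = 2 * T.w 2 ∧ T.a 4 2 = 0 ∧ T.a 4 0 = 0 ∧ T.a 1 1 = -4 * T.w 2 ∧ T.a 1 2 = 2 * T.w 2 ∧ T.a 1 0 = 0 ∧ T.a 2 2 = -2 * T.w 2 ∧ T.a 2 0 = T.w 2 ∧ T.a 0 0 = -2 * T.w 2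
            refine ⟨?_, ?_, ?_, ?_, ?_, ?_, ?_, ?_, ?_, ?_, ?_, ?_, ?_, ?_, ?_, ?_, ?_, ?_, ?_, ?_, ?_, ?_, ?_, ?_, ?_⟩ <;> omega
          · -- 34=(1,2)
            exact False.elim (cert_false T ((skipEmb 0).trans (Function.Embedding.refl _)) (by norm_num) (fun _ => hall _) (((((((LB_zero T ((skipEmb 0).trans (Function.Embedding.refl _))).upd 0 1 1 (le_of_eq hx12)).upd 0 3 1 (le_of_eq hx14)).upd 1 0 2 (le_of_eq hx21)).upd 2 3 1 (le_of_eq hx34)).upd 3 0 1 (le_of_eq hx41)).upd 3 2 2 (le_of_eq hx43)) ![2,2,1,2] (by decide) (by decide) 0 (by decide))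
          · -- 34=(2,1)
            exact False.elim (cert_false T ((skipEmb 0).trans (Function.Embedding.refl _)) (by norm_num) (fun _ => hall _) (((((((LB_zero T ((skipEmb 0).trans (Function.Embedding.refl _))).upd 0 1 1 (le_of_eq hx12)).upd 0 3 1 (le_of_eq hx14)).upd 1 0 2 (le_of_eq hx21)).upd 2 3 2 (le_of_eq hx34)).upd 3 0 1 (le_of_eq hx41)).upd 3 2 1 (le_of_eq hx43)) ![1,1,1,1] (by decide) (by decide) 0 (by decide))
          · -- 34=(1,3)
            exact False.elim (cert_false T ((skipEmb 2).trans (Function.Embedding.refl _)) (by norm_num) (fun _ => hall _) (((((LB_zero T ((skipEmb 2).trans (Function.Embedding.refl _))).upd 1 3 1 (le_of_eq hx14)).upd 2 3 1 (le_of_eq hx34)).upd 3 1 1 (le_of_eq hx41)).upd 3 2 3 (le_of_eq hx43)) ![0,1,1,2] (by decide) (by decide) 1 (by decide))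
          · -- 34=(3,1)
            exact False.elim (cert_false T ((skipEmb 2).trans (Function.Embedding.refl _)) (by norm_num) (fun _ => hall _) (((((LB_zero T ((skipEmb 2).trans (Function.Embedding.refl _))).upd 1 3 1 (le_of_eq hx14)).upd 2 3 3 (le_of_eq hx34)).upd 3 1 1 (le_of_eq hx41)).upd 3 2 1 (le_of_eq hx43)) ![0,1,3,2] (by decide) (by decide) 1 (by decide))
        · -- 24=(1,1)
          exact False.elim (cert_false T ((skipEmb 3).trans (Function.Embedding.refl _)) (by norm_num) (fun _ => hall _) (((((((LB_zero T ((skipEmb 3).trans (Function.Embedding.refl _))).upd 1 2 1 (le_of_eq hx12)).upd 1 3 1 (le_of_eq hx14)).upd 2 1 2 (le_of_eq hx21)).upd 2 3 1 (le_of_eq hx24)).upd 3 1 1 (le_of_eq hx41)).upd 3 2 1 (le_of_eq hx42)) ![0,1,1,1] (by decide) (by decide) 1 (by decide))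
        · -- 24=(1,2)
          exact False.elim (cert_false T ((skipEmb 3).trans (Function.Embedding.refl _)) (by norm_num) (fun _ => hall _) (((((((LB_zero T ((skipEmb 3).trans (Function.Embedding.refl _))).upd 1 2 1 (le_of_eq hx12)).upd 1 3 1 (le_of_eq hx14)).upd 2 1 2 (le_of_eq hx21)).upd 2 3 1 (le_of_eq hx24)).upd 3 1 1 (le_of_eq hx41)).upd 3 2 2 (le_of_eq hx42)) ![0,1,1,1] (by decide) (by decide) 1 (by decide))
        · -- 24=(2,1)
          exact False.elim (cert_false T ((skipEmb 3).trans (Function.Embedding.refl _)) (by norm_num) (fun _ => hall _) (((((((LB_zero T ((skipEmb 3).trans (Function.Embedding.refl _))).upd 1 2 1 (le_of_eq hx12)).upd 1 3 1 (le_of_eq hx14)).upd 2 1 2 (le_of_eq hx21)).upd 2 3 2 (le_of_eq hx24)).upd 3 1 1 (le_of_eq hx41)).upd 3 2 1 (le_of_eq hx42)) ![0,1,1,1] (by decide) (by decide) 1 (by decide))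
        · -- 24=(1,3)
          exact False.elim (cert_false T ((skipEmb 3).trans (Function.Embedding.refl _)) (by norm_num) (fun _ => hall _) (((((((LB_zero T ((skipEmb 3).trans (Function.Embedding.refl _))).upd 1 2 1 (le_of_eq hx12)).upd 1 3 1 (le_of_eq hx14)).upd 2 1 2 (le_of_eq hx21)).upd 2 3 1 (le_of_eq hx24)).upd 3 1 1 (le_of_eq hx41)).upd 3 2 3 (le_of_eq hx42)) ![0,1,1,1] (by decide) (by decide) 1 (by decide))
        · -- 24=(3,1)
          exact False.elim (cert_false T ((skipEmb 3).trans (Function.Embedding.refl _)) (by norm_num) (fun _ => hall _) (((((((LB_zero T ((skipEmb 3).trans (Function.Embedding.refl _))).upd 1 2 1 (le_of_eq hx12)).upd 1 3 1 (le_of_eq hx14)).upd 2 1 2 (le_of_eq hx21)).upd 2 3 3 (le_of_eq hx24)).upd 3 1 1 (le_of_eq hx41)).upd 3 2 1 (le_of_eq hx42)) ![0,1,1,1] (by decide) (by decide) 1 (by decide))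
      · -- 14=(1,2)
        exact False.elim (cert_false T ((skipEmb 3).trans (Function.Embedding.refl _)) (by norm_num) (fun _ => hall _) (((((LB_zero T ((skipEmb 3).trans (Function.Embedding.refl _))).upd 1 2 1 (le_of_eq hx12)).upd 1 3 1 (le_of_eq hx14)).upd 2 1 2 (le_of_eq hx21)).upd 3 1 2 (le_of_eq hx41)) ![0,1,1,1] (by decide) (by decide) 1 (by decide))
      · -- 14=(2,1)
        exact False.elim (cert_false T ((skipEmb 3).trans (Function.Embedding.refl _)) (by norm_num) (fun _ => hall _) (((((LB_zero T ((skipEmb 3).trans (Function.Embedding.refl _))).upd 1 2 1 (le_of_eq hx12)).upd 1 3 2 (le_of_eq hx14)).upd 2 1 2 (le_of_eq hx21)).upd 3 1 1 (le_of_eq hx41)) ![0,2,2,1] (by decide) (by decide) 1 (by decide))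
      · -- 14=(1,3)
        exact False.elim (cert_false T ((skipEmb 3).trans (Function.Embedding.refl _)) (by norm_num) (fun _ => hall _) (((((LB_zero T ((skipEmb 3).trans (Function.Embedding.refl _))).upd 1 2 1 (le_of_eq hx12)).upd 1 3 1 (le_of_eq hx14)).upd 2 1 2 (le_of_eq hx21)).upd 3 1 3 (le_of_eq hx41)) ![0,1,1,1] (by decide) (by decide) 1 (by decide))
      · -- 14=(3,1)
        exact False.elim (cert_false T ((skipEmb 3).trans (Function.Embedding.refl _)) (by norm_num) (fun _ => hall _) (((((LB_zero T ((skipEmb 3).trans (Function.Embedding.refl _))).upd 1 2 1 (le_of_eq hx12)).upd 1 3 3 (le_of_eq hx14)).upd 2 1 2 (le_of_eq hx21)).upd 3 1 1 (le_of_eq hx41)) ![0,2,1,1] (by decide) (by decide) 1 (by decide))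
    · -- 04=(1,1)
      rcases d14 with ⟨rfl, rfl⟩ | ⟨rfl, rfl⟩ | ⟨rfl, rfl⟩ | ⟨rfl, rfl⟩ | ⟨rfl, rfl⟩ | ⟨rfl, rfl⟩
      · -- 14=(0,0)
        rcases d24 with ⟨rfl, rfl⟩ | ⟨rfl, rfl⟩ | ⟨rfl, rfl⟩ | ⟨rfl, rfl⟩ | ⟨rfl, rfl⟩ | ⟨rfl, rfl⟩
        · -- 24=(0,0)
          rcases d34 with ⟨rfl, rfl⟩ | ⟨rfl, rfl⟩ | ⟨rfl, rfl⟩ | ⟨rfl, rfl⟩ | ⟨rfl, rfl⟩ | ⟨rfl, rfl⟩
          · -- 34=(0,0)
            exfalso; omega
          · -- 34=(1,1)
            exfalso; omega
          · -- 34=(1,2)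
            refine ⟨(⟨![1, 2, 0, 4, 3], ![2, 0, 1, 4, 3], by decide, by decide⟩ : Equiv.Perm (Fin 5)), T.m 1, T.w 2, Or.inr (Or.inr (Or.inr (Or.inr (Or.inr (Or.inl ?_)))))⟩
            show T.m 1 = T.m 1 ∧ T.m 2 = 2 * T.m 1 ∧ T.m 0 = 2 * T.m 1 ∧ T.m 4 = 2 * T.m 1 ∧ T.m 3 = T.m 1 ∧ T.w 1 = 2 * T.w 2 ∧ T.w 2 = T.w 2 ∧ T.w 0 = T.w 2 ∧ T.w 4 = T.w 2 ∧ T.w 3 = 2 * T.w 2 ∧ T.a 1 1 = -4 * T.w 2 ∧ T.a 1 2 = 2 * T.w 2 ∧ T.a 1 0 = 0 ∧ T.a 1 4 = 0 ∧ T.a 1 3 = 0 ∧ T.a 2 2 = -2 * T.w 2 ∧ T.a 2 0 = T.w 2 ∧ T.a 2 4 = 0 ∧ T.a 2 3 = 0 ∧ T.a 0 0 = -2 * T.w 2 ∧ T.a 0 4 = T.w 2 ∧ T.a 0 3 = 0 ∧ T.a 4 4 = -2 * T.w 2 ∧ T.a 4 3 = 2 * T.w 2 ∧ T.a 3 3 = -4 * T.w 2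
            refine ⟨?_, ?_, ?_, ?_, ?_, ?_, ?_, ?_, ?_, ?_, ?_, ?_, ?_, ?_, ?_, ?_, ?_, ?_, ?_, ?_, ?_, ?_, ?_, ?_, ?_⟩ <;> omega
          · -- 34=(2,1)
            refine ⟨(⟨![3, 4, 0, 2, 1], ![2, 4, 3, 0, 1], by decide, by decide⟩ : Equiv.Perm (Fin 5)), T.m 1, T.w 3, Or.inr (Or.inr (Or.inr (Or.inl ?_)))⟩
            show T.m 3 = 2 * T.m 1 ∧ T.m 4 = 2 * T.m 1 ∧ T.m 0 = 2 * T.m 1 ∧ T.m 2 = 2 * T.m 1 ∧ T.m 1 = T.m 1 ∧ T.w 3 = T.w 3 ∧ T.w 4 = 2 * T.w 3 ∧ T.w 0 = 2 * T.w 3 ∧ T.w 2 = 2 * T.w 3 ∧ T.w 1 = 4 * T.w 3 ∧ T.a 3 3 = -2 * T.w 3 ∧ T.a 3 4 = 2 * T.w 3 ∧ T.a 3 0 = 0 ∧ T.a 3 2 = 0 ∧ T.a 3 1 = 0 ∧ T.a 4 4 = -4 * T.w 3 ∧ T.a 4 0 = 2 * T.w 3 ∧ T.a 4 2 = 0 ∧ T.a 4 1 = 0 ∧ T.a 0 0 = -4 * T.w 3 ∧ T.a 0 2 = 2 * T.w 3 ∧ T.a 0 1 = 0 ∧ T.a 2 2 = -4 * T.w 3 ∧ T.a 2 1 = 4 * T.w 3 ∧ T.a 1 1 = -8 * T.w 3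
            refine ⟨?_, ?_, ?_, ?_, ?_, ?_, ?_, ?_, ?_, ?_, ?_, ?_, ?_, ?_, ?_, ?_, ?_, ?_, ?_, ?_, ?_, ?_, ?_, ?_, ?_⟩ <;> omega
          · -- 34=(1,3)
            exact False.elim (cert_false T ((skipEmb 2).trans (Function.Embedding.refl _)) (by norm_num) (fun _ => hall _) (((((LB_zero T ((skipEmb 2).trans (Function.Embedding.refl _))).upd 0 3 1 (le_of_eq hx04)).upd 2 3 1 (le_of_eq hx34)).upd 3 0 1 (le_of_eq hx40)).upd 3 2 3 (le_of_eq hx43)) ![1,0,1,2] (by decide) (by decide) 0 (by decide))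
          · -- 34=(3,1)
            exact False.elim (cert_false T ((skipEmb 2).trans (Function.Embedding.refl _)) (by norm_num) (fun _ => hall _) (((((LB_zero T ((skipEmb 2).trans (Function.Embedding.refl _))).upd 0 3 1 (le_of_eq hx04)).upd 2 3 3 (le_of_eq hx34)).upd 3 0 1 (le_of_eq hx40)).upd 3 2 1 (le_of_eq hx43)) ![1,0,3,2] (by decide) (by decide) 0 (by decide))
        · -- 24=(1,1)
          exact False.elim (cert_false T ((skipEmb 3).trans (Function.Embedding.refl _)) (by norm_num) (fun _ => hall _) (((((((LB_zero T ((skipEmb 3).trans (Function.Embedding.refl _))).upd 0 2 1 (le_of_eq hx02)).upd 0 3 1 (le_of_eq hx04)).upd 2 0 1 (le_of_eq hx20)).upd 2 3 1 (le_of_eq hx24)).upd 3 0 1 (le_of_eq hx40)).upd 3 2 1 (le_of_eq hx42)) ![1,0,1,1] (by decide) (by decide) 0 (by decide))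
        · -- 24=(1,2)
          exact False.elim (cert_false T ((skipEmb 3).trans (Function.Embedding.refl _)) (by norm_num) (fun _ => hall _) (((((((LB_zero T ((skipEmb 3).trans (Function.Embedding.refl _))).upd 0 2 1 (le_of_eq hx02)).upd 0 3 1 (le_of_eq hx04)).upd 2 0 1 (le_of_eq hx20)).upd 2 3 1 (le_of_eq hx24)).upd 3 0 1 (le_of_eq hx40)).upd 3 2 2 (le_of_eq hx42)) ![1,0,1,1] (by decide) (by decide) 0 (by decide))
        · -- 24=(2,1)
          exact False.elim (cert_false T ((skipEmb 3).trans (Function.Embedding.refl _)) (by norm_num) (fun _ => hall _) (((((((LB_zero T ((skipEmb 3).trans (Function.Embedding.refl _))).upd 0 2 1 (le_of_eq hx02)).upd 0 3 1 (le_of_eq hx04)).upd 2 0 1 (le_of_eq hx20)).upd 2 3 2 (le_of_eq hx24)).upd 3 0 1 (le_of_eq hx40)).upd 3 2 1 (le_of_eq hx42)) ![1,0,1,1] (by decide) (by decide) 0 (by decide))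
        · -- 24=(1,3)
          exact False.elim (cert_false T ((skipEmb 3).trans (Function.Embedding.refl _)) (by norm_num) (fun _ => hall _) (((((((LB_zero T ((skipEmb 3).trans (Function.Embedding.refl _))).upd 0 2 1 (le_of_eq hx02)).upd 0 3 1 (le_of_eq hx04)).upd 2 0 1 (le_of_eq hx20)).upd 2 3 1 (le_of_eq hx24)).upd 3 0 1 (le_of_eq hx40)).upd 3 2 3 (le_of_eq hx42)) ![1,0,1,1] (by decide) (by decide) 0 (by decide))
        · -- 24=(3,1)
          exact False.elim (cert_false T ((skipEmb 3).trans (Function.Embedding.refl _)) (by norm_num) (fun _ => hall _) (((((((LB_zero T ((skipEmb 3).trans (Function.Embedding.refl _))).upd 0 2 1 (le_of_eq hx02)).upd 0 3 1 (le_of_eq hx04)).upd 2 0 1 (le_of_eq hx20)).upd 2 3 3 (le_of_eq hx24)).upd 3 0 1 (le_of_eq hx40)).upd 3 2 1 (le_of_eq hx42)) ![1,0,1,1] (by decide) (by decide) 0 (by decide))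
      · -- 14=(1,1)
        exact False.elim (cert_false T ((skipEmb 3).trans (Function.Embedding.refl _)) (by norm_num) (fun _ => hall _) (((((((((LB_zero T ((skipEmb 3).trans (Function.Embedding.refl _))).upd 0 2 1 (le_of_eq hx02)).upd 0 3 1 (le_of_eq hx04)).upd 1 2 1 (le_of_eq hx12)).upd 1 3 1 (le_of_eq hx14)).upd 2 0 1 (le_of_eq hx20)).upd 2 1 2 (le_of_eq hx21)).upd 3 0 1 (le_of_eq hx40)).upd 3 1 1 (le_of_eq hx41)) ![1,1,1,1] (by decide) (by decide) 0 (by decide))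
      · -- 14=(1,2)
        exact False.elim (cert_false T ((skipEmb 3).trans (Function.Embedding.refl _)) (by norm_num) (fun _ => hall _) (((((LB_zero T ((skipEmb 3).trans (Function.Embedding.refl _))).upd 1 2 1 (le_of_eq hx12)).upd 1 3 1 (le_of_eq hx14)).upd 2 1 2 (le_of_eq hx21)).upd 3 1 2 (le_of_eq hx41)) ![0,1,1,1] (by decide) (by decide) 1 (by decide))
      · -- 14=(2,1)
        exact False.elim (cert_false T ((skipEmb 3).trans (Function.Embedding.refl _)) (by norm_num) (fun _ => hall _) (((((((((LB_zero T ((skipEmb 3).trans (Function.Embedding.refl _))).upd 0 2 1 (le_of_eq hx02)).upd 0 3 1 (le_of_eq hx04)).upd 1 2 1 (le_of_eq hx12)).upd 1 3 2 (le_of_eq hx14)).upd 2 0 1 (le_of_eq hx20)).upd 2 1 2 (le_of_eq hx21)).upd 3 0 1 (le_of_eq hx40)).upd 3 1 1 (le_of_eq hx41)) ![1,1,1,1] (by decide) (by decide) 0 (by decide))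
      · -- 14=(1,3)
        exact False.elim (cert_false T ((skipEmb 3).trans (Function.Embedding.refl _)) (by norm_num) (fun _ => hall _) (((((LB_zero T ((skipEmb 3).trans (Function.Embedding.refl _))).upd 1 2 1 (le_of_eq hx12)).upd 1 3 1 (le_of_eq hx14)).upd 2 1 2 (le_of_eq hx21)).upd 3 1 3 (le_of_eq hx41)) ![0,1,1,1] (by decide) (by decide) 1 (by decide))
      · -- 14=(3,1)
        exact False.elim (cert_false T ((skipEmb 3).trans (Function.Embedding.refl _)) (by norm_num) (fun _ => hall _) (((((((((LB_zero T ((skipEmb 3).trans (Function.Embedding.refl _))).upd 0 2 1 (le_of_eq hx02)).upd 0 3 1 (le_of_eq hx04)).upd 1 2 1 (le_of_eq hx12)).upd 1 3 3 (le_of_eq hx14)).upd 2 0 1 (le_of_eq hx20)).upd 2 1 2 (le_of_eq hx21)).upd 3 0 1 (le_of_eq hx40)).upd 3 1 1 (le_of_eq hx41)) ![1,1,1,1] (by decide) (by decide) 0 (by decide))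
    · -- 04=(1,2)
      exact False.elim (cert_false T ((skipEmb 3).trans (Function.Embedding.refl _)) (by norm_num) (fun _ => hall _) (((((((LB_zero T ((skipEmb 3).trans (Function.Embedding.refl _))).upd 0 2 1 (le_of_eq hx02)).upd 0 3 1 (le_of_eq hx04)).upd 1 2 1 (le_of_eq hx12)).upd 2 0 1 (le_of_eq hx20)).upd 2 1 2 (le_of_eq hx21)).upd 3 0 2 (le_of_eq hx40)) ![2,1,2,2] (by decide) (by decide) 0 (by decide))
    · -- 04=(2,1)
      exact False.elim (cert_false T ((skipEmb 3).trans (Function.Embedding.refl _)) (by norm_num) (fun _ => hall _) (((((((LB_zero T ((skipEmb 3).trans (Function.Embedding.refl _))).upd 0 2 1 (le_of_eq hx02)).upd 0 3 2 (le_of_eq hx04)).upd 1 2 1 (le_of_eq hx12)).upd 2 0 1 (le_of_eq hx20)).upd 2 1 2 (le_of_eq hx21)).upd 3 0 1 (le_of_eq hx40)) ![2,1,2,1] (by decide) (by decide) 0 (by decide))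
    · -- 04=(1,3)
      exact False.elim (cert_false T ((skipEmb 3).trans (Function.Embedding.refl _)) (by norm_num) (fun _ => hall _) (((((((LB_zero T ((skipEmb 3).trans (Function.Embedding.refl _))).upd 0 2 1 (le_of_eq hx02)).upd 0 3 1 (le_of_eq hx04)).upd 1 2 1 (le_of_eq hx12)).upd 2 0 1 (le_of_eq hx20)).upd 2 1 2 (le_of_eq hx21)).upd 3 0 3 (le_of_eq hx40)) ![2,1,2,2] (by decide) (by decide) 0 (by decide))
    · -- 04=(3,1)
      exact False.elim (cert_false T ((skipEmb 3).trans (Function.Embedding.refl _)) (by norm_num) (fun _ => hall _) (((((LB_zero T ((skipEmb 3).trans (Function.Embedding.refl _))).upd 0 2 1 (le_of_eq hx02)).upd 0 3 3 (le_of_eq hx04)).upd 2 0 1 (le_of_eq hx20)).upd 3 0 1 (le_of_eq hx40)) ![2,0,1,1] (by decide) (by decide) 0 (by decide))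
  · -- 23=(1,1)
    exact False.elim (cert_false T ((skipEmb 4).trans (Function.Embedding.refl _)) (by norm_num) (fun _ => hall _) (((((((LB_zero T ((skipEmb 4).trans (Function.Embedding.refl _))).upd 0 2 1 (le_of_eq hx02)).upd 1 2 1 (le_of_eq hx12)).upd 2 0 1 (le_of_eq hx20)).upd 2 1 2 (le_of_eq hx21)).upd 2 3 1 (le_of_eq hx23)).upd 3 2 1 (le_of_eq hx32)) ![1,1,2,1] (by decide) (by decide) 0 (by decide))
  · -- 23=(1,2)
    exact False.elim (cert_false T ((skipEmb 4).trans (Function.Embedding.refl _)) (by norm_num) (fun _ => hall _) (((((LB_zero T ((skipEmb 4).trans (Function.Embedding.refl _))).upd 1 2 1 (le_of_eq hx12)).upd 2 1 2 (le_of_eq hx21)).upd 2 3 1 (le_of_eq hx23)).upd 3 2 2 (le_of_eq hx32)) ![0,1,2,2] (by decide) (by decide) 1 (by decide))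
  · -- 23=(2,1)
    exact False.elim (cert_false T ((skipEmb 4).trans (Function.Embedding.refl _)) (by norm_num) (fun _ => hall _) (((((LB_zero T ((skipEmb 4).trans (Function.Embedding.refl _))).upd 1 2 1 (le_of_eq hx12)).upd 2 1 2 (le_of_eq hx21)).upd 2 3 2 (le_of_eq hx23)).upd 3 2 1 (le_of_eq hx32)) ![0,1,2,1] (by decide) (by decide) 1 (by decide))
  · -- 23=(1,3)
    exact False.elim (cert_false T ((skipEmb 4).trans (Function.Embedding.refl _)) (by norm_num) (fun _ => hall _) (((((LB_zero T ((skipEmb 4).trans (Function.Embedding.refl _))).upd 1 2 1 (le_of_eq hx12)).upd 2 1 2 (le_of_eq hx21)).upd 2 3 1 (le_of_eq hx23)).upd 3 2 3 (le_of_eq hx32)) ![0,1,2,2] (by decide) (by decide) 1 (by decide))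
  · -- 23=(3,1)
    exact False.elim (cert_false T ((skipEmb 4).trans (Function.Embedding.refl _)) (by norm_num) (fun _ => hall _) (((((LB_zero T ((skipEmb 4).trans (Function.Embedding.refl _))).upd 1 2 1 (le_of_eq hx12)).upd 2 1 2 (le_of_eq hx21)).upd 2 3 3 (le_of_eq hx23)).upd 3 2 1 (le_of_eq hx32)) ![0,1,2,1] (by decide) (by decide) 1 (by decide))

theorem case355 (T : NumericalType 5) (hall : ∀ i, T.IsMinusTwo i) (d : SData T)
    (h01 : N T (Function.Embedding.refl _) 0 1 = 1) (h10 : N T (Function.Embedding.refl _) 1 0 = 1)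
    (h02 : N T (Function.Embedding.refl _) 0 2 = 0) (h20 : N T (Function.Embedding.refl _) 2 0 = 0)
    (h12 : N T (Function.Embedding.refl _) 1 2 = 0) (h21 : N T (Function.Embedding.refl _) 2 1 = 0)
    (h03 : N T (Function.Embedding.refl _) 0 3 = 0) (h30 : N T (Function.Embedding.refl _) 3 0 = 0)
    (h13 : N T (Function.Embedding.refl _) 1 3 = 0) (h31 : N T (Function.Embedding.refl _) 3 1 = 0)
    (h23 : N T (Function.Embedding.refl _) 2 3 = 0) (h32 : N T (Function.Embedding.refl _) 3 2 = 0)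
    (h04 : N T (Function.Embedding.refl _) 0 4 = 0) (h40 : N T (Function.Embedding.refl _) 4 0 = 0) :
    Goal T := by
  unfold Goal
  have hd := d
  obtain ⟨x01, x02, x03, x04, x10, x12, x13, x14, x20, x21, x23, x24, x30, x31, x32, x34, x40, x41, x42, x43, hx01, hx02, hx03, hx04, hx10, hx12, hx13, hx14, hx20, hx21, hx23, hx24, hx30, hx31, hx32, hx34, hx40, hx41, hx42, hx43, hw0, hm0, hw1, hm1, hw2, hm2, hw3, hm3, hw4, hm4, a00, a01, a02, a03, a04, a11, a10, a12, a13, a14, a22, a20, a21, a23, a24, a33, a30, a31, a32, a34, a44, a40, a41, a42, a43, wN01, wN02, wN12, wN03, wN13, wN23, wN04, wN14, wN24, wN34, e0, e1, e2, e3, e4, d01, d02, d12, d03, d13, d23, d04, d14, d24, d34⟩ := d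
  obtain rfl : x01 = 1 := hx01.trans h01
  obtain rfl : x10 = 1 := hx10.trans h10
  obtain rfl : x02 = 0 := hx02.trans h02
  obtain rfl : x20 = 0 := hx20.trans h20
  obtain rfl : x12 = 0 := hx12.trans h12
  obtain rfl : x21 = 0 := hx21.trans h21
  obtain rfl : x03 = 0 := hx03.trans h03
  obtain rfl : x30 = 0 := hx30.trans h30
  obtain rfl : x13 = 0 := hx13.trans h13
  obtain rfl : x31 = 0 := hx31.trans h31
  obtain rfl : x23 = 0 := hx23.trans h23
  obtain rfl : x32 = 0 := hx32.trans h32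
  obtain rfl : x04 = 0 := hx04.trans h04
  obtain rfl : x40 = 0 := hx40.trans h40
  rcases d14 with ⟨rfl, rfl⟩ | ⟨rfl, rfl⟩ | ⟨rfl, rfl⟩ | ⟨rfl, rfl⟩ | ⟨rfl, rfl⟩ | ⟨rfl, rfl⟩
  · -- 14=(0,0)
    rcases d24 with ⟨rfl, rfl⟩ | ⟨rfl, rfl⟩ | ⟨rfl, rfl⟩ | ⟨rfl, rfl⟩ | ⟨rfl, rfl⟩ | ⟨rfl, rfl⟩
    · -- 24=(0,0)
      rcases d34 with ⟨rfl, rfl⟩ | ⟨rfl, rfl⟩ | ⟨rfl, rfl⟩ | ⟨rfl, rfl⟩ | ⟨rfl, rfl⟩ | ⟨rfl, rfl⟩
      · -- 34=(0,0)
        exfalso; omega
      · -- 34=(1,1)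
        exfalso; omega
      · -- 34=(1,2)
        exfalso; omega
      · -- 34=(2,1)
        exfalso; omega
      · -- 34=(1,3)
        exfalso; omega
      · -- 34=(3,1)
        exfalso; omega
    · -- 24=(1,1)
      rcases d34 with ⟨rfl, rfl⟩ | ⟨rfl, rfl⟩ | ⟨rfl, rfl⟩ | ⟨rfl, rfl⟩ | ⟨rfl, rfl⟩ | ⟨rfl, rfl⟩
      · -- 34=(0,0)
        exfalso; omega
      · -- 34=(1,1)
        exfalso; omega
      · -- 34=(1,2)
        exfalso; omega
      · -- 34=(2,1)
        exfalso; omega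
      · -- 34=(1,3)
        exact False.elim (cert_false T ((skipEmb 1).trans (Function.Embedding.refl _)) (by norm_num) (fun _ => hall _) (((((LB_zero T ((skipEmb 1).trans (Function.Embedding.refl _))).upd 1 3 1 (le_of_eq hx24)).upd 2 3 1 (le_of_eq hx34)).upd 3 1 1 (le_of_eq hx42)).upd 3 2 3 (le_of_eq hx43)) ![0,1,1,2] (by decide) (by decide) 1 (by decide))
      · -- 34=(3,1)
        exact False.elim (cert_false T ((skipEmb 1).trans (Function.Embedding.refl _)) (by norm_num) (fun _ => hall _) (((((LB_zero T ((skipEmb 1).trans (Function.Embedding.refl _))).upd 1 3 1 (le_of_eq hx24)).upd 2 3 3 (le_of_eq hx34)).upd 3 1 1 (le_of_eq hx42)).upd 3 2 1 (le_of_eq hx43)) ![0,1,3,2] (by decide) (by decide) 1 (by decide))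
    · -- 24=(1,2)
      rcases d34 with ⟨rfl, rfl⟩ | ⟨rfl, rfl⟩ | ⟨rfl, rfl⟩ | ⟨rfl, rfl⟩ | ⟨rfl, rfl⟩ | ⟨rfl, rfl⟩
      · -- 34=(0,0)
        exfalso; omega
      · -- 34=(1,1)
        exfalso; omega
      · -- 34=(1,2)
        exact False.elim (cert_false T ((skipEmb 1).trans (Function.Embedding.refl _)) (by norm_num) (fun _ => hall _) (((((LB_zero T ((skipEmb 1).trans (Function.Embedding.refl _))).upd 1 3 1 (le_of_eq hx24)).upd 2 3 1 (le_of_eq hx34)).upd 3 1 2 (le_of_eq hx42)).upd 3 2 2 (le_of_eq hx43)) ![0,1,1,2] (by decide) (by decide) 1 (by decide))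
      · -- 34=(2,1)
        exact False.elim (cert_false T ((skipEmb 1).trans (Function.Embedding.refl _)) (by norm_num) (fun _ => hall _) (((((LB_zero T ((skipEmb 1).trans (Function.Embedding.refl _))).upd 1 3 1 (le_of_eq hx24)).upd 2 3 2 (le_of_eq hx34)).upd 3 1 2 (le_of_eq hx42)).upd 3 2 1 (le_of_eq hx43)) ![0,1,2,2] (by decide) (by decide) 1 (by decide))
      · -- 34=(1,3)
        exact False.elim (cert_false T ((skipEmb 1).trans (Function.Embedding.refl _)) (by norm_num) (fun _ => hall _) (((((LB_zero T ((skipEmb 1).trans (Function.Embedding.refl _))).upd 1 3 1 (le_of_eq hx24)).upd 2 3 1 (le_of_eq hx34)).upd 3 1 2 (le_of_eq hx42)).upd 3 2 3 (le_of_eq hx43)) ![0,1,1,2] (by decide) (by decide) 1 (by decide))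
      · -- 34=(3,1)
        exact False.elim (cert_false T ((skipEmb 1).trans (Function.Embedding.refl _)) (by norm_num) (fun _ => hall _) (((((LB_zero T ((skipEmb 1).trans (Function.Embedding.refl _))).upd 1 3 1 (le_of_eq hx24)).upd 2 3 3 (le_of_eq hx34)).upd 3 1 2 (le_of_eq hx42)).upd 3 2 1 (le_of_eq hx43)) ![0,1,2,2] (by decide) (by decide) 1 (by decide))
    · -- 24=(2,1)
      rcases d34 with ⟨rfl, rfl⟩ | ⟨rfl, rfl⟩ | ⟨rfl, rfl⟩ | ⟨rfl, rfl⟩ | ⟨rfl, rfl⟩ | ⟨rfl, rfl⟩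
      · -- 34=(0,0)
        exfalso; omega
      · -- 34=(1,1)
        exfalso; omega
      · -- 34=(1,2)
        exact False.elim (cert_false T ((skipEmb 1).trans (Function.Embedding.refl _)) (by norm_num) (fun _ => hall _) (((((LB_zero T ((skipEmb 1).trans (Function.Embedding.refl _))).upd 1 3 2 (le_of_eq hx24)).upd 2 3 1 (le_of_eq hx34)).upd 3 1 1 (le_of_eq hx42)).upd 3 2 2 (le_of_eq hx43)) ![0,2,1,2] (by decide) (by decide) 1 (by decide))
      · -- 34=(2,1)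
        exact False.elim (cert_false T ((skipEmb 1).trans (Function.Embedding.refl _)) (by norm_num) (fun _ => hall _) (((((LB_zero T ((skipEmb 1).trans (Function.Embedding.refl _))).upd 1 3 2 (le_of_eq hx24)).upd 2 3 2 (le_of_eq hx34)).upd 3 1 1 (le_of_eq hx42)).upd 3 2 1 (le_of_eq hx43)) ![0,1,1,1] (by decide) (by decide) 1 (by decide))
      · -- 34=(1,3)
        exact False.elim (cert_false T ((skipEmb 1).trans (Function.Embedding.refl _)) (by norm_num) (fun _ => hall _) (((((LB_zero T ((skipEmb 1).trans (Function.Embedding.refl _))).upd 1 3 2 (le_of_eq hx24)).upd 2 3 1 (le_of_eq hx34)).upd 3 1 1 (le_of_eq hx42)).upd 3 2 3 (le_of_eq hx43)) ![0,1,1,2] (by decide) (by decide) 1 (by decide))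
      · -- 34=(3,1)
        exact False.elim (cert_false T ((skipEmb 1).trans (Function.Embedding.refl _)) (by norm_num) (fun _ => hall _) (((((LB_zero T ((skipEmb 1).trans (Function.Embedding.refl _))).upd 1 3 2 (le_of_eq hx24)).upd 2 3 3 (le_of_eq hx34)).upd 3 1 1 (le_of_eq hx42)).upd 3 2 1 (le_of_eq hx43)) ![0,1,1,1] (by decide) (by decide) 1 (by decide))
    · -- 24=(1,3)
      rcases d34 with ⟨rfl, rfl⟩ | ⟨rfl, rfl⟩ | ⟨rfl, rfl⟩ | ⟨rfl, rfl⟩ | ⟨rfl, rfl⟩ | ⟨rfl, rfl⟩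
      · -- 34=(0,0)
        exfalso; omega
      · -- 34=(1,1)
        exact False.elim (cert_false T ((skipEmb 1).trans (Function.Embedding.refl _)) (by norm_num) (fun _ => hall _) (((((LB_zero T ((skipEmb 1).trans (Function.Embedding.refl _))).upd 1 3 1 (le_of_eq hx24)).upd 2 3 1 (le_of_eq hx34)).upd 3 1 3 (le_of_eq hx42)).upd 3 2 1 (le_of_eq hx43)) ![0,1,1,2] (by decide) (by decide) 1 (by decide))
      · -- 34=(1,2)
        exact False.elim (cert_false T ((skipEmb 1).trans (Function.Embedding.refl _)) (by norm_num) (fun _ => hall _) (((((LB_zero T ((skipEmb 1).trans (Function.Embedding.refl _))).upd 1 3 1 (le_of_eq hx24)).upd 2 3 1 (le_of_eq hx34)).upd 3 1 3 (le_of_eq hx42)).upd 3 2 2 (le_of_eq hx43)) ![0,1,1,2] (by decide) (by decide) 1 (by decide))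
      · -- 34=(2,1)
        exact False.elim (cert_false T ((skipEmb 1).trans (Function.Embedding.refl _)) (by norm_num) (fun _ => hall _) (((((LB_zero T ((skipEmb 1).trans (Function.Embedding.refl _))).upd 1 3 1 (le_of_eq hx24)).upd 2 3 2 (le_of_eq hx34)).upd 3 1 3 (le_of_eq hx42)).upd 3 2 1 (le_of_eq hx43)) ![0,1,1,2] (by decide) (by decide) 1 (by decide))
      · -- 34=(1,3)
        exact False.elim (cert_false T ((skipEmb 1).trans (Function.Embedding.refl _)) (by norm_num) (fun _ => hall _) (((((LB_zero T ((skipEmb 1).trans (Function.Embedding.refl _))).upd 1 3 1 (le_of_eq hx24)).upd 2 3 1 (le_of_eq hx34)).upd 3 1 3 (le_of_eq hx42)).upd 3 2 3 (le_of_eq hx43)) ![0,1,1,2] (by decide) (by decide) 1 (by decide))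
      · -- 34=(3,1)
        exact False.elim (cert_false T ((skipEmb 1).trans (Function.Embedding.refl _)) (by norm_num) (fun _ => hall _) (((((LB_zero T ((skipEmb 1).trans (Function.Embedding.refl _))).upd 1 3 1 (le_of_eq hx24)).upd 2 3 3 (le_of_eq hx34)).upd 3 1 3 (le_of_eq hx42)).upd 3 2 1 (le_of_eq hx43)) ![0,1,1,2] (by decide) (by decide) 1 (by decide))
    · -- 24=(3,1)
      rcases d34 with ⟨rfl, rfl⟩ | ⟨rfl, rfl⟩ | ⟨rfl, rfl⟩ | ⟨rfl, rfl⟩ | ⟨rfl, rfl⟩ | ⟨rfl, rfl⟩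
      · -- 34=(0,0)
        exfalso; omega
      · -- 34=(1,1)
        exact False.elim (cert_false T ((skipEmb 1).trans (Function.Embedding.refl _)) (by norm_num) (fun _ => hall _) (((((LB_zero T ((skipEmb 1).trans (Function.Embedding.refl _))).upd 1 3 3 (le_of_eq hx24)).upd 2 3 1 (le_of_eq hx34)).upd 3 1 1 (le_of_eq hx42)).upd 3 2 1 (le_of_eq hx43)) ![0,3,1,2] (by decide) (by decide) 1 (by decide))
      · -- 34=(1,2)
        exact False.elim (cert_false T ((skipEmb 1).trans (Function.Embedding.refl _)) (by norm_num) (fun _ => hall _) (((((LB_zero T ((skipEmb 1).trans (Function.Embedding.refl _))).upd 1 3 3 (le_of_eq hx24)).upd 2 3 1 (le_of_eq hx34)).upd 3 1 1 (le_of_eq hx42)).upd 3 2 2 (le_of_eq hx43)) ![0,2,1,2] (by decide) (by decide) 1 (by decide))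
      · -- 34=(2,1)
        exact False.elim (cert_false T ((skipEmb 1).trans (Function.Embedding.refl _)) (by norm_num) (fun _ => hall _) (((((LB_zero T ((skipEmb 1).trans (Function.Embedding.refl _))).upd 1 3 3 (le_of_eq hx24)).upd 2 3 2 (le_of_eq hx34)).upd 3 1 1 (le_of_eq hx42)).upd 3 2 1 (le_of_eq hx43)) ![0,1,1,1] (by decide) (by decide) 1 (by decide))
      · -- 34=(1,3)
        exact False.elim (cert_false T ((skipEmb 1).trans (Function.Embedding.refl _)) (by norm_num) (fun _ => hall _) (((((LB_zero T ((skipEmb 1).trans (Function.Embedding.refl _))).upd 1 3 3 (le_of_eq hx24)).upd 2 3 1 (le_of_eq hx34)).upd 3 1 1 (le_of_eq hx42)).upd 3 2 3 (le_of_eq hx43)) ![0,1,1,2] (by decide) (by decide) 1 (by decide))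
      · -- 34=(3,1)
        exact False.elim (cert_false T ((skipEmb 1).trans (Function.Embedding.refl _)) (by norm_num) (fun _ => hall _) (((((LB_zero T ((skipEmb 1).trans (Function.Embedding.refl _))).upd 1 3 3 (le_of_eq hx24)).upd 2 3 3 (le_of_eq hx34)).upd 3 1 1 (le_of_eq hx42)).upd 3 2 1 (le_of_eq hx43)) ![0,1,1,1] (by decide) (by decide) 1 (by decide))
  · -- 14=(1,1)
    rcases d24 with ⟨rfl, rfl⟩ | ⟨rfl, rfl⟩ | ⟨rfl, rfl⟩ | ⟨rfl, rfl⟩ | ⟨rfl, rfl⟩ | ⟨rfl, rfl⟩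
    · -- 24=(0,0)
      rcases d34 with ⟨rfl, rfl⟩ | ⟨rfl, rfl⟩ | ⟨rfl, rfl⟩ | ⟨rfl, rfl⟩ | ⟨rfl, rfl⟩ | ⟨rfl, rfl⟩
      · -- 34=(0,0)
        exfalso; omega
      · -- 34=(1,1)
        exfalso; omega
      · -- 34=(1,2)
        exfalso; omega
      · -- 34=(2,1)
        exfalso; omega
      · -- 34=(1,3)
        exact False.elim (cert_false T ((skipEmb 2).trans (Function.Embedding.refl _)) (by norm_num) (fun _ => hall _) (((((LB_zero T ((skipEmb 2).trans (Function.Embedding.refl _))).upd 1 3 1 (le_of_eq hx14)).upd 2 3 1 (le_of_eq hx34)).upd 3 1 1 (le_of_eq hx41)).upd 3 2 3 (le_of_eq hx43)) ![0,1,1,2] (by decide) (by decide) 1 (by decide))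
      · -- 34=(3,1)
        exact False.elim (cert_false T ((skipEmb 2).trans (Function.Embedding.refl _)) (by norm_num) (fun _ => hall _) (((((LB_zero T ((skipEmb 2).trans (Function.Embedding.refl _))).upd 1 3 1 (le_of_eq hx14)).upd 2 3 3 (le_of_eq hx34)).upd 3 1 1 (le_of_eq hx41)).upd 3 2 1 (le_of_eq hx43)) ![0,1,3,2] (by decide) (by decide) 1 (by decide))
    · -- 24=(1,1)
      rcases d34 with ⟨rfl, rfl⟩ | ⟨rfl, rfl⟩ | ⟨rfl, rfl⟩ | ⟨rfl, rfl⟩ | ⟨rfl, rfl⟩ | ⟨rfl, rfl⟩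
      · -- 34=(0,0)
        exfalso; omega
      · -- 34=(1,1)
        exfalso; omega
      · -- 34=(1,2)
        exact False.elim (cert_false T ((skipEmb 0).trans (Function.Embedding.refl _)) (by norm_num) (fun _ => hall _) (((((((LB_zero T ((skipEmb 0).trans (Function.Embedding.refl _))).upd 0 3 1 (le_of_eq hx14)).upd 1 3 1 (le_of_eq hx24)).upd 2 3 1 (le_of_eq hx34)).upd 3 0 1 (le_of_eq hx41)).upd 3 1 1 (le_of_eq hx42)).upd 3 2 2 (le_of_eq hx43)) ![1,1,1,2] (by decide) (by decide) 0 (by decide))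
      · -- 34=(2,1)
        exact False.elim (cert_false T ((skipEmb 0).trans (Function.Embedding.refl _)) (by norm_num) (fun _ => hall _) (((((((LB_zero T ((skipEmb 0).trans (Function.Embedding.refl _))).upd 0 3 1 (le_of_eq hx14)).upd 1 3 1 (le_of_eq hx24)).upd 2 3 2 (le_of_eq hx34)).upd 3 0 1 (le_of_eq hx41)).upd 3 1 1 (le_of_eq hx42)).upd 3 2 1 (le_of_eq hx43)) ![1,1,2,2] (by decide) (by decide) 0 (by decide))
      · -- 34=(1,3)
        exact False.elim (cert_false T ((skipEmb 2).trans (Function.Embedding.refl _)) (by norm_num) (fun _ => hall _) (((((LB_zero T ((skipEmb 2).trans (Function.Embedding.refl _))).upd 1 3 1 (le_of_eq hx14)).upd 2 3 1 (le_of_eq hx34)).upd 3 1 1 (le_of_eq hx41)).upd 3 2 3 (le_of_eq hx43)) ![0,1,1,2] (by decide) (by decide) 1 (by decide))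
      · -- 34=(3,1)
        exact False.elim (cert_false T ((skipEmb 2).trans (Function.Embedding.refl _)) (by norm_num) (fun _ => hall _) (((((LB_zero T ((skipEmb 2).trans (Function.Embedding.refl _))).upd 1 3 1 (le_of_eq hx14)).upd 2 3 3 (le_of_eq hx34)).upd 3 1 1 (le_of_eq hx41)).upd 3 2 1 (le_of_eq hx43)) ![0,1,3,2] (by decide) (by decide) 1 (by decide))
    · -- 24=(1,2)
      rcases d34 with ⟨rfl, rfl⟩ | ⟨rfl, rfl⟩ | ⟨rfl, rfl⟩ | ⟨rfl, rfl⟩ | ⟨rfl, rfl⟩ | ⟨rfl, rfl⟩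
      · -- 34=(0,0)
        exfalso; omega
      · -- 34=(1,1)
        exact False.elim (cert_false T ((skipEmb 0).trans (Function.Embedding.refl _)) (by norm_num) (fun _ => hall _) (((((((LB_zero T ((skipEmb 0).trans (Function.Embedding.refl _))).upd 0 3 1 (le_of_eq hx14)).upd 1 3 1 (le_of_eq hx24)).upd 2 3 1 (le_of_eq hx34)).upd 3 0 1 (le_of_eq hx41)).upd 3 1 2 (le_of_eq hx42)).upd 3 2 1 (le_of_eq hx43)) ![1,1,1,2] (by decide) (by decide) 0 (by decide))
      · -- 34=(1,2)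
        exact False.elim (cert_false T ((skipEmb 1).trans (Function.Embedding.refl _)) (by norm_num) (fun _ => hall _) (((((LB_zero T ((skipEmb 1).trans (Function.Embedding.refl _))).upd 1 3 1 (le_of_eq hx24)).upd 2 3 1 (le_of_eq hx34)).upd 3 1 2 (le_of_eq hx42)).upd 3 2 2 (le_of_eq hx43)) ![0,1,1,2] (by decide) (by decide) 1 (by decide))
      · -- 34=(2,1)
        exact False.elim (cert_false T ((skipEmb 1).trans (Function.Embedding.refl _)) (by norm_num) (fun _ => hall _) (((((LB_zero T ((skipEmb 1).trans (Function.Embedding.refl _))).upd 1 3 1 (le_of_eq hx24)).upd 2 3 2 (le_of_eq hx34)).upd 3 1 2 (le_of_eq hx42)).upd 3 2 1 (le_of_eq hx43)) ![0,1,2,2] (by decide) (by decide) 1 (by decide))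
      · -- 34=(1,3)
        exact False.elim (cert_false T ((skipEmb 2).trans (Function.Embedding.refl _)) (by norm_num) (fun _ => hall _) (((((LB_zero T ((skipEmb 2).trans (Function.Embedding.refl _))).upd 1 3 1 (le_of_eq hx14)).upd 2 3 1 (le_of_eq hx34)).upd 3 1 1 (le_of_eq hx41)).upd 3 2 3 (le_of_eq hx43)) ![0,1,1,2] (by decide) (by decide) 1 (by decide))
      · -- 34=(3,1)
        exact False.elim (cert_false T ((skipEmb 2).trans (Function.Embedding.refl _)) (by norm_num) (fun _ => hall _) (((((LB_zero T ((skipEmb 2).trans (Function.Embedding.refl _))).upd 1 3 1 (le_of_eq hx14)).upd 2 3 3 (le_of_eq hx34)).upd 3 1 1 (le_of_eq hx41)).upd 3 2 1 (le_of_eq hx43)) ![0,1,3,2] (by decide) (by decide) 1 (by decide))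
    · -- 24=(2,1)
      rcases d34 with ⟨rfl, rfl⟩ | ⟨rfl, rfl⟩ | ⟨rfl, rfl⟩ | ⟨rfl, rfl⟩ | ⟨rfl, rfl⟩ | ⟨rfl, rfl⟩
      · -- 34=(0,0)
        exfalso; omega
      · -- 34=(1,1)
        exact False.elim (cert_false T ((skipEmb 0).trans (Function.Embedding.refl _)) (by norm_num) (fun _ => hall _) (((((((LB_zero T ((skipEmb 0).trans (Function.Embedding.refl _))).upd 0 3 1 (le_of_eq hx14)).upd 1 3 2 (le_of_eq hx24)).upd 2 3 1 (le_of_eq hx34)).upd 3 0 1 (le_of_eq hx41)).upd 3 1 1 (le_of_eq hx42)).upd 3 2 1 (le_of_eq hx43)) ![1,2,1,2] (by decide) (by decide) 0 (by decide))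
      · -- 34=(1,2)
        exact False.elim (cert_false T ((skipEmb 1).trans (Function.Embedding.refl _)) (by norm_num) (fun _ => hall _) (((((LB_zero T ((skipEmb 1).trans (Function.Embedding.refl _))).upd 1 3 2 (le_of_eq hx24)).upd 2 3 1 (le_of_eq hx34)).upd 3 1 1 (le_of_eq hx42)).upd 3 2 2 (le_of_eq hx43)) ![0,2,1,2] (by decide) (by decide) 1 (by decide))
      · -- 34=(2,1)
        exact False.elim (cert_false T ((skipEmb 1).trans (Function.Embedding.refl _)) (by norm_num) (fun _ => hall _) (((((LB_zero T ((skipEmb 1).trans (Function.Embedding.refl _))).upd 1 3 2 (le_of_eq hx24)).upd 2 3 2 (le_of_eq hx34)).upd 3 1 1 (le_of_eq hx42)).upd 3 2 1 (le_of_eq hx43)) ![0,1,1,1] (by decide) (by decide) 1 (by decide))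
      · -- 34=(1,3)
        exact False.elim (cert_false T ((skipEmb 2).trans (Function.Embedding.refl _)) (by norm_num) (fun _ => hall _) (((((LB_zero T ((skipEmb 2).trans (Function.Embedding.refl _))).upd 1 3 1 (le_of_eq hx14)).upd 2 3 1 (le_of_eq hx34)).upd 3 1 1 (le_of_eq hx41)).upd 3 2 3 (le_of_eq hx43)) ![0,1,1,2] (by decide) (by decide) 1 (by decide))
      · -- 34=(3,1)
        exact False.elim (cert_false T ((skipEmb 2).trans (Function.Embedding.refl _)) (by norm_num) (fun _ => hall _) (((((LB_zero T ((skipEmb 2).trans (Function.Embedding.refl _))).upd 1 3 1 (le_of_eq hx14)).upd 2 3 3 (le_of_eq hx34)).upd 3 1 1 (le_of_eq hx41)).upd 3 2 1 (le_of_eq hx43)) ![0,1,3,2] (by decide) (by decide) 1 (by decide))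
    · -- 24=(1,3)
      exact False.elim (cert_false T ((skipEmb 3).trans (Function.Embedding.refl _)) (by norm_num) (fun _ => hall _) (((((LB_zero T ((skipEmb 3).trans (Function.Embedding.refl _))).upd 1 3 1 (le_of_eq hx14)).upd 2 3 1 (le_of_eq hx24)).upd 3 1 1 (le_of_eq hx41)).upd 3 2 3 (le_of_eq hx42)) ![0,1,1,2] (by decide) (by decide) 1 (by decide))
    · -- 24=(3,1)
      exact False.elim (cert_false T ((skipEmb 3).trans (Function.Embedding.refl _)) (by norm_num) (fun _ => hall _) (((((LB_zero T ((skipEmb 3).trans (Function.Embedding.refl _))).upd 1 3 1 (le_of_eq hx14)).upd 2 3 3 (le_of_eq hx24)).upd 3 1 1 (le_of_eq hx41)).upd 3 2 1 (le_of_eq hx42)) ![0,1,3,2] (by decide) (by decide) 1 (by decide))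
  · -- 14=(1,2)
    rcases d24 with ⟨rfl, rfl⟩ | ⟨rfl, rfl⟩ | ⟨rfl, rfl⟩ | ⟨rfl, rfl⟩ | ⟨rfl, rfl⟩ | ⟨rfl, rfl⟩
    · -- 24=(0,0)
      rcases d34 with ⟨rfl, rfl⟩ | ⟨rfl, rfl⟩ | ⟨rfl, rfl⟩ | ⟨rfl, rfl⟩ | ⟨rfl, rfl⟩ | ⟨rfl, rfl⟩
      · -- 34=(0,0)
        exfalso; omega
      · -- 34=(1,1)
        exfalso; omega
      · -- 34=(1,2)
        exact False.elim (cert_false T ((skipEmb 2).trans (Function.Embedding.refl _)) (by norm_num) (fun _ => hall _) (((((LB_zero T ((skipEmb 2).trans (Function.Embedding.refl _))).upd 1 3 1 (le_of_eq hx14)).upd 2 3 1 (le_of_eq hx34)).upd 3 1 2 (le_of_eq hx41)).upd 3 2 2 (le_of_eq hx43)) ![0,1,1,2] (by decide) (by decide) 1 (by decide))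
      · -- 34=(2,1)
        exact False.elim (cert_false T ((skipEmb 2).trans (Function.Embedding.refl _)) (by norm_num) (fun _ => hall _) (((((LB_zero T ((skipEmb 2).trans (Function.Embedding.refl _))).upd 1 3 1 (le_of_eq hx14)).upd 2 3 2 (le_of_eq hx34)).upd 3 1 2 (le_of_eq hx41)).upd 3 2 1 (le_of_eq hx43)) ![0,1,2,2] (by decide) (by decide) 1 (by decide))
      · -- 34=(1,3)
        exact False.elim (cert_false T ((skipEmb 2).trans (Function.Embedding.refl _)) (by norm_num) (fun _ => hall _) (((((LB_zero T ((skipEmb 2).trans (Function.Embedding.refl _))).upd 1 3 1 (le_of_eq hx14)).upd 2 3 1 (le_of_eq hx34)).upd 3 1 2 (le_of_eq hx41)).upd 3 2 3 (le_of_eq hx43)) ![0,1,1,2] (by decide) (by decide) 1 (by decide))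
      · -- 34=(3,1)
        exact False.elim (cert_false T ((skipEmb 2).trans (Function.Embedding.refl _)) (by norm_num) (fun _ => hall _) (((((LB_zero T ((skipEmb 2).trans (Function.Embedding.refl _))).upd 1 3 1 (le_of_eq hx14)).upd 2 3 3 (le_of_eq hx34)).upd 3 1 2 (le_of_eq hx41)).upd 3 2 1 (le_of_eq hx43)) ![0,1,2,2] (by decide) (by decide) 1 (by decide))
    · -- 24=(1,1)
      rcases d34 with ⟨rfl, rfl⟩ | ⟨rfl, rfl⟩ | ⟨rfl, rfl⟩ | ⟨rfl, rfl⟩ | ⟨rfl, rfl⟩ | ⟨rfl, rfl⟩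
      · -- 34=(0,0)
        exfalso; omega
      · -- 34=(1,1)
        exact False.elim (cert_false T ((skipEmb 0).trans (Function.Embedding.refl _)) (by norm_num) (fun _ => hall _) (((((((LB_zero T ((skipEmb 0).trans (Function.Embedding.refl _))).upd 0 3 1 (le_of_eq hx14)).upd 1 3 1 (le_of_eq hx24)).upd 2 3 1 (le_of_eq hx34)).upd 3 0 2 (le_of_eq hx41)).upd 3 1 1 (le_of_eq hx42)).upd 3 2 1 (le_of_eq hx43)) ![1,1,1,2] (by decide) (by decide) 0 (by decide))
      · -- 34=(1,2)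
        exact False.elim (cert_false T ((skipEmb 2).trans (Function.Embedding.refl _)) (by norm_num) (fun _ => hall _) (((((LB_zero T ((skipEmb 2).trans (Function.Embedding.refl _))).upd 1 3 1 (le_of_eq hx14)).upd 2 3 1 (le_of_eq hx34)).upd 3 1 2 (le_of_eq hx41)).upd 3 2 2 (le_of_eq hx43)) ![0,1,1,2] (by decide) (by decide) 1 (by decide))
      · -- 34=(2,1)
        exact False.elim (cert_false T ((skipEmb 2).trans (Function.Embedding.refl _)) (by norm_num) (fun _ => hall _) (((((LB_zero T ((skipEmb 2).trans (Function.Embedding.refl _))).upd 1 3 1 (le_of_eq hx14)).upd 2 3 2 (le_of_eq hx34)).upd 3 1 2 (le_of_eq hx41)).upd 3 2 1 (le_of_eq hx43)) ![0,1,2,2] (by decide) (by decide) 1 (by decide))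
      · -- 34=(1,3)
        exact False.elim (cert_false T ((skipEmb 2).trans (Function.Embedding.refl _)) (by norm_num) (fun _ => hall _) (((((LB_zero T ((skipEmb 2).trans (Function.Embedding.refl _))).upd 1 3 1 (le_of_eq hx14)).upd 2 3 1 (le_of_eq hx34)).upd 3 1 2 (le_of_eq hx41)).upd 3 2 3 (le_of_eq hx43)) ![0,1,1,2] (by decide) (by decide) 1 (by decide))
      · -- 34=(3,1)
        exact False.elim (cert_false T ((skipEmb 2).trans (Function.Embedding.refl _)) (by norm_num) (fun _ => hall _) (((((LB_zero T ((skipEmb 2).trans (Function.Embedding.refl _))).upd 1 3 1 (le_of_eq hx14)).upd 2 3 3 (le_of_eq hx34)).upd 3 1 2 (le_of_eq hx41)).upd 3 2 1 (le_of_eq hx43)) ![0,1,2,2] (by decide) (by decide) 1 (by decide))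
    · -- 24=(1,2)
      exact False.elim (cert_false T ((skipEmb 3).trans (Function.Embedding.refl _)) (by norm_num) (fun _ => hall _) (((((LB_zero T ((skipEmb 3).trans (Function.Embedding.refl _))).upd 1 3 1 (le_of_eq hx14)).upd 2 3 1 (le_of_eq hx24)).upd 3 1 2 (le_of_eq hx41)).upd 3 2 2 (le_of_eq hx42)) ![0,1,1,2] (by decide) (by decide) 1 (by decide))
    · -- 24=(2,1)
      exact False.elim (cert_false T ((skipEmb 3).trans (Function.Embedding.refl _)) (by norm_num) (fun _ => hall _) (((((LB_zero T ((skipEmb 3).trans (Function.Embedding.refl _))).upd 1 3 1 (le_of_eq hx14)).upd 2 3 2 (le_of_eq hx24)).upd 3 1 2 (le_of_eq hx41)).upd 3 2 1 (le_of_eq hx42)) ![0,1,2,2] (by decide) (by decide) 1 (by decide))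
    · -- 24=(1,3)
      exact False.elim (cert_false T ((skipEmb 3).trans (Function.Embedding.refl _)) (by norm_num) (fun _ => hall _) (((((LB_zero T ((skipEmb 3).trans (Function.Embedding.refl _))).upd 1 3 1 (le_of_eq hx14)).upd 2 3 1 (le_of_eq hx24)).upd 3 1 2 (le_of_eq hx41)).upd 3 2 3 (le_of_eq hx42)) ![0,1,1,2] (by decide) (by decide) 1 (by decide))
    · -- 24=(3,1)
      exact False.elim (cert_false T ((skipEmb 3).trans (Function.Embedding.refl _)) (by norm_num) (fun _ => hall _) (((((LB_zero T ((skipEmb 3).trans (Function.Embedding.refl _))).upd 1 3 1 (le_of_eq hx14)).upd 2 3 3 (le_of_eq hx24)).upd 3 1 2 (le_of_eq hx41)).upd 3 2 1 (le_of_eq hx42)) ![0,1,2,2] (by decide) (by decide) 1 (by decide))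
  · -- 14=(2,1)
    rcases d24 with ⟨rfl, rfl⟩ | ⟨rfl, rfl⟩ | ⟨rfl, rfl⟩ | ⟨rfl, rfl⟩ | ⟨rfl, rfl⟩ | ⟨rfl, rfl⟩
    · -- 24=(0,0)
      rcases d34 with ⟨rfl, rfl⟩ | ⟨rfl, rfl⟩ | ⟨rfl, rfl⟩ | ⟨rfl, rfl⟩ | ⟨rfl, rfl⟩ | ⟨rfl, rfl⟩
      · -- 34=(0,0)
        exfalso; omega
      · -- 34=(1,1)
        exfalso; omega
      · -- 34=(1,2)
        exact False.elim (cert_false T ((skipEmb 2).trans (Function.Embedding.refl _)) (by norm_num) (fun _ => hall _) (((((LB_zero T ((skipEmb 2).trans (Function.Embedding.refl _))).upd 1 3 2 (le_of_eq hx14)).upd 2 3 1 (le_of_eq hx34)).upd 3 1 1 (le_of_eq hx41)).upd 3 2 2 (le_of_eq hx43)) ![0,2,1,2] (by decide) (by decide) 1 (by decide))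
      · -- 34=(2,1)
        exact False.elim (cert_false T ((skipEmb 2).trans (Function.Embedding.refl _)) (by norm_num) (fun _ => hall _) (((((LB_zero T ((skipEmb 2).trans (Function.Embedding.refl _))).upd 1 3 2 (le_of_eq hx14)).upd 2 3 2 (le_of_eq hx34)).upd 3 1 1 (le_of_eq hx41)).upd 3 2 1 (le_of_eq hx43)) ![0,1,1,1] (by decide) (by decide) 1 (by decide))
      · -- 34=(1,3)
        exact False.elim (cert_false T ((skipEmb 2).trans (Function.Embedding.refl _)) (by norm_num) (fun _ => hall _) (((((LB_zero T ((skipEmb 2).trans (Function.Embedding.refl _))).upd 1 3 2 (le_of_eq hx14)).upd 2 3 1 (le_of_eq hx34)).upd 3 1 1 (le_of_eq hx41)).upd 3 2 3 (le_of_eq hx43)) ![0,1,1,2] (by decide) (by decide) 1 (by decide))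
      · -- 34=(3,1)
        exact False.elim (cert_false T ((skipEmb 2).trans (Function.Embedding.refl _)) (by norm_num) (fun _ => hall _) (((((LB_zero T ((skipEmb 2).trans (Function.Embedding.refl _))).upd 1 3 2 (le_of_eq hx14)).upd 2 3 3 (le_of_eq hx34)).upd 3 1 1 (le_of_eq hx41)).upd 3 2 1 (le_of_eq hx43)) ![0,1,1,1] (by decide) (by decide) 1 (by decide))
    · -- 24=(1,1)
      rcases d34 with ⟨rfl, rfl⟩ | ⟨rfl, rfl⟩ | ⟨rfl, rfl⟩ | ⟨rfl, rfl⟩ | ⟨rfl, rfl⟩ | ⟨rfl, rfl⟩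
      · -- 34=(0,0)
        exfalso; omega
      · -- 34=(1,1)
        exact False.elim (cert_false T ((skipEmb 0).trans (Function.Embedding.refl _)) (by norm_num) (fun _ => hall _) (((((((LB_zero T ((skipEmb 0).trans (Function.Embedding.refl _))).upd 0 3 2 (le_of_eq hx14)).upd 1 3 1 (le_of_eq hx24)).upd 2 3 1 (le_of_eq hx34)).upd 3 0 1 (le_of_eq hx41)).upd 3 1 1 (le_of_eq hx42)).upd 3 2 1 (le_of_eq hx43)) ![2,1,1,2] (by decide) (by decide) 0 (by decide))
      · -- 34=(1,2)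
        exact False.elim (cert_false T ((skipEmb 2).trans (Function.Embedding.refl _)) (by norm_num) (fun _ => hall _) (((((LB_zero T ((skipEmb 2).trans (Function.Embedding.refl _))).upd 1 3 2 (le_of_eq hx14)).upd 2 3 1 (le_of_eq hx34)).upd 3 1 1 (le_of_eq hx41)).upd 3 2 2 (le_of_eq hx43)) ![0,2,1,2] (by decide) (by decide) 1 (by decide))
      · -- 34=(2,1)
        exact False.elim (cert_false T ((skipEmb 2).trans (Function.Embedding.refl _)) (by norm_num) (fun _ => hall _) (((((LB_zero T ((skipEmb 2).trans (Function.Embedding.refl _))).upd 1 3 2 (le_of_eq hx14)).upd 2 3 2 (le_of_eq hx34)).upd 3 1 1 (le_of_eq hx41)).upd 3 2 1 (le_of_eq hx43)) ![0,1,1,1] (by decide) (by decide) 1 (by decide))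
      · -- 34=(1,3)
        exact False.elim (cert_false T ((skipEmb 2).trans (Function.Embedding.refl _)) (by norm_num) (fun _ => hall _) (((((LB_zero T ((skipEmb 2).trans (Function.Embedding.refl _))).upd 1 3 2 (le_of_eq hx14)).upd 2 3 1 (le_of_eq hx34)).upd 3 1 1 (le_of_eq hx41)).upd 3 2 3 (le_of_eq hx43)) ![0,1,1,2] (by decide) (by decide) 1 (by decide))
      · -- 34=(3,1)
        exact False.elim (cert_false T ((skipEmb 2).trans (Function.Embedding.refl _)) (by norm_num) (fun _ => hall _) (((((LB_zero T ((skipEmb 2).trans (Function.Embedding.refl _))).upd 1 3 2 (le_of_eq hx14)).upd 2 3 3 (le_of_eq hx34)).upd 3 1 1 (le_of_eq hx41)).upd 3 2 1 (le_of_eq hx43)) ![0,1,1,1] (by decide) (by decide) 1 (by decide))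
    · -- 24=(1,2)
      exact False.elim (cert_false T ((skipEmb 3).trans (Function.Embedding.refl _)) (by norm_num) (fun _ => hall _) (((((LB_zero T ((skipEmb 3).trans (Function.Embedding.refl _))).upd 1 3 2 (le_of_eq hx14)).upd 2 3 1 (le_of_eq hx24)).upd 3 1 1 (le_of_eq hx41)).upd 3 2 2 (le_of_eq hx42)) ![0,2,1,2] (by decide) (by decide) 1 (by decide))
    · -- 24=(2,1)
      exact False.elim (cert_false T ((skipEmb 3).trans (Function.Embedding.refl _)) (by norm_num) (fun _ => hall _) (((((LB_zero T ((skipEmb 3).trans (Function.Embedding.refl _))).upd 1 3 2 (le_of_eq hx14)).upd 2 3 2 (le_of_eq hx24)).upd 3 1 1 (le_of_eq hx41)).upd 3 2 1 (le_of_eq hx42)) ![0,1,1,1] (by decide) (by decide) 1 (by decide))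
    · -- 24=(1,3)
      exact False.elim (cert_false T ((skipEmb 3).trans (Function.Embedding.refl _)) (by norm_num) (fun _ => hall _) (((((LB_zero T ((skipEmb 3).trans (Function.Embedding.refl _))).upd 1 3 2 (le_of_eq hx14)).upd 2 3 1 (le_of_eq hx24)).upd 3 1 1 (le_of_eq hx41)).upd 3 2 3 (le_of_eq hx42)) ![0,1,1,2] (by decide) (by decide) 1 (by decide))
    · -- 24=(3,1)
      exact False.elim (cert_false T ((skipEmb 3).trans (Function.Embedding.refl _)) (by norm_num) (fun _ => hall _) (((((LB_zero T ((skipEmb 3).trans (Function.Embedding.refl _))).upd 1 3 2 (le_of_eq hx14)).upd 2 3 3 (le_of_eq hx24)).upd 3 1 1 (le_of_eq hx41)).upd 3 2 1 (le_of_eq hx42)) ![0,1,1,1] (by decide) (by decide) 1 (by decide))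
  · -- 14=(1,3)
    exact False.elim (cert_false T ((skipEmb 3).trans (Function.Embedding.refl _)) (by norm_num) (fun _ => hall _) (((((LB_zero T ((skipEmb 3).trans (Function.Embedding.refl _))).upd 0 1 1 (le_of_eq hx01)).upd 1 0 1 (le_of_eq hx10)).upd 1 3 1 (le_of_eq hx14)).upd 3 1 3 (le_of_eq hx41)) ![1,2,0,3] (by decide) (by decide) 0 (by decide))
  · -- 14=(3,1)
    exact False.elim (cert_false T ((skipEmb 3).trans (Function.Embedding.refl _)) (by norm_num) (fun _ => hall _) (((((LB_zero T ((skipEmb 3).trans (Function.Embedding.refl _))).upd 0 1 1 (le_of_eq hx01)).upd 1 0 1 (le_of_eq hx10)).upd 1 3 3 (le_of_eq hx14)).upd 3 1 1 (le_of_eq hx41)) ![1,2,0,1] (by decide) (by decide) 0 (by decide))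

theorem case354 (T : NumericalType 5) (hall : ∀ i, T.IsMinusTwo i) (d : SData T)
    (h01 : N T (Function.Embedding.refl _) 0 1 = 1) (h10 : N T (Function.Embedding.refl _) 1 0 = 1)
    (h02 : N T (Function.Embedding.refl _) 0 2 = 0) (h20 : N T (Function.Embedding.refl _) 2 0 = 0)
    (h12 : N T (Function.Embedding.refl _) 1 2 = 0) (h21 : N T (Function.Embedding.refl _) 2 1 = 0)
    (h03 : N T (Function.Embedding.refl _) 0 3 = 0) (h30 : N T (Function.Embedding.refl _) 3 0 = 0)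
    (h13 : N T (Function.Embedding.refl _) 1 3 = 0) (h31 : N T (Function.Embedding.refl _) 3 1 = 0)
    (h23 : N T (Function.Embedding.refl _) 2 3 = 0) (h32 : N T (Function.Embedding.refl _) 3 2 = 0) :
    Goal T := by
  unfold Goal
  have hd := d
  obtain ⟨x01, x02, x03, x04, x10, x12, x13, x14, x20, x21, x23, x24, x30, x31, x32, x34, x40, x41, x42, x43, hx01, hx02, hx03, hx04, hx10, hx12, hx13, hx14, hx20, hx21, hx23, hx24, hx30, hx31, hx32, hx34, hx40, hx41, hx42, hx43, hw0, hm0, hw1, hm1, hw2, hm2, hw3, hm3, hw4, hm4, a00, a01, a02, a03, a04, a11, a10, a12, a13, a14, a22, a20, a21, a23, a24, a33, a30, a31, a32, a34, a44, a40, a41, a42, a43, wN01, wN02, wN12, wN03, wN13, wN23, wN04, wN14, wN24, wN34, e0, e1, e2, e3, e4, d01, d02, d12, d03, d13, d23, d04, d14, d24, d34⟩ := d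
  obtain rfl : x01 = 1 := hx01.trans h01
  obtain rfl : x10 = 1 := hx10.trans h10
  obtain rfl : x02 = 0 := hx02.trans h02
  obtain rfl : x20 = 0 := hx20.trans h20
  obtain rfl : x12 = 0 := hx12.trans h12
  obtain rfl : x21 = 0 := hx21.trans h21
  obtain rfl : x03 = 0 := hx03.trans h03
  obtain rfl : x30 = 0 := hx30.trans h30
  obtain rfl : x13 = 0 := hx13.trans h13
  obtain rfl : x31 = 0 := hx31.trans h31
  obtain rfl : x23 = 0 := hx23.trans h23
  obtain rfl : x32 = 0 := hx32.trans h32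
  rcases d04 with ⟨rfl, rfl⟩ | ⟨rfl, rfl⟩ | ⟨rfl, rfl⟩ | ⟨rfl, rfl⟩ | ⟨rfl, rfl⟩ | ⟨rfl, rfl⟩
  · -- 04=(0,0)
    exact case355 T hall hd hx01.symm hx10.symm hx02.symm hx20.symm hx12.symm hx21.symm hx03.symm hx30.symm hx13.symm hx31.symm hx23.symm hx32.symm hx04.symm hx40.symm
  · -- 04=(1,1)
    rcases d14 with ⟨rfl, rfl⟩ | ⟨rfl, rfl⟩ | ⟨rfl, rfl⟩ | ⟨rfl, rfl⟩ | ⟨rfl, rfl⟩ | ⟨rfl, rfl⟩
    · -- 14=(0,0)
      rcases d24 with ⟨rfl, rfl⟩ | ⟨rfl, rfl⟩ | ⟨rfl, rfl⟩ | ⟨rfl, rfl⟩ | ⟨rfl, rfl⟩ | ⟨rfl, rfl⟩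
      · -- 24=(0,0)
        rcases d34 with ⟨rfl, rfl⟩ | ⟨rfl, rfl⟩ | ⟨rfl, rfl⟩ | ⟨rfl, rfl⟩ | ⟨rfl, rfl⟩ | ⟨rfl, rfl⟩
        · -- 34=(0,0)
          exfalso; omega
        · -- 34=(1,1)
          exfalso; omega
        · -- 34=(1,2)
          exfalso; omega
        · -- 34=(2,1)
          exfalso; omega
        · -- 34=(1,3)
          exact False.elim (cert_false T ((skipEmb 2).trans (Function.Embedding.refl _)) (by norm_num) (fun _ => hall _) (((((LB_zero T ((skipEmb 2).trans (Function.Embedding.refl _))).upd 0 3 1 (le_of_eq hx04)).upd 2 3 1 (le_of_eq hx34)).upd 3 0 1 (le_of_eq hx40)).upd 3 2 3 (le_of_eq hx43)) ![1,0,1,2] (by decide) (by decide) 0 (by decide))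
        · -- 34=(3,1)
          exact False.elim (cert_false T ((skipEmb 2).trans (Function.Embedding.refl _)) (by norm_num) (fun _ => hall _) (((((LB_zero T ((skipEmb 2).trans (Function.Embedding.refl _))).upd 0 3 1 (le_of_eq hx04)).upd 2 3 3 (le_of_eq hx34)).upd 3 0 1 (le_of_eq hx40)).upd 3 2 1 (le_of_eq hx43)) ![1,0,3,2] (by decide) (by decide) 0 (by decide))
      · -- 24=(1,1)
        rcases d34 with ⟨rfl, rfl⟩ | ⟨rfl, rfl⟩ | ⟨rfl, rfl⟩ | ⟨rfl, rfl⟩ | ⟨rfl, rfl⟩ | ⟨rfl, rfl⟩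
        · -- 34=(0,0)
          exfalso; omega
        · -- 34=(1,1)
          exfalso; omega
        · -- 34=(1,2)
          exact False.elim (cert_false T ((skipEmb 1).trans (Function.Embedding.refl _)) (by norm_num) (fun _ => hall _) (((((((LB_zero T ((skipEmb 1).trans (Function.Embedding.refl _))).upd 0 3 1 (le_of_eq hx04)).upd 1 3 1 (le_of_eq hx24)).upd 2 3 1 (le_of_eq hx34)).upd 3 0 1 (le_of_eq hx40)).upd 3 1 1 (le_of_eq hx42)).upd 3 2 2 (le_of_eq hx43)) ![1,1,1,2] (by decide) (by decide) 0 (by decide))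
        · -- 34=(2,1)
          exact False.elim (cert_false T ((skipEmb 1).trans (Function.Embedding.refl _)) (by norm_num) (fun _ => hall _) (((((((LB_zero T ((skipEmb 1).trans (Function.Embedding.refl _))).upd 0 3 1 (le_of_eq hx04)).upd 1 3 1 (le_of_eq hx24)).upd 2 3 2 (le_of_eq hx34)).upd 3 0 1 (le_of_eq hx40)).upd 3 1 1 (le_of_eq hx42)).upd 3 2 1 (le_of_eq hx43)) ![1,1,2,2] (by decide) (by decide) 0 (by decide))
        · -- 34=(1,3)
          exact False.elim (cert_false T ((skipEmb 2).trans (Function.Embedding.refl _)) (by norm_num) (fun _ => hall _) (((((LB_zero T ((skipEmb 2).trans (Function.Embedding.refl _))).upd 0 3 1 (le_of_eq hx04)).upd 2 3 1 (le_of_eq hx34)).upd 3 0 1 (le_of_eq hx40)).upd 3 2 3 (le_of_eq hx43)) ![1,0,1,2] (by decide) (by decide) 0 (by decide))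
        · -- 34=(3,1)
          exact False.elim (cert_false T ((skipEmb 2).trans (Function.Embedding.refl _)) (by norm_num) (fun _ => hall _) (((((LB_zero T ((skipEmb 2).trans (Function.Embedding.refl _))).upd 0 3 1 (le_of_eq hx04)).upd 2 3 3 (le_of_eq hx34)).upd 3 0 1 (le_of_eq hx40)).upd 3 2 1 (le_of_eq hx43)) ![1,0,3,2] (by decide) (by decide) 0 (by decide))
      · -- 24=(1,2)
        rcases d34 with ⟨rfl, rfl⟩ | ⟨rfl, rfl⟩ | ⟨rfl, rfl⟩ | ⟨rfl, rfl⟩ | ⟨rfl, rfl⟩ | ⟨rfl, rfl⟩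
        · -- 34=(0,0)
          exfalso; omega
        · -- 34=(1,1)
          exact False.elim (cert_false T ((skipEmb 1).trans (Function.Embedding.refl _)) (by norm_num) (fun _ => hall _) (((((((LB_zero T ((skipEmb 1).trans (Function.Embedding.refl _))).upd 0 3 1 (le_of_eq hx04)).upd 1 3 1 (le_of_eq hx24)).upd 2 3 1 (le_of_eq hx34)).upd 3 0 1 (le_of_eq hx40)).upd 3 1 2 (le_of_eq hx42)).upd 3 2 1 (le_of_eq hx43)) ![1,1,1,2] (by decide) (by decide) 0 (by decide))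
        · -- 34=(1,2)
          exact False.elim (cert_false T ((skipEmb 1).trans (Function.Embedding.refl _)) (by norm_num) (fun _ => hall _) (((((LB_zero T ((skipEmb 1).trans (Function.Embedding.refl _))).upd 1 3 1 (le_of_eq hx24)).upd 2 3 1 (le_of_eq hx34)).upd 3 1 2 (le_of_eq hx42)).upd 3 2 2 (le_of_eq hx43)) ![0,1,1,2] (by decide) (by decide) 1 (by decide))
        · -- 34=(2,1)
          exact False.elim (cert_false T ((skipEmb 1).trans (Function.Embedding.refl _)) (by norm_num) (fun _ => hall _) (((((LB_zero T ((skipEmb 1).trans (Function.Embedding.refl _))).upd 1 3 1 (le_of_eq hx24)).upd 2 3 2 (le_of_eq hx34)).upd 3 1 2 (le_of_eq hx42)).upd 3 2 1 (le_of_eq hx43)) ![0,1,2,2] (by decide) (by decide) 1 (by decide))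
        · -- 34=(1,3)
          exact False.elim (cert_false T ((skipEmb 2).trans (Function.Embedding.refl _)) (by norm_num) (fun _ => hall _) (((((LB_zero T ((skipEmb 2).trans (Function.Embedding.refl _))).upd 0 3 1 (le_of_eq hx04)).upd 2 3 1 (le_of_eq hx34)).upd 3 0 1 (le_of_eq hx40)).upd 3 2 3 (le_of_eq hx43)) ![1,0,1,2] (by decide) (by decide) 0 (by decide))
        · -- 34=(3,1)
          exact False.elim (cert_false T ((skipEmb 2).trans (Function.Embedding.refl _)) (by norm_num) (fun _ => hall _) (((((LB_zero T ((skipEmb 2).trans (Function.Embedding.refl _))).upd 0 3 1 (le_of_eq hx04)).upd 2 3 3 (le_of_eq hx34)).upd 3 0 1 (le_of_eq hx40)).upd 3 2 1 (le_of_eq hx43)) ![1,0,3,2] (by decide) (by decide) 0 (by decide))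
      · -- 24=(2,1)
        rcases d34 with ⟨rfl, rfl⟩ | ⟨rfl, rfl⟩ | ⟨rfl, rfl⟩ | ⟨rfl, rfl⟩ | ⟨rfl, rfl⟩ | ⟨rfl, rfl⟩
        · -- 34=(0,0)
          exfalso; omega
        · -- 34=(1,1)
          exact False.elim (cert_false T ((skipEmb 1).trans (Function.Embedding.refl _)) (by norm_num) (fun _ => hall _) (((((((LB_zero T ((skipEmb 1).trans (Function.Embedding.refl _))).upd 0 3 1 (le_of_eq hx04)).upd 1 3 2 (le_of_eq hx24)).upd 2 3 1 (le_of_eq hx34)).upd 3 0 1 (le_of_eq hx40)).upd 3 1 1 (le_of_eq hx42)).upd 3 2 1 (le_of_eq hx43)) ![1,2,1,2] (by decide) (by decide) 0 (by decide))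
        · -- 34=(1,2)
          exact False.elim (cert_false T ((skipEmb 1).trans (Function.Embedding.refl _)) (by norm_num) (fun _ => hall _) (((((LB_zero T ((skipEmb 1).trans (Function.Embedding.refl _))).upd 1 3 2 (le_of_eq hx24)).upd 2 3 1 (le_of_eq hx34)).upd 3 1 1 (le_of_eq hx42)).upd 3 2 2 (le_of_eq hx43)) ![0,2,1,2] (by decide) (by decide) 1 (by decide))
        · -- 34=(2,1)
          exact False.elim (cert_false T ((skipEmb 1).trans (Function.Embedding.refl _)) (by norm_num) (fun _ => hall _) (((((LB_zero T ((skipEmb 1).trans (Function.Embedding.refl _))).upd 1 3 2 (le_of_eq hx24)).upd 2 3 2 (le_of_eq hx34)).upd 3 1 1 (le_of_eq hx42)).upd 3 2 1 (le_of_eq hx43)) ![0,1,1,1] (by decide) (by decide) 1 (by decide))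
        · -- 34=(1,3)
          exact False.elim (cert_false T ((skipEmb 2).trans (Function.Embedding.refl _)) (by norm_num) (fun _ => hall _) (((((LB_zero T ((skipEmb 2).trans (Function.Embedding.refl _))).upd 0 3 1 (le_of_eq hx04)).upd 2 3 1 (le_of_eq hx34)).upd 3 0 1 (le_of_eq hx40)).upd 3 2 3 (le_of_eq hx43)) ![1,0,1,2] (by decide) (by decide) 0 (by decide))
        · -- 34=(3,1)
          exact False.elim (cert_false T ((skipEmb 2).trans (Function.Embedding.refl _)) (by norm_num) (fun _ => hall _) (((((LB_zero T ((skipEmb 2).trans (Function.Embedding.refl _))).upd 0 3 1 (le_of_eq hx04)).upd 2 3 3 (le_of_eq hx34)).upd 3 0 1 (le_of_eq hx40)).upd 3 2 1 (le_of_eq hx43)) ![1,0,3,2] (by decide) (by decide) 0 (by decide))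
      · -- 24=(1,3)
        exact False.elim (cert_false T ((skipEmb 3).trans (Function.Embedding.refl _)) (by norm_num) (fun _ => hall _) (((((LB_zero T ((skipEmb 3).trans (Function.Embedding.refl _))).upd 0 3 1 (le_of_eq hx04)).upd 2 3 1 (le_of_eq hx24)).upd 3 0 1 (le_of_eq hx40)).upd 3 2 3 (le_of_eq hx42)) ![1,0,1,2] (by decide) (by decide) 0 (by decide))
      · -- 24=(3,1)
        exact False.elim (cert_false T ((skipEmb 3).trans (Function.Embedding.refl _)) (by norm_num) (fun _ => hall _) (((((LB_zero T ((skipEmb 3).trans (Function.Embedding.refl _))).upd 0 3 1 (le_of_eq hx04)).upd 2 3 3 (le_of_eq hx24)).upd 3 0 1 (le_of_eq hx40)).upd 3 2 1 (le_of_eq hx42)) ![1,0,3,2] (by decide) (by decide) 0 (by decide))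
    · -- 14=(1,1)
      exact False.elim (cert_false T ((skipEmb 3).trans (Function.Embedding.refl _)) (by norm_num) (fun _ => hall _) (((((((LB_zero T ((skipEmb 3).trans (Function.Embedding.refl _))).upd 0 1 1 (le_of_eq hx01)).upd 0 3 1 (le_of_eq hx04)).upd 1 0 1 (le_of_eq hx10)).upd 1 3 1 (le_of_eq hx14)).upd 3 0 1 (le_of_eq hx40)).upd 3 1 1 (le_of_eq hx41)) ![1,1,0,1] (by decide) (by decide) 0 (by decide))
    · -- 14=(1,2)
      exact False.elim (cert_false T ((skipEmb 3).trans (Function.Embedding.refl _)) (by norm_num) (fun _ => hall _) (((((((LB_zero T ((skipEmb 3).trans (Function.Embedding.refl _))).upd 0 1 1 (le_of_eq hx01)).upd 0 3 1 (le_of_eq hx04)).upd 1 0 1 (le_of_eq hx10)).upd 1 3 1 (le_of_eq hx14)).upd 3 0 1 (le_of_eq hx40)).upd 3 1 2 (le_of_eq hx41)) ![1,1,0,1] (by decide) (by decide) 0 (by decide))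
    · -- 14=(2,1)
      exact False.elim (cert_false T ((skipEmb 3).trans (Function.Embedding.refl _)) (by norm_num) (fun _ => hall _) (((((((LB_zero T ((skipEmb 3).trans (Function.Embedding.refl _))).upd 0 1 1 (le_of_eq hx01)).upd 0 3 1 (le_of_eq hx04)).upd 1 0 1 (le_of_eq hx10)).upd 1 3 2 (le_of_eq hx14)).upd 3 0 1 (le_of_eq hx40)).upd 3 1 1 (le_of_eq hx41)) ![1,1,0,1] (by decide) (by decide) 0 (by decide))
    · -- 14=(1,3)
      exact False.elim (cert_false T ((skipEmb 3).trans (Function.Embedding.refl _)) (by norm_num) (fun _ => hall _) (((((((LB_zero T ((skipEmb 3).trans (Function.Embedding.refl _))).upd 0 1 1 (le_of_eq hx01)).upd 0 3 1 (le_of_eq hx04)).upd 1 0 1 (le_of_eq hx10)).upd 1 3 1 (le_of_eq hx14)).upd 3 0 1 (le_of_eq hx40)).upd 3 1 3 (le_of_eq hx41)) ![1,1,0,1] (by decide) (by decide) 0 (by decide))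
    · -- 14=(3,1)
      exact False.elim (cert_false T ((skipEmb 3).trans (Function.Embedding.refl _)) (by norm_num) (fun _ => hall _) (((((((LB_zero T ((skipEmb 3).trans (Function.Embedding.refl _))).upd 0 1 1 (le_of_eq hx01)).upd 0 3 1 (le_of_eq hx04)).upd 1 0 1 (le_of_eq hx10)).upd 1 3 3 (le_of_eq hx14)).upd 3 0 1 (le_of_eq hx40)).upd 3 1 1 (le_of_eq hx41)) ![1,1,0,1] (by decide) (by decide) 0 (by decide))
  · -- 04=(1,2)
    rcases d14 with ⟨rfl, rfl⟩ | ⟨rfl, rfl⟩ | ⟨rfl, rfl⟩ | ⟨rfl, rfl⟩ | ⟨rfl, rfl⟩ | ⟨rfl, rfl⟩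
    · -- 14=(0,0)
      rcases d24 with ⟨rfl, rfl⟩ | ⟨rfl, rfl⟩ | ⟨rfl, rfl⟩ | ⟨rfl, rfl⟩ | ⟨rfl, rfl⟩ | ⟨rfl, rfl⟩
      · -- 24=(0,0)
        rcases d34 with ⟨rfl, rfl⟩ | ⟨rfl, rfl⟩ | ⟨rfl, rfl⟩ | ⟨rfl, rfl⟩ | ⟨rfl, rfl⟩ | ⟨rfl, rfl⟩
        · -- 34=(0,0)
          exfalso; omega
        · -- 34=(1,1)
          exfalso; omega
        · -- 34=(1,2)
          exact False.elim (cert_false T ((skipEmb 2).trans (Function.Embedding.refl _)) (by norm_num) (fun _ => hall _) (((((LB_zero T ((skipEmb 2).trans (Function.Embedding.refl _))).upd 0 3 1 (le_of_eq hx04)).upd 2 3 1 (le_of_eq hx34)).upd 3 0 2 (le_of_eq hx40)).upd 3 2 2 (le_of_eq hx43)) ![1,0,1,2] (by decide) (by decide) 0 (by decide))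
        · -- 34=(2,1)
          exact False.elim (cert_false T ((skipEmb 2).trans (Function.Embedding.refl _)) (by norm_num) (fun _ => hall _) (((((LB_zero T ((skipEmb 2).trans (Function.Embedding.refl _))).upd 0 3 1 (le_of_eq hx04)).upd 2 3 2 (le_of_eq hx34)).upd 3 0 2 (le_of_eq hx40)).upd 3 2 1 (le_of_eq hx43)) ![1,0,2,2] (by decide) (by decide) 0 (by decide))
        · -- 34=(1,3)
          exact False.elim (cert_false T ((skipEmb 2).trans (Function.Embedding.refl _)) (by norm_num) (fun _ => hall _) (((((LB_zero T ((skipEmb 2).trans (Function.Embedding.refl _))).upd 0 3 1 (le_of_eq hx04)).upd 2 3 1 (le_of_eq hx34)).upd 3 0 2 (le_of_eq hx40)).upd 3 2 3 (le_of_eq hx43)) ![1,0,1,2] (by decide) (by decide) 0 (by decide))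
        · -- 34=(3,1)
          exact False.elim (cert_false T ((skipEmb 2).trans (Function.Embedding.refl _)) (by norm_num) (fun _ => hall _) (((((LB_zero T ((skipEmb 2).trans (Function.Embedding.refl _))).upd 0 3 1 (le_of_eq hx04)).upd 2 3 3 (le_of_eq hx34)).upd 3 0 2 (le_of_eq hx40)).upd 3 2 1 (le_of_eq hx43)) ![1,0,2,2] (by decide) (by decide) 0 (by decide))
      · -- 24=(1,1)
        rcases d34 with ⟨rfl, rfl⟩ | ⟨rfl, rfl⟩ | ⟨rfl, rfl⟩ | ⟨rfl, rfl⟩ | ⟨rfl, rfl⟩ | ⟨rfl, rfl⟩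
        · -- 34=(0,0)
          exfalso; omega
        · -- 34=(1,1)
          exact False.elim (cert_false T ((skipEmb 1).trans (Function.Embedding.refl _)) (by norm_num) (fun _ => hall _) (((((((LB_zero T ((skipEmb 1).trans (Function.Embedding.refl _))).upd 0 3 1 (le_of_eq hx04)).upd 1 3 1 (le_of_eq hx24)).upd 2 3 1 (le_of_eq hx34)).upd 3 0 2 (le_of_eq hx40)).upd 3 1 1 (le_of_eq hx42)).upd 3 2 1 (le_of_eq hx43)) ![1,1,1,2] (by decide) (by decide) 0 (by decide))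
        · -- 34=(1,2)
          exact False.elim (cert_false T ((skipEmb 2).trans (Function.Embedding.refl _)) (by norm_num) (fun _ => hall _) (((((LB_zero T ((skipEmb 2).trans (Function.Embedding.refl _))).upd 0 3 1 (le_of_eq hx04)).upd 2 3 1 (le_of_eq hx34)).upd 3 0 2 (le_of_eq hx40)).upd 3 2 2 (le_of_eq hx43)) ![1,0,1,2] (by decide) (by decide) 0 (by decide))
        · -- 34=(2,1)
          exact False.elim (cert_false T ((skipEmb 2).trans (Function.Embedding.refl _)) (by norm_num) (fun _ => hall _) (((((LB_zero T ((skipEmb 2).trans (Function.Embedding.refl _))).upd 0 3 1 (le_of_eq hx04)).upd 2 3 2 (le_of_eq hx34)).upd 3 0 2 (le_of_eq hx40)).upd 3 2 1 (le_of_eq hx43)) ![1,0,2,2] (by decide) (by decide) 0 (by decide))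
        · -- 34=(1,3)
          exact False.elim (cert_false T ((skipEmb 2).trans (Function.Embedding.refl _)) (by norm_num) (fun _ => hall _) (((((LB_zero T ((skipEmb 2).trans (Function.Embedding.refl _))).upd 0 3 1 (le_of_eq hx04)).upd 2 3 1 (le_of_eq hx34)).upd 3 0 2 (le_of_eq hx40)).upd 3 2 3 (le_of_eq hx43)) ![1,0,1,2] (by decide) (by decide) 0 (by decide))
        · -- 34=(3,1)
          exact False.elim (cert_false T ((skipEmb 2).trans (Function.Embedding.refl _)) (by norm_num) (fun _ => hall _) (((((LB_zero T ((skipEmb 2).trans (Function.Embedding.refl _))).upd 0 3 1 (le_of_eq hx04)).upd 2 3 3 (le_of_eq hx34)).upd 3 0 2 (le_of_eq hx40)).upd 3 2 1 (le_of_eq hx43)) ![1,0,2,2] (by decide) (by decide) 0 (by decide))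
      · -- 24=(1,2)
        exact False.elim (cert_false T ((skipEmb 3).trans (Function.Embedding.refl _)) (by norm_num) (fun _ => hall _) (((((LB_zero T ((skipEmb 3).trans (Function.Embedding.refl _))).upd 0 3 1 (le_of_eq hx04)).upd 2 3 1 (le_of_eq hx24)).upd 3 0 2 (le_of_eq hx40)).upd 3 2 2 (le_of_eq hx42)) ![1,0,1,2] (by decide) (by decide) 0 (by decide))
      · -- 24=(2,1)
        exact False.elim (cert_false T ((skipEmb 3).trans (Function.Embedding.refl _)) (by norm_num) (fun _ => hall _) (((((LB_zero T ((skipEmb 3).trans (Function.Embedding.refl _))).upd 0 3 1 (le_of_eq hx04)).upd 2 3 2 (le_of_eq hx24)).upd 3 0 2 (le_of_eq hx40)).upd 3 2 1 (le_of_eq hx42)) ![1,0,2,2] (by decide) (by decide) 0 (by decide))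
      · -- 24=(1,3)
        exact False.elim (cert_false T ((skipEmb 3).trans (Function.Embedding.refl _)) (by norm_num) (fun _ => hall _) (((((LB_zero T ((skipEmb 3).trans (Function.Embedding.refl _))).upd 0 3 1 (le_of_eq hx04)).upd 2 3 1 (le_of_eq hx24)).upd 3 0 2 (le_of_eq hx40)).upd 3 2 3 (le_of_eq hx42)) ![1,0,1,2] (by decide) (by decide) 0 (by decide))
      · -- 24=(3,1)
        exact False.elim (cert_false T ((skipEmb 3).trans (Function.Embedding.refl _)) (by norm_num) (fun _ => hall _) (((((LB_zero T ((skipEmb 3).trans (Function.Embedding.refl _))).upd 0 3 1 (le_of_eq hx04)).upd 2 3 3 (le_of_eq hx24)).upd 3 0 2 (le_of_eq hx40)).upd 3 2 1 (le_of_eq hx42)) ![1,0,2,2] (by decide) (by decide) 0 (by decide))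
    · -- 14=(1,1)
      exact False.elim (cert_false T ((skipEmb 3).trans (Function.Embedding.refl _)) (by norm_num) (fun _ => hall _) (((((((LB_zero T ((skipEmb 3).trans (Function.Embedding.refl _))).upd 0 1 1 (le_of_eq hx01)).upd 0 3 1 (le_of_eq hx04)).upd 1 0 1 (le_of_eq hx10)).upd 1 3 1 (le_of_eq hx14)).upd 3 0 2 (le_of_eq hx40)).upd 3 1 1 (le_of_eq hx41)) ![1,1,0,1] (by decide) (by decide) 0 (by decide))
    · -- 14=(1,2)
      exact False.elim (cert_false T ((skipEmb 3).trans (Function.Embedding.refl _)) (by norm_num) (fun _ => hall _) (((((((LB_zero T ((skipEmb 3).trans (Function.Embedding.refl _))).upd 0 1 1 (le_of_eq hx01)).upd 0 3 1 (le_of_eq hx04)).upd 1 0 1 (le_of_eq hx10)).upd 1 3 1 (le_of_eq hx14)).upd 3 0 2 (le_of_eq hx40)).upd 3 1 2 (le_of_eq hx41)) ![1,1,0,1] (by decide) (by decide) 0 (by decide))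
    · -- 14=(2,1)
      exact False.elim (cert_false T ((skipEmb 3).trans (Function.Embedding.refl _)) (by norm_num) (fun _ => hall _) (((((((LB_zero T ((skipEmb 3).trans (Function.Embedding.refl _))).upd 0 1 1 (le_of_eq hx01)).upd 0 3 1 (le_of_eq hx04)).upd 1 0 1 (le_of_eq hx10)).upd 1 3 2 (le_of_eq hx14)).upd 3 0 2 (le_of_eq hx40)).upd 3 1 1 (le_of_eq hx41)) ![1,1,0,1] (by decide) (by decide) 0 (by decide))
    · -- 14=(1,3)
      exact False.elim (cert_false T ((skipEmb 3).trans (Function.Embedding.refl _)) (by norm_num) (fun _ => hall _) (((((((LB_zero T ((skipEmb 3).trans (Function.Embedding.refl _))).upd 0 1 1 (le_of_eq hx01)).upd 0 3 1 (le_of_eq hx04)).upd 1 0 1 (le_of_eq hx10)).upd 1 3 1 (le_of_eq hx14)).upd 3 0 2 (le_of_eq hx40)).upd 3 1 3 (le_of_eq hx41)) ![1,1,0,1] (by decide) (by decide) 0 (by decide))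
    · -- 14=(3,1)
      exact False.elim (cert_false T ((skipEmb 3).trans (Function.Embedding.refl _)) (by norm_num) (fun _ => hall _) (((((((LB_zero T ((skipEmb 3).trans (Function.Embedding.refl _))).upd 0 1 1 (le_of_eq hx01)).upd 0 3 1 (le_of_eq hx04)).upd 1 0 1 (le_of_eq hx10)).upd 1 3 3 (le_of_eq hx14)).upd 3 0 2 (le_of_eq hx40)).upd 3 1 1 (le_of_eq hx41)) ![1,1,0,1] (by decide) (by decide) 0 (by decide))
  · -- 04=(2,1)
    rcases d14 with ⟨rfl, rfl⟩ | ⟨rfl, rfl⟩ | ⟨rfl, rfl⟩ | ⟨rfl, rfl⟩ | ⟨rfl, rfl⟩ | ⟨rfl, rfl⟩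
    · -- 14=(0,0)
      rcases d24 with ⟨rfl, rfl⟩ | ⟨rfl, rfl⟩ | ⟨rfl, rfl⟩ | ⟨rfl, rfl⟩ | ⟨rfl, rfl⟩ | ⟨rfl, rfl⟩
      · -- 24=(0,0)
        rcases d34 with ⟨rfl, rfl⟩ | ⟨rfl, rfl⟩ | ⟨rfl, rfl⟩ | ⟨rfl, rfl⟩ | ⟨rfl, rfl⟩ | ⟨rfl, rfl⟩
        · -- 34=(0,0)
          exfalso; omega
        · -- 34=(1,1)
          exfalso; omega
        · -- 34=(1,2)
          exact False.elim (cert_false T ((skipEmb 2).trans (Function.Embedding.refl _)) (by norm_num) (fun _ => hall _) (((((LB_zero T ((skipEmb 2).trans (Function.Embedding.refl _))).upd 0 3 2 (le_of_eq hx04)).upd 2 3 1 (le_of_eq hx34)).upd 3 0 1 (le_of_eq hx40)).upd 3 2 2 (le_of_eq hx43)) ![2,0,1,2] (by decide) (by decide) 0 (by decide))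
        · -- 34=(2,1)
          exact False.elim (cert_false T ((skipEmb 2).trans (Function.Embedding.refl _)) (by norm_num) (fun _ => hall _) (((((LB_zero T ((skipEmb 2).trans (Function.Embedding.refl _))).upd 0 3 2 (le_of_eq hx04)).upd 2 3 2 (le_of_eq hx34)).upd 3 0 1 (le_of_eq hx40)).upd 3 2 1 (le_of_eq hx43)) ![1,0,1,1] (by decide) (by decide) 0 (by decide))
        · -- 34=(1,3)
          exact False.elim (cert_false T ((skipEmb 2).trans (Function.Embedding.refl _)) (by norm_num) (fun _ => hall _) (((((LB_zero T ((skipEmb 2).trans (Function.Embedding.refl _))).upd 0 3 2 (le_of_eq hx04)).upd 2 3 1 (le_of_eq hx34)).upd 3 0 1 (le_of_eq hx40)).upd 3 2 3 (le_of_eq hx43)) ![1,0,1,2] (by decide) (by decide) 0 (by decide))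
        · -- 34=(3,1)
          exact False.elim (cert_false T ((skipEmb 2).trans (Function.Embedding.refl _)) (by norm_num) (fun _ => hall _) (((((LB_zero T ((skipEmb 2).trans (Function.Embedding.refl _))).upd 0 3 2 (le_of_eq hx04)).upd 2 3 3 (le_of_eq hx34)).upd 3 0 1 (le_of_eq hx40)).upd 3 2 1 (le_of_eq hx43)) ![1,0,1,1] (by decide) (by decide) 0 (by decide))
      · -- 24=(1,1)
        rcases d34 with ⟨rfl, rfl⟩ | ⟨rfl, rfl⟩ | ⟨rfl, rfl⟩ | ⟨rfl, rfl⟩ | ⟨rfl, rfl⟩ | ⟨rfl, rfl⟩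
        · -- 34=(0,0)
          exfalso; omega
        · -- 34=(1,1)
          exact False.elim (cert_false T ((skipEmb 1).trans (Function.Embedding.refl _)) (by norm_num) (fun _ => hall _) (((((((LB_zero T ((skipEmb 1).trans (Function.Embedding.refl _))).upd 0 3 2 (le_of_eq hx04)).upd 1 3 1 (le_of_eq hx24)).upd 2 3 1 (le_of_eq hx34)).upd 3 0 1 (le_of_eq hx40)).upd 3 1 1 (le_of_eq hx42)).upd 3 2 1 (le_of_eq hx43)) ![2,1,1,2] (by decide) (by decide) 0 (by decide))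
        · -- 34=(1,2)
          exact False.elim (cert_false T ((skipEmb 2).trans (Function.Embedding.refl _)) (by norm_num) (fun _ => hall _) (((((LB_zero T ((skipEmb 2).trans (Function.Embedding.refl _))).upd 0 3 2 (le_of_eq hx04)).upd 2 3 1 (le_of_eq hx34)).upd 3 0 1 (le_of_eq hx40)).upd 3 2 2 (le_of_eq hx43)) ![2,0,1,2] (by decide) (by decide) 0 (by decide))
        · -- 34=(2,1)
          exact False.elim (cert_false T ((skipEmb 2).trans (Function.Embedding.refl _)) (by norm_num) (fun _ => hall _) (((((LB_zero T ((skipEmb 2).trans (Function.Embedding.refl _))).upd 0 3 2 (le_of_eq hx04)).upd 2 3 2 (le_of_eq hx34)).upd 3 0 1 (le_of_eq hx40)).upd 3 2 1 (le_of_eq hx43)) ![1,0,1,1] (by decide) (by decide) 0 (by decide))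
        · -- 34=(1,3)
          exact False.elim (cert_false T ((skipEmb 2).trans (Function.Embedding.refl _)) (by norm_num) (fun _ => hall _) (((((LB_zero T ((skipEmb 2).trans (Function.Embedding.refl _))).upd 0 3 2 (le_of_eq hx04)).upd 2 3 1 (le_of_eq hx34)).upd 3 0 1 (le_of_eq hx40)).upd 3 2 3 (le_of_eq hx43)) ![1,0,1,2] (by decide) (by decide) 0 (by decide))
        · -- 34=(3,1)
          exact False.elim (cert_false T ((skipEmb 2).trans (Function.Embedding.refl _)) (by norm_num) (fun _ => hall _) (((((LB_zero T ((skipEmb 2).trans (Function.Embedding.refl _))).upd 0 3 2 (le_of_eq hx04)).upd 2 3 3 (le_of_eq hx34)).upd 3 0 1 (le_of_eq hx40)).upd 3 2 1 (le_of_eq hx43)) ![1,0,1,1] (by decide) (by decide) 0 (by decide))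
      · -- 24=(1,2)
        exact False.elim (cert_false T ((skipEmb 3).trans (Function.Embedding.refl _)) (by norm_num) (fun _ => hall _) (((((LB_zero T ((skipEmb 3).trans (Function.Embedding.refl _))).upd 0 3 2 (le_of_eq hx04)).upd 2 3 1 (le_of_eq hx24)).upd 3 0 1 (le_of_eq hx40)).upd 3 2 2 (le_of_eq hx42)) ![2,0,1,2] (by decide) (by decide) 0 (by decide))
      · -- 24=(2,1)
        exact False.elim (cert_false T ((skipEmb 3).trans (Function.Embedding.refl _)) (by norm_num) (fun _ => hall _) (((((LB_zero T ((skipEmb 3).trans (Function.Embedding.refl _))).upd 0 3 2 (le_of_eq hx04)).upd 2 3 2 (le_of_eq hx24)).upd 3 0 1 (le_of_eq hx40)).upd 3 2 1 (le_of_eq hx42)) ![1,0,1,1] (by decide) (by decide) 0 (by decide))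
      · -- 24=(1,3)
        exact False.elim (cert_false T ((skipEmb 3).trans (Function.Embedding.refl _)) (by norm_num) (fun _ => hall _) (((((LB_zero T ((skipEmb 3).trans (Function.Embedding.refl _))).upd 0 3 2 (le_of_eq hx04)).upd 2 3 1 (le_of_eq hx24)).upd 3 0 1 (le_of_eq hx40)).upd 3 2 3 (le_of_eq hx42)) ![1,0,1,2] (by decide) (by decide) 0 (by decide))
      · -- 24=(3,1)
        exact False.elim (cert_false T ((skipEmb 3).trans (Function.Embedding.refl _)) (by norm_num) (fun _ => hall _) (((((LB_zero T ((skipEmb 3).trans (Function.Embedding.refl _))).upd 0 3 2 (le_of_eq hx04)).upd 2 3 3 (le_of_eq hx24)).upd 3 0 1 (le_of_eq hx40)).upd 3 2 1 (le_of_eq hx42)) ![1,0,1,1] (by decide) (by decide) 0 (by decide))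
    · -- 14=(1,1)
      exact False.elim (cert_false T ((skipEmb 3).trans (Function.Embedding.refl _)) (by norm_num) (fun _ => hall _) (((((((LB_zero T ((skipEmb 3).trans (Function.Embedding.refl _))).upd 0 1 1 (le_of_eq hx01)).upd 0 3 2 (le_of_eq hx04)).upd 1 0 1 (le_of_eq hx10)).upd 1 3 1 (le_of_eq hx14)).upd 3 0 1 (le_of_eq hx40)).upd 3 1 1 (le_of_eq hx41)) ![1,1,0,1] (by decide) (by decide) 0 (by decide))
    · -- 14=(1,2)
      exact False.elim (cert_false T ((skipEmb 3).trans (Function.Embedding.refl _)) (by norm_num) (fun _ => hall _) (((((((LB_zero T ((skipEmb 3).trans (Function.Embedding.refl _))).upd 0 1 1 (le_of_eq hx01)).upd 0 3 2 (le_of_eq hx04)).upd 1 0 1 (le_of_eq hx10)).upd 1 3 1 (le_of_eq hx14)).upd 3 0 1 (le_of_eq hx40)).upd 3 1 2 (le_of_eq hx41)) ![1,1,0,1] (by decide) (by decide) 0 (by decide))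
    · -- 14=(2,1)
      exact False.elim (cert_false T ((skipEmb 3).trans (Function.Embedding.refl _)) (by norm_num) (fun _ => hall _) (((((((LB_zero T ((skipEmb 3).trans (Function.Embedding.refl _))).upd 0 1 1 (le_of_eq hx01)).upd 0 3 2 (le_of_eq hx04)).upd 1 0 1 (le_of_eq hx10)).upd 1 3 2 (le_of_eq hx14)).upd 3 0 1 (le_of_eq hx40)).upd 3 1 1 (le_of_eq hx41)) ![1,1,0,1] (by decide) (by decide) 0 (by decide))
    · -- 14=(1,3)
      exact False.elim (cert_false T ((skipEmb 3).trans (Function.Embedding.refl _)) (by norm_num) (fun _ => hall _) (((((((LB_zero T ((skipEmb 3).trans (Function.Embedding.refl _))).upd 0 1 1 (le_of_eq hx01)).upd 0 3 2 (le_of_eq hx04)).upd 1 0 1 (le_of_eq hx10)).upd 1 3 1 (le_of_eq hx14)).upd 3 0 1 (le_of_eq hx40)).upd 3 1 3 (le_of_eq hx41)) ![1,1,0,1] (by decide) (by decide) 0 (by decide))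
    · -- 14=(3,1)
      exact False.elim (cert_false T ((skipEmb 3).trans (Function.Embedding.refl _)) (by norm_num) (fun _ => hall _) (((((((LB_zero T ((skipEmb 3).trans (Function.Embedding.refl _))).upd 0 1 1 (le_of_eq hx01)).upd 0 3 2 (le_of_eq hx04)).upd 1 0 1 (le_of_eq hx10)).upd 1 3 3 (le_of_eq hx14)).upd 3 0 1 (le_of_eq hx40)).upd 3 1 1 (le_of_eq hx41)) ![1,1,0,1] (by decide) (by decide) 0 (by decide))
  · -- 04=(1,3)
    exact False.elim (cert_false T ((skipEmb 3).trans (Function.Embedding.refl _)) (by norm_num) (fun _ => hall _) (((((LB_zero T ((skipEmb 3).trans (Function.Embedding.refl _))).upd 0 1 1 (le_of_eq hx01)).upd 0 3 1 (le_of_eq hx04)).upd 1 0 1 (le_of_eq hx10)).upd 3 0 3 (le_of_eq hx40)) ![2,1,0,3] (by decide) (by decide) 0 (by decide))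
  · -- 04=(3,1)
    exact False.elim (cert_false T ((skipEmb 3).trans (Function.Embedding.refl _)) (by norm_num) (fun _ => hall _) (((((LB_zero T ((skipEmb 3).trans (Function.Embedding.refl _))).upd 0 1 1 (le_of_eq hx01)).upd 0 3 3 (le_of_eq hx04)).upd 1 0 1 (le_of_eq hx10)).upd 3 0 1 (le_of_eq hx40)) ![2,1,0,1] (by decide) (by decide) 0 (by decide))

theorem case357 (T : NumericalType 5) (hall : ∀ i, T.IsMinusTwo i) (d : SData T)
    (h01 : N T (Function.Embedding.refl _) 0 1 = 1) (h10 : N T (Function.Embedding.refl _) 1 0 = 1)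
    (h02 : N T (Function.Embedding.refl _) 0 2 = 0) (h20 : N T (Function.Embedding.refl _) 2 0 = 0)
    (h12 : N T (Function.Embedding.refl _) 1 2 = 0) (h21 : N T (Function.Embedding.refl _) 2 1 = 0)
    (h03 : N T (Function.Embedding.refl _) 0 3 = 0) (h30 : N T (Function.Embedding.refl _) 3 0 = 0)
    (h13 : N T (Function.Embedding.refl _) 1 3 = 0) (h31 : N T (Function.Embedding.refl _) 3 1 = 0)
    (h23 : N T (Function.Embedding.refl _) 2 3 = 1) (h32 : N T (Function.Embedding.refl _) 3 2 = 1)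
    (h04 : N T (Function.Embedding.refl _) 0 4 = 0) (h40 : N T (Function.Embedding.refl _) 4 0 = 0) :
    Goal T := by
  unfold Goal
  have hd := d
  obtain ⟨x01, x02, x03, x04, x10, x12, x13, x14, x20, x21, x23, x24, x30, x31, x32, x34, x40, x41, x42, x43, hx01, hx02, hx03, hx04, hx10, hx12, hx13, hx14, hx20, hx21, hx23, hx24, hx30, hx31, hx32, hx34, hx40, hx41, hx42, hx43, hw0, hm0, hw1, hm1, hw2, hm2, hw3, hm3, hw4, hm4, a00, a01, a02, a03, a04, a11, a10, a12, a13, a14, a22, a20, a21, a23, a24, a33, a30, a31, a32, a34, a44, a40, a41, a42, a43, wN01, wN02, wN12, wN03, wN13, wN23, wN04, wN14, wN24, wN34, e0, e1, e2, e3, e4, d01, d02, d12, d03, d13, d23, d04, d14, d24, d34⟩ := d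
  obtain rfl : x01 = 1 := hx01.trans h01
  obtain rfl : x10 = 1 := hx10.trans h10
  obtain rfl : x02 = 0 := hx02.trans h02
  obtain rfl : x20 = 0 := hx20.trans h20
  obtain rfl : x12 = 0 := hx12.trans h12
  obtain rfl : x21 = 0 := hx21.trans h21
  obtain rfl : x03 = 0 := hx03.trans h03
  obtain rfl : x30 = 0 := hx30.trans h30
  obtain rfl : x13 = 0 := hx13.trans h13
  obtain rfl : x31 = 0 := hx31.trans h31
  obtain rfl : x23 = 1 := hx23.trans h23
  obtain rfl : x32 = 1 := hx32.trans h32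
  obtain rfl : x04 = 0 := hx04.trans h04
  obtain rfl : x40 = 0 := hx40.trans h40
  rcases d14 with ⟨rfl, rfl⟩ | ⟨rfl, rfl⟩ | ⟨rfl, rfl⟩ | ⟨rfl, rfl⟩ | ⟨rfl, rfl⟩ | ⟨rfl, rfl⟩
  · -- 14=(0,0)
    rcases d24 with ⟨rfl, rfl⟩ | ⟨rfl, rfl⟩ | ⟨rfl, rfl⟩ | ⟨rfl, rfl⟩ | ⟨rfl, rfl⟩ | ⟨rfl, rfl⟩
    · -- 24=(0,0)
      rcases d34 with ⟨rfl, rfl⟩ | ⟨rfl, rfl⟩ | ⟨rfl, rfl⟩ | ⟨rfl, rfl⟩ | ⟨rfl, rfl⟩ | ⟨rfl, rfl⟩
      · -- 34=(0,0)
        exfalso; omega
      · -- 34=(1,1)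
        exfalso; omega
      · -- 34=(1,2)
        exfalso; omega
      · -- 34=(2,1)
        exfalso; omega
      · -- 34=(1,3)
        exact False.elim (cert_false T ((skipEmb 1).trans (Function.Embedding.refl _)) (by norm_num) (fun _ => hall _) (((((LB_zero T ((skipEmb 1).trans (Function.Embedding.refl _))).upd 1 2 1 (le_of_eq hx23)).upd 2 1 1 (le_of_eq hx32)).upd 2 3 1 (le_of_eq hx34)).upd 3 2 3 (le_of_eq hx43)) ![0,1,2,3] (by decide) (by decide) 1 (by decide))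
      · -- 34=(3,1)
        exact False.elim (cert_false T ((skipEmb 1).trans (Function.Embedding.refl _)) (by norm_num) (fun _ => hall _) (((((LB_zero T ((skipEmb 1).trans (Function.Embedding.refl _))).upd 1 2 1 (le_of_eq hx23)).upd 2 1 1 (le_of_eq hx32)).upd 2 3 3 (le_of_eq hx34)).upd 3 2 1 (le_of_eq hx43)) ![0,1,2,1] (by decide) (by decide) 1 (by decide))
    · -- 24=(1,1)
      rcases d34 with ⟨rfl, rfl⟩ | ⟨rfl, rfl⟩ | ⟨rfl, rfl⟩ | ⟨rfl, rfl⟩ | ⟨rfl, rfl⟩ | ⟨rfl, rfl⟩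
      · -- 34=(0,0)
        exfalso; omega
      · -- 34=(1,1)
        exact False.elim (cert_false T ((skipEmb 1).trans (Function.Embedding.refl _)) (by norm_num) (fun _ => hall _) (((((((LB_zero T ((skipEmb 1).trans (Function.Embedding.refl _))).upd 1 2 1 (le_of_eq hx23)).upd 1 3 1 (le_of_eq hx24)).upd 2 1 1 (le_of_eq hx32)).upd 2 3 1 (le_of_eq hx34)).upd 3 1 1 (le_of_eq hx42)).upd 3 2 1 (le_of_eq hx43)) ![0,1,1,1] (by decide) (by decide) 1 (by decide))
      · -- 34=(1,2)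
        exact False.elim (cert_false T ((skipEmb 1).trans (Function.Embedding.refl _)) (by norm_num) (fun _ => hall _) (((((((LB_zero T ((skipEmb 1).trans (Function.Embedding.refl _))).upd 1 2 1 (le_of_eq hx23)).upd 1 3 1 (le_of_eq hx24)).upd 2 1 1 (le_of_eq hx32)).upd 2 3 1 (le_of_eq hx34)).upd 3 1 1 (le_of_eq hx42)).upd 3 2 2 (le_of_eq hx43)) ![0,1,1,1] (by decide) (by decide) 1 (by decide))
      · -- 34=(2,1)
        exact False.elim (cert_false T ((skipEmb 1).trans (Function.Embedding.refl _)) (by norm_num) (fun _ => hall _) (((((((LB_zero T ((skipEmb 1).trans (Function.Embedding.refl _))).upd 1 2 1 (le_of_eq hx23)).upd 1 3 1 (le_of_eq hx24)).upd 2 1 1 (le_of_eq hx32)).upd 2 3 2 (le_of_eq hx34)).upd 3 1 1 (le_of_eq hx42)).upd 3 2 1 (le_of_eq hx43)) ![0,1,1,1] (by decide) (by decide) 1 (by decide))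
      · -- 34=(1,3)
        exact False.elim (cert_false T ((skipEmb 1).trans (Function.Embedding.refl _)) (by norm_num) (fun _ => hall _) (((((((LB_zero T ((skipEmb 1).trans (Function.Embedding.refl _))).upd 1 2 1 (le_of_eq hx23)).upd 1 3 1 (le_of_eq hx24)).upd 2 1 1 (le_of_eq hx32)).upd 2 3 1 (le_of_eq hx34)).upd 3 1 1 (le_of_eq hx42)).upd 3 2 3 (le_of_eq hx43)) ![0,1,1,1] (by decide) (by decide) 1 (by decide))
      · -- 34=(3,1)
        exact False.elim (cert_false T ((skipEmb 1).trans (Function.Embedding.refl _)) (by norm_num) (fun _ => hall _) (((((((LB_zero T ((skipEmb 1).trans (Function.Embedding.refl _))).upd 1 2 1 (le_of_eq hx23)).upd 1 3 1 (le_of_eq hx24)).upd 2 1 1 (le_of_eq hx32)).upd 2 3 3 (le_of_eq hx34)).upd 3 1 1 (le_of_eq hx42)).upd 3 2 1 (le_of_eq hx43)) ![0,1,1,1] (by decide) (by decide) 1 (by decide))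
    · -- 24=(1,2)
      rcases d34 with ⟨rfl, rfl⟩ | ⟨rfl, rfl⟩ | ⟨rfl, rfl⟩ | ⟨rfl, rfl⟩ | ⟨rfl, rfl⟩ | ⟨rfl, rfl⟩
      · -- 34=(0,0)
        exfalso; omega
      · -- 34=(1,1)
        exact False.elim (cert_false T ((skipEmb 1).trans (Function.Embedding.refl _)) (by norm_num) (fun _ => hall _) (((((((LB_zero T ((skipEmb 1).trans (Function.Embedding.refl _))).upd 1 2 1 (le_of_eq hx23)).upd 1 3 1 (le_of_eq hx24)).upd 2 1 1 (le_of_eq hx32)).upd 2 3 1 (le_of_eq hx34)).upd 3 1 2 (le_of_eq hx42)).upd 3 2 1 (le_of_eq hx43)) ![0,1,1,1] (by decide) (by decide) 1 (by decide))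
      · -- 34=(1,2)
        exact False.elim (cert_false T ((skipEmb 1).trans (Function.Embedding.refl _)) (by norm_num) (fun _ => hall _) (((((((LB_zero T ((skipEmb 1).trans (Function.Embedding.refl _))).upd 1 2 1 (le_of_eq hx23)).upd 1 3 1 (le_of_eq hx24)).upd 2 1 1 (le_of_eq hx32)).upd 2 3 1 (le_of_eq hx34)).upd 3 1 2 (le_of_eq hx42)).upd 3 2 2 (le_of_eq hx43)) ![0,1,1,1] (by decide) (by decide) 1 (by decide))
      · -- 34=(2,1)
        exact False.elim (cert_false T ((skipEmb 1).trans (Function.Embedding.refl _)) (by norm_num) (fun _ => hall _) (((((((LB_zero T ((skipEmb 1).trans (Function.Embedding.refl _))).upd 1 2 1 (le_of_eq hx23)).upd 1 3 1 (le_of_eq hx24)).upd 2 1 1 (le_of_eq hx32)).upd 2 3 2 (le_of_eq hx34)).upd 3 1 2 (le_of_eq hx42)).upd 3 2 1 (le_of_eq hx43)) ![0,1,1,1] (by decide) (by decide) 1 (by decide))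
      · -- 34=(1,3)
        exact False.elim (cert_false T ((skipEmb 1).trans (Function.Embedding.refl _)) (by norm_num) (fun _ => hall _) (((((((LB_zero T ((skipEmb 1).trans (Function.Embedding.refl _))).upd 1 2 1 (le_of_eq hx23)).upd 1 3 1 (le_of_eq hx24)).upd 2 1 1 (le_of_eq hx32)).upd 2 3 1 (le_of_eq hx34)).upd 3 1 2 (le_of_eq hx42)).upd 3 2 3 (le_of_eq hx43)) ![0,1,1,1] (by decide) (by decide) 1 (by decide))
      · -- 34=(3,1)
        exact False.elim (cert_false T ((skipEmb 1).trans (Function.Embedding.refl _)) (by norm_num) (fun _ => hall _) (((((((LB_zero T ((skipEmb 1).trans (Function.Embedding.refl _))).upd 1 2 1 (le_of_eq hx23)).upd 1 3 1 (le_of_eq hx24)).upd 2 1 1 (le_of_eq hx32)).upd 2 3 3 (le_of_eq hx34)).upd 3 1 2 (le_of_eq hx42)).upd 3 2 1 (le_of_eq hx43)) ![0,1,1,1] (by decide) (by decide) 1 (by decide))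
    · -- 24=(2,1)
      rcases d34 with ⟨rfl, rfl⟩ | ⟨rfl, rfl⟩ | ⟨rfl, rfl⟩ | ⟨rfl, rfl⟩ | ⟨rfl, rfl⟩ | ⟨rfl, rfl⟩
      · -- 34=(0,0)
        exfalso; omega
      · -- 34=(1,1)
        exact False.elim (cert_false T ((skipEmb 1).trans (Function.Embedding.refl _)) (by norm_num) (fun _ => hall _) (((((((LB_zero T ((skipEmb 1).trans (Function.Embedding.refl _))).upd 1 2 1 (le_of_eq hx23)).upd 1 3 2 (le_of_eq hx24)).upd 2 1 1 (le_of_eq hx32)).upd 2 3 1 (le_of_eq hx34)).upd 3 1 1 (le_of_eq hx42)).upd 3 2 1 (le_of_eq hx43)) ![0,1,1,1] (by decide) (by decide) 1 (by decide))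
      · -- 34=(1,2)
        exact False.elim (cert_false T ((skipEmb 1).trans (Function.Embedding.refl _)) (by norm_num) (fun _ => hall _) (((((((LB_zero T ((skipEmb 1).trans (Function.Embedding.refl _))).upd 1 2 1 (le_of_eq hx23)).upd 1 3 2 (le_of_eq hx24)).upd 2 1 1 (le_of_eq hx32)).upd 2 3 1 (le_of_eq hx34)).upd 3 1 1 (le_of_eq hx42)).upd 3 2 2 (le_of_eq hx43)) ![0,1,1,1] (by decide) (by decide) 1 (by decide))
      · -- 34=(2,1)
        exact False.elim (cert_false T ((skipEmb 1).trans (Function.Embedding.refl _)) (by norm_num) (fun _ => hall _) (((((((LB_zero T ((skipEmb 1).trans (Function.Embedding.refl _))).upd 1 2 1 (le_of_eq hx23)).upd 1 3 2 (le_of_eq hx24)).upd 2 1 1 (le_of_eq hx32)).upd 2 3 2 (le_of_eq hx34)).upd 3 1 1 (le_of_eq hx42)).upd 3 2 1 (le_of_eq hx43)) ![0,1,1,1] (by decide) (by decide) 1 (by decide))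
      · -- 34=(1,3)
        exact False.elim (cert_false T ((skipEmb 1).trans (Function.Embedding.refl _)) (by norm_num) (fun _ => hall _) (((((((LB_zero T ((skipEmb 1).trans (Function.Embedding.refl _))).upd 1 2 1 (le_of_eq hx23)).upd 1 3 2 (le_of_eq hx24)).upd 2 1 1 (le_of_eq hx32)).upd 2 3 1 (le_of_eq hx34)).upd 3 1 1 (le_of_eq hx42)).upd 3 2 3 (le_of_eq hx43)) ![0,1,1,1] (by decide) (by decide) 1 (by decide))
      · -- 34=(3,1)
        exact False.elim (cert_false T ((skipEmb 1).trans (Function.Embedding.refl _)) (by norm_num) (fun _ => hall _) (((((((LB_zero T ((skipEmb 1).trans (Function.Embedding.refl _))).upd 1 2 1 (le_of_eq hx23)).upd 1 3 2 (le_of_eq hx24)).upd 2 1 1 (le_of_eq hx32)).upd 2 3 3 (le_of_eq hx34)).upd 3 1 1 (le_of_eq hx42)).upd 3 2 1 (le_of_eq hx43)) ![0,1,1,1] (by decide) (by decide) 1 (by decide))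
    · -- 24=(1,3)
      exact False.elim (cert_false T ((skipEmb 1).trans (Function.Embedding.refl _)) (by norm_num) (fun _ => hall _) (((((LB_zero T ((skipEmb 1).trans (Function.Embedding.refl _))).upd 1 2 1 (le_of_eq hx23)).upd 1 3 1 (le_of_eq hx24)).upd 2 1 1 (le_of_eq hx32)).upd 3 1 3 (le_of_eq hx42)) ![0,2,1,3] (by decide) (by decide) 1 (by decide))
    · -- 24=(3,1)
      exact False.elim (cert_false T ((skipEmb 1).trans (Function.Embedding.refl _)) (by norm_num) (fun _ => hall _) (((((LB_zero T ((skipEmb 1).trans (Function.Embedding.refl _))).upd 1 2 1 (le_of_eq hx23)).upd 1 3 3 (le_of_eq hx24)).upd 2 1 1 (le_of_eq hx32)).upd 3 1 1 (le_of_eq hx42)) ![0,2,1,1] (by decide) (by decide) 1 (by decide))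
  · -- 14=(1,1)
    rcases d24 with ⟨rfl, rfl⟩ | ⟨rfl, rfl⟩ | ⟨rfl, rfl⟩ | ⟨rfl, rfl⟩ | ⟨rfl, rfl⟩ | ⟨rfl, rfl⟩
    · -- 24=(0,0)
      rcases d34 with ⟨rfl, rfl⟩ | ⟨rfl, rfl⟩ | ⟨rfl, rfl⟩ | ⟨rfl, rfl⟩ | ⟨rfl, rfl⟩ | ⟨rfl, rfl⟩
      · -- 34=(0,0)
        exfalso; omega
      · -- 34=(1,1)
        exfalso; omega
      · -- 34=(1,2)
        refine ⟨(⟨![0, 1, 4, 3, 2], ![0, 1, 4, 3, 2], by decide, by decide⟩ : Equiv.Perm (Fin 5)), T.m 0, T.w 0, Or.inr (Or.inl ?_)⟩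
        show T.m 0 = T.m 0 ∧ T.m 1 = 2 * T.m 0 ∧ T.m 4 = 3 * T.m 0 ∧ T.m 3 = 2 * T.m 0 ∧ T.m 2 = T.m 0 ∧ T.w 0 = T.w 0 ∧ T.w 1 = T.w 0 ∧ T.w 4 = T.w 0 ∧ T.w 3 = 2 * T.w 0 ∧ T.w 2 = 2 * T.w 0 ∧ T.a 0 0 = -2 * T.w 0 ∧ T.a 0 1 = T.w 0 ∧ T.a 0 4 = 0 ∧ T.a 0 3 = 0 ∧ T.a 0 2 = 0 ∧ T.a 1 1 = -2 * T.w 0 ∧ T.a 1 4 = T.w 0 ∧ T.a 1 3 = 0 ∧ T.a 1 2 = 0 ∧ T.a 4 4 = -2 * T.w 0 ∧ T.a 4 3 = 2 * T.w 0 ∧ T.a 4 2 = 0 ∧ T.a 3 3 = -4 * T.w 0 ∧ T.a 3 2 = 2 * T.w 0 ∧ T.a 2 2 = -4 * T.w 0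
        refine ⟨?_, ?_, ?_, ?_, ?_, ?_, ?_, ?_, ?_, ?_, ?_, ?_, ?_, ?_, ?_, ?_, ?_, ?_, ?_, ?_, ?_, ?_, ?_, ?_, ?_⟩ <;> omega
      · -- 34=(2,1)
        refine ⟨(⟨![0, 1, 4, 3, 2], ![0, 1, 4, 3, 2], by decide, by decide⟩ : Equiv.Perm (Fin 5)), T.m 0, T.w 3, Or.inr (Or.inr (Or.inl ?_))⟩
        show T.m 0 = T.m 0 ∧ T.m 1 = 2 * T.m 0 ∧ T.m 4 = 3 * T.m 0 ∧ T.m 3 = 4 * T.m 0 ∧ T.m 2 = 2 * T.m 0 ∧ T.w 0 = 2 * T.w 3 ∧ T.w 1 = 2 * T.w 3 ∧ T.w 4 = 2 * T.w 3 ∧ T.w 3 = T.w 3 ∧ T.w 2 = T.w 3 ∧ T.a 0 0 = -4 * T.w 3 ∧ T.a 0 1 = 2 * T.w 3 ∧ T.a 0 4 = 0 ∧ T.a 0 3 = 0 ∧ T.a 0 2 = 0 ∧ T.a 1 1 = -4 * T.w 3 ∧ T.a 1 4 = 2 * T.w 3 ∧ T.a 1 3 = 0 ∧ T.a 1 2 = 0 ∧ T.a 4 4 = -4 * T.w 3 ∧ T.a 4 3 = 2 * T.w 3 ∧ T.a 4 2 = 0 ∧ T.a 3 3 = -2 * T.w 3 ∧ T.a 3 2 = T.w 3 ∧ T.a 2 2 = -2 * T.w 3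
        refine ⟨?_, ?_, ?_, ?_, ?_, ?_, ?_, ?_, ?_, ?_, ?_, ?_, ?_, ?_, ?_, ?_, ?_, ?_, ?_, ?_, ?_, ?_, ?_, ?_, ?_⟩ <;> omega
      · -- 34=(1,3)
        exact False.elim (cert_false T ((skipEmb 2).trans (Function.Embedding.refl _)) (by norm_num) (fun _ => hall _) (((((LB_zero T ((skipEmb 2).trans (Function.Embedding.refl _))).upd 1 3 1 (le_of_eq hx14)).upd 2 3 1 (le_of_eq hx34)).upd 3 1 1 (le_of_eq hx41)).upd 3 2 3 (le_of_eq hx43)) ![0,1,1,2] (by decide) (by decide) 1 (by decide))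
      · -- 34=(3,1)
        exact False.elim (cert_false T ((skipEmb 2).trans (Function.Embedding.refl _)) (by norm_num) (fun _ => hall _) (((((LB_zero T ((skipEmb 2).trans (Function.Embedding.refl _))).upd 1 3 1 (le_of_eq hx14)).upd 2 3 3 (le_of_eq hx34)).upd 3 1 1 (le_of_eq hx41)).upd 3 2 1 (le_of_eq hx43)) ![0,1,3,2] (by decide) (by decide) 1 (by decide))
    · -- 24=(1,1)
      rcases d34 with ⟨rfl, rfl⟩ | ⟨rfl, rfl⟩ | ⟨rfl, rfl⟩ | ⟨rfl, rfl⟩ | ⟨rfl, rfl⟩ | ⟨rfl, rfl⟩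
      · -- 34=(0,0)
        exfalso; omega
      · -- 34=(1,1)
        exact False.elim (cert_false T ((skipEmb 1).trans (Function.Embedding.refl _)) (by norm_num) (fun _ => hall _) (((((((LB_zero T ((skipEmb 1).trans (Function.Embedding.refl _))).upd 1 2 1 (le_of_eq hx23)).upd 1 3 1 (le_of_eq hx24)).upd 2 1 1 (le_of_eq hx32)).upd 2 3 1 (le_of_eq hx34)).upd 3 1 1 (le_of_eq hx42)).upd 3 2 1 (le_of_eq hx43)) ![0,1,1,1] (by decide) (by decide) 1 (by decide))
      · -- 34=(1,2)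
        exact False.elim (cert_false T ((skipEmb 1).trans (Function.Embedding.refl _)) (by norm_num) (fun _ => hall _) (((((((LB_zero T ((skipEmb 1).trans (Function.Embedding.refl _))).upd 1 2 1 (le_of_eq hx23)).upd 1 3 1 (le_of_eq hx24)).upd 2 1 1 (le_of_eq hx32)).upd 2 3 1 (le_of_eq hx34)).upd 3 1 1 (le_of_eq hx42)).upd 3 2 2 (le_of_eq hx43)) ![0,1,1,1] (by decide) (by decide) 1 (by decide))
      · -- 34=(2,1)
        exact False.elim (cert_false T ((skipEmb 1).trans (Function.Embedding.refl _)) (by norm_num) (fun _ => hall _) (((((((LB_zero T ((skipEmb 1).trans (Function.Embedding.refl _))).upd 1 2 1 (le_of_eq hx23)).upd 1 3 1 (le_of_eq hx24)).upd 2 1 1 (le_of_eq hx32)).upd 2 3 2 (le_of_eq hx34)).upd 3 1 1 (le_of_eq hx42)).upd 3 2 1 (le_of_eq hx43)) ![0,1,1,1] (by decide) (by decide) 1 (by decide))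
      · -- 34=(1,3)
        exact False.elim (cert_false T ((skipEmb 2).trans (Function.Embedding.refl _)) (by norm_num) (fun _ => hall _) (((((LB_zero T ((skipEmb 2).trans (Function.Embedding.refl _))).upd 1 3 1 (le_of_eq hx14)).upd 2 3 1 (le_of_eq hx34)).upd 3 1 1 (le_of_eq hx41)).upd 3 2 3 (le_of_eq hx43)) ![0,1,1,2] (by decide) (by decide) 1 (by decide))
      · -- 34=(3,1)
        exact False.elim (cert_false T ((skipEmb 2).trans (Function.Embedding.refl _)) (by norm_num) (fun _ => hall _) (((((LB_zero T ((skipEmb 2).trans (Function.Embedding.refl _))).upd 1 3 1 (le_of_eq hx14)).upd 2 3 3 (le_of_eq hx34)).upd 3 1 1 (le_of_eq hx41)).upd 3 2 1 (le_of_eq hx43)) ![0,1,3,2] (by decide) (by decide) 1 (by decide))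
    · -- 24=(1,2)
      rcases d34 with ⟨rfl, rfl⟩ | ⟨rfl, rfl⟩ | ⟨rfl, rfl⟩ | ⟨rfl, rfl⟩ | ⟨rfl, rfl⟩ | ⟨rfl, rfl⟩
      · -- 34=(0,0)
        refine ⟨(⟨![0, 1, 4, 2, 3], ![0, 1, 3, 4, 2], by decide, by decide⟩ : Equiv.Perm (Fin 5)), T.m 0, T.w 0, Or.inr (Or.inl ?_)⟩
        show T.m 0 = T.m 0 ∧ T.m 1 = 2 * T.m 0 ∧ T.m 4 = 3 * T.m 0 ∧ T.m 2 = 2 * T.m 0 ∧ T.m 3 = T.m 0 ∧ T.w 0 = T.w 0 ∧ T.w 1 = T.w 0 ∧ T.w 4 = T.w 0 ∧ T.w 2 = 2 * T.w 0 ∧ T.w 3 = 2 * T.w 0 ∧ T.a 0 0 = -2 * T.w 0 ∧ T.a 0 1 = T.w 0 ∧ T.a 0 4 = 0 ∧ T.a 0 2 = 0 ∧ T.a 0 3 = 0 ∧ T.a 1 1 = -2 * T.w 0 ∧ T.a 1 4 = T.w 0 ∧ T.a 1 2 = 0 ∧ T.a 1 3 = 0 ∧ T.a 4 4 = -2 * T.w 0 ∧ T.a 4 2 = 2 * T.w 0 ∧ T.a 4 3 = 0 ∧ T.a 2 2 = -4 * T.w 0 ∧ T.a 2 3 = 2 * T.w 0 ∧ T.a 3 3 = -4 * T.w 0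
        refine ⟨?_, ?_, ?_, ?_, ?_, ?_, ?_, ?_, ?_, ?_, ?_, ?_, ?_, ?_, ?_, ?_, ?_, ?_, ?_, ?_, ?_, ?_, ?_, ?_, ?_⟩ <;> omega
      · -- 34=(1,1)
        exact False.elim (cert_false T ((skipEmb 1).trans (Function.Embedding.refl _)) (by norm_num) (fun _ => hall _) (((((((LB_zero T ((skipEmb 1).trans (Function.Embedding.refl _))).upd 1 2 1 (le_of_eq hx23)).upd 1 3 1 (le_of_eq hx24)).upd 2 1 1 (le_of_eq hx32)).upd 2 3 1 (le_of_eq hx34)).upd 3 1 2 (le_of_eq hx42)).upd 3 2 1 (le_of_eq hx43)) ![0,1,1,1] (by decide) (by decide) 1 (by decide))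
      · -- 34=(1,2)
        exact False.elim (cert_false T ((skipEmb 1).trans (Function.Embedding.refl _)) (by norm_num) (fun _ => hall _) (((((((LB_zero T ((skipEmb 1).trans (Function.Embedding.refl _))).upd 1 2 1 (le_of_eq hx23)).upd 1 3 1 (le_of_eq hx24)).upd 2 1 1 (le_of_eq hx32)).upd 2 3 1 (le_of_eq hx34)).upd 3 1 2 (le_of_eq hx42)).upd 3 2 2 (le_of_eq hx43)) ![0,1,1,1] (by decide) (by decide) 1 (by decide))
      · -- 34=(2,1)
        exact False.elim (cert_false T ((skipEmb 1).trans (Function.Embedding.refl _)) (by norm_num) (fun _ => hall _) (((((((LB_zero T ((skipEmb 1).trans (Function.Embedding.refl _))).upd 1 2 1 (le_of_eq hx23)).upd 1 3 1 (le_of_eq hx24)).upd 2 1 1 (le_of_eq hx32)).upd 2 3 2 (le_of_eq hx34)).upd 3 1 2 (le_of_eq hx42)).upd 3 2 1 (le_of_eq hx43)) ![0,1,1,1] (by decide) (by decide) 1 (by decide))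
      · -- 34=(1,3)
        exact False.elim (cert_false T ((skipEmb 2).trans (Function.Embedding.refl _)) (by norm_num) (fun _ => hall _) (((((LB_zero T ((skipEmb 2).trans (Function.Embedding.refl _))).upd 1 3 1 (le_of_eq hx14)).upd 2 3 1 (le_of_eq hx34)).upd 3 1 1 (le_of_eq hx41)).upd 3 2 3 (le_of_eq hx43)) ![0,1,1,2] (by decide) (by decide) 1 (by decide))
      · -- 34=(3,1)
        exact False.elim (cert_false T ((skipEmb 2).trans (Function.Embedding.refl _)) (by norm_num) (fun _ => hall _) (((((LB_zero T ((skipEmb 2).trans (Function.Embedding.refl _))).upd 1 3 1 (le_of_eq hx14)).upd 2 3 3 (le_of_eq hx34)).upd 3 1 1 (le_of_eq hx41)).upd 3 2 1 (le_of_eq hx43)) ![0,1,3,2] (by decide) (by decide) 1 (by decide))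
    · -- 24=(2,1)
      rcases d34 with ⟨rfl, rfl⟩ | ⟨rfl, rfl⟩ | ⟨rfl, rfl⟩ | ⟨rfl, rfl⟩ | ⟨rfl, rfl⟩ | ⟨rfl, rfl⟩
      · -- 34=(0,0)
        refine ⟨(⟨![0, 1, 4, 2, 3], ![0, 1, 3, 4, 2], by decide, by decide⟩ : Equiv.Perm (Fin 5)), T.m 0, T.w 2, Or.inr (Or.inr (Or.inl ?_))⟩
        show T.m 0 = T.m 0 ∧ T.m 1 = 2 * T.m 0 ∧ T.m 4 = 3 * T.m 0 ∧ T.m 2 = 4 * T.m 0 ∧ T.m 3 = 2 * T.m 0 ∧ T.w 0 = 2 * T.w 2 ∧ T.w 1 = 2 * T.w 2 ∧ T.w 4 = 2 * T.w 2 ∧ T.w 2 = T.w 2 ∧ T.w 3 = T.w 2 ∧ T.a 0 0 = -4 * T.w 2 ∧ T.a 0 1 = 2 * T.w 2 ∧ T.a 0 4 = 0 ∧ T.a 0 2 = 0 ∧ T.a 0 3 = 0 ∧ T.a 1 1 = -4 * T.w 2 ∧ T.a 1 4 = 2 * T.w 2 ∧ T.a 1 2 = 0 ∧ T.a 1 3 = 0 ∧ T.a 4 4 = -4 * T.w 2 ∧ T.a 4 2 = 2 * T.w 2 ∧ T.a 4 3 = 0 ∧ T.a 2 2 = -2 * T.w 2 ∧ T.a 2 3 = T.w 2 ∧ T.a 3 3 = -2 * T.w 2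
        refine ⟨?_, ?_, ?_, ?_, ?_, ?_, ?_, ?_, ?_, ?_, ?_, ?_, ?_, ?_, ?_, ?_, ?_, ?_, ?_, ?_, ?_, ?_, ?_, ?_, ?_⟩ <;> omega
      · -- 34=(1,1)
        exact False.elim (cert_false T ((skipEmb 1).trans (Function.Embedding.refl _)) (by norm_num) (fun _ => hall _) (((((((LB_zero T ((skipEmb 1).trans (Function.Embedding.refl _))).upd 1 2 1 (le_of_eq hx23)).upd 1 3 2 (le_of_eq hx24)).upd 2 1 1 (le_of_eq hx32)).upd 2 3 1 (le_of_eq hx34)).upd 3 1 1 (le_of_eq hx42)).upd 3 2 1 (le_of_eq hx43)) ![0,1,1,1] (by decide) (by decide) 1 (by decide))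
      · -- 34=(1,2)
        exact False.elim (cert_false T ((skipEmb 1).trans (Function.Embedding.refl _)) (by norm_num) (fun _ => hall _) (((((((LB_zero T ((skipEmb 1).trans (Function.Embedding.refl _))).upd 1 2 1 (le_of_eq hx23)).upd 1 3 2 (le_of_eq hx24)).upd 2 1 1 (le_of_eq hx32)).upd 2 3 1 (le_of_eq hx34)).upd 3 1 1 (le_of_eq hx42)).upd 3 2 2 (le_of_eq hx43)) ![0,1,1,1] (by decide) (by decide) 1 (by decide))
      · -- 34=(2,1)
        exact False.elim (cert_false T ((skipEmb 1).trans (Function.Embedding.refl _)) (by norm_num) (fun _ => hall _) (((((((LB_zero T ((skipEmb 1).trans (Function.Embedding.refl _))).upd 1 2 1 (le_of_eq hx23)).upd 1 3 2 (le_of_eq hx24)).upd 2 1 1 (le_of_eq hx32)).upd 2 3 2 (le_of_eq hx34)).upd 3 1 1 (le_of_eq hx42)).upd 3 2 1 (le_of_eq hx43)) ![0,1,1,1] (by decide) (by decide) 1 (by decide))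
      · -- 34=(1,3)
        exact False.elim (cert_false T ((skipEmb 2).trans (Function.Embedding.refl _)) (by norm_num) (fun _ => hall _) (((((LB_zero T ((skipEmb 2).trans (Function.Embedding.refl _))).upd 1 3 1 (le_of_eq hx14)).upd 2 3 1 (le_of_eq hx34)).upd 3 1 1 (le_of_eq hx41)).upd 3 2 3 (le_of_eq hx43)) ![0,1,1,2] (by decide) (by decide) 1 (by decide))
      · -- 34=(3,1)
        exact False.elim (cert_false T ((skipEmb 2).trans (Function.Embedding.refl _)) (by norm_num) (fun _ => hall _) (((((LB_zero T ((skipEmb 2).trans (Function.Embedding.refl _))).upd 1 3 1 (le_of_eq hx14)).upd 2 3 3 (le_of_eq hx34)).upd 3 1 1 (le_of_eq hx41)).upd 3 2 1 (le_of_eq hx43)) ![0,1,3,2] (by decide) (by decide) 1 (by decide))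
    · -- 24=(1,3)
      exact False.elim (cert_false T ((skipEmb 3).trans (Function.Embedding.refl _)) (by norm_num) (fun _ => hall _) (((((LB_zero T ((skipEmb 3).trans (Function.Embedding.refl _))).upd 1 3 1 (le_of_eq hx14)).upd 2 3 1 (le_of_eq hx24)).upd 3 1 1 (le_of_eq hx41)).upd 3 2 3 (le_of_eq hx42)) ![0,1,1,2] (by decide) (by decide) 1 (by decide))
    · -- 24=(3,1)
      exact False.elim (cert_false T ((skipEmb 3).trans (Function.Embedding.refl _)) (by norm_num) (fun _ => hall _) (((((LB_zero T ((skipEmb 3).trans (Function.Embedding.refl _))).upd 1 3 1 (le_of_eq hx14)).upd 2 3 3 (le_of_eq hx24)).upd 3 1 1 (le_of_eq hx41)).upd 3 2 1 (le_of_eq hx42)) ![0,1,3,2] (by decide) (by decide) 1 (by decide))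
  · -- 14=(1,2)
    rcases d24 with ⟨rfl, rfl⟩ | ⟨rfl, rfl⟩ | ⟨rfl, rfl⟩ | ⟨rfl, rfl⟩ | ⟨rfl, rfl⟩ | ⟨rfl, rfl⟩
    · -- 24=(0,0)
      rcases d34 with ⟨rfl, rfl⟩ | ⟨rfl, rfl⟩ | ⟨rfl, rfl⟩ | ⟨rfl, rfl⟩ | ⟨rfl, rfl⟩ | ⟨rfl, rfl⟩
      · -- 34=(0,0)
        exfalso; omega
      · -- 34=(1,1)
        refine ⟨(⟨![2, 3, 4, 1, 0], ![4, 3, 0, 1, 2], by decide, by decide⟩ : Equiv.Perm (Fin 5)), T.m 2, T.w 2, Or.inr (Or.inl ?_)⟩
        show T.m 2 = T.m 2 ∧ T.m 3 = 2 * T.m 2 ∧ T.m 4 = 3 * T.m 2 ∧ T.m 1 = 2 * T.m 2 ∧ T.m 0 = T.m 2 ∧ T.w 2 = T.w 2 ∧ T.w 3 = T.w 2 ∧ T.w 4 = T.w 2 ∧ T.w 1 = 2 * T.w 2 ∧ T.w 0 = 2 * T.w 2 ∧ T.a 2 2 = -2 * T.w 2 ∧ T.a 2 3 = T.w 2 ∧ T.a 2 4 = 0 ∧ T.a 2 1 = 0 ∧ T.a 2 0 = 0 ∧ T.a 3 3 = -2 * T.w 2 ∧ T.a 3 4 = T.w 2 ∧ T.a 3 1 = 0 ∧ T.a 3 0 = 0 ∧ T.a 4 4 = -2 * T.w 2 ∧ T.a 4 1 = 2 * T.w 2 ∧ T.a 4 0 = 0 ∧ T.a 1 1 = -4 * T.w 2 ∧ T.a 1 0 = 2 * T.w 2 ∧ T.a 0 0 = -4 * T.w 2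
        refine ⟨?_, ?_, ?_, ?_, ?_, ?_, ?_, ?_, ?_, ?_, ?_, ?_, ?_, ?_, ?_, ?_, ?_, ?_, ?_, ?_, ?_, ?_, ?_, ?_, ?_⟩ <;> omega
      · -- 34=(1,2)
        exact False.elim (cert_false T ((skipEmb 2).trans (Function.Embedding.refl _)) (by norm_num) (fun _ => hall _) (((((LB_zero T ((skipEmb 2).trans (Function.Embedding.refl _))).upd 1 3 1 (le_of_eq hx14)).upd 2 3 1 (le_of_eq hx34)).upd 3 1 2 (le_of_eq hx41)).upd 3 2 2 (le_of_eq hx43)) ![0,1,1,2] (by decide) (by decide) 1 (by decide))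
      · -- 34=(2,1)
        exact False.elim (cert_false T ((skipEmb 2).trans (Function.Embedding.refl _)) (by norm_num) (fun _ => hall _) (((((LB_zero T ((skipEmb 2).trans (Function.Embedding.refl _))).upd 1 3 1 (le_of_eq hx14)).upd 2 3 2 (le_of_eq hx34)).upd 3 1 2 (le_of_eq hx41)).upd 3 2 1 (le_of_eq hx43)) ![0,1,2,2] (by decide) (by decide) 1 (by decide))
      · -- 34=(1,3)
        exact False.elim (cert_false T ((skipEmb 2).trans (Function.Embedding.refl _)) (by norm_num) (fun _ => hall _) (((((LB_zero T ((skipEmb 2).trans (Function.Embedding.refl _))).upd 1 3 1 (le_of_eq hx14)).upd 2 3 1 (le_of_eq hx34)).upd 3 1 2 (le_of_eq hx41)).upd 3 2 3 (le_of_eq hx43)) ![0,1,1,2] (by decide) (by decide) 1 (by decide))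
      · -- 34=(3,1)
        exact False.elim (cert_false T ((skipEmb 2).trans (Function.Embedding.refl _)) (by norm_num) (fun _ => hall _) (((((LB_zero T ((skipEmb 2).trans (Function.Embedding.refl _))).upd 1 3 1 (le_of_eq hx14)).upd 2 3 3 (le_of_eq hx34)).upd 3 1 2 (le_of_eq hx41)).upd 3 2 1 (le_of_eq hx43)) ![0,1,2,2] (by decide) (by decide) 1 (by decide))
    · -- 24=(1,1)
      rcases d34 with ⟨rfl, rfl⟩ | ⟨rfl, rfl⟩ | ⟨rfl, rfl⟩ | ⟨rfl, rfl⟩ | ⟨rfl, rfl⟩ | ⟨rfl, rfl⟩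
      · -- 34=(0,0)
        refine ⟨(⟨![3, 2, 4, 1, 0], ![4, 3, 1, 0, 2], by decide, by decide⟩ : Equiv.Perm (Fin 5)), T.m 3, T.w 3, Or.inr (Or.inl ?_)⟩
        show T.m 3 = T.m 3 ∧ T.m 2 = 2 * T.m 3 ∧ T.m 4 = 3 * T.m 3 ∧ T.m 1 = 2 * T.m 3 ∧ T.m 0 = T.m 3 ∧ T.w 3 = T.w 3 ∧ T.w 2 = T.w 3 ∧ T.w 4 = T.w 3 ∧ T.w 1 = 2 * T.w 3 ∧ T.w 0 = 2 * T.w 3 ∧ T.a 3 3 = -2 * T.w 3 ∧ T.a 3 2 = T.w 3 ∧ T.a 3 4 = 0 ∧ T.a 3 1 = 0 ∧ T.a 3 0 = 0 ∧ T.a 2 2 = -2 * T.w 3 ∧ T.a 2 4 = T.w 3 ∧ T.a 2 1 = 0 ∧ T.a 2 0 = 0 ∧ T.a 4 4 = -2 * T.w 3 ∧ T.a 4 1 = 2 * T.w 3 ∧ T.a 4 0 = 0 ∧ T.a 1 1 = -4 * T.w 3 ∧ T.a 1 0 = 2 * T.w 3 ∧ T.a 0 0 = -4 * T.w 3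
        refine ⟨?_, ?_, ?_, ?_, ?_, ?_, ?_, ?_, ?_, ?_, ?_, ?_, ?_, ?_, ?_, ?_, ?_, ?_, ?_, ?_, ?_, ?_, ?_, ?_, ?_⟩ <;> omega
      · -- 34=(1,1)
        exact False.elim (cert_false T ((skipEmb 1).trans (Function.Embedding.refl _)) (by norm_num) (fun _ => hall _) (((((((LB_zero T ((skipEmb 1).trans (Function.Embedding.refl _))).upd 1 2 1 (le_of_eq hx23)).upd 1 3 1 (le_of_eq hx24)).upd 2 1 1 (le_of_eq hx32)).upd 2 3 1 (le_of_eq hx34)).upd 3 1 1 (le_of_eq hx42)).upd 3 2 1 (le_of_eq hx43)) ![0,1,1,1] (by decide) (by decide) 1 (by decide))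
      · -- 34=(1,2)
        exact False.elim (cert_false T ((skipEmb 2).trans (Function.Embedding.refl _)) (by norm_num) (fun _ => hall _) (((((LB_zero T ((skipEmb 2).trans (Function.Embedding.refl _))).upd 1 3 1 (le_of_eq hx14)).upd 2 3 1 (le_of_eq hx34)).upd 3 1 2 (le_of_eq hx41)).upd 3 2 2 (le_of_eq hx43)) ![0,1,1,2] (by decide) (by decide) 1 (by decide))
      · -- 34=(2,1)
        exact False.elim (cert_false T ((skipEmb 2).trans (Function.Embedding.refl _)) (by norm_num) (fun _ => hall _) (((((LB_zero T ((skipEmb 2).trans (Function.Embedding.refl _))).upd 1 3 1 (le_of_eq hx14)).upd 2 3 2 (le_of_eq hx34)).upd 3 1 2 (le_of_eq hx41)).upd 3 2 1 (le_of_eq hx43)) ![0,1,2,2] (by decide) (by decide) 1 (by decide))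
      · -- 34=(1,3)
        exact False.elim (cert_false T ((skipEmb 2).trans (Function.Embedding.refl _)) (by norm_num) (fun _ => hall _) (((((LB_zero T ((skipEmb 2).trans (Function.Embedding.refl _))).upd 1 3 1 (le_of_eq hx14)).upd 2 3 1 (le_of_eq hx34)).upd 3 1 2 (le_of_eq hx41)).upd 3 2 3 (le_of_eq hx43)) ![0,1,1,2] (by decide) (by decide) 1 (by decide))
      · -- 34=(3,1)
        exact False.elim (cert_false T ((skipEmb 2).trans (Function.Embedding.refl _)) (by norm_num) (fun _ => hall _) (((((LB_zero T ((skipEmb 2).trans (Function.Embedding.refl _))).upd 1 3 1 (le_of_eq hx14)).upd 2 3 3 (le_of_eq hx34)).upd 3 1 2 (le_of_eq hx41)).upd 3 2 1 (le_of_eq hx43)) ![0,1,2,2] (by decide) (by decide) 1 (by decide))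
    · -- 24=(1,2)
      exact False.elim (cert_false T ((skipEmb 3).trans (Function.Embedding.refl _)) (by norm_num) (fun _ => hall _) (((((LB_zero T ((skipEmb 3).trans (Function.Embedding.refl _))).upd 1 3 1 (le_of_eq hx14)).upd 2 3 1 (le_of_eq hx24)).upd 3 1 2 (le_of_eq hx41)).upd 3 2 2 (le_of_eq hx42)) ![0,1,1,2] (by decide) (by decide) 1 (by decide))
    · -- 24=(2,1)
      exact False.elim (cert_false T ((skipEmb 3).trans (Function.Embedding.refl _)) (by norm_num) (fun _ => hall _) (((((LB_zero T ((skipEmb 3).trans (Function.Embedding.refl _))).upd 1 3 1 (le_of_eq hx14)).upd 2 3 2 (le_of_eq hx24)).upd 3 1 2 (le_of_eq hx41)).upd 3 2 1 (le_of_eq hx42)) ![0,1,2,2] (by decide) (by decide) 1 (by decide))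
    · -- 24=(1,3)
      exact False.elim (cert_false T ((skipEmb 3).trans (Function.Embedding.refl _)) (by norm_num) (fun _ => hall _) (((((LB_zero T ((skipEmb 3).trans (Function.Embedding.refl _))).upd 1 3 1 (le_of_eq hx14)).upd 2 3 1 (le_of_eq hx24)).upd 3 1 2 (le_of_eq hx41)).upd 3 2 3 (le_of_eq hx42)) ![0,1,1,2] (by decide) (by decide) 1 (by decide))
    · -- 24=(3,1)
      exact False.elim (cert_false T ((skipEmb 3).trans (Function.Embedding.refl _)) (by norm_num) (fun _ => hall _) (((((LB_zero T ((skipEmb 3).trans (Function.Embedding.refl _))).upd 1 3 1 (le_of_eq hx14)).upd 2 3 3 (le_of_eq hx24)).upd 3 1 2 (le_of_eq hx41)).upd 3 2 1 (le_of_eq hx42)) ![0,1,2,2] (by decide) (by decide) 1 (by decide))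
  · -- 14=(2,1)
    rcases d24 with ⟨rfl, rfl⟩ | ⟨rfl, rfl⟩ | ⟨rfl, rfl⟩ | ⟨rfl, rfl⟩ | ⟨rfl, rfl⟩ | ⟨rfl, rfl⟩
    · -- 24=(0,0)
      rcases d34 with ⟨rfl, rfl⟩ | ⟨rfl, rfl⟩ | ⟨rfl, rfl⟩ | ⟨rfl, rfl⟩ | ⟨rfl, rfl⟩ | ⟨rfl, rfl⟩
      · -- 34=(0,0)
        exfalso; omega
      · -- 34=(1,1)
        refine ⟨(⟨![2, 3, 4, 1, 0], ![4, 3, 0, 1, 2], by decide, by decide⟩ : Equiv.Perm (Fin 5)), T.m 2, T.w 1, Or.inr (Or.inr (Or.inl ?_))⟩
        show T.m 2 = T.m 2 ∧ T.m 3 = 2 * T.m 2 ∧ T.m 4 = 3 * T.m 2 ∧ T.m 1 = 4 * T.m 2 ∧ T.m 0 = 2 * T.m 2 ∧ T.w 2 = 2 * T.w 1 ∧ T.w 3 = 2 * T.w 1 ∧ T.w 4 = 2 * T.w 1 ∧ T.w 1 = T.w 1 ∧ T.w 0 = T.w 1 ∧ T.a 2 2 = -4 * T.w 1 ∧ T.a 2 3 = 2 * T.w 1 ∧ T.a 2 4 = 0 ∧ T.a 2 1 = 0 ∧ T.a 2 0 = 0 ∧ T.a 3 3 = -4 * T.w 1 ∧ T.a 3 4 = 2 * T.w 1 ∧ T.a 3 1 = 0 ∧ T.a 3 0 = 0 ∧ T.a 4 4 = -4 * T.w 1 ∧ T.a 4 1 = 2 * T.w 1 ∧ T.a 4 0 = 0 ∧ T.a 1 1 = -2 * T.w 1 ∧ T.a 1 0 = T.w 1 ∧ T.a 0 0 = -2 * T.w 1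
        refine ⟨?_, ?_, ?_, ?_, ?_, ?_, ?_, ?_, ?_, ?_, ?_, ?_, ?_, ?_, ?_, ?_, ?_, ?_, ?_, ?_, ?_, ?_, ?_, ?_, ?_⟩ <;> omega
      · -- 34=(1,2)
        exact False.elim (cert_false T ((skipEmb 2).trans (Function.Embedding.refl _)) (by norm_num) (fun _ => hall _) (((((LB_zero T ((skipEmb 2).trans (Function.Embedding.refl _))).upd 1 3 2 (le_of_eq hx14)).upd 2 3 1 (le_of_eq hx34)).upd 3 1 1 (le_of_eq hx41)).upd 3 2 2 (le_of_eq hx43)) ![0,2,1,2] (by decide) (by decide) 1 (by decide))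
      · -- 34=(2,1)
        exact False.elim (cert_false T ((skipEmb 2).trans (Function.Embedding.refl _)) (by norm_num) (fun _ => hall _) (((((LB_zero T ((skipEmb 2).trans (Function.Embedding.refl _))).upd 1 3 2 (le_of_eq hx14)).upd 2 3 2 (le_of_eq hx34)).upd 3 1 1 (le_of_eq hx41)).upd 3 2 1 (le_of_eq hx43)) ![0,1,1,1] (by decide) (by decide) 1 (by decide))
      · -- 34=(1,3)
        exact False.elim (cert_false T ((skipEmb 2).trans (Function.Embedding.refl _)) (by norm_num) (fun _ => hall _) (((((LB_zero T ((skipEmb 2).trans (Function.Embedding.refl _))).upd 1 3 2 (le_of_eq hx14)).upd 2 3 1 (le_of_eq hx34)).upd 3 1 1 (le_of_eq hx41)).upd 3 2 3 (le_of_eq hx43)) ![0,1,1,2] (by decide) (by decide) 1 (by decide))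
      · -- 34=(3,1)
        exact False.elim (cert_false T ((skipEmb 2).trans (Function.Embedding.refl _)) (by norm_num) (fun _ => hall _) (((((LB_zero T ((skipEmb 2).trans (Function.Embedding.refl _))).upd 1 3 2 (le_of_eq hx14)).upd 2 3 3 (le_of_eq hx34)).upd 3 1 1 (le_of_eq hx41)).upd 3 2 1 (le_of_eq hx43)) ![0,1,1,1] (by decide) (by decide) 1 (by decide))
    · -- 24=(1,1)
      rcases d34 with ⟨rfl, rfl⟩ | ⟨rfl, rfl⟩ | ⟨rfl, rfl⟩ | ⟨rfl, rfl⟩ | ⟨rfl, rfl⟩ | ⟨rfl, rfl⟩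
      · -- 34=(0,0)
        refine ⟨(⟨![3, 2, 4, 1, 0], ![4, 3, 1, 0, 2], by decide, by decide⟩ : Equiv.Perm (Fin 5)), T.m 3, T.w 1, Or.inr (Or.inr (Or.inl ?_))⟩
        show T.m 3 = T.m 3 ∧ T.m 2 = 2 * T.m 3 ∧ T.m 4 = 3 * T.m 3 ∧ T.m 1 = 4 * T.m 3 ∧ T.m 0 = 2 * T.m 3 ∧ T.w 3 = 2 * T.w 1 ∧ T.w 2 = 2 * T.w 1 ∧ T.w 4 = 2 * T.w 1 ∧ T.w 1 = T.w 1 ∧ T.w 0 = T.w 1 ∧ T.a 3 3 = -4 * T.w 1 ∧ T.a 3 2 = 2 * T.w 1 ∧ T.a 3 4 = 0 ∧ T.a 3 1 = 0 ∧ T.a 3 0 = 0 ∧ T.a 2 2 = -4 * T.w 1 ∧ T.a 2 4 = 2 * T.w 1 ∧ T.a 2 1 = 0 ∧ T.a 2 0 = 0 ∧ T.a 4 4 = -4 * T.w 1 ∧ T.a 4 1 = 2 * T.w 1 ∧ T.a 4 0 = 0 ∧ T.a 1 1 = -2 * T.w 1 ∧ T.a 1 0 = T.w 1 ∧ T.a 0 0 = -2 * T.w 1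
        refine ⟨?_, ?_, ?_, ?_, ?_, ?_, ?_, ?_, ?_, ?_, ?_, ?_, ?_, ?_, ?_, ?_, ?_, ?_, ?_, ?_, ?_, ?_, ?_, ?_, ?_⟩ <;> omega
      · -- 34=(1,1)
        exact False.elim (cert_false T ((skipEmb 1).trans (Function.Embedding.refl _)) (by norm_num) (fun _ => hall _) (((((((LB_zero T ((skipEmb 1).trans (Function.Embedding.refl _))).upd 1 2 1 (le_of_eq hx23)).upd 1 3 1 (le_of_eq hx24)).upd 2 1 1 (le_of_eq hx32)).upd 2 3 1 (le_of_eq hx34)).upd 3 1 1 (le_of_eq hx42)).upd 3 2 1 (le_of_eq hx43)) ![0,1,1,1] (by decide) (by decide) 1 (by decide))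
      · -- 34=(1,2)
        exact False.elim (cert_false T ((skipEmb 2).trans (Function.Embedding.refl _)) (by norm_num) (fun _ => hall _) (((((LB_zero T ((skipEmb 2).trans (Function.Embedding.refl _))).upd 1 3 2 (le_of_eq hx14)).upd 2 3 1 (le_of_eq hx34)).upd 3 1 1 (le_of_eq hx41)).upd 3 2 2 (le_of_eq hx43)) ![0,2,1,2] (by decide) (by decide) 1 (by decide))
      · -- 34=(2,1)
        exact False.elim (cert_false T ((skipEmb 2).trans (Function.Embedding.refl _)) (by norm_num) (fun _ => hall _) (((((LB_zero T ((skipEmb 2).trans (Function.Embedding.refl _))).upd 1 3 2 (le_of_eq hx14)).upd 2 3 2 (le_of_eq hx34)).upd 3 1 1 (le_of_eq hx41)).upd 3 2 1 (le_of_eq hx43)) ![0,1,1,1] (by decide) (by decide) 1 (by decide))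
      · -- 34=(1,3)
        exact False.elim (cert_false T ((skipEmb 2).trans (Function.Embedding.refl _)) (by norm_num) (fun _ => hall _) (((((LB_zero T ((skipEmb 2).trans (Function.Embedding.refl _))).upd 1 3 2 (le_of_eq hx14)).upd 2 3 1 (le_of_eq hx34)).upd 3 1 1 (le_of_eq hx41)).upd 3 2 3 (le_of_eq hx43)) ![0,1,1,2] (by decide) (by decide) 1 (by decide))
      · -- 34=(3,1)
        exact False.elim (cert_false T ((skipEmb 2).trans (Function.Embedding.refl _)) (by norm_num) (fun _ => hall _) (((((LB_zero T ((skipEmb 2).trans (Function.Embedding.refl _))).upd 1 3 2 (le_of_eq hx14)).upd 2 3 3 (le_of_eq hx34)).upd 3 1 1 (le_of_eq hx41)).upd 3 2 1 (le_of_eq hx43)) ![0,1,1,1] (by decide) (by decide) 1 (by decide))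
    · -- 24=(1,2)
      exact False.elim (cert_false T ((skipEmb 3).trans (Function.Embedding.refl _)) (by norm_num) (fun _ => hall _) (((((LB_zero T ((skipEmb 3).trans (Function.Embedding.refl _))).upd 1 3 2 (le_of_eq hx14)).upd 2 3 1 (le_of_eq hx24)).upd 3 1 1 (le_of_eq hx41)).upd 3 2 2 (le_of_eq hx42)) ![0,2,1,2] (by decide) (by decide) 1 (by decide))
    · -- 24=(2,1)
      exact False.elim (cert_false T ((skipEmb 3).trans (Function.Embedding.refl _)) (by norm_num) (fun _ => hall _) (((((LB_zero T ((skipEmb 3).trans (Function.Embedding.refl _))).upd 1 3 2 (le_of_eq hx14)).upd 2 3 2 (le_of_eq hx24)).upd 3 1 1 (le_of_eq hx41)).upd 3 2 1 (le_of_eq hx42)) ![0,1,1,1] (by decide) (by decide) 1 (by decide))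
    · -- 24=(1,3)
      exact False.elim (cert_false T ((skipEmb 3).trans (Function.Embedding.refl _)) (by norm_num) (fun _ => hall _) (((((LB_zero T ((skipEmb 3).trans (Function.Embedding.refl _))).upd 1 3 2 (le_of_eq hx14)).upd 2 3 1 (le_of_eq hx24)).upd 3 1 1 (le_of_eq hx41)).upd 3 2 3 (le_of_eq hx42)) ![0,1,1,2] (by decide) (by decide) 1 (by decide))
    · -- 24=(3,1)
      exact False.elim (cert_false T ((skipEmb 3).trans (Function.Embedding.refl _)) (by norm_num) (fun _ => hall _) (((((LB_zero T ((skipEmb 3).trans (Function.Embedding.refl _))).upd 1 3 2 (le_of_eq hx14)).upd 2 3 3 (le_of_eq hx24)).upd 3 1 1 (le_of_eq hx41)).upd 3 2 1 (le_of_eq hx42)) ![0,1,1,1] (by decide) (by decide) 1 (by decide))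
  · -- 14=(1,3)
    exact False.elim (cert_false T ((skipEmb 3).trans (Function.Embedding.refl _)) (by norm_num) (fun _ => hall _) (((((LB_zero T ((skipEmb 3).trans (Function.Embedding.refl _))).upd 0 1 1 (le_of_eq hx01)).upd 1 0 1 (le_of_eq hx10)).upd 1 3 1 (le_of_eq hx14)).upd 3 1 3 (le_of_eq hx41)) ![1,2,0,3] (by decide) (by decide) 0 (by decide))
  · -- 14=(3,1)
    exact False.elim (cert_false T ((skipEmb 3).trans (Function.Embedding.refl _)) (by norm_num) (fun _ => hall _) (((((LB_zero T ((skipEmb 3).trans (Function.Embedding.refl _))).upd 0 1 1 (le_of_eq hx01)).upd 1 0 1 (le_of_eq hx10)).upd 1 3 3 (le_of_eq hx14)).upd 3 1 1 (le_of_eq hx41)) ![1,2,0,1] (by decide) (by decide) 0 (by decide))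

theorem case356 (T : NumericalType 5) (hall : ∀ i, T.IsMinusTwo i) (d : SData T)
    (h01 : N T (Function.Embedding.refl _) 0 1 = 1) (h10 : N T (Function.Embedding.refl _) 1 0 = 1)
    (h02 : N T (Function.Embedding.refl _) 0 2 = 0) (h20 : N T (Function.Embedding.refl _) 2 0 = 0)
    (h12 : N T (Function.Embedding.refl _) 1 2 = 0) (h21 : N T (Function.Embedding.refl _) 2 1 = 0)
    (h03 : N T (Function.Embedding.refl _) 0 3 = 0) (h30 : N T (Function.Embedding.refl _) 3 0 = 0)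
    (h13 : N T (Function.Embedding.refl _) 1 3 = 0) (h31 : N T (Function.Embedding.refl _) 3 1 = 0)
    (h23 : N T (Function.Embedding.refl _) 2 3 = 1) (h32 : N T (Function.Embedding.refl _) 3 2 = 1) :
    Goal T := by
  unfold Goal
  have hd := d
  obtain ⟨x01, x02, x03, x04, x10, x12, x13, x14, x20, x21, x23, x24, x30, x31, x32, x34, x40, x41, x42, x43, hx01, hx02, hx03, hx04, hx10, hx12, hx13, hx14, hx20, hx21, hx23, hx24, hx30, hx31, hx32, hx34, hx40, hx41, hx42, hx43, hw0, hm0, hw1, hm1, hw2, hm2, hw3, hm3, hw4, hm4, a00, a01, a02, a03, a04, a11, a10, a12, a13, a14, a22, a20, a21, a23, a24, a33, a30, a31, a32, a34, a44, a40, a41, a42, a43, wN01, wN02, wN12, wN03, wN13, wN23, wN04, wN14, wN24, wN34, e0, e1, e2, e3, e4, d01, d02, d12, d03, d13, d23, d04, d14, d24, d34⟩ := d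
  obtain rfl : x01 = 1 := hx01.trans h01
  obtain rfl : x10 = 1 := hx10.trans h10
  obtain rfl : x02 = 0 := hx02.trans h02
  obtain rfl : x20 = 0 := hx20.trans h20
  obtain rfl : x12 = 0 := hx12.trans h12
  obtain rfl : x21 = 0 := hx21.trans h21
  obtain rfl : x03 = 0 := hx03.trans h03
  obtain rfl : x30 = 0 := hx30.trans h30
  obtain rfl : x13 = 0 := hx13.trans h13
  obtain rfl : x31 = 0 := hx31.trans h31
  obtain rfl : x23 = 1 := hx23.trans h23
  obtain rfl : x32 = 1 := hx32.trans h32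
  rcases d04 with ⟨rfl, rfl⟩ | ⟨rfl, rfl⟩ | ⟨rfl, rfl⟩ | ⟨rfl, rfl⟩ | ⟨rfl, rfl⟩ | ⟨rfl, rfl⟩
  · -- 04=(0,0)
    exact case357 T hall hd hx01.symm hx10.symm hx02.symm hx20.symm hx12.symm hx21.symm hx03.symm hx30.symm hx13.symm hx31.symm hx23.symm hx32.symm hx04.symm hx40.symm
  · -- 04=(1,1)
    rcases d14 with ⟨rfl, rfl⟩ | ⟨rfl, rfl⟩ | ⟨rfl, rfl⟩ | ⟨rfl, rfl⟩ | ⟨rfl, rfl⟩ | ⟨rfl, rfl⟩
    · -- 14=(0,0)
      rcases d24 with ⟨rfl, rfl⟩ | ⟨rfl, rfl⟩ | ⟨rfl, rfl⟩ | ⟨rfl, rfl⟩ | ⟨rfl, rfl⟩ | ⟨rfl, rfl⟩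
      · -- 24=(0,0)
        rcases d34 with ⟨rfl, rfl⟩ | ⟨rfl, rfl⟩ | ⟨rfl, rfl⟩ | ⟨rfl, rfl⟩ | ⟨rfl, rfl⟩ | ⟨rfl, rfl⟩
        · -- 34=(0,0)
          exfalso; omega
        · -- 34=(1,1)
          exfalso; omega
        · -- 34=(1,2)
          refine ⟨(⟨![1, 0, 4, 3, 2], ![1, 0, 4, 3, 2], by decide, by decide⟩ : Equiv.Perm (Fin 5)), T.m 1, T.w 1, Or.inr (Or.inl ?_)⟩
          show T.m 1 = T.m 1 ∧ T.m 0 = 2 * T.m 1 ∧ T.m 4 = 3 * T.m 1 ∧ T.m 3 = 2 * T.m 1 ∧ T.m 2 = T.m 1 ∧ T.w 1 = T.w 1 ∧ T.w 0 = T.w 1 ∧ T.w 4 = T.w 1 ∧ T.w 3 = 2 * T.w 1 ∧ T.w 2 = 2 * T.w 1 ∧ T.a 1 1 = -2 * T.w 1 ∧ T.a 1 0 = T.w 1 ∧ T.a 1 4 = 0 ∧ T.a 1 3 = 0 ∧ T.a 1 2 = 0 ∧ T.a 0 0 = -2 * T.w 1 ∧ T.a 0 4 = T.w 1 ∧ T.a 0 3 = 0 ∧ T.a 0 2 = 0 ∧ T.a 4 4 = -2 * T.w 1 ∧ T.a 4 3 = 2 * T.w 1 ∧ T.a 4 2 = 0 ∧ T.a 3 3 = -4 * T.w 1 ∧ T.a 3 2 = 2 * T.w 1 ∧ T.a 2 2 = -4 * T.w 1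
          refine ⟨?_, ?_, ?_, ?_, ?_, ?_, ?_, ?_, ?_, ?_, ?_, ?_, ?_, ?_, ?_, ?_, ?_, ?_, ?_, ?_, ?_, ?_, ?_, ?_, ?_⟩ <;> omega
        · -- 34=(2,1)
          refine ⟨(⟨![1, 0, 4, 3, 2], ![1, 0, 4, 3, 2], by decide, by decide⟩ : Equiv.Perm (Fin 5)), T.m 1, T.w 3, Or.inr (Or.inr (Or.inl ?_))⟩
          show T.m 1 = T.m 1 ∧ T.m 0 = 2 * T.m 1 ∧ T.m 4 = 3 * T.m 1 ∧ T.m 3 = 4 * T.m 1 ∧ T.m 2 = 2 * T.m 1 ∧ T.w 1 = 2 * T.w 3 ∧ T.w 0 = 2 * T.w 3 ∧ T.w 4 = 2 * T.w 3 ∧ T.w 3 = T.w 3 ∧ T.w 2 = T.w 3 ∧ T.a 1 1 = -4 * T.w 3 ∧ T.a 1 0 = 2 * T.w 3 ∧ T.a 1 4 = 0 ∧ T.a 1 3 = 0 ∧ T.a 1 2 = 0 ∧ T.a 0 0 = -4 * T.w 3 ∧ T.a 0 4 = 2 * T.w 3 ∧ T.a 0 3 = 0 ∧ T.a 0 2 = 0 ∧ T.a 4 4 = -4 * T.w 3 ∧ T.a 4 3 = 2 * T.w 3 ∧ T.a 4 2 = 0 ∧ T.a 3 3 = -2 * T.w 3 ∧ T.a 3 2 = T.w 3 ∧ T.a 2 2 = -2 * T.w 3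
          refine ⟨?_, ?_, ?_, ?_, ?_, ?_, ?_, ?_, ?_, ?_, ?_, ?_, ?_, ?_, ?_, ?_, ?_, ?_, ?_, ?_, ?_, ?_, ?_, ?_, ?_⟩ <;> omega
        · -- 34=(1,3)
          exact False.elim (cert_false T ((skipEmb 2).trans (Function.Embedding.refl _)) (by norm_num) (fun _ => hall _) (((((LB_zero T ((skipEmb 2).trans (Function.Embedding.refl _))).upd 0 3 1 (le_of_eq hx04)).upd 2 3 1 (le_of_eq hx34)).upd 3 0 1 (le_of_eq hx40)).upd 3 2 3 (le_of_eq hx43)) ![1,0,1,2] (by decide) (by decide) 0 (by decide))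
        · -- 34=(3,1)
          exact False.elim (cert_false T ((skipEmb 2).trans (Function.Embedding.refl _)) (by norm_num) (fun _ => hall _) (((((LB_zero T ((skipEmb 2).trans (Function.Embedding.refl _))).upd 0 3 1 (le_of_eq hx04)).upd 2 3 3 (le_of_eq hx34)).upd 3 0 1 (le_of_eq hx40)).upd 3 2 1 (le_of_eq hx43)) ![1,0,3,2] (by decide) (by decide) 0 (by decide))
      · -- 24=(1,1)
        rcases d34 with ⟨rfl, rfl⟩ | ⟨rfl, rfl⟩ | ⟨rfl, rfl⟩ | ⟨rfl, rfl⟩ | ⟨rfl, rfl⟩ | ⟨rfl, rfl⟩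
        · -- 34=(0,0)
          exfalso; omega
        · -- 34=(1,1)
          exact False.elim (cert_false T ((skipEmb 1).trans (Function.Embedding.refl _)) (by norm_num) (fun _ => hall _) (((((((LB_zero T ((skipEmb 1).trans (Function.Embedding.refl _))).upd 1 2 1 (le_of_eq hx23)).upd 1 3 1 (le_of_eq hx24)).upd 2 1 1 (le_of_eq hx32)).upd 2 3 1 (le_of_eq hx34)).upd 3 1 1 (le_of_eq hx42)).upd 3 2 1 (le_of_eq hx43)) ![0,1,1,1] (by decide) (by decide) 1 (by decide))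
        · -- 34=(1,2)
          exact False.elim (cert_false T ((skipEmb 1).trans (Function.Embedding.refl _)) (by norm_num) (fun _ => hall _) (((((((LB_zero T ((skipEmb 1).trans (Function.Embedding.refl _))).upd 1 2 1 (le_of_eq hx23)).upd 1 3 1 (le_of_eq hx24)).upd 2 1 1 (le_of_eq hx32)).upd 2 3 1 (le_of_eq hx34)).upd 3 1 1 (le_of_eq hx42)).upd 3 2 2 (le_of_eq hx43)) ![0,1,1,1] (by decide) (by decide) 1 (by decide))
        · -- 34=(2,1)
          exact False.elim (cert_false T ((skipEmb 1).trans (Function.Embedding.refl _)) (by norm_num) (fun _ => hall _) (((((((LB_zero T ((skipEmb 1).trans (Function.Embedding.refl _))).upd 1 2 1 (le_of_eq hx23)).upd 1 3 1 (le_of_eq hx24)).upd 2 1 1 (le_of_eq hx32)).upd 2 3 2 (le_of_eq hx34)).upd 3 1 1 (le_of_eq hx42)).upd 3 2 1 (le_of_eq hx43)) ![0,1,1,1] (by decide) (by decide) 1 (by decide))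
        · -- 34=(1,3)
          exact False.elim (cert_false T ((skipEmb 2).trans (Function.Embedding.refl _)) (by norm_num) (fun _ => hall _) (((((LB_zero T ((skipEmb 2).trans (Function.Embedding.refl _))).upd 0 3 1 (le_of_eq hx04)).upd 2 3 1 (le_of_eq hx34)).upd 3 0 1 (le_of_eq hx40)).upd 3 2 3 (le_of_eq hx43)) ![1,0,1,2] (by decide) (by decide) 0 (by decide))
        · -- 34=(3,1)
          exact False.elim (cert_false T ((skipEmb 2).trans (Function.Embedding.refl _)) (by norm_num) (fun _ => hall _) (((((LB_zero T ((skipEmb 2).trans (Function.Embedding.refl _))).upd 0 3 1 (le_of_eq hx04)).upd 2 3 3 (le_of_eq hx34)).upd 3 0 1 (le_of_eq hx40)).upd 3 2 1 (le_of_eq hx43)) ![1,0,3,2] (by decide) (by decide) 0 (by decide))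
      · -- 24=(1,2)
        rcases d34 with ⟨rfl, rfl⟩ | ⟨rfl, rfl⟩ | ⟨rfl, rfl⟩ | ⟨rfl, rfl⟩ | ⟨rfl, rfl⟩ | ⟨rfl, rfl⟩
        · -- 34=(0,0)
          refine ⟨(⟨![1, 0, 4, 2, 3], ![1, 0, 3, 4, 2], by decide, by decide⟩ : Equiv.Perm (Fin 5)), T.m 1, T.w 1, Or.inr (Or.inl ?_)⟩
          show T.m 1 = T.m 1 ∧ T.m 0 = 2 * T.m 1 ∧ T.m 4 = 3 * T.m 1 ∧ T.m 2 = 2 * T.m 1 ∧ T.m 3 = T.m 1 ∧ T.w 1 = T.w 1 ∧ T.w 0 = T.w 1 ∧ T.w 4 = T.w 1 ∧ T.w 2 = 2 * T.w 1 ∧ T.w 3 = 2 * T.w 1 ∧ T.a 1 1 = -2 * T.w 1 ∧ T.a 1 0 = T.w 1 ∧ T.a 1 4 = 0 ∧ T.a 1 2 = 0 ∧ T.a 1 3 = 0 ∧ T.a 0 0 = -2 * T.w 1 ∧ T.a 0 4 = T.w 1 ∧ T.a 0 2 = 0 ∧ T.a 0 3 = 0 ∧ T.a 4 4 = -2 * T.w 1 ∧ T.a 4 2 = 2 * T.w 1 ∧ T.a 4 3 = 0 ∧ T.a 2 2 = -4 * T.w 1 ∧ T.a 2 3 = 2 * T.w 1 ∧ T.a 3 3 = -4 * T.w 1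
          refine ⟨?_, ?_, ?_, ?_, ?_, ?_, ?_, ?_, ?_, ?_, ?_, ?_, ?_, ?_, ?_, ?_, ?_, ?_, ?_, ?_, ?_, ?_, ?_, ?_, ?_⟩ <;> omega
        · -- 34=(1,1)
          exact False.elim (cert_false T ((skipEmb 1).trans (Function.Embedding.refl _)) (by norm_num) (fun _ => hall _) (((((((LB_zero T ((skipEmb 1).trans (Function.Embedding.refl _))).upd 1 2 1 (le_of_eq hx23)).upd 1 3 1 (le_of_eq hx24)).upd 2 1 1 (le_of_eq hx32)).upd 2 3 1 (le_of_eq hx34)).upd 3 1 2 (le_of_eq hx42)).upd 3 2 1 (le_of_eq hx43)) ![0,1,1,1] (by decide) (by decide) 1 (by decide))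
        · -- 34=(1,2)
          exact False.elim (cert_false T ((skipEmb 1).trans (Function.Embedding.refl _)) (by norm_num) (fun _ => hall _) (((((((LB_zero T ((skipEmb 1).trans (Function.Embedding.refl _))).upd 1 2 1 (le_of_eq hx23)).upd 1 3 1 (le_of_eq hx24)).upd 2 1 1 (le_of_eq hx32)).upd 2 3 1 (le_of_eq hx34)).upd 3 1 2 (le_of_eq hx42)).upd 3 2 2 (le_of_eq hx43)) ![0,1,1,1] (by decide) (by decide) 1 (by decide))
        · -- 34=(2,1)
          exact False.elim (cert_false T ((skipEmb 1).trans (Function.Embedding.refl _)) (by norm_num) (fun _ => hall _) (((((((LB_zero T ((skipEmb 1).trans (Function.Embedding.refl _))).upd 1 2 1 (le_of_eq hx23)).upd 1 3 1 (le_of_eq hx24)).upd 2 1 1 (le_of_eq hx32)).upd 2 3 2 (le_of_eq hx34)).upd 3 1 2 (le_of_eq hx42)).upd 3 2 1 (le_of_eq hx43)) ![0,1,1,1] (by decide) (by decide) 1 (by decide))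
        · -- 34=(1,3)
          exact False.elim (cert_false T ((skipEmb 2).trans (Function.Embedding.refl _)) (by norm_num) (fun _ => hall _) (((((LB_zero T ((skipEmb 2).trans (Function.Embedding.refl _))).upd 0 3 1 (le_of_eq hx04)).upd 2 3 1 (le_of_eq hx34)).upd 3 0 1 (le_of_eq hx40)).upd 3 2 3 (le_of_eq hx43)) ![1,0,1,2] (by decide) (by decide) 0 (by decide))
        · -- 34=(3,1)
          exact False.elim (cert_false T ((skipEmb 2).trans (Function.Embedding.refl _)) (by norm_num) (fun _ => hall _) (((((LB_zero T ((skipEmb 2).trans (Function.Embedding.refl _))).upd 0 3 1 (le_of_eq hx04)).upd 2 3 3 (le_of_eq hx34)).upd 3 0 1 (le_of_eq hx40)).upd 3 2 1 (le_of_eq hx43)) ![1,0,3,2] (by decide) (by decide) 0 (by decide))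
      · -- 24=(2,1)
        rcases d34 with ⟨rfl, rfl⟩ | ⟨rfl, rfl⟩ | ⟨rfl, rfl⟩ | ⟨rfl, rfl⟩ | ⟨rfl, rfl⟩ | ⟨rfl, rfl⟩
        · -- 34=(0,0)
          refine ⟨(⟨![1, 0, 4, 2, 3], ![1, 0, 3, 4, 2], by decide, by decide⟩ : Equiv.Perm (Fin 5)), T.m 1, T.w 2, Or.inr (Or.inr (Or.inl ?_))⟩
          show T.m 1 = T.m 1 ∧ T.m 0 = 2 * T.m 1 ∧ T.m 4 = 3 * T.m 1 ∧ T.m 2 = 4 * T.m 1 ∧ T.m 3 = 2 * T.m 1 ∧ T.w 1 = 2 * T.w 2 ∧ T.w 0 = 2 * T.w 2 ∧ T.w 4 = 2 * T.w 2 ∧ T.w 2 = T.w 2 ∧ T.w 3 = T.w 2 ∧ T.a 1 1 = -4 * T.w 2 ∧ T.a 1 0 = 2 * T.w 2 ∧ T.a 1 4 = 0 ∧ T.a 1 2 = 0 ∧ T.a 1 3 = 0 ∧ T.a 0 0 = -4 * T.w 2 ∧ T.a 0 4 = 2 * T.w 2 ∧ T.a 0 2 = 0 ∧ T.a 0 3 = 0 ∧ T.a 4 4 = -4 * T.w 2 ∧ T.a 4 2 = 2 * T.w 2 ∧ T.a 4 3 = 0 ∧ T.a 2 2 = -2 * T.w 2 ∧ T.a 2 3 = T.w 2 ∧ T.a 3 3 = -2 * T.w 2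
          refine ⟨?_, ?_, ?_, ?_, ?_, ?_, ?_, ?_, ?_, ?_, ?_, ?_, ?_, ?_, ?_, ?_, ?_, ?_, ?_, ?_, ?_, ?_, ?_, ?_, ?_⟩ <;> omega
        · -- 34=(1,1)
          exact False.elim (cert_false T ((skipEmb 1).trans (Function.Embedding.refl _)) (by norm_num) (fun _ => hall _) (((((((LB_zero T ((skipEmb 1).trans (Function.Embedding.refl _))).upd 1 2 1 (le_of_eq hx23)).upd 1 3 2 (le_of_eq hx24)).upd 2 1 1 (le_of_eq hx32)).upd 2 3 1 (le_of_eq hx34)).upd 3 1 1 (le_of_eq hx42)).upd 3 2 1 (le_of_eq hx43)) ![0,1,1,1] (by decide) (by decide) 1 (by decide))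
        · -- 34=(1,2)
          exact False.elim (cert_false T ((skipEmb 1).trans (Function.Embedding.refl _)) (by norm_num) (fun _ => hall _) (((((((LB_zero T ((skipEmb 1).trans (Function.Embedding.refl _))).upd 1 2 1 (le_of_eq hx23)).upd 1 3 2 (le_of_eq hx24)).upd 2 1 1 (le_of_eq hx32)).upd 2 3 1 (le_of_eq hx34)).upd 3 1 1 (le_of_eq hx42)).upd 3 2 2 (le_of_eq hx43)) ![0,1,1,1] (by decide) (by decide) 1 (by decide))
        · -- 34=(2,1)
          exact False.elim (cert_false T ((skipEmb 1).trans (Function.Embedding.refl _)) (by norm_num) (fun _ => hall _) (((((((LB_zero T ((skipEmb 1).trans (Function.Embedding.refl _))).upd 1 2 1 (le_of_eq hx23)).upd 1 3 2 (le_of_eq hx24)).upd 2 1 1 (le_of_eq hx32)).upd 2 3 2 (le_of_eq hx34)).upd 3 1 1 (le_of_eq hx42)).upd 3 2 1 (le_of_eq hx43)) ![0,1,1,1] (by decide) (by decide) 1 (by decide))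
        · -- 34=(1,3)
          exact False.elim (cert_false T ((skipEmb 2).trans (Function.Embedding.refl _)) (by norm_num) (fun _ => hall _) (((((LB_zero T ((skipEmb 2).trans (Function.Embedding.refl _))).upd 0 3 1 (le_of_eq hx04)).upd 2 3 1 (le_of_eq hx34)).upd 3 0 1 (le_of_eq hx40)).upd 3 2 3 (le_of_eq hx43)) ![1,0,1,2] (by decide) (by decide) 0 (by decide))
        · -- 34=(3,1)
          exact False.elim (cert_false T ((skipEmb 2).trans (Function.Embedding.refl _)) (by norm_num) (fun _ => hall _) (((((LB_zero T ((skipEmb 2).trans (Function.Embedding.refl _))).upd 0 3 1 (le_of_eq hx04)).upd 2 3 3 (le_of_eq hx34)).upd 3 0 1 (le_of_eq hx40)).upd 3 2 1 (le_of_eq hx43)) ![1,0,3,2] (by decide) (by decide) 0 (by decide))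
      · -- 24=(1,3)
        exact False.elim (cert_false T ((skipEmb 3).trans (Function.Embedding.refl _)) (by norm_num) (fun _ => hall _) (((((LB_zero T ((skipEmb 3).trans (Function.Embedding.refl _))).upd 0 3 1 (le_of_eq hx04)).upd 2 3 1 (le_of_eq hx24)).upd 3 0 1 (le_of_eq hx40)).upd 3 2 3 (le_of_eq hx42)) ![1,0,1,2] (by decide) (by decide) 0 (by decide))
      · -- 24=(3,1)
        exact False.elim (cert_false T ((skipEmb 3).trans (Function.Embedding.refl _)) (by norm_num) (fun _ => hall _) (((((LB_zero T ((skipEmb 3).trans (Function.Embedding.refl _))).upd 0 3 1 (le_of_eq hx04)).upd 2 3 3 (le_of_eq hx24)).upd 3 0 1 (le_of_eq hx40)).upd 3 2 1 (le_of_eq hx42)) ![1,0,3,2] (by decide) (by decide) 0 (by decide))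
    · -- 14=(1,1)
      exact False.elim (cert_false T ((skipEmb 3).trans (Function.Embedding.refl _)) (by norm_num) (fun _ => hall _) (((((((LB_zero T ((skipEmb 3).trans (Function.Embedding.refl _))).upd 0 1 1 (le_of_eq hx01)).upd 0 3 1 (le_of_eq hx04)).upd 1 0 1 (le_of_eq hx10)).upd 1 3 1 (le_of_eq hx14)).upd 3 0 1 (le_of_eq hx40)).upd 3 1 1 (le_of_eq hx41)) ![1,1,0,1] (by decide) (by decide) 0 (by decide))
    · -- 14=(1,2)
      exact False.elim (cert_false T ((skipEmb 3).trans (Function.Embedding.refl _)) (by norm_num) (fun _ => hall _) (((((((LB_zero T ((skipEmb 3).trans (Function.Embedding.refl _))).upd 0 1 1 (le_of_eq hx01)).upd 0 3 1 (le_of_eq hx04)).upd 1 0 1 (le_of_eq hx10)).upd 1 3 1 (le_of_eq hx14)).upd 3 0 1 (le_of_eq hx40)).upd 3 1 2 (le_of_eq hx41)) ![1,1,0,1] (by decide) (by decide) 0 (by decide))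
    · -- 14=(2,1)
      exact False.elim (cert_false T ((skipEmb 3).trans (Function.Embedding.refl _)) (by norm_num) (fun _ => hall _) (((((((LB_zero T ((skipEmb 3).trans (Function.Embedding.refl _))).upd 0 1 1 (le_of_eq hx01)).upd 0 3 1 (le_of_eq hx04)).upd 1 0 1 (le_of_eq hx10)).upd 1 3 2 (le_of_eq hx14)).upd 3 0 1 (le_of_eq hx40)).upd 3 1 1 (le_of_eq hx41)) ![1,1,0,1] (by decide) (by decide) 0 (by decide))
    · -- 14=(1,3)
      exact False.elim (cert_false T ((skipEmb 3).trans (Function.Embedding.refl _)) (by norm_num) (fun _ => hall _) (((((((LB_zero T ((skipEmb 3).trans (Function.Embedding.refl _))).upd 0 1 1 (le_of_eq hx01)).upd 0 3 1 (le_of_eq hx04)).upd 1 0 1 (le_of_eq hx10)).upd 1 3 1 (le_of_eq hx14)).upd 3 0 1 (le_of_eq hx40)).upd 3 1 3 (le_of_eq hx41)) ![1,1,0,1] (by decide) (by decide) 0 (by decide))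
    · -- 14=(3,1)
      exact False.elim (cert_false T ((skipEmb 3).trans (Function.Embedding.refl _)) (by norm_num) (fun _ => hall _) (((((((LB_zero T ((skipEmb 3).trans (Function.Embedding.refl _))).upd 0 1 1 (le_of_eq hx01)).upd 0 3 1 (le_of_eq hx04)).upd 1 0 1 (le_of_eq hx10)).upd 1 3 3 (le_of_eq hx14)).upd 3 0 1 (le_of_eq hx40)).upd 3 1 1 (le_of_eq hx41)) ![1,1,0,1] (by decide) (by decide) 0 (by decide))
  · -- 04=(1,2)
    rcases d14 with ⟨rfl, rfl⟩ | ⟨rfl, rfl⟩ | ⟨rfl, rfl⟩ | ⟨rfl, rfl⟩ | ⟨rfl, rfl⟩ | ⟨rfl, rfl⟩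
    · -- 14=(0,0)
      rcases d24 with ⟨rfl, rfl⟩ | ⟨rfl, rfl⟩ | ⟨rfl, rfl⟩ | ⟨rfl, rfl⟩ | ⟨rfl, rfl⟩ | ⟨rfl, rfl⟩
      · -- 24=(0,0)
        rcases d34 with ⟨rfl, rfl⟩ | ⟨rfl, rfl⟩ | ⟨rfl, rfl⟩ | ⟨rfl, rfl⟩ | ⟨rfl, rfl⟩ | ⟨rfl, rfl⟩
        · -- 34=(0,0)
          exfalso; omega
        · -- 34=(1,1)
          refine ⟨(⟨![2, 3, 4, 0, 1], ![3, 4, 0, 1, 2], by decide, by decide⟩ : Equiv.Perm (Fin 5)), T.m 2, T.w 2, Or.inr (Or.inl ?_)⟩
          show T.m 2 = T.m 2 ∧ T.m 3 = 2 * T.m 2 ∧ T.m 4 = 3 * T.m 2 ∧ T.m 0 = 2 * T.m 2 ∧ T.m 1 = T.m 2 ∧ T.w 2 = T.w 2 ∧ T.w 3 = T.w 2 ∧ T.w 4 = T.w 2 ∧ T.w 0 = 2 * T.w 2 ∧ T.w 1 = 2 * T.w 2 ∧ T.a 2 2 = -2 * T.w 2 ∧ T.a 2 3 = T.w 2 ∧ T.a 2 4 = 0 ∧ T.a 2 0 = 0 ∧ T.a 2 1 = 0 ∧ T.a 3 3 = -2 * T.w 2 ∧ T.a 3 4 = T.w 2 ∧ T.a 3 0 = 0 ∧ T.a 3 1 = 0 ∧ T.a 4 4 = -2 * T.w 2 ∧ T.a 4 0 = 2 * T.w 2 ∧ T.a 4 1 = 0 ∧ T.a 0 0 = -4 * T.w 2 ∧ T.a 0 1 = 2 * T.w 2 ∧ T.a 1 1 = -4 * T.w 2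
          refine ⟨?_, ?_, ?_, ?_, ?_, ?_, ?_, ?_, ?_, ?_, ?_, ?_, ?_, ?_, ?_, ?_, ?_, ?_, ?_, ?_, ?_, ?_, ?_, ?_, ?_⟩ <;> omega
        · -- 34=(1,2)
          exact False.elim (cert_false T ((skipEmb 2).trans (Function.Embedding.refl _)) (by norm_num) (fun _ => hall _) (((((LB_zero T ((skipEmb 2).trans (Function.Embedding.refl _))).upd 0 3 1 (le_of_eq hx04)).upd 2 3 1 (le_of_eq hx34)).upd 3 0 2 (le_of_eq hx40)).upd 3 2 2 (le_of_eq hx43)) ![1,0,1,2] (by decide) (by decide) 0 (by decide))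
        · -- 34=(2,1)
          exact False.elim (cert_false T ((skipEmb 2).trans (Function.Embedding.refl _)) (by norm_num) (fun _ => hall _) (((((LB_zero T ((skipEmb 2).trans (Function.Embedding.refl _))).upd 0 3 1 (le_of_eq hx04)).upd 2 3 2 (le_of_eq hx34)).upd 3 0 2 (le_of_eq hx40)).upd 3 2 1 (le_of_eq hx43)) ![1,0,2,2] (by decide) (by decide) 0 (by decide))
        · -- 34=(1,3)
          exact False.elim (cert_false T ((skipEmb 2).trans (Function.Embedding.refl _)) (by norm_num) (fun _ => hall _) (((((LB_zero T ((skipEmb 2).trans (Function.Embedding.refl _))).upd 0 3 1 (le_of_eq hx04)).upd 2 3 1 (le_of_eq hx34)).upd 3 0 2 (le_of_eq hx40)).upd 3 2 3 (le_of_eq hx43)) ![1,0,1,2] (by decide) (by decide) 0 (by decide))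
        · -- 34=(3,1)
          exact False.elim (cert_false T ((skipEmb 2).trans (Function.Embedding.refl _)) (by norm_num) (fun _ => hall _) (((((LB_zero T ((skipEmb 2).trans (Function.Embedding.refl _))).upd 0 3 1 (le_of_eq hx04)).upd 2 3 3 (le_of_eq hx34)).upd 3 0 2 (le_of_eq hx40)).upd 3 2 1 (le_of_eq hx43)) ![1,0,2,2] (by decide) (by decide) 0 (by decide))
      · -- 24=(1,1)
        rcases d34 with ⟨rfl, rfl⟩ | ⟨rfl, rfl⟩ | ⟨rfl, rfl⟩ | ⟨rfl, rfl⟩ | ⟨rfl, rfl⟩ | ⟨rfl, rfl⟩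
        · -- 34=(0,0)
          refine ⟨(⟨![3, 2, 4, 0, 1], ![3, 4, 1, 0, 2], by decide, by decide⟩ : Equiv.Perm (Fin 5)), T.m 3, T.w 3, Or.inr (Or.inl ?_)⟩
          show T.m 3 = T.m 3 ∧ T.m 2 = 2 * T.m 3 ∧ T.m 4 = 3 * T.m 3 ∧ T.m 0 = 2 * T.m 3 ∧ T.m 1 = T.m 3 ∧ T.w 3 = T.w 3 ∧ T.w 2 = T.w 3 ∧ T.w 4 = T.w 3 ∧ T.w 0 = 2 * T.w 3 ∧ T.w 1 = 2 * T.w 3 ∧ T.a 3 3 = -2 * T.w 3 ∧ T.a 3 2 = T.w 3 ∧ T.a 3 4 = 0 ∧ T.a 3 0 = 0 ∧ T.a 3 1 = 0 ∧ T.a 2 2 = -2 * T.w 3 ∧ T.a 2 4 = T.w 3 ∧ T.a 2 0 = 0 ∧ T.a 2 1 = 0 ∧ T.a 4 4 = -2 * T.w 3 ∧ T.a 4 0 = 2 * T.w 3 ∧ T.a 4 1 = 0 ∧ T.a 0 0 = -4 * T.w 3 ∧ T.a 0 1 = 2 * T.w 3 ∧ T.a 1 1 = -4 * T.w 3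
          refine ⟨?_, ?_, ?_, ?_, ?_, ?_, ?_, ?_, ?_, ?_, ?_, ?_, ?_, ?_, ?_, ?_, ?_, ?_, ?_, ?_, ?_, ?_, ?_, ?_, ?_⟩ <;> omega
        · -- 34=(1,1)
          exact False.elim (cert_false T ((skipEmb 1).trans (Function.Embedding.refl _)) (by norm_num) (fun _ => hall _) (((((((LB_zero T ((skipEmb 1).trans (Function.Embedding.refl _))).upd 1 2 1 (le_of_eq hx23)).upd 1 3 1 (le_of_eq hx24)).upd 2 1 1 (le_of_eq hx32)).upd 2 3 1 (le_of_eq hx34)).upd 3 1 1 (le_of_eq hx42)).upd 3 2 1 (le_of_eq hx43)) ![0,1,1,1] (by decide) (by decide) 1 (by decide))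
        · -- 34=(1,2)
          exact False.elim (cert_false T ((skipEmb 2).trans (Function.Embedding.refl _)) (by norm_num) (fun _ => hall _) (((((LB_zero T ((skipEmb 2).trans (Function.Embedding.refl _))).upd 0 3 1 (le_of_eq hx04)).upd 2 3 1 (le_of_eq hx34)).upd 3 0 2 (le_of_eq hx40)).upd 3 2 2 (le_of_eq hx43)) ![1,0,1,2] (by decide) (by decide) 0 (by decide))
        · -- 34=(2,1)
          exact False.elim (cert_false T ((skipEmb 2).trans (Function.Embedding.refl _)) (by norm_num) (fun _ => hall _) (((((LB_zero T ((skipEmb 2).trans (Function.Embedding.refl _))).upd 0 3 1 (le_of_eq hx04)).upd 2 3 2 (le_of_eq hx34)).upd 3 0 2 (le_of_eq hx40)).upd 3 2 1 (le_of_eq hx43)) ![1,0,2,2] (by decide) (by decide) 0 (by decide))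
        · -- 34=(1,3)
          exact False.elim (cert_false T ((skipEmb 2).trans (Function.Embedding.refl _)) (by norm_num) (fun _ => hall _) (((((LB_zero T ((skipEmb 2).trans (Function.Embedding.refl _))).upd 0 3 1 (le_of_eq hx04)).upd 2 3 1 (le_of_eq hx34)).upd 3 0 2 (le_of_eq hx40)).upd 3 2 3 (le_of_eq hx43)) ![1,0,1,2] (by decide) (by decide) 0 (by decide))
        · -- 34=(3,1)
          exact False.elim (cert_false T ((skipEmb 2).trans (Function.Embedding.refl _)) (by norm_num) (fun _ => hall _) (((((LB_zero T ((skipEmb 2).trans (Function.Embedding.refl _))).upd 0 3 1 (le_of_eq hx04)).upd 2 3 3 (le_of_eq hx34)).upd 3 0 2 (le_of_eq hx40)).upd 3 2 1 (le_of_eq hx43)) ![1,0,2,2] (by decide) (by decide) 0 (by decide))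
      · -- 24=(1,2)
        exact False.elim (cert_false T ((skipEmb 3).trans (Function.Embedding.refl _)) (by norm_num) (fun _ => hall _) (((((LB_zero T ((skipEmb 3).trans (Function.Embedding.refl _))).upd 0 3 1 (le_of_eq hx04)).upd 2 3 1 (le_of_eq hx24)).upd 3 0 2 (le_of_eq hx40)).upd 3 2 2 (le_of_eq hx42)) ![1,0,1,2] (by decide) (by decide) 0 (by decide))
      · -- 24=(2,1)
        exact False.elim (cert_false T ((skipEmb 3).trans (Function.Embedding.refl _)) (by norm_num) (fun _ => hall _) (((((LB_zero T ((skipEmb 3).trans (Function.Embedding.refl _))).upd 0 3 1 (le_of_eq hx04)).upd 2 3 2 (le_of_eq hx24)).upd 3 0 2 (le_of_eq hx40)).upd 3 2 1 (le_of_eq hx42)) ![1,0,2,2] (by decide) (by decide) 0 (by decide))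
      · -- 24=(1,3)
        exact False.elim (cert_false T ((skipEmb 3).trans (Function.Embedding.refl _)) (by norm_num) (fun _ => hall _) (((((LB_zero T ((skipEmb 3).trans (Function.Embedding.refl _))).upd 0 3 1 (le_of_eq hx04)).upd 2 3 1 (le_of_eq hx24)).upd 3 0 2 (le_of_eq hx40)).upd 3 2 3 (le_of_eq hx42)) ![1,0,1,2] (by decide) (by decide) 0 (by decide))
      · -- 24=(3,1)
        exact False.elim (cert_false T ((skipEmb 3).trans (Function.Embedding.refl _)) (by norm_num) (fun _ => hall _) (((((LB_zero T ((skipEmb 3).trans (Function.Embedding.refl _))).upd 0 3 1 (le_of_eq hx04)).upd 2 3 3 (le_of_eq hx24)).upd 3 0 2 (le_of_eq hx40)).upd 3 2 1 (le_of_eq hx42)) ![1,0,2,2] (by decide) (by decide) 0 (by decide))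
    · -- 14=(1,1)
      exact False.elim (cert_false T ((skipEmb 3).trans (Function.Embedding.refl _)) (by norm_num) (fun _ => hall _) (((((((LB_zero T ((skipEmb 3).trans (Function.Embedding.refl _))).upd 0 1 1 (le_of_eq hx01)).upd 0 3 1 (le_of_eq hx04)).upd 1 0 1 (le_of_eq hx10)).upd 1 3 1 (le_of_eq hx14)).upd 3 0 2 (le_of_eq hx40)).upd 3 1 1 (le_of_eq hx41)) ![1,1,0,1] (by decide) (by decide) 0 (by decide))
    · -- 14=(1,2)
      exact False.elim (cert_false T ((skipEmb 3).trans (Function.Embedding.refl _)) (by norm_num) (fun _ => hall _) (((((((LB_zero T ((skipEmb 3).trans (Function.Embedding.refl _))).upd 0 1 1 (le_of_eq hx01)).upd 0 3 1 (le_of_eq hx04)).upd 1 0 1 (le_of_eq hx10)).upd 1 3 1 (le_of_eq hx14)).upd 3 0 2 (le_of_eq hx40)).upd 3 1 2 (le_of_eq hx41)) ![1,1,0,1] (by decide) (by decide) 0 (by decide))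
    · -- 14=(2,1)
      exact False.elim (cert_false T ((skipEmb 3).trans (Function.Embedding.refl _)) (by norm_num) (fun _ => hall _) (((((((LB_zero T ((skipEmb 3).trans (Function.Embedding.refl _))).upd 0 1 1 (le_of_eq hx01)).upd 0 3 1 (le_of_eq hx04)).upd 1 0 1 (le_of_eq hx10)).upd 1 3 2 (le_of_eq hx14)).upd 3 0 2 (le_of_eq hx40)).upd 3 1 1 (le_of_eq hx41)) ![1,1,0,1] (by decide) (by decide) 0 (by decide))
    · -- 14=(1,3)
      exact False.elim (cert_false T ((skipEmb 3).trans (Function.Embedding.refl _)) (by norm_num) (fun _ => hall _) (((((((LB_zero T ((skipEmb 3).trans (Function.Embedding.refl _))).upd 0 1 1 (le_of_eq hx01)).upd 0 3 1 (le_of_eq hx04)).upd 1 0 1 (le_of_eq hx10)).upd 1 3 1 (le_of_eq hx14)).upd 3 0 2 (le_of_eq hx40)).upd 3 1 3 (le_of_eq hx41)) ![1,1,0,1] (by decide) (by decide) 0 (by decide))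
    · -- 14=(3,1)
      exact False.elim (cert_false T ((skipEmb 3).trans (Function.Embedding.refl _)) (by norm_num) (fun _ => hall _) (((((((LB_zero T ((skipEmb 3).trans (Function.Embedding.refl _))).upd 0 1 1 (le_of_eq hx01)).upd 0 3 1 (le_of_eq hx04)).upd 1 0 1 (le_of_eq hx10)).upd 1 3 3 (le_of_eq hx14)).upd 3 0 2 (le_of_eq hx40)).upd 3 1 1 (le_of_eq hx41)) ![1,1,0,1] (by decide) (by decide) 0 (by decide))
  · -- 04=(2,1)
    rcases d14 with ⟨rfl, rfl⟩ | ⟨rfl, rfl⟩ | ⟨rfl, rfl⟩ | ⟨rfl, rfl⟩ | ⟨rfl, rfl⟩ | ⟨rfl, rfl⟩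
    · -- 14=(0,0)
      rcases d24 with ⟨rfl, rfl⟩ | ⟨rfl, rfl⟩ | ⟨rfl, rfl⟩ | ⟨rfl, rfl⟩ | ⟨rfl, rfl⟩ | ⟨rfl, rfl⟩
      · -- 24=(0,0)
        rcases d34 with ⟨rfl, rfl⟩ | ⟨rfl, rfl⟩ | ⟨rfl, rfl⟩ | ⟨rfl, rfl⟩ | ⟨rfl, rfl⟩ | ⟨rfl, rfl⟩
        · -- 34=(0,0)
          exfalso; omega
        · -- 34=(1,1)
          refine ⟨(⟨![2, 3, 4, 0, 1], ![3, 4, 0, 1, 2], by decide, by decide⟩ : Equiv.Perm (Fin 5)), T.m 2, T.w 0, Or.inr (Or.inr (Or.inl ?_))⟩
          show T.m 2 = T.m 2 ∧ T.m 3 = 2 * T.m 2 ∧ T.m 4 = 3 * T.m 2 ∧ T.m 0 = 4 * T.m 2 ∧ T.m 1 = 2 * T.m 2 ∧ T.w 2 = 2 * T.w 0 ∧ T.w 3 = 2 * T.w 0 ∧ T.w 4 = 2 * T.w 0 ∧ T.w 0 = T.w 0 ∧ T.w 1 = T.w 0 ∧ T.a 2 2 = -4 * T.w 0 ∧ T.a 2 3 = 2 * T.w 0 ∧ T.a 2 4 = 0 ∧ T.a 2 0 = 0 ∧ T.a 2 1 = 0 ∧ T.a 3 3 = -4 * T.w 0 ∧ T.a 3 4 = 2 * T.w 0 ∧ T.a 3 0 = 0 ∧ T.a 3 1 = 0 ∧ T.a 4 4 = -4 * T.w 0 ∧ T.a 4 0 = 2 * T.w 0 ∧ T.a 4 1 = 0 ∧ T.a 0 0 = -2 * T.w 0 ∧ T.a 0 1 = T.w 0 ∧ T.a 1 1 = -2 *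 T.w 0
          refine ⟨?_, ?_, ?_, ?_, ?_, ?_, ?_, ?_, ?_, ?_, ?_, ?_, ?_, ?_, ?_, ?_, ?_, ?_, ?_, ?_, ?_, ?_, ?_, ?_, ?_⟩ <;> omega
        · -- 34=(1,2)
          exact False.elim (cert_false T ((skipEmb 2).trans (Function.Embedding.refl _)) (by norm_num) (fun _ => hall _) (((((LB_zero T ((skipEmb 2).trans (Function.Embedding.refl _))).upd 0 3 2 (le_of_eq hx04)).upd 2 3 1 (le_of_eq hx34)).upd 3 0 1 (le_of_eq hx40)).upd 3 2 2 (le_of_eq hx43)) ![2,0,1,2] (by decide) (by decide) 0 (by decide))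
        · -- 34=(2,1)
          exact False.elim (cert_false T ((skipEmb 2).trans (Function.Embedding.refl _)) (by norm_num) (fun _ => hall _) (((((LB_zero T ((skipEmb 2).trans (Function.Embedding.refl _))).upd 0 3 2 (le_of_eq hx04)).upd 2 3 2 (le_of_eq hx34)).upd 3 0 1 (le_of_eq hx40)).upd 3 2 1 (le_of_eq hx43)) ![1,0,1,1] (by decide) (by decide) 0 (by decide))
        · -- 34=(1,3)
          exact False.elim (cert_false T ((skipEmb 2).trans (Function.Embedding.refl _)) (by norm_num) (fun _ => hall _) (((((LB_zero T ((skipEmb 2).trans (Function.Embedding.refl _))).upd 0 3 2 (le_of_eq hx04)).upd 2 3 1 (le_of_eq hx34)).upd 3 0 1 (le_of_eq hx40)).upd 3 2 3 (le_of_eq hx43)) ![1,0,1,2] (by decide) (by decide) 0 (by decide))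
        · -- 34=(3,1)
          exact False.elim (cert_false T ((skipEmb 2).trans (Function.Embedding.refl _)) (by norm_num) (fun _ => hall _) (((((LB_zero T ((skipEmb 2).trans (Function.Embedding.refl _))).upd 0 3 2 (le_of_eq hx04)).upd 2 3 3 (le_of_eq hx34)).upd 3 0 1 (le_of_eq hx40)).upd 3 2 1 (le_of_eq hx43)) ![1,0,1,1] (by decide) (by decide) 0 (by decide))
      · -- 24=(1,1)
        rcases d34 with ⟨rfl, rfl⟩ | ⟨rfl, rfl⟩ | ⟨rfl, rfl⟩ | ⟨rfl, rfl⟩ | ⟨rfl, rfl⟩ | ⟨rfl, rfl⟩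
        · -- 34=(0,0)
          refine ⟨(⟨![3, 2, 4, 0, 1], ![3, 4, 1, 0, 2], by decide, by decide⟩ : Equiv.Perm (Fin 5)), T.m 3, T.w 0, Or.inr (Or.inr (Or.inl ?_))⟩
          show T.m 3 = T.m 3 ∧ T.m 2 = 2 * T.m 3 ∧ T.m 4 = 3 * T.m 3 ∧ T.m 0 = 4 * T.m 3 ∧ T.m 1 = 2 * T.m 3 ∧ T.w 3 = 2 * T.w 0 ∧ T.w 2 = 2 * T.w 0 ∧ T.w 4 = 2 * T.w 0 ∧ T.w 0 = T.w 0 ∧ T.w 1 = T.w 0 ∧ T.a 3 3 = -4 * T.w 0 ∧ T.a 3 2 = 2 * T.w 0 ∧ T.a 3 4 = 0 ∧ T.a 3 0 = 0 ∧ T.a 3 1 = 0 ∧ T.a 2 2 = -4 * T.w 0 ∧ T.a 2 4 = 2 * T.w 0 ∧ T.a 2 0 = 0 ∧ T.a 2 1 = 0 ∧ T.a 4 4 = -4 * T.w 0 ∧ T.a 4 0 = 2 * T.w 0 ∧ T.a 4 1 = 0 ∧ T.a 0 0 = -2 * T.w 0 ∧ T.a 0 1 = T.w 0 ∧ T.a 1 1 = -2 * T.w 0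
          refine ⟨?_, ?_, ?_, ?_, ?_, ?_, ?_, ?_, ?_, ?_, ?_, ?_, ?_, ?_, ?_, ?_, ?_, ?_, ?_, ?_, ?_, ?_, ?_, ?_, ?_⟩ <;> omega
        · -- 34=(1,1)
          exact False.elim (cert_false T ((skipEmb 1).trans (Function.Embedding.refl _)) (by norm_num) (fun _ => hall _) (((((((LB_zero T ((skipEmb 1).trans (Function.Embedding.refl _))).upd 1 2 1 (le_of_eq hx23)).upd 1 3 1 (le_of_eq hx24)).upd 2 1 1 (le_of_eq hx32)).upd 2 3 1 (le_of_eq hx34)).upd 3 1 1 (le_of_eq hx42)).upd 3 2 1 (le_of_eq hx43)) ![0,1,1,1] (by decide) (by decide) 1 (by decide))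
        · -- 34=(1,2)
          exact False.elim (cert_false T ((skipEmb 2).trans (Function.Embedding.refl _)) (by norm_num) (fun _ => hall _) (((((LB_zero T ((skipEmb 2).trans (Function.Embedding.refl _))).upd 0 3 2 (le_of_eq hx04)).upd 2 3 1 (le_of_eq hx34)).upd 3 0 1 (le_of_eq hx40)).upd 3 2 2 (le_of_eq hx43)) ![2,0,1,2] (by decide) (by decide) 0 (by decide))
        · -- 34=(2,1)
          exact False.elim (cert_false T ((skipEmb 2).trans (Function.Embedding.refl _)) (by norm_num) (fun _ => hall _) (((((LB_zero T ((skipEmb 2).trans (Function.Embedding.refl _))).upd 0 3 2 (le_of_eq hx04)).upd 2 3 2 (le_of_eq hx34)).upd 3 0 1 (le_of_eq hx40)).upd 3 2 1 (le_of_eq hx43)) ![1,0,1,1] (by decide) (by decide) 0 (by decide))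
        · -- 34=(1,3)
          exact False.elim (cert_false T ((skipEmb 2).trans (Function.Embedding.refl _)) (by norm_num) (fun _ => hall _) (((((LB_zero T ((skipEmb 2).trans (Function.Embedding.refl _))).upd 0 3 2 (le_of_eq hx04)).upd 2 3 1 (le_of_eq hx34)).upd 3 0 1 (le_of_eq hx40)).upd 3 2 3 (le_of_eq hx43)) ![1,0,1,2] (by decide) (by decide) 0 (by decide))
        · -- 34=(3,1)
          exact False.elim (cert_false T ((skipEmb 2).trans (Function.Embedding.refl _)) (by norm_num) (fun _ => hall _) (((((LB_zero T ((skipEmb 2).trans (Function.Embedding.refl _))).upd 0 3 2 (le_of_eq hx04)).upd 2 3 3 (le_of_eq hx34)).upd 3 0 1 (le_of_eq hx40)).upd 3 2 1 (le_of_eq hx43)) ![1,0,1,1] (by decide) (by decide) 0 (by decide))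
      · -- 24=(1,2)
        exact False.elim (cert_false T ((skipEmb 3).trans (Function.Embedding.refl _)) (by norm_num) (fun _ => hall _) (((((LB_zero T ((skipEmb 3).trans (Function.Embedding.refl _))).upd 0 3 2 (le_of_eq hx04)).upd 2 3 1 (le_of_eq hx24)).upd 3 0 1 (le_of_eq hx40)).upd 3 2 2 (le_of_eq hx42)) ![2,0,1,2] (by decide) (by decide) 0 (by decide))
      · -- 24=(2,1)
        exact False.elim (cert_false T ((skipEmb 3).trans (Function.Embedding.refl _)) (by norm_num) (fun _ => hall _) (((((LB_zero T ((skipEmb 3).trans (Function.Embedding.refl _))).upd 0 3 2 (le_of_eq hx04)).upd 2 3 2 (le_of_eq hx24)).upd 3 0 1 (le_of_eq hx40)).upd 3 2 1 (le_of_eq hx42)) ![1,0,1,1] (by decide) (by decide) 0 (by decide))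
      · -- 24=(1,3)
        exact False.elim (cert_false T ((skipEmb 3).trans (Function.Embedding.refl _)) (by norm_num) (fun _ => hall _) (((((LB_zero T ((skipEmb 3).trans (Function.Embedding.refl _))).upd 0 3 2 (le_of_eq hx04)).upd 2 3 1 (le_of_eq hx24)).upd 3 0 1 (le_of_eq hx40)).upd 3 2 3 (le_of_eq hx42)) ![1,0,1,2] (by decide) (by decide) 0 (by decide))
      · -- 24=(3,1)
        exact False.elim (cert_false T ((skipEmb 3).trans (Function.Embedding.refl _)) (by norm_num) (fun _ => hall _) (((((LB_zero T ((skipEmb 3).trans (Function.Embedding.refl _))).upd 0 3 2 (le_of_eq hx04)).upd 2 3 3 (le_of_eq hx24)).upd 3 0 1 (le_of_eq hx40)).upd 3 2 1 (le_of_eq hx42)) ![1,0,1,1] (by decide) (by decide) 0 (by decide))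
    · -- 14=(1,1)
      exact False.elim (cert_false T ((skipEmb 3).trans (Function.Embedding.refl _)) (by norm_num) (fun _ => hall _) (((((((LB_zero T ((skipEmb 3).trans (Function.Embedding.refl _))).upd 0 1 1 (le_of_eq hx01)).upd 0 3 2 (le_of_eq hx04)).upd 1 0 1 (le_of_eq hx10)).upd 1 3 1 (le_of_eq hx14)).upd 3 0 1 (le_of_eq hx40)).upd 3 1 1 (le_of_eq hx41)) ![1,1,0,1] (by decide) (by decide) 0 (by decide))
    · -- 14=(1,2)
      exact False.elim (cert_false T ((skipEmb 3).trans (Function.Embedding.refl _)) (by norm_num) (fun _ => hall _) (((((((LB_zero T ((skipEmb 3).trans (Function.Embedding.refl _))).upd 0 1 1 (le_of_eq hx01)).upd 0 3 2 (le_of_eq hx04)).upd 1 0 1 (le_of_eq hx10)).upd 1 3 1 (le_of_eq hx14)).upd 3 0 1 (le_of_eq hx40)).upd 3 1 2 (le_of_eq hx41)) ![1,1,0,1] (by decide) (by decide) 0 (by decide))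
    · -- 14=(2,1)
      exact False.elim (cert_false T ((skipEmb 3).trans (Function.Embedding.refl _)) (by norm_num) (fun _ => hall _) (((((((LB_zero T ((skipEmb 3).trans (Function.Embedding.refl _))).upd 0 1 1 (le_of_eq hx01)).upd 0 3 2 (le_of_eq hx04)).upd 1 0 1 (le_of_eq hx10)).upd 1 3 2 (le_of_eq hx14)).upd 3 0 1 (le_of_eq hx40)).upd 3 1 1 (le_of_eq hx41)) ![1,1,0,1] (by decide) (by decide) 0 (by decide))
    · -- 14=(1,3)
      exact False.elim (cert_false T ((skipEmb 3).trans (Function.Embedding.refl _)) (by norm_num) (fun _ => hall _) (((((((LB_zero T ((skipEmb 3).trans (Function.Embedding.refl _))).upd 0 1 1 (le_of_eq hx01)).upd 0 3 2 (le_of_eq hx04)).upd 1 0 1 (le_of_eq hx10)).upd 1 3 1 (le_of_eq hx14)).upd 3 0 1 (le_of_eq hx40)).upd 3 1 3 (le_of_eq hx41)) ![1,1,0,1] (by decide) (by decide) 0 (by decide))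
    · -- 14=(3,1)
      exact False.elim (cert_false T ((skipEmb 3).trans (Function.Embedding.refl _)) (by norm_num) (fun _ => hall _) (((((((LB_zero T ((skipEmb 3).trans (Function.Embedding.refl _))).upd 0 1 1 (le_of_eq hx01)).upd 0 3 2 (le_of_eq hx04)).upd 1 0 1 (le_of_eq hx10)).upd 1 3 3 (le_of_eq hx14)).upd 3 0 1 (le_of_eq hx40)).upd 3 1 1 (le_of_eq hx41)) ![1,1,0,1] (by decide) (by decide) 0 (by decide))
  · -- 04=(1,3)
    exact False.elim (cert_false T ((skipEmb 3).trans (Function.Embedding.refl _)) (by norm_num) (fun _ => hall _) (((((LB_zero T ((skipEmb 3).trans (Function.Embedding.refl _))).upd 0 1 1 (le_of_eq hx01)).upd 0 3 1 (le_of_eq hx04)).upd 1 0 1 (le_of_eq hx10)).upd 3 0 3 (le_of_eq hx40)) ![2,1,0,3] (by decide) (by decide) 0 (by decide))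
  · -- 04=(3,1)
    exact False.elim (cert_false T ((skipEmb 3).trans (Function.Embedding.refl _)) (by norm_num) (fun _ => hall _) (((((LB_zero T ((skipEmb 3).trans (Function.Embedding.refl _))).upd 0 1 1 (le_of_eq hx01)).upd 0 3 3 (le_of_eq hx04)).upd 1 0 1 (le_of_eq hx10)).upd 3 0 1 (le_of_eq hx40)) ![2,1,0,1] (by decide) (by decide) 0 (by decide))

theorem case359 (T : NumericalType 5) (hall : ∀ i, T.IsMinusTwo i) (d : SData T)
    (h01 : N T (Function.Embedding.refl _) 0 1 = 1) (h10 : N T (Function.Embedding.refl _) 1 0 = 1)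
    (h02 : N T (Function.Embedding.refl _) 0 2 = 0) (h20 : N T (Function.Embedding.refl _) 2 0 = 0)
    (h12 : N T (Function.Embedding.refl _) 1 2 = 0) (h21 : N T (Function.Embedding.refl _) 2 1 = 0)
    (h03 : N T (Function.Embedding.refl _) 0 3 = 0) (h30 : N T (Function.Embedding.refl _) 3 0 = 0)
    (h13 : N T (Function.Embedding.refl _) 1 3 = 0) (h31 : N T (Function.Embedding.refl _) 3 1 = 0)
    (h23 : N T (Function.Embedding.refl _) 2 3 = 1) (h32 : N T (Function.Embedding.refl _) 3 2 = 2)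
    (h04 : N T (Function.Embedding.refl _) 0 4 = 0) (h40 : N T (Function.Embedding.refl _) 4 0 = 0) :
    Goal T := by
  unfold Goal
  have hd := d
  obtain ⟨x01, x02, x03, x04, x10, x12, x13, x14, x20, x21, x23, x24, x30, x31, x32, x34, x40, x41, x42, x43, hx01, hx02, hx03, hx04, hx10, hx12, hx13, hx14, hx20, hx21, hx23, hx24, hx30, hx31, hx32, hx34, hx40, hx41, hx42, hx43, hw0, hm0, hw1, hm1, hw2, hm2, hw3, hm3, hw4, hm4, a00, a01, a02, a03, a04, a11, a10, a12, a13, a14, a22, a20, a21, a23, a24, a33, a30, a31, a32, a34, a44, a40, a41, a42, a43, wN01, wN02, wN12, wN03, wN13, wN23, wN04, wN14, wN24, wN34, e0, e1, e2, e3, e4, d01, d02, d12, d03, d13, d23, d04, d14, d24, d34⟩ := d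
  obtain rfl : x01 = 1 := hx01.trans h01
  obtain rfl : x10 = 1 := hx10.trans h10
  obtain rfl : x02 = 0 := hx02.trans h02
  obtain rfl : x20 = 0 := hx20.trans h20
  obtain rfl : x12 = 0 := hx12.trans h12
  obtain rfl : x21 = 0 := hx21.trans h21
  obtain rfl : x03 = 0 := hx03.trans h03
  obtain rfl : x30 = 0 := hx30.trans h30
  obtain rfl : x13 = 0 := hx13.trans h13
  obtain rfl : x31 = 0 := hx31.trans h31
  obtain rfl : x23 = 1 := hx23.trans h23
  obtain rfl : x32 = 2 := hx32.trans h32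
  obtain rfl : x04 = 0 := hx04.trans h04
  obtain rfl : x40 = 0 := hx40.trans h40
  rcases d14 with ⟨rfl, rfl⟩ | ⟨rfl, rfl⟩ | ⟨rfl, rfl⟩ | ⟨rfl, rfl⟩ | ⟨rfl, rfl⟩ | ⟨rfl, rfl⟩
  · -- 14=(0,0)
    rcases d24 with ⟨rfl, rfl⟩ | ⟨rfl, rfl⟩ | ⟨rfl, rfl⟩ | ⟨rfl, rfl⟩ | ⟨rfl, rfl⟩ | ⟨rfl, rfl⟩
    · -- 24=(0,0)
      rcases d34 with ⟨rfl, rfl⟩ | ⟨rfl, rfl⟩ | ⟨rfl, rfl⟩ | ⟨rfl, rfl⟩ | ⟨rfl, rfl⟩ | ⟨rfl, rfl⟩
      · -- 34=(0,0)
        exfalso; omega
      · -- 34=(1,1)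
        exfalso; omega
      · -- 34=(1,2)
        exact False.elim (cert_false T ((skipEmb 1).trans (Function.Embedding.refl _)) (by norm_num) (fun _ => hall _) (((((LB_zero T ((skipEmb 1).trans (Function.Embedding.refl _))).upd 1 2 1 (le_of_eq hx23)).upd 2 1 2 (le_of_eq hx32)).upd 2 3 1 (le_of_eq hx34)).upd 3 2 2 (le_of_eq hx43)) ![0,1,2,2] (by decide) (by decide) 1 (by decide))
      · -- 34=(2,1)
        exact False.elim (cert_false T ((skipEmb 1).trans (Function.Embedding.refl _)) (by norm_num) (fun _ => hall _) (((((LB_zero T ((skipEmb 1).trans (Function.Embedding.refl _))).upd 1 2 1 (le_of_eq hx23)).upd 2 1 2 (le_of_eq hx32)).upd 2 3 2 (le_of_eq hx34)).upd 3 2 1 (le_of_eq hx43)) ![0,1,2,1] (by decide) (by decide) 1 (by decide))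
      · -- 34=(1,3)
        exact False.elim (cert_false T ((skipEmb 1).trans (Function.Embedding.refl _)) (by norm_num) (fun _ => hall _) (((((LB_zero T ((skipEmb 1).trans (Function.Embedding.refl _))).upd 1 2 1 (le_of_eq hx23)).upd 2 1 2 (le_of_eq hx32)).upd 2 3 1 (le_of_eq hx34)).upd 3 2 3 (le_of_eq hx43)) ![0,1,2,2] (by decide) (by decide) 1 (by decide))
      · -- 34=(3,1)
        exact False.elim (cert_false T ((skipEmb 1).trans (Function.Embedding.refl _)) (by norm_num) (fun _ => hall _) (((((LB_zero T ((skipEmb 1).trans (Function.Embedding.refl _))).upd 1 2 1 (le_of_eq hx23)).upd 2 1 2 (le_of_eq hx32)).upd 2 3 3 (le_of_eq hx34)).upd 3 2 1 (le_of_eq hx43)) ![0,1,2,1] (by decide) (by decide) 1 (by decide))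
    · -- 24=(1,1)
      rcases d34 with ⟨rfl, rfl⟩ | ⟨rfl, rfl⟩ | ⟨rfl, rfl⟩ | ⟨rfl, rfl⟩ | ⟨rfl, rfl⟩ | ⟨rfl, rfl⟩
      · -- 34=(0,0)
        exfalso; omega
      · -- 34=(1,1)
        exact False.elim (cert_false T ((skipEmb 1).trans (Function.Embedding.refl _)) (by norm_num) (fun _ => hall _) (((((((LB_zero T ((skipEmb 1).trans (Function.Embedding.refl _))).upd 1 2 1 (le_of_eq hx23)).upd 1 3 1 (le_of_eq hx24)).upd 2 1 2 (le_of_eq hx32)).upd 2 3 1 (le_of_eq hx34)).upd 3 1 1 (le_of_eq hx42)).upd 3 2 1 (le_of_eq hx43)) ![0,1,1,1] (by decide) (by decide) 1 (by decide))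
      · -- 34=(1,2)
        exact False.elim (cert_false T ((skipEmb 1).trans (Function.Embedding.refl _)) (by norm_num) (fun _ => hall _) (((((((LB_zero T ((skipEmb 1).trans (Function.Embedding.refl _))).upd 1 2 1 (le_of_eq hx23)).upd 1 3 1 (le_of_eq hx24)).upd 2 1 2 (le_of_eq hx32)).upd 2 3 1 (le_of_eq hx34)).upd 3 1 1 (le_of_eq hx42)).upd 3 2 2 (le_of_eq hx43)) ![0,1,1,1] (by decide) (by decide) 1 (by decide))
      · -- 34=(2,1)
        exact False.elim (cert_false T ((skipEmb 1).trans (Function.Embedding.refl _)) (by norm_num) (fun _ => hall _) (((((((LB_zero T ((skipEmb 1).trans (Function.Embedding.refl _))).upd 1 2 1 (le_of_eq hx23)).upd 1 3 1 (le_of_eq hx24)).upd 2 1 2 (le_of_eq hx32)).upd 2 3 2 (le_of_eq hx34)).upd 3 1 1 (le_of_eq hx42)).upd 3 2 1 (le_of_eq hx43)) ![0,1,1,1] (by decide) (by decide) 1 (by decide))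
      · -- 34=(1,3)
        exact False.elim (cert_false T ((skipEmb 1).trans (Function.Embedding.refl _)) (by norm_num) (fun _ => hall _) (((((((LB_zero T ((skipEmb 1).trans (Function.Embedding.refl _))).upd 1 2 1 (le_of_eq hx23)).upd 1 3 1 (le_of_eq hx24)).upd 2 1 2 (le_of_eq hx32)).upd 2 3 1 (le_of_eq hx34)).upd 3 1 1 (le_of_eq hx42)).upd 3 2 3 (le_of_eq hx43)) ![0,1,1,1] (by decide) (by decide) 1 (by decide))
      · -- 34=(3,1)
        exact False.elim (cert_false T ((skipEmb 1).trans (Function.Embedding.refl _)) (by norm_num) (fun _ => hall _) (((((((LB_zero T ((skipEmb 1).trans (Function.Embedding.refl _))).upd 1 2 1 (le_of_eq hx23)).upd 1 3 1 (le_of_eq hx24)).upd 2 1 2 (le_of_eq hx32)).upd 2 3 3 (le_of_eq hx34)).upd 3 1 1 (le_of_eq hx42)).upd 3 2 1 (le_of_eq hx43)) ![0,1,1,1] (by decide) (by decide) 1 (by decide))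
    · -- 24=(1,2)
      exact False.elim (cert_false T ((skipEmb 1).trans (Function.Embedding.refl _)) (by norm_num) (fun _ => hall _) (((((LB_zero T ((skipEmb 1).trans (Function.Embedding.refl _))).upd 1 2 1 (le_of_eq hx23)).upd 1 3 1 (le_of_eq hx24)).upd 2 1 2 (le_of_eq hx32)).upd 3 1 2 (le_of_eq hx42)) ![0,1,1,1] (by decide) (by decide) 1 (by decide))
    · -- 24=(2,1)
      exact False.elim (cert_false T ((skipEmb 1).trans (Function.Embedding.refl _)) (by norm_num) (fun _ => hall _) (((((LB_zero T ((skipEmb 1).trans (Function.Embedding.refl _))).upd 1 2 1 (le_of_eq hx23)).upd 1 3 2 (le_of_eq hx24)).upd 2 1 2 (le_of_eq hx32)).upd 3 1 1 (le_of_eq hx42)) ![0,2,2,1] (by decide) (by decide) 1 (by decide))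
    · -- 24=(1,3)
      exact False.elim (cert_false T ((skipEmb 1).trans (Function.Embedding.refl _)) (by norm_num) (fun _ => hall _) (((((LB_zero T ((skipEmb 1).trans (Function.Embedding.refl _))).upd 1 2 1 (le_of_eq hx23)).upd 1 3 1 (le_of_eq hx24)).upd 2 1 2 (le_of_eq hx32)).upd 3 1 3 (le_of_eq hx42)) ![0,1,1,1] (by decide) (by decide) 1 (by decide))
    · -- 24=(3,1)
      exact False.elim (cert_false T ((skipEmb 1).trans (Function.Embedding.refl _)) (by norm_num) (fun _ => hall _) (((((LB_zero T ((skipEmb 1).trans (Function.Embedding.refl _))).upd 1 2 1 (le_of_eq hx23)).upd 1 3 3 (le_of_eq hx24)).upd 2 1 2 (le_of_eq hx32)).upd 3 1 1 (le_of_eq hx42)) ![0,2,1,1] (by decide) (by decide) 1 (by decide))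
  · -- 14=(1,1)
    rcases d24 with ⟨rfl, rfl⟩ | ⟨rfl, rfl⟩ | ⟨rfl, rfl⟩ | ⟨rfl, rfl⟩ | ⟨rfl, rfl⟩ | ⟨rfl, rfl⟩
    · -- 24=(0,0)
      rcases d34 with ⟨rfl, rfl⟩ | ⟨rfl, rfl⟩ | ⟨rfl, rfl⟩ | ⟨rfl, rfl⟩ | ⟨rfl, rfl⟩ | ⟨rfl, rfl⟩
      · -- 34=(0,0)
        exfalso; omega
      · -- 34=(1,1)
        exfalso; omega
      · -- 34=(1,2)
        exact False.elim (cert_false T ((skipEmb 1).trans (Function.Embedding.refl _)) (by norm_num) (fun _ => hall _) (((((LB_zero T ((skipEmb 1).trans (Function.Embedding.refl _))).upd 1 2 1 (le_of_eq hx23)).upd 2 1 2 (le_of_eq hx32)).upd 2 3 1 (le_of_eq hx34)).upd 3 2 2 (le_of_eq hx43)) ![0,1,2,2] (by decide) (by decide) 1 (by decide))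
      · -- 34=(2,1)
        exact False.elim (cert_false T ((skipEmb 1).trans (Function.Embedding.refl _)) (by norm_num) (fun _ => hall _) (((((LB_zero T ((skipEmb 1).trans (Function.Embedding.refl _))).upd 1 2 1 (le_of_eq hx23)).upd 2 1 2 (le_of_eq hx32)).upd 2 3 2 (le_of_eq hx34)).upd 3 2 1 (le_of_eq hx43)) ![0,1,2,1] (by decide) (by decide) 1 (by decide))
      · -- 34=(1,3)
        exact False.elim (cert_false T ((skipEmb 2).trans (Function.Embedding.refl _)) (by norm_num) (fun _ => hall _) (((((LB_zero T ((skipEmb 2).trans (Function.Embedding.refl _))).upd 1 3 1 (le_of_eq hx14)).upd 2 3 1 (le_of_eq hx34)).upd 3 1 1 (le_of_eq hx41)).upd 3 2 3 (le_of_eq hx43)) ![0,1,1,2] (by decide) (by decide) 1 (by decide))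
      · -- 34=(3,1)
        exact False.elim (cert_false T ((skipEmb 2).trans (Function.Embedding.refl _)) (by norm_num) (fun _ => hall _) (((((LB_zero T ((skipEmb 2).trans (Function.Embedding.refl _))).upd 1 3 1 (le_of_eq hx14)).upd 2 3 3 (le_of_eq hx34)).upd 3 1 1 (le_of_eq hx41)).upd 3 2 1 (le_of_eq hx43)) ![0,1,3,2] (by decide) (by decide) 1 (by decide))
    · -- 24=(1,1)
      rcases d34 with ⟨rfl, rfl⟩ | ⟨rfl, rfl⟩ | ⟨rfl, rfl⟩ | ⟨rfl, rfl⟩ | ⟨rfl, rfl⟩ | ⟨rfl, rfl⟩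
      · -- 34=(0,0)
        exfalso; omega
      · -- 34=(1,1)
        exact False.elim (cert_false T ((skipEmb 1).trans (Function.Embedding.refl _)) (by norm_num) (fun _ => hall _) (((((((LB_zero T ((skipEmb 1).trans (Function.Embedding.refl _))).upd 1 2 1 (le_of_eq hx23)).upd 1 3 1 (le_of_eq hx24)).upd 2 1 2 (le_of_eq hx32)).upd 2 3 1 (le_of_eq hx34)).upd 3 1 1 (le_of_eq hx42)).upd 3 2 1 (le_of_eq hx43)) ![0,1,1,1] (by decide) (by decide) 1 (by decide))
      · -- 34=(1,2)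
        exact False.elim (cert_false T ((skipEmb 1).trans (Function.Embedding.refl _)) (by norm_num) (fun _ => hall _) (((((((LB_zero T ((skipEmb 1).trans (Function.Embedding.refl _))).upd 1 2 1 (le_of_eq hx23)).upd 1 3 1 (le_of_eq hx24)).upd 2 1 2 (le_of_eq hx32)).upd 2 3 1 (le_of_eq hx34)).upd 3 1 1 (le_of_eq hx42)).upd 3 2 2 (le_of_eq hx43)) ![0,1,1,1] (by decide) (by decide) 1 (by decide))
      · -- 34=(2,1)
        exact False.elim (cert_false T ((skipEmb 1).trans (Function.Embedding.refl _)) (by norm_num) (fun _ => hall _) (((((((LB_zero T ((skipEmb 1).trans (Function.Embedding.refl _))).upd 1 2 1 (le_of_eq hx23)).upd 1 3 1 (le_of_eq hx24)).upd 2 1 2 (le_of_eq hx32)).upd 2 3 2 (le_of_eq hx34)).upd 3 1 1 (le_of_eq hx42)).upd 3 2 1 (le_of_eq hx43)) ![0,1,1,1] (by decide) (by decide) 1 (by decide))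
      · -- 34=(1,3)
        exact False.elim (cert_false T ((skipEmb 2).trans (Function.Embedding.refl _)) (by norm_num) (fun _ => hall _) (((((LB_zero T ((skipEmb 2).trans (Function.Embedding.refl _))).upd 1 3 1 (le_of_eq hx14)).upd 2 3 1 (le_of_eq hx34)).upd 3 1 1 (le_of_eq hx41)).upd 3 2 3 (le_of_eq hx43)) ![0,1,1,2] (by decide) (by decide) 1 (by decide))
      · -- 34=(3,1)
        exact False.elim (cert_false T ((skipEmb 2).trans (Function.Embedding.refl _)) (by norm_num) (fun _ => hall _) (((((LB_zero T ((skipEmb 2).trans (Function.Embedding.refl _))).upd 1 3 1 (le_of_eq hx14)).upd 2 3 3 (le_of_eq hx34)).upd 3 1 1 (le_of_eq hx41)).upd 3 2 1 (le_of_eq hx43)) ![0,1,3,2] (by decide) (by decide) 1 (by decide))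
    · -- 24=(1,2)
      exact False.elim (cert_false T ((skipEmb 1).trans (Function.Embedding.refl _)) (by norm_num) (fun _ => hall _) (((((LB_zero T ((skipEmb 1).trans (Function.Embedding.refl _))).upd 1 2 1 (le_of_eq hx23)).upd 1 3 1 (le_of_eq hx24)).upd 2 1 2 (le_of_eq hx32)).upd 3 1 2 (le_of_eq hx42)) ![0,1,1,1] (by decide) (by decide) 1 (by decide))
    · -- 24=(2,1)
      exact False.elim (cert_false T ((skipEmb 1).trans (Function.Embedding.refl _)) (by norm_num) (fun _ => hall _) (((((LB_zero T ((skipEmb 1).trans (Function.Embedding.refl _))).upd 1 2 1 (le_of_eq hx23)).upd 1 3 2 (le_of_eq hx24)).upd 2 1 2 (le_of_eq hx32)).upd 3 1 1 (le_of_eq hx42)) ![0,2,2,1] (by decide) (by decide) 1 (by decide))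
    · -- 24=(1,3)
      exact False.elim (cert_false T ((skipEmb 3).trans (Function.Embedding.refl _)) (by norm_num) (fun _ => hall _) (((((LB_zero T ((skipEmb 3).trans (Function.Embedding.refl _))).upd 1 3 1 (le_of_eq hx14)).upd 2 3 1 (le_of_eq hx24)).upd 3 1 1 (le_of_eq hx41)).upd 3 2 3 (le_of_eq hx42)) ![0,1,1,2] (by decide) (by decide) 1 (by decide))
    · -- 24=(3,1)
      exact False.elim (cert_false T ((skipEmb 3).trans (Function.Embedding.refl _)) (by norm_num) (fun _ => hall _) (((((LB_zero T ((skipEmb 3).trans (Function.Embedding.refl _))).upd 1 3 1 (le_of_eq hx14)).upd 2 3 3 (le_of_eq hx24)).upd 3 1 1 (le_of_eq hx41)).upd 3 2 1 (le_of_eq hx42)) ![0,1,3,2] (by decide) (by decide) 1 (by decide))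
  · -- 14=(1,2)
    rcases d24 with ⟨rfl, rfl⟩ | ⟨rfl, rfl⟩ | ⟨rfl, rfl⟩ | ⟨rfl, rfl⟩ | ⟨rfl, rfl⟩ | ⟨rfl, rfl⟩
    · -- 24=(0,0)
      rcases d34 with ⟨rfl, rfl⟩ | ⟨rfl, rfl⟩ | ⟨rfl, rfl⟩ | ⟨rfl, rfl⟩ | ⟨rfl, rfl⟩ | ⟨rfl, rfl⟩
      · -- 34=(0,0)
        exfalso; omega
      · -- 34=(1,1)
        exact False.elim (cert_false T ((skipEmb 0).trans (Function.Embedding.refl _)) (by norm_num) (fun _ => hall _) (((((((LB_zero T ((skipEmb 0).trans (Function.Embedding.refl _))).upd 0 3 1 (le_of_eq hx14)).upd 1 2 1 (le_of_eq hx23)).upd 2 1 2 (le_of_eq hx32)).upd 2 3 1 (le_of_eq hx34)).upd 3 0 2 (le_of_eq hx41)).upd 3 2 1 (le_of_eq hx43)) ![1,1,2,2] (by decide) (by decide) 0 (by decide))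
      · -- 34=(1,2)
        exact False.elim (cert_false T ((skipEmb 2).trans (Function.Embedding.refl _)) (by norm_num) (fun _ => hall _) (((((LB_zero T ((skipEmb 2).trans (Function.Embedding.refl _))).upd 1 3 1 (le_of_eq hx14)).upd 2 3 1 (le_of_eq hx34)).upd 3 1 2 (le_of_eq hx41)).upd 3 2 2 (le_of_eq hx43)) ![0,1,1,2] (by decide) (by decide) 1 (by decide))
      · -- 34=(2,1)
        exact False.elim (cert_false T ((skipEmb 2).trans (Function.Embedding.refl _)) (by norm_num) (fun _ => hall _) (((((LB_zero T ((skipEmb 2).trans (Function.Embedding.refl _))).upd 1 3 1 (le_of_eq hx14)).upd 2 3 2 (le_of_eq hx34)).upd 3 1 2 (le_of_eq hx41)).upd 3 2 1 (le_of_eq hx43)) ![0,1,2,2] (by decide) (by decide) 1 (by decide))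
      · -- 34=(1,3)
        exact False.elim (cert_false T ((skipEmb 2).trans (Function.Embedding.refl _)) (by norm_num) (fun _ => hall _) (((((LB_zero T ((skipEmb 2).trans (Function.Embedding.refl _))).upd 1 3 1 (le_of_eq hx14)).upd 2 3 1 (le_of_eq hx34)).upd 3 1 2 (le_of_eq hx41)).upd 3 2 3 (le_of_eq hx43)) ![0,1,1,2] (by decide) (by decide) 1 (by decide))
      · -- 34=(3,1)
        exact False.elim (cert_false T ((skipEmb 2).trans (Function.Embedding.refl _)) (by norm_num) (fun _ => hall _) (((((LB_zero T ((skipEmb 2).trans (Function.Embedding.refl _))).upd 1 3 1 (le_of_eq hx14)).upd 2 3 3 (le_of_eq hx34)).upd 3 1 2 (le_of_eq hx41)).upd 3 2 1 (le_of_eq hx43)) ![0,1,2,2] (by decide) (by decide) 1 (by decide))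
    · -- 24=(1,1)
      exact False.elim (cert_false T ((skipEmb 0).trans (Function.Embedding.refl _)) (by norm_num) (fun _ => hall _) (((((((LB_zero T ((skipEmb 0).trans (Function.Embedding.refl _))).upd 0 3 1 (le_of_eq hx14)).upd 1 2 1 (le_of_eq hx23)).upd 1 3 1 (le_of_eq hx24)).upd 2 1 2 (le_of_eq hx32)).upd 3 0 2 (le_of_eq hx41)).upd 3 1 1 (le_of_eq hx42)) ![1,2,2,2] (by decide) (by decide) 0 (by decide))
    · -- 24=(1,2)
      exact False.elim (cert_false T ((skipEmb 3).trans (Function.Embedding.refl _)) (by norm_num) (fun _ => hall _) (((((LB_zero T ((skipEmb 3).trans (Function.Embedding.refl _))).upd 1 3 1 (le_of_eq hx14)).upd 2 3 1 (le_of_eq hx24)).upd 3 1 2 (le_of_eq hx41)).upd 3 2 2 (le_of_eq hx42)) ![0,1,1,2] (by decide) (by decide) 1 (by decide))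
    · -- 24=(2,1)
      exact False.elim (cert_false T ((skipEmb 3).trans (Function.Embedding.refl _)) (by norm_num) (fun _ => hall _) (((((LB_zero T ((skipEmb 3).trans (Function.Embedding.refl _))).upd 1 3 1 (le_of_eq hx14)).upd 2 3 2 (le_of_eq hx24)).upd 3 1 2 (le_of_eq hx41)).upd 3 2 1 (le_of_eq hx42)) ![0,1,2,2] (by decide) (by decide) 1 (by decide))
    · -- 24=(1,3)
      exact False.elim (cert_false T ((skipEmb 3).trans (Function.Embedding.refl _)) (by norm_num) (fun _ => hall _) (((((LB_zero T ((skipEmb 3).trans (Function.Embedding.refl _))).upd 1 3 1 (le_of_eq hx14)).upd 2 3 1 (le_of_eq hx24)).upd 3 1 2 (le_of_eq hx41)).upd 3 2 3 (le_of_eq hx42)) ![0,1,1,2] (by decide) (by decide) 1 (by decide))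
    · -- 24=(3,1)
      exact False.elim (cert_false T ((skipEmb 3).trans (Function.Embedding.refl _)) (by norm_num) (fun _ => hall _) (((((LB_zero T ((skipEmb 3).trans (Function.Embedding.refl _))).upd 1 3 1 (le_of_eq hx14)).upd 2 3 3 (le_of_eq hx24)).upd 3 1 2 (le_of_eq hx41)).upd 3 2 1 (le_of_eq hx42)) ![0,1,2,2] (by decide) (by decide) 1 (by decide))
  · -- 14=(2,1)
    rcases d24 with ⟨rfl, rfl⟩ | ⟨rfl, rfl⟩ | ⟨rfl, rfl⟩ | ⟨rfl, rfl⟩ | ⟨rfl, rfl⟩ | ⟨rfl, rfl⟩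
    · -- 24=(0,0)
      rcases d34 with ⟨rfl, rfl⟩ | ⟨rfl, rfl⟩ | ⟨rfl, rfl⟩ | ⟨rfl, rfl⟩ | ⟨rfl, rfl⟩ | ⟨rfl, rfl⟩
      · -- 34=(0,0)
        exfalso; omega
      · -- 34=(1,1)
        exact False.elim (cert_false T ((skipEmb 0).trans (Function.Embedding.refl _)) (by norm_num) (fun _ => hall _) (((((((LB_zero T ((skipEmb 0).trans (Function.Embedding.refl _))).upd 0 3 2 (le_of_eq hx14)).upd 1 2 1 (le_of_eq hx23)).upd 2 1 2 (le_of_eq hx32)).upd 2 3 1 (le_of_eq hx34)).upd 3 0 1 (le_of_eq hx41)).upd 3 2 1 (le_of_eq hx43)) ![2,1,2,2] (by decide) (by decide) 0 (by decide))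
      · -- 34=(1,2)
        exact False.elim (cert_false T ((skipEmb 2).trans (Function.Embedding.refl _)) (by norm_num) (fun _ => hall _) (((((LB_zero T ((skipEmb 2).trans (Function.Embedding.refl _))).upd 1 3 2 (le_of_eq hx14)).upd 2 3 1 (le_of_eq hx34)).upd 3 1 1 (le_of_eq hx41)).upd 3 2 2 (le_of_eq hx43)) ![0,2,1,2] (by decide) (by decide) 1 (by decide))
      · -- 34=(2,1)
        exact False.elim (cert_false T ((skipEmb 2).trans (Function.Embedding.refl _)) (by norm_num) (fun _ => hall _) (((((LB_zero T ((skipEmb 2).trans (Function.Embedding.refl _))).upd 1 3 2 (le_of_eq hx14)).upd 2 3 2 (le_of_eq hx34)).upd 3 1 1 (le_of_eq hx41)).upd 3 2 1 (le_of_eq hx43)) ![0,1,1,1] (by decide) (by decide) 1 (by decide))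
      · -- 34=(1,3)
        exact False.elim (cert_false T ((skipEmb 2).trans (Function.Embedding.refl _)) (by norm_num) (fun _ => hall _) (((((LB_zero T ((skipEmb 2).trans (Function.Embedding.refl _))).upd 1 3 2 (le_of_eq hx14)).upd 2 3 1 (le_of_eq hx34)).upd 3 1 1 (le_of_eq hx41)).upd 3 2 3 (le_of_eq hx43)) ![0,1,1,2] (by decide) (by decide) 1 (by decide))
      · -- 34=(3,1)
        exact False.elim (cert_false T ((skipEmb 2).trans (Function.Embedding.refl _)) (by norm_num) (fun _ => hall _) (((((LB_zero T ((skipEmb 2).trans (Function.Embedding.refl _))).upd 1 3 2 (le_of_eq hx14)).upd 2 3 3 (le_of_eq hx34)).upd 3 1 1 (le_of_eq hx41)).upd 3 2 1 (le_of_eq hx43)) ![0,1,1,1] (by decide) (by decide) 1 (by decide))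
    · -- 24=(1,1)
      exact False.elim (cert_false T ((skipEmb 0).trans (Function.Embedding.refl _)) (by norm_num) (fun _ => hall _) (((((((LB_zero T ((skipEmb 0).trans (Function.Embedding.refl _))).upd 0 3 2 (le_of_eq hx14)).upd 1 2 1 (le_of_eq hx23)).upd 1 3 1 (le_of_eq hx24)).upd 2 1 2 (le_of_eq hx32)).upd 3 0 1 (le_of_eq hx41)).upd 3 1 1 (le_of_eq hx42)) ![1,1,1,1] (by decide) (by decide) 0 (by decide))
    · -- 24=(1,2)
      exact False.elim (cert_false T ((skipEmb 3).trans (Function.Embedding.refl _)) (by norm_num) (fun _ => hall _) (((((LB_zero T ((skipEmb 3).trans (Function.Embedding.refl _))).upd 1 3 2 (le_of_eq hx14)).upd 2 3 1 (le_of_eq hx24)).upd 3 1 1 (le_of_eq hx41)).upd 3 2 2 (le_of_eq hx42)) ![0,2,1,2] (by decide) (by decide) 1 (by decide))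
    · -- 24=(2,1)
      exact False.elim (cert_false T ((skipEmb 3).trans (Function.Embedding.refl _)) (by norm_num) (fun _ => hall _) (((((LB_zero T ((skipEmb 3).trans (Function.Embedding.refl _))).upd 1 3 2 (le_of_eq hx14)).upd 2 3 2 (le_of_eq hx24)).upd 3 1 1 (le_of_eq hx41)).upd 3 2 1 (le_of_eq hx42)) ![0,1,1,1] (by decide) (by decide) 1 (by decide))
    · -- 24=(1,3)
      exact False.elim (cert_false T ((skipEmb 3).trans (Function.Embedding.refl _)) (by norm_num) (fun _ => hall _) (((((LB_zero T ((skipEmb 3).trans (Function.Embedding.refl _))).upd 1 3 2 (le_of_eq hx14)).upd 2 3 1 (le_of_eq hx24)).upd 3 1 1 (le_of_eq hx41)).upd 3 2 3 (le_of_eq hx42)) ![0,1,1,2] (by decide) (by decide) 1 (by decide))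
    · -- 24=(3,1)
      exact False.elim (cert_false T ((skipEmb 3).trans (Function.Embedding.refl _)) (by norm_num) (fun _ => hall _) (((((LB_zero T ((skipEmb 3).trans (Function.Embedding.refl _))).upd 1 3 2 (le_of_eq hx14)).upd 2 3 3 (le_of_eq hx24)).upd 3 1 1 (le_of_eq hx41)).upd 3 2 1 (le_of_eq hx42)) ![0,1,1,1] (by decide) (by decide) 1 (by decide))
  · -- 14=(1,3)
    exact False.elim (cert_false T ((skipEmb 3).trans (Function.Embedding.refl _)) (by norm_num) (fun _ => hall _) (((((LB_zero T ((skipEmb 3).trans (Function.Embedding.refl _))).upd 0 1 1 (le_of_eq hx01)).upd 1 0 1 (le_of_eq hx10)).upd 1 3 1 (le_of_eq hx14)).upd 3 1 3 (le_of_eq hx41)) ![1,2,0,3] (by decide) (by decide) 0 (by decide))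
  · -- 14=(3,1)
    exact False.elim (cert_false T ((skipEmb 3).trans (Function.Embedding.refl _)) (by norm_num) (fun _ => hall _) (((((LB_zero T ((skipEmb 3).trans (Function.Embedding.refl _))).upd 0 1 1 (le_of_eq hx01)).upd 1 0 1 (le_of_eq hx10)).upd 1 3 3 (le_of_eq hx14)).upd 3 1 1 (le_of_eq hx41)) ![1,2,0,1] (by decide) (by decide) 0 (by decide))

theorem case358 (T : NumericalType 5) (hall : ∀ i, T.IsMinusTwo i) (d : SData T)
    (h01 : N T (Function.Embedding.refl _) 0 1 = 1) (h10 : N T (Function.Embedding.refl _) 1 0 = 1)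
    (h02 : N T (Function.Embedding.refl _) 0 2 = 0) (h20 : N T (Function.Embedding.refl _) 2 0 = 0)
    (h12 : N T (Function.Embedding.refl _) 1 2 = 0) (h21 : N T (Function.Embedding.refl _) 2 1 = 0)
    (h03 : N T (Function.Embedding.refl _) 0 3 = 0) (h30 : N T (Function.Embedding.refl _) 3 0 = 0)
    (h13 : N T (Function.Embedding.refl _) 1 3 = 0) (h31 : N T (Function.Embedding.refl _) 3 1 = 0)
    (h23 : N T (Function.Embedding.refl _) 2 3 = 1) (h32 : N T (Function.Embedding.refl _) 3 2 = 2) :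
    Goal T := by
  unfold Goal
  have hd := d
  obtain ⟨x01, x02, x03, x04, x10, x12, x13, x14, x20, x21, x23, x24, x30, x31, x32, x34, x40, x41, x42, x43, hx01, hx02, hx03, hx04, hx10, hx12, hx13, hx14, hx20, hx21, hx23, hx24, hx30, hx31, hx32, hx34, hx40, hx41, hx42, hx43, hw0, hm0, hw1, hm1, hw2, hm2, hw3, hm3, hw4, hm4, a00, a01, a02, a03, a04, a11, a10, a12, a13, a14, a22, a20, a21, a23, a24, a33, a30, a31, a32, a34, a44, a40, a41, a42, a43, wN01, wN02, wN12, wN03, wN13, wN23, wN04, wN14, wN24, wN34, e0, e1, e2, e3, e4, d01, d02, d12, d03, d13, d23, d04, d14, d24, d34⟩ := d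
  obtain rfl : x01 = 1 := hx01.trans h01
  obtain rfl : x10 = 1 := hx10.trans h10
  obtain rfl : x02 = 0 := hx02.trans h02
  obtain rfl : x20 = 0 := hx20.trans h20
  obtain rfl : x12 = 0 := hx12.trans h12
  obtain rfl : x21 = 0 := hx21.trans h21
  obtain rfl : x03 = 0 := hx03.trans h03
  obtain rfl : x30 = 0 := hx30.trans h30
  obtain rfl : x13 = 0 := hx13.trans h13
  obtain rfl : x31 = 0 := hx31.trans h31
  obtain rfl : x23 = 1 := hx23.trans h23
  obtain rfl : x32 = 2 := hx32.trans h32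
  rcases d04 with ⟨rfl, rfl⟩ | ⟨rfl, rfl⟩ | ⟨rfl, rfl⟩ | ⟨rfl, rfl⟩ | ⟨rfl, rfl⟩ | ⟨rfl, rfl⟩
  · -- 04=(0,0)
    exact case359 T hall hd hx01.symm hx10.symm hx02.symm hx20.symm hx12.symm hx21.symm hx03.symm hx30.symm hx13.symm hx31.symm hx23.symm hx32.symm hx04.symm hx40.symm
  · -- 04=(1,1)
    rcases d14 with ⟨rfl, rfl⟩ | ⟨rfl, rfl⟩ | ⟨rfl, rfl⟩ | ⟨rfl, rfl⟩ | ⟨rfl, rfl⟩ | ⟨rfl, rfl⟩
    · -- 14=(0,0)
      rcases d24 with ⟨rfl, rfl⟩ | ⟨rfl, rfl⟩ | ⟨rfl, rfl⟩ | ⟨rfl, rfl⟩ | ⟨rfl, rfl⟩ | ⟨rfl, rfl⟩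
      · -- 24=(0,0)
        rcases d34 with ⟨rfl, rfl⟩ | ⟨rfl, rfl⟩ | ⟨rfl, rfl⟩ | ⟨rfl, rfl⟩ | ⟨rfl, rfl⟩ | ⟨rfl, rfl⟩
        · -- 34=(0,0)
          exfalso; omega
        · -- 34=(1,1)
          exfalso; omega
        · -- 34=(1,2)
          exact False.elim (cert_false T ((skipEmb 1).trans (Function.Embedding.refl _)) (by norm_num) (fun _ => hall _) (((((LB_zero T ((skipEmb 1).trans (Function.Embedding.refl _))).upd 1 2 1 (le_of_eq hx23)).upd 2 1 2 (le_of_eq hx32)).upd 2 3 1 (le_of_eq hx34)).upd 3 2 2 (le_of_eq hx43)) ![0,1,2,2] (by decide) (by decide) 1 (by decide))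
        · -- 34=(2,1)
          exact False.elim (cert_false T ((skipEmb 1).trans (Function.Embedding.refl _)) (by norm_num) (fun _ => hall _) (((((LB_zero T ((skipEmb 1).trans (Function.Embedding.refl _))).upd 1 2 1 (le_of_eq hx23)).upd 2 1 2 (le_of_eq hx32)).upd 2 3 2 (le_of_eq hx34)).upd 3 2 1 (le_of_eq hx43)) ![0,1,2,1] (by decide) (by decide) 1 (by decide))
        · -- 34=(1,3)
          exact False.elim (cert_false T ((skipEmb 2).trans (Function.Embedding.refl _)) (by norm_num) (fun _ => hall _) (((((LB_zero T ((skipEmb 2).trans (Function.Embedding.refl _))).upd 0 3 1 (le_of_eq hx04)).upd 2 3 1 (le_of_eq hx34)).upd 3 0 1 (le_of_eq hx40)).upd 3 2 3 (le_of_eq hx43)) ![1,0,1,2] (by decide) (by decide) 0 (by decide))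
        · -- 34=(3,1)
          exact False.elim (cert_false T ((skipEmb 2).trans (Function.Embedding.refl _)) (by norm_num) (fun _ => hall _) (((((LB_zero T ((skipEmb 2).trans (Function.Embedding.refl _))).upd 0 3 1 (le_of_eq hx04)).upd 2 3 3 (le_of_eq hx34)).upd 3 0 1 (le_of_eq hx40)).upd 3 2 1 (le_of_eq hx43)) ![1,0,3,2] (by decide) (by decide) 0 (by decide))
      · -- 24=(1,1)
        rcases d34 with ⟨rfl, rfl⟩ | ⟨rfl, rfl⟩ | ⟨rfl, rfl⟩ | ⟨rfl, rfl⟩ | ⟨rfl, rfl⟩ | ⟨rfl, rfl⟩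
        · -- 34=(0,0)
          exfalso; omega
        · -- 34=(1,1)
          exact False.elim (cert_false T ((skipEmb 1).trans (Function.Embedding.refl _)) (by norm_num) (fun _ => hall _) (((((((LB_zero T ((skipEmb 1).trans (Function.Embedding.refl _))).upd 1 2 1 (le_of_eq hx23)).upd 1 3 1 (le_of_eq hx24)).upd 2 1 2 (le_of_eq hx32)).upd 2 3 1 (le_of_eq hx34)).upd 3 1 1 (le_of_eq hx42)).upd 3 2 1 (le_of_eq hx43)) ![0,1,1,1] (by decide) (by decide) 1 (by decide))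
        · -- 34=(1,2)
          exact False.elim (cert_false T ((skipEmb 1).trans (Function.Embedding.refl _)) (by norm_num) (fun _ => hall _) (((((((LB_zero T ((skipEmb 1).trans (Function.Embedding.refl _))).upd 1 2 1 (le_of_eq hx23)).upd 1 3 1 (le_of_eq hx24)).upd 2 1 2 (le_of_eq hx32)).upd 2 3 1 (le_of_eq hx34)).upd 3 1 1 (le_of_eq hx42)).upd 3 2 2 (le_of_eq hx43)) ![0,1,1,1] (by decide) (by decide) 1 (by decide))
        · -- 34=(2,1)
          exact False.elim (cert_false T ((skipEmb 1).trans (Function.Embedding.refl _)) (by norm_num) (fun _ => hall _) (((((((LB_zero T ((skipEmb 1).trans (Function.Embedding.refl _))).upd 1 2 1 (le_of_eq hx23)).upd 1 3 1 (le_of_eq hx24)).upd 2 1 2 (le_of_eq hx32)).upd 2 3 2 (le_of_eq hx34)).upd 3 1 1 (le_of_eq hx42)).upd 3 2 1 (le_of_eq hx43)) ![0,1,1,1] (by decide) (by decide) 1 (by decide))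
        · -- 34=(1,3)
          exact False.elim (cert_false T ((skipEmb 2).trans (Function.Embedding.refl _)) (by norm_num) (fun _ => hall _) (((((LB_zero T ((skipEmb 2).trans (Function.Embedding.refl _))).upd 0 3 1 (le_of_eq hx04)).upd 2 3 1 (le_of_eq hx34)).upd 3 0 1 (le_of_eq hx40)).upd 3 2 3 (le_of_eq hx43)) ![1,0,1,2] (by decide) (by decide) 0 (by decide))
        · -- 34=(3,1)
          exact False.elim (cert_false T ((skipEmb 2).trans (Function.Embedding.refl _)) (by norm_num) (fun _ => hall _) (((((LB_zero T ((skipEmb 2).trans (Function.Embedding.refl _))).upd 0 3 1 (le_of_eq hx04)).upd 2 3 3 (le_of_eq hx34)).upd 3 0 1 (le_of_eq hx40)).upd 3 2 1 (le_of_eq hx43)) ![1,0,3,2] (by decide) (by decide) 0 (by decide))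
      · -- 24=(1,2)
        exact False.elim (cert_false T ((skipEmb 1).trans (Function.Embedding.refl _)) (by norm_num) (fun _ => hall _) (((((LB_zero T ((skipEmb 1).trans (Function.Embedding.refl _))).upd 1 2 1 (le_of_eq hx23)).upd 1 3 1 (le_of_eq hx24)).upd 2 1 2 (le_of_eq hx32)).upd 3 1 2 (le_of_eq hx42)) ![0,1,1,1] (by decide) (by decide) 1 (by decide))
      · -- 24=(2,1)
        exact False.elim (cert_false T ((skipEmb 1).trans (Function.Embedding.refl _)) (by norm_num) (fun _ => hall _) (((((LB_zero T ((skipEmb 1).trans (Function.Embedding.refl _))).upd 1 2 1 (le_of_eq hx23)).upd 1 3 2 (le_of_eq hx24)).upd 2 1 2 (le_of_eq hx32)).upd 3 1 1 (le_of_eq hx42)) ![0,2,2,1] (by decide) (by decide) 1 (by decide))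
      · -- 24=(1,3)
        exact False.elim (cert_false T ((skipEmb 3).trans (Function.Embedding.refl _)) (by norm_num) (fun _ => hall _) (((((LB_zero T ((skipEmb 3).trans (Function.Embedding.refl _))).upd 0 3 1 (le_of_eq hx04)).upd 2 3 1 (le_of_eq hx24)).upd 3 0 1 (le_of_eq hx40)).upd 3 2 3 (le_of_eq hx42)) ![1,0,1,2] (by decide) (by decide) 0 (by decide))
      · -- 24=(3,1)
        exact False.elim (cert_false T ((skipEmb 3).trans (Function.Embedding.refl _)) (by norm_num) (fun _ => hall _) (((((LB_zero T ((skipEmb 3).trans (Function.Embedding.refl _))).upd 0 3 1 (le_of_eq hx04)).upd 2 3 3 (le_of_eq hx24)).upd 3 0 1 (le_of_eq hx40)).upd 3 2 1 (le_of_eq hx42)) ![1,0,3,2] (by decide) (by decide) 0 (by decide))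
    · -- 14=(1,1)
      exact False.elim (cert_false T ((skipEmb 3).trans (Function.Embedding.refl _)) (by norm_num) (fun _ => hall _) (((((((LB_zero T ((skipEmb 3).trans (Function.Embedding.refl _))).upd 0 1 1 (le_of_eq hx01)).upd 0 3 1 (le_of_eq hx04)).upd 1 0 1 (le_of_eq hx10)).upd 1 3 1 (le_of_eq hx14)).upd 3 0 1 (le_of_eq hx40)).upd 3 1 1 (le_of_eq hx41)) ![1,1,0,1] (by decide) (by decide) 0 (by decide))
    · -- 14=(1,2)
      exact False.elim (cert_false T ((skipEmb 3).trans (Function.Embedding.refl _)) (by norm_num) (fun _ => hall _) (((((((LB_zero T ((skipEmb 3).trans (Function.Embedding.refl _))).upd 0 1 1 (le_of_eq hx01)).upd 0 3 1 (le_of_eq hx04)).upd 1 0 1 (le_of_eq hx10)).upd 1 3 1 (le_of_eq hx14)).upd 3 0 1 (le_of_eq hx40)).upd 3 1 2 (le_of_eq hx41)) ![1,1,0,1] (by decide) (by decide) 0 (by decide))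
    · -- 14=(2,1)
      exact False.elim (cert_false T ((skipEmb 3).trans (Function.Embedding.refl _)) (by norm_num) (fun _ => hall _) (((((((LB_zero T ((skipEmb 3).trans (Function.Embedding.refl _))).upd 0 1 1 (le_of_eq hx01)).upd 0 3 1 (le_of_eq hx04)).upd 1 0 1 (le_of_eq hx10)).upd 1 3 2 (le_of_eq hx14)).upd 3 0 1 (le_of_eq hx40)).upd 3 1 1 (le_of_eq hx41)) ![1,1,0,1] (by decide) (by decide) 0 (by decide))
    · -- 14=(1,3)
      exact False.elim (cert_false T ((skipEmb 3).trans (Function.Embedding.refl _)) (by norm_num) (fun _ => hall _) (((((((LB_zero T ((skipEmb 3).trans (Function.Embedding.refl _))).upd 0 1 1 (le_of_eq hx01)).upd 0 3 1 (le_of_eq hx04)).upd 1 0 1 (le_of_eq hx10)).upd 1 3 1 (le_of_eq hx14)).upd 3 0 1 (le_of_eq hx40)).upd 3 1 3 (le_of_eq hx41)) ![1,1,0,1] (by decide) (by decide) 0 (by decide))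
    · -- 14=(3,1)
      exact False.elim (cert_false T ((skipEmb 3).trans (Function.Embedding.refl _)) (by norm_num) (fun _ => hall _) (((((((LB_zero T ((skipEmb 3).trans (Function.Embedding.refl _))).upd 0 1 1 (le_of_eq hx01)).upd 0 3 1 (le_of_eq hx04)).upd 1 0 1 (le_of_eq hx10)).upd 1 3 3 (le_of_eq hx14)).upd 3 0 1 (le_of_eq hx40)).upd 3 1 1 (le_of_eq hx41)) ![1,1,0,1] (by decide) (by decide) 0 (by decide))
  · -- 04=(1,2)
    rcases d14 with ⟨rfl, rfl⟩ | ⟨rfl, rfl⟩ | ⟨rfl, rfl⟩ | ⟨rfl, rfl⟩ | ⟨rfl, rfl⟩ | ⟨rfl, rfl⟩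
    · -- 14=(0,0)
      rcases d24 with ⟨rfl, rfl⟩ | ⟨rfl, rfl⟩ | ⟨rfl, rfl⟩ | ⟨rfl, rfl⟩ | ⟨rfl, rfl⟩ | ⟨rfl, rfl⟩
      · -- 24=(0,0)
        rcases d34 with ⟨rfl, rfl⟩ | ⟨rfl, rfl⟩ | ⟨rfl, rfl⟩ | ⟨rfl, rfl⟩ | ⟨rfl, rfl⟩ | ⟨rfl, rfl⟩
        · -- 34=(0,0)
          exfalso; omega
        · -- 34=(1,1)
          exact False.elim (cert_false T ((skipEmb 1).trans (Function.Embedding.refl _)) (by norm_num) (fun _ => hall _) (((((((LB_zero T ((skipEmb 1).trans (Function.Embedding.refl _))).upd 0 3 1 (le_of_eq hx04)).upd 1 2 1 (le_of_eq hx23)).upd 2 1 2 (le_of_eq hx32)).upd 2 3 1 (le_of_eq hx34)).upd 3 0 2 (le_of_eq hx40)).upd 3 2 1 (le_of_eq hx43)) ![1,1,2,2] (by decide) (by decide) 0 (by decide))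
        · -- 34=(1,2)
          exact False.elim (cert_false T ((skipEmb 2).trans (Function.Embedding.refl _)) (by norm_num) (fun _ => hall _) (((((LB_zero T ((skipEmb 2).trans (Function.Embedding.refl _))).upd 0 3 1 (le_of_eq hx04)).upd 2 3 1 (le_of_eq hx34)).upd 3 0 2 (le_of_eq hx40)).upd 3 2 2 (le_of_eq hx43)) ![1,0,1,2] (by decide) (by decide) 0 (by decide))
        · -- 34=(2,1)
          exact False.elim (cert_false T ((skipEmb 2).trans (Function.Embedding.refl _)) (by norm_num) (fun _ => hall _) (((((LB_zero T ((skipEmb 2).trans (Function.Embedding.refl _))).upd 0 3 1 (le_of_eq hx04)).upd 2 3 2 (le_of_eq hx34)).upd 3 0 2 (le_of_eq hx40)).upd 3 2 1 (le_of_eq hx43)) ![1,0,2,2] (by decide) (by decide) 0 (by decide))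
        · -- 34=(1,3)
          exact False.elim (cert_false T ((skipEmb 2).trans (Function.Embedding.refl _)) (by norm_num) (fun _ => hall _) (((((LB_zero T ((skipEmb 2).trans (Function.Embedding.refl _))).upd 0 3 1 (le_of_eq hx04)).upd 2 3 1 (le_of_eq hx34)).upd 3 0 2 (le_of_eq hx40)).upd 3 2 3 (le_of_eq hx43)) ![1,0,1,2] (by decide) (by decide) 0 (by decide))
        · -- 34=(3,1)
          exact False.elim (cert_false T ((skipEmb 2).trans (Function.Embedding.refl _)) (by norm_num) (fun _ => hall _) (((((LB_zero T ((skipEmb 2).trans (Function.Embedding.refl _))).upd 0 3 1 (le_of_eq hx04)).upd 2 3 3 (le_of_eq hx34)).upd 3 0 2 (le_of_eq hx40)).upd 3 2 1 (le_of_eq hx43)) ![1,0,2,2] (by decide) (by decide) 0 (by decide))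
      · -- 24=(1,1)
        exact False.elim (cert_false T ((skipEmb 1).trans (Function.Embedding.refl _)) (by norm_num) (fun _ => hall _) (((((((LB_zero T ((skipEmb 1).trans (Function.Embedding.refl _))).upd 0 3 1 (le_of_eq hx04)).upd 1 2 1 (le_of_eq hx23)).upd 1 3 1 (le_of_eq hx24)).upd 2 1 2 (le_of_eq hx32)).upd 3 0 2 (le_of_eq hx40)).upd 3 1 1 (le_of_eq hx42)) ![1,2,2,2] (by decide) (by decide) 0 (by decide))
      · -- 24=(1,2)
        exact False.elim (cert_false T ((skipEmb 3).trans (Function.Embedding.refl _)) (by norm_num) (fun _ => hall _) (((((LB_zero T ((skipEmb 3).trans (Function.Embedding.refl _))).upd 0 3 1 (le_of_eq hx04)).upd 2 3 1 (le_of_eq hx24)).upd 3 0 2 (le_of_eq hx40)).upd 3 2 2 (le_of_eq hx42)) ![1,0,1,2] (by decide) (by decide) 0 (by decide))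
      · -- 24=(2,1)
        exact False.elim (cert_false T ((skipEmb 3).trans (Function.Embedding.refl _)) (by norm_num) (fun _ => hall _) (((((LB_zero T ((skipEmb 3).trans (Function.Embedding.refl _))).upd 0 3 1 (le_of_eq hx04)).upd 2 3 2 (le_of_eq hx24)).upd 3 0 2 (le_of_eq hx40)).upd 3 2 1 (le_of_eq hx42)) ![1,0,2,2] (by decide) (by decide) 0 (by decide))
      · -- 24=(1,3)
        exact False.elim (cert_false T ((skipEmb 3).trans (Function.Embedding.refl _)) (by norm_num) (fun _ => hall _) (((((LB_zero T ((skipEmb 3).trans (Function.Embedding.refl _))).upd 0 3 1 (le_of_eq hx04)).upd 2 3 1 (le_of_eq hx24)).upd 3 0 2 (le_of_eq hx40)).upd 3 2 3 (le_of_eq hx42)) ![1,0,1,2] (by decide) (by decide) 0 (by decide))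
      · -- 24=(3,1)
        exact False.elim (cert_false T ((skipEmb 3).trans (Function.Embedding.refl _)) (by norm_num) (fun _ => hall _) (((((LB_zero T ((skipEmb 3).trans (Function.Embedding.refl _))).upd 0 3 1 (le_of_eq hx04)).upd 2 3 3 (le_of_eq hx24)).upd 3 0 2 (le_of_eq hx40)).upd 3 2 1 (le_of_eq hx42)) ![1,0,2,2] (by decide) (by decide) 0 (by decide))
    · -- 14=(1,1)
      exact False.elim (cert_false T ((skipEmb 3).trans (Function.Embedding.refl _)) (by norm_num) (fun _ => hall _) (((((((LB_zero T ((skipEmb 3).trans (Function.Embedding.refl _))).upd 0 1 1 (le_of_eq hx01)).upd 0 3 1 (le_of_eq hx04)).upd 1 0 1 (le_of_eq hx10)).upd 1 3 1 (le_of_eq hx14)).upd 3 0 2 (le_of_eq hx40)).upd 3 1 1 (le_of_eq hx41)) ![1,1,0,1] (by decide) (by decide) 0 (by decide))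
    · -- 14=(1,2)
      exact False.elim (cert_false T ((skipEmb 3).trans (Function.Embedding.refl _)) (by norm_num) (fun _ => hall _) (((((((LB_zero T ((skipEmb 3).trans (Function.Embedding.refl _))).upd 0 1 1 (le_of_eq hx01)).upd 0 3 1 (le_of_eq hx04)).upd 1 0 1 (le_of_eq hx10)).upd 1 3 1 (le_of_eq hx14)).upd 3 0 2 (le_of_eq hx40)).upd 3 1 2 (le_of_eq hx41)) ![1,1,0,1] (by decide) (by decide) 0 (by decide))
    · -- 14=(2,1)
      exact False.elim (cert_false T ((skipEmb 3).trans (Function.Embedding.refl _)) (by norm_num) (fun _ => hall _) (((((((LB_zero T ((skipEmb 3).trans (Function.Embedding.refl _))).upd 0 1 1 (le_of_eq hx01)).upd 0 3 1 (le_of_eq hx04)).upd 1 0 1 (le_of_eq hx10)).upd 1 3 2 (le_of_eq hx14)).upd 3 0 2 (le_of_eq hx40)).upd 3 1 1 (le_of_eq hx41)) ![1,1,0,1] (by decide) (by decide) 0 (by decide))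
    · -- 14=(1,3)
      exact False.elim (cert_false T ((skipEmb 3).trans (Function.Embedding.refl _)) (by norm_num) (fun _ => hall _) (((((((LB_zero T ((skipEmb 3).trans (Function.Embedding.refl _))).upd 0 1 1 (le_of_eq hx01)).upd 0 3 1 (le_of_eq hx04)).upd 1 0 1 (le_of_eq hx10)).upd 1 3 1 (le_of_eq hx14)).upd 3 0 2 (le_of_eq hx40)).upd 3 1 3 (le_of_eq hx41)) ![1,1,0,1] (by decide) (by decide) 0 (by decide))
    · -- 14=(3,1)
      exact False.elim (cert_false T ((skipEmb 3).trans (Function.Embedding.refl _)) (by norm_num) (fun _ => hall _) (((((((LB_zero T ((skipEmb 3).trans (Function.Embedding.refl _))).upd 0 1 1 (le_of_eq hx01)).upd 0 3 1 (le_of_eq hx04)).upd 1 0 1 (le_of_eq hx10)).upd 1 3 3 (le_of_eq hx14)).upd 3 0 2 (le_of_eq hx40)).upd 3 1 1 (le_of_eq hx41)) ![1,1,0,1] (by decide) (by decide) 0 (by decide))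
  · -- 04=(2,1)
    rcases d14 with ⟨rfl, rfl⟩ | ⟨rfl, rfl⟩ | ⟨rfl, rfl⟩ | ⟨rfl, rfl⟩ | ⟨rfl, rfl⟩ | ⟨rfl, rfl⟩
    · -- 14=(0,0)
      rcases d24 with ⟨rfl, rfl⟩ | ⟨rfl, rfl⟩ | ⟨rfl, rfl⟩ | ⟨rfl, rfl⟩ | ⟨rfl, rfl⟩ | ⟨rfl, rfl⟩
      · -- 24=(0,0)
        rcases d34 with ⟨rfl, rfl⟩ | ⟨rfl, rfl⟩ | ⟨rfl, rfl⟩ | ⟨rfl, rfl⟩ | ⟨rfl, rfl⟩ | ⟨rfl, rfl⟩
        · -- 34=(0,0)
          exfalso; omega
        · -- 34=(1,1)
          exact False.elim (cert_false T ((skipEmb 1).trans (Function.Embedding.refl _)) (by norm_num) (fun _ => hall _) (((((((LB_zero T ((skipEmb 1).trans (Function.Embedding.refl _))).upd 0 3 2 (le_of_eq hx04)).upd 1 2 1 (le_of_eq hx23)).upd 2 1 2 (le_of_eq hx32)).upd 2 3 1 (le_of_eq hx34)).upd 3 0 1 (le_of_eq hx40)).upd 3 2 1 (le_of_eq hx43)) ![2,1,2,2] (by decide) (by decide) 0 (by decide))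
        · -- 34=(1,2)
          exact False.elim (cert_false T ((skipEmb 2).trans (Function.Embedding.refl _)) (by norm_num) (fun _ => hall _) (((((LB_zero T ((skipEmb 2).trans (Function.Embedding.refl _))).upd 0 3 2 (le_of_eq hx04)).upd 2 3 1 (le_of_eq hx34)).upd 3 0 1 (le_of_eq hx40)).upd 3 2 2 (le_of_eq hx43)) ![2,0,1,2] (by decide) (by decide) 0 (by decide))
        · -- 34=(2,1)
          exact False.elim (cert_false T ((skipEmb 2).trans (Function.Embedding.refl _)) (by norm_num) (fun _ => hall _) (((((LB_zero T ((skipEmb 2).trans (Function.Embedding.refl _))).upd 0 3 2 (le_of_eq hx04)).upd 2 3 2 (le_of_eq hx34)).upd 3 0 1 (le_of_eq hx40)).upd 3 2 1 (le_of_eq hx43)) ![1,0,1,1] (by decide) (by decide) 0 (by decide))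
        · -- 34=(1,3)
          exact False.elim (cert_false T ((skipEmb 2).trans (Function.Embedding.refl _)) (by norm_num) (fun _ => hall _) (((((LB_zero T ((skipEmb 2).trans (Function.Embedding.refl _))).upd 0 3 2 (le_of_eq hx04)).upd 2 3 1 (le_of_eq hx34)).upd 3 0 1 (le_of_eq hx40)).upd 3 2 3 (le_of_eq hx43)) ![1,0,1,2] (by decide) (by decide) 0 (by decide))
        · -- 34=(3,1)
          exact False.elim (cert_false T ((skipEmb 2).trans (Function.Embedding.refl _)) (by norm_num) (fun _ => hall _) (((((LB_zero T ((skipEmb 2).trans (Function.Embedding.refl _))).upd 0 3 2 (le_of_eq hx04)).upd 2 3 3 (le_of_eq hx34)).upd 3 0 1 (le_of_eq hx40)).upd 3 2 1 (le_of_eq hx43)) ![1,0,1,1] (by decide) (by decide) 0 (by decide))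
      · -- 24=(1,1)
        exact False.elim (cert_false T ((skipEmb 1).trans (Function.Embedding.refl _)) (by norm_num) (fun _ => hall _) (((((((LB_zero T ((skipEmb 1).trans (Function.Embedding.refl _))).upd 0 3 2 (le_of_eq hx04)).upd 1 2 1 (le_of_eq hx23)).upd 1 3 1 (le_of_eq hx24)).upd 2 1 2 (le_of_eq hx32)).upd 3 0 1 (le_of_eq hx40)).upd 3 1 1 (le_of_eq hx42)) ![1,1,1,1] (by decide) (by decide) 0 (by decide))
      · -- 24=(1,2)
        exact False.elim (cert_false T ((skipEmb 3).trans (Function.Embedding.refl _)) (by norm_num) (fun _ => hall _) (((((LB_zero T ((skipEmb 3).trans (Function.Embedding.refl _))).upd 0 3 2 (le_of_eq hx04)).upd 2 3 1 (le_of_eq hx24)).upd 3 0 1 (le_of_eq hx40)).upd 3 2 2 (le_of_eq hx42)) ![2,0,1,2] (by decide) (by decide) 0 (by decide))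
      · -- 24=(2,1)
        exact False.elim (cert_false T ((skipEmb 3).trans (Function.Embedding.refl _)) (by norm_num) (fun _ => hall _) (((((LB_zero T ((skipEmb 3).trans (Function.Embedding.refl _))).upd 0 3 2 (le_of_eq hx04)).upd 2 3 2 (le_of_eq hx24)).upd 3 0 1 (le_of_eq hx40)).upd 3 2 1 (le_of_eq hx42)) ![1,0,1,1] (by decide) (by decide) 0 (by decide))
      · -- 24=(1,3)
        exact False.elim (cert_false T ((skipEmb 3).trans (Function.Embedding.refl _)) (by norm_num) (fun _ => hall _) (((((LB_zero T ((skipEmb 3).trans (Function.Embedding.refl _))).upd 0 3 2 (le_of_eq hx04)).upd 2 3 1 (le_of_eq hx24)).upd 3 0 1 (le_of_eq hx40)).upd 3 2 3 (le_of_eq hx42)) ![1,0,1,2] (by decide) (by decide) 0 (by decide))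
      · -- 24=(3,1)
        exact False.elim (cert_false T ((skipEmb 3).trans (Function.Embedding.refl _)) (by norm_num) (fun _ => hall _) (((((LB_zero T ((skipEmb 3).trans (Function.Embedding.refl _))).upd 0 3 2 (le_of_eq hx04)).upd 2 3 3 (le_of_eq hx24)).upd 3 0 1 (le_of_eq hx40)).upd 3 2 1 (le_of_eq hx42)) ![1,0,1,1] (by decide) (by decide) 0 (by decide))
    · -- 14=(1,1)
      exact False.elim (cert_false T ((skipEmb 3).trans (Function.Embedding.refl _)) (by norm_num) (fun _ => hall _) (((((((LB_zero T ((skipEmb 3).trans (Function.Embedding.refl _))).upd 0 1 1 (le_of_eq hx01)).upd 0 3 2 (le_of_eq hx04)).upd 1 0 1 (le_of_eq hx10)).upd 1 3 1 (le_of_eq hx14)).upd 3 0 1 (le_of_eq hx40)).upd 3 1 1 (le_of_eq hx41)) ![1,1,0,1] (by decide) (by decide) 0 (by decide))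
    · -- 14=(1,2)
      exact False.elim (cert_false T ((skipEmb 3).trans (Function.Embedding.refl _)) (by norm_num) (fun _ => hall _) (((((((LB_zero T ((skipEmb 3).trans (Function.Embedding.refl _))).upd 0 1 1 (le_of_eq hx01)).upd 0 3 2 (le_of_eq hx04)).upd 1 0 1 (le_of_eq hx10)).upd 1 3 1 (le_of_eq hx14)).upd 3 0 1 (le_of_eq hx40)).upd 3 1 2 (le_of_eq hx41)) ![1,1,0,1] (by decide) (by decide) 0 (by decide))
    · -- 14=(2,1)
      exact False.elim (cert_false T ((skipEmb 3).trans (Function.Embedding.refl _)) (by norm_num) (fun _ => hall _) (((((((LB_zero T ((skipEmb 3).trans (Function.Embedding.refl _))).upd 0 1 1 (le_of_eq hx01)).upd 0 3 2 (le_of_eq hx04)).upd 1 0 1 (le_of_eq hx10)).upd 1 3 2 (le_of_eq hx14)).upd 3 0 1 (le_of_eq hx40)).upd 3 1 1 (le_of_eq hx41)) ![1,1,0,1] (by decide) (by decide) 0 (by decide))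
    · -- 14=(1,3)
      exact False.elim (cert_false T ((skipEmb 3).trans (Function.Embedding.refl _)) (by norm_num) (fun _ => hall _) (((((((LB_zero T ((skipEmb 3).trans (Function.Embedding.refl _))).upd 0 1 1 (le_of_eq hx01)).upd 0 3 2 (le_of_eq hx04)).upd 1 0 1 (le_of_eq hx10)).upd 1 3 1 (le_of_eq hx14)).upd 3 0 1 (le_of_eq hx40)).upd 3 1 3 (le_of_eq hx41)) ![1,1,0,1] (by decide) (by decide) 0 (by decide))
    · -- 14=(3,1)
      exact False.elim (cert_false T ((skipEmb 3).trans (Function.Embedding.refl _)) (by norm_num) (fun _ => hall _) (((((((LB_zero T ((skipEmb 3).trans (Function.Embedding.refl _))).upd 0 1 1 (le_of_eq hx01)).upd 0 3 2 (le_of_eq hx04)).upd 1 0 1 (le_of_eq hx10)).upd 1 3 3 (le_of_eq hx14)).upd 3 0 1 (le_of_eq hx40)).upd 3 1 1 (le_of_eq hx41)) ![1,1,0,1] (by decide) (by decide) 0 (by decide))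
  · -- 04=(1,3)
    exact False.elim (cert_false T ((skipEmb 3).trans (Function.Embedding.refl _)) (by norm_num) (fun _ => hall _) (((((LB_zero T ((skipEmb 3).trans (Function.Embedding.refl _))).upd 0 1 1 (le_of_eq hx01)).upd 0 3 1 (le_of_eq hx04)).upd 1 0 1 (le_of_eq hx10)).upd 3 0 3 (le_of_eq hx40)) ![2,1,0,3] (by decide) (by decide) 0 (by decide))
  · -- 04=(3,1)
    exact False.elim (cert_false T ((skipEmb 3).trans (Function.Embedding.refl _)) (by norm_num) (fun _ => hall _) (((((LB_zero T ((skipEmb 3).trans (Function.Embedding.refl _))).upd 0 1 1 (le_of_eq hx01)).upd 0 3 3 (le_of_eq hx04)).upd 1 0 1 (le_of_eq hx10)).upd 3 0 1 (le_of_eq hx40)) ![2,1,0,1] (by decide) (by decide) 0 (by decide))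

theorem case361 (T : NumericalType 5) (hall : ∀ i, T.IsMinusTwo i) (d : SData T)
    (h01 : N T (Function.Embedding.refl _) 0 1 = 1) (h10 : N T (Function.Embedding.refl _) 1 0 = 1)
    (h02 : N T (Function.Embedding.refl _) 0 2 = 0) (h20 : N T (Function.Embedding.refl _) 2 0 = 0)
    (h12 : N T (Function.Embedding.refl _) 1 2 = 0) (h21 : N T (Function.Embedding.refl _) 2 1 = 0)
    (h03 : N T (Function.Embedding.refl _) 0 3 = 0) (h30 : N T (Function.Embedding.refl _) 3 0 = 0)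
    (h13 : N T (Function.Embedding.refl _) 1 3 = 0) (h31 : N T (Function.Embedding.refl _) 3 1 = 0)
    (h23 : N T (Function.Embedding.refl _) 2 3 = 2) (h32 : N T (Function.Embedding.refl _) 3 2 = 1)
    (h04 : N T (Function.Embedding.refl _) 0 4 = 0) (h40 : N T (Function.Embedding.refl _) 4 0 = 0) :
    Goal T := by
  unfold Goal
  have hd := d
  obtain ⟨x01, x02, x03, x04, x10, x12, x13, x14, x20, x21, x23, x24, x30, x31, x32, x34, x40, x41, x42, x43, hx01, hx02, hx03, hx04, hx10, hx12, hx13, hx14, hx20, hx21, hx23, hx24, hx30, hx31, hx32, hx34, hx40, hx41, hx42, hx43, hw0, hm0, hw1, hm1, hw2, hm2, hw3, hm3, hw4, hm4, a00, a01, a02, a03, a04, a11, a10, a12, a13, a14, a22, a20, a21, a23, a24, a33, a30, a31, a32, a34, a44, a40, a41, a42, a43, wN01, wN02, wN12, wN03, wN13, wN23, wN04, wN14, wN24, wN34, e0, e1, e2, e3, e4, d01, d02, d12, d03, d13, d23, d04, d14, d24, d34⟩ := d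
  obtain rfl : x01 = 1 := hx01.trans h01
  obtain rfl : x10 = 1 := hx10.trans h10
  obtain rfl : x02 = 0 := hx02.trans h02
  obtain rfl : x20 = 0 := hx20.trans h20
  obtain rfl : x12 = 0 := hx12.trans h12
  obtain rfl : x21 = 0 := hx21.trans h21
  obtain rfl : x03 = 0 := hx03.trans h03
  obtain rfl : x30 = 0 := hx30.trans h30
  obtain rfl : x13 = 0 := hx13.trans h13
  obtain rfl : x31 = 0 := hx31.trans h31
  obtain rfl : x23 = 2 := hx23.trans h23
  obtain rfl : x32 = 1 := hx32.trans h32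
  obtain rfl : x04 = 0 := hx04.trans h04
  obtain rfl : x40 = 0 := hx40.trans h40
  rcases d14 with ⟨rfl, rfl⟩ | ⟨rfl, rfl⟩ | ⟨rfl, rfl⟩ | ⟨rfl, rfl⟩ | ⟨rfl, rfl⟩ | ⟨rfl, rfl⟩
  · -- 14=(0,0)
    rcases d24 with ⟨rfl, rfl⟩ | ⟨rfl, rfl⟩ | ⟨rfl, rfl⟩ | ⟨rfl, rfl⟩ | ⟨rfl, rfl⟩ | ⟨rfl, rfl⟩
    · -- 24=(0,0)
      rcases d34 with ⟨rfl, rfl⟩ | ⟨rfl, rfl⟩ | ⟨rfl, rfl⟩ | ⟨rfl, rfl⟩ | ⟨rfl, rfl⟩ | ⟨rfl, rfl⟩
      · -- 34=(0,0)
        exfalso; omega
      · -- 34=(1,1)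
        exfalso; omega
      · -- 34=(1,2)
        exact False.elim (cert_false T ((skipEmb 1).trans (Function.Embedding.refl _)) (by norm_num) (fun _ => hall _) (((((LB_zero T ((skipEmb 1).trans (Function.Embedding.refl _))).upd 1 2 2 (le_of_eq hx23)).upd 2 1 1 (le_of_eq hx32)).upd 2 3 1 (le_of_eq hx34)).upd 3 2 2 (le_of_eq hx43)) ![0,1,1,1] (by decide) (by decide) 1 (by decide))
      · -- 34=(2,1)
        exact False.elim (cert_false T ((skipEmb 1).trans (Function.Embedding.refl _)) (by norm_num) (fun _ => hall _) (((((LB_zero T ((skipEmb 1).trans (Function.Embedding.refl _))).upd 1 2 2 (le_of_eq hx23)).upd 2 1 1 (le_of_eq hx32)).upd 2 3 2 (le_of_eq hx34)).upd 3 2 1 (le_of_eq hx43)) ![0,2,2,1] (by decide) (by decide) 1 (by decide))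
      · -- 34=(1,3)
        exact False.elim (cert_false T ((skipEmb 1).trans (Function.Embedding.refl _)) (by norm_num) (fun _ => hall _) (((((LB_zero T ((skipEmb 1).trans (Function.Embedding.refl _))).upd 1 2 2 (le_of_eq hx23)).upd 2 1 1 (le_of_eq hx32)).upd 2 3 1 (le_of_eq hx34)).upd 3 2 3 (le_of_eq hx43)) ![0,1,1,1] (by decide) (by decide) 1 (by decide))
      · -- 34=(3,1)
        exact False.elim (cert_false T ((skipEmb 1).trans (Function.Embedding.refl _)) (by norm_num) (fun _ => hall _) (((((LB_zero T ((skipEmb 1).trans (Function.Embedding.refl _))).upd 1 2 2 (le_of_eq hx23)).upd 2 1 1 (le_of_eq hx32)).upd 2 3 3 (le_of_eq hx34)).upd 3 2 1 (le_of_eq hx43)) ![0,1,2,1] (by decide) (by decide) 1 (by decide))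
    · -- 24=(1,1)
      rcases d34 with ⟨rfl, rfl⟩ | ⟨rfl, rfl⟩ | ⟨rfl, rfl⟩ | ⟨rfl, rfl⟩ | ⟨rfl, rfl⟩ | ⟨rfl, rfl⟩
      · -- 34=(0,0)
        exfalso; omega
      · -- 34=(1,1)
        exact False.elim (cert_false T ((skipEmb 1).trans (Function.Embedding.refl _)) (by norm_num) (fun _ => hall _) (((((((LB_zero T ((skipEmb 1).trans (Function.Embedding.refl _))).upd 1 2 2 (le_of_eq hx23)).upd 1 3 1 (le_of_eq hx24)).upd 2 1 1 (le_of_eq hx32)).upd 2 3 1 (le_of_eq hx34)).upd 3 1 1 (le_of_eq hx42)).upd 3 2 1 (le_of_eq hx43)) ![0,1,1,1] (by decide) (by decide) 1 (by decide))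
      · -- 34=(1,2)
        exact False.elim (cert_false T ((skipEmb 1).trans (Function.Embedding.refl _)) (by norm_num) (fun _ => hall _) (((((((LB_zero T ((skipEmb 1).trans (Function.Embedding.refl _))).upd 1 2 2 (le_of_eq hx23)).upd 1 3 1 (le_of_eq hx24)).upd 2 1 1 (le_of_eq hx32)).upd 2 3 1 (le_of_eq hx34)).upd 3 1 1 (le_of_eq hx42)).upd 3 2 2 (le_of_eq hx43)) ![0,1,1,1] (by decide) (by decide) 1 (by decide))
      · -- 34=(2,1)
        exact False.elim (cert_false T ((skipEmb 1).trans (Function.Embedding.refl _)) (by norm_num) (fun _ => hall _) (((((((LB_zero T ((skipEmb 1).trans (Function.Embedding.refl _))).upd 1 2 2 (le_of_eq hx23)).upd 1 3 1 (le_of_eq hx24)).upd 2 1 1 (le_of_eq hx32)).upd 2 3 2 (le_of_eq hx34)).upd 3 1 1 (le_of_eq hx42)).upd 3 2 1 (le_of_eq hx43)) ![0,1,1,1] (by decide) (by decide) 1 (by decide))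
      · -- 34=(1,3)
        exact False.elim (cert_false T ((skipEmb 1).trans (Function.Embedding.refl _)) (by norm_num) (fun _ => hall _) (((((((LB_zero T ((skipEmb 1).trans (Function.Embedding.refl _))).upd 1 2 2 (le_of_eq hx23)).upd 1 3 1 (le_of_eq hx24)).upd 2 1 1 (le_of_eq hx32)).upd 2 3 1 (le_of_eq hx34)).upd 3 1 1 (le_of_eq hx42)).upd 3 2 3 (le_of_eq hx43)) ![0,1,1,1] (by decide) (by decide) 1 (by decide))
      · -- 34=(3,1)
        exact False.elim (cert_false T ((skipEmb 1).trans (Function.Embedding.refl _)) (by norm_num) (fun _ => hall _) (((((((LB_zero T ((skipEmb 1).trans (Function.Embedding.refl _))).upd 1 2 2 (le_of_eq hx23)).upd 1 3 1 (le_of_eq hx24)).upd 2 1 1 (le_of_eq hx32)).upd 2 3 3 (le_of_eq hx34)).upd 3 1 1 (le_of_eq hx42)).upd 3 2 1 (le_of_eq hx43)) ![0,1,1,1] (by decide) (by decide) 1 (by decide))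
    · -- 24=(1,2)
      exact False.elim (cert_false T ((skipEmb 1).trans (Function.Embedding.refl _)) (by norm_num) (fun _ => hall _) (((((LB_zero T ((skipEmb 1).trans (Function.Embedding.refl _))).upd 1 2 2 (le_of_eq hx23)).upd 1 3 1 (le_of_eq hx24)).upd 2 1 1 (le_of_eq hx32)).upd 3 1 2 (le_of_eq hx42)) ![0,2,1,2] (by decide) (by decide) 1 (by decide))
    · -- 24=(2,1)
      exact False.elim (cert_false T ((skipEmb 1).trans (Function.Embedding.refl _)) (by norm_num) (fun _ => hall _) (((((LB_zero T ((skipEmb 1).trans (Function.Embedding.refl _))).upd 1 2 2 (le_of_eq hx23)).upd 1 3 2 (le_of_eq hx24)).upd 2 1 1 (le_of_eq hx32)).upd 3 1 1 (le_of_eq hx42)) ![0,2,1,1] (by decide) (by decide) 1 (by decide))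
    · -- 24=(1,3)
      exact False.elim (cert_false T ((skipEmb 1).trans (Function.Embedding.refl _)) (by norm_num) (fun _ => hall _) (((((LB_zero T ((skipEmb 1).trans (Function.Embedding.refl _))).upd 1 2 2 (le_of_eq hx23)).upd 1 3 1 (le_of_eq hx24)).upd 2 1 1 (le_of_eq hx32)).upd 3 1 3 (le_of_eq hx42)) ![0,2,1,2] (by decide) (by decide) 1 (by decide))
    · -- 24=(3,1)
      exact False.elim (cert_false T ((skipEmb 1).trans (Function.Embedding.refl _)) (by norm_num) (fun _ => hall _) (((((LB_zero T ((skipEmb 1).trans (Function.Embedding.refl _))).upd 1 2 2 (le_of_eq hx23)).upd 1 3 3 (le_of_eq hx24)).upd 2 1 1 (le_of_eq hx32)).upd 3 1 1 (le_of_eq hx42)) ![0,2,1,1] (by decide) (by decide) 1 (by decide))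
  · -- 14=(1,1)
    rcases d24 with ⟨rfl, rfl⟩ | ⟨rfl, rfl⟩ | ⟨rfl, rfl⟩ | ⟨rfl, rfl⟩ | ⟨rfl, rfl⟩ | ⟨rfl, rfl⟩
    · -- 24=(0,0)
      rcases d34 with ⟨rfl, rfl⟩ | ⟨rfl, rfl⟩ | ⟨rfl, rfl⟩ | ⟨rfl, rfl⟩ | ⟨rfl, rfl⟩ | ⟨rfl, rfl⟩
      · -- 34=(0,0)
        exfalso; omega
      · -- 34=(1,1)
        exfalso; omega
      · -- 34=(1,2)
        exact False.elim (cert_false T ((skipEmb 1).trans (Function.Embedding.refl _)) (by norm_num) (fun _ => hall _) (((((LB_zero T ((skipEmb 1).trans (Function.Embedding.refl _))).upd 1 2 2 (le_of_eq hx23)).upd 2 1 1 (le_of_eq hx32)).upd 2 3 1 (le_of_eq hx34)).upd 3 2 2 (le_of_eq hx43)) ![0,1,1,1] (by decide) (by decide) 1 (by decide))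
      · -- 34=(2,1)
        exact False.elim (cert_false T ((skipEmb 1).trans (Function.Embedding.refl _)) (by norm_num) (fun _ => hall _) (((((LB_zero T ((skipEmb 1).trans (Function.Embedding.refl _))).upd 1 2 2 (le_of_eq hx23)).upd 2 1 1 (le_of_eq hx32)).upd 2 3 2 (le_of_eq hx34)).upd 3 2 1 (le_of_eq hx43)) ![0,2,2,1] (by decide) (by decide) 1 (by decide))
      · -- 34=(1,3)
        exact False.elim (cert_false T ((skipEmb 2).trans (Function.Embedding.refl _)) (by norm_num) (fun _ => hall _) (((((LB_zero T ((skipEmb 2).trans (Function.Embedding.refl _))).upd 1 3 1 (le_of_eq hx14)).upd 2 3 1 (le_of_eq hx34)).upd 3 1 1 (le_of_eq hx41)).upd 3 2 3 (le_of_eq hx43)) ![0,1,1,2] (by decide) (by decide) 1 (by decide))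
      · -- 34=(3,1)
        exact False.elim (cert_false T ((skipEmb 2).trans (Function.Embedding.refl _)) (by norm_num) (fun _ => hall _) (((((LB_zero T ((skipEmb 2).trans (Function.Embedding.refl _))).upd 1 3 1 (le_of_eq hx14)).upd 2 3 3 (le_of_eq hx34)).upd 3 1 1 (le_of_eq hx41)).upd 3 2 1 (le_of_eq hx43)) ![0,1,3,2] (by decide) (by decide) 1 (by decide))
    · -- 24=(1,1)
      rcases d34 with ⟨rfl, rfl⟩ | ⟨rfl, rfl⟩ | ⟨rfl, rfl⟩ | ⟨rfl, rfl⟩ | ⟨rfl, rfl⟩ | ⟨rfl, rfl⟩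
      · -- 34=(0,0)
        exfalso; omega
      · -- 34=(1,1)
        exact False.elim (cert_false T ((skipEmb 1).trans (Function.Embedding.refl _)) (by norm_num) (fun _ => hall _) (((((((LB_zero T ((skipEmb 1).trans (Function.Embedding.refl _))).upd 1 2 2 (le_of_eq hx23)).upd 1 3 1 (le_of_eq hx24)).upd 2 1 1 (le_of_eq hx32)).upd 2 3 1 (le_of_eq hx34)).upd 3 1 1 (le_of_eq hx42)).upd 3 2 1 (le_of_eq hx43)) ![0,1,1,1] (by decide) (by decide) 1 (by decide))
      · -- 34=(1,2)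
        exact False.elim (cert_false T ((skipEmb 1).trans (Function.Embedding.refl _)) (by norm_num) (fun _ => hall _) (((((((LB_zero T ((skipEmb 1).trans (Function.Embedding.refl _))).upd 1 2 2 (le_of_eq hx23)).upd 1 3 1 (le_of_eq hx24)).upd 2 1 1 (le_of_eq hx32)).upd 2 3 1 (le_of_eq hx34)).upd 3 1 1 (le_of_eq hx42)).upd 3 2 2 (le_of_eq hx43)) ![0,1,1,1] (by decide) (by decide) 1 (by decide))
      · -- 34=(2,1)
        exact False.elim (cert_false T ((skipEmb 1).trans (Function.Embedding.refl _)) (by norm_num) (fun _ => hall _) (((((((LB_zero T ((skipEmb 1).trans (Function.Embedding.refl _))).upd 1 2 2 (le_of_eq hx23)).upd 1 3 1 (le_of_eq hx24)).upd 2 1 1 (le_of_eq hx32)).upd 2 3 2 (le_of_eq hx34)).upd 3 1 1 (le_of_eq hx42)).upd 3 2 1 (le_of_eq hx43)) ![0,1,1,1] (by decide) (by decide) 1 (by decide))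
      · -- 34=(1,3)
        exact False.elim (cert_false T ((skipEmb 2).trans (Function.Embedding.refl _)) (by norm_num) (fun _ => hall _) (((((LB_zero T ((skipEmb 2).trans (Function.Embedding.refl _))).upd 1 3 1 (le_of_eq hx14)).upd 2 3 1 (le_of_eq hx34)).upd 3 1 1 (le_of_eq hx41)).upd 3 2 3 (le_of_eq hx43)) ![0,1,1,2] (by decide) (by decide) 1 (by decide))
      · -- 34=(3,1)
        exact False.elim (cert_false T ((skipEmb 2).trans (Function.Embedding.refl _)) (by norm_num) (fun _ => hall _) (((((LB_zero T ((skipEmb 2).trans (Function.Embedding.refl _))).upd 1 3 1 (le_of_eq hx14)).upd 2 3 3 (le_of_eq hx34)).upd 3 1 1 (le_of_eq hx41)).upd 3 2 1 (le_of_eq hx43)) ![0,1,3,2] (by decide) (by decide) 1 (by decide))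
    · -- 24=(1,2)
      exact False.elim (cert_false T ((skipEmb 1).trans (Function.Embedding.refl _)) (by norm_num) (fun _ => hall _) (((((LB_zero T ((skipEmb 1).trans (Function.Embedding.refl _))).upd 1 2 2 (le_of_eq hx23)).upd 1 3 1 (le_of_eq hx24)).upd 2 1 1 (le_of_eq hx32)).upd 3 1 2 (le_of_eq hx42)) ![0,2,1,2] (by decide) (by decide) 1 (by decide))
    · -- 24=(2,1)
      exact False.elim (cert_false T ((skipEmb 1).trans (Function.Embedding.refl _)) (by norm_num) (fun _ => hall _) (((((LB_zero T ((skipEmb 1).trans (Function.Embedding.refl _))).upd 1 2 2 (le_of_eq hx23)).upd 1 3 2 (le_of_eq hx24)).upd 2 1 1 (le_of_eq hx32)).upd 3 1 1 (le_of_eq hx42)) ![0,2,1,1] (by decide) (by decide) 1 (by decide))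
    · -- 24=(1,3)
      exact False.elim (cert_false T ((skipEmb 3).trans (Function.Embedding.refl _)) (by norm_num) (fun _ => hall _) (((((LB_zero T ((skipEmb 3).trans (Function.Embedding.refl _))).upd 1 3 1 (le_of_eq hx14)).upd 2 3 1 (le_of_eq hx24)).upd 3 1 1 (le_of_eq hx41)).upd 3 2 3 (le_of_eq hx42)) ![0,1,1,2] (by decide) (by decide) 1 (by decide))
    · -- 24=(3,1)
      exact False.elim (cert_false T ((skipEmb 3).trans (Function.Embedding.refl _)) (by norm_num) (fun _ => hall _) (((((LB_zero T ((skipEmb 3).trans (Function.Embedding.refl _))).upd 1 3 1 (le_of_eq hx14)).upd 2 3 3 (le_of_eq hx24)).upd 3 1 1 (le_of_eq hx41)).upd 3 2 1 (le_of_eq hx42)) ![0,1,3,2] (by decide) (by decide) 1 (by decide))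
  · -- 14=(1,2)
    rcases d24 with ⟨rfl, rfl⟩ | ⟨rfl, rfl⟩ | ⟨rfl, rfl⟩ | ⟨rfl, rfl⟩ | ⟨rfl, rfl⟩ | ⟨rfl, rfl⟩
    · -- 24=(0,0)
      rcases d34 with ⟨rfl, rfl⟩ | ⟨rfl, rfl⟩ | ⟨rfl, rfl⟩ | ⟨rfl, rfl⟩ | ⟨rfl, rfl⟩ | ⟨rfl, rfl⟩
      · -- 34=(0,0)
        exfalso; omega
      · -- 34=(1,1)
        exact False.elim (cert_false T ((skipEmb 0).trans (Function.Embedding.refl _)) (by norm_num) (fun _ => hall _) (((((((LB_zero T ((skipEmb 0).trans (Function.Embedding.refl _))).upd 0 3 1 (le_of_eq hx14)).upd 1 2 2 (le_of_eq hx23)).upd 2 1 1 (le_of_eq hx32)).upd 2 3 1 (le_of_eq hx34)).upd 3 0 2 (le_of_eq hx41)).upd 3 2 1 (le_of_eq hx43)) ![1,2,2,2] (by decide) (by decide) 0 (by decide))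
      · -- 34=(1,2)
        exact False.elim (cert_false T ((skipEmb 2).trans (Function.Embedding.refl _)) (by norm_num) (fun _ => hall _) (((((LB_zero T ((skipEmb 2).trans (Function.Embedding.refl _))).upd 1 3 1 (le_of_eq hx14)).upd 2 3 1 (le_of_eq hx34)).upd 3 1 2 (le_of_eq hx41)).upd 3 2 2 (le_of_eq hx43)) ![0,1,1,2] (by decide) (by decide) 1 (by decide))
      · -- 34=(2,1)
        exact False.elim (cert_false T ((skipEmb 2).trans (Function.Embedding.refl _)) (by norm_num) (fun _ => hall _) (((((LB_zero T ((skipEmb 2).trans (Function.Embedding.refl _))).upd 1 3 1 (le_of_eq hx14)).upd 2 3 2 (le_of_eq hx34)).upd 3 1 2 (le_of_eq hx41)).upd 3 2 1 (le_of_eq hx43)) ![0,1,2,2] (by decide) (by decide) 1 (by decide))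
      · -- 34=(1,3)
        exact False.elim (cert_false T ((skipEmb 2).trans (Function.Embedding.refl _)) (by norm_num) (fun _ => hall _) (((((LB_zero T ((skipEmb 2).trans (Function.Embedding.refl _))).upd 1 3 1 (le_of_eq hx14)).upd 2 3 1 (le_of_eq hx34)).upd 3 1 2 (le_of_eq hx41)).upd 3 2 3 (le_of_eq hx43)) ![0,1,1,2] (by decide) (by decide) 1 (by decide))
      · -- 34=(3,1)
        exact False.elim (cert_false T ((skipEmb 2).trans (Function.Embedding.refl _)) (by norm_num) (fun _ => hall _) (((((LB_zero T ((skipEmb 2).trans (Function.Embedding.refl _))).upd 1 3 1 (le_of_eq hx14)).upd 2 3 3 (le_of_eq hx34)).upd 3 1 2 (le_of_eq hx41)).upd 3 2 1 (le_of_eq hx43)) ![0,1,2,2] (by decide) (by decide) 1 (by decide))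
    · -- 24=(1,1)
      exact False.elim (cert_false T ((skipEmb 0).trans (Function.Embedding.refl _)) (by norm_num) (fun _ => hall _) (((((((LB_zero T ((skipEmb 0).trans (Function.Embedding.refl _))).upd 0 3 1 (le_of_eq hx14)).upd 1 2 2 (le_of_eq hx23)).upd 1 3 1 (le_of_eq hx24)).upd 2 1 1 (le_of_eq hx32)).upd 3 0 2 (le_of_eq hx41)).upd 3 1 1 (le_of_eq hx42)) ![1,2,1,2] (by decide) (by decide) 0 (by decide))
    · -- 24=(1,2)
      exact False.elim (cert_false T ((skipEmb 3).trans (Function.Embedding.refl _)) (by norm_num) (fun _ => hall _) (((((LB_zero T ((skipEmb 3).trans (Function.Embedding.refl _))).upd 1 3 1 (le_of_eq hx14)).upd 2 3 1 (le_of_eq hx24)).upd 3 1 2 (le_of_eq hx41)).upd 3 2 2 (le_of_eq hx42)) ![0,1,1,2] (by decide) (by decide) 1 (by decide))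
    · -- 24=(2,1)
      exact False.elim (cert_false T ((skipEmb 3).trans (Function.Embedding.refl _)) (by norm_num) (fun _ => hall _) (((((LB_zero T ((skipEmb 3).trans (Function.Embedding.refl _))).upd 1 3 1 (le_of_eq hx14)).upd 2 3 2 (le_of_eq hx24)).upd 3 1 2 (le_of_eq hx41)).upd 3 2 1 (le_of_eq hx42)) ![0,1,2,2] (by decide) (by decide) 1 (by decide))
    · -- 24=(1,3)
      exact False.elim (cert_false T ((skipEmb 3).trans (Function.Embedding.refl _)) (by norm_num) (fun _ => hall _) (((((LB_zero T ((skipEmb 3).trans (Function.Embedding.refl _))).upd 1 3 1 (le_of_eq hx14)).upd 2 3 1 (le_of_eq hx24)).upd 3 1 2 (le_of_eq hx41)).upd 3 2 3 (le_of_eq hx42)) ![0,1,1,2] (by decide) (by decide) 1 (by decide))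
    · -- 24=(3,1)
      exact False.elim (cert_false T ((skipEmb 3).trans (Function.Embedding.refl _)) (by norm_num) (fun _ => hall _) (((((LB_zero T ((skipEmb 3).trans (Function.Embedding.refl _))).upd 1 3 1 (le_of_eq hx14)).upd 2 3 3 (le_of_eq hx24)).upd 3 1 2 (le_of_eq hx41)).upd 3 2 1 (le_of_eq hx42)) ![0,1,2,2] (by decide) (by decide) 1 (by decide))
  · -- 14=(2,1)
    rcases d24 with ⟨rfl, rfl⟩ | ⟨rfl, rfl⟩ | ⟨rfl, rfl⟩ | ⟨rfl, rfl⟩ | ⟨rfl, rfl⟩ | ⟨rfl, rfl⟩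
    · -- 24=(0,0)
      rcases d34 with ⟨rfl, rfl⟩ | ⟨rfl, rfl⟩ | ⟨rfl, rfl⟩ | ⟨rfl, rfl⟩ | ⟨rfl, rfl⟩ | ⟨rfl, rfl⟩
      · -- 34=(0,0)
        exfalso; omega
      · -- 34=(1,1)
        exact False.elim (cert_false T ((skipEmb 0).trans (Function.Embedding.refl _)) (by norm_num) (fun _ => hall _) (((((((LB_zero T ((skipEmb 0).trans (Function.Embedding.refl _))).upd 0 3 2 (le_of_eq hx14)).upd 1 2 2 (le_of_eq hx23)).upd 2 1 1 (le_of_eq hx32)).upd 2 3 1 (le_of_eq hx34)).upd 3 0 1 (le_of_eq hx41)).upd 3 2 1 (le_of_eq hx43)) ![1,1,1,1] (by decide) (by decide) 0 (by decide))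
      · -- 34=(1,2)
        exact False.elim (cert_false T ((skipEmb 2).trans (Function.Embedding.refl _)) (by norm_num) (fun _ => hall _) (((((LB_zero T ((skipEmb 2).trans (Function.Embedding.refl _))).upd 1 3 2 (le_of_eq hx14)).upd 2 3 1 (le_of_eq hx34)).upd 3 1 1 (le_of_eq hx41)).upd 3 2 2 (le_of_eq hx43)) ![0,2,1,2] (by decide) (by decide) 1 (by decide))
      · -- 34=(2,1)
        exact False.elim (cert_false T ((skipEmb 2).trans (Function.Embedding.refl _)) (by norm_num) (fun _ => hall _) (((((LB_zero T ((skipEmb 2).trans (Function.Embedding.refl _))).upd 1 3 2 (le_of_eq hx14)).upd 2 3 2 (le_of_eq hx34)).upd 3 1 1 (le_of_eq hx41)).upd 3 2 1 (le_of_eq hx43)) ![0,1,1,1] (by decide) (by decide) 1 (by decide))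
      · -- 34=(1,3)
        exact False.elim (cert_false T ((skipEmb 2).trans (Function.Embedding.refl _)) (by norm_num) (fun _ => hall _) (((((LB_zero T ((skipEmb 2).trans (Function.Embedding.refl _))).upd 1 3 2 (le_of_eq hx14)).upd 2 3 1 (le_of_eq hx34)).upd 3 1 1 (le_of_eq hx41)).upd 3 2 3 (le_of_eq hx43)) ![0,1,1,2] (by decide) (by decide) 1 (by decide))
      · -- 34=(3,1)
        exact False.elim (cert_false T ((skipEmb 2).trans (Function.Embedding.refl _)) (by norm_num) (fun _ => hall _) (((((LB_zero T ((skipEmb 2).trans (Function.Embedding.refl _))).upd 1 3 2 (le_of_eq hx14)).upd 2 3 3 (le_of_eq hx34)).upd 3 1 1 (le_of_eq hx41)).upd 3 2 1 (le_of_eq hx43)) ![0,1,1,1] (by decide) (by decide) 1 (by decide))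
    · -- 24=(1,1)
      exact False.elim (cert_false T ((skipEmb 0).trans (Function.Embedding.refl _)) (by norm_num) (fun _ => hall _) (((((((LB_zero T ((skipEmb 0).trans (Function.Embedding.refl _))).upd 0 3 2 (le_of_eq hx14)).upd 1 2 2 (le_of_eq hx23)).upd 1 3 1 (le_of_eq hx24)).upd 2 1 1 (le_of_eq hx32)).upd 3 0 1 (le_of_eq hx41)).upd 3 1 1 (le_of_eq hx42)) ![2,2,1,2] (by decide) (by decide) 0 (by decide))
    · -- 24=(1,2)
      exact False.elim (cert_false T ((skipEmb 3).trans (Function.Embedding.refl _)) (by norm_num) (fun _ => hall _) (((((LB_zero T ((skipEmb 3).trans (Function.Embedding.refl _))).upd 1 3 2 (le_of_eq hx14)).upd 2 3 1 (le_of_eq hx24)).upd 3 1 1 (le_of_eq hx41)).upd 3 2 2 (le_of_eq hx42)) ![0,2,1,2] (by decide) (by decide) 1 (by decide))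
    · -- 24=(2,1)
      exact False.elim (cert_false T ((skipEmb 3).trans (Function.Embedding.refl _)) (by norm_num) (fun _ => hall _) (((((LB_zero T ((skipEmb 3).trans (Function.Embedding.refl _))).upd 1 3 2 (le_of_eq hx14)).upd 2 3 2 (le_of_eq hx24)).upd 3 1 1 (le_of_eq hx41)).upd 3 2 1 (le_of_eq hx42)) ![0,1,1,1] (by decide) (by decide) 1 (by decide))
    · -- 24=(1,3)
      exact False.elim (cert_false T ((skipEmb 3).trans (Function.Embedding.refl _)) (by norm_num) (fun _ => hall _) (((((LB_zero T ((skipEmb 3).trans (Function.Embedding.refl _))).upd 1 3 2 (le_of_eq hx14)).upd 2 3 1 (le_of_eq hx24)).upd 3 1 1 (le_of_eq hx41)).upd 3 2 3 (le_of_eq hx42)) ![0,1,1,2] (by decide) (by decide) 1 (by decide))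
    · -- 24=(3,1)
      exact False.elim (cert_false T ((skipEmb 3).trans (Function.Embedding.refl _)) (by norm_num) (fun _ => hall _) (((((LB_zero T ((skipEmb 3).trans (Function.Embedding.refl _))).upd 1 3 2 (le_of_eq hx14)).upd 2 3 3 (le_of_eq hx24)).upd 3 1 1 (le_of_eq hx41)).upd 3 2 1 (le_of_eq hx42)) ![0,1,1,1] (by decide) (by decide) 1 (by decide))
  · -- 14=(1,3)
    exact False.elim (cert_false T ((skipEmb 3).trans (Function.Embedding.refl _)) (by norm_num) (fun _ => hall _) (((((LB_zero T ((skipEmb 3).trans (Function.Embedding.refl _))).upd 0 1 1 (le_of_eq hx01)).upd 1 0 1 (le_of_eq hx10)).upd 1 3 1 (le_of_eq hx14)).upd 3 1 3 (le_of_eq hx41)) ![1,2,0,3] (by decide) (by decide) 0 (by decide))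
  · -- 14=(3,1)
    exact False.elim (cert_false T ((skipEmb 3).trans (Function.Embedding.refl _)) (by norm_num) (fun _ => hall _) (((((LB_zero T ((skipEmb 3).trans (Function.Embedding.refl _))).upd 0 1 1 (le_of_eq hx01)).upd 1 0 1 (le_of_eq hx10)).upd 1 3 3 (le_of_eq hx14)).upd 3 1 1 (le_of_eq hx41)) ![1,2,0,1] (by decide) (by decide) 0 (by decide))

theorem case360 (T : NumericalType 5) (hall : ∀ i, T.IsMinusTwo i) (d : SData T)
    (h01 : N T (Function.Embedding.refl _) 0 1 = 1) (h10 : N T (Function.Embedding.refl _) 1 0 = 1)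
    (h02 : N T (Function.Embedding.refl _) 0 2 = 0) (h20 : N T (Function.Embedding.refl _) 2 0 = 0)
    (h12 : N T (Function.Embedding.refl _) 1 2 = 0) (h21 : N T (Function.Embedding.refl _) 2 1 = 0)
    (h03 : N T (Function.Embedding.refl _) 0 3 = 0) (h30 : N T (Function.Embedding.refl _) 3 0 = 0)
    (h13 : N T (Function.Embedding.refl _) 1 3 = 0) (h31 : N T (Function.Embedding.refl _) 3 1 = 0)
    (h23 : N T (Function.Embedding.refl _) 2 3 = 2) (h32 : N T (Function.Embedding.refl _) 3 2 = 1) :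
    Goal T := by
  unfold Goal
  have hd := d
  obtain ⟨x01, x02, x03, x04, x10, x12, x13, x14, x20, x21, x23, x24, x30, x31, x32, x34, x40, x41, x42, x43, hx01, hx02, hx03, hx04, hx10, hx12, hx13, hx14, hx20, hx21, hx23, hx24, hx30, hx31, hx32, hx34, hx40, hx41, hx42, hx43, hw0, hm0, hw1, hm1, hw2, hm2, hw3, hm3, hw4, hm4, a00, a01, a02, a03, a04, a11, a10, a12, a13, a14, a22, a20, a21, a23, a24, a33, a30, a31, a32, a34, a44, a40, a41, a42, a43, wN01, wN02, wN12, wN03, wN13, wN23, wN04, wN14, wN24, wN34, e0, e1, e2, e3, e4, d01, d02, d12, d03, d13, d23, d04, d14, d24, d34⟩ := d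
  obtain rfl : x01 = 1 := hx01.trans h01
  obtain rfl : x10 = 1 := hx10.trans h10
  obtain rfl : x02 = 0 := hx02.trans h02
  obtain rfl : x20 = 0 := hx20.trans h20
  obtain rfl : x12 = 0 := hx12.trans h12
  obtain rfl : x21 = 0 := hx21.trans h21
  obtain rfl : x03 = 0 := hx03.trans h03
  obtain rfl : x30 = 0 := hx30.trans h30
  obtain rfl : x13 = 0 := hx13.trans h13
  obtain rfl : x31 = 0 := hx31.trans h31
  obtain rfl : x23 = 2 := hx23.trans h23
  obtain rfl : x32 = 1 := hx32.trans h32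
  rcases d04 with ⟨rfl, rfl⟩ | ⟨rfl, rfl⟩ | ⟨rfl, rfl⟩ | ⟨rfl, rfl⟩ | ⟨rfl, rfl⟩ | ⟨rfl, rfl⟩
  · -- 04=(0,0)
    exact case361 T hall hd hx01.symm hx10.symm hx02.symm hx20.symm hx12.symm hx21.symm hx03.symm hx30.symm hx13.symm hx31.symm hx23.symm hx32.symm hx04.symm hx40.symm
  · -- 04=(1,1)
    rcases d14 with ⟨rfl, rfl⟩ | ⟨rfl, rfl⟩ | ⟨rfl, rfl⟩ | ⟨rfl, rfl⟩ | ⟨rfl, rfl⟩ | ⟨rfl, rfl⟩
    · -- 14=(0,0)
      rcases d24 with ⟨rfl, rfl⟩ | ⟨rfl, rfl⟩ | ⟨rfl, rfl⟩ | ⟨rfl, rfl⟩ | ⟨rfl, rfl⟩ | ⟨rfl, rfl⟩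
      · -- 24=(0,0)
        rcases d34 with ⟨rfl, rfl⟩ | ⟨rfl, rfl⟩ | ⟨rfl, rfl⟩ | ⟨rfl, rfl⟩ | ⟨rfl, rfl⟩ | ⟨rfl, rfl⟩
        · -- 34=(0,0)
          exfalso; omega
        · -- 34=(1,1)
          exfalso; omega
        · -- 34=(1,2)
          exact False.elim (cert_false T ((skipEmb 1).trans (Function.Embedding.refl _)) (by norm_num) (fun _ => hall _) (((((LB_zero T ((skipEmb 1).trans (Function.Embedding.refl _))).upd 1 2 2 (le_of_eq hx23)).upd 2 1 1 (le_of_eq hx32)).upd 2 3 1 (le_of_eq hx34)).upd 3 2 2 (le_of_eq hx43)) ![0,1,1,1] (by decide) (by decide) 1 (by decide))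
        · -- 34=(2,1)
          exact False.elim (cert_false T ((skipEmb 1).trans (Function.Embedding.refl _)) (by norm_num) (fun _ => hall _) (((((LB_zero T ((skipEmb 1).trans (Function.Embedding.refl _))).upd 1 2 2 (le_of_eq hx23)).upd 2 1 1 (le_of_eq hx32)).upd 2 3 2 (le_of_eq hx34)).upd 3 2 1 (le_of_eq hx43)) ![0,2,2,1] (by decide) (by decide) 1 (by decide))
        · -- 34=(1,3)
          exact False.elim (cert_false T ((skipEmb 2).trans (Function.Embedding.refl _)) (by norm_num) (fun _ => hall _) (((((LB_zero T ((skipEmb 2).trans (Function.Embedding.refl _))).upd 0 3 1 (le_of_eq hx04)).upd 2 3 1 (le_of_eq hx34)).upd 3 0 1 (le_of_eq hx40)).upd 3 2 3 (le_of_eq hx43)) ![1,0,1,2] (by decide) (by decide) 0 (by decide))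
        · -- 34=(3,1)
          exact False.elim (cert_false T ((skipEmb 2).trans (Function.Embedding.refl _)) (by norm_num) (fun _ => hall _) (((((LB_zero T ((skipEmb 2).trans (Function.Embedding.refl _))).upd 0 3 1 (le_of_eq hx04)).upd 2 3 3 (le_of_eq hx34)).upd 3 0 1 (le_of_eq hx40)).upd 3 2 1 (le_of_eq hx43)) ![1,0,3,2] (by decide) (by decide) 0 (by decide))
      · -- 24=(1,1)
        rcases d34 with ⟨rfl, rfl⟩ | ⟨rfl, rfl⟩ | ⟨rfl, rfl⟩ | ⟨rfl, rfl⟩ | ⟨rfl, rfl⟩ | ⟨rfl, rfl⟩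
        · -- 34=(0,0)
          exfalso; omega
        · -- 34=(1,1)
          exact False.elim (cert_false T ((skipEmb 1).trans (Function.Embedding.refl _)) (by norm_num) (fun _ => hall _) (((((((LB_zero T ((skipEmb 1).trans (Function.Embedding.refl _))).upd 1 2 2 (le_of_eq hx23)).upd 1 3 1 (le_of_eq hx24)).upd 2 1 1 (le_of_eq hx32)).upd 2 3 1 (le_of_eq hx34)).upd 3 1 1 (le_of_eq hx42)).upd 3 2 1 (le_of_eq hx43)) ![0,1,1,1] (by decide) (by decide) 1 (by decide))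
        · -- 34=(1,2)
          exact False.elim (cert_false T ((skipEmb 1).trans (Function.Embedding.refl _)) (by norm_num) (fun _ => hall _) (((((((LB_zero T ((skipEmb 1).trans (Function.Embedding.refl _))).upd 1 2 2 (le_of_eq hx23)).upd 1 3 1 (le_of_eq hx24)).upd 2 1 1 (le_of_eq hx32)).upd 2 3 1 (le_of_eq hx34)).upd 3 1 1 (le_of_eq hx42)).upd 3 2 2 (le_of_eq hx43)) ![0,1,1,1] (by decide) (by decide) 1 (by decide))
        · -- 34=(2,1)
          exact False.elim (cert_false T ((skipEmb 1).trans (Function.Embedding.refl _)) (by norm_num) (fun _ => hall _) (((((((LB_zero T ((skipEmb 1).trans (Function.Embedding.refl _))).upd 1 2 2 (le_of_eq hx23)).upd 1 3 1 (le_of_eq hx24)).upd 2 1 1 (le_of_eq hx32)).upd 2 3 2 (le_of_eq hx34)).upd 3 1 1 (le_of_eq hx42)).upd 3 2 1 (le_of_eq hx43)) ![0,1,1,1] (by decide) (by decide) 1 (by decide))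
        · -- 34=(1,3)
          exact False.elim (cert_false T ((skipEmb 2).trans (Function.Embedding.refl _)) (by norm_num) (fun _ => hall _) (((((LB_zero T ((skipEmb 2).trans (Function.Embedding.refl _))).upd 0 3 1 (le_of_eq hx04)).upd 2 3 1 (le_of_eq hx34)).upd 3 0 1 (le_of_eq hx40)).upd 3 2 3 (le_of_eq hx43)) ![1,0,1,2] (by decide) (by decide) 0 (by decide))
        · -- 34=(3,1)
          exact False.elim (cert_false T ((skipEmb 2).trans (Function.Embedding.refl _)) (by norm_num) (fun _ => hall _) (((((LB_zero T ((skipEmb 2).trans (Function.Embedding.refl _))).upd 0 3 1 (le_of_eq hx04)).upd 2 3 3 (le_of_eq hx34)).upd 3 0 1 (le_of_eq hx40)).upd 3 2 1 (le_of_eq hx43)) ![1,0,3,2] (by decide) (by decide) 0 (by decide))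
      · -- 24=(1,2)
        exact False.elim (cert_false T ((skipEmb 1).trans (Function.Embedding.refl _)) (by norm_num) (fun _ => hall _) (((((LB_zero T ((skipEmb 1).trans (Function.Embedding.refl _))).upd 1 2 2 (le_of_eq hx23)).upd 1 3 1 (le_of_eq hx24)).upd 2 1 1 (le_of_eq hx32)).upd 3 1 2 (le_of_eq hx42)) ![0,2,1,2] (by decide) (by decide) 1 (by decide))
      · -- 24=(2,1)
        exact False.elim (cert_false T ((skipEmb 1).trans (Function.Embedding.refl _)) (by norm_num) (fun _ => hall _) (((((LB_zero T ((skipEmb 1).trans (Function.Embedding.refl _))).upd 1 2 2 (le_of_eq hx23)).upd 1 3 2 (le_of_eq hx24)).upd 2 1 1 (le_of_eq hx32)).upd 3 1 1 (le_of_eq hx42)) ![0,2,1,1] (by decide) (by decide) 1 (by decide))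
      · -- 24=(1,3)
        exact False.elim (cert_false T ((skipEmb 3).trans (Function.Embedding.refl _)) (by norm_num) (fun _ => hall _) (((((LB_zero T ((skipEmb 3).trans (Function.Embedding.refl _))).upd 0 3 1 (le_of_eq hx04)).upd 2 3 1 (le_of_eq hx24)).upd 3 0 1 (le_of_eq hx40)).upd 3 2 3 (le_of_eq hx42)) ![1,0,1,2] (by decide) (by decide) 0 (by decide))
      · -- 24=(3,1)
        exact False.elim (cert_false T ((skipEmb 3).trans (Function.Embedding.refl _)) (by norm_num) (fun _ => hall _) (((((LB_zero T ((skipEmb 3).trans (Function.Embedding.refl _))).upd 0 3 1 (le_of_eq hx04)).upd 2 3 3 (le_of_eq hx24)).upd 3 0 1 (le_of_eq hx40)).upd 3 2 1 (le_of_eq hx42)) ![1,0,3,2] (by decide) (by decide) 0 (by decide))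
    · -- 14=(1,1)
      exact False.elim (cert_false T ((skipEmb 3).trans (Function.Embedding.refl _)) (by norm_num) (fun _ => hall _) (((((((LB_zero T ((skipEmb 3).trans (Function.Embedding.refl _))).upd 0 1 1 (le_of_eq hx01)).upd 0 3 1 (le_of_eq hx04)).upd 1 0 1 (le_of_eq hx10)).upd 1 3 1 (le_of_eq hx14)).upd 3 0 1 (le_of_eq hx40)).upd 3 1 1 (le_of_eq hx41)) ![1,1,0,1] (by decide) (by decide) 0 (by decide))
    · -- 14=(1,2)
      exact False.elim (cert_false T ((skipEmb 3).trans (Function.Embedding.refl _)) (by norm_num) (fun _ => hall _) (((((((LB_zero T ((skipEmb 3).trans (Function.Embedding.refl _))).upd 0 1 1 (le_of_eq hx01)).upd 0 3 1 (le_of_eq hx04)).upd 1 0 1 (le_of_eq hx10)).upd 1 3 1 (le_of_eq hx14)).upd 3 0 1 (le_of_eq hx40)).upd 3 1 2 (le_of_eq hx41)) ![1,1,0,1] (by decide) (by decide) 0 (by decide))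
    · -- 14=(2,1)
      exact False.elim (cert_false T ((skipEmb 3).trans (Function.Embedding.refl _)) (by norm_num) (fun _ => hall _) (((((((LB_zero T ((skipEmb 3).trans (Function.Embedding.refl _))).upd 0 1 1 (le_of_eq hx01)).upd 0 3 1 (le_of_eq hx04)).upd 1 0 1 (le_of_eq hx10)).upd 1 3 2 (le_of_eq hx14)).upd 3 0 1 (le_of_eq hx40)).upd 3 1 1 (le_of_eq hx41)) ![1,1,0,1] (by decide) (by decide) 0 (by decide))
    · -- 14=(1,3)
      exact False.elim (cert_false T ((skipEmb 3).trans (Function.Embedding.refl _)) (by norm_num) (fun _ => hall _) (((((((LB_zero T ((skipEmb 3).trans (Function.Embedding.refl _))).upd 0 1 1 (le_of_eq hx01)).upd 0 3 1 (le_of_eq hx04)).upd 1 0 1 (le_of_eq hx10)).upd 1 3 1 (le_of_eq hx14)).upd 3 0 1 (le_of_eq hx40)).upd 3 1 3 (le_of_eq hx41)) ![1,1,0,1] (by decide) (by decide) 0 (by decide))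
    · -- 14=(3,1)
      exact False.elim (cert_false T ((skipEmb 3).trans (Function.Embedding.refl _)) (by norm_num) (fun _ => hall _) (((((((LB_zero T ((skipEmb 3).trans (Function.Embedding.refl _))).upd 0 1 1 (le_of_eq hx01)).upd 0 3 1 (le_of_eq hx04)).upd 1 0 1 (le_of_eq hx10)).upd 1 3 3 (le_of_eq hx14)).upd 3 0 1 (le_of_eq hx40)).upd 3 1 1 (le_of_eq hx41)) ![1,1,0,1] (by decide) (by decide) 0 (by decide))
  · -- 04=(1,2)
    rcases d14 with ⟨rfl, rfl⟩ | ⟨rfl, rfl⟩ | ⟨rfl, rfl⟩ | ⟨rfl, rfl⟩ | ⟨rfl, rfl⟩ | ⟨rfl, rfl⟩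
    · -- 14=(0,0)
      rcases d24 with ⟨rfl, rfl⟩ | ⟨rfl, rfl⟩ | ⟨rfl, rfl⟩ | ⟨rfl, rfl⟩ | ⟨rfl, rfl⟩ | ⟨rfl, rfl⟩
      · -- 24=(0,0)
        rcases d34 with ⟨rfl, rfl⟩ | ⟨rfl, rfl⟩ | ⟨rfl, rfl⟩ | ⟨rfl, rfl⟩ | ⟨rfl, rfl⟩ | ⟨rfl, rfl⟩
        · -- 34=(0,0)
          exfalso; omega
        · -- 34=(1,1)
          exact False.elim (cert_false T ((skipEmb 1).trans (Function.Embedding.refl _)) (by norm_num) (fun _ => hall _) (((((((LB_zero T ((skipEmb 1).trans (Function.Embedding.refl _))).upd 0 3 1 (le_of_eq hx04)).upd 1 2 2 (le_of_eq hx23)).upd 2 1 1 (le_of_eq hx32)).upd 2 3 1 (le_of_eq hx34)).upd 3 0 2 (le_of_eq hx40)).upd 3 2 1 (le_of_eq hx43)) ![1,2,2,2] (by decide) (by decide) 0 (by decide))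
        · -- 34=(1,2)
          exact False.elim (cert_false T ((skipEmb 2).trans (Function.Embedding.refl _)) (by norm_num) (fun _ => hall _) (((((LB_zero T ((skipEmb 2).trans (Function.Embedding.refl _))).upd 0 3 1 (le_of_eq hx04)).upd 2 3 1 (le_of_eq hx34)).upd 3 0 2 (le_of_eq hx40)).upd 3 2 2 (le_of_eq hx43)) ![1,0,1,2] (by decide) (by decide) 0 (by decide))
        · -- 34=(2,1)
          exact False.elim (cert_false T ((skipEmb 2).trans (Function.Embedding.refl _)) (by norm_num) (fun _ => hall _) (((((LB_zero T ((skipEmb 2).trans (Function.Embedding.refl _))).upd 0 3 1 (le_of_eq hx04)).upd 2 3 2 (le_of_eq hx34)).upd 3 0 2 (le_of_eq hx40)).upd 3 2 1 (le_of_eq hx43)) ![1,0,2,2] (by decide) (by decide) 0 (by decide))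
        · -- 34=(1,3)
          exact False.elim (cert_false T ((skipEmb 2).trans (Function.Embedding.refl _)) (by norm_num) (fun _ => hall _) (((((LB_zero T ((skipEmb 2).trans (Function.Embedding.refl _))).upd 0 3 1 (le_of_eq hx04)).upd 2 3 1 (le_of_eq hx34)).upd 3 0 2 (le_of_eq hx40)).upd 3 2 3 (le_of_eq hx43)) ![1,0,1,2] (by decide) (by decide) 0 (by decide))
        · -- 34=(3,1)
          exact False.elim (cert_false T ((skipEmb 2).trans (Function.Embedding.refl _)) (by norm_num) (fun _ => hall _) (((((LB_zero T ((skipEmb 2).trans (Function.Embedding.refl _))).upd 0 3 1 (le_of_eq hx04)).upd 2 3 3 (le_of_eq hx34)).upd 3 0 2 (le_of_eq hx40)).upd 3 2 1 (le_of_eq hx43)) ![1,0,2,2] (by decide) (by decide) 0 (by decide))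
      · -- 24=(1,1)
        exact False.elim (cert_false T ((skipEmb 1).trans (Function.Embedding.refl _)) (by norm_num) (fun _ => hall _) (((((((LB_zero T ((skipEmb 1).trans (Function.Embedding.refl _))).upd 0 3 1 (le_of_eq hx04)).upd 1 2 2 (le_of_eq hx23)).upd 1 3 1 (le_of_eq hx24)).upd 2 1 1 (le_of_eq hx32)).upd 3 0 2 (le_of_eq hx40)).upd 3 1 1 (le_of_eq hx42)) ![1,2,1,2] (by decide) (by decide) 0 (by decide))
      · -- 24=(1,2)
        exact False.elim (cert_false T ((skipEmb 3).trans (Function.Embedding.refl _)) (by norm_num) (fun _ => hall _) (((((LB_zero T ((skipEmb 3).trans (Function.Embedding.refl _))).upd 0 3 1 (le_of_eq hx04)).upd 2 3 1 (le_of_eq hx24)).upd 3 0 2 (le_of_eq hx40)).upd 3 2 2 (le_of_eq hx42)) ![1,0,1,2] (by decide) (by decide) 0 (by decide))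
      · -- 24=(2,1)
        exact False.elim (cert_false T ((skipEmb 3).trans (Function.Embedding.refl _)) (by norm_num) (fun _ => hall _) (((((LB_zero T ((skipEmb 3).trans (Function.Embedding.refl _))).upd 0 3 1 (le_of_eq hx04)).upd 2 3 2 (le_of_eq hx24)).upd 3 0 2 (le_of_eq hx40)).upd 3 2 1 (le_of_eq hx42)) ![1,0,2,2] (by decide) (by decide) 0 (by decide))
      · -- 24=(1,3)
        exact False.elim (cert_false T ((skipEmb 3).trans (Function.Embedding.refl _)) (by norm_num) (fun _ => hall _) (((((LB_zero T ((skipEmb 3).trans (Function.Embedding.refl _))).upd 0 3 1 (le_of_eq hx04)).upd 2 3 1 (le_of_eq hx24)).upd 3 0 2 (le_of_eq hx40)).upd 3 2 3 (le_of_eq hx42)) ![1,0,1,2] (by decide) (by decide) 0 (by decide))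
      · -- 24=(3,1)
        exact False.elim (cert_false T ((skipEmb 3).trans (Function.Embedding.refl _)) (by norm_num) (fun _ => hall _) (((((LB_zero T ((skipEmb 3).trans (Function.Embedding.refl _))).upd 0 3 1 (le_of_eq hx04)).upd 2 3 3 (le_of_eq hx24)).upd 3 0 2 (le_of_eq hx40)).upd 3 2 1 (le_of_eq hx42)) ![1,0,2,2] (by decide) (by decide) 0 (by decide))
    · -- 14=(1,1)
      exact False.elim (cert_false T ((skipEmb 3).trans (Function.Embedding.refl _)) (by norm_num) (fun _ => hall _) (((((((LB_zero T ((skipEmb 3).trans (Function.Embedding.refl _))).upd 0 1 1 (le_of_eq hx01)).upd 0 3 1 (le_of_eq hx04)).upd 1 0 1 (le_of_eq hx10)).upd 1 3 1 (le_of_eq hx14)).upd 3 0 2 (le_of_eq hx40)).upd 3 1 1 (le_of_eq hx41)) ![1,1,0,1] (by decide) (by decide) 0 (by decide))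
    · -- 14=(1,2)
      exact False.elim (cert_false T ((skipEmb 3).trans (Function.Embedding.refl _)) (by norm_num) (fun _ => hall _) (((((((LB_zero T ((skipEmb 3).trans (Function.Embedding.refl _))).upd 0 1 1 (le_of_eq hx01)).upd 0 3 1 (le_of_eq hx04)).upd 1 0 1 (le_of_eq hx10)).upd 1 3 1 (le_of_eq hx14)).upd 3 0 2 (le_of_eq hx40)).upd 3 1 2 (le_of_eq hx41)) ![1,1,0,1] (by decide) (by decide) 0 (by decide))
    · -- 14=(2,1)
      exact False.elim (cert_false T ((skipEmb 3).trans (Function.Embedding.refl _)) (by norm_num) (fun _ => hall _) (((((((LB_zero T ((skipEmb 3).trans (Function.Embedding.refl _))).upd 0 1 1 (le_of_eq hx01)).upd 0 3 1 (le_of_eq hx04)).upd 1 0 1 (le_of_eq hx10)).upd 1 3 2 (le_of_eq hx14)).upd 3 0 2 (le_of_eq hx40)).upd 3 1 1 (le_of_eq hx41)) ![1,1,0,1] (by decide) (by decide) 0 (by decide))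
    · -- 14=(1,3)
      exact False.elim (cert_false T ((skipEmb 3).trans (Function.Embedding.refl _)) (by norm_num) (fun _ => hall _) (((((((LB_zero T ((skipEmb 3).trans (Function.Embedding.refl _))).upd 0 1 1 (le_of_eq hx01)).upd 0 3 1 (le_of_eq hx04)).upd 1 0 1 (le_of_eq hx10)).upd 1 3 1 (le_of_eq hx14)).upd 3 0 2 (le_of_eq hx40)).upd 3 1 3 (le_of_eq hx41)) ![1,1,0,1] (by decide) (by decide) 0 (by decide))
    · -- 14=(3,1)
      exact False.elim (cert_false T ((skipEmb 3).trans (Function.Embedding.refl _)) (by norm_num) (fun _ => hall _) (((((((LB_zero T ((skipEmb 3).trans (Function.Embedding.refl _))).upd 0 1 1 (le_of_eq hx01)).upd 0 3 1 (le_of_eq hx04)).upd 1 0 1 (le_of_eq hx10)).upd 1 3 3 (le_of_eq hx14)).upd 3 0 2 (le_of_eq hx40)).upd 3 1 1 (le_of_eq hx41)) ![1,1,0,1] (by decide) (by decide) 0 (by decide))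
  · -- 04=(2,1)
    rcases d14 with ⟨rfl, rfl⟩ | ⟨rfl, rfl⟩ | ⟨rfl, rfl⟩ | ⟨rfl, rfl⟩ | ⟨rfl, rfl⟩ | ⟨rfl, rfl⟩
    · -- 14=(0,0)
      rcases d24 with ⟨rfl, rfl⟩ | ⟨rfl, rfl⟩ | ⟨rfl, rfl⟩ | ⟨rfl, rfl⟩ | ⟨rfl, rfl⟩ | ⟨rfl, rfl⟩
      · -- 24=(0,0)
        rcases d34 with ⟨rfl, rfl⟩ | ⟨rfl, rfl⟩ | ⟨rfl, rfl⟩ | ⟨rfl, rfl⟩ | ⟨rfl, rfl⟩ | ⟨rfl, rfl⟩
        · -- 34=(0,0)
          exfalso; omega
        · -- 34=(1,1)
          exact False.elim (cert_false T ((skipEmb 1).trans (Function.Embedding.refl _)) (by norm_num) (fun _ => hall _) (((((((LB_zero T ((skipEmb 1).trans (Function.Embedding.refl _))).upd 0 3 2 (le_of_eq hx04)).upd 1 2 2 (le_of_eq hx23)).upd 2 1 1 (le_of_eq hx32)).upd 2 3 1 (le_of_eq hx34)).upd 3 0 1 (le_of_eq hx40)).upd 3 2 1 (le_of_eq hx43)) ![1,1,1,1] (by decide) (by decide) 0 (by decide))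
        · -- 34=(1,2)
          exact False.elim (cert_false T ((skipEmb 2).trans (Function.Embedding.refl _)) (by norm_num) (fun _ => hall _) (((((LB_zero T ((skipEmb 2).trans (Function.Embedding.refl _))).upd 0 3 2 (le_of_eq hx04)).upd 2 3 1 (le_of_eq hx34)).upd 3 0 1 (le_of_eq hx40)).upd 3 2 2 (le_of_eq hx43)) ![2,0,1,2] (by decide) (by decide) 0 (by decide))
        · -- 34=(2,1)
          exact False.elim (cert_false T ((skipEmb 2).trans (Function.Embedding.refl _)) (by norm_num) (fun _ => hall _) (((((LB_zero T ((skipEmb 2).trans (Function.Embedding.refl _))).upd 0 3 2 (le_of_eq hx04)).upd 2 3 2 (le_of_eq hx34)).upd 3 0 1 (le_of_eq hx40)).upd 3 2 1 (le_of_eq hx43)) ![1,0,1,1] (by decide) (by decide) 0 (by decide))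
        · -- 34=(1,3)
          exact False.elim (cert_false T ((skipEmb 2).trans (Function.Embedding.refl _)) (by norm_num) (fun _ => hall _) (((((LB_zero T ((skipEmb 2).trans (Function.Embedding.refl _))).upd 0 3 2 (le_of_eq hx04)).upd 2 3 1 (le_of_eq hx34)).upd 3 0 1 (le_of_eq hx40)).upd 3 2 3 (le_of_eq hx43)) ![1,0,1,2] (by decide) (by decide) 0 (by decide))
        · -- 34=(3,1)
          exact False.elim (cert_false T ((skipEmb 2).trans (Function.Embedding.refl _)) (by norm_num) (fun _ => hall _) (((((LB_zero T ((skipEmb 2).trans (Function.Embedding.refl _))).upd 0 3 2 (le_of_eq hx04)).upd 2 3 3 (le_of_eq hx34)).upd 3 0 1 (le_of_eq hx40)).upd 3 2 1 (le_of_eq hx43)) ![1,0,1,1] (by decide) (by decide) 0 (by decide))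
      · -- 24=(1,1)
        exact False.elim (cert_false T ((skipEmb 1).trans (Function.Embedding.refl _)) (by norm_num) (fun _ => hall _) (((((((LB_zero T ((skipEmb 1).trans (Function.Embedding.refl _))).upd 0 3 2 (le_of_eq hx04)).upd 1 2 2 (le_of_eq hx23)).upd 1 3 1 (le_of_eq hx24)).upd 2 1 1 (le_of_eq hx32)).upd 3 0 1 (le_of_eq hx40)).upd 3 1 1 (le_of_eq hx42)) ![2,2,1,2] (by decide) (by decide) 0 (by decide))
      · -- 24=(1,2)
        exact False.elim (cert_false T ((skipEmb 3).trans (Function.Embedding.refl _)) (by norm_num) (fun _ => hall _) (((((LB_zero T ((skipEmb 3).trans (Function.Embedding.refl _))).upd 0 3 2 (le_of_eq hx04)).upd 2 3 1 (le_of_eq hx24)).upd 3 0 1 (le_of_eq hx40)).upd 3 2 2 (le_of_eq hx42)) ![2,0,1,2] (by decide) (by decide) 0 (by decide))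
      · -- 24=(2,1)
        exact False.elim (cert_false T ((skipEmb 3).trans (Function.Embedding.refl _)) (by norm_num) (fun _ => hall _) (((((LB_zero T ((skipEmb 3).trans (Function.Embedding.refl _))).upd 0 3 2 (le_of_eq hx04)).upd 2 3 2 (le_of_eq hx24)).upd 3 0 1 (le_of_eq hx40)).upd 3 2 1 (le_of_eq hx42)) ![1,0,1,1] (by decide) (by decide) 0 (by decide))
      · -- 24=(1,3)
        exact False.elim (cert_false T ((skipEmb 3).trans (Function.Embedding.refl _)) (by norm_num) (fun _ => hall _) (((((LB_zero T ((skipEmb 3).trans (Function.Embedding.refl _))).upd 0 3 2 (le_of_eq hx04)).upd 2 3 1 (le_of_eq hx24)).upd 3 0 1 (le_of_eq hx40)).upd 3 2 3 (le_of_eq hx42)) ![1,0,1,2] (by decide) (by decide) 0 (by decide))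
      · -- 24=(3,1)
        exact False.elim (cert_false T ((skipEmb 3).trans (Function.Embedding.refl _)) (by norm_num) (fun _ => hall _) (((((LB_zero T ((skipEmb 3).trans (Function.Embedding.refl _))).upd 0 3 2 (le_of_eq hx04)).upd 2 3 3 (le_of_eq hx24)).upd 3 0 1 (le_of_eq hx40)).upd 3 2 1 (le_of_eq hx42)) ![1,0,1,1] (by decide) (by decide) 0 (by decide))
    · -- 14=(1,1)
      exact False.elim (cert_false T ((skipEmb 3).trans (Function.Embedding.refl _)) (by norm_num) (fun _ => hall _) (((((((LB_zero T ((skipEmb 3).trans (Function.Embedding.refl _))).upd 0 1 1 (le_of_eq hx01)).upd 0 3 2 (le_of_eq hx04)).upd 1 0 1 (le_of_eq hx10)).upd 1 3 1 (le_of_eq hx14)).upd 3 0 1 (le_of_eq hx40)).upd 3 1 1 (le_of_eq hx41)) ![1,1,0,1] (by decide) (by decide) 0 (by decide))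
    · -- 14=(1,2)
      exact False.elim (cert_false T ((skipEmb 3).trans (Function.Embedding.refl _)) (by norm_num) (fun _ => hall _) (((((((LB_zero T ((skipEmb 3).trans (Function.Embedding.refl _))).upd 0 1 1 (le_of_eq hx01)).upd 0 3 2 (le_of_eq hx04)).upd 1 0 1 (le_of_eq hx10)).upd 1 3 1 (le_of_eq hx14)).upd 3 0 1 (le_of_eq hx40)).upd 3 1 2 (le_of_eq hx41)) ![1,1,0,1] (by decide) (by decide) 0 (by decide))
    · -- 14=(2,1)
      exact False.elim (cert_false T ((skipEmb 3).trans (Function.Embedding.refl _)) (by norm_num) (fun _ => hall _) (((((((LB_zero T ((skipEmb 3).trans (Function.Embedding.refl _))).upd 0 1 1 (le_of_eq hx01)).upd 0 3 2 (le_of_eq hx04)).upd 1 0 1 (le_of_eq hx10)).upd 1 3 2 (le_of_eq hx14)).upd 3 0 1 (le_of_eq hx40)).upd 3 1 1 (le_of_eq hx41)) ![1,1,0,1] (by decide) (by decide) 0 (by decide))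
    · -- 14=(1,3)
      exact False.elim (cert_false T ((skipEmb 3).trans (Function.Embedding.refl _)) (by norm_num) (fun _ => hall _) (((((((LB_zero T ((skipEmb 3).trans (Function.Embedding.refl _))).upd 0 1 1 (le_of_eq hx01)).upd 0 3 2 (le_of_eq hx04)).upd 1 0 1 (le_of_eq hx10)).upd 1 3 1 (le_of_eq hx14)).upd 3 0 1 (le_of_eq hx40)).upd 3 1 3 (le_of_eq hx41)) ![1,1,0,1] (by decide) (by decide) 0 (by decide))
    · -- 14=(3,1)
      exact False.elim (cert_false T ((skipEmb 3).trans (Function.Embedding.refl _)) (by norm_num) (fun _ => hall _) (((((((LB_zero T ((skipEmb 3).trans (Function.Embedding.refl _))).upd 0 1 1 (le_of_eq hx01)).upd 0 3 2 (le_of_eq hx04)).upd 1 0 1 (le_of_eq hx10)).upd 1 3 3 (le_of_eq hx14)).upd 3 0 1 (le_of_eq hx40)).upd 3 1 1 (le_of_eq hx41)) ![1,1,0,1] (by decide) (by decide) 0 (by decide))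
  · -- 04=(1,3)
    exact False.elim (cert_false T ((skipEmb 3).trans (Function.Embedding.refl _)) (by norm_num) (fun _ => hall _) (((((LB_zero T ((skipEmb 3).trans (Function.Embedding.refl _))).upd 0 1 1 (le_of_eq hx01)).upd 0 3 1 (le_of_eq hx04)).upd 1 0 1 (le_of_eq hx10)).upd 3 0 3 (le_of_eq hx40)) ![2,1,0,3] (by decide) (by decide) 0 (by decide))
  · -- 04=(3,1)
    exact False.elim (cert_false T ((skipEmb 3).trans (Function.Embedding.refl _)) (by norm_num) (fun _ => hall _) (((((LB_zero T ((skipEmb 3).trans (Function.Embedding.refl _))).upd 0 1 1 (le_of_eq hx01)).upd 0 3 3 (le_of_eq hx04)).upd 1 0 1 (le_of_eq hx10)).upd 3 0 1 (le_of_eq hx40)) ![2,1,0,1] (by decide) (by decide) 0 (by decide))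

theorem case362 (T : NumericalType 5) (hall : ∀ i, T.IsMinusTwo i) (d : SData T)
    (h01 : N T (Function.Embedding.refl _) 0 1 = 1) (h10 : N T (Function.Embedding.refl _) 1 0 = 1)
    (h02 : N T (Function.Embedding.refl _) 0 2 = 0) (h20 : N T (Function.Embedding.refl _) 2 0 = 0)
    (h12 : N T (Function.Embedding.refl _) 1 2 = 0) (h21 : N T (Function.Embedding.refl _) 2 1 = 0)
    (h03 : N T (Function.Embedding.refl _) 0 3 = 0) (h30 : N T (Function.Embedding.refl _) 3 0 = 0)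
    (h13 : N T (Function.Embedding.refl _) 1 3 = 0) (h31 : N T (Function.Embedding.refl _) 3 1 = 0)
    (h23 : N T (Function.Embedding.refl _) 2 3 = 1) (h32 : N T (Function.Embedding.refl _) 3 2 = 3) :
    Goal T := by
  unfold Goal
  have hd := d
  obtain ⟨x01, x02, x03, x04, x10, x12, x13, x14, x20, x21, x23, x24, x30, x31, x32, x34, x40, x41, x42, x43, hx01, hx02, hx03, hx04, hx10, hx12, hx13, hx14, hx20, hx21, hx23, hx24, hx30, hx31, hx32, hx34, hx40, hx41, hx42, hx43, hw0, hm0, hw1, hm1, hw2, hm2, hw3, hm3, hw4, hm4, a00, a01, a02, a03, a04, a11, a10, a12, a13, a14, a22, a20, a21, a23, a24, a33, a30, a31, a32, a34, a44, a40, a41, a42, a43, wN01, wN02, wN12, wN03, wN13, wN23, wN04, wN14, wN24, wN34, e0, e1, e2, e3, e4, d01, d02, d12, d03, d13, d23, d04, d14, d24, d34⟩ := d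
  obtain rfl : x01 = 1 := hx01.trans h01
  obtain rfl : x10 = 1 := hx10.trans h10
  obtain rfl : x02 = 0 := hx02.trans h02
  obtain rfl : x20 = 0 := hx20.trans h20
  obtain rfl : x12 = 0 := hx12.trans h12
  obtain rfl : x21 = 0 := hx21.trans h21
  obtain rfl : x03 = 0 := hx03.trans h03
  obtain rfl : x30 = 0 := hx30.trans h30
  obtain rfl : x13 = 0 := hx13.trans h13
  obtain rfl : x31 = 0 := hx31.trans h31
  obtain rfl : x23 = 1 := hx23.trans h23
  obtain rfl : x32 = 3 := hx32.trans h32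
  rcases d04 with ⟨rfl, rfl⟩ | ⟨rfl, rfl⟩ | ⟨rfl, rfl⟩ | ⟨rfl, rfl⟩ | ⟨rfl, rfl⟩ | ⟨rfl, rfl⟩
  · -- 04=(0,0)
    rcases d14 with ⟨rfl, rfl⟩ | ⟨rfl, rfl⟩ | ⟨rfl, rfl⟩ | ⟨rfl, rfl⟩ | ⟨rfl, rfl⟩ | ⟨rfl, rfl⟩
    · -- 14=(0,0)
      rcases d24 with ⟨rfl, rfl⟩ | ⟨rfl, rfl⟩ | ⟨rfl, rfl⟩ | ⟨rfl, rfl⟩ | ⟨rfl, rfl⟩ | ⟨rfl, rfl⟩
      · -- 24=(0,0)
        rcases d34 with ⟨rfl, rfl⟩ | ⟨rfl, rfl⟩ | ⟨rfl, rfl⟩ | ⟨rfl, rfl⟩ | ⟨rfl, rfl⟩ | ⟨rfl, rfl⟩
        · -- 34=(0,0)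
          exfalso; omega
        · -- 34=(1,1)
          exact False.elim (cert_false T ((skipEmb 1).trans (Function.Embedding.refl _)) (by norm_num) (fun _ => hall _) (((((LB_zero T ((skipEmb 1).trans (Function.Embedding.refl _))).upd 1 2 1 (le_of_eq hx23)).upd 2 1 3 (le_of_eq hx32)).upd 2 3 1 (le_of_eq hx34)).upd 3 2 1 (le_of_eq hx43)) ![0,1,2,1] (by decide) (by decide) 1 (by decide))
        · -- 34=(1,2)
          exact False.elim (cert_false T ((skipEmb 1).trans (Function.Embedding.refl _)) (by norm_num) (fun _ => hall _) (((((LB_zero T ((skipEmb 1).trans (Function.Embedding.refl _))).upd 1 2 1 (le_of_eq hx23)).upd 2 1 3 (le_of_eq hx32)).upd 2 3 1 (le_of_eq hx34)).upd 3 2 2 (le_of_eq hx43)) ![0,1,2,1] (by decide) (by decide) 1 (by decide))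
        · -- 34=(2,1)
          exact False.elim (cert_false T ((skipEmb 1).trans (Function.Embedding.refl _)) (by norm_num) (fun _ => hall _) (((((LB_zero T ((skipEmb 1).trans (Function.Embedding.refl _))).upd 1 2 1 (le_of_eq hx23)).upd 2 1 3 (le_of_eq hx32)).upd 2 3 2 (le_of_eq hx34)).upd 3 2 1 (le_of_eq hx43)) ![0,1,2,1] (by decide) (by decide) 1 (by decide))
        · -- 34=(1,3)
          exact False.elim (cert_false T ((skipEmb 1).trans (Function.Embedding.refl _)) (by norm_num) (fun _ => hall _) (((((LB_zero T ((skipEmb 1).trans (Function.Embedding.refl _))).upd 1 2 1 (le_of_eq hx23)).upd 2 1 3 (le_of_eq hx32)).upd 2 3 1 (le_of_eq hx34)).upd 3 2 3 (le_of_eq hx43)) ![0,1,2,1] (by decide) (by decide) 1 (by decide))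
        · -- 34=(3,1)
          exact False.elim (cert_false T ((skipEmb 1).trans (Function.Embedding.refl _)) (by norm_num) (fun _ => hall _) (((((LB_zero T ((skipEmb 1).trans (Function.Embedding.refl _))).upd 1 2 1 (le_of_eq hx23)).upd 2 1 3 (le_of_eq hx32)).upd 2 3 3 (le_of_eq hx34)).upd 3 2 1 (le_of_eq hx43)) ![0,1,2,1] (by decide) (by decide) 1 (by decide))
      · -- 24=(1,1)
        exact False.elim (cert_false T ((skipEmb 1).trans (Function.Embedding.refl _)) (by norm_num) (fun _ => hall _) (((((LB_zero T ((skipEmb 1).trans (Function.Embedding.refl _))).upd 1 2 1 (le_of_eq hx23)).upd 1 3 1 (le_of_eq hx24)).upd 2 1 3 (le_of_eq hx32)).upd 3 1 1 (le_of_eq hx42)) ![0,2,3,1] (by decide) (by decide) 1 (by decide))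
      · -- 24=(1,2)
        exact False.elim (cert_false T ((skipEmb 1).trans (Function.Embedding.refl _)) (by norm_num) (fun _ => hall _) (((((LB_zero T ((skipEmb 1).trans (Function.Embedding.refl _))).upd 1 2 1 (le_of_eq hx23)).upd 1 3 1 (le_of_eq hx24)).upd 2 1 3 (le_of_eq hx32)).upd 3 1 2 (le_of_eq hx42)) ![0,1,1,1] (by decide) (by decide) 1 (by decide))
      · -- 24=(2,1)
        exact False.elim (cert_false T ((skipEmb 1).trans (Function.Embedding.refl _)) (by norm_num) (fun _ => hall _) (((((LB_zero T ((skipEmb 1).trans (Function.Embedding.refl _))).upd 1 2 1 (le_of_eq hx23)).upd 1 3 2 (le_of_eq hx24)).upd 2 1 3 (le_of_eq hx32)).upd 3 1 1 (le_of_eq hx42)) ![0,2,2,1] (by decide) (by decide) 1 (by decide))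
      · -- 24=(1,3)
        exact False.elim (cert_false T ((skipEmb 1).trans (Function.Embedding.refl _)) (by norm_num) (fun _ => hall _) (((((LB_zero T ((skipEmb 1).trans (Function.Embedding.refl _))).upd 1 2 1 (le_of_eq hx23)).upd 1 3 1 (le_of_eq hx24)).upd 2 1 3 (le_of_eq hx32)).upd 3 1 3 (le_of_eq hx42)) ![0,1,1,1] (by decide) (by decide) 1 (by decide))
      · -- 24=(3,1)
        exact False.elim (cert_false T ((skipEmb 1).trans (Function.Embedding.refl _)) (by norm_num) (fun _ => hall _) (((((LB_zero T ((skipEmb 1).trans (Function.Embedding.refl _))).upd 1 2 1 (le_of_eq hx23)).upd 1 3 3 (le_of_eq hx24)).upd 2 1 3 (le_of_eq hx32)).upd 3 1 1 (le_of_eq hx42)) ![0,2,1,1] (by decide) (by decide) 1 (by decide))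
    · -- 14=(1,1)
      rcases d24 with ⟨rfl, rfl⟩ | ⟨rfl, rfl⟩ | ⟨rfl, rfl⟩ | ⟨rfl, rfl⟩ | ⟨rfl, rfl⟩ | ⟨rfl, rfl⟩
      · -- 24=(0,0)
        rcases d34 with ⟨rfl, rfl⟩ | ⟨rfl, rfl⟩ | ⟨rfl, rfl⟩ | ⟨rfl, rfl⟩ | ⟨rfl, rfl⟩ | ⟨rfl, rfl⟩
        · -- 34=(0,0)
          exfalso; omega
        · -- 34=(1,1)
          exact False.elim (cert_false T ((skipEmb 1).trans (Function.Embedding.refl _)) (by norm_num) (fun _ => hall _) (((((LB_zero T ((skipEmb 1).trans (Function.Embedding.refl _))).upd 1 2 1 (le_of_eq hx23)).upd 2 1 3 (le_of_eq hx32)).upd 2 3 1 (le_of_eq hx34)).upd 3 2 1 (le_of_eq hx43)) ![0,1,2,1] (by decide) (by decide) 1 (by decide))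
        · -- 34=(1,2)
          exact False.elim (cert_false T ((skipEmb 1).trans (Function.Embedding.refl _)) (by norm_num) (fun _ => hall _) (((((LB_zero T ((skipEmb 1).trans (Function.Embedding.refl _))).upd 1 2 1 (le_of_eq hx23)).upd 2 1 3 (le_of_eq hx32)).upd 2 3 1 (le_of_eq hx34)).upd 3 2 2 (le_of_eq hx43)) ![0,1,2,1] (by decide) (by decide) 1 (by decide))
        · -- 34=(2,1)
          exact False.elim (cert_false T ((skipEmb 1).trans (Function.Embedding.refl _)) (by norm_num) (fun _ => hall _) (((((LB_zero T ((skipEmb 1).trans (Function.Embedding.refl _))).upd 1 2 1 (le_of_eq hx23)).upd 2 1 3 (le_of_eq hx32)).upd 2 3 2 (le_of_eq hx34)).upd 3 2 1 (le_of_eq hx43)) ![0,1,2,1] (by decide) (by decide) 1 (by decide))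
        · -- 34=(1,3)
          exact False.elim (cert_false T ((skipEmb 2).trans (Function.Embedding.refl _)) (by norm_num) (fun _ => hall _) (((((LB_zero T ((skipEmb 2).trans (Function.Embedding.refl _))).upd 1 3 1 (le_of_eq hx14)).upd 2 3 1 (le_of_eq hx34)).upd 3 1 1 (le_of_eq hx41)).upd 3 2 3 (le_of_eq hx43)) ![0,1,1,2] (by decide) (by decide) 1 (by decide))
        · -- 34=(3,1)
          exact False.elim (cert_false T ((skipEmb 2).trans (Function.Embedding.refl _)) (by norm_num) (fun _ => hall _) (((((LB_zero T ((skipEmb 2).trans (Function.Embedding.refl _))).upd 1 3 1 (le_of_eq hx14)).upd 2 3 3 (le_of_eq hx34)).upd 3 1 1 (le_of_eq hx41)).upd 3 2 1 (le_of_eq hx43)) ![0,1,3,2] (by decide) (by decide) 1 (by decide))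
      · -- 24=(1,1)
        exact False.elim (cert_false T ((skipEmb 1).trans (Function.Embedding.refl _)) (by norm_num) (fun _ => hall _) (((((LB_zero T ((skipEmb 1).trans (Function.Embedding.refl _))).upd 1 2 1 (le_of_eq hx23)).upd 1 3 1 (le_of_eq hx24)).upd 2 1 3 (le_of_eq hx32)).upd 3 1 1 (le_of_eq hx42)) ![0,2,3,1] (by decide) (by decide) 1 (by decide))
      · -- 24=(1,2)
        exact False.elim (cert_false T ((skipEmb 1).trans (Function.Embedding.refl _)) (by norm_num) (fun _ => hall _) (((((LB_zero T ((skipEmb 1).trans (Function.Embedding.refl _))).upd 1 2 1 (le_of_eq hx23)).upd 1 3 1 (le_of_eq hx24)).upd 2 1 3 (le_of_eq hx32)).upd 3 1 2 (le_of_eq hx42)) ![0,1,1,1] (by decide) (by decide) 1 (by decide))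
      · -- 24=(2,1)
        exact False.elim (cert_false T ((skipEmb 1).trans (Function.Embedding.refl _)) (by norm_num) (fun _ => hall _) (((((LB_zero T ((skipEmb 1).trans (Function.Embedding.refl _))).upd 1 2 1 (le_of_eq hx23)).upd 1 3 2 (le_of_eq hx24)).upd 2 1 3 (le_of_eq hx32)).upd 3 1 1 (le_of_eq hx42)) ![0,2,2,1] (by decide) (by decide) 1 (by decide))
      · -- 24=(1,3)
        exact False.elim (cert_false T ((skipEmb 3).trans (Function.Embedding.refl _)) (by norm_num) (fun _ => hall _) (((((LB_zero T ((skipEmb 3).trans (Function.Embedding.refl _))).upd 1 3 1 (le_of_eq hx14)).upd 2 3 1 (le_of_eq hx24)).upd 3 1 1 (le_of_eq hx41)).upd 3 2 3 (le_of_eq hx42)) ![0,1,1,2] (by decide) (by decide) 1 (by decide))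
      · -- 24=(3,1)
        exact False.elim (cert_false T ((skipEmb 3).trans (Function.Embedding.refl _)) (by norm_num) (fun _ => hall _) (((((LB_zero T ((skipEmb 3).trans (Function.Embedding.refl _))).upd 1 3 1 (le_of_eq hx14)).upd 2 3 3 (le_of_eq hx24)).upd 3 1 1 (le_of_eq hx41)).upd 3 2 1 (le_of_eq hx42)) ![0,1,3,2] (by decide) (by decide) 1 (by decide))
    · -- 14=(1,2)
      rcases d24 with ⟨rfl, rfl⟩ | ⟨rfl, rfl⟩ | ⟨rfl, rfl⟩ | ⟨rfl, rfl⟩ | ⟨rfl, rfl⟩ | ⟨rfl, rfl⟩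
      · -- 24=(0,0)
        rcases d34 with ⟨rfl, rfl⟩ | ⟨rfl, rfl⟩ | ⟨rfl, rfl⟩ | ⟨rfl, rfl⟩ | ⟨rfl, rfl⟩ | ⟨rfl, rfl⟩
        · -- 34=(0,0)
          exfalso; omega
        · -- 34=(1,1)
          exact False.elim (cert_false T ((skipEmb 1).trans (Function.Embedding.refl _)) (by norm_num) (fun _ => hall _) (((((LB_zero T ((skipEmb 1).trans (Function.Embedding.refl _))).upd 1 2 1 (le_of_eq hx23)).upd 2 1 3 (le_of_eq hx32)).upd 2 3 1 (le_of_eq hx34)).upd 3 2 1 (le_of_eq hx43)) ![0,1,2,1] (by decide) (by decide) 1 (by decide))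
        · -- 34=(1,2)
          exact False.elim (cert_false T ((skipEmb 2).trans (Function.Embedding.refl _)) (by norm_num) (fun _ => hall _) (((((LB_zero T ((skipEmb 2).trans (Function.Embedding.refl _))).upd 1 3 1 (le_of_eq hx14)).upd 2 3 1 (le_of_eq hx34)).upd 3 1 2 (le_of_eq hx41)).upd 3 2 2 (le_of_eq hx43)) ![0,1,1,2] (by decide) (by decide) 1 (by decide))
        · -- 34=(2,1)
          exact False.elim (cert_false T ((skipEmb 2).trans (Function.Embedding.refl _)) (by norm_num) (fun _ => hall _) (((((LB_zero T ((skipEmb 2).trans (Function.Embedding.refl _))).upd 1 3 1 (le_of_eq hx14)).upd 2 3 2 (le_of_eq hx34)).upd 3 1 2 (le_of_eq hx41)).upd 3 2 1 (le_of_eq hx43)) ![0,1,2,2] (by decide) (by decide) 1 (by decide))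
        · -- 34=(1,3)
          exact False.elim (cert_false T ((skipEmb 2).trans (Function.Embedding.refl _)) (by norm_num) (fun _ => hall _) (((((LB_zero T ((skipEmb 2).trans (Function.Embedding.refl _))).upd 1 3 1 (le_of_eq hx14)).upd 2 3 1 (le_of_eq hx34)).upd 3 1 2 (le_of_eq hx41)).upd 3 2 3 (le_of_eq hx43)) ![0,1,1,2] (by decide) (by decide) 1 (by decide))
        · -- 34=(3,1)
          exact False.elim (cert_false T ((skipEmb 2).trans (Function.Embedding.refl _)) (by norm_num) (fun _ => hall _) (((((LB_zero T ((skipEmb 2).trans (Function.Embedding.refl _))).upd 1 3 1 (le_of_eq hx14)).upd 2 3 3 (le_of_eq hx34)).upd 3 1 2 (le_of_eq hx41)).upd 3 2 1 (le_of_eq hx43)) ![0,1,2,2] (by decide) (by decide) 1 (by decide))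
      · -- 24=(1,1)
        exact False.elim (cert_false T ((skipEmb 1).trans (Function.Embedding.refl _)) (by norm_num) (fun _ => hall _) (((((LB_zero T ((skipEmb 1).trans (Function.Embedding.refl _))).upd 1 2 1 (le_of_eq hx23)).upd 1 3 1 (le_of_eq hx24)).upd 2 1 3 (le_of_eq hx32)).upd 3 1 1 (le_of_eq hx42)) ![0,2,3,1] (by decide) (by decide) 1 (by decide))
      · -- 24=(1,2)
        exact False.elim (cert_false T ((skipEmb 3).trans (Function.Embedding.refl _)) (by norm_num) (fun _ => hall _) (((((LB_zero T ((skipEmb 3).trans (Function.Embedding.refl _))).upd 1 3 1 (le_of_eq hx14)).upd 2 3 1 (le_of_eq hx24)).upd 3 1 2 (le_of_eq hx41)).upd 3 2 2 (le_of_eq hx42)) ![0,1,1,2] (by decide) (by decide) 1 (by decide))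
      · -- 24=(2,1)
        exact False.elim (cert_false T ((skipEmb 3).trans (Function.Embedding.refl _)) (by norm_num) (fun _ => hall _) (((((LB_zero T ((skipEmb 3).trans (Function.Embedding.refl _))).upd 1 3 1 (le_of_eq hx14)).upd 2 3 2 (le_of_eq hx24)).upd 3 1 2 (le_of_eq hx41)).upd 3 2 1 (le_of_eq hx42)) ![0,1,2,2] (by decide) (by decide) 1 (by decide))
      · -- 24=(1,3)
        exact False.elim (cert_false T ((skipEmb 3).trans (Function.Embedding.refl _)) (by norm_num) (fun _ => hall _) (((((LB_zero T ((skipEmb 3).trans (Function.Embedding.refl _))).upd 1 3 1 (le_of_eq hx14)).upd 2 3 1 (le_of_eq hx24)).upd 3 1 2 (le_of_eq hx41)).upd 3 2 3 (le_of_eq hx42)) ![0,1,1,2] (by decide) (by decide) 1 (by decide))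
      · -- 24=(3,1)
        exact False.elim (cert_false T ((skipEmb 3).trans (Function.Embedding.refl _)) (by norm_num) (fun _ => hall _) (((((LB_zero T ((skipEmb 3).trans (Function.Embedding.refl _))).upd 1 3 1 (le_of_eq hx14)).upd 2 3 3 (le_of_eq hx24)).upd 3 1 2 (le_of_eq hx41)).upd 3 2 1 (le_of_eq hx42)) ![0,1,2,2] (by decide) (by decide) 1 (by decide))
    · -- 14=(2,1)
      rcases d24 with ⟨rfl, rfl⟩ | ⟨rfl, rfl⟩ | ⟨rfl, rfl⟩ | ⟨rfl, rfl⟩ | ⟨rfl, rfl⟩ | ⟨rfl, rfl⟩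
      · -- 24=(0,0)
        rcases d34 with ⟨rfl, rfl⟩ | ⟨rfl, rfl⟩ | ⟨rfl, rfl⟩ | ⟨rfl, rfl⟩ | ⟨rfl, rfl⟩ | ⟨rfl, rfl⟩
        · -- 34=(0,0)
          exfalso; omega
        · -- 34=(1,1)
          exact False.elim (cert_false T ((skipEmb 1).trans (Function.Embedding.refl _)) (by norm_num) (fun _ => hall _) (((((LB_zero T ((skipEmb 1).trans (Function.Embedding.refl _))).upd 1 2 1 (le_of_eq hx23)).upd 2 1 3 (le_of_eq hx32)).upd 2 3 1 (le_of_eq hx34)).upd 3 2 1 (le_of_eq hx43)) ![0,1,2,1] (by decide) (by decide) 1 (by decide))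
        · -- 34=(1,2)
          exact False.elim (cert_false T ((skipEmb 2).trans (Function.Embedding.refl _)) (by norm_num) (fun _ => hall _) (((((LB_zero T ((skipEmb 2).trans (Function.Embedding.refl _))).upd 1 3 2 (le_of_eq hx14)).upd 2 3 1 (le_of_eq hx34)).upd 3 1 1 (le_of_eq hx41)).upd 3 2 2 (le_of_eq hx43)) ![0,2,1,2] (by decide) (by decide) 1 (by decide))
        · -- 34=(2,1)
          exact False.elim (cert_false T ((skipEmb 2).trans (Function.Embedding.refl _)) (by norm_num) (fun _ => hall _) (((((LB_zero T ((skipEmb 2).trans (Function.Embedding.refl _))).upd 1 3 2 (le_of_eq hx14)).upd 2 3 2 (le_of_eq hx34)).upd 3 1 1 (le_of_eq hx41)).upd 3 2 1 (le_of_eq hx43)) ![0,1,1,1] (by decide) (by decide) 1 (by decide))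
        · -- 34=(1,3)
          exact False.elim (cert_false T ((skipEmb 2).trans (Function.Embedding.refl _)) (by norm_num) (fun _ => hall _) (((((LB_zero T ((skipEmb 2).trans (Function.Embedding.refl _))).upd 1 3 2 (le_of_eq hx14)).upd 2 3 1 (le_of_eq hx34)).upd 3 1 1 (le_of_eq hx41)).upd 3 2 3 (le_of_eq hx43)) ![0,1,1,2] (by decide) (by decide) 1 (by decide))
        · -- 34=(3,1)
          exact False.elim (cert_false T ((skipEmb 2).trans (Function.Embedding.refl _)) (by norm_num) (fun _ => hall _) (((((LB_zero T ((skipEmb 2).trans (Function.Embedding.refl _))).upd 1 3 2 (le_of_eq hx14)).upd 2 3 3 (le_of_eq hx34)).upd 3 1 1 (le_of_eq hx41)).upd 3 2 1 (le_of_eq hx43)) ![0,1,1,1] (by decide) (by decide) 1 (by decide))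
      · -- 24=(1,1)
        exact False.elim (cert_false T ((skipEmb 1).trans (Function.Embedding.refl _)) (by norm_num) (fun _ => hall _) (((((LB_zero T ((skipEmb 1).trans (Function.Embedding.refl _))).upd 1 2 1 (le_of_eq hx23)).upd 1 3 1 (le_of_eq hx24)).upd 2 1 3 (le_of_eq hx32)).upd 3 1 1 (le_of_eq hx42)) ![0,2,3,1] (by decide) (by decide) 1 (by decide))
      · -- 24=(1,2)
        exact False.elim (cert_false T ((skipEmb 3).trans (Function.Embedding.refl _)) (by norm_num) (fun _ => hall _) (((((LB_zero T ((skipEmb 3).trans (Function.Embedding.refl _))).upd 1 3 2 (le_of_eq hx14)).upd 2 3 1 (le_of_eq hx24)).upd 3 1 1 (le_of_eq hx41)).upd 3 2 2 (le_of_eq hx42)) ![0,2,1,2] (by decide) (by decide) 1 (by decide))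
      · -- 24=(2,1)
        exact False.elim (cert_false T ((skipEmb 3).trans (Function.Embedding.refl _)) (by norm_num) (fun _ => hall _) (((((LB_zero T ((skipEmb 3).trans (Function.Embedding.refl _))).upd 1 3 2 (le_of_eq hx14)).upd 2 3 2 (le_of_eq hx24)).upd 3 1 1 (le_of_eq hx41)).upd 3 2 1 (le_of_eq hx42)) ![0,1,1,1] (by decide) (by decide) 1 (by decide))
      · -- 24=(1,3)
        exact False.elim (cert_false T ((skipEmb 3).trans (Function.Embedding.refl _)) (by norm_num) (fun _ => hall _) (((((LB_zero T ((skipEmb 3).trans (Function.Embedding.refl _))).upd 1 3 2 (le_of_eq hx14)).upd 2 3 1 (le_of_eq hx24)).upd 3 1 1 (le_of_eq hx41)).upd 3 2 3 (le_of_eq hx42)) ![0,1,1,2] (by decide) (by decide) 1 (by decide))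
      · -- 24=(3,1)
        exact False.elim (cert_false T ((skipEmb 3).trans (Function.Embedding.refl _)) (by norm_num) (fun _ => hall _) (((((LB_zero T ((skipEmb 3).trans (Function.Embedding.refl _))).upd 1 3 2 (le_of_eq hx14)).upd 2 3 3 (le_of_eq hx24)).upd 3 1 1 (le_of_eq hx41)).upd 3 2 1 (le_of_eq hx42)) ![0,1,1,1] (by decide) (by decide) 1 (by decide))
    · -- 14=(1,3)
      exact False.elim (cert_false T ((skipEmb 3).trans (Function.Embedding.refl _)) (by norm_num) (fun _ => hall _) (((((LB_zero T ((skipEmb 3).trans (Function.Embedding.refl _))).upd 0 1 1 (le_of_eq hx01)).upd 1 0 1 (le_of_eq hx10)).upd 1 3 1 (le_of_eq hx14)).upd 3 1 3 (le_of_eq hx41)) ![1,2,0,3] (by decide) (by decide) 0 (by decide))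
    · -- 14=(3,1)
      exact False.elim (cert_false T ((skipEmb 3).trans (Function.Embedding.refl _)) (by norm_num) (fun _ => hall _) (((((LB_zero T ((skipEmb 3).trans (Function.Embedding.refl _))).upd 0 1 1 (le_of_eq hx01)).upd 1 0 1 (le_of_eq hx10)).upd 1 3 3 (le_of_eq hx14)).upd 3 1 1 (le_of_eq hx41)) ![1,2,0,1] (by decide) (by decide) 0 (by decide))
  · -- 04=(1,1)
    rcases d14 with ⟨rfl, rfl⟩ | ⟨rfl, rfl⟩ | ⟨rfl, rfl⟩ | ⟨rfl, rfl⟩ | ⟨rfl, rfl⟩ | ⟨rfl, rfl⟩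
    · -- 14=(0,0)
      rcases d24 with ⟨rfl, rfl⟩ | ⟨rfl, rfl⟩ | ⟨rfl, rfl⟩ | ⟨rfl, rfl⟩ | ⟨rfl, rfl⟩ | ⟨rfl, rfl⟩
      · -- 24=(0,0)
        rcases d34 with ⟨rfl, rfl⟩ | ⟨rfl, rfl⟩ | ⟨rfl, rfl⟩ | ⟨rfl, rfl⟩ | ⟨rfl, rfl⟩ | ⟨rfl, rfl⟩
        · -- 34=(0,0)
          exfalso; omega
        · -- 34=(1,1)
          exact False.elim (cert_false T ((skipEmb 1).trans (Function.Embedding.refl _)) (by norm_num) (fun _ => hall _) (((((LB_zero T ((skipEmb 1).trans (Function.Embedding.refl _))).upd 1 2 1 (le_of_eq hx23)).upd 2 1 3 (le_of_eq hx32)).upd 2 3 1 (le_of_eq hx34)).upd 3 2 1 (le_of_eq hx43)) ![0,1,2,1] (by decide) (by decide) 1 (by decide))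
        · -- 34=(1,2)
          exact False.elim (cert_false T ((skipEmb 1).trans (Function.Embedding.refl _)) (by norm_num) (fun _ => hall _) (((((LB_zero T ((skipEmb 1).trans (Function.Embedding.refl _))).upd 1 2 1 (le_of_eq hx23)).upd 2 1 3 (le_of_eq hx32)).upd 2 3 1 (le_of_eq hx34)).upd 3 2 2 (le_of_eq hx43)) ![0,1,2,1] (by decide) (by decide) 1 (by decide))
        · -- 34=(2,1)
          exact False.elim (cert_false T ((skipEmb 1).trans (Function.Embedding.refl _)) (by norm_num) (fun _ => hall _) (((((LB_zero T ((skipEmb 1).trans (Function.Embedding.refl _))).upd 1 2 1 (le_of_eq hx23)).upd 2 1 3 (le_of_eq hx32)).upd 2 3 2 (le_of_eq hx34)).upd 3 2 1 (le_of_eq hx43)) ![0,1,2,1] (by decide) (by decide) 1 (by decide))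
        · -- 34=(1,3)
          exact False.elim (cert_false T ((skipEmb 2).trans (Function.Embedding.refl _)) (by norm_num) (fun _ => hall _) (((((LB_zero T ((skipEmb 2).trans (Function.Embedding.refl _))).upd 0 3 1 (le_of_eq hx04)).upd 2 3 1 (le_of_eq hx34)).upd 3 0 1 (le_of_eq hx40)).upd 3 2 3 (le_of_eq hx43)) ![1,0,1,2] (by decide) (by decide) 0 (by decide))
        · -- 34=(3,1)
          exact False.elim (cert_false T ((skipEmb 2).trans (Function.Embedding.refl _)) (by norm_num) (fun _ => hall _) (((((LB_zero T ((skipEmb 2).trans (Function.Embedding.refl _))).upd 0 3 1 (le_of_eq hx04)).upd 2 3 3 (le_of_eq hx34)).upd 3 0 1 (le_of_eq hx40)).upd 3 2 1 (le_of_eq hx43)) ![1,0,3,2] (by decide) (by decide) 0 (by decide))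
      · -- 24=(1,1)
        exact False.elim (cert_false T ((skipEmb 1).trans (Function.Embedding.refl _)) (by norm_num) (fun _ => hall _) (((((LB_zero T ((skipEmb 1).trans (Function.Embedding.refl _))).upd 1 2 1 (le_of_eq hx23)).upd 1 3 1 (le_of_eq hx24)).upd 2 1 3 (le_of_eq hx32)).upd 3 1 1 (le_of_eq hx42)) ![0,2,3,1] (by decide) (by decide) 1 (by decide))
      · -- 24=(1,2)
        exact False.elim (cert_false T ((skipEmb 1).trans (Function.Embedding.refl _)) (by norm_num) (fun _ => hall _) (((((LB_zero T ((skipEmb 1).trans (Function.Embedding.refl _))).upd 1 2 1 (le_of_eq hx23)).upd 1 3 1 (le_of_eq hx24)).upd 2 1 3 (le_of_eq hx32)).upd 3 1 2 (le_of_eq hx42)) ![0,1,1,1] (by decide) (by decide) 1 (by decide))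
      · -- 24=(2,1)
        exact False.elim (cert_false T ((skipEmb 1).trans (Function.Embedding.refl _)) (by norm_num) (fun _ => hall _) (((((LB_zero T ((skipEmb 1).trans (Function.Embedding.refl _))).upd 1 2 1 (le_of_eq hx23)).upd 1 3 2 (le_of_eq hx24)).upd 2 1 3 (le_of_eq hx32)).upd 3 1 1 (le_of_eq hx42)) ![0,2,2,1] (by decide) (by decide) 1 (by decide))
      · -- 24=(1,3)
        exact False.elim (cert_false T ((skipEmb 3).trans (Function.Embedding.refl _)) (by norm_num) (fun _ => hall _) (((((LB_zero T ((skipEmb 3).trans (Function.Embedding.refl _))).upd 0 3 1 (le_of_eq hx04)).upd 2 3 1 (le_of_eq hx24)).upd 3 0 1 (le_of_eq hx40)).upd 3 2 3 (le_of_eq hx42)) ![1,0,1,2] (by decide) (by decide) 0 (by decide))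
      · -- 24=(3,1)
        exact False.elim (cert_false T ((skipEmb 3).trans (Function.Embedding.refl _)) (by norm_num) (fun _ => hall _) (((((LB_zero T ((skipEmb 3).trans (Function.Embedding.refl _))).upd 0 3 1 (le_of_eq hx04)).upd 2 3 3 (le_of_eq hx24)).upd 3 0 1 (le_of_eq hx40)).upd 3 2 1 (le_of_eq hx42)) ![1,0,3,2] (by decide) (by decide) 0 (by decide))
    · -- 14=(1,1)
      exact False.elim (cert_false T ((skipEmb 3).trans (Function.Embedding.refl _)) (by norm_num) (fun _ => hall _) (((((((LB_zero T ((skipEmb 3).trans (Function.Embedding.refl _))).upd 0 1 1 (le_of_eq hx01)).upd 0 3 1 (le_of_eq hx04)).upd 1 0 1 (le_of_eq hx10)).upd 1 3 1 (le_of_eq hx14)).upd 3 0 1 (le_of_eq hx40)).upd 3 1 1 (le_of_eq hx41)) ![1,1,0,1] (by decide) (by decide) 0 (by decide))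
    · -- 14=(1,2)
      exact False.elim (cert_false T ((skipEmb 3).trans (Function.Embedding.refl _)) (by norm_num) (fun _ => hall _) (((((((LB_zero T ((skipEmb 3).trans (Function.Embedding.refl _))).upd 0 1 1 (le_of_eq hx01)).upd 0 3 1 (le_of_eq hx04)).upd 1 0 1 (le_of_eq hx10)).upd 1 3 1 (le_of_eq hx14)).upd 3 0 1 (le_of_eq hx40)).upd 3 1 2 (le_of_eq hx41)) ![1,1,0,1] (by decide) (by decide) 0 (by decide))
    · -- 14=(2,1)
      exact False.elim (cert_false T ((skipEmb 3).trans (Function.Embedding.refl _)) (by norm_num) (fun _ => hall _) (((((((LB_zero T ((skipEmb 3).trans (Function.Embedding.refl _))).upd 0 1 1 (le_of_eq hx01)).upd 0 3 1 (le_of_eq hx04)).upd 1 0 1 (le_of_eq hx10)).upd 1 3 2 (le_of_eq hx14)).upd 3 0 1 (le_of_eq hx40)).upd 3 1 1 (le_of_eq hx41)) ![1,1,0,1] (by decide) (by decide) 0 (by decide))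
    · -- 14=(1,3)
      exact False.elim (cert_false T ((skipEmb 3).trans (Function.Embedding.refl _)) (by norm_num) (fun _ => hall _) (((((((LB_zero T ((skipEmb 3).trans (Function.Embedding.refl _))).upd 0 1 1 (le_of_eq hx01)).upd 0 3 1 (le_of_eq hx04)).upd 1 0 1 (le_of_eq hx10)).upd 1 3 1 (le_of_eq hx14)).upd 3 0 1 (le_of_eq hx40)).upd 3 1 3 (le_of_eq hx41)) ![1,1,0,1] (by decide) (by decide) 0 (by decide))
    · -- 14=(3,1)
      exact False.elim (cert_false T ((skipEmb 3).trans (Function.Embedding.refl _)) (by norm_num) (fun _ => hall _) (((((((LB_zero T ((skipEmb 3).trans (Function.Embedding.refl _))).upd 0 1 1 (le_of_eq hx01)).upd 0 3 1 (le_of_eq hx04)).upd 1 0 1 (le_of_eq hx10)).upd 1 3 3 (le_of_eq hx14)).upd 3 0 1 (le_of_eq hx40)).upd 3 1 1 (le_of_eq hx41)) ![1,1,0,1] (by decide) (by decide) 0 (by decide))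
  · -- 04=(1,2)
    rcases d14 with ⟨rfl, rfl⟩ | ⟨rfl, rfl⟩ | ⟨rfl, rfl⟩ | ⟨rfl, rfl⟩ | ⟨rfl, rfl⟩ | ⟨rfl, rfl⟩
    · -- 14=(0,0)
      rcases d24 with ⟨rfl, rfl⟩ | ⟨rfl, rfl⟩ | ⟨rfl, rfl⟩ | ⟨rfl, rfl⟩ | ⟨rfl, rfl⟩ | ⟨rfl, rfl⟩
      · -- 24=(0,0)
        rcases d34 with ⟨rfl, rfl⟩ | ⟨rfl, rfl⟩ | ⟨rfl, rfl⟩ | ⟨rfl, rfl⟩ | ⟨rfl, rfl⟩ | ⟨rfl, rfl⟩
        · -- 34=(0,0)
          exfalso; omega
        · -- 34=(1,1)
          exact False.elim (cert_false T ((skipEmb 1).trans (Function.Embedding.refl _)) (by norm_num) (fun _ => hall _) (((((LB_zero T ((skipEmb 1).trans (Function.Embedding.refl _))).upd 1 2 1 (le_of_eq hx23)).upd 2 1 3 (le_of_eq hx32)).upd 2 3 1 (le_of_eq hx34)).upd 3 2 1 (le_of_eq hx43)) ![0,1,2,1] (by decide) (by decide) 1 (by decide))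
        · -- 34=(1,2)
          exact False.elim (cert_false T ((skipEmb 2).trans (Function.Embedding.refl _)) (by norm_num) (fun _ => hall _) (((((LB_zero T ((skipEmb 2).trans (Function.Embedding.refl _))).upd 0 3 1 (le_of_eq hx04)).upd 2 3 1 (le_of_eq hx34)).upd 3 0 2 (le_of_eq hx40)).upd 3 2 2 (le_of_eq hx43)) ![1,0,1,2] (by decide) (by decide) 0 (by decide))
        · -- 34=(2,1)
          exact False.elim (cert_false T ((skipEmb 2).trans (Function.Embedding.refl _)) (by norm_num) (fun _ => hall _) (((((LB_zero T ((skipEmb 2).trans (Function.Embedding.refl _))).upd 0 3 1 (le_of_eq hx04)).upd 2 3 2 (le_of_eq hx34)).upd 3 0 2 (le_of_eq hx40)).upd 3 2 1 (le_of_eq hx43)) ![1,0,2,2] (by decide) (by decide) 0 (by decide))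
        · -- 34=(1,3)
          exact False.elim (cert_false T ((skipEmb 2).trans (Function.Embedding.refl _)) (by norm_num) (fun _ => hall _) (((((LB_zero T ((skipEmb 2).trans (Function.Embedding.refl _))).upd 0 3 1 (le_of_eq hx04)).upd 2 3 1 (le_of_eq hx34)).upd 3 0 2 (le_of_eq hx40)).upd 3 2 3 (le_of_eq hx43)) ![1,0,1,2] (by decide) (by decide) 0 (by decide))
        · -- 34=(3,1)
          exact False.elim (cert_false T ((skipEmb 2).trans (Function.Embedding.refl _)) (by norm_num) (fun _ => hall _) (((((LB_zero T ((skipEmb 2).trans (Function.Embedding.refl _))).upd 0 3 1 (le_of_eq hx04)).upd 2 3 3 (le_of_eq hx34)).upd 3 0 2 (le_of_eq hx40)).upd 3 2 1 (le_of_eq hx43)) ![1,0,2,2] (by decide) (by decide) 0 (by decide))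
      · -- 24=(1,1)
        exact False.elim (cert_false T ((skipEmb 1).trans (Function.Embedding.refl _)) (by norm_num) (fun _ => hall _) (((((((LB_zero T ((skipEmb 1).trans (Function.Embedding.refl _))).upd 0 3 1 (le_of_eq hx04)).upd 1 2 1 (le_of_eq hx23)).upd 1 3 1 (le_of_eq hx24)).upd 2 1 3 (le_of_eq hx32)).upd 3 0 2 (le_of_eq hx40)).upd 3 1 1 (le_of_eq hx42)) ![1,2,2,2] (by decide) (by decide) 0 (by decide))
      · -- 24=(1,2)
        exact False.elim (cert_false T ((skipEmb 3).trans (Function.Embedding.refl _)) (by norm_num) (fun _ => hall _) (((((LB_zero T ((skipEmb 3).trans (Function.Embedding.refl _))).upd 0 3 1 (le_of_eq hx04)).upd 2 3 1 (le_of_eq hx24)).upd 3 0 2 (le_of_eq hx40)).upd 3 2 2 (le_of_eq hx42)) ![1,0,1,2] (by decide) (by decide) 0 (by decide))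
      · -- 24=(2,1)
        exact False.elim (cert_false T ((skipEmb 3).trans (Function.Embedding.refl _)) (by norm_num) (fun _ => hall _) (((((LB_zero T ((skipEmb 3).trans (Function.Embedding.refl _))).upd 0 3 1 (le_of_eq hx04)).upd 2 3 2 (le_of_eq hx24)).upd 3 0 2 (le_of_eq hx40)).upd 3 2 1 (le_of_eq hx42)) ![1,0,2,2] (by decide) (by decide) 0 (by decide))
      · -- 24=(1,3)
        exact False.elim (cert_false T ((skipEmb 3).trans (Function.Embedding.refl _)) (by norm_num) (fun _ => hall _) (((((LB_zero T ((skipEmb 3).trans (Function.Embedding.refl _))).upd 0 3 1 (le_of_eq hx04)).upd 2 3 1 (le_of_eq hx24)).upd 3 0 2 (le_of_eq hx40)).upd 3 2 3 (le_of_eq hx42)) ![1,0,1,2] (by decide) (by decide) 0 (by decide))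
      · -- 24=(3,1)
        exact False.elim (cert_false T ((skipEmb 3).trans (Function.Embedding.refl _)) (by norm_num) (fun _ => hall _) (((((LB_zero T ((skipEmb 3).trans (Function.Embedding.refl _))).upd 0 3 1 (le_of_eq hx04)).upd 2 3 3 (le_of_eq hx24)).upd 3 0 2 (le_of_eq hx40)).upd 3 2 1 (le_of_eq hx42)) ![1,0,2,2] (by decide) (by decide) 0 (by decide))
    · -- 14=(1,1)
      exact False.elim (cert_false T ((skipEmb 3).trans (Function.Embedding.refl _)) (by norm_num) (fun _ => hall _) (((((((LB_zero T ((skipEmb 3).trans (Function.Embedding.refl _))).upd 0 1 1 (le_of_eq hx01)).upd 0 3 1 (le_of_eq hx04)).upd 1 0 1 (le_of_eq hx10)).upd 1 3 1 (le_of_eq hx14)).upd 3 0 2 (le_of_eq hx40)).upd 3 1 1 (le_of_eq hx41)) ![1,1,0,1] (by decide) (by decide) 0 (by decide))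
    · -- 14=(1,2)
      exact False.elim (cert_false T ((skipEmb 3).trans (Function.Embedding.refl _)) (by norm_num) (fun _ => hall _) (((((((LB_zero T ((skipEmb 3).trans (Function.Embedding.refl _))).upd 0 1 1 (le_of_eq hx01)).upd 0 3 1 (le_of_eq hx04)).upd 1 0 1 (le_of_eq hx10)).upd 1 3 1 (le_of_eq hx14)).upd 3 0 2 (le_of_eq hx40)).upd 3 1 2 (le_of_eq hx41)) ![1,1,0,1] (by decide) (by decide) 0 (by decide))
    · -- 14=(2,1)
      exact False.elim (cert_false T ((skipEmb 3).trans (Function.Embedding.refl _)) (by norm_num) (fun _ => hall _) (((((((LB_zero T ((skipEmb 3).trans (Function.Embedding.refl _))).upd 0 1 1 (le_of_eq hx01)).upd 0 3 1 (le_of_eq hx04)).upd 1 0 1 (le_of_eq hx10)).upd 1 3 2 (le_of_eq hx14)).upd 3 0 2 (le_of_eq hx40)).upd 3 1 1 (le_of_eq hx41)) ![1,1,0,1] (by decide) (by decide) 0 (by decide))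
    · -- 14=(1,3)
      exact False.elim (cert_false T ((skipEmb 3).trans (Function.Embedding.refl _)) (by norm_num) (fun _ => hall _) (((((((LB_zero T ((skipEmb 3).trans (Function.Embedding.refl _))).upd 0 1 1 (le_of_eq hx01)).upd 0 3 1 (le_of_eq hx04)).upd 1 0 1 (le_of_eq hx10)).upd 1 3 1 (le_of_eq hx14)).upd 3 0 2 (le_of_eq hx40)).upd 3 1 3 (le_of_eq hx41)) ![1,1,0,1] (by decide) (by decide) 0 (by decide))
    · -- 14=(3,1)
      exact False.elim (cert_false T ((skipEmb 3).trans (Function.Embedding.refl _)) (by norm_num) (fun _ => hall _) (((((((LB_zero T ((skipEmb 3).trans (Function.Embedding.refl _))).upd 0 1 1 (le_of_eq hx01)).upd 0 3 1 (le_of_eq hx04)).upd 1 0 1 (le_of_eq hx10)).upd 1 3 3 (le_of_eq hx14)).upd 3 0 2 (le_of_eq hx40)).upd 3 1 1 (le_of_eq hx41)) ![1,1,0,1] (by decide) (by decide) 0 (by decide))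
  · -- 04=(2,1)
    rcases d14 with ⟨rfl, rfl⟩ | ⟨rfl, rfl⟩ | ⟨rfl, rfl⟩ | ⟨rfl, rfl⟩ | ⟨rfl, rfl⟩ | ⟨rfl, rfl⟩
    · -- 14=(0,0)
      rcases d24 with ⟨rfl, rfl⟩ | ⟨rfl, rfl⟩ | ⟨rfl, rfl⟩ | ⟨rfl, rfl⟩ | ⟨rfl, rfl⟩ | ⟨rfl, rfl⟩
      · -- 24=(0,0)
        rcases d34 with ⟨rfl, rfl⟩ | ⟨rfl, rfl⟩ | ⟨rfl, rfl⟩ | ⟨rfl, rfl⟩ | ⟨rfl, rfl⟩ | ⟨rfl, rfl⟩
        · -- 34=(0,0)
          exfalso; omega
        · -- 34=(1,1)
          exact False.elim (cert_false T ((skipEmb 1).trans (Function.Embedding.refl _)) (by norm_num) (fun _ => hall _) (((((LB_zero T ((skipEmb 1).trans (Function.Embedding.refl _))).upd 1 2 1 (le_of_eq hx23)).upd 2 1 3 (le_of_eq hx32)).upd 2 3 1 (le_of_eq hx34)).upd 3 2 1 (le_of_eq hx43)) ![0,1,2,1] (by decide) (by decide) 1 (by decide))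
        · -- 34=(1,2)
          exact False.elim (cert_false T ((skipEmb 2).trans (Function.Embedding.refl _)) (by norm_num) (fun _ => hall _) (((((LB_zero T ((skipEmb 2).trans (Function.Embedding.refl _))).upd 0 3 2 (le_of_eq hx04)).upd 2 3 1 (le_of_eq hx34)).upd 3 0 1 (le_of_eq hx40)).upd 3 2 2 (le_of_eq hx43)) ![2,0,1,2] (by decide) (by decide) 0 (by decide))
        · -- 34=(2,1)
          exact False.elim (cert_false T ((skipEmb 2).trans (Function.Embedding.refl _)) (by norm_num) (fun _ => hall _) (((((LB_zero T ((skipEmb 2).trans (Function.Embedding.refl _))).upd 0 3 2 (le_of_eq hx04)).upd 2 3 2 (le_of_eq hx34)).upd 3 0 1 (le_of_eq hx40)).upd 3 2 1 (le_of_eq hx43)) ![1,0,1,1] (by decide) (by decide) 0 (by decide))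
        · -- 34=(1,3)
          exact False.elim (cert_false T ((skipEmb 2).trans (Function.Embedding.refl _)) (by norm_num) (fun _ => hall _) (((((LB_zero T ((skipEmb 2).trans (Function.Embedding.refl _))).upd 0 3 2 (le_of_eq hx04)).upd 2 3 1 (le_of_eq hx34)).upd 3 0 1 (le_of_eq hx40)).upd 3 2 3 (le_of_eq hx43)) ![1,0,1,2] (by decide) (by decide) 0 (by decide))
        · -- 34=(3,1)
          exact False.elim (cert_false T ((skipEmb 2).trans (Function.Embedding.refl _)) (by norm_num) (fun _ => hall _) (((((LB_zero T ((skipEmb 2).trans (Function.Embedding.refl _))).upd 0 3 2 (le_of_eq hx04)).upd 2 3 3 (le_of_eq hx34)).upd 3 0 1 (le_of_eq hx40)).upd 3 2 1 (le_of_eq hx43)) ![1,0,1,1] (by decide) (by decide) 0 (by decide))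
      · -- 24=(1,1)
        exact False.elim (cert_false T ((skipEmb 1).trans (Function.Embedding.refl _)) (by norm_num) (fun _ => hall _) (((((((LB_zero T ((skipEmb 1).trans (Function.Embedding.refl _))).upd 0 3 2 (le_of_eq hx04)).upd 1 2 1 (le_of_eq hx23)).upd 1 3 1 (le_of_eq hx24)).upd 2 1 3 (le_of_eq hx32)).upd 3 0 1 (le_of_eq hx40)).upd 3 1 1 (le_of_eq hx42)) ![1,1,1,1] (by decide) (by decide) 0 (by decide))
      · -- 24=(1,2)
        exact False.elim (cert_false T ((skipEmb 3).trans (Function.Embedding.refl _)) (by norm_num) (fun _ => hall _) (((((LB_zero T ((skipEmb 3).trans (Function.Embedding.refl _))).upd 0 3 2 (le_of_eq hx04)).upd 2 3 1 (le_of_eq hx24)).upd 3 0 1 (le_of_eq hx40)).upd 3 2 2 (le_of_eq hx42)) ![2,0,1,2] (by decide) (by decide) 0 (by decide))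
      · -- 24=(2,1)
        exact False.elim (cert_false T ((skipEmb 3).trans (Function.Embedding.refl _)) (by norm_num) (fun _ => hall _) (((((LB_zero T ((skipEmb 3).trans (Function.Embedding.refl _))).upd 0 3 2 (le_of_eq hx04)).upd 2 3 2 (le_of_eq hx24)).upd 3 0 1 (le_of_eq hx40)).upd 3 2 1 (le_of_eq hx42)) ![1,0,1,1] (by decide) (by decide) 0 (by decide))
      · -- 24=(1,3)
        exact False.elim (cert_false T ((skipEmb 3).trans (Function.Embedding.refl _)) (by norm_num) (fun _ => hall _) (((((LB_zero T ((skipEmb 3).trans (Function.Embedding.refl _))).upd 0 3 2 (le_of_eq hx04)).upd 2 3 1 (le_of_eq hx24)).upd 3 0 1 (le_of_eq hx40)).upd 3 2 3 (le_of_eq hx42)) ![1,0,1,2] (by decide) (by decide) 0 (by decide))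
      · -- 24=(3,1)
        exact False.elim (cert_false T ((skipEmb 3).trans (Function.Embedding.refl _)) (by norm_num) (fun _ => hall _) (((((LB_zero T ((skipEmb 3).trans (Function.Embedding.refl _))).upd 0 3 2 (le_of_eq hx04)).upd 2 3 3 (le_of_eq hx24)).upd 3 0 1 (le_of_eq hx40)).upd 3 2 1 (le_of_eq hx42)) ![1,0,1,1] (by decide) (by decide) 0 (by decide))
    · -- 14=(1,1)
      exact False.elim (cert_false T ((skipEmb 3).trans (Function.Embedding.refl _)) (by norm_num) (fun _ => hall _) (((((((LB_zero T ((skipEmb 3).trans (Function.Embedding.refl _))).upd 0 1 1 (le_of_eq hx01)).upd 0 3 2 (le_of_eq hx04)).upd 1 0 1 (le_of_eq hx10)).upd 1 3 1 (le_of_eq hx14)).upd 3 0 1 (le_of_eq hx40)).upd 3 1 1 (le_of_eq hx41)) ![1,1,0,1] (by decide) (by decide) 0 (by decide))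
    · -- 14=(1,2)
      exact False.elim (cert_false T ((skipEmb 3).trans (Function.Embedding.refl _)) (by norm_num) (fun _ => hall _) (((((((LB_zero T ((skipEmb 3).trans (Function.Embedding.refl _))).upd 0 1 1 (le_of_eq hx01)).upd 0 3 2 (le_of_eq hx04)).upd 1 0 1 (le_of_eq hx10)).upd 1 3 1 (le_of_eq hx14)).upd 3 0 1 (le_of_eq hx40)).upd 3 1 2 (le_of_eq hx41)) ![1,1,0,1] (by decide) (by decide) 0 (by decide))
    · -- 14=(2,1)
      exact False.elim (cert_false T ((skipEmb 3).trans (Function.Embedding.refl _)) (by norm_num) (fun _ => hall _) (((((((LB_zero T ((skipEmb 3).trans (Function.Embedding.refl _))).upd 0 1 1 (le_of_eq hx01)).upd 0 3 2 (le_of_eq hx04)).upd 1 0 1 (le_of_eq hx10)).upd 1 3 2 (le_of_eq hx14)).upd 3 0 1 (le_of_eq hx40)).upd 3 1 1 (le_of_eq hx41)) ![1,1,0,1] (by decide) (by decide) 0 (by decide))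
    · -- 14=(1,3)
      exact False.elim (cert_false T ((skipEmb 3).trans (Function.Embedding.refl _)) (by norm_num) (fun _ => hall _) (((((((LB_zero T ((skipEmb 3).trans (Function.Embedding.refl _))).upd 0 1 1 (le_of_eq hx01)).upd 0 3 2 (le_of_eq hx04)).upd 1 0 1 (le_of_eq hx10)).upd 1 3 1 (le_of_eq hx14)).upd 3 0 1 (le_of_eq hx40)).upd 3 1 3 (le_of_eq hx41)) ![1,1,0,1] (by decide) (by decide) 0 (by decide))
    · -- 14=(3,1)
      exact False.elim (cert_false T ((skipEmb 3).trans (Function.Embedding.refl _)) (by norm_num) (fun _ => hall _) (((((((LB_zero T ((skipEmb 3).trans (Function.Embedding.refl _))).upd 0 1 1 (le_of_eq hx01)).upd 0 3 2 (le_of_eq hx04)).upd 1 0 1 (le_of_eq hx10)).upd 1 3 3 (le_of_eq hx14)).upd 3 0 1 (le_of_eq hx40)).upd 3 1 1 (le_of_eq hx41)) ![1,1,0,1] (by decide) (by decide) 0 (by decide))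
  · -- 04=(1,3)
    exact False.elim (cert_false T ((skipEmb 3).trans (Function.Embedding.refl _)) (by norm_num) (fun _ => hall _) (((((LB_zero T ((skipEmb 3).trans (Function.Embedding.refl _))).upd 0 1 1 (le_of_eq hx01)).upd 0 3 1 (le_of_eq hx04)).upd 1 0 1 (le_of_eq hx10)).upd 3 0 3 (le_of_eq hx40)) ![2,1,0,3] (by decide) (by decide) 0 (by decide))
  · -- 04=(3,1)
    exact False.elim (cert_false T ((skipEmb 3).trans (Function.Embedding.refl _)) (by norm_num) (fun _ => hall _) (((((LB_zero T ((skipEmb 3).trans (Function.Embedding.refl _))).upd 0 1 1 (le_of_eq hx01)).upd 0 3 3 (le_of_eq hx04)).upd 1 0 1 (le_of_eq hx10)).upd 3 0 1 (le_of_eq hx40)) ![2,1,0,1] (by decide) (by decide) 0 (by decide))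

theorem case363 (T : NumericalType 5) (hall : ∀ i, T.IsMinusTwo i) (d : SData T)
    (h01 : N T (Function.Embedding.refl _) 0 1 = 1) (h10 : N T (Function.Embedding.refl _) 1 0 = 1)
    (h02 : N T (Function.Embedding.refl _) 0 2 = 0) (h20 : N T (Function.Embedding.refl _) 2 0 = 0)
    (h12 : N T (Function.Embedding.refl _) 1 2 = 0) (h21 : N T (Function.Embedding.refl _) 2 1 = 0)
    (h03 : N T (Function.Embedding.refl _) 0 3 = 0) (h30 : N T (Function.Embedding.refl _) 3 0 = 0)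
    (h13 : N T (Function.Embedding.refl _) 1 3 = 0) (h31 : N T (Function.Embedding.refl _) 3 1 = 0)
    (h23 : N T (Function.Embedding.refl _) 2 3 = 3) (h32 : N T (Function.Embedding.refl _) 3 2 = 1) :
    Goal T := by
  unfold Goal
  have hd := d
  obtain ⟨x01, x02, x03, x04, x10, x12, x13, x14, x20, x21, x23, x24, x30, x31, x32, x34, x40, x41, x42, x43, hx01, hx02, hx03, hx04, hx10, hx12, hx13, hx14, hx20, hx21, hx23, hx24, hx30, hx31, hx32, hx34, hx40, hx41, hx42, hx43, hw0, hm0, hw1, hm1, hw2, hm2, hw3, hm3, hw4, hm4, a00, a01, a02, a03, a04, a11, a10, a12, a13, a14, a22, a20, a21, a23, a24, a33, a30, a31, a32, a34, a44, a40, a41, a42, a43, wN01, wN02, wN12, wN03, wN13, wN23, wN04, wN14, wN24, wN34, e0, e1, e2, e3, e4, d01, d02, d12, d03, d13, d23, d04, d14, d24, d34⟩ := d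
  obtain rfl : x01 = 1 := hx01.trans h01
  obtain rfl : x10 = 1 := hx10.trans h10
  obtain rfl : x02 = 0 := hx02.trans h02
  obtain rfl : x20 = 0 := hx20.trans h20
  obtain rfl : x12 = 0 := hx12.trans h12
  obtain rfl : x21 = 0 := hx21.trans h21
  obtain rfl : x03 = 0 := hx03.trans h03
  obtain rfl : x30 = 0 := hx30.trans h30
  obtain rfl : x13 = 0 := hx13.trans h13
  obtain rfl : x31 = 0 := hx31.trans h31
  obtain rfl : x23 = 3 := hx23.trans h23
  obtain rfl : x32 = 1 := hx32.trans h32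
  rcases d04 with ⟨rfl, rfl⟩ | ⟨rfl, rfl⟩ | ⟨rfl, rfl⟩ | ⟨rfl, rfl⟩ | ⟨rfl, rfl⟩ | ⟨rfl, rfl⟩
  · -- 04=(0,0)
    rcases d14 with ⟨rfl, rfl⟩ | ⟨rfl, rfl⟩ | ⟨rfl, rfl⟩ | ⟨rfl, rfl⟩ | ⟨rfl, rfl⟩ | ⟨rfl, rfl⟩
    · -- 14=(0,0)
      rcases d24 with ⟨rfl, rfl⟩ | ⟨rfl, rfl⟩ | ⟨rfl, rfl⟩ | ⟨rfl, rfl⟩ | ⟨rfl, rfl⟩ | ⟨rfl, rfl⟩
      · -- 24=(0,0)
        rcases d34 with ⟨rfl, rfl⟩ | ⟨rfl, rfl⟩ | ⟨rfl, rfl⟩ | ⟨rfl, rfl⟩ | ⟨rfl, rfl⟩ | ⟨rfl, rfl⟩
        · -- 34=(0,0)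
          exfalso; omega
        · -- 34=(1,1)
          exact False.elim (cert_false T ((skipEmb 1).trans (Function.Embedding.refl _)) (by norm_num) (fun _ => hall _) (((((LB_zero T ((skipEmb 1).trans (Function.Embedding.refl _))).upd 1 2 3 (le_of_eq hx23)).upd 2 1 1 (le_of_eq hx32)).upd 2 3 1 (le_of_eq hx34)).upd 3 2 1 (le_of_eq hx43)) ![0,3,2,1] (by decide) (by decide) 1 (by decide))
        · -- 34=(1,2)
          exact False.elim (cert_false T ((skipEmb 1).trans (Function.Embedding.refl _)) (by norm_num) (fun _ => hall _) (((((LB_zero T ((skipEmb 1).trans (Function.Embedding.refl _))).upd 1 2 3 (le_of_eq hx23)).upd 2 1 1 (le_of_eq hx32)).upd 2 3 1 (le_of_eq hx34)).upd 3 2 2 (le_of_eq hx43)) ![0,1,1,1] (by decide) (by decide) 1 (by decide))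
        · -- 34=(2,1)
          exact False.elim (cert_false T ((skipEmb 1).trans (Function.Embedding.refl _)) (by norm_num) (fun _ => hall _) (((((LB_zero T ((skipEmb 1).trans (Function.Embedding.refl _))).upd 1 2 3 (le_of_eq hx23)).upd 2 1 1 (le_of_eq hx32)).upd 2 3 2 (le_of_eq hx34)).upd 3 2 1 (le_of_eq hx43)) ![0,2,2,1] (by decide) (by decide) 1 (by decide))
        · -- 34=(1,3)
          exact False.elim (cert_false T ((skipEmb 1).trans (Function.Embedding.refl _)) (by norm_num) (fun _ => hall _) (((((LB_zero T ((skipEmb 1).trans (Function.Embedding.refl _))).upd 1 2 3 (le_of_eq hx23)).upd 2 1 1 (le_of_eq hx32)).upd 2 3 1 (le_of_eq hx34)).upd 3 2 3 (le_of_eq hx43)) ![0,1,1,1] (by decide) (by decide) 1 (by decide))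
        · -- 34=(3,1)
          exact False.elim (cert_false T ((skipEmb 1).trans (Function.Embedding.refl _)) (by norm_num) (fun _ => hall _) (((((LB_zero T ((skipEmb 1).trans (Function.Embedding.refl _))).upd 1 2 3 (le_of_eq hx23)).upd 2 1 1 (le_of_eq hx32)).upd 2 3 3 (le_of_eq hx34)).upd 3 2 1 (le_of_eq hx43)) ![0,1,2,1] (by decide) (by decide) 1 (by decide))
      · -- 24=(1,1)
        exact False.elim (cert_false T ((skipEmb 1).trans (Function.Embedding.refl _)) (by norm_num) (fun _ => hall _) (((((LB_zero T ((skipEmb 1).trans (Function.Embedding.refl _))).upd 1 2 3 (le_of_eq hx23)).upd 1 3 1 (le_of_eq hx24)).upd 2 1 1 (le_of_eq hx32)).upd 3 1 1 (le_of_eq hx42)) ![0,2,1,1] (by decide) (by decide) 1 (by decide))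
      · -- 24=(1,2)
        exact False.elim (cert_false T ((skipEmb 1).trans (Function.Embedding.refl _)) (by norm_num) (fun _ => hall _) (((((LB_zero T ((skipEmb 1).trans (Function.Embedding.refl _))).upd 1 2 3 (le_of_eq hx23)).upd 1 3 1 (le_of_eq hx24)).upd 2 1 1 (le_of_eq hx32)).upd 3 1 2 (le_of_eq hx42)) ![0,2,1,1] (by decide) (by decide) 1 (by decide))
      · -- 24=(2,1)
        exact False.elim (cert_false T ((skipEmb 1).trans (Function.Embedding.refl _)) (by norm_num) (fun _ => hall _) (((((LB_zero T ((skipEmb 1).trans (Function.Embedding.refl _))).upd 1 2 3 (le_of_eq hx23)).upd 1 3 2 (le_of_eq hx24)).upd 2 1 1 (le_of_eq hx32)).upd 3 1 1 (le_of_eq hx42)) ![0,2,1,1] (by decide) (by decide) 1 (by decide))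
      · -- 24=(1,3)
        exact False.elim (cert_false T ((skipEmb 1).trans (Function.Embedding.refl _)) (by norm_num) (fun _ => hall _) (((((LB_zero T ((skipEmb 1).trans (Function.Embedding.refl _))).upd 1 2 3 (le_of_eq hx23)).upd 1 3 1 (le_of_eq hx24)).upd 2 1 1 (le_of_eq hx32)).upd 3 1 3 (le_of_eq hx42)) ![0,2,1,1] (by decide) (by decide) 1 (by decide))
      · -- 24=(3,1)
        exact False.elim (cert_false T ((skipEmb 1).trans (Function.Embedding.refl _)) (by norm_num) (fun _ => hall _) (((((LB_zero T ((skipEmb 1).trans (Function.Embedding.refl _))).upd 1 2 3 (le_of_eq hx23)).upd 1 3 3 (le_of_eq hx24)).upd 2 1 1 (le_of_eq hx32)).upd 3 1 1 (le_of_eq hx42)) ![0,2,1,1] (by decide) (by decide) 1 (by decide))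
    · -- 14=(1,1)
      rcases d24 with ⟨rfl, rfl⟩ | ⟨rfl, rfl⟩ | ⟨rfl, rfl⟩ | ⟨rfl, rfl⟩ | ⟨rfl, rfl⟩ | ⟨rfl, rfl⟩
      · -- 24=(0,0)
        rcases d34 with ⟨rfl, rfl⟩ | ⟨rfl, rfl⟩ | ⟨rfl, rfl⟩ | ⟨rfl, rfl⟩ | ⟨rfl, rfl⟩ | ⟨rfl, rfl⟩
        · -- 34=(0,0)
          exfalso; omega
        · -- 34=(1,1)
          exact False.elim (cert_false T ((skipEmb 1).trans (Function.Embedding.refl _)) (by norm_num) (fun _ => hall _) (((((LB_zero T ((skipEmb 1).trans (Function.Embedding.refl _))).upd 1 2 3 (le_of_eq hx23)).upd 2 1 1 (le_of_eq hx32)).upd 2 3 1 (le_of_eq hx34)).upd 3 2 1 (le_of_eq hx43)) ![0,3,2,1] (by decide) (by decide) 1 (by decide))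
        · -- 34=(1,2)
          exact False.elim (cert_false T ((skipEmb 1).trans (Function.Embedding.refl _)) (by norm_num) (fun _ => hall _) (((((LB_zero T ((skipEmb 1).trans (Function.Embedding.refl _))).upd 1 2 3 (le_of_eq hx23)).upd 2 1 1 (le_of_eq hx32)).upd 2 3 1 (le_of_eq hx34)).upd 3 2 2 (le_of_eq hx43)) ![0,1,1,1] (by decide) (by decide) 1 (by decide))
        · -- 34=(2,1)
          exact False.elim (cert_false T ((skipEmb 1).trans (Function.Embedding.refl _)) (by norm_num) (fun _ => hall _) (((((LB_zero T ((skipEmb 1).trans (Function.Embedding.refl _))).upd 1 2 3 (le_of_eq hx23)).upd 2 1 1 (le_of_eq hx32)).upd 2 3 2 (le_of_eq hx34)).upd 3 2 1 (le_of_eq hx43)) ![0,2,2,1] (by decide) (by decide) 1 (by decide))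
        · -- 34=(1,3)
          exact False.elim (cert_false T ((skipEmb 2).trans (Function.Embedding.refl _)) (by norm_num) (fun _ => hall _) (((((LB_zero T ((skipEmb 2).trans (Function.Embedding.refl _))).upd 1 3 1 (le_of_eq hx14)).upd 2 3 1 (le_of_eq hx34)).upd 3 1 1 (le_of_eq hx41)).upd 3 2 3 (le_of_eq hx43)) ![0,1,1,2] (by decide) (by decide) 1 (by decide))
        · -- 34=(3,1)
          exact False.elim (cert_false T ((skipEmb 2).trans (Function.Embedding.refl _)) (by norm_num) (fun _ => hall _) (((((LB_zero T ((skipEmb 2).trans (Function.Embedding.refl _))).upd 1 3 1 (le_of_eq hx14)).upd 2 3 3 (le_of_eq hx34)).upd 3 1 1 (le_of_eq hx41)).upd 3 2 1 (le_of_eq hx43)) ![0,1,3,2] (by decide) (by decide) 1 (by decide))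
      · -- 24=(1,1)
        exact False.elim (cert_false T ((skipEmb 1).trans (Function.Embedding.refl _)) (by norm_num) (fun _ => hall _) (((((LB_zero T ((skipEmb 1).trans (Function.Embedding.refl _))).upd 1 2 3 (le_of_eq hx23)).upd 1 3 1 (le_of_eq hx24)).upd 2 1 1 (le_of_eq hx32)).upd 3 1 1 (le_of_eq hx42)) ![0,2,1,1] (by decide) (by decide) 1 (by decide))
      · -- 24=(1,2)
        exact False.elim (cert_false T ((skipEmb 1).trans (Function.Embedding.refl _)) (by norm_num) (fun _ => hall _) (((((LB_zero T ((skipEmb 1).trans (Function.Embedding.refl _))).upd 1 2 3 (le_of_eq hx23)).upd 1 3 1 (le_of_eq hx24)).upd 2 1 1 (le_of_eq hx32)).upd 3 1 2 (le_of_eq hx42)) ![0,2,1,1] (by decide) (by decide) 1 (by decide))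
      · -- 24=(2,1)
        exact False.elim (cert_false T ((skipEmb 1).trans (Function.Embedding.refl _)) (by norm_num) (fun _ => hall _) (((((LB_zero T ((skipEmb 1).trans (Function.Embedding.refl _))).upd 1 2 3 (le_of_eq hx23)).upd 1 3 2 (le_of_eq hx24)).upd 2 1 1 (le_of_eq hx32)).upd 3 1 1 (le_of_eq hx42)) ![0,2,1,1] (by decide) (by decide) 1 (by decide))
      · -- 24=(1,3)
        exact False.elim (cert_false T ((skipEmb 3).trans (Function.Embedding.refl _)) (by norm_num) (fun _ => hall _) (((((LB_zero T ((skipEmb 3).trans (Function.Embedding.refl _))).upd 1 3 1 (le_of_eq hx14)).upd 2 3 1 (le_of_eq hx24)).upd 3 1 1 (le_of_eq hx41)).upd 3 2 3 (le_of_eq hx42)) ![0,1,1,2] (by decide) (by decide) 1 (by decide))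
      · -- 24=(3,1)
        exact False.elim (cert_false T ((skipEmb 3).trans (Function.Embedding.refl _)) (by norm_num) (fun _ => hall _) (((((LB_zero T ((skipEmb 3).trans (Function.Embedding.refl _))).upd 1 3 1 (le_of_eq hx14)).upd 2 3 3 (le_of_eq hx24)).upd 3 1 1 (le_of_eq hx41)).upd 3 2 1 (le_of_eq hx42)) ![0,1,3,2] (by decide) (by decide) 1 (by decide))
    · -- 14=(1,2)
      rcases d24 with ⟨rfl, rfl⟩ | ⟨rfl, rfl⟩ | ⟨rfl, rfl⟩ | ⟨rfl, rfl⟩ | ⟨rfl, rfl⟩ | ⟨rfl, rfl⟩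
      · -- 24=(0,0)
        rcases d34 with ⟨rfl, rfl⟩ | ⟨rfl, rfl⟩ | ⟨rfl, rfl⟩ | ⟨rfl, rfl⟩ | ⟨rfl, rfl⟩ | ⟨rfl, rfl⟩
        · -- 34=(0,0)
          exfalso; omega
        · -- 34=(1,1)
          exact False.elim (cert_false T ((skipEmb 1).trans (Function.Embedding.refl _)) (by norm_num) (fun _ => hall _) (((((LB_zero T ((skipEmb 1).trans (Function.Embedding.refl _))).upd 1 2 3 (le_of_eq hx23)).upd 2 1 1 (le_of_eq hx32)).upd 2 3 1 (le_of_eq hx34)).upd 3 2 1 (le_of_eq hx43)) ![0,3,2,1] (by decide) (by decide) 1 (by decide))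
        · -- 34=(1,2)
          exact False.elim (cert_false T ((skipEmb 2).trans (Function.Embedding.refl _)) (by norm_num) (fun _ => hall _) (((((LB_zero T ((skipEmb 2).trans (Function.Embedding.refl _))).upd 1 3 1 (le_of_eq hx14)).upd 2 3 1 (le_of_eq hx34)).upd 3 1 2 (le_of_eq hx41)).upd 3 2 2 (le_of_eq hx43)) ![0,1,1,2] (by decide) (by decide) 1 (by decide))
        · -- 34=(2,1)
          exact False.elim (cert_false T ((skipEmb 2).trans (Function.Embedding.refl _)) (by norm_num) (fun _ => hall _) (((((LB_zero T ((skipEmb 2).trans (Function.Embedding.refl _))).upd 1 3 1 (le_of_eq hx14)).upd 2 3 2 (le_of_eq hx34)).upd 3 1 2 (le_of_eq hx41)).upd 3 2 1 (le_of_eq hx43)) ![0,1,2,2] (by decide) (by decide) 1 (by decide))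
        · -- 34=(1,3)
          exact False.elim (cert_false T ((skipEmb 2).trans (Function.Embedding.refl _)) (by norm_num) (fun _ => hall _) (((((LB_zero T ((skipEmb 2).trans (Function.Embedding.refl _))).upd 1 3 1 (le_of_eq hx14)).upd 2 3 1 (le_of_eq hx34)).upd 3 1 2 (le_of_eq hx41)).upd 3 2 3 (le_of_eq hx43)) ![0,1,1,2] (by decide) (by decide) 1 (by decide))
        · -- 34=(3,1)
          exact False.elim (cert_false T ((skipEmb 2).trans (Function.Embedding.refl _)) (by norm_num) (fun _ => hall _) (((((LB_zero T ((skipEmb 2).trans (Function.Embedding.refl _))).upd 1 3 1 (le_of_eq hx14)).upd 2 3 3 (le_of_eq hx34)).upd 3 1 2 (le_of_eq hx41)).upd 3 2 1 (le_of_eq hx43)) ![0,1,2,2] (by decide) (by decide) 1 (by decide))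
      · -- 24=(1,1)
        exact False.elim (cert_false T ((skipEmb 1).trans (Function.Embedding.refl _)) (by norm_num) (fun _ => hall _) (((((LB_zero T ((skipEmb 1).trans (Function.Embedding.refl _))).upd 1 2 3 (le_of_eq hx23)).upd 1 3 1 (le_of_eq hx24)).upd 2 1 1 (le_of_eq hx32)).upd 3 1 1 (le_of_eq hx42)) ![0,2,1,1] (by decide) (by decide) 1 (by decide))
      · -- 24=(1,2)
        exact False.elim (cert_false T ((skipEmb 3).trans (Function.Embedding.refl _)) (by norm_num) (fun _ => hall _) (((((LB_zero T ((skipEmb 3).trans (Function.Embedding.refl _))).upd 1 3 1 (le_of_eq hx14)).upd 2 3 1 (le_of_eq hx24)).upd 3 1 2 (le_of_eq hx41)).upd 3 2 2 (le_of_eq hx42)) ![0,1,1,2] (by decide) (by decide) 1 (by decide))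
      · -- 24=(2,1)
        exact False.elim (cert_false T ((skipEmb 3).trans (Function.Embedding.refl _)) (by norm_num) (fun _ => hall _) (((((LB_zero T ((skipEmb 3).trans (Function.Embedding.refl _))).upd 1 3 1 (le_of_eq hx14)).upd 2 3 2 (le_of_eq hx24)).upd 3 1 2 (le_of_eq hx41)).upd 3 2 1 (le_of_eq hx42)) ![0,1,2,2] (by decide) (by decide) 1 (by decide))
      · -- 24=(1,3)
        exact False.elim (cert_false T ((skipEmb 3).trans (Function.Embedding.refl _)) (by norm_num) (fun _ => hall _) (((((LB_zero T ((skipEmb 3).trans (Function.Embedding.refl _))).upd 1 3 1 (le_of_eq hx14)).upd 2 3 1 (le_of_eq hx24)).upd 3 1 2 (le_of_eq hx41)).upd 3 2 3 (le_of_eq hx42)) ![0,1,1,2] (by decide) (by decide) 1 (by decide))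
      · -- 24=(3,1)
        exact False.elim (cert_false T ((skipEmb 3).trans (Function.Embedding.refl _)) (by norm_num) (fun _ => hall _) (((((LB_zero T ((skipEmb 3).trans (Function.Embedding.refl _))).upd 1 3 1 (le_of_eq hx14)).upd 2 3 3 (le_of_eq hx24)).upd 3 1 2 (le_of_eq hx41)).upd 3 2 1 (le_of_eq hx42)) ![0,1,2,2] (by decide) (by decide) 1 (by decide))
    · -- 14=(2,1)
      rcases d24 with ⟨rfl, rfl⟩ | ⟨rfl, rfl⟩ | ⟨rfl, rfl⟩ | ⟨rfl, rfl⟩ | ⟨rfl, rfl⟩ | ⟨rfl, rfl⟩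
      · -- 24=(0,0)
        rcases d34 with ⟨rfl, rfl⟩ | ⟨rfl, rfl⟩ | ⟨rfl, rfl⟩ | ⟨rfl, rfl⟩ | ⟨rfl, rfl⟩ | ⟨rfl, rfl⟩
        · -- 34=(0,0)
          exfalso; omega
        · -- 34=(1,1)
          exact False.elim (cert_false T ((skipEmb 1).trans (Function.Embedding.refl _)) (by norm_num) (fun _ => hall _) (((((LB_zero T ((skipEmb 1).trans (Function.Embedding.refl _))).upd 1 2 3 (le_of_eq hx23)).upd 2 1 1 (le_of_eq hx32)).upd 2 3 1 (le_of_eq hx34)).upd 3 2 1 (le_of_eq hx43)) ![0,3,2,1] (by decide) (by decide) 1 (by decide))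
        · -- 34=(1,2)
          exact False.elim (cert_false T ((skipEmb 2).trans (Function.Embedding.refl _)) (by norm_num) (fun _ => hall _) (((((LB_zero T ((skipEmb 2).trans (Function.Embedding.refl _))).upd 1 3 2 (le_of_eq hx14)).upd 2 3 1 (le_of_eq hx34)).upd 3 1 1 (le_of_eq hx41)).upd 3 2 2 (le_of_eq hx43)) ![0,2,1,2] (by decide) (by decide) 1 (by decide))
        · -- 34=(2,1)
          exact False.elim (cert_false T ((skipEmb 2).trans (Function.Embedding.refl _)) (by norm_num) (fun _ => hall _) (((((LB_zero T ((skipEmb 2).trans (Function.Embedding.refl _))).upd 1 3 2 (le_of_eq hx14)).upd 2 3 2 (le_of_eq hx34)).upd 3 1 1 (le_of_eq hx41)).upd 3 2 1 (le_of_eq hx43)) ![0,1,1,1] (by decide) (by decide) 1 (by decide))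
        · -- 34=(1,3)
          exact False.elim (cert_false T ((skipEmb 2).trans (Function.Embedding.refl _)) (by norm_num) (fun _ => hall _) (((((LB_zero T ((skipEmb 2).trans (Function.Embedding.refl _))).upd 1 3 2 (le_of_eq hx14)).upd 2 3 1 (le_of_eq hx34)).upd 3 1 1 (le_of_eq hx41)).upd 3 2 3 (le_of_eq hx43)) ![0,1,1,2] (by decide) (by decide) 1 (by decide))
        · -- 34=(3,1)
          exact False.elim (cert_false T ((skipEmb 2).trans (Function.Embedding.refl _)) (by norm_num) (fun _ => hall _) (((((LB_zero T ((skipEmb 2).trans (Function.Embedding.refl _))).upd 1 3 2 (le_of_eq hx14)).upd 2 3 3 (le_of_eq hx34)).upd 3 1 1 (le_of_eq hx41)).upd 3 2 1 (le_of_eq hx43)) ![0,1,1,1] (by decide) (by decide) 1 (by decide))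
      · -- 24=(1,1)
        exact False.elim (cert_false T ((skipEmb 1).trans (Function.Embedding.refl _)) (by norm_num) (fun _ => hall _) (((((LB_zero T ((skipEmb 1).trans (Function.Embedding.refl _))).upd 1 2 3 (le_of_eq hx23)).upd 1 3 1 (le_of_eq hx24)).upd 2 1 1 (le_of_eq hx32)).upd 3 1 1 (le_of_eq hx42)) ![0,2,1,1] (by decide) (by decide) 1 (by decide))
      · -- 24=(1,2)
        exact False.elim (cert_false T ((skipEmb 3).trans (Function.Embedding.refl _)) (by norm_num) (fun _ => hall _) (((((LB_zero T ((skipEmb 3).trans (Function.Embedding.refl _))).upd 1 3 2 (le_of_eq hx14)).upd 2 3 1 (le_of_eq hx24)).upd 3 1 1 (le_of_eq hx41)).upd 3 2 2 (le_of_eq hx42)) ![0,2,1,2] (by decide) (by decide) 1 (by decide))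
      · -- 24=(2,1)
        exact False.elim (cert_false T ((skipEmb 3).trans (Function.Embedding.refl _)) (by norm_num) (fun _ => hall _) (((((LB_zero T ((skipEmb 3).trans (Function.Embedding.refl _))).upd 1 3 2 (le_of_eq hx14)).upd 2 3 2 (le_of_eq hx24)).upd 3 1 1 (le_of_eq hx41)).upd 3 2 1 (le_of_eq hx42)) ![0,1,1,1] (by decide) (by decide) 1 (by decide))
      · -- 24=(1,3)
        exact False.elim (cert_false T ((skipEmb 3).trans (Function.Embedding.refl _)) (by norm_num) (fun _ => hall _) (((((LB_zero T ((skipEmb 3).trans (Function.Embedding.refl _))).upd 1 3 2 (le_of_eq hx14)).upd 2 3 1 (le_of_eq hx24)).upd 3 1 1 (le_of_eq hx41)).upd 3 2 3 (le_of_eq hx42)) ![0,1,1,2] (by decide) (by decide) 1 (by decide))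
      · -- 24=(3,1)
        exact False.elim (cert_false T ((skipEmb 3).trans (Function.Embedding.refl _)) (by norm_num) (fun _ => hall _) (((((LB_zero T ((skipEmb 3).trans (Function.Embedding.refl _))).upd 1 3 2 (le_of_eq hx14)).upd 2 3 3 (le_of_eq hx24)).upd 3 1 1 (le_of_eq hx41)).upd 3 2 1 (le_of_eq hx42)) ![0,1,1,1] (by decide) (by decide) 1 (by decide))
    · -- 14=(1,3)
      exact False.elim (cert_false T ((skipEmb 3).trans (Function.Embedding.refl _)) (by norm_num) (fun _ => hall _) (((((LB_zero T ((skipEmb 3).trans (Function.Embedding.refl _))).upd 0 1 1 (le_of_eq hx01)).upd 1 0 1 (le_of_eq hx10)).upd 1 3 1 (le_of_eq hx14)).upd 3 1 3 (le_of_eq hx41)) ![1,2,0,3] (by decide) (by decide) 0 (by decide))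
    · -- 14=(3,1)
      exact False.elim (cert_false T ((skipEmb 3).trans (Function.Embedding.refl _)) (by norm_num) (fun _ => hall _) (((((LB_zero T ((skipEmb 3).trans (Function.Embedding.refl _))).upd 0 1 1 (le_of_eq hx01)).upd 1 0 1 (le_of_eq hx10)).upd 1 3 3 (le_of_eq hx14)).upd 3 1 1 (le_of_eq hx41)) ![1,2,0,1] (by decide) (by decide) 0 (by decide))
  · -- 04=(1,1)
    rcases d14 with ⟨rfl, rfl⟩ | ⟨rfl, rfl⟩ | ⟨rfl, rfl⟩ | ⟨rfl, rfl⟩ | ⟨rfl, rfl⟩ | ⟨rfl, rfl⟩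
    · -- 14=(0,0)
      rcases d24 with ⟨rfl, rfl⟩ | ⟨rfl, rfl⟩ | ⟨rfl, rfl⟩ | ⟨rfl, rfl⟩ | ⟨rfl, rfl⟩ | ⟨rfl, rfl⟩
      · -- 24=(0,0)
        rcases d34 with ⟨rfl, rfl⟩ | ⟨rfl, rfl⟩ | ⟨rfl, rfl⟩ | ⟨rfl, rfl⟩ | ⟨rfl, rfl⟩ | ⟨rfl, rfl⟩
        · -- 34=(0,0)
          exfalso; omega
        · -- 34=(1,1)
          exact False.elim (cert_false T ((skipEmb 1).trans (Function.Embedding.refl _)) (by norm_num) (fun _ => hall _) (((((LB_zero T ((skipEmb 1).trans (Function.Embedding.refl _))).upd 1 2 3 (le_of_eq hx23)).upd 2 1 1 (le_of_eq hx32)).upd 2 3 1 (le_of_eq hx34)).upd 3 2 1 (le_of_eq hx43)) ![0,3,2,1] (by decide) (by decide) 1 (by decide))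
        · -- 34=(1,2)
          exact False.elim (cert_false T ((skipEmb 1).trans (Function.Embedding.refl _)) (by norm_num) (fun _ => hall _) (((((LB_zero T ((skipEmb 1).trans (Function.Embedding.refl _))).upd 1 2 3 (le_of_eq hx23)).upd 2 1 1 (le_of_eq hx32)).upd 2 3 1 (le_of_eq hx34)).upd 3 2 2 (le_of_eq hx43)) ![0,1,1,1] (by decide) (by decide) 1 (by decide))
        · -- 34=(2,1)
          exact False.elim (cert_false T ((skipEmb 1).trans (Function.Embedding.refl _)) (by norm_num) (fun _ => hall _) (((((LB_zero T ((skipEmb 1).trans (Function.Embedding.refl _))).upd 1 2 3 (le_of_eq hx23)).upd 2 1 1 (le_of_eq hx32)).upd 2 3 2 (le_of_eq hx34)).upd 3 2 1 (le_of_eq hx43)) ![0,2,2,1] (by decide) (by decide) 1 (by decide))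
        · -- 34=(1,3)
          exact False.elim (cert_false T ((skipEmb 2).trans (Function.Embedding.refl _)) (by norm_num) (fun _ => hall _) (((((LB_zero T ((skipEmb 2).trans (Function.Embedding.refl _))).upd 0 3 1 (le_of_eq hx04)).upd 2 3 1 (le_of_eq hx34)).upd 3 0 1 (le_of_eq hx40)).upd 3 2 3 (le_of_eq hx43)) ![1,0,1,2] (by decide) (by decide) 0 (by decide))
        · -- 34=(3,1)
          exact False.elim (cert_false T ((skipEmb 2).trans (Function.Embedding.refl _)) (by norm_num) (fun _ => hall _) (((((LB_zero T ((skipEmb 2).trans (Function.Embedding.refl _))).upd 0 3 1 (le_of_eq hx04)).upd 2 3 3 (le_of_eq hx34)).upd 3 0 1 (le_of_eq hx40)).upd 3 2 1 (le_of_eq hx43)) ![1,0,3,2] (by decide) (by decide) 0 (by decide))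
      · -- 24=(1,1)
        exact False.elim (cert_false T ((skipEmb 1).trans (Function.Embedding.refl _)) (by norm_num) (fun _ => hall _) (((((LB_zero T ((skipEmb 1).trans (Function.Embedding.refl _))).upd 1 2 3 (le_of_eq hx23)).upd 1 3 1 (le_of_eq hx24)).upd 2 1 1 (le_of_eq hx32)).upd 3 1 1 (le_of_eq hx42)) ![0,2,1,1] (by decide) (by decide) 1 (by decide))
      · -- 24=(1,2)
        exact False.elim (cert_false T ((skipEmb 1).trans (Function.Embedding.refl _)) (by norm_num) (fun _ => hall _) (((((LB_zero T ((skipEmb 1).trans (Function.Embedding.refl _))).upd 1 2 3 (le_of_eq hx23)).upd 1 3 1 (le_of_eq hx24)).upd 2 1 1 (le_of_eq hx32)).upd 3 1 2 (le_of_eq hx42)) ![0,2,1,1] (by decide) (by decide) 1 (by decide))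
      · -- 24=(2,1)
        exact False.elim (cert_false T ((skipEmb 1).trans (Function.Embedding.refl _)) (by norm_num) (fun _ => hall _) (((((LB_zero T ((skipEmb 1).trans (Function.Embedding.refl _))).upd 1 2 3 (le_of_eq hx23)).upd 1 3 2 (le_of_eq hx24)).upd 2 1 1 (le_of_eq hx32)).upd 3 1 1 (le_of_eq hx42)) ![0,2,1,1] (by decide) (by decide) 1 (by decide))
      · -- 24=(1,3)
        exact False.elim (cert_false T ((skipEmb 3).trans (Function.Embedding.refl _)) (by norm_num) (fun _ => hall _) (((((LB_zero T ((skipEmb 3).trans (Function.Embedding.refl _))).upd 0 3 1 (le_of_eq hx04)).upd 2 3 1 (le_of_eq hx24)).upd 3 0 1 (le_of_eq hx40)).upd 3 2 3 (le_of_eq hx42)) ![1,0,1,2] (by decide) (by decide) 0 (by decide))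
      · -- 24=(3,1)
        exact False.elim (cert_false T ((skipEmb 3).trans (Function.Embedding.refl _)) (by norm_num) (fun _ => hall _) (((((LB_zero T ((skipEmb 3).trans (Function.Embedding.refl _))).upd 0 3 1 (le_of_eq hx04)).upd 2 3 3 (le_of_eq hx24)).upd 3 0 1 (le_of_eq hx40)).upd 3 2 1 (le_of_eq hx42)) ![1,0,3,2] (by decide) (by decide) 0 (by decide))
    · -- 14=(1,1)
      exact False.elim (cert_false T ((skipEmb 3).trans (Function.Embedding.refl _)) (by norm_num) (fun _ => hall _) (((((((LB_zero T ((skipEmb 3).trans (Function.Embedding.refl _))).upd 0 1 1 (le_of_eq hx01)).upd 0 3 1 (le_of_eq hx04)).upd 1 0 1 (le_of_eq hx10)).upd 1 3 1 (le_of_eq hx14)).upd 3 0 1 (le_of_eq hx40)).upd 3 1 1 (le_of_eq hx41)) ![1,1,0,1] (by decide) (by decide) 0 (by decide))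
    · -- 14=(1,2)
      exact False.elim (cert_false T ((skipEmb 3).trans (Function.Embedding.refl _)) (by norm_num) (fun _ => hall _) (((((((LB_zero T ((skipEmb 3).trans (Function.Embedding.refl _))).upd 0 1 1 (le_of_eq hx01)).upd 0 3 1 (le_of_eq hx04)).upd 1 0 1 (le_of_eq hx10)).upd 1 3 1 (le_of_eq hx14)).upd 3 0 1 (le_of_eq hx40)).upd 3 1 2 (le_of_eq hx41)) ![1,1,0,1] (by decide) (by decide) 0 (by decide))
    · -- 14=(2,1)
      exact False.elim (cert_false T ((skipEmb 3).trans (Function.Embedding.refl _)) (by norm_num) (fun _ => hall _) (((((((LB_zero T ((skipEmb 3).trans (Function.Embedding.refl _))).upd 0 1 1 (le_of_eq hx01)).upd 0 3 1 (le_of_eq hx04)).upd 1 0 1 (le_of_eq hx10)).upd 1 3 2 (le_of_eq hx14)).upd 3 0 1 (le_of_eq hx40)).upd 3 1 1 (le_of_eq hx41)) ![1,1,0,1] (by decide) (by decide) 0 (by decide))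
    · -- 14=(1,3)
      exact False.elim (cert_false T ((skipEmb 3).trans (Function.Embedding.refl _)) (by norm_num) (fun _ => hall _) (((((((LB_zero T ((skipEmb 3).trans (Function.Embedding.refl _))).upd 0 1 1 (le_of_eq hx01)).upd 0 3 1 (le_of_eq hx04)).upd 1 0 1 (le_of_eq hx10)).upd 1 3 1 (le_of_eq hx14)).upd 3 0 1 (le_of_eq hx40)).upd 3 1 3 (le_of_eq hx41)) ![1,1,0,1] (by decide) (by decide) 0 (by decide))
    · -- 14=(3,1)
      exact False.elim (cert_false T ((skipEmb 3).trans (Function.Embedding.refl _)) (by norm_num) (fun _ => hall _) (((((((LB_zero T ((skipEmb 3).trans (Function.Embedding.refl _))).upd 0 1 1 (le_of_eq hx01)).upd 0 3 1 (le_of_eq hx04)).upd 1 0 1 (le_of_eq hx10)).upd 1 3 3 (le_of_eq hx14)).upd 3 0 1 (le_of_eq hx40)).upd 3 1 1 (le_of_eq hx41)) ![1,1,0,1] (by decide) (by decide) 0 (by decide))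
  · -- 04=(1,2)
    rcases d14 with ⟨rfl, rfl⟩ | ⟨rfl, rfl⟩ | ⟨rfl, rfl⟩ | ⟨rfl, rfl⟩ | ⟨rfl, rfl⟩ | ⟨rfl, rfl⟩
    · -- 14=(0,0)
      rcases d24 with ⟨rfl, rfl⟩ | ⟨rfl, rfl⟩ | ⟨rfl, rfl⟩ | ⟨rfl, rfl⟩ | ⟨rfl, rfl⟩ | ⟨rfl, rfl⟩
      · -- 24=(0,0)
        rcases d34 with ⟨rfl, rfl⟩ | ⟨rfl, rfl⟩ | ⟨rfl, rfl⟩ | ⟨rfl, rfl⟩ | ⟨rfl, rfl⟩ | ⟨rfl, rfl⟩
        · -- 34=(0,0)
          exfalso; omega
        · -- 34=(1,1)
          exact False.elim (cert_false T ((skipEmb 1).trans (Function.Embedding.refl _)) (by norm_num) (fun _ => hall _) (((((((LB_zero T ((skipEmb 1).trans (Function.Embedding.refl _))).upd 0 3 1 (le_of_eq hx04)).upd 1 2 3 (le_of_eq hx23)).upd 2 1 1 (le_of_eq hx32)).upd 2 3 1 (le_of_eq hx34)).upd 3 0 2 (le_of_eq hx40)).upd 3 2 1 (le_of_eq hx43)) ![1,2,2,2] (by decide) (by decide) 0 (by decide))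
        · -- 34=(1,2)
          exact False.elim (cert_false T ((skipEmb 2).trans (Function.Embedding.refl _)) (by norm_num) (fun _ => hall _) (((((LB_zero T ((skipEmb 2).trans (Function.Embedding.refl _))).upd 0 3 1 (le_of_eq hx04)).upd 2 3 1 (le_of_eq hx34)).upd 3 0 2 (le_of_eq hx40)).upd 3 2 2 (le_of_eq hx43)) ![1,0,1,2] (by decide) (by decide) 0 (by decide))
        · -- 34=(2,1)
          exact False.elim (cert_false T ((skipEmb 2).trans (Function.Embedding.refl _)) (by norm_num) (fun _ => hall _) (((((LB_zero T ((skipEmb 2).trans (Function.Embedding.refl _))).upd 0 3 1 (le_of_eq hx04)).upd 2 3 2 (le_of_eq hx34)).upd 3 0 2 (le_of_eq hx40)).upd 3 2 1 (le_of_eq hx43)) ![1,0,2,2] (by decide) (by decide) 0 (by decide))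
        · -- 34=(1,3)
          exact False.elim (cert_false T ((skipEmb 2).trans (Function.Embedding.refl _)) (by norm_num) (fun _ => hall _) (((((LB_zero T ((skipEmb 2).trans (Function.Embedding.refl _))).upd 0 3 1 (le_of_eq hx04)).upd 2 3 1 (le_of_eq hx34)).upd 3 0 2 (le_of_eq hx40)).upd 3 2 3 (le_of_eq hx43)) ![1,0,1,2] (by decide) (by decide) 0 (by decide))
        · -- 34=(3,1)
          exact False.elim (cert_false T ((skipEmb 2).trans (Function.Embedding.refl _)) (by norm_num) (fun _ => hall _) (((((LB_zero T ((skipEmb 2).trans (Function.Embedding.refl _))).upd 0 3 1 (le_of_eq hx04)).upd 2 3 3 (le_of_eq hx34)).upd 3 0 2 (le_of_eq hx40)).upd 3 2 1 (le_of_eq hx43)) ![1,0,2,2] (by decide) (by decide) 0 (by decide))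
      · -- 24=(1,1)
        exact False.elim (cert_false T ((skipEmb 1).trans (Function.Embedding.refl _)) (by norm_num) (fun _ => hall _) (((((LB_zero T ((skipEmb 1).trans (Function.Embedding.refl _))).upd 1 2 3 (le_of_eq hx23)).upd 1 3 1 (le_of_eq hx24)).upd 2 1 1 (le_of_eq hx32)).upd 3 1 1 (le_of_eq hx42)) ![0,2,1,1] (by decide) (by decide) 1 (by decide))
      · -- 24=(1,2)
        exact False.elim (cert_false T ((skipEmb 3).trans (Function.Embedding.refl _)) (by norm_num) (fun _ => hall _) (((((LB_zero T ((skipEmb 3).trans (Function.Embedding.refl _))).upd 0 3 1 (le_of_eq hx04)).upd 2 3 1 (le_of_eq hx24)).upd 3 0 2 (le_of_eq hx40)).upd 3 2 2 (le_of_eq hx42)) ![1,0,1,2] (by decide) (by decide) 0 (by decide))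
      · -- 24=(2,1)
        exact False.elim (cert_false T ((skipEmb 3).trans (Function.Embedding.refl _)) (by norm_num) (fun _ => hall _) (((((LB_zero T ((skipEmb 3).trans (Function.Embedding.refl _))).upd 0 3 1 (le_of_eq hx04)).upd 2 3 2 (le_of_eq hx24)).upd 3 0 2 (le_of_eq hx40)).upd 3 2 1 (le_of_eq hx42)) ![1,0,2,2] (by decide) (by decide) 0 (by decide))
      · -- 24=(1,3)
        exact False.elim (cert_false T ((skipEmb 3).trans (Function.Embedding.refl _)) (by norm_num) (fun _ => hall _) (((((LB_zero T ((skipEmb 3).trans (Function.Embedding.refl _))).upd 0 3 1 (le_of_eq hx04)).upd 2 3 1 (le_of_eq hx24)).upd 3 0 2 (le_of_eq hx40)).upd 3 2 3 (le_of_eq hx42)) ![1,0,1,2] (by decide) (by decide) 0 (by decide))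
      · -- 24=(3,1)
        exact False.elim (cert_false T ((skipEmb 3).trans (Function.Embedding.refl _)) (by norm_num) (fun _ => hall _) (((((LB_zero T ((skipEmb 3).trans (Function.Embedding.refl _))).upd 0 3 1 (le_of_eq hx04)).upd 2 3 3 (le_of_eq hx24)).upd 3 0 2 (le_of_eq hx40)).upd 3 2 1 (le_of_eq hx42)) ![1,0,2,2] (by decide) (by decide) 0 (by decide))
    · -- 14=(1,1)
      exact False.elim (cert_false T ((skipEmb 3).trans (Function.Embedding.refl _)) (by norm_num) (fun _ => hall _) (((((((LB_zero T ((skipEmb 3).trans (Function.Embedding.refl _))).upd 0 1 1 (le_of_eq hx01)).upd 0 3 1 (le_of_eq hx04)).upd 1 0 1 (le_of_eq hx10)).upd 1 3 1 (le_of_eq hx14)).upd 3 0 2 (le_of_eq hx40)).upd 3 1 1 (le_of_eq hx41)) ![1,1,0,1] (by decide) (by decide) 0 (by decide))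
    · -- 14=(1,2)
      exact False.elim (cert_false T ((skipEmb 3).trans (Function.Embedding.refl _)) (by norm_num) (fun _ => hall _) (((((((LB_zero T ((skipEmb 3).trans (Function.Embedding.refl _))).upd 0 1 1 (le_of_eq hx01)).upd 0 3 1 (le_of_eq hx04)).upd 1 0 1 (le_of_eq hx10)).upd 1 3 1 (le_of_eq hx14)).upd 3 0 2 (le_of_eq hx40)).upd 3 1 2 (le_of_eq hx41)) ![1,1,0,1] (by decide) (by decide) 0 (by decide))
    · -- 14=(2,1)
      exact False.elim (cert_false T ((skipEmb 3).trans (Function.Embedding.refl _)) (by norm_num) (fun _ => hall _) (((((((LB_zero T ((skipEmb 3).trans (Function.Embedding.refl _))).upd 0 1 1 (le_of_eq hx01)).upd 0 3 1 (le_of_eq hx04)).upd 1 0 1 (le_of_eq hx10)).upd 1 3 2 (le_of_eq hx14)).upd 3 0 2 (le_of_eq hx40)).upd 3 1 1 (le_of_eq hx41)) ![1,1,0,1] (by decide) (by decide) 0 (by decide))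
    · -- 14=(1,3)
      exact False.elim (cert_false T ((skipEmb 3).trans (Function.Embedding.refl _)) (by norm_num) (fun _ => hall _) (((((((LB_zero T ((skipEmb 3).trans (Function.Embedding.refl _))).upd 0 1 1 (le_of_eq hx01)).upd 0 3 1 (le_of_eq hx04)).upd 1 0 1 (le_of_eq hx10)).upd 1 3 1 (le_of_eq hx14)).upd 3 0 2 (le_of_eq hx40)).upd 3 1 3 (le_of_eq hx41)) ![1,1,0,1] (by decide) (by decide) 0 (by decide))
    · -- 14=(3,1)
      exact False.elim (cert_false T ((skipEmb 3).trans (Function.Embedding.refl _)) (by norm_num) (fun _ => hall _) (((((((LB_zero T ((skipEmb 3).trans (Function.Embedding.refl _))).upd 0 1 1 (le_of_eq hx01)).upd 0 3 1 (le_of_eq hx04)).upd 1 0 1 (le_of_eq hx10)).upd 1 3 3 (le_of_eq hx14)).upd 3 0 2 (le_of_eq hx40)).upd 3 1 1 (le_of_eq hx41)) ![1,1,0,1] (by decide) (by decide) 0 (by decide))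
  · -- 04=(2,1)
    rcases d14 with ⟨rfl, rfl⟩ | ⟨rfl, rfl⟩ | ⟨rfl, rfl⟩ | ⟨rfl, rfl⟩ | ⟨rfl, rfl⟩ | ⟨rfl, rfl⟩
    · -- 14=(0,0)
      rcases d24 with ⟨rfl, rfl⟩ | ⟨rfl, rfl⟩ | ⟨rfl, rfl⟩ | ⟨rfl, rfl⟩ | ⟨rfl, rfl⟩ | ⟨rfl, rfl⟩
      · -- 24=(0,0)
        rcases d34 with ⟨rfl, rfl⟩ | ⟨rfl, rfl⟩ | ⟨rfl, rfl⟩ | ⟨rfl, rfl⟩ | ⟨rfl, rfl⟩ | ⟨rfl, rfl⟩
        · -- 34=(0,0)
          exfalso; omega
        · -- 34=(1,1)
          exact False.elim (cert_false T ((skipEmb 1).trans (Function.Embedding.refl _)) (by norm_num) (fun _ => hall _) (((((((LB_zero T ((skipEmb 1).trans (Function.Embedding.refl _))).upd 0 3 2 (le_of_eq hx04)).upd 1 2 3 (le_of_eq hx23)).upd 2 1 1 (le_of_eq hx32)).upd 2 3 1 (le_of_eq hx34)).upd 3 0 1 (le_of_eq hx40)).upd 3 2 1 (le_of_eq hx43)) ![1,1,1,1] (by decide) (by decide) 0 (by decide))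
        · -- 34=(1,2)
          exact False.elim (cert_false T ((skipEmb 2).trans (Function.Embedding.refl _)) (by norm_num) (fun _ => hall _) (((((LB_zero T ((skipEmb 2).trans (Function.Embedding.refl _))).upd 0 3 2 (le_of_eq hx04)).upd 2 3 1 (le_of_eq hx34)).upd 3 0 1 (le_of_eq hx40)).upd 3 2 2 (le_of_eq hx43)) ![2,0,1,2] (by decide) (by decide) 0 (by decide))
        · -- 34=(2,1)
          exact False.elim (cert_false T ((skipEmb 2).trans (Function.Embedding.refl _)) (by norm_num) (fun _ => hall _) (((((LB_zero T ((skipEmb 2).trans (Function.Embedding.refl _))).upd 0 3 2 (le_of_eq hx04)).upd 2 3 2 (le_of_eq hx34)).upd 3 0 1 (le_of_eq hx40)).upd 3 2 1 (le_of_eq hx43)) ![1,0,1,1] (by decide) (by decide) 0 (by decide))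
        · -- 34=(1,3)
          exact False.elim (cert_false T ((skipEmb 2).trans (Function.Embedding.refl _)) (by norm_num) (fun _ => hall _) (((((LB_zero T ((skipEmb 2).trans (Function.Embedding.refl _))).upd 0 3 2 (le_of_eq hx04)).upd 2 3 1 (le_of_eq hx34)).upd 3 0 1 (le_of_eq hx40)).upd 3 2 3 (le_of_eq hx43)) ![1,0,1,2] (by decide) (by decide) 0 (by decide))
        · -- 34=(3,1)
          exact False.elim (cert_false T ((skipEmb 2).trans (Function.Embedding.refl _)) (by norm_num) (fun _ => hall _) (((((LB_zero T ((skipEmb 2).trans (Function.Embedding.refl _))).upd 0 3 2 (le_of_eq hx04)).upd 2 3 3 (le_of_eq hx34)).upd 3 0 1 (le_of_eq hx40)).upd 3 2 1 (le_of_eq hx43)) ![1,0,1,1] (by decide) (by decide) 0 (by decide))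
      · -- 24=(1,1)
        exact False.elim (cert_false T ((skipEmb 1).trans (Function.Embedding.refl _)) (by norm_num) (fun _ => hall _) (((((LB_zero T ((skipEmb 1).trans (Function.Embedding.refl _))).upd 1 2 3 (le_of_eq hx23)).upd 1 3 1 (le_of_eq hx24)).upd 2 1 1 (le_of_eq hx32)).upd 3 1 1 (le_of_eq hx42)) ![0,2,1,1] (by decide) (by decide) 1 (by decide))
      · -- 24=(1,2)
        exact False.elim (cert_false T ((skipEmb 3).trans (Function.Embedding.refl _)) (by norm_num) (fun _ => hall _) (((((LB_zero T ((skipEmb 3).trans (Function.Embedding.refl _))).upd 0 3 2 (le_of_eq hx04)).upd 2 3 1 (le_of_eq hx24)).upd 3 0 1 (le_of_eq hx40)).upd 3 2 2 (le_of_eq hx42)) ![2,0,1,2] (by decide) (by decide) 0 (by decide))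
      · -- 24=(2,1)
        exact False.elim (cert_false T ((skipEmb 3).trans (Function.Embedding.refl _)) (by norm_num) (fun _ => hall _) (((((LB_zero T ((skipEmb 3).trans (Function.Embedding.refl _))).upd 0 3 2 (le_of_eq hx04)).upd 2 3 2 (le_of_eq hx24)).upd 3 0 1 (le_of_eq hx40)).upd 3 2 1 (le_of_eq hx42)) ![1,0,1,1] (by decide) (by decide) 0 (by decide))
      · -- 24=(1,3)
        exact False.elim (cert_false T ((skipEmb 3).trans (Function.Embedding.refl _)) (by norm_num) (fun _ => hall _) (((((LB_zero T ((skipEmb 3).trans (Function.Embedding.refl _))).upd 0 3 2 (le_of_eq hx04)).upd 2 3 1 (le_of_eq hx24)).upd 3 0 1 (le_of_eq hx40)).upd 3 2 3 (le_of_eq hx42)) ![1,0,1,2] (by decide) (by decide) 0 (by decide))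
      · -- 24=(3,1)
        exact False.elim (cert_false T ((skipEmb 3).trans (Function.Embedding.refl _)) (by norm_num) (fun _ => hall _) (((((LB_zero T ((skipEmb 3).trans (Function.Embedding.refl _))).upd 0 3 2 (le_of_eq hx04)).upd 2 3 3 (le_of_eq hx24)).upd 3 0 1 (le_of_eq hx40)).upd 3 2 1 (le_of_eq hx42)) ![1,0,1,1] (by decide) (by decide) 0 (by decide))
    · -- 14=(1,1)
      exact False.elim (cert_false T ((skipEmb 3).trans (Function.Embedding.refl _)) (by norm_num) (fun _ => hall _) (((((((LB_zero T ((skipEmb 3).trans (Function.Embedding.refl _))).upd 0 1 1 (le_of_eq hx01)).upd 0 3 2 (le_of_eq hx04)).upd 1 0 1 (le_of_eq hx10)).upd 1 3 1 (le_of_eq hx14)).upd 3 0 1 (le_of_eq hx40)).upd 3 1 1 (le_of_eq hx41)) ![1,1,0,1] (by decide) (by decide) 0 (by decide))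
    · -- 14=(1,2)
      exact False.elim (cert_false T ((skipEmb 3).trans (Function.Embedding.refl _)) (by norm_num) (fun _ => hall _) (((((((LB_zero T ((skipEmb 3).trans (Function.Embedding.refl _))).upd 0 1 1 (le_of_eq hx01)).upd 0 3 2 (le_of_eq hx04)).upd 1 0 1 (le_of_eq hx10)).upd 1 3 1 (le_of_eq hx14)).upd 3 0 1 (le_of_eq hx40)).upd 3 1 2 (le_of_eq hx41)) ![1,1,0,1] (by decide) (by decide) 0 (by decide))
    · -- 14=(2,1)
      exact False.elim (cert_false T ((skipEmb 3).trans (Function.Embedding.refl _)) (by norm_num) (fun _ => hall _) (((((((LB_zero T ((skipEmb 3).trans (Function.Embedding.refl _))).upd 0 1 1 (le_of_eq hx01)).upd 0 3 2 (le_of_eq hx04)).upd 1 0 1 (le_of_eq hx10)).upd 1 3 2 (le_of_eq hx14)).upd 3 0 1 (le_of_eq hx40)).upd 3 1 1 (le_of_eq hx41)) ![1,1,0,1] (by decide) (by decide) 0 (by decide))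
    · -- 14=(1,3)
      exact False.elim (cert_false T ((skipEmb 3).trans (Function.Embedding.refl _)) (by norm_num) (fun _ => hall _) (((((((LB_zero T ((skipEmb 3).trans (Function.Embedding.refl _))).upd 0 1 1 (le_of_eq hx01)).upd 0 3 2 (le_of_eq hx04)).upd 1 0 1 (le_of_eq hx10)).upd 1 3 1 (le_of_eq hx14)).upd 3 0 1 (le_of_eq hx40)).upd 3 1 3 (le_of_eq hx41)) ![1,1,0,1] (by decide) (by decide) 0 (by decide))
    · -- 14=(3,1)
      exact False.elim (cert_false T ((skipEmb 3).trans (Function.Embedding.refl _)) (by norm_num) (fun _ => hall _) (((((((LB_zero T ((skipEmb 3).trans (Function.Embedding.refl _))).upd 0 1 1 (le_of_eq hx01)).upd 0 3 2 (le_of_eq hx04)).upd 1 0 1 (le_of_eq hx10)).upd 1 3 3 (le_of_eq hx14)).upd 3 0 1 (le_of_eq hx40)).upd 3 1 1 (le_of_eq hx41)) ![1,1,0,1] (by decide) (by decide) 0 (by decide))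
  · -- 04=(1,3)
    exact False.elim (cert_false T ((skipEmb 3).trans (Function.Embedding.refl _)) (by norm_num) (fun _ => hall _) (((((LB_zero T ((skipEmb 3).trans (Function.Embedding.refl _))).upd 0 1 1 (le_of_eq hx01)).upd 0 3 1 (le_of_eq hx04)).upd 1 0 1 (le_of_eq hx10)).upd 3 0 3 (le_of_eq hx40)) ![2,1,0,3] (by decide) (by decide) 0 (by decide))
  · -- 04=(3,1)
    exact False.elim (cert_false T ((skipEmb 3).trans (Function.Embedding.refl _)) (by norm_num) (fun _ => hall _) (((((LB_zero T ((skipEmb 3).trans (Function.Embedding.refl _))).upd 0 1 1 (le_of_eq hx01)).upd 0 3 3 (le_of_eq hx04)).upd 1 0 1 (le_of_eq hx10)).upd 3 0 1 (le_of_eq hx40)) ![2,1,0,1] (by decide) (by decide) 0 (by decide))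

theorem case353 (T : NumericalType 5) (hall : ∀ i, T.IsMinusTwo i) (d : SData T)
    (h01 : N T (Function.Embedding.refl _) 0 1 = 1) (h10 : N T (Function.Embedding.refl _) 1 0 = 1)
    (h02 : N T (Function.Embedding.refl _) 0 2 = 0) (h20 : N T (Function.Embedding.refl _) 2 0 = 0)
    (h12 : N T (Function.Embedding.refl _) 1 2 = 0) (h21 : N T (Function.Embedding.refl _) 2 1 = 0)
    (h03 : N T (Function.Embedding.refl _) 0 3 = 0) (h30 : N T (Function.Embedding.refl _) 3 0 = 0)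
    (h13 : N T (Function.Embedding.refl _) 1 3 = 0) (h31 : N T (Function.Embedding.refl _) 3 1 = 0) :
    Goal T := by
  unfold Goal
  have hd := d
  obtain ⟨x01, x02, x03, x04, x10, x12, x13, x14, x20, x21, x23, x24, x30, x31, x32, x34, x40, x41, x42, x43, hx01, hx02, hx03, hx04, hx10, hx12, hx13, hx14, hx20, hx21, hx23, hx24, hx30, hx31, hx32, hx34, hx40, hx41, hx42, hx43, hw0, hm0, hw1, hm1, hw2, hm2, hw3, hm3, hw4, hm4, a00, a01, a02, a03, a04, a11, a10, a12, a13, a14, a22, a20, a21, a23, a24, a33, a30, a31, a32, a34, a44, a40, a41, a42, a43, wN01, wN02, wN12, wN03, wN13, wN23, wN04, wN14, wN24, wN34, e0, e1, e2, e3, e4, d01, d02, d12, d03, d13, d23, d04, d14, d24, d34⟩ := d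
  obtain rfl : x01 = 1 := hx01.trans h01
  obtain rfl : x10 = 1 := hx10.trans h10
  obtain rfl : x02 = 0 := hx02.trans h02
  obtain rfl : x20 = 0 := hx20.trans h20
  obtain rfl : x12 = 0 := hx12.trans h12
  obtain rfl : x21 = 0 := hx21.trans h21
  obtain rfl : x03 = 0 := hx03.trans h03
  obtain rfl : x30 = 0 := hx30.trans h30
  obtain rfl : x13 = 0 := hx13.trans h13
  obtain rfl : x31 = 0 := hx31.trans h31
  rcases d23 with ⟨rfl, rfl⟩ | ⟨rfl, rfl⟩ | ⟨rfl, rfl⟩ | ⟨rfl, rfl⟩ | ⟨rfl, rfl⟩ | ⟨rfl, rfl⟩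
  · -- 23=(0,0)
    exact case354 T hall hd hx01.symm hx10.symm hx02.symm hx20.symm hx12.symm hx21.symm hx03.symm hx30.symm hx13.symm hx31.symm hx23.symm hx32.symm
  · -- 23=(1,1)
    exact case356 T hall hd hx01.symm hx10.symm hx02.symm hx20.symm hx12.symm hx21.symm hx03.symm hx30.symm hx13.symm hx31.symm hx23.symm hx32.symm
  · -- 23=(1,2)
    exact case358 T hall hd hx01.symm hx10.symm hx02.symm hx20.symm hx12.symm hx21.symm hx03.symm hx30.symm hx13.symm hx31.symm hx23.symm hx32.symm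
  · -- 23=(2,1)
    exact case360 T hall hd hx01.symm hx10.symm hx02.symm hx20.symm hx12.symm hx21.symm hx03.symm hx30.symm hx13.symm hx31.symm hx23.symm hx32.symm
  · -- 23=(1,3)
    exact case362 T hall hd hx01.symm hx10.symm hx02.symm hx20.symm hx12.symm hx21.symm hx03.symm hx30.symm hx13.symm hx31.symm hx23.symm hx32.symm
  · -- 23=(3,1)
    exact case363 T hall hd hx01.symm hx10.symm hx02.symm hx20.symm hx12.symm hx21.symm hx03.symm hx30.symm hx13.symm hx31.symm hx23.symm hx32.symm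

theorem case414 (T : NumericalType 5) (hall : ∀ i, T.IsMinusTwo i) (d : SData T)
    (h01 : N T (Function.Embedding.refl _) 0 1 = 1) (h10 : N T (Function.Embedding.refl _) 1 0 = 1)
    (h02 : N T (Function.Embedding.refl _) 0 2 = 0) (h20 : N T (Function.Embedding.refl _) 2 0 = 0)
    (h12 : N T (Function.Embedding.refl _) 1 2 = 2) (h21 : N T (Function.Embedding.refl _) 2 1 = 1)
    (h03 : N T (Function.Embedding.refl _) 0 3 = 0) (h30 : N T (Function.Embedding.refl _) 3 0 = 0)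
    (h13 : N T (Function.Embedding.refl _) 1 3 = 0) (h31 : N T (Function.Embedding.refl _) 3 1 = 0) :
    Goal T := by
  unfold Goal
  have hd := d
  obtain ⟨x01, x02, x03, x04, x10, x12, x13, x14, x20, x21, x23, x24, x30, x31, x32, x34, x40, x41, x42, x43, hx01, hx02, hx03, hx04, hx10, hx12, hx13, hx14, hx20, hx21, hx23, hx24, hx30, hx31, hx32, hx34, hx40, hx41, hx42, hx43, hw0, hm0, hw1, hm1, hw2, hm2, hw3, hm3, hw4, hm4, a00, a01, a02, a03, a04, a11, a10, a12, a13, a14, a22, a20, a21, a23, a24, a33, a30, a31, a32, a34, a44, a40, a41, a42, a43, wN01, wN02, wN12, wN03, wN13, wN23, wN04, wN14, wN24, wN34, e0, e1, e2, e3, e4, d01, d02, d12, d03, d13, d23, d04, d14, d24, d34⟩ := d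
  obtain rfl : x01 = 1 := hx01.trans h01
  obtain rfl : x10 = 1 := hx10.trans h10
  obtain rfl : x02 = 0 := hx02.trans h02
  obtain rfl : x20 = 0 := hx20.trans h20
  obtain rfl : x12 = 2 := hx12.trans h12
  obtain rfl : x21 = 1 := hx21.trans h21
  obtain rfl : x03 = 0 := hx03.trans h03
  obtain rfl : x30 = 0 := hx30.trans h30
  obtain rfl : x13 = 0 := hx13.trans h13
  obtain rfl : x31 = 0 := hx31.trans h31
  rcases d23 with ⟨rfl, rfl⟩ | ⟨rfl, rfl⟩ | ⟨rfl, rfl⟩ | ⟨rfl, rfl⟩ | ⟨rfl, rfl⟩ | ⟨rfl, rfl⟩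
  · -- 23=(0,0)
    rcases d04 with ⟨rfl, rfl⟩ | ⟨rfl, rfl⟩ | ⟨rfl, rfl⟩ | ⟨rfl, rfl⟩ | ⟨rfl, rfl⟩ | ⟨rfl, rfl⟩
    · -- 04=(0,0)
      rcases d14 with ⟨rfl, rfl⟩ | ⟨rfl, rfl⟩ | ⟨rfl, rfl⟩ | ⟨rfl, rfl⟩ | ⟨rfl, rfl⟩ | ⟨rfl, rfl⟩
      · -- 14=(0,0)
        rcases d24 with ⟨rfl, rfl⟩ | ⟨rfl, rfl⟩ | ⟨rfl, rfl⟩ | ⟨rfl, rfl⟩ | ⟨rfl, rfl⟩ | ⟨rfl, rfl⟩
        · -- 24=(0,0)
          rcases d34 with ⟨rfl, rfl⟩ | ⟨rfl, rfl⟩ | ⟨rfl, rfl⟩ | ⟨rfl, rfl⟩ | ⟨rfl, rfl⟩ | ⟨rfl, rfl⟩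
          · -- 34=(0,0)
            exfalso; omega
          · -- 34=(1,1)
            exfalso; omega
          · -- 34=(1,2)
            exfalso; omega
          · -- 34=(2,1)
            exfalso; omega
          · -- 34=(1,3)
            exfalso; omega
          · -- 34=(3,1)
            exfalso; omega
        · -- 24=(1,1)
          rcases d34 with ⟨rfl, rfl⟩ | ⟨rfl, rfl⟩ | ⟨rfl, rfl⟩ | ⟨rfl, rfl⟩ | ⟨rfl, rfl⟩ | ⟨rfl, rfl⟩
          · -- 34=(0,0)
            exfalso; omega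
          · -- 34=(1,1)
            refine ⟨(⟨![3, 4, 2, 1, 0], ![4, 3, 2, 0, 1], by decide, by decide⟩ : Equiv.Perm (Fin 5)), T.m 3, T.w 1, Or.inr (Or.inr (Or.inl ?_))⟩
            show T.m 3 = T.m 3 ∧ T.m 4 = 2 * T.m 3 ∧ T.m 2 = 3 * T.m 3 ∧ T.m 1 = 4 * T.m 3 ∧ T.m 0 = 2 * T.m 3 ∧ T.w 3 = 2 * T.w 1 ∧ T.w 4 = 2 * T.w 1 ∧ T.w 2 = 2 * T.w 1 ∧ T.w 1 = T.w 1 ∧ T.w 0 = T.w 1 ∧ T.a 3 3 = -4 * T.w 1 ∧ T.a 3 4 = 2 * T.w 1 ∧ T.a 3 2 = 0 ∧ T.a 3 1 = 0 ∧ T.a 3 0 = 0 ∧ T.a 4 4 = -4 * T.w 1 ∧ T.a 4 2 = 2 * T.w 1 ∧ T.a 4 1 = 0 ∧ T.a 4 0 = 0 ∧ T.a 2 2 = -4 * T.w 1 ∧ T.a 2 1 = 2 * T.w 1 ∧ T.a 2 0 = 0 ∧ T.a 1 1 = -2 * T.w 1 ∧ T.a 1 0 = T.w 1 ∧ T.a 0 0 = -2 * T.w 1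
            refine ⟨?_, ?_, ?_, ?_, ?_, ?_, ?_, ?_, ?_, ?_, ?_, ?_, ?_, ?_, ?_, ?_, ?_, ?_, ?_, ?_, ?_, ?_, ?_, ?_, ?_⟩ <;> omega
          · -- 34=(1,2)
            exact False.elim (cert_false T ((skipEmb 0).trans (Function.Embedding.refl _)) (by norm_num) (fun _ => hall _) (((((((LB_zero T ((skipEmb 0).trans (Function.Embedding.refl _))).upd 0 1 2 (le_of_eq hx12)).upd 1 0 1 (le_of_eq hx21)).upd 1 3 1 (le_of_eq hx24)).upd 2 3 1 (le_of_eq hx34)).upd 3 1 1 (le_of_eq hx42)).upd 3 2 2 (le_of_eq hx43)) ![2,2,1,2] (by decide) (by decide) 0 (by decide))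
          · -- 34=(2,1)
            exact False.elim (cert_false T ((skipEmb 0).trans (Function.Embedding.refl _)) (by norm_num) (fun _ => hall _) (((((((LB_zero T ((skipEmb 0).trans (Function.Embedding.refl _))).upd 0 1 2 (le_of_eq hx12)).upd 1 0 1 (le_of_eq hx21)).upd 1 3 1 (le_of_eq hx24)).upd 2 3 2 (le_of_eq hx34)).upd 3 1 1 (le_of_eq hx42)).upd 3 2 1 (le_of_eq hx43)) ![1,1,1,1] (by decide) (by decide) 0 (by decide))
          · -- 34=(1,3)
            exact False.elim (cert_false T ((skipEmb 1).trans (Function.Embedding.refl _)) (by norm_num) (fun _ => hall _) (((((LB_zero T ((skipEmb 1).trans (Function.Embedding.refl _))).upd 1 3 1 (le_of_eq hx24)).upd 2 3 1 (le_of_eq hx34)).upd 3 1 1 (le_of_eq hx42)).upd 3 2 3 (le_of_eq hx43)) ![0,1,1,2] (by decide) (by decide) 1 (by decide))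
          · -- 34=(3,1)
            exact False.elim (cert_false T ((skipEmb 1).trans (Function.Embedding.refl _)) (by norm_num) (fun _ => hall _) (((((LB_zero T ((skipEmb 1).trans (Function.Embedding.refl _))).upd 1 3 1 (le_of_eq hx24)).upd 2 3 3 (le_of_eq hx34)).upd 3 1 1 (le_of_eq hx42)).upd 3 2 1 (le_of_eq hx43)) ![0,1,3,2] (by decide) (by decide) 1 (by decide))
        · -- 24=(1,2)
          exact False.elim (cert_false T ((skipEmb 3).trans (Function.Embedding.refl _)) (by norm_num) (fun _ => hall _) (((((LB_zero T ((skipEmb 3).trans (Function.Embedding.refl _))).upd 1 2 2 (le_of_eq hx12)).upd 2 1 1 (le_of_eq hx21)).upd 2 3 1 (le_of_eq hx24)).upd 3 2 2 (le_of_eq hx42)) ![0,1,1,1] (by decide) (by decide) 1 (by decide))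
        · -- 24=(2,1)
          exact False.elim (cert_false T ((skipEmb 3).trans (Function.Embedding.refl _)) (by norm_num) (fun _ => hall _) (((((LB_zero T ((skipEmb 3).trans (Function.Embedding.refl _))).upd 1 2 2 (le_of_eq hx12)).upd 2 1 1 (le_of_eq hx21)).upd 2 3 2 (le_of_eq hx24)).upd 3 2 1 (le_of_eq hx42)) ![0,2,2,1] (by decide) (by decide) 1 (by decide))
        · -- 24=(1,3)
          exact False.elim (cert_false T ((skipEmb 3).trans (Function.Embedding.refl _)) (by norm_num) (fun _ => hall _) (((((LB_zero T ((skipEmb 3).trans (Function.Embedding.refl _))).upd 1 2 2 (le_of_eq hx12)).upd 2 1 1 (le_of_eq hx21)).upd 2 3 1 (le_of_eq hx24)).upd 3 2 3 (le_of_eq hx42)) ![0,1,1,1] (by decide) (by decide) 1 (by decide))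
        · -- 24=(3,1)
          exact False.elim (cert_false T ((skipEmb 3).trans (Function.Embedding.refl _)) (by norm_num) (fun _ => hall _) (((((LB_zero T ((skipEmb 3).trans (Function.Embedding.refl _))).upd 1 2 2 (le_of_eq hx12)).upd 2 1 1 (le_of_eq hx21)).upd 2 3 3 (le_of_eq hx24)).upd 3 2 1 (le_of_eq hx42)) ![0,1,2,1] (by decide) (by decide) 1 (by decide))
      · -- 14=(1,1)
        exact False.elim (cert_false T ((skipEmb 3).trans (Function.Embedding.refl _)) (by norm_num) (fun _ => hall _) (((((((LB_zero T ((skipEmb 3).trans (Function.Embedding.refl _))).upd 0 1 1 (le_of_eq hx01)).upd 1 0 1 (le_of_eq hx10)).upd 1 2 2 (le_of_eq hx12)).upd 1 3 1 (le_of_eq hx14)).upd 2 1 1 (le_of_eq hx21)).upd 3 1 1 (le_of_eq hx41)) ![1,2,1,1] (by decide) (by decide) 0 (by decide))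
      · -- 14=(1,2)
        exact False.elim (cert_false T ((skipEmb 3).trans (Function.Embedding.refl _)) (by norm_num) (fun _ => hall _) (((((LB_zero T ((skipEmb 3).trans (Function.Embedding.refl _))).upd 1 2 2 (le_of_eq hx12)).upd 1 3 1 (le_of_eq hx14)).upd 2 1 1 (le_of_eq hx21)).upd 3 1 2 (le_of_eq hx41)) ![0,2,1,2] (by decide) (by decide) 1 (by decide))
      · -- 14=(2,1)
        exact False.elim (cert_false T ((skipEmb 3).trans (Function.Embedding.refl _)) (by norm_num) (fun _ => hall _) (((((LB_zero T ((skipEmb 3).trans (Function.Embedding.refl _))).upd 1 2 2 (le_of_eq hx12)).upd 1 3 2 (le_of_eq hx14)).upd 2 1 1 (le_of_eq hx21)).upd 3 1 1 (le_of_eq hx41)) ![0,2,1,1] (by decide) (by decide) 1 (by decide))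
      · -- 14=(1,3)
        exact False.elim (cert_false T ((skipEmb 3).trans (Function.Embedding.refl _)) (by norm_num) (fun _ => hall _) (((((LB_zero T ((skipEmb 3).trans (Function.Embedding.refl _))).upd 1 2 2 (le_of_eq hx12)).upd 1 3 1 (le_of_eq hx14)).upd 2 1 1 (le_of_eq hx21)).upd 3 1 3 (le_of_eq hx41)) ![0,2,1,2] (by decide) (by decide) 1 (by decide))
      · -- 14=(3,1)
        exact False.elim (cert_false T ((skipEmb 3).trans (Function.Embedding.refl _)) (by norm_num) (fun _ => hall _) (((((LB_zero T ((skipEmb 3).trans (Function.Embedding.refl _))).upd 1 2 2 (le_of_eq hx12)).upd 1 3 3 (le_of_eq hx14)).upd 2 1 1 (le_of_eq hx21)).upd 3 1 1 (le_of_eq hx41)) ![0,2,1,1] (by decide) (by decide) 1 (by decide))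
    · -- 04=(1,1)
      rcases d14 with ⟨rfl, rfl⟩ | ⟨rfl, rfl⟩ | ⟨rfl, rfl⟩ | ⟨rfl, rfl⟩ | ⟨rfl, rfl⟩ | ⟨rfl, rfl⟩
      · -- 14=(0,0)
        rcases d24 with ⟨rfl, rfl⟩ | ⟨rfl, rfl⟩ | ⟨rfl, rfl⟩ | ⟨rfl, rfl⟩ | ⟨rfl, rfl⟩ | ⟨rfl, rfl⟩
        · -- 24=(0,0)
          rcases d34 with ⟨rfl, rfl⟩ | ⟨rfl, rfl⟩ | ⟨rfl, rfl⟩ | ⟨rfl, rfl⟩ | ⟨rfl, rfl⟩ | ⟨rfl, rfl⟩
          · -- 34=(0,0)
            exfalso; omega
          · -- 34=(1,1)
            exfalso; omega
          · -- 34=(1,2)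
            refine ⟨(⟨![2, 1, 0, 4, 3], ![2, 1, 0, 4, 3], by decide, by decide⟩ : Equiv.Perm (Fin 5)), T.m 2, T.w 1, Or.inr (Or.inr (Or.inr (Or.inr (Or.inr (Or.inl ?_)))))⟩
            show T.m 2 = T.m 2 ∧ T.m 1 = 2 * T.m 2 ∧ T.m 0 = 2 * T.m 2 ∧ T.m 4 = 2 * T.m 2 ∧ T.m 3 = T.m 2 ∧ T.w 2 = 2 * T.w 1 ∧ T.w 1 = T.w 1 ∧ T.w 0 = T.w 1 ∧ T.w 4 = T.w 1 ∧ T.w 3 = 2 * T.w 1 ∧ T.a 2 2 = -4 * T.w 1 ∧ T.a 2 1 = 2 * T.w 1 ∧ T.a 2 0 = 0 ∧ T.a 2 4 = 0 ∧ T.a 2 3 = 0 ∧ T.a 1 1 = -2 * T.w 1 ∧ T.a 1 0 = T.w 1 ∧ T.a 1 4 = 0 ∧ T.a 1 3 = 0 ∧ T.a 0 0 = -2 * T.w 1 ∧ T.a 0 4 = T.w 1 ∧ T.a 0 3 = 0 ∧ T.a 4 4 = -2 * T.w 1 ∧ T.a 4 3 = 2 * T.w 1 ∧ T.a 3 3 = -4 * T.w 1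
            refine ⟨?_, ?_, ?_, ?_, ?_, ?_, ?_, ?_, ?_, ?_, ?_, ?_, ?_, ?_, ?_, ?_, ?_, ?_, ?_, ?_, ?_, ?_, ?_, ?_, ?_⟩ <;> omega
          · -- 34=(2,1)
            refine ⟨(⟨![3, 4, 0, 1, 2], ![2, 3, 4, 0, 1], by decide, by decide⟩ : Equiv.Perm (Fin 5)), T.m 2, T.w 3, Or.inr (Or.inr (Or.inr (Or.inl ?_)))⟩
            show T.m 3 = 2 * T.m 2 ∧ T.m 4 = 2 * T.m 2 ∧ T.m 0 = 2 * T.m 2 ∧ T.m 1 = 2 * T.m 2 ∧ T.m 2 = T.m 2 ∧ T.w 3 = T.w 3 ∧ T.w 4 = 2 * T.w 3 ∧ T.w 0 = 2 * T.w 3 ∧ T.w 1 = 2 * T.w 3 ∧ T.w 2 = 4 * T.w 3 ∧ T.a 3 3 = -2 * T.w 3 ∧ T.a 3 4 = 2 * T.w 3 ∧ T.a 3 0 = 0 ∧ T.a 3 1 = 0 ∧ T.a 3 2 = 0 ∧ T.a 4 4 = -4 * T.w 3 ∧ T.a 4 0 = 2 * T.w 3 ∧ T.a 4 1 = 0 ∧ T.a 4 2 = 0 ∧ T.a 0 0 = -4 * T.w 3 ∧ T.a 0 1 = 2 * T.w 3 ∧ T.a 0 2 = 0 ∧ T.a 1 1 = -4 * T.w 3 ∧ T.a 1 2 = 4 * T.w 3 ∧ T.a 2 2 = -8 * T.w 3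
            refine ⟨?_, ?_, ?_, ?_, ?_, ?_, ?_, ?_, ?_, ?_, ?_, ?_, ?_, ?_, ?_, ?_, ?_, ?_, ?_, ?_, ?_, ?_, ?_, ?_, ?_⟩ <;> omega
          · -- 34=(1,3)
            exact False.elim (cert_false T ((skipEmb 2).trans (Function.Embedding.refl _)) (by norm_num) (fun _ => hall _) (((((LB_zero T ((skipEmb 2).trans (Function.Embedding.refl _))).upd 0 3 1 (le_of_eq hx04)).upd 2 3 1 (le_of_eq hx34)).upd 3 0 1 (le_of_eq hx40)).upd 3 2 3 (le_of_eq hx43)) ![1,0,1,2] (by decide) (by decide) 0 (by decide))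
          · -- 34=(3,1)
            exact False.elim (cert_false T ((skipEmb 2).trans (Function.Embedding.refl _)) (by norm_num) (fun _ => hall _) (((((LB_zero T ((skipEmb 2).trans (Function.Embedding.refl _))).upd 0 3 1 (le_of_eq hx04)).upd 2 3 3 (le_of_eq hx34)).upd 3 0 1 (le_of_eq hx40)).upd 3 2 1 (le_of_eq hx43)) ![1,0,3,2] (by decide) (by decide) 0 (by decide))
        · -- 24=(1,1)
          exact False.elim (cert_false T ((skipEmb 3).trans (Function.Embedding.refl _)) (by norm_num) (fun _ => hall _) (((((((((LB_zero T ((skipEmb 3).trans (Function.Embedding.refl _))).upd 0 1 1 (le_of_eq hx01)).upd 0 3 1 (le_of_eq hx04)).upd 1 0 1 (le_of_eq hx10)).upd 1 2 2 (le_of_eq hx12)).upd 2 1 1 (le_of_eq hx21)).upd 2 3 1 (le_of_eq hx24)).upd 3 0 1 (le_of_eq hx40)).upd 3 2 1 (le_of_eq hx42)) ![1,1,1,1] (by decide) (by decide) 0 (by decide))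
        · -- 24=(1,2)
          exact False.elim (cert_false T ((skipEmb 3).trans (Function.Embedding.refl _)) (by norm_num) (fun _ => hall _) (((((LB_zero T ((skipEmb 3).trans (Function.Embedding.refl _))).upd 1 2 2 (le_of_eq hx12)).upd 2 1 1 (le_of_eq hx21)).upd 2 3 1 (le_of_eq hx24)).upd 3 2 2 (le_of_eq hx42)) ![0,1,1,1] (by decide) (by decide) 1 (by decide))
        · -- 24=(2,1)
          exact False.elim (cert_false T ((skipEmb 3).trans (Function.Embedding.refl _)) (by norm_num) (fun _ => hall _) (((((((((LB_zero T ((skipEmb 3).trans (Function.Embedding.refl _))).upd 0 1 1 (le_of_eq hx01)).upd 0 3 1 (le_of_eq hx04)).upd 1 0 1 (le_of_eq hx10)).upd 1 2 2 (le_of_eq hx12)).upd 2 1 1 (le_of_eq hx21)).upd 2 3 2 (le_of_eq hx24)).upd 3 0 1 (le_of_eq hx40)).upd 3 2 1 (le_of_eq hx42)) ![1,1,1,1] (by decide) (by decide) 0 (by decide))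
        · -- 24=(1,3)
          exact False.elim (cert_false T ((skipEmb 3).trans (Function.Embedding.refl _)) (by norm_num) (fun _ => hall _) (((((LB_zero T ((skipEmb 3).trans (Function.Embedding.refl _))).upd 1 2 2 (le_of_eq hx12)).upd 2 1 1 (le_of_eq hx21)).upd 2 3 1 (le_of_eq hx24)).upd 3 2 3 (le_of_eq hx42)) ![0,1,1,1] (by decide) (by decide) 1 (by decide))
        · -- 24=(3,1)
          exact False.elim (cert_false T ((skipEmb 3).trans (Function.Embedding.refl _)) (by norm_num) (fun _ => hall _) (((((((((LB_zero T ((skipEmb 3).trans (Function.Embedding.refl _))).upd 0 1 1 (le_of_eq hx01)).upd 0 3 1 (le_of_eq hx04)).upd 1 0 1 (le_of_eq hx10)).upd 1 2 2 (le_of_eq hx12)).upd 2 1 1 (le_of_eq hx21)).upd 2 3 3 (le_of_eq hx24)).upd 3 0 1 (le_of_eq hx40)).upd 3 2 1 (le_of_eq hx42)) ![1,1,1,1] (by decide) (by decide) 0 (by decide))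
      · -- 14=(1,1)
        exact False.elim (cert_false T ((skipEmb 3).trans (Function.Embedding.refl _)) (by norm_num) (fun _ => hall _) (((((((LB_zero T ((skipEmb 3).trans (Function.Embedding.refl _))).upd 0 1 1 (le_of_eq hx01)).upd 0 3 1 (le_of_eq hx04)).upd 1 0 1 (le_of_eq hx10)).upd 1 3 1 (le_of_eq hx14)).upd 3 0 1 (le_of_eq hx40)).upd 3 1 1 (le_of_eq hx41)) ![1,1,0,1] (by decide) (by decide) 0 (by decide))
      · -- 14=(1,2)
        exact False.elim (cert_false T ((skipEmb 3).trans (Function.Embedding.refl _)) (by norm_num) (fun _ => hall _) (((((((LB_zero T ((skipEmb 3).trans (Function.Embedding.refl _))).upd 0 1 1 (le_of_eq hx01)).upd 0 3 1 (le_of_eq hx04)).upd 1 0 1 (le_of_eq hx10)).upd 1 3 1 (le_of_eq hx14)).upd 3 0 1 (le_of_eq hx40)).upd 3 1 2 (le_of_eq hx41)) ![1,1,0,1] (by decide) (by decide) 0 (by decide))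
      · -- 14=(2,1)
        exact False.elim (cert_false T ((skipEmb 3).trans (Function.Embedding.refl _)) (by norm_num) (fun _ => hall _) (((((((LB_zero T ((skipEmb 3).trans (Function.Embedding.refl _))).upd 0 1 1 (le_of_eq hx01)).upd 0 3 1 (le_of_eq hx04)).upd 1 0 1 (le_of_eq hx10)).upd 1 3 2 (le_of_eq hx14)).upd 3 0 1 (le_of_eq hx40)).upd 3 1 1 (le_of_eq hx41)) ![1,1,0,1] (by decide) (by decide) 0 (by decide))
      · -- 14=(1,3)
        exact False.elim (cert_false T ((skipEmb 3).trans (Function.Embedding.refl _)) (by norm_num) (fun _ => hall _) (((((((LB_zero T ((skipEmb 3).trans (Function.Embedding.refl _))).upd 0 1 1 (le_of_eq hx01)).upd 0 3 1 (le_of_eq hx04)).upd 1 0 1 (le_of_eq hx10)).upd 1 3 1 (le_of_eq hx14)).upd 3 0 1 (le_of_eq hx40)).upd 3 1 3 (le_of_eq hx41)) ![1,1,0,1] (by decide) (by decide) 0 (by decide))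
      · -- 14=(3,1)
        exact False.elim (cert_false T ((skipEmb 3).trans (Function.Embedding.refl _)) (by norm_num) (fun _ => hall _) (((((((LB_zero T ((skipEmb 3).trans (Function.Embedding.refl _))).upd 0 1 1 (le_of_eq hx01)).upd 0 3 1 (le_of_eq hx04)).upd 1 0 1 (le_of_eq hx10)).upd 1 3 3 (le_of_eq hx14)).upd 3 0 1 (le_of_eq hx40)).upd 3 1 1 (le_of_eq hx41)) ![1,1,0,1] (by decide) (by decide) 0 (by decide))
    · -- 04=(1,2)
      exact False.elim (cert_false T ((skipEmb 3).trans (Function.Embedding.refl _)) (by norm_num) (fun _ => hall _) (((((((LB_zero T ((skipEmb 3).trans (Function.Embedding.refl _))).upd 0 1 1 (le_of_eq hx01)).upd 0 3 1 (le_of_eq hx04)).upd 1 0 1 (le_of_eq hx10)).upd 1 2 2 (le_of_eq hx12)).upd 2 1 1 (le_of_eq hx21)).upd 3 0 2 (le_of_eq hx40)) ![2,2,1,2] (by decide) (by decide) 0 (by decide))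
    · -- 04=(2,1)
      exact False.elim (cert_false T ((skipEmb 3).trans (Function.Embedding.refl _)) (by norm_num) (fun _ => hall _) (((((((LB_zero T ((skipEmb 3).trans (Function.Embedding.refl _))).upd 0 1 1 (le_of_eq hx01)).upd 0 3 2 (le_of_eq hx04)).upd 1 0 1 (le_of_eq hx10)).upd 1 2 2 (le_of_eq hx12)).upd 2 1 1 (le_of_eq hx21)).upd 3 0 1 (le_of_eq hx40)) ![2,2,1,1] (by decide) (by decide) 0 (by decide))
    · -- 04=(1,3)
      exact False.elim (cert_false T ((skipEmb 3).trans (Function.Embedding.refl _)) (by norm_num) (fun _ => hall _) (((((((LB_zero T ((skipEmb 3).trans (Function.Embedding.refl _))).upd 0 1 1 (le_of_eq hx01)).upd 0 3 1 (le_of_eq hx04)).upd 1 0 1 (le_of_eq hx10)).upd 1 2 2 (le_of_eq hx12)).upd 2 1 1 (le_of_eq hx21)).upd 3 0 3 (le_of_eq hx40)) ![2,2,1,2] (by decide) (by decide) 0 (by decide))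
    · -- 04=(3,1)
      exact False.elim (cert_false T ((skipEmb 3).trans (Function.Embedding.refl _)) (by norm_num) (fun _ => hall _) (((((LB_zero T ((skipEmb 3).trans (Function.Embedding.refl _))).upd 0 1 1 (le_of_eq hx01)).upd 0 3 3 (le_of_eq hx04)).upd 1 0 1 (le_of_eq hx10)).upd 3 0 1 (le_of_eq hx40)) ![2,1,0,1] (by decide) (by decide) 0 (by decide))
  · -- 23=(1,1)
    rcases d04 with ⟨rfl, rfl⟩ | ⟨rfl, rfl⟩ | ⟨rfl, rfl⟩ | ⟨rfl, rfl⟩ | ⟨rfl, rfl⟩ | ⟨rfl, rfl⟩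
    · -- 04=(0,0)
      rcases d14 with ⟨rfl, rfl⟩ | ⟨rfl, rfl⟩ | ⟨rfl, rfl⟩ | ⟨rfl, rfl⟩ | ⟨rfl, rfl⟩ | ⟨rfl, rfl⟩
      · -- 14=(0,0)
        rcases d24 with ⟨rfl, rfl⟩ | ⟨rfl, rfl⟩ | ⟨rfl, rfl⟩ | ⟨rfl, rfl⟩ | ⟨rfl, rfl⟩ | ⟨rfl, rfl⟩
        · -- 24=(0,0)
          rcases d34 with ⟨rfl, rfl⟩ | ⟨rfl, rfl⟩ | ⟨rfl, rfl⟩ | ⟨rfl, rfl⟩ | ⟨rfl, rfl⟩ | ⟨rfl, rfl⟩
          · -- 34=(0,0)
            exfalso; omega
          · -- 34=(1,1)
            refine ⟨(⟨![4, 3, 2, 1, 0], ![4, 3, 2, 1, 0], by decide, by decide⟩ : Equiv.Perm (Fin 5)), T.m 4, T.w 1, Or.inr (Or.inr (Or.inl ?_))⟩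
            show T.m 4 = T.m 4 ∧ T.m 3 = 2 * T.m 4 ∧ T.m 2 = 3 * T.m 4 ∧ T.m 1 = 4 * T.m 4 ∧ T.m 0 = 2 * T.m 4 ∧ T.w 4 = 2 * T.w 1 ∧ T.w 3 = 2 * T.w 1 ∧ T.w 2 = 2 * T.w 1 ∧ T.w 1 = T.w 1 ∧ T.w 0 = T.w 1 ∧ T.a 4 4 = -4 * T.w 1 ∧ T.a 4 3 = 2 * T.w 1 ∧ T.a 4 2 = 0 ∧ T.a 4 1 = 0 ∧ T.a 4 0 = 0 ∧ T.a 3 3 = -4 * T.w 1 ∧ T.a 3 2 = 2 * T.w 1 ∧ T.a 3 1 = 0 ∧ T.a 3 0 = 0 ∧ T.a 2 2 = -4 * T.w 1 ∧ T.a 2 1 = 2 * T.w 1 ∧ T.a 2 0 = 0 ∧ T.a 1 1 = -2 * T.w 1 ∧ T.a 1 0 = T.w 1 ∧ T.a 0 0 = -2 * T.w 1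
            refine ⟨?_, ?_, ?_, ?_, ?_, ?_, ?_, ?_, ?_, ?_, ?_, ?_, ?_, ?_, ?_, ?_, ?_, ?_, ?_, ?_, ?_, ?_, ?_, ?_, ?_⟩ <;> omega
          · -- 34=(1,2)
            exact False.elim (cert_false T ((skipEmb 0).trans (Function.Embedding.refl _)) (by norm_num) (fun _ => hall _) (((((((LB_zero T ((skipEmb 0).trans (Function.Embedding.refl _))).upd 0 1 2 (le_of_eq hx12)).upd 1 0 1 (le_of_eq hx21)).upd 1 2 1 (le_of_eq hx23)).upd 2 1 1 (le_of_eq hx32)).upd 2 3 1 (le_of_eq hx34)).upd 3 2 2 (le_of_eq hx43)) ![1,1,1,1] (by decide) (by decide) 0 (by decide))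
          · -- 34=(2,1)
            exact False.elim (cert_false T ((skipEmb 0).trans (Function.Embedding.refl _)) (by norm_num) (fun _ => hall _) (((((((LB_zero T ((skipEmb 0).trans (Function.Embedding.refl _))).upd 0 1 2 (le_of_eq hx12)).upd 1 0 1 (le_of_eq hx21)).upd 1 2 1 (le_of_eq hx23)).upd 2 1 1 (le_of_eq hx32)).upd 2 3 2 (le_of_eq hx34)).upd 3 2 1 (le_of_eq hx43)) ![2,2,2,1] (by decide) (by decide) 0 (by decide))
          · -- 34=(1,3)
            exact False.elim (cert_false T ((skipEmb 1).trans (Function.Embedding.refl _)) (by norm_num) (fun _ => hall _) (((((LB_zero T ((skipEmb 1).trans (Function.Embedding.refl _))).upd 1 2 1 (le_of_eq hx23)).upd 2 1 1 (le_of_eq hx32)).upd 2 3 1 (le_of_eq hx34)).upd 3 2 3 (le_of_eq hx43)) ![0,1,2,3] (by decide) (by decide) 1 (by decide))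
          · -- 34=(3,1)
            exact False.elim (cert_false T ((skipEmb 1).trans (Function.Embedding.refl _)) (by norm_num) (fun _ => hall _) (((((LB_zero T ((skipEmb 1).trans (Function.Embedding.refl _))).upd 1 2 1 (le_of_eq hx23)).upd 2 1 1 (le_of_eq hx32)).upd 2 3 3 (le_of_eq hx34)).upd 3 2 1 (le_of_eq hx43)) ![0,1,2,1] (by decide) (by decide) 1 (by decide))
        · -- 24=(1,1)
          exact False.elim (cert_false T ((skipEmb 0).trans (Function.Embedding.refl _)) (by norm_num) (fun _ => hall _) (((((((LB_zero T ((skipEmb 0).trans (Function.Embedding.refl _))).upd 0 1 2 (le_of_eq hx12)).upd 1 0 1 (le_of_eq hx21)).upd 1 2 1 (le_of_eq hx23)).upd 1 3 1 (le_of_eq hx24)).upd 2 1 1 (le_of_eq hx32)).upd 3 1 1 (le_of_eq hx42)) ![2,2,1,1] (by decide) (by decide) 0 (by decide))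
        · -- 24=(1,2)
          exact False.elim (cert_false T ((skipEmb 3).trans (Function.Embedding.refl _)) (by norm_num) (fun _ => hall _) (((((LB_zero T ((skipEmb 3).trans (Function.Embedding.refl _))).upd 1 2 2 (le_of_eq hx12)).upd 2 1 1 (le_of_eq hx21)).upd 2 3 1 (le_of_eq hx24)).upd 3 2 2 (le_of_eq hx42)) ![0,1,1,1] (by decide) (by decide) 1 (by decide))
        · -- 24=(2,1)
          exact False.elim (cert_false T ((skipEmb 3).trans (Function.Embedding.refl _)) (by norm_num) (fun _ => hall _) (((((LB_zero T ((skipEmb 3).trans (Function.Embedding.refl _))).upd 1 2 2 (le_of_eq hx12)).upd 2 1 1 (le_of_eq hx21)).upd 2 3 2 (le_of_eq hx24)).upd 3 2 1 (le_of_eq hx42)) ![0,2,2,1] (by decide) (by decide) 1 (by decide))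
        · -- 24=(1,3)
          exact False.elim (cert_false T ((skipEmb 3).trans (Function.Embedding.refl _)) (by norm_num) (fun _ => hall _) (((((LB_zero T ((skipEmb 3).trans (Function.Embedding.refl _))).upd 1 2 2 (le_of_eq hx12)).upd 2 1 1 (le_of_eq hx21)).upd 2 3 1 (le_of_eq hx24)).upd 3 2 3 (le_of_eq hx42)) ![0,1,1,1] (by decide) (by decide) 1 (by decide))
        · -- 24=(3,1)
          exact False.elim (cert_false T ((skipEmb 3).trans (Function.Embedding.refl _)) (by norm_num) (fun _ => hall _) (((((LB_zero T ((skipEmb 3).trans (Function.Embedding.refl _))).upd 1 2 2 (le_of_eq hx12)).upd 2 1 1 (le_of_eq hx21)).upd 2 3 3 (le_of_eq hx24)).upd 3 2 1 (le_of_eq hx42)) ![0,1,2,1] (by decide) (by decide) 1 (by decide))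
      · -- 14=(1,1)
        exact False.elim (cert_false T ((skipEmb 3).trans (Function.Embedding.refl _)) (by norm_num) (fun _ => hall _) (((((((LB_zero T ((skipEmb 3).trans (Function.Embedding.refl _))).upd 0 1 1 (le_of_eq hx01)).upd 1 0 1 (le_of_eq hx10)).upd 1 2 2 (le_of_eq hx12)).upd 1 3 1 (le_of_eq hx14)).upd 2 1 1 (le_of_eq hx21)).upd 3 1 1 (le_of_eq hx41)) ![1,2,1,1] (by decide) (by decide) 0 (by decide))
      · -- 14=(1,2)
        exact False.elim (cert_false T ((skipEmb 3).trans (Function.Embedding.refl _)) (by norm_num) (fun _ => hall _) (((((LB_zero T ((skipEmb 3).trans (Function.Embedding.refl _))).upd 1 2 2 (le_of_eq hx12)).upd 1 3 1 (le_of_eq hx14)).upd 2 1 1 (le_of_eq hx21)).upd 3 1 2 (le_of_eq hx41)) ![0,2,1,2] (by decide) (by decide) 1 (by decide))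
      · -- 14=(2,1)
        exact False.elim (cert_false T ((skipEmb 3).trans (Function.Embedding.refl _)) (by norm_num) (fun _ => hall _) (((((LB_zero T ((skipEmb 3).trans (Function.Embedding.refl _))).upd 1 2 2 (le_of_eq hx12)).upd 1 3 2 (le_of_eq hx14)).upd 2 1 1 (le_of_eq hx21)).upd 3 1 1 (le_of_eq hx41)) ![0,2,1,1] (by decide) (by decide) 1 (by decide))
      · -- 14=(1,3)
        exact False.elim (cert_false T ((skipEmb 3).trans (Function.Embedding.refl _)) (by norm_num) (fun _ => hall _) (((((LB_zero T ((skipEmb 3).trans (Function.Embedding.refl _))).upd 1 2 2 (le_of_eq hx12)).upd 1 3 1 (le_of_eq hx14)).upd 2 1 1 (le_of_eq hx21)).upd 3 1 3 (le_of_eq hx41)) ![0,2,1,2] (by decide) (by decide) 1 (by decide))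
      · -- 14=(3,1)
        exact False.elim (cert_false T ((skipEmb 3).trans (Function.Embedding.refl _)) (by norm_num) (fun _ => hall _) (((((LB_zero T ((skipEmb 3).trans (Function.Embedding.refl _))).upd 1 2 2 (le_of_eq hx12)).upd 1 3 3 (le_of_eq hx14)).upd 2 1 1 (le_of_eq hx21)).upd 3 1 1 (le_of_eq hx41)) ![0,2,1,1] (by decide) (by decide) 1 (by decide))
    · -- 04=(1,1)
      rcases d14 with ⟨rfl, rfl⟩ | ⟨rfl, rfl⟩ | ⟨rfl, rfl⟩ | ⟨rfl, rfl⟩ | ⟨rfl, rfl⟩ | ⟨rfl, rfl⟩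
      · -- 14=(0,0)
        rcases d24 with ⟨rfl, rfl⟩ | ⟨rfl, rfl⟩ | ⟨rfl, rfl⟩ | ⟨rfl, rfl⟩ | ⟨rfl, rfl⟩ | ⟨rfl, rfl⟩
        · -- 24=(0,0)
          rcases d34 with ⟨rfl, rfl⟩ | ⟨rfl, rfl⟩ | ⟨rfl, rfl⟩ | ⟨rfl, rfl⟩ | ⟨rfl, rfl⟩ | ⟨rfl, rfl⟩
          · -- 34=(0,0)
            refine ⟨(⟨![4, 0, 1, 2, 3], ![1, 2, 3, 4, 0], by decide, by decide⟩ : Equiv.Perm (Fin 5)), T.m 4, T.w 4, Or.inr (Or.inl ?_)⟩
            show T.m 4 = T.m 4 ∧ T.m 0 = 2 * T.m 4 ∧ T.m 1 = 3 * T.m 4 ∧ T.m 2 = 2 * T.m 4 ∧ T.m 3 = T.m 4 ∧ T.w 4 = T.w 4 ∧ T.w 0 = T.w 4 ∧ T.w 1 = T.w 4 ∧ T.w 2 = 2 * T.w 4 ∧ T.w 3 = 2 * T.w 4 ∧ T.a 4 4 = -2 * T.w 4 ∧ T.a 4 0 = T.w 4 ∧ T.a 4 1 = 0 ∧ T.a 4 2 = 0 ∧ T.a 4 3 = 0 ∧ T.a 0 0 = -2 * T.w 4 ∧ T.a 0 1 = T.w 4 ∧ T.a 0 2 = 0 ∧ T.a 0 3 = 0 ∧ T.a 1 1 = -2 * T.w 4 ∧ T.a 1 2 = 2 * T.w 4 ∧ T.a 1 3 = 0 ∧ T.a 2 2 = -4 * T.w 4 ∧ T.a 2 3 = 2 * T.w 4 ∧ T.a 3 3 = -4 * T.w 4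
            refine ⟨?_, ?_, ?_, ?_, ?_, ?_, ?_, ?_, ?_, ?_, ?_, ?_, ?_, ?_, ?_, ?_, ?_, ?_, ?_, ?_, ?_, ?_, ?_, ?_, ?_⟩ <;> omega
          · -- 34=(1,1)
            exfalso; omega
          · -- 34=(1,2)
            exact False.elim (cert_false T ((skipEmb 0).trans (Function.Embedding.refl _)) (by norm_num) (fun _ => hall _) (((((((LB_zero T ((skipEmb 0).trans (Function.Embedding.refl _))).upd 0 1 2 (le_of_eq hx12)).upd 1 0 1 (le_of_eq hx21)).upd 1 2 1 (le_of_eq hx23)).upd 2 1 1 (le_of_eq hx32)).upd 2 3 1 (le_of_eq hx34)).upd 3 2 2 (le_of_eq hx43)) ![1,1,1,1] (by decide) (by decide) 0 (by decide))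
          · -- 34=(2,1)
            exact False.elim (cert_false T ((skipEmb 0).trans (Function.Embedding.refl _)) (by norm_num) (fun _ => hall _) (((((((LB_zero T ((skipEmb 0).trans (Function.Embedding.refl _))).upd 0 1 2 (le_of_eq hx12)).upd 1 0 1 (le_of_eq hx21)).upd 1 2 1 (le_of_eq hx23)).upd 2 1 1 (le_of_eq hx32)).upd 2 3 2 (le_of_eq hx34)).upd 3 2 1 (le_of_eq hx43)) ![2,2,2,1] (by decide) (by decide) 0 (by decide))
          · -- 34=(1,3)
            exact False.elim (cert_false T ((skipEmb 2).trans (Function.Embedding.refl _)) (by norm_num) (fun _ => hall _) (((((LB_zero T ((skipEmb 2).trans (Function.Embedding.refl _))).upd 0 3 1 (le_of_eq hx04)).upd 2 3 1 (le_of_eq hx34)).upd 3 0 1 (le_of_eq hx40)).upd 3 2 3 (le_of_eq hx43)) ![1,0,1,2] (by decide) (by decide) 0 (by decide))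
          · -- 34=(3,1)
            exact False.elim (cert_false T ((skipEmb 2).trans (Function.Embedding.refl _)) (by norm_num) (fun _ => hall _) (((((LB_zero T ((skipEmb 2).trans (Function.Embedding.refl _))).upd 0 3 1 (le_of_eq hx04)).upd 2 3 3 (le_of_eq hx34)).upd 3 0 1 (le_of_eq hx40)).upd 3 2 1 (le_of_eq hx43)) ![1,0,3,2] (by decide) (by decide) 0 (by decide))
        · -- 24=(1,1)
          exact False.elim (cert_false T ((skipEmb 3).trans (Function.Embedding.refl _)) (by norm_num) (fun _ => hall _) (((((((((LB_zero T ((skipEmb 3).trans (Function.Embedding.refl _))).upd 0 1 1 (le_of_eq hx01)).upd 0 3 1 (le_of_eq hx04)).upd 1 0 1 (le_of_eq hx10)).upd 1 2 2 (le_of_eq hx12)).upd 2 1 1 (le_of_eq hx21)).upd 2 3 1 (le_of_eq hx24)).upd 3 0 1 (le_of_eq hx40)).upd 3 2 1 (le_of_eq hx42)) ![1,1,1,1] (by decide) (by decide) 0 (by decide))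
        · -- 24=(1,2)
          exact False.elim (cert_false T ((skipEmb 3).trans (Function.Embedding.refl _)) (by norm_num) (fun _ => hall _) (((((LB_zero T ((skipEmb 3).trans (Function.Embedding.refl _))).upd 1 2 2 (le_of_eq hx12)).upd 2 1 1 (le_of_eq hx21)).upd 2 3 1 (le_of_eq hx24)).upd 3 2 2 (le_of_eq hx42)) ![0,1,1,1] (by decide) (by decide) 1 (by decide))
        · -- 24=(2,1)
          exact False.elim (cert_false T ((skipEmb 3).trans (Function.Embedding.refl _)) (by norm_num) (fun _ => hall _) (((((((((LB_zero T ((skipEmb 3).trans (Function.Embedding.refl _))).upd 0 1 1 (le_of_eq hx01)).upd 0 3 1 (le_of_eq hx04)).upd 1 0 1 (le_of_eq hx10)).upd 1 2 2 (le_of_eq hx12)).upd 2 1 1 (le_of_eq hx21)).upd 2 3 2 (le_of_eq hx24)).upd 3 0 1 (le_of_eq hx40)).upd 3 2 1 (le_of_eq hx42)) ![1,1,1,1] (by decide) (by decide) 0 (by decide))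
        · -- 24=(1,3)
          exact False.elim (cert_false T ((skipEmb 3).trans (Function.Embedding.refl _)) (by norm_num) (fun _ => hall _) (((((LB_zero T ((skipEmb 3).trans (Function.Embedding.refl _))).upd 1 2 2 (le_of_eq hx12)).upd 2 1 1 (le_of_eq hx21)).upd 2 3 1 (le_of_eq hx24)).upd 3 2 3 (le_of_eq hx42)) ![0,1,1,1] (by decide) (by decide) 1 (by decide))
        · -- 24=(3,1)
          exact False.elim (cert_false T ((skipEmb 3).trans (Function.Embedding.refl _)) (by norm_num) (fun _ => hall _) (((((((((LB_zero T ((skipEmb 3).trans (Function.Embedding.refl _))).upd 0 1 1 (le_of_eq hx01)).upd 0 3 1 (le_of_eq hx04)).upd 1 0 1 (le_of_eq hx10)).upd 1 2 2 (le_of_eq hx12)).upd 2 1 1 (le_of_eq hx21)).upd 2 3 3 (le_of_eq hx24)).upd 3 0 1 (le_of_eq hx40)).upd 3 2 1 (le_of_eq hx42)) ![1,1,1,1] (by decide) (by decide) 0 (by decide))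
      · -- 14=(1,1)
        exact False.elim (cert_false T ((skipEmb 3).trans (Function.Embedding.refl _)) (by norm_num) (fun _ => hall _) (((((((LB_zero T ((skipEmb 3).trans (Function.Embedding.refl _))).upd 0 1 1 (le_of_eq hx01)).upd 0 3 1 (le_of_eq hx04)).upd 1 0 1 (le_of_eq hx10)).upd 1 3 1 (le_of_eq hx14)).upd 3 0 1 (le_of_eq hx40)).upd 3 1 1 (le_of_eq hx41)) ![1,1,0,1] (by decide) (by decide) 0 (by decide))
      · -- 14=(1,2)
        exact False.elim (cert_false T ((skipEmb 3).trans (Function.Embedding.refl _)) (by norm_num) (fun _ => hall _) (((((((LB_zero T ((skipEmb 3).trans (Function.Embedding.refl _))).upd 0 1 1 (le_of_eq hx01)).upd 0 3 1 (le_of_eq hx04)).upd 1 0 1 (le_of_eq hx10)).upd 1 3 1 (le_of_eq hx14)).upd 3 0 1 (le_of_eq hx40)).upd 3 1 2 (le_of_eq hx41)) ![1,1,0,1] (by decide) (by decide) 0 (by decide))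
      · -- 14=(2,1)
        exact False.elim (cert_false T ((skipEmb 3).trans (Function.Embedding.refl _)) (by norm_num) (fun _ => hall _) (((((((LB_zero T ((skipEmb 3).trans (Function.Embedding.refl _))).upd 0 1 1 (le_of_eq hx01)).upd 0 3 1 (le_of_eq hx04)).upd 1 0 1 (le_of_eq hx10)).upd 1 3 2 (le_of_eq hx14)).upd 3 0 1 (le_of_eq hx40)).upd 3 1 1 (le_of_eq hx41)) ![1,1,0,1] (by decide) (by decide) 0 (by decide))
      · -- 14=(1,3)
        exact False.elim (cert_false T ((skipEmb 3).trans (Function.Embedding.refl _)) (by norm_num) (fun _ => hall _) (((((((LB_zero T ((skipEmb 3).trans (Function.Embedding.refl _))).upd 0 1 1 (le_of_eq hx01)).upd 0 3 1 (le_of_eq hx04)).upd 1 0 1 (le_of_eq hx10)).upd 1 3 1 (le_of_eq hx14)).upd 3 0 1 (le_of_eq hx40)).upd 3 1 3 (le_of_eq hx41)) ![1,1,0,1] (by decide) (by decide) 0 (by decide))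
      · -- 14=(3,1)
        exact False.elim (cert_false T ((skipEmb 3).trans (Function.Embedding.refl _)) (by norm_num) (fun _ => hall _) (((((((LB_zero T ((skipEmb 3).trans (Function.Embedding.refl _))).upd 0 1 1 (le_of_eq hx01)).upd 0 3 1 (le_of_eq hx04)).upd 1 0 1 (le_of_eq hx10)).upd 1 3 3 (le_of_eq hx14)).upd 3 0 1 (le_of_eq hx40)).upd 3 1 1 (le_of_eq hx41)) ![1,1,0,1] (by decide) (by decide) 0 (by decide))
    · -- 04=(1,2)
      exact False.elim (cert_false T ((skipEmb 3).trans (Function.Embedding.refl _)) (by norm_num) (fun _ => hall _) (((((((LB_zero T ((skipEmb 3).trans (Function.Embedding.refl _))).upd 0 1 1 (le_of_eq hx01)).upd 0 3 1 (le_of_eq hx04)).upd 1 0 1 (le_of_eq hx10)).upd 1 2 2 (le_of_eq hx12)).upd 2 1 1 (le_of_eq hx21)).upd 3 0 2 (le_of_eq hx40)) ![2,2,1,2] (by decide) (by decide) 0 (by decide))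
    · -- 04=(2,1)
      exact False.elim (cert_false T ((skipEmb 3).trans (Function.Embedding.refl _)) (by norm_num) (fun _ => hall _) (((((((LB_zero T ((skipEmb 3).trans (Function.Embedding.refl _))).upd 0 1 1 (le_of_eq hx01)).upd 0 3 2 (le_of_eq hx04)).upd 1 0 1 (le_of_eq hx10)).upd 1 2 2 (le_of_eq hx12)).upd 2 1 1 (le_of_eq hx21)).upd 3 0 1 (le_of_eq hx40)) ![2,2,1,1] (by decide) (by decide) 0 (by decide))
    · -- 04=(1,3)
      exact False.elim (cert_false T ((skipEmb 3).trans (Function.Embedding.refl _)) (by norm_num) (fun _ => hall _) (((((((LB_zero T ((skipEmb 3).trans (Function.Embedding.refl _))).upd 0 1 1 (le_of_eq hx01)).upd 0 3 1 (le_of_eq hx04)).upd 1 0 1 (le_of_eq hx10)).upd 1 2 2 (le_of_eq hx12)).upd 2 1 1 (le_of_eq hx21)).upd 3 0 3 (le_of_eq hx40)) ![2,2,1,2] (by decide) (by decide) 0 (by decide))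
    · -- 04=(3,1)
      exact False.elim (cert_false T ((skipEmb 3).trans (Function.Embedding.refl _)) (by norm_num) (fun _ => hall _) (((((LB_zero T ((skipEmb 3).trans (Function.Embedding.refl _))).upd 0 1 1 (le_of_eq hx01)).upd 0 3 3 (le_of_eq hx04)).upd 1 0 1 (le_of_eq hx10)).upd 3 0 1 (le_of_eq hx40)) ![2,1,0,1] (by decide) (by decide) 0 (by decide))
  · -- 23=(1,2)
    exact False.elim (cert_false T ((skipEmb 4).trans (Function.Embedding.refl _)) (by norm_num) (fun _ => hall _) (((((LB_zero T ((skipEmb 4).trans (Function.Embedding.refl _))).upd 1 2 2 (le_of_eq hx12)).upd 2 1 1 (le_of_eq hx21)).upd 2 3 1 (le_of_eq hx23)).upd 3 2 2 (le_of_eq hx32)) ![0,1,1,1] (by decide) (by decide) 1 (by decide))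
  · -- 23=(2,1)
    exact False.elim (cert_false T ((skipEmb 4).trans (Function.Embedding.refl _)) (by norm_num) (fun _ => hall _) (((((LB_zero T ((skipEmb 4).trans (Function.Embedding.refl _))).upd 1 2 2 (le_of_eq hx12)).upd 2 1 1 (le_of_eq hx21)).upd 2 3 2 (le_of_eq hx23)).upd 3 2 1 (le_of_eq hx32)) ![0,2,2,1] (by decide) (by decide) 1 (by decide))
  · -- 23=(1,3)
    exact False.elim (cert_false T ((skipEmb 4).trans (Function.Embedding.refl _)) (by norm_num) (fun _ => hall _) (((((LB_zero T ((skipEmb 4).trans (Function.Embedding.refl _))).upd 1 2 2 (le_of_eq hx12)).upd 2 1 1 (le_of_eq hx21)).upd 2 3 1 (le_of_eq hx23)).upd 3 2 3 (le_of_eq hx32)) ![0,1,1,1] (by decide) (by decide) 1 (by decide))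
  · -- 23=(3,1)
    exact False.elim (cert_false T ((skipEmb 4).trans (Function.Embedding.refl _)) (by norm_num) (fun _ => hall _) (((((LB_zero T ((skipEmb 4).trans (Function.Embedding.refl _))).upd 1 2 2 (le_of_eq hx12)).upd 2 1 1 (le_of_eq hx21)).upd 2 3 3 (le_of_eq hx23)).upd 3 2 1 (le_of_eq hx32)) ![0,1,2,1] (by decide) (by decide) 1 (by decide))

theorem case480 (T : NumericalType 5) (hall : ∀ i, T.IsMinusTwo i) (d : SData T)
    (h01 : N T (Function.Embedding.refl _) 0 1 = 2) (h10 : N T (Function.Embedding.refl _) 1 0 = 1)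
    (h02 : N T (Function.Embedding.refl _) 0 2 = 0) (h20 : N T (Function.Embedding.refl _) 2 0 = 0)
    (h12 : N T (Function.Embedding.refl _) 1 2 = 0) (h21 : N T (Function.Embedding.refl _) 2 1 = 0)
    (h03 : N T (Function.Embedding.refl _) 0 3 = 0) (h30 : N T (Function.Embedding.refl _) 3 0 = 0)
    (h13 : N T (Function.Embedding.refl _) 1 3 = 1) (h31 : N T (Function.Embedding.refl _) 3 1 = 1)
    (h23 : N T (Function.Embedding.refl _) 2 3 = 0) (h32 : N T (Function.Embedding.refl _) 3 2 = 0) :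
    Goal T := by
  unfold Goal
  have hd := d
  obtain ⟨x01, x02, x03, x04, x10, x12, x13, x14, x20, x21, x23, x24, x30, x31, x32, x34, x40, x41, x42, x43, hx01, hx02, hx03, hx04, hx10, hx12, hx13, hx14, hx20, hx21, hx23, hx24, hx30, hx31, hx32, hx34, hx40, hx41, hx42, hx43, hw0, hm0, hw1, hm1, hw2, hm2, hw3, hm3, hw4, hm4, a00, a01, a02, a03, a04, a11, a10, a12, a13, a14, a22, a20, a21, a23, a24, a33, a30, a31, a32, a34, a44, a40, a41, a42, a43, wN01, wN02, wN12, wN03, wN13, wN23, wN04, wN14, wN24, wN34, e0, e1, e2, e3, e4, d01, d02, d12, d03, d13, d23, d04, d14, d24, d34⟩ := d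
  obtain rfl : x01 = 2 := hx01.trans h01
  obtain rfl : x10 = 1 := hx10.trans h10
  obtain rfl : x02 = 0 := hx02.trans h02
  obtain rfl : x20 = 0 := hx20.trans h20
  obtain rfl : x12 = 0 := hx12.trans h12
  obtain rfl : x21 = 0 := hx21.trans h21
  obtain rfl : x03 = 0 := hx03.trans h03
  obtain rfl : x30 = 0 := hx30.trans h30
  obtain rfl : x13 = 1 := hx13.trans h13
  obtain rfl : x31 = 1 := hx31.trans h31
  obtain rfl : x23 = 0 := hx23.trans h23
  obtain rfl : x32 = 0 := hx32.trans h32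
  rcases d04 with ⟨rfl, rfl⟩ | ⟨rfl, rfl⟩ | ⟨rfl, rfl⟩ | ⟨rfl, rfl⟩ | ⟨rfl, rfl⟩ | ⟨rfl, rfl⟩
  · -- 04=(0,0)
    rcases d14 with ⟨rfl, rfl⟩ | ⟨rfl, rfl⟩ | ⟨rfl, rfl⟩ | ⟨rfl, rfl⟩ | ⟨rfl, rfl⟩ | ⟨rfl, rfl⟩
    · -- 14=(0,0)
      rcases d24 with ⟨rfl, rfl⟩ | ⟨rfl, rfl⟩ | ⟨rfl, rfl⟩ | ⟨rfl, rfl⟩ | ⟨rfl, rfl⟩ | ⟨rfl, rfl⟩
      · -- 24=(0,0)
        rcases d34 with ⟨rfl, rfl⟩ | ⟨rfl, rfl⟩ | ⟨rfl, rfl⟩ | ⟨rfl, rfl⟩ | ⟨rfl, rfl⟩ | ⟨rfl, rfl⟩
        · -- 34=(0,0)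
          exfalso; omega
        · -- 34=(1,1)
          exfalso; omega
        · -- 34=(1,2)
          exact False.elim (cert_false T ((skipEmb 2).trans (Function.Embedding.refl _)) (by norm_num) (fun _ => hall _) (((((((LB_zero T ((skipEmb 2).trans (Function.Embedding.refl _))).upd 0 1 2 (le_of_eq hx01)).upd 1 0 1 (le_of_eq hx10)).upd 1 2 1 (le_of_eq hx13)).upd 2 1 1 (le_of_eq hx31)).upd 2 3 1 (le_of_eq hx34)).upd 3 2 2 (le_of_eq hx43)) ![1,1,1,1] (by decide) (by decide) 0 (by decide))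
        · -- 34=(2,1)
          exact False.elim (cert_false T ((skipEmb 2).trans (Function.Embedding.refl _)) (by norm_num) (fun _ => hall _) (((((((LB_zero T ((skipEmb 2).trans (Function.Embedding.refl _))).upd 0 1 2 (le_of_eq hx01)).upd 1 0 1 (le_of_eq hx10)).upd 1 2 1 (le_of_eq hx13)).upd 2 1 1 (le_of_eq hx31)).upd 2 3 2 (le_of_eq hx34)).upd 3 2 1 (le_of_eq hx43)) ![2,2,2,1] (by decide) (by decide) 0 (by decide))
        · -- 34=(1,3)
          exact False.elim (cert_false T ((skipEmb 2).trans (Function.Embedding.refl _)) (by norm_num) (fun _ => hall _) (((((((LB_zero T ((skipEmb 2).trans (Function.Embedding.refl _))).upd 0 1 2 (le_of_eq hx01)).upd 1 0 1 (le_of_eq hx10)).upd 1 2 1 (le_of_eq hx13)).upd 2 1 1 (le_of_eq hx31)).upd 2 3 1 (le_of_eq hx34)).upd 3 2 3 (le_of_eq hx43)) ![1,1,1,1] (by decide) (by decide) 0 (by decide))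
        · -- 34=(3,1)
          exact False.elim (cert_false T ((skipEmb 2).trans (Function.Embedding.refl _)) (by norm_num) (fun _ => hall _) (((((LB_zero T ((skipEmb 2).trans (Function.Embedding.refl _))).upd 1 2 1 (le_of_eq hx13)).upd 2 1 1 (le_of_eq hx31)).upd 2 3 3 (le_of_eq hx34)).upd 3 2 1 (le_of_eq hx43)) ![0,1,2,1] (by decide) (by decide) 1 (by decide))
      · -- 24=(1,1)
        rcases d34 with ⟨rfl, rfl⟩ | ⟨rfl, rfl⟩ | ⟨rfl, rfl⟩ | ⟨rfl, rfl⟩ | ⟨rfl, rfl⟩ | ⟨rfl, rfl⟩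
        · -- 34=(0,0)
          exfalso; omega
        · -- 34=(1,1)
          exfalso; omega
        · -- 34=(1,2)
          exact False.elim (cert_false T ((skipEmb 2).trans (Function.Embedding.refl _)) (by norm_num) (fun _ => hall _) (((((((LB_zero T ((skipEmb 2).trans (Function.Embedding.refl _))).upd 0 1 2 (le_of_eq hx01)).upd 1 0 1 (le_of_eq hx10)).upd 1 2 1 (le_of_eq hx13)).upd 2 1 1 (le_of_eq hx31)).upd 2 3 1 (le_of_eq hx34)).upd 3 2 2 (le_of_eq hx43)) ![1,1,1,1] (by decide) (by decide) 0 (by decide))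
        · -- 34=(2,1)
          exact False.elim (cert_false T ((skipEmb 2).trans (Function.Embedding.refl _)) (by norm_num) (fun _ => hall _) (((((((LB_zero T ((skipEmb 2).trans (Function.Embedding.refl _))).upd 0 1 2 (le_of_eq hx01)).upd 1 0 1 (le_of_eq hx10)).upd 1 2 1 (le_of_eq hx13)).upd 2 1 1 (le_of_eq hx31)).upd 2 3 2 (le_of_eq hx34)).upd 3 2 1 (le_of_eq hx43)) ![2,2,2,1] (by decide) (by decide) 0 (by decide))
        · -- 34=(1,3)
          exact False.elim (cert_false T ((skipEmb 2).trans (Function.Embedding.refl _)) (by norm_num) (fun _ => hall _) (((((((LB_zero T ((skipEmb 2).trans (Function.Embedding.refl _))).upd 0 1 2 (le_of_eq hx01)).upd 1 0 1 (le_of_eq hx10)).upd 1 2 1 (le_of_eq hx13)).upd 2 1 1 (le_of_eq hx31)).upd 2 3 1 (le_of_eq hx34)).upd 3 2 3 (le_of_eq hx43)) ![1,1,1,1] (by decide) (by decide) 0 (by decide))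
        · -- 34=(3,1)
          exact False.elim (cert_false T ((skipEmb 2).trans (Function.Embedding.refl _)) (by norm_num) (fun _ => hall _) (((((LB_zero T ((skipEmb 2).trans (Function.Embedding.refl _))).upd 1 2 1 (le_of_eq hx13)).upd 2 1 1 (le_of_eq hx31)).upd 2 3 3 (le_of_eq hx34)).upd 3 2 1 (le_of_eq hx43)) ![0,1,2,1] (by decide) (by decide) 1 (by decide))
      · -- 24=(1,2)
        rcases d34 with ⟨rfl, rfl⟩ | ⟨rfl, rfl⟩ | ⟨rfl, rfl⟩ | ⟨rfl, rfl⟩ | ⟨rfl, rfl⟩ | ⟨rfl, rfl⟩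
        · -- 34=(0,0)
          exfalso; omega
        · -- 34=(1,1)
          refine ⟨(⟨![0, 1, 3, 4, 2], ![0, 1, 4, 2, 3], by decide, by decide⟩ : Equiv.Perm (Fin 5)), T.m 2, T.w 0, Or.inr (Or.inr (Or.inr (Or.inl ?_)))⟩
          show T.m 0 = 2 * T.m 2 ∧ T.m 1 = 2 * T.m 2 ∧ T.m 3 = 2 * T.m 2 ∧ T.m 4 = 2 * T.m 2 ∧ T.m 2 = T.m 2 ∧ T.w 0 = T.w 0 ∧ T.w 1 = 2 * T.w 0 ∧ T.w 3 = 2 * T.w 0 ∧ T.w 4 = 2 * T.w 0 ∧ T.w 2 = 4 * T.w 0 ∧ T.a 0 0 = -2 * T.w 0 ∧ T.a 0 1 = 2 * T.w 0 ∧ T.a 0 3 = 0 ∧ T.a 0 4 = 0 ∧ T.a 0 2 = 0 ∧ T.a 1 1 = -4 * T.w 0 ∧ T.a 1 3 = 2 * T.w 0 ∧ T.a 1 4 = 0 ∧ T.a 1 2 = 0 ∧ T.a 3 3 = -4 * T.w 0 ∧ T.a 3 4 = 2 * T.w 0 ∧ T.a 3 2 = 0 ∧ T.a 4 4 = -4 * T.w 0 ∧ T.a 4 2 = 4 * T.w 0 ∧ T.a 2 2 = -8 * T.w 0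
          refine ⟨?_, ?_, ?_, ?_, ?_, ?_, ?_, ?_, ?_, ?_, ?_, ?_, ?_, ?_, ?_, ?_, ?_, ?_, ?_, ?_, ?_, ?_, ?_, ?_, ?_⟩ <;> omega
        · -- 34=(1,2)
          exact False.elim (cert_false T ((skipEmb 2).trans (Function.Embedding.refl _)) (by norm_num) (fun _ => hall _) (((((((LB_zero T ((skipEmb 2).trans (Function.Embedding.refl _))).upd 0 1 2 (le_of_eq hx01)).upd 1 0 1 (le_of_eq hx10)).upd 1 2 1 (le_of_eq hx13)).upd 2 1 1 (le_of_eq hx31)).upd 2 3 1 (le_of_eq hx34)).upd 3 2 2 (le_of_eq hx43)) ![1,1,1,1] (by decide) (by decide) 0 (by decide))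
        · -- 34=(2,1)
          exact False.elim (cert_false T ((skipEmb 2).trans (Function.Embedding.refl _)) (by norm_num) (fun _ => hall _) (((((((LB_zero T ((skipEmb 2).trans (Function.Embedding.refl _))).upd 0 1 2 (le_of_eq hx01)).upd 1 0 1 (le_of_eq hx10)).upd 1 2 1 (le_of_eq hx13)).upd 2 1 1 (le_of_eq hx31)).upd 2 3 2 (le_of_eq hx34)).upd 3 2 1 (le_of_eq hx43)) ![2,2,2,1] (by decide) (by decide) 0 (by decide))
        · -- 34=(1,3)
          exact False.elim (cert_false T ((skipEmb 2).trans (Function.Embedding.refl _)) (by norm_num) (fun _ => hall _) (((((((LB_zero T ((skipEmb 2).trans (Function.Embedding.refl _))).upd 0 1 2 (le_of_eq hx01)).upd 1 0 1 (le_of_eq hx10)).upd 1 2 1 (le_of_eq hx13)).upd 2 1 1 (le_of_eq hx31)).upd 2 3 1 (le_of_eq hx34)).upd 3 2 3 (le_of_eq hx43)) ![1,1,1,1] (by decide) (by decide) 0 (by decide))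
        · -- 34=(3,1)
          exact False.elim (cert_false T ((skipEmb 2).trans (Function.Embedding.refl _)) (by norm_num) (fun _ => hall _) (((((LB_zero T ((skipEmb 2).trans (Function.Embedding.refl _))).upd 1 2 1 (le_of_eq hx13)).upd 2 1 1 (le_of_eq hx31)).upd 2 3 3 (le_of_eq hx34)).upd 3 2 1 (le_of_eq hx43)) ![0,1,2,1] (by decide) (by decide) 1 (by decide))
      · -- 24=(2,1)
        rcases d34 with ⟨rfl, rfl⟩ | ⟨rfl, rfl⟩ | ⟨rfl, rfl⟩ | ⟨rfl, rfl⟩ | ⟨rfl, rfl⟩ | ⟨rfl, rfl⟩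
        · -- 34=(0,0)
          exfalso; omega
        · -- 34=(1,1)
          refine ⟨(⟨![0, 1, 3, 4, 2], ![0, 1, 4, 2, 3], by decide, by decide⟩ : Equiv.Perm (Fin 5)), T.m 0, T.w 0, Or.inr (Or.inr (Or.inr (Or.inr (Or.inl ?_))))⟩
          show T.m 0 = T.m 0 ∧ T.m 1 = T.m 0 ∧ T.m 3 = T.m 0 ∧ T.m 4 = T.m 0 ∧ T.m 2 = T.m 0 ∧ T.w 0 = T.w 0 ∧ T.w 1 = 2 * T.w 0 ∧ T.w 3 = 2 * T.w 0 ∧ T.w 4 = 2 * T.w 0 ∧ T.w 2 = T.w 0 ∧ T.a 0 0 = -2 * T.w 0 ∧ T.a 0 1 = 2 * T.w 0 ∧ T.a 0 3 = 0 ∧ T.a 0 4 = 0 ∧ T.a 0 2 = 0 ∧ T.a 1 1 = -4 * T.w 0 ∧ T.a 1 3 = 2 * T.w 0 ∧ T.a 1 4 = 0 ∧ T.a 1 2 = 0 ∧ T.a 3 3 = -4 * T.w 0 ∧ T.a 3 4 = 2 * T.w 0 ∧ T.a 3 2 = 0 ∧ T.a 4 4 = -4 * T.w 0 ∧ T.a 4 2 = 2 * T.w 0 ∧ T.a 2 2 = -2 * T.w 0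
          refine ⟨?_, ?_, ?_, ?_, ?_, ?_, ?_, ?_, ?_, ?_, ?_, ?_, ?_, ?_, ?_, ?_, ?_, ?_, ?_, ?_, ?_, ?_, ?_, ?_, ?_⟩ <;> omega
        · -- 34=(1,2)
          exact False.elim (cert_false T ((skipEmb 2).trans (Function.Embedding.refl _)) (by norm_num) (fun _ => hall _) (((((((LB_zero T ((skipEmb 2).trans (Function.Embedding.refl _))).upd 0 1 2 (le_of_eq hx01)).upd 1 0 1 (le_of_eq hx10)).upd 1 2 1 (le_of_eq hx13)).upd 2 1 1 (le_of_eq hx31)).upd 2 3 1 (le_of_eq hx34)).upd 3 2 2 (le_of_eq hx43)) ![1,1,1,1] (by decide) (by decide) 0 (by decide))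
        · -- 34=(2,1)
          exact False.elim (cert_false T ((skipEmb 2).trans (Function.Embedding.refl _)) (by norm_num) (fun _ => hall _) (((((((LB_zero T ((skipEmb 2).trans (Function.Embedding.refl _))).upd 0 1 2 (le_of_eq hx01)).upd 1 0 1 (le_of_eq hx10)).upd 1 2 1 (le_of_eq hx13)).upd 2 1 1 (le_of_eq hx31)).upd 2 3 2 (le_of_eq hx34)).upd 3 2 1 (le_of_eq hx43)) ![2,2,2,1] (by decide) (by decide) 0 (by decide))
        · -- 34=(1,3)
          exact False.elim (cert_false T ((skipEmb 2).trans (Function.Embedding.refl _)) (by norm_num) (fun _ => hall _) (((((((LB_zero T ((skipEmb 2).trans (Function.Embedding.refl _))).upd 0 1 2 (le_of_eq hx01)).upd 1 0 1 (le_of_eq hx10)).upd 1 2 1 (le_of_eq hx13)).upd 2 1 1 (le_of_eq hx31)).upd 2 3 1 (le_of_eq hx34)).upd 3 2 3 (le_of_eq hx43)) ![1,1,1,1] (by decide) (by decide) 0 (by decide))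
        · -- 34=(3,1)
          exact False.elim (cert_false T ((skipEmb 2).trans (Function.Embedding.refl _)) (by norm_num) (fun _ => hall _) (((((LB_zero T ((skipEmb 2).trans (Function.Embedding.refl _))).upd 1 2 1 (le_of_eq hx13)).upd 2 1 1 (le_of_eq hx31)).upd 2 3 3 (le_of_eq hx34)).upd 3 2 1 (le_of_eq hx43)) ![0,1,2,1] (by decide) (by decide) 1 (by decide))
      · -- 24=(1,3)
        rcases d34 with ⟨rfl, rfl⟩ | ⟨rfl, rfl⟩ | ⟨rfl, rfl⟩ | ⟨rfl, rfl⟩ | ⟨rfl, rfl⟩ | ⟨rfl, rfl⟩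
        · -- 34=(0,0)
          exfalso; omega
        · -- 34=(1,1)
          exact False.elim (cert_false T ((skipEmb 1).trans (Function.Embedding.refl _)) (by norm_num) (fun _ => hall _) (((((LB_zero T ((skipEmb 1).trans (Function.Embedding.refl _))).upd 1 3 1 (le_of_eq hx24)).upd 2 3 1 (le_of_eq hx34)).upd 3 1 3 (le_of_eq hx42)).upd 3 2 1 (le_of_eq hx43)) ![0,1,1,2] (by decide) (by decide) 1 (by decide))
        · -- 34=(1,2)
          exact False.elim (cert_false T ((skipEmb 2).trans (Function.Embedding.refl _)) (by norm_num) (fun _ => hall _) (((((((LB_zero T ((skipEmb 2).trans (Function.Embedding.refl _))).upd 0 1 2 (le_of_eq hx01)).upd 1 0 1 (le_of_eq hx10)).upd 1 2 1 (le_of_eq hx13)).upd 2 1 1 (le_of_eq hx31)).upd 2 3 1 (le_of_eq hx34)).upd 3 2 2 (le_of_eq hx43)) ![1,1,1,1] (by decide) (by decide) 0 (by decide))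
        · -- 34=(2,1)
          exact False.elim (cert_false T ((skipEmb 2).trans (Function.Embedding.refl _)) (by norm_num) (fun _ => hall _) (((((((LB_zero T ((skipEmb 2).trans (Function.Embedding.refl _))).upd 0 1 2 (le_of_eq hx01)).upd 1 0 1 (le_of_eq hx10)).upd 1 2 1 (le_of_eq hx13)).upd 2 1 1 (le_of_eq hx31)).upd 2 3 2 (le_of_eq hx34)).upd 3 2 1 (le_of_eq hx43)) ![2,2,2,1] (by decide) (by decide) 0 (by decide))
        · -- 34=(1,3)
          exact False.elim (cert_false T ((skipEmb 2).trans (Function.Embedding.refl _)) (by norm_num) (fun _ => hall _) (((((((LB_zero T ((skipEmb 2).trans (Function.Embedding.refl _))).upd 0 1 2 (le_of_eq hx01)).upd 1 0 1 (le_of_eq hx10)).upd 1 2 1 (le_of_eq hx13)).upd 2 1 1 (le_of_eq hx31)).upd 2 3 1 (le_of_eq hx34)).upd 3 2 3 (le_of_eq hx43)) ![1,1,1,1] (by decide) (by decide) 0 (by decide))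
        · -- 34=(3,1)
          exact False.elim (cert_false T ((skipEmb 2).trans (Function.Embedding.refl _)) (by norm_num) (fun _ => hall _) (((((LB_zero T ((skipEmb 2).trans (Function.Embedding.refl _))).upd 1 2 1 (le_of_eq hx13)).upd 2 1 1 (le_of_eq hx31)).upd 2 3 3 (le_of_eq hx34)).upd 3 2 1 (le_of_eq hx43)) ![0,1,2,1] (by decide) (by decide) 1 (by decide))
      · -- 24=(3,1)
        rcases d34 with ⟨rfl, rfl⟩ | ⟨rfl, rfl⟩ | ⟨rfl, rfl⟩ | ⟨rfl, rfl⟩ | ⟨rfl, rfl⟩ | ⟨rfl, rfl⟩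
        · -- 34=(0,0)
          exfalso; omega
        · -- 34=(1,1)
          exact False.elim (cert_false T ((skipEmb 1).trans (Function.Embedding.refl _)) (by norm_num) (fun _ => hall _) (((((LB_zero T ((skipEmb 1).trans (Function.Embedding.refl _))).upd 1 3 3 (le_of_eq hx24)).upd 2 3 1 (le_of_eq hx34)).upd 3 1 1 (le_of_eq hx42)).upd 3 2 1 (le_of_eq hx43)) ![0,3,1,2] (by decide) (by decide) 1 (by decide))
        · -- 34=(1,2)
          exact False.elim (cert_false T ((skipEmb 2).trans (Function.Embedding.refl _)) (by norm_num) (fun _ => hall _) (((((((LB_zero T ((skipEmb 2).trans (Function.Embedding.refl _))).upd 0 1 2 (le_of_eq hx01)).upd 1 0 1 (le_of_eq hx10)).upd 1 2 1 (le_of_eq hx13)).upd 2 1 1 (le_of_eq hx31)).upd 2 3 1 (le_of_eq hx34)).upd 3 2 2 (le_of_eq hx43)) ![1,1,1,1] (by decide) (by decide) 0 (by decide))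
        · -- 34=(2,1)
          exact False.elim (cert_false T ((skipEmb 2).trans (Function.Embedding.refl _)) (by norm_num) (fun _ => hall _) (((((((LB_zero T ((skipEmb 2).trans (Function.Embedding.refl _))).upd 0 1 2 (le_of_eq hx01)).upd 1 0 1 (le_of_eq hx10)).upd 1 2 1 (le_of_eq hx13)).upd 2 1 1 (le_of_eq hx31)).upd 2 3 2 (le_of_eq hx34)).upd 3 2 1 (le_of_eq hx43)) ![2,2,2,1] (by decide) (by decide) 0 (by decide))
        · -- 34=(1,3)
          exact False.elim (cert_false T ((skipEmb 2).trans (Function.Embedding.refl _)) (by norm_num) (fun _ => hall _) (((((((LB_zero T ((skipEmb 2).trans (Function.Embedding.refl _))).upd 0 1 2 (le_of_eq hx01)).upd 1 0 1 (le_of_eq hx10)).upd 1 2 1 (le_of_eq hx13)).upd 2 1 1 (le_of_eq hx31)).upd 2 3 1 (le_of_eq hx34)).upd 3 2 3 (le_of_eq hx43)) ![1,1,1,1] (by decide) (by decide) 0 (by decide))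
        · -- 34=(3,1)
          exact False.elim (cert_false T ((skipEmb 2).trans (Function.Embedding.refl _)) (by norm_num) (fun _ => hall _) (((((LB_zero T ((skipEmb 2).trans (Function.Embedding.refl _))).upd 1 2 1 (le_of_eq hx13)).upd 2 1 1 (le_of_eq hx31)).upd 2 3 3 (le_of_eq hx34)).upd 3 2 1 (le_of_eq hx43)) ![0,1,2,1] (by decide) (by decide) 1 (by decide))
    · -- 14=(1,1)
      exact False.elim (cert_false T ((skipEmb 2).trans (Function.Embedding.refl _)) (by norm_num) (fun _ => hall _) (((((((LB_zero T ((skipEmb 2).trans (Function.Embedding.refl _))).upd 0 1 2 (le_of_eq hx01)).upd 1 0 1 (le_of_eq hx10)).upd 1 2 1 (le_of_eq hx13)).upd 1 3 1 (le_of_eq hx14)).upd 2 1 1 (le_of_eq hx31)).upd 3 1 1 (le_of_eq hx41)) ![2,2,1,1] (by decide) (by decide) 0 (by decide))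
    · -- 14=(1,2)
      exact False.elim (cert_false T ((skipEmb 3).trans (Function.Embedding.refl _)) (by norm_num) (fun _ => hall _) (((((LB_zero T ((skipEmb 3).trans (Function.Embedding.refl _))).upd 0 1 2 (le_of_eq hx01)).upd 1 0 1 (le_of_eq hx10)).upd 1 3 1 (le_of_eq hx14)).upd 3 1 2 (le_of_eq hx41)) ![1,1,0,1] (by decide) (by decide) 0 (by decide))
    · -- 14=(2,1)
      exact False.elim (cert_false T ((skipEmb 3).trans (Function.Embedding.refl _)) (by norm_num) (fun _ => hall _) (((((LB_zero T ((skipEmb 3).trans (Function.Embedding.refl _))).upd 0 1 2 (le_of_eq hx01)).upd 1 0 1 (le_of_eq hx10)).upd 1 3 2 (le_of_eq hx14)).upd 3 1 1 (le_of_eq hx41)) ![2,2,0,1] (by decide) (by decide) 0 (by decide))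
    · -- 14=(1,3)
      exact False.elim (cert_false T ((skipEmb 3).trans (Function.Embedding.refl _)) (by norm_num) (fun _ => hall _) (((((LB_zero T ((skipEmb 3).trans (Function.Embedding.refl _))).upd 0 1 2 (le_of_eq hx01)).upd 1 0 1 (le_of_eq hx10)).upd 1 3 1 (le_of_eq hx14)).upd 3 1 3 (le_of_eq hx41)) ![1,1,0,1] (by decide) (by decide) 0 (by decide))
    · -- 14=(3,1)
      exact False.elim (cert_false T ((skipEmb 3).trans (Function.Embedding.refl _)) (by norm_num) (fun _ => hall _) (((((LB_zero T ((skipEmb 3).trans (Function.Embedding.refl _))).upd 0 1 2 (le_of_eq hx01)).upd 1 0 1 (le_of_eq hx10)).upd 1 3 3 (le_of_eq hx14)).upd 3 1 1 (le_of_eq hx41)) ![1,2,0,1] (by decide) (by decide) 0 (by decide))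
  · -- 04=(1,1)
    rcases d14 with ⟨rfl, rfl⟩ | ⟨rfl, rfl⟩ | ⟨rfl, rfl⟩ | ⟨rfl, rfl⟩ | ⟨rfl, rfl⟩ | ⟨rfl, rfl⟩
    · -- 14=(0,0)
      rcases d24 with ⟨rfl, rfl⟩ | ⟨rfl, rfl⟩ | ⟨rfl, rfl⟩ | ⟨rfl, rfl⟩ | ⟨rfl, rfl⟩ | ⟨rfl, rfl⟩
      · -- 24=(0,0)
        rcases d34 with ⟨rfl, rfl⟩ | ⟨rfl, rfl⟩ | ⟨rfl, rfl⟩ | ⟨rfl, rfl⟩ | ⟨rfl, rfl⟩ | ⟨rfl, rfl⟩
        · -- 34=(0,0)
          exfalso; omega
        · -- 34=(1,1)
          exact False.elim (cert_false T ((skipEmb 2).trans (Function.Embedding.refl _)) (by norm_num) (fun _ => hall _) (((((((((LB_zero T ((skipEmb 2).trans (Function.Embedding.refl _))).upd 0 1 2 (le_of_eq hx01)).upd 0 3 1 (le_of_eq hx04)).upd 1 0 1 (le_of_eq hx10)).upd 1 2 1 (le_of_eq hx13)).upd 2 1 1 (le_of_eq hx31)).upd 2 3 1 (le_of_eq hx34)).upd 3 0 1 (le_of_eq hx40)).upd 3 2 1 (le_of_eq hx43)) ![1,1,1,1] (by decide) (by decide) 0 (by decide))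
        · -- 34=(1,2)
          exact False.elim (cert_false T ((skipEmb 2).trans (Function.Embedding.refl _)) (by norm_num) (fun _ => hall _) (((((((((LB_zero T ((skipEmb 2).trans (Function.Embedding.refl _))).upd 0 1 2 (le_of_eq hx01)).upd 0 3 1 (le_of_eq hx04)).upd 1 0 1 (le_of_eq hx10)).upd 1 2 1 (le_of_eq hx13)).upd 2 1 1 (le_of_eq hx31)).upd 2 3 1 (le_of_eq hx34)).upd 3 0 1 (le_of_eq hx40)).upd 3 2 2 (le_of_eq hx43)) ![1,1,1,1] (by decide) (by decide) 0 (by decide))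
        · -- 34=(2,1)
          exact False.elim (cert_false T ((skipEmb 2).trans (Function.Embedding.refl _)) (by norm_num) (fun _ => hall _) (((((((((LB_zero T ((skipEmb 2).trans (Function.Embedding.refl _))).upd 0 1 2 (le_of_eq hx01)).upd 0 3 1 (le_of_eq hx04)).upd 1 0 1 (le_of_eq hx10)).upd 1 2 1 (le_of_eq hx13)).upd 2 1 1 (le_of_eq hx31)).upd 2 3 2 (le_of_eq hx34)).upd 3 0 1 (le_of_eq hx40)).upd 3 2 1 (le_of_eq hx43)) ![1,1,1,1] (by decide) (by decide) 0 (by decide))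
        · -- 34=(1,3)
          exact False.elim (cert_false T ((skipEmb 2).trans (Function.Embedding.refl _)) (by norm_num) (fun _ => hall _) (((((((((LB_zero T ((skipEmb 2).trans (Function.Embedding.refl _))).upd 0 1 2 (le_of_eq hx01)).upd 0 3 1 (le_of_eq hx04)).upd 1 0 1 (le_of_eq hx10)).upd 1 2 1 (le_of_eq hx13)).upd 2 1 1 (le_of_eq hx31)).upd 2 3 1 (le_of_eq hx34)).upd 3 0 1 (le_of_eq hx40)).upd 3 2 3 (le_of_eq hx43)) ![1,1,1,1] (by decide) (by decide) 0 (by decide))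
        · -- 34=(3,1)
          exact False.elim (cert_false T ((skipEmb 2).trans (Function.Embedding.refl _)) (by norm_num) (fun _ => hall _) (((((((((LB_zero T ((skipEmb 2).trans (Function.Embedding.refl _))).upd 0 1 2 (le_of_eq hx01)).upd 0 3 1 (le_of_eq hx04)).upd 1 0 1 (le_of_eq hx10)).upd 1 2 1 (le_of_eq hx13)).upd 2 1 1 (le_of_eq hx31)).upd 2 3 3 (le_of_eq hx34)).upd 3 0 1 (le_of_eq hx40)).upd 3 2 1 (le_of_eq hx43)) ![1,1,1,1] (by decide) (by decide) 0 (by decide))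
      · -- 24=(1,1)
        rcases d34 with ⟨rfl, rfl⟩ | ⟨rfl, rfl⟩ | ⟨rfl, rfl⟩ | ⟨rfl, rfl⟩ | ⟨rfl, rfl⟩ | ⟨rfl, rfl⟩
        · -- 34=(0,0)
          refine ⟨(⟨![2, 4, 0, 1, 3], ![2, 3, 0, 4, 1], by decide, by decide⟩ : Equiv.Perm (Fin 5)), T.m 2, T.w 2, Or.inr (Or.inl ?_)⟩
          show T.m 2 = T.m 2 ∧ T.m 4 = 2 * T.m 2 ∧ T.m 0 = 3 * T.m 2 ∧ T.m 1 = 2 * T.m 2 ∧ T.m 3 = T.m 2 ∧ T.w 2 = T.w 2 ∧ T.w 4 = T.w 2 ∧ T.w 0 = T.w 2 ∧ T.w 1 = 2 * T.w 2 ∧ T.w 3 = 2 * T.w 2 ∧ T.a 2 2 = -2 * T.w 2 ∧ T.a 2 4 = T.w 2 ∧ T.a 2 0 = 0 ∧ T.a 2 1 = 0 ∧ T.a 2 3 = 0 ∧ T.a 4 4 = -2 * T.w 2 ∧ T.a 4 0 = T.w 2 ∧ T.a 4 1 = 0 ∧ T.a 4 3 = 0 ∧ T.a 0 0 = -2 * T.w 2 ∧ T.a 0 1 = 2 * T.w 2 ∧ T.a 0 3 = 0 ∧ T.a 1 1 = -4 * T.w 2 ∧ T.a 1 3 = 2 * T.w 2 ∧ T.a 3 3 = -4 * T.w 2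
          refine ⟨?_, ?_, ?_, ?_, ?_, ?_, ?_, ?_, ?_, ?_, ?_, ?_, ?_, ?_, ?_, ?_, ?_, ?_, ?_, ?_, ?_, ?_, ?_, ?_, ?_⟩ <;> omega
        · -- 34=(1,1)
          exact False.elim (cert_false T ((skipEmb 2).trans (Function.Embedding.refl _)) (by norm_num) (fun _ => hall _) (((((((((LB_zero T ((skipEmb 2).trans (Function.Embedding.refl _))).upd 0 1 2 (le_of_eq hx01)).upd 0 3 1 (le_of_eq hx04)).upd 1 0 1 (le_of_eq hx10)).upd 1 2 1 (le_of_eq hx13)).upd 2 1 1 (le_of_eq hx31)).upd 2 3 1 (le_of_eq hx34)).upd 3 0 1 (le_of_eq hx40)).upd 3 2 1 (le_of_eq hx43)) ![1,1,1,1] (by decide) (by decide) 0 (by decide))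
        · -- 34=(1,2)
          exact False.elim (cert_false T ((skipEmb 2).trans (Function.Embedding.refl _)) (by norm_num) (fun _ => hall _) (((((((((LB_zero T ((skipEmb 2).trans (Function.Embedding.refl _))).upd 0 1 2 (le_of_eq hx01)).upd 0 3 1 (le_of_eq hx04)).upd 1 0 1 (le_of_eq hx10)).upd 1 2 1 (le_of_eq hx13)).upd 2 1 1 (le_of_eq hx31)).upd 2 3 1 (le_of_eq hx34)).upd 3 0 1 (le_of_eq hx40)).upd 3 2 2 (le_of_eq hx43)) ![1,1,1,1] (by decide) (by decide) 0 (by decide))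
        · -- 34=(2,1)
          exact False.elim (cert_false T ((skipEmb 2).trans (Function.Embedding.refl _)) (by norm_num) (fun _ => hall _) (((((((((LB_zero T ((skipEmb 2).trans (Function.Embedding.refl _))).upd 0 1 2 (le_of_eq hx01)).upd 0 3 1 (le_of_eq hx04)).upd 1 0 1 (le_of_eq hx10)).upd 1 2 1 (le_of_eq hx13)).upd 2 1 1 (le_of_eq hx31)).upd 2 3 2 (le_of_eq hx34)).upd 3 0 1 (le_of_eq hx40)).upd 3 2 1 (le_of_eq hx43)) ![1,1,1,1] (by decide) (by decide) 0 (by decide))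
        · -- 34=(1,3)
          exact False.elim (cert_false T ((skipEmb 2).trans (Function.Embedding.refl _)) (by norm_num) (fun _ => hall _) (((((((((LB_zero T ((skipEmb 2).trans (Function.Embedding.refl _))).upd 0 1 2 (le_of_eq hx01)).upd 0 3 1 (le_of_eq hx04)).upd 1 0 1 (le_of_eq hx10)).upd 1 2 1 (le_of_eq hx13)).upd 2 1 1 (le_of_eq hx31)).upd 2 3 1 (le_of_eq hx34)).upd 3 0 1 (le_of_eq hx40)).upd 3 2 3 (le_of_eq hx43)) ![1,1,1,1] (by decide) (by decide) 0 (by decide))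
        · -- 34=(3,1)
          exact False.elim (cert_false T ((skipEmb 2).trans (Function.Embedding.refl _)) (by norm_num) (fun _ => hall _) (((((((((LB_zero T ((skipEmb 2).trans (Function.Embedding.refl _))).upd 0 1 2 (le_of_eq hx01)).upd 0 3 1 (le_of_eq hx04)).upd 1 0 1 (le_of_eq hx10)).upd 1 2 1 (le_of_eq hx13)).upd 2 1 1 (le_of_eq hx31)).upd 2 3 3 (le_of_eq hx34)).upd 3 0 1 (le_of_eq hx40)).upd 3 2 1 (le_of_eq hx43)) ![1,1,1,1] (by decide) (by decide) 0 (by decide))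
      · -- 24=(1,2)
        exact False.elim (cert_false T ((skipEmb 3).trans (Function.Embedding.refl _)) (by norm_num) (fun _ => hall _) (((((((LB_zero T ((skipEmb 3).trans (Function.Embedding.refl _))).upd 0 1 2 (le_of_eq hx01)).upd 0 3 1 (le_of_eq hx04)).upd 1 0 1 (le_of_eq hx10)).upd 2 3 1 (le_of_eq hx24)).upd 3 0 1 (le_of_eq hx40)).upd 3 2 2 (le_of_eq hx42)) ![2,1,1,2] (by decide) (by decide) 0 (by decide))
      · -- 24=(2,1)
        exact False.elim (cert_false T ((skipEmb 3).trans (Function.Embedding.refl _)) (by norm_num) (fun _ => hall _) (((((((LB_zero T ((skipEmb 3).trans (Function.Embedding.refl _))).upd 0 1 2 (le_of_eq hx01)).upd 0 3 1 (le_of_eq hx04)).upd 1 0 1 (le_of_eq hx10)).upd 2 3 2 (le_of_eq hx24)).upd 3 0 1 (le_of_eq hx40)).upd 3 2 1 (le_of_eq hx42)) ![2,1,2,2] (by decide) (by decide) 0 (by decide))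
      · -- 24=(1,3)
        exact False.elim (cert_false T ((skipEmb 3).trans (Function.Embedding.refl _)) (by norm_num) (fun _ => hall _) (((((LB_zero T ((skipEmb 3).trans (Function.Embedding.refl _))).upd 0 3 1 (le_of_eq hx04)).upd 2 3 1 (le_of_eq hx24)).upd 3 0 1 (le_of_eq hx40)).upd 3 2 3 (le_of_eq hx42)) ![1,0,1,2] (by decide) (by decide) 0 (by decide))
      · -- 24=(3,1)
        exact False.elim (cert_false T ((skipEmb 3).trans (Function.Embedding.refl _)) (by norm_num) (fun _ => hall _) (((((((LB_zero T ((skipEmb 3).trans (Function.Embedding.refl _))).upd 0 1 2 (le_of_eq hx01)).upd 0 3 1 (le_of_eq hx04)).upd 1 0 1 (le_of_eq hx10)).upd 2 3 3 (le_of_eq hx24)).upd 3 0 1 (le_of_eq hx40)).upd 3 2 1 (le_of_eq hx42)) ![2,1,2,2] (by decide) (by decide) 0 (by decide))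
    · -- 14=(1,1)
      exact False.elim (cert_false T ((skipEmb 3).trans (Function.Embedding.refl _)) (by norm_num) (fun _ => hall _) (((((((LB_zero T ((skipEmb 3).trans (Function.Embedding.refl _))).upd 0 1 2 (le_of_eq hx01)).upd 0 3 1 (le_of_eq hx04)).upd 1 0 1 (le_of_eq hx10)).upd 1 3 1 (le_of_eq hx14)).upd 3 0 1 (le_of_eq hx40)).upd 3 1 1 (le_of_eq hx41)) ![1,1,0,1] (by decide) (by decide) 0 (by decide))
    · -- 14=(1,2)
      exact False.elim (cert_false T ((skipEmb 3).trans (Function.Embedding.refl _)) (by norm_num) (fun _ => hall _) (((((((LB_zero T ((skipEmb 3).trans (Function.Embedding.refl _))).upd 0 1 2 (le_of_eq hx01)).upd 0 3 1 (le_of_eq hx04)).upd 1 0 1 (le_of_eq hx10)).upd 1 3 1 (le_of_eq hx14)).upd 3 0 1 (le_of_eq hx40)).upd 3 1 2 (le_of_eq hx41)) ![1,1,0,1] (by decide) (by decide) 0 (by decide))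
    · -- 14=(2,1)
      exact False.elim (cert_false T ((skipEmb 3).trans (Function.Embedding.refl _)) (by norm_num) (fun _ => hall _) (((((((LB_zero T ((skipEmb 3).trans (Function.Embedding.refl _))).upd 0 1 2 (le_of_eq hx01)).upd 0 3 1 (le_of_eq hx04)).upd 1 0 1 (le_of_eq hx10)).upd 1 3 2 (le_of_eq hx14)).upd 3 0 1 (le_of_eq hx40)).upd 3 1 1 (le_of_eq hx41)) ![1,1,0,1] (by decide) (by decide) 0 (by decide))
    · -- 14=(1,3)
      exact False.elim (cert_false T ((skipEmb 3).trans (Function.Embedding.refl _)) (by norm_num) (fun _ => hall _) (((((((LB_zero T ((skipEmb 3).trans (Function.Embedding.refl _))).upd 0 1 2 (le_of_eq hx01)).upd 0 3 1 (le_of_eq hx04)).upd 1 0 1 (le_of_eq hx10)).upd 1 3 1 (le_of_eq hx14)).upd 3 0 1 (le_of_eq hx40)).upd 3 1 3 (le_of_eq hx41)) ![1,1,0,1] (by decide) (by decide) 0 (by decide))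
    · -- 14=(3,1)
      exact False.elim (cert_false T ((skipEmb 3).trans (Function.Embedding.refl _)) (by norm_num) (fun _ => hall _) (((((((LB_zero T ((skipEmb 3).trans (Function.Embedding.refl _))).upd 0 1 2 (le_of_eq hx01)).upd 0 3 1 (le_of_eq hx04)).upd 1 0 1 (le_of_eq hx10)).upd 1 3 3 (le_of_eq hx14)).upd 3 0 1 (le_of_eq hx40)).upd 3 1 1 (le_of_eq hx41)) ![1,1,0,1] (by decide) (by decide) 0 (by decide))
  · -- 04=(1,2)
    exact False.elim (cert_false T ((skipEmb 3).trans (Function.Embedding.refl _)) (by norm_num) (fun _ => hall _) (((((LB_zero T ((skipEmb 3).trans (Function.Embedding.refl _))).upd 0 1 2 (le_of_eq hx01)).upd 0 3 1 (le_of_eq hx04)).upd 1 0 1 (le_of_eq hx10)).upd 3 0 2 (le_of_eq hx40)) ![2,1,0,2] (by decide) (by decide) 0 (by decide))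
  · -- 04=(2,1)
    exact False.elim (cert_false T ((skipEmb 3).trans (Function.Embedding.refl _)) (by norm_num) (fun _ => hall _) (((((LB_zero T ((skipEmb 3).trans (Function.Embedding.refl _))).upd 0 1 2 (le_of_eq hx01)).upd 0 3 2 (le_of_eq hx04)).upd 1 0 1 (le_of_eq hx10)).upd 3 0 1 (le_of_eq hx40)) ![2,1,0,1] (by decide) (by decide) 0 (by decide))
  · -- 04=(1,3)
    exact False.elim (cert_false T ((skipEmb 3).trans (Function.Embedding.refl _)) (by norm_num) (fun _ => hall _) (((((LB_zero T ((skipEmb 3).trans (Function.Embedding.refl _))).upd 0 1 2 (le_of_eq hx01)).upd 0 3 1 (le_of_eq hx04)).upd 1 0 1 (le_of_eq hx10)).upd 3 0 3 (le_of_eq hx40)) ![2,1,0,2] (by decide) (by decide) 0 (by decide))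
  · -- 04=(3,1)
    exact False.elim (cert_false T ((skipEmb 3).trans (Function.Embedding.refl _)) (by norm_num) (fun _ => hall _) (((((LB_zero T ((skipEmb 3).trans (Function.Embedding.refl _))).upd 0 1 2 (le_of_eq hx01)).upd 0 3 3 (le_of_eq hx04)).upd 1 0 1 (le_of_eq hx10)).upd 3 0 1 (le_of_eq hx40)) ![2,1,0,1] (by decide) (by decide) 0 (by decide))

theorem case481 (T : NumericalType 5) (hall : ∀ i, T.IsMinusTwo i) (d : SData T)
    (h01 : N T (Function.Embedding.refl _) 0 1 = 2) (h10 : N T (Function.Embedding.refl _) 1 0 = 1)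
    (h02 : N T (Function.Embedding.refl _) 0 2 = 0) (h20 : N T (Function.Embedding.refl _) 2 0 = 0)
    (h12 : N T (Function.Embedding.refl _) 1 2 = 0) (h21 : N T (Function.Embedding.refl _) 2 1 = 0)
    (h03 : N T (Function.Embedding.refl _) 0 3 = 0) (h30 : N T (Function.Embedding.refl _) 3 0 = 0)
    (h13 : N T (Function.Embedding.refl _) 1 3 = 1) (h31 : N T (Function.Embedding.refl _) 3 1 = 1)
    (h23 : N T (Function.Embedding.refl _) 2 3 = 1) (h32 : N T (Function.Embedding.refl _) 3 2 = 1) :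
    Goal T := by
  unfold Goal
  have hd := d
  obtain ⟨x01, x02, x03, x04, x10, x12, x13, x14, x20, x21, x23, x24, x30, x31, x32, x34, x40, x41, x42, x43, hx01, hx02, hx03, hx04, hx10, hx12, hx13, hx14, hx20, hx21, hx23, hx24, hx30, hx31, hx32, hx34, hx40, hx41, hx42, hx43, hw0, hm0, hw1, hm1, hw2, hm2, hw3, hm3, hw4, hm4, a00, a01, a02, a03, a04, a11, a10, a12, a13, a14, a22, a20, a21, a23, a24, a33, a30, a31, a32, a34, a44, a40, a41, a42, a43, wN01, wN02, wN12, wN03, wN13, wN23, wN04, wN14, wN24, wN34, e0, e1, e2, e3, e4, d01, d02, d12, d03, d13, d23, d04, d14, d24, d34⟩ := d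
  obtain rfl : x01 = 2 := hx01.trans h01
  obtain rfl : x10 = 1 := hx10.trans h10
  obtain rfl : x02 = 0 := hx02.trans h02
  obtain rfl : x20 = 0 := hx20.trans h20
  obtain rfl : x12 = 0 := hx12.trans h12
  obtain rfl : x21 = 0 := hx21.trans h21
  obtain rfl : x03 = 0 := hx03.trans h03
  obtain rfl : x30 = 0 := hx30.trans h30
  obtain rfl : x13 = 1 := hx13.trans h13
  obtain rfl : x31 = 1 := hx31.trans h31
  obtain rfl : x23 = 1 := hx23.trans h23
  obtain rfl : x32 = 1 := hx32.trans h32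
  rcases d04 with ⟨rfl, rfl⟩ | ⟨rfl, rfl⟩ | ⟨rfl, rfl⟩ | ⟨rfl, rfl⟩ | ⟨rfl, rfl⟩ | ⟨rfl, rfl⟩
  · -- 04=(0,0)
    rcases d14 with ⟨rfl, rfl⟩ | ⟨rfl, rfl⟩ | ⟨rfl, rfl⟩ | ⟨rfl, rfl⟩ | ⟨rfl, rfl⟩ | ⟨rfl, rfl⟩
    · -- 14=(0,0)
      rcases d24 with ⟨rfl, rfl⟩ | ⟨rfl, rfl⟩ | ⟨rfl, rfl⟩ | ⟨rfl, rfl⟩ | ⟨rfl, rfl⟩ | ⟨rfl, rfl⟩
      · -- 24=(0,0)
        rcases d34 with ⟨rfl, rfl⟩ | ⟨rfl, rfl⟩ | ⟨rfl, rfl⟩ | ⟨rfl, rfl⟩ | ⟨rfl, rfl⟩ | ⟨rfl, rfl⟩
        · -- 34=(0,0)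
          exfalso; omega
        · -- 34=(1,1)
          refine ⟨(⟨![0, 1, 3, 2, 4], ![0, 1, 3, 2, 4], by decide, by decide⟩ : Equiv.Perm (Fin 5)), T.m 2, T.w 0, Or.inr (Or.inr (Or.inr (Or.inr (Or.inr (Or.inr (Or.inr (Or.inr (?_))))))))⟩
          show T.m 0 = 2 * T.m 2 ∧ T.m 1 = 2 * T.m 2 ∧ T.m 3 = 2 * T.m 2 ∧ T.m 2 = T.m 2 ∧ T.m 4 = T.m 2 ∧ T.w 0 = T.w 0 ∧ T.w 1 = 2 * T.w 0 ∧ T.w 3 = 2 * T.w 0 ∧ T.w 2 = 2 * T.w 0 ∧ T.w 4 = 2 * T.w 0 ∧ T.a 0 0 = -2 * T.w 0 ∧ T.a 0 1 = 2 * T.w 0 ∧ T.a 0 3 = 0 ∧ T.a 0 2 = 0 ∧ T.a 0 4 = 0 ∧ T.a 1 1 = -4 * T.w 0 ∧ T.a 1 3 = 2 * T.w 0 ∧ T.a 1 2 = 0 ∧ T.a 1 4 = 0 ∧ T.a 3 3 = -4 * T.w 0 ∧ T.a 3 2 = 2 * T.w 0 ∧ T.a 3 4 = 2 * T.w 0 ∧ T.a 2 2 = -4 * T.w 0 ∧ T.a 2 4 = 0 ∧ T.a 4 4 = -4 * T.w 0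
          refine ⟨?_, ?_, ?_, ?_, ?_, ?_, ?_, ?_, ?_, ?_, ?_, ?_, ?_, ?_, ?_, ?_, ?_, ?_, ?_, ?_, ?_, ?_, ?_, ?_, ?_⟩ <;> omega
        · -- 34=(1,2)
          exact False.elim (cert_false T ((skipEmb 2).trans (Function.Embedding.refl _)) (by norm_num) (fun _ => hall _) (((((((LB_zero T ((skipEmb 2).trans (Function.Embedding.refl _))).upd 0 1 2 (le_of_eq hx01)).upd 1 0 1 (le_of_eq hx10)).upd 1 2 1 (le_of_eq hx13)).upd 2 1 1 (le_of_eq hx31)).upd 2 3 1 (le_of_eq hx34)).upd 3 2 2 (le_of_eq hx43)) ![1,1,1,1] (by decide) (by decide) 0 (by decide))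
        · -- 34=(2,1)
          exact False.elim (cert_false T ((skipEmb 2).trans (Function.Embedding.refl _)) (by norm_num) (fun _ => hall _) (((((((LB_zero T ((skipEmb 2).trans (Function.Embedding.refl _))).upd 0 1 2 (le_of_eq hx01)).upd 1 0 1 (le_of_eq hx10)).upd 1 2 1 (le_of_eq hx13)).upd 2 1 1 (le_of_eq hx31)).upd 2 3 2 (le_of_eq hx34)).upd 3 2 1 (le_of_eq hx43)) ![2,2,2,1] (by decide) (by decide) 0 (by decide))
        · -- 34=(1,3)
          exact False.elim (cert_false T ((skipEmb 2).trans (Function.Embedding.refl _)) (by norm_num) (fun _ => hall _) (((((((LB_zero T ((skipEmb 2).trans (Function.Embedding.refl _))).upd 0 1 2 (le_of_eq hx01)).upd 1 0 1 (le_of_eq hx10)).upd 1 2 1 (le_of_eq hx13)).upd 2 1 1 (le_of_eq hx31)).upd 2 3 1 (le_of_eq hx34)).upd 3 2 3 (le_of_eq hx43)) ![1,1,1,1] (by decide) (by decide) 0 (by decide))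
        · -- 34=(3,1)
          exact False.elim (cert_false T ((skipEmb 2).trans (Function.Embedding.refl _)) (by norm_num) (fun _ => hall _) (((((LB_zero T ((skipEmb 2).trans (Function.Embedding.refl _))).upd 1 2 1 (le_of_eq hx13)).upd 2 1 1 (le_of_eq hx31)).upd 2 3 3 (le_of_eq hx34)).upd 3 2 1 (le_of_eq hx43)) ![0,1,2,1] (by decide) (by decide) 1 (by decide))
      · -- 24=(1,1)
        rcases d34 with ⟨rfl, rfl⟩ | ⟨rfl, rfl⟩ | ⟨rfl, rfl⟩ | ⟨rfl, rfl⟩ | ⟨rfl, rfl⟩ | ⟨rfl, rfl⟩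
        · -- 34=(0,0)
          exfalso; omega
        · -- 34=(1,1)
          exact False.elim (cert_false T ((skipEmb 1).trans (Function.Embedding.refl _)) (by norm_num) (fun _ => hall _) (((((((LB_zero T ((skipEmb 1).trans (Function.Embedding.refl _))).upd 1 2 1 (le_of_eq hx23)).upd 1 3 1 (le_of_eq hx24)).upd 2 1 1 (le_of_eq hx32)).upd 2 3 1 (le_of_eq hx34)).upd 3 1 1 (le_of_eq hx42)).upd 3 2 1 (le_of_eq hx43)) ![0,1,1,1] (by decide) (by decide) 1 (by decide))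
        · -- 34=(1,2)
          exact False.elim (cert_false T ((skipEmb 2).trans (Function.Embedding.refl _)) (by norm_num) (fun _ => hall _) (((((((LB_zero T ((skipEmb 2).trans (Function.Embedding.refl _))).upd 0 1 2 (le_of_eq hx01)).upd 1 0 1 (le_of_eq hx10)).upd 1 2 1 (le_of_eq hx13)).upd 2 1 1 (le_of_eq hx31)).upd 2 3 1 (le_of_eq hx34)).upd 3 2 2 (le_of_eq hx43)) ![1,1,1,1] (by decide) (by decide) 0 (by decide))
        · -- 34=(2,1)
          exact False.elim (cert_false T ((skipEmb 2).trans (Function.Embedding.refl _)) (by norm_num) (fun _ => hall _) (((((((LB_zero T ((skipEmb 2).trans (Function.Embedding.refl _))).upd 0 1 2 (le_of_eq hx01)).upd 1 0 1 (le_of_eq hx10)).upd 1 2 1 (le_of_eq hx13)).upd 2 1 1 (le_of_eq hx31)).upd 2 3 2 (le_of_eq hx34)).upd 3 2 1 (le_of_eq hx43)) ![2,2,2,1] (by decide) (by decide) 0 (by decide))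
        · -- 34=(1,3)
          exact False.elim (cert_false T ((skipEmb 2).trans (Function.Embedding.refl _)) (by norm_num) (fun _ => hall _) (((((((LB_zero T ((skipEmb 2).trans (Function.Embedding.refl _))).upd 0 1 2 (le_of_eq hx01)).upd 1 0 1 (le_of_eq hx10)).upd 1 2 1 (le_of_eq hx13)).upd 2 1 1 (le_of_eq hx31)).upd 2 3 1 (le_of_eq hx34)).upd 3 2 3 (le_of_eq hx43)) ![1,1,1,1] (by decide) (by decide) 0 (by decide))
        · -- 34=(3,1)
          exact False.elim (cert_false T ((skipEmb 2).trans (Function.Embedding.refl _)) (by norm_num) (fun _ => hall _) (((((LB_zero T ((skipEmb 2).trans (Function.Embedding.refl _))).upd 1 2 1 (le_of_eq hx13)).upd 2 1 1 (le_of_eq hx31)).upd 2 3 3 (le_of_eq hx34)).upd 3 2 1 (le_of_eq hx43)) ![0,1,2,1] (by decide) (by decide) 1 (by decide))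
      · -- 24=(1,2)
        rcases d34 with ⟨rfl, rfl⟩ | ⟨rfl, rfl⟩ | ⟨rfl, rfl⟩ | ⟨rfl, rfl⟩ | ⟨rfl, rfl⟩ | ⟨rfl, rfl⟩
        · -- 34=(0,0)
          refine ⟨(⟨![0, 1, 3, 2, 4], ![0, 1, 3, 2, 4], by decide, by decide⟩ : Equiv.Perm (Fin 5)), T.m 0, T.w 0, Or.inr (Or.inr (Or.inr (Or.inr (Or.inl ?_))))⟩
          show T.m 0 = T.m 0 ∧ T.m 1 = T.m 0 ∧ T.m 3 = T.m 0 ∧ T.m 2 = T.m 0 ∧ T.m 4 = T.m 0 ∧ T.w 0 = T.w 0 ∧ T.w 1 = 2 * T.w 0 ∧ T.w 3 = 2 * T.w 0 ∧ T.w 2 = 2 * T.w 0 ∧ T.w 4 = T.w 0 ∧ T.a 0 0 = -2 * T.w 0 ∧ T.a 0 1 = 2 * T.w 0 ∧ T.a 0 3 = 0 ∧ T.a 0 2 = 0 ∧ T.a 0 4 = 0 ∧ T.a 1 1 = -4 * T.w 0 ∧ T.a 1 3 = 2 * T.w 0 ∧ T.a 1 2 = 0 ∧ T.a 1 4 = 0 ∧ T.a 3 3 = -4 * T.w 0 ∧ T.a 3 2 = 2 * T.w 0 ∧ T.a 3 4 = 0 ∧ T.a 2 2 = -4 * T.w 0 ∧ T.a 2 4 = 2 * T.w 0 ∧ T.a 4 4 = -2 * T.w 0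
          refine ⟨?_, ?_, ?_, ?_, ?_, ?_, ?_, ?_, ?_, ?_, ?_, ?_, ?_, ?_, ?_, ?_, ?_, ?_, ?_, ?_, ?_, ?_, ?_, ?_, ?_⟩ <;> omega
        · -- 34=(1,1)
          exact False.elim (cert_false T ((skipEmb 1).trans (Function.Embedding.refl _)) (by norm_num) (fun _ => hall _) (((((((LB_zero T ((skipEmb 1).trans (Function.Embedding.refl _))).upd 1 2 1 (le_of_eq hx23)).upd 1 3 1 (le_of_eq hx24)).upd 2 1 1 (le_of_eq hx32)).upd 2 3 1 (le_of_eq hx34)).upd 3 1 2 (le_of_eq hx42)).upd 3 2 1 (le_of_eq hx43)) ![0,1,1,1] (by decide) (by decide) 1 (by decide))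
        · -- 34=(1,2)
          exact False.elim (cert_false T ((skipEmb 2).trans (Function.Embedding.refl _)) (by norm_num) (fun _ => hall _) (((((((LB_zero T ((skipEmb 2).trans (Function.Embedding.refl _))).upd 0 1 2 (le_of_eq hx01)).upd 1 0 1 (le_of_eq hx10)).upd 1 2 1 (le_of_eq hx13)).upd 2 1 1 (le_of_eq hx31)).upd 2 3 1 (le_of_eq hx34)).upd 3 2 2 (le_of_eq hx43)) ![1,1,1,1] (by decide) (by decide) 0 (by decide))
        · -- 34=(2,1)
          exact False.elim (cert_false T ((skipEmb 2).trans (Function.Embedding.refl _)) (by norm_num) (fun _ => hall _) (((((((LB_zero T ((skipEmb 2).trans (Function.Embedding.refl _))).upd 0 1 2 (le_of_eq hx01)).upd 1 0 1 (le_of_eq hx10)).upd 1 2 1 (le_of_eq hx13)).upd 2 1 1 (le_of_eq hx31)).upd 2 3 2 (le_of_eq hx34)).upd 3 2 1 (le_of_eq hx43)) ![2,2,2,1] (by decide) (by decide) 0 (by decide))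
        · -- 34=(1,3)
          exact False.elim (cert_false T ((skipEmb 2).trans (Function.Embedding.refl _)) (by norm_num) (fun _ => hall _) (((((((LB_zero T ((skipEmb 2).trans (Function.Embedding.refl _))).upd 0 1 2 (le_of_eq hx01)).upd 1 0 1 (le_of_eq hx10)).upd 1 2 1 (le_of_eq hx13)).upd 2 1 1 (le_of_eq hx31)).upd 2 3 1 (le_of_eq hx34)).upd 3 2 3 (le_of_eq hx43)) ![1,1,1,1] (by decide) (by decide) 0 (by decide))
        · -- 34=(3,1)
          exact False.elim (cert_false T ((skipEmb 2).trans (Function.Embedding.refl _)) (by norm_num) (fun _ => hall _) (((((LB_zero T ((skipEmb 2).trans (Function.Embedding.refl _))).upd 1 2 1 (le_of_eq hx13)).upd 2 1 1 (le_of_eq hx31)).upd 2 3 3 (le_of_eq hx34)).upd 3 2 1 (le_of_eq hx43)) ![0,1,2,1] (by decide) (by decide) 1 (by decide))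
      · -- 24=(2,1)
        rcases d34 with ⟨rfl, rfl⟩ | ⟨rfl, rfl⟩ | ⟨rfl, rfl⟩ | ⟨rfl, rfl⟩ | ⟨rfl, rfl⟩ | ⟨rfl, rfl⟩
        · -- 34=(0,0)
          refine ⟨(⟨![0, 1, 3, 2, 4], ![0, 1, 3, 2, 4], by decide, by decide⟩ : Equiv.Perm (Fin 5)), T.m 4, T.w 0, Or.inr (Or.inr (Or.inr (Or.inl ?_)))⟩
          show T.m 0 = 2 * T.m 4 ∧ T.m 1 = 2 * T.m 4 ∧ T.m 3 = 2 * T.m 4 ∧ T.m 2 = 2 * T.m 4 ∧ T.m 4 = T.m 4 ∧ T.w 0 = T.w 0 ∧ T.w 1 = 2 * T.w 0 ∧ T.w 3 = 2 * T.w 0 ∧ T.w 2 = 2 * T.w 0 ∧ T.w 4 = 4 * T.w 0 ∧ T.a 0 0 = -2 * T.w 0 ∧ T.a 0 1 = 2 * T.w 0 ∧ T.a 0 3 = 0 ∧ T.a 0 2 = 0 ∧ T.a 0 4 = 0 ∧ T.a 1 1 = -4 * T.w 0 ∧ T.a 1 3 = 2 * T.w 0 ∧ T.a 1 2 = 0 ∧ T.a 1 4 = 0 ∧ T.a 3 3 = -4 * T.w 0 ∧ T.a 3 2 = 2 * T.w 0 ∧ T.a 3 4 = 0 ∧ T.a 2 2 = -4 * T.w 0 ∧ T.a 2 4 = 4 * T.w 0 ∧ T.a 4 4 = -8 * T.w 0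
          refine ⟨?_, ?_, ?_, ?_, ?_, ?_, ?_, ?_, ?_, ?_, ?_, ?_, ?_, ?_, ?_, ?_, ?_, ?_, ?_, ?_, ?_, ?_, ?_, ?_, ?_⟩ <;> omega
        · -- 34=(1,1)
          exact False.elim (cert_false T ((skipEmb 1).trans (Function.Embedding.refl _)) (by norm_num) (fun _ => hall _) (((((((LB_zero T ((skipEmb 1).trans (Function.Embedding.refl _))).upd 1 2 1 (le_of_eq hx23)).upd 1 3 2 (le_of_eq hx24)).upd 2 1 1 (le_of_eq hx32)).upd 2 3 1 (le_of_eq hx34)).upd 3 1 1 (le_of_eq hx42)).upd 3 2 1 (le_of_eq hx43)) ![0,1,1,1] (by decide) (by decide) 1 (by decide))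
        · -- 34=(1,2)
          exact False.elim (cert_false T ((skipEmb 2).trans (Function.Embedding.refl _)) (by norm_num) (fun _ => hall _) (((((((LB_zero T ((skipEmb 2).trans (Function.Embedding.refl _))).upd 0 1 2 (le_of_eq hx01)).upd 1 0 1 (le_of_eq hx10)).upd 1 2 1 (le_of_eq hx13)).upd 2 1 1 (le_of_eq hx31)).upd 2 3 1 (le_of_eq hx34)).upd 3 2 2 (le_of_eq hx43)) ![1,1,1,1] (by decide) (by decide) 0 (by decide))
        · -- 34=(2,1)
          exact False.elim (cert_false T ((skipEmb 2).trans (Function.Embedding.refl _)) (by norm_num) (fun _ => hall _) (((((((LB_zero T ((skipEmb 2).trans (Function.Embedding.refl _))).upd 0 1 2 (le_of_eq hx01)).upd 1 0 1 (le_of_eq hx10)).upd 1 2 1 (le_of_eq hx13)).upd 2 1 1 (le_of_eq hx31)).upd 2 3 2 (le_of_eq hx34)).upd 3 2 1 (le_of_eq hx43)) ![2,2,2,1] (by decide) (by decide) 0 (by decide))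
        · -- 34=(1,3)
          exact False.elim (cert_false T ((skipEmb 2).trans (Function.Embedding.refl _)) (by norm_num) (fun _ => hall _) (((((((LB_zero T ((skipEmb 2).trans (Function.Embedding.refl _))).upd 0 1 2 (le_of_eq hx01)).upd 1 0 1 (le_of_eq hx10)).upd 1 2 1 (le_of_eq hx13)).upd 2 1 1 (le_of_eq hx31)).upd 2 3 1 (le_of_eq hx34)).upd 3 2 3 (le_of_eq hx43)) ![1,1,1,1] (by decide) (by decide) 0 (by decide))
        · -- 34=(3,1)
          exact False.elim (cert_false T ((skipEmb 2).trans (Function.Embedding.refl _)) (by norm_num) (fun _ => hall _) (((((LB_zero T ((skipEmb 2).trans (Function.Embedding.refl _))).upd 1 2 1 (le_of_eq hx13)).upd 2 1 1 (le_of_eq hx31)).upd 2 3 3 (le_of_eq hx34)).upd 3 2 1 (le_of_eq hx43)) ![0,1,2,1] (by decide) (by decide) 1 (by decide))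
      · -- 24=(1,3)
        exact False.elim (cert_false T ((skipEmb 1).trans (Function.Embedding.refl _)) (by norm_num) (fun _ => hall _) (((((LB_zero T ((skipEmb 1).trans (Function.Embedding.refl _))).upd 1 2 1 (le_of_eq hx23)).upd 1 3 1 (le_of_eq hx24)).upd 2 1 1 (le_of_eq hx32)).upd 3 1 3 (le_of_eq hx42)) ![0,2,1,3] (by decide) (by decide) 1 (by decide))
      · -- 24=(3,1)
        exact False.elim (cert_false T ((skipEmb 1).trans (Function.Embedding.refl _)) (by norm_num) (fun _ => hall _) (((((LB_zero T ((skipEmb 1).trans (Function.Embedding.refl _))).upd 1 2 1 (le_of_eq hx23)).upd 1 3 3 (le_of_eq hx24)).upd 2 1 1 (le_of_eq hx32)).upd 3 1 1 (le_of_eq hx42)) ![0,2,1,1] (by decide) (by decide) 1 (by decide))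
    · -- 14=(1,1)
      exact False.elim (cert_false T ((skipEmb 2).trans (Function.Embedding.refl _)) (by norm_num) (fun _ => hall _) (((((((LB_zero T ((skipEmb 2).trans (Function.Embedding.refl _))).upd 0 1 2 (le_of_eq hx01)).upd 1 0 1 (le_of_eq hx10)).upd 1 2 1 (le_of_eq hx13)).upd 1 3 1 (le_of_eq hx14)).upd 2 1 1 (le_of_eq hx31)).upd 3 1 1 (le_of_eq hx41)) ![2,2,1,1] (by decide) (by decide) 0 (by decide))
    · -- 14=(1,2)
      exact False.elim (cert_false T ((skipEmb 3).trans (Function.Embedding.refl _)) (by norm_num) (fun _ => hall _) (((((LB_zero T ((skipEmb 3).trans (Function.Embedding.refl _))).upd 0 1 2 (le_of_eq hx01)).upd 1 0 1 (le_of_eq hx10)).upd 1 3 1 (le_of_eq hx14)).upd 3 1 2 (le_of_eq hx41)) ![1,1,0,1] (by decide) (by decide) 0 (by decide))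
    · -- 14=(2,1)
      exact False.elim (cert_false T ((skipEmb 3).trans (Function.Embedding.refl _)) (by norm_num) (fun _ => hall _) (((((LB_zero T ((skipEmb 3).trans (Function.Embedding.refl _))).upd 0 1 2 (le_of_eq hx01)).upd 1 0 1 (le_of_eq hx10)).upd 1 3 2 (le_of_eq hx14)).upd 3 1 1 (le_of_eq hx41)) ![2,2,0,1] (by decide) (by decide) 0 (by decide))
    · -- 14=(1,3)
      exact False.elim (cert_false T ((skipEmb 3).trans (Function.Embedding.refl _)) (by norm_num) (fun _ => hall _) (((((LB_zero T ((skipEmb 3).trans (Function.Embedding.refl _))).upd 0 1 2 (le_of_eq hx01)).upd 1 0 1 (le_of_eq hx10)).upd 1 3 1 (le_of_eq hx14)).upd 3 1 3 (le_of_eq hx41)) ![1,1,0,1] (by decide) (by decide) 0 (by decide))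
    · -- 14=(3,1)
      exact False.elim (cert_false T ((skipEmb 3).trans (Function.Embedding.refl _)) (by norm_num) (fun _ => hall _) (((((LB_zero T ((skipEmb 3).trans (Function.Embedding.refl _))).upd 0 1 2 (le_of_eq hx01)).upd 1 0 1 (le_of_eq hx10)).upd 1 3 3 (le_of_eq hx14)).upd 3 1 1 (le_of_eq hx41)) ![1,2,0,1] (by decide) (by decide) 0 (by decide))
  · -- 04=(1,1)
    rcases d14 with ⟨rfl, rfl⟩ | ⟨rfl, rfl⟩ | ⟨rfl, rfl⟩ | ⟨rfl, rfl⟩ | ⟨rfl, rfl⟩ | ⟨rfl, rfl⟩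
    · -- 14=(0,0)
      rcases d24 with ⟨rfl, rfl⟩ | ⟨rfl, rfl⟩ | ⟨rfl, rfl⟩ | ⟨rfl, rfl⟩ | ⟨rfl, rfl⟩ | ⟨rfl, rfl⟩
      · -- 24=(0,0)
        rcases d34 with ⟨rfl, rfl⟩ | ⟨rfl, rfl⟩ | ⟨rfl, rfl⟩ | ⟨rfl, rfl⟩ | ⟨rfl, rfl⟩ | ⟨rfl, rfl⟩
        · -- 34=(0,0)
          refine ⟨(⟨![2, 3, 1, 0, 4], ![3, 2, 0, 1, 4], by decide, by decide⟩ : Equiv.Perm (Fin 5)), T.m 2, T.w 0, Or.inr (Or.inr (Or.inl ?_))⟩
          show T.m 2 = T.m 2 ∧ T.m 3 = 2 * T.m 2 ∧ T.m 1 = 3 * T.m 2 ∧ T.m 0 = 4 * T.m 2 ∧ T.m 4 = 2 * T.m 2 ∧ T.w 2 = 2 * T.w 0 ∧ T.w 3 = 2 * T.w 0 ∧ T.w 1 = 2 * T.w 0 ∧ T.w 0 = T.w 0 ∧ T.w 4 = T.w 0 ∧ T.a 2 2 = -4 * T.w 0 ∧ T.a 2 3 = 2 * T.w 0 ∧ T.a 2 1 = 0 ∧ T.a 2 0 = 0 ∧ T.a 2 4 = 0 ∧ T.a 3 3 = -4 * T.w 0 ∧ T.a 3 1 = 2 * T.w 0 ∧ T.a 3 0 = 0 ∧ T.a 3 4 = 0 ∧ T.a 1 1 = -4 * T.w 0 ∧ T.a 1 0 = 2 * T.w 0 ∧ T.a 1 4 = 0 ∧ T.a 0 0 = -2 * T.w 0 ∧ T.a 0 4 = T.w 0 ∧ T.a 4 4 = -2 * T.w 0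
          refine ⟨?_, ?_, ?_, ?_, ?_, ?_, ?_, ?_, ?_, ?_, ?_, ?_, ?_, ?_, ?_, ?_, ?_, ?_, ?_, ?_, ?_, ?_, ?_, ?_, ?_⟩ <;> omega
        · -- 34=(1,1)
          exact False.elim (cert_false T ((skipEmb 2).trans (Function.Embedding.refl _)) (by norm_num) (fun _ => hall _) (((((((((LB_zero T ((skipEmb 2).trans (Function.Embedding.refl _))).upd 0 1 2 (le_of_eq hx01)).upd 0 3 1 (le_of_eq hx04)).upd 1 0 1 (le_of_eq hx10)).upd 1 2 1 (le_of_eq hx13)).upd 2 1 1 (le_of_eq hx31)).upd 2 3 1 (le_of_eq hx34)).upd 3 0 1 (le_of_eq hx40)).upd 3 2 1 (le_of_eq hx43)) ![1,1,1,1] (by decide) (by decide) 0 (by decide))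
        · -- 34=(1,2)
          exact False.elim (cert_false T ((skipEmb 2).trans (Function.Embedding.refl _)) (by norm_num) (fun _ => hall _) (((((((((LB_zero T ((skipEmb 2).trans (Function.Embedding.refl _))).upd 0 1 2 (le_of_eq hx01)).upd 0 3 1 (le_of_eq hx04)).upd 1 0 1 (le_of_eq hx10)).upd 1 2 1 (le_of_eq hx13)).upd 2 1 1 (le_of_eq hx31)).upd 2 3 1 (le_of_eq hx34)).upd 3 0 1 (le_of_eq hx40)).upd 3 2 2 (le_of_eq hx43)) ![1,1,1,1] (by decide) (by decide) 0 (by decide))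
        · -- 34=(2,1)
          exact False.elim (cert_false T ((skipEmb 2).trans (Function.Embedding.refl _)) (by norm_num) (fun _ => hall _) (((((((((LB_zero T ((skipEmb 2).trans (Function.Embedding.refl _))).upd 0 1 2 (le_of_eq hx01)).upd 0 3 1 (le_of_eq hx04)).upd 1 0 1 (le_of_eq hx10)).upd 1 2 1 (le_of_eq hx13)).upd 2 1 1 (le_of_eq hx31)).upd 2 3 2 (le_of_eq hx34)).upd 3 0 1 (le_of_eq hx40)).upd 3 2 1 (le_of_eq hx43)) ![1,1,1,1] (by decide) (by decide) 0 (by decide))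
        · -- 34=(1,3)
          exact False.elim (cert_false T ((skipEmb 2).trans (Function.Embedding.refl _)) (by norm_num) (fun _ => hall _) (((((((((LB_zero T ((skipEmb 2).trans (Function.Embedding.refl _))).upd 0 1 2 (le_of_eq hx01)).upd 0 3 1 (le_of_eq hx04)).upd 1 0 1 (le_of_eq hx10)).upd 1 2 1 (le_of_eq hx13)).upd 2 1 1 (le_of_eq hx31)).upd 2 3 1 (le_of_eq hx34)).upd 3 0 1 (le_of_eq hx40)).upd 3 2 3 (le_of_eq hx43)) ![1,1,1,1] (by decide) (by decide) 0 (by decide))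
        · -- 34=(3,1)
          exact False.elim (cert_false T ((skipEmb 2).trans (Function.Embedding.refl _)) (by norm_num) (fun _ => hall _) (((((((((LB_zero T ((skipEmb 2).trans (Function.Embedding.refl _))).upd 0 1 2 (le_of_eq hx01)).upd 0 3 1 (le_of_eq hx04)).upd 1 0 1 (le_of_eq hx10)).upd 1 2 1 (le_of_eq hx13)).upd 2 1 1 (le_of_eq hx31)).upd 2 3 3 (le_of_eq hx34)).upd 3 0 1 (le_of_eq hx40)).upd 3 2 1 (le_of_eq hx43)) ![1,1,1,1] (by decide) (by decide) 0 (by decide))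
      · -- 24=(1,1)
        rcases d34 with ⟨rfl, rfl⟩ | ⟨rfl, rfl⟩ | ⟨rfl, rfl⟩ | ⟨rfl, rfl⟩ | ⟨rfl, rfl⟩ | ⟨rfl, rfl⟩
        · -- 34=(0,0)
          exfalso; omega
        · -- 34=(1,1)
          exact False.elim (cert_false T ((skipEmb 2).trans (Function.Embedding.refl _)) (by norm_num) (fun _ => hall _) (((((((((LB_zero T ((skipEmb 2).trans (Function.Embedding.refl _))).upd 0 1 2 (le_of_eq hx01)).upd 0 3 1 (le_of_eq hx04)).upd 1 0 1 (le_of_eq hx10)).upd 1 2 1 (le_of_eq hx13)).upd 2 1 1 (le_of_eq hx31)).upd 2 3 1 (le_of_eq hx34)).upd 3 0 1 (le_of_eq hx40)).upd 3 2 1 (le_of_eq hx43)) ![1,1,1,1] (by decide) (by decide) 0 (by decide))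
        · -- 34=(1,2)
          exact False.elim (cert_false T ((skipEmb 2).trans (Function.Embedding.refl _)) (by norm_num) (fun _ => hall _) (((((((((LB_zero T ((skipEmb 2).trans (Function.Embedding.refl _))).upd 0 1 2 (le_of_eq hx01)).upd 0 3 1 (le_of_eq hx04)).upd 1 0 1 (le_of_eq hx10)).upd 1 2 1 (le_of_eq hx13)).upd 2 1 1 (le_of_eq hx31)).upd 2 3 1 (le_of_eq hx34)).upd 3 0 1 (le_of_eq hx40)).upd 3 2 2 (le_of_eq hx43)) ![1,1,1,1] (by decide) (by decide) 0 (by decide))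
        · -- 34=(2,1)
          exact False.elim (cert_false T ((skipEmb 2).trans (Function.Embedding.refl _)) (by norm_num) (fun _ => hall _) (((((((((LB_zero T ((skipEmb 2).trans (Function.Embedding.refl _))).upd 0 1 2 (le_of_eq hx01)).upd 0 3 1 (le_of_eq hx04)).upd 1 0 1 (le_of_eq hx10)).upd 1 2 1 (le_of_eq hx13)).upd 2 1 1 (le_of_eq hx31)).upd 2 3 2 (le_of_eq hx34)).upd 3 0 1 (le_of_eq hx40)).upd 3 2 1 (le_of_eq hx43)) ![1,1,1,1] (by decide) (by decide) 0 (by decide))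
        · -- 34=(1,3)
          exact False.elim (cert_false T ((skipEmb 2).trans (Function.Embedding.refl _)) (by norm_num) (fun _ => hall _) (((((((((LB_zero T ((skipEmb 2).trans (Function.Embedding.refl _))).upd 0 1 2 (le_of_eq hx01)).upd 0 3 1 (le_of_eq hx04)).upd 1 0 1 (le_of_eq hx10)).upd 1 2 1 (le_of_eq hx13)).upd 2 1 1 (le_of_eq hx31)).upd 2 3 1 (le_of_eq hx34)).upd 3 0 1 (le_of_eq hx40)).upd 3 2 3 (le_of_eq hx43)) ![1,1,1,1] (by decide) (by decide) 0 (by decide))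
        · -- 34=(3,1)
          exact False.elim (cert_false T ((skipEmb 2).trans (Function.Embedding.refl _)) (by norm_num) (fun _ => hall _) (((((((((LB_zero T ((skipEmb 2).trans (Function.Embedding.refl _))).upd 0 1 2 (le_of_eq hx01)).upd 0 3 1 (le_of_eq hx04)).upd 1 0 1 (le_of_eq hx10)).upd 1 2 1 (le_of_eq hx13)).upd 2 1 1 (le_of_eq hx31)).upd 2 3 3 (le_of_eq hx34)).upd 3 0 1 (le_of_eq hx40)).upd 3 2 1 (le_of_eq hx43)) ![1,1,1,1] (by decide) (by decide) 0 (by decide))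
      · -- 24=(1,2)
        exact False.elim (cert_false T ((skipEmb 3).trans (Function.Embedding.refl _)) (by norm_num) (fun _ => hall _) (((((((LB_zero T ((skipEmb 3).trans (Function.Embedding.refl _))).upd 0 1 2 (le_of_eq hx01)).upd 0 3 1 (le_of_eq hx04)).upd 1 0 1 (le_of_eq hx10)).upd 2 3 1 (le_of_eq hx24)).upd 3 0 1 (le_of_eq hx40)).upd 3 2 2 (le_of_eq hx42)) ![2,1,1,2] (by decide) (by decide) 0 (by decide))
      · -- 24=(2,1)
        exact False.elim (cert_false T ((skipEmb 3).trans (Function.Embedding.refl _)) (by norm_num) (fun _ => hall _) (((((((LB_zero T ((skipEmb 3).trans (Function.Embedding.refl _))).upd 0 1 2 (le_of_eq hx01)).upd 0 3 1 (le_of_eq hx04)).upd 1 0 1 (le_of_eq hx10)).upd 2 3 2 (le_of_eq hx24)).upd 3 0 1 (le_of_eq hx40)).upd 3 2 1 (le_of_eq hx42)) ![2,1,2,2] (by decide) (by decide) 0 (by decide))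
      · -- 24=(1,3)
        exact False.elim (cert_false T ((skipEmb 3).trans (Function.Embedding.refl _)) (by norm_num) (fun _ => hall _) (((((LB_zero T ((skipEmb 3).trans (Function.Embedding.refl _))).upd 0 3 1 (le_of_eq hx04)).upd 2 3 1 (le_of_eq hx24)).upd 3 0 1 (le_of_eq hx40)).upd 3 2 3 (le_of_eq hx42)) ![1,0,1,2] (by decide) (by decide) 0 (by decide))
      · -- 24=(3,1)
        exact False.elim (cert_false T ((skipEmb 3).trans (Function.Embedding.refl _)) (by norm_num) (fun _ => hall _) (((((((LB_zero T ((skipEmb 3).trans (Function.Embedding.refl _))).upd 0 1 2 (le_of_eq hx01)).upd 0 3 1 (le_of_eq hx04)).upd 1 0 1 (le_of_eq hx10)).upd 2 3 3 (le_of_eq hx24)).upd 3 0 1 (le_of_eq hx40)).upd 3 2 1 (le_of_eq hx42)) ![2,1,2,2] (by decide) (by decide) 0 (by decide))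
    · -- 14=(1,1)
      exact False.elim (cert_false T ((skipEmb 3).trans (Function.Embedding.refl _)) (by norm_num) (fun _ => hall _) (((((((LB_zero T ((skipEmb 3).trans (Function.Embedding.refl _))).upd 0 1 2 (le_of_eq hx01)).upd 0 3 1 (le_of_eq hx04)).upd 1 0 1 (le_of_eq hx10)).upd 1 3 1 (le_of_eq hx14)).upd 3 0 1 (le_of_eq hx40)).upd 3 1 1 (le_of_eq hx41)) ![1,1,0,1] (by decide) (by decide) 0 (by decide))
    · -- 14=(1,2)
      exact False.elim (cert_false T ((skipEmb 3).trans (Function.Embedding.refl _)) (by norm_num) (fun _ => hall _) (((((((LB_zero T ((skipEmb 3).trans (Function.Embedding.refl _))).upd 0 1 2 (le_of_eq hx01)).upd 0 3 1 (le_of_eq hx04)).upd 1 0 1 (le_of_eq hx10)).upd 1 3 1 (le_of_eq hx14)).upd 3 0 1 (le_of_eq hx40)).upd 3 1 2 (le_of_eq hx41)) ![1,1,0,1] (by decide) (by decide) 0 (by decide))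
    · -- 14=(2,1)
      exact False.elim (cert_false T ((skipEmb 3).trans (Function.Embedding.refl _)) (by norm_num) (fun _ => hall _) (((((((LB_zero T ((skipEmb 3).trans (Function.Embedding.refl _))).upd 0 1 2 (le_of_eq hx01)).upd 0 3 1 (le_of_eq hx04)).upd 1 0 1 (le_of_eq hx10)).upd 1 3 2 (le_of_eq hx14)).upd 3 0 1 (le_of_eq hx40)).upd 3 1 1 (le_of_eq hx41)) ![1,1,0,1] (by decide) (by decide) 0 (by decide))
    · -- 14=(1,3)
      exact False.elim (cert_false T ((skipEmb 3).trans (Function.Embedding.refl _)) (by norm_num) (fun _ => hall _) (((((((LB_zero T ((skipEmb 3).trans (Function.Embedding.refl _))).upd 0 1 2 (le_of_eq hx01)).upd 0 3 1 (le_of_eq hx04)).upd 1 0 1 (le_of_eq hx10)).upd 1 3 1 (le_of_eq hx14)).upd 3 0 1 (le_of_eq hx40)).upd 3 1 3 (le_of_eq hx41)) ![1,1,0,1] (by decide) (by decide) 0 (by decide))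
    · -- 14=(3,1)
      exact False.elim (cert_false T ((skipEmb 3).trans (Function.Embedding.refl _)) (by norm_num) (fun _ => hall _) (((((((LB_zero T ((skipEmb 3).trans (Function.Embedding.refl _))).upd 0 1 2 (le_of_eq hx01)).upd 0 3 1 (le_of_eq hx04)).upd 1 0 1 (le_of_eq hx10)).upd 1 3 3 (le_of_eq hx14)).upd 3 0 1 (le_of_eq hx40)).upd 3 1 1 (le_of_eq hx41)) ![1,1,0,1] (by decide) (by decide) 0 (by decide))
  · -- 04=(1,2)
    exact False.elim (cert_false T ((skipEmb 3).trans (Function.Embedding.refl _)) (by norm_num) (fun _ => hall _) (((((LB_zero T ((skipEmb 3).trans (Function.Embedding.refl _))).upd 0 1 2 (le_of_eq hx01)).upd 0 3 1 (le_of_eq hx04)).upd 1 0 1 (le_of_eq hx10)).upd 3 0 2 (le_of_eq hx40)) ![2,1,0,2] (by decide) (by decide) 0 (by decide))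
  · -- 04=(2,1)
    exact False.elim (cert_false T ((skipEmb 3).trans (Function.Embedding.refl _)) (by norm_num) (fun _ => hall _) (((((LB_zero T ((skipEmb 3).trans (Function.Embedding.refl _))).upd 0 1 2 (le_of_eq hx01)).upd 0 3 2 (le_of_eq hx04)).upd 1 0 1 (le_of_eq hx10)).upd 3 0 1 (le_of_eq hx40)) ![2,1,0,1] (by decide) (by decide) 0 (by decide))
  · -- 04=(1,3)
    exact False.elim (cert_false T ((skipEmb 3).trans (Function.Embedding.refl _)) (by norm_num) (fun _ => hall _) (((((LB_zero T ((skipEmb 3).trans (Function.Embedding.refl _))).upd 0 1 2 (le_of_eq hx01)).upd 0 3 1 (le_of_eq hx04)).upd 1 0 1 (le_of_eq hx10)).upd 3 0 3 (le_of_eq hx40)) ![2,1,0,2] (by decide) (by decide) 0 (by decide))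
  · -- 04=(3,1)
    exact False.elim (cert_false T ((skipEmb 3).trans (Function.Embedding.refl _)) (by norm_num) (fun _ => hall _) (((((LB_zero T ((skipEmb 3).trans (Function.Embedding.refl _))).upd 0 1 2 (le_of_eq hx01)).upd 0 3 3 (le_of_eq hx04)).upd 1 0 1 (le_of_eq hx10)).upd 3 0 1 (le_of_eq hx40)) ![2,1,0,1] (by decide) (by decide) 0 (by decide))

theorem case479 (T : NumericalType 5) (hall : ∀ i, T.IsMinusTwo i) (d : SData T)
    (h01 : N T (Function.Embedding.refl _) 0 1 = 2) (h10 : N T (Function.Embedding.refl _) 1 0 = 1)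
    (h02 : N T (Function.Embedding.refl _) 0 2 = 0) (h20 : N T (Function.Embedding.refl _) 2 0 = 0)
    (h12 : N T (Function.Embedding.refl _) 1 2 = 0) (h21 : N T (Function.Embedding.refl _) 2 1 = 0)
    (h03 : N T (Function.Embedding.refl _) 0 3 = 0) (h30 : N T (Function.Embedding.refl _) 3 0 = 0)
    (h13 : N T (Function.Embedding.refl _) 1 3 = 1) (h31 : N T (Function.Embedding.refl _) 3 1 = 1) :
    Goal T := by
  unfold Goal
  have hd := d
  obtain ⟨x01, x02, x03, x04, x10, x12, x13, x14, x20, x21, x23, x24, x30, x31, x32, x34, x40, x41, x42, x43, hx01, hx02, hx03, hx04, hx10, hx12, hx13, hx14, hx20, hx21, hx23, hx24, hx30, hx31, hx32, hx34, hx40, hx41, hx42, hx43, hw0, hm0, hw1, hm1, hw2, hm2, hw3, hm3, hw4, hm4, a00, a01, a02, a03, a04, a11, a10, a12, a13, a14, a22, a20, a21, a23, a24, a33, a30, a31, a32, a34, a44, a40, a41, a42, a43, wN01, wN02, wN12, wN03, wN13, wN23, wN04, wN14, wN24, wN34, e0, e1, e2, e3,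 e4, d01, d02, d12, d03, d13, d23, d04, d14, d24, d34⟩ := d
  obtain rfl : x01 = 2 := hx01.trans h01
  obtain rfl : x10 = 1 := hx10.trans h10
  obtain rfl : x02 = 0 := hx02.trans h02
  obtain rfl : x20 = 0 := hx20.trans h20
  obtain rfl : x12 = 0 := hx12.trans h12
  obtain rfl : x21 = 0 := hx21.trans h21
  obtain rfl : x03 = 0 := hx03.trans h03
  obtain rfl : x30 = 0 := hx30.trans h30
  obtain rfl : x13 = 1 := hx13.trans h13
  obtain rfl : x31 = 1 := hx31.trans h31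
  rcases d23 with ⟨rfl, rfl⟩ | ⟨rfl, rfl⟩ | ⟨rfl, rfl⟩ | ⟨rfl, rfl⟩ | ⟨rfl, rfl⟩ | ⟨rfl, rfl⟩
  · -- 23=(0,0)
    exact case480 T hall hd hx01.symm hx10.symm hx02.symm hx20.symm hx12.symm hx21.symm hx03.symm hx30.symm hx13.symm hx31.symm hx23.symm hx32.symm
  · -- 23=(1,1)
    exact case481 T hall hd hx01.symm hx10.symm hx02.symm hx20.symm hx12.symm hx21.symm hx03.symm hx30.symm hx13.symm hx31.symm hx23.symm hx32.symm
  · -- 23=(1,2)
    exact False.elim (cert_false T ((skipEmb 4).trans (Function.Embedding.refl _)) (by norm_num) (fun _ => hall _) (((((((LB_zero T ((skipEmb 4).trans (Function.Embedding.refl _))).upd 0 1 2 (le_of_eq hx01)).upd 1 0 1 (le_of_eq hx10)).upd 1 3 1 (le_of_eq hx13)).upd 2 3 1 (le_of_eq hx23)).upd 3 1 1 (le_of_eq hx31)).upd 3 2 2 (le_of_eq hx32)) ![2,2,1,2] (by decide) (by decide) 0 (by decide))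
  · -- 23=(2,1)
    exact False.elim (cert_false T ((skipEmb 4).trans (Function.Embedding.refl _)) (by norm_num) (fun _ => hall _) (((((((LB_zero T ((skipEmb 4).trans (Function.Embedding.refl _))).upd 0 1 2 (le_of_eq hx01)).upd 1 0 1 (le_of_eq hx10)).upd 1 3 1 (le_of_eq hx13)).upd 2 3 2 (le_of_eq hx23)).upd 3 1 1 (le_of_eq hx31)).upd 3 2 1 (le_of_eq hx32)) ![1,1,1,1] (by decide) (by decide) 0 (by decide))
  · -- 23=(1,3)
    exact False.elim (cert_false T ((skipEmb 4).trans (Function.Embedding.refl _)) (by norm_num) (fun _ => hall _) (((((LB_zero T ((skipEmb 4).trans (Function.Embedding.refl _))).upd 1 3 1 (le_of_eq hx13)).upd 2 3 1 (le_of_eq hx23)).upd 3 1 1 (le_of_eq hx31)).upd 3 2 3 (le_of_eq hx32)) ![0,1,1,2] (by decide) (by decide) 1 (by decide))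
  · -- 23=(3,1)
    exact False.elim (cert_false T ((skipEmb 4).trans (Function.Embedding.refl _)) (by norm_num) (fun _ => hall _) (((((((LB_zero T ((skipEmb 4).trans (Function.Embedding.refl _))).upd 0 1 2 (le_of_eq hx01)).upd 1 0 1 (le_of_eq hx10)).upd 1 3 1 (le_of_eq hx13)).upd 2 3 3 (le_of_eq hx23)).upd 3 1 1 (le_of_eq hx31)).upd 3 2 1 (le_of_eq hx32)) ![1,1,1,1] (by decide) (by decide) 0 (by decide))

end Groth.Agent.Lib.helper11.G5
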