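import Groth.Agent.Lib.helper11.G5.Setup

set_option autoImplicit false
set_option maxRecDepth 4000

namespace Groth.Agent.Lib.helper11.G5

open Models Groth.Agent.Lib.helper11.NumType

theorem case39 (T : NumericalType 5) (hall : ∀ i, T.IsMinusTwo i) (d : SData T)
    (h01 : N T (Function.Embedding.refl _) 0 1 = 0) (h10 : N T (Function.Embedding.refl _) 1 0 = 0)
    (h02 : N T (Function.Embedding.refl _) 0 2 = 0) (h20 : N T (Function.Embedding.refl _) 2 0 = 0)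
    (h12 : N T (Function.Embedding.refl _) 1 2 = 0) (h21 : N T (Function.Embedding.refl _) 2 1 = 0)
    (h03 : N T (Function.Embedding.refl _) 0 3 = 0) (h30 : N T (Function.Embedding.refl _) 3 0 = 0)
    (h13 : N T (Function.Embedding.refl _) 1 3 = 1) (h31 : N T (Function.Embedding.refl _) 3 1 = 3)
    (h23 : N T (Function.Embedding.refl _) 2 3 = 0) (h32 : N T (Function.Embedding.refl _) 3 2 = 0) :
    Goal T := by
  unfold Goal
  have hd := d
  obtain ⟨x01, x02, x03, x04, x10, x12, x13, x14, x20, x21, x23, x24, x30, x31, x32, x34, x40, x41, x42, x43, hx01, hx02, hx03, hx04, hx10, hx12, hx13, hx14, hx20, hx21, hx23, hx24, hx30, hx31, hx32, hx34, hx40, hx41, hx42, hx43, hw0, hm0, hw1, hm1, hw2, hm2, hw3, hm3, hw4, hm4, a00, a01, a02, a03, a04, a11, a10, a12, a13, a14, a22, a20, a21, a23, a24, a33, a30, a31, a32, a34, a44, a40, a41, a42, a43, wN01, wN02, wN12, wN03, wN13, wN23, wN04, wN14, wN24, wN34, e0, e1, e2, e3,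 e4, d01, d02, d12, d03, d13, d23, d04, d14, d24, d34⟩ := d
  obtain rfl : x01 = 0 := hx01.trans h01
  obtain rfl : x10 = 0 := hx10.trans h10
  obtain rfl : x02 = 0 := hx02.trans h02
  obtain rfl : x20 = 0 := hx20.trans h20
  obtain rfl : x12 = 0 := hx12.trans h12
  obtain rfl : x21 = 0 := hx21.trans h21
  obtain rfl : x03 = 0 := hx03.trans h03
  obtain rfl : x30 = 0 := hx30.trans h30
  obtain rfl : x13 = 1 := hx13.trans h13
  obtain rfl : x31 = 3 := hx31.trans h31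
  obtain rfl : x23 = 0 := hx23.trans h23
  obtain rfl : x32 = 0 := hx32.trans h32
  rcases d04 with ⟨rfl, rfl⟩ | ⟨rfl, rfl⟩ | ⟨rfl, rfl⟩ | ⟨rfl, rfl⟩ | ⟨rfl, rfl⟩ | ⟨rfl, rfl⟩
  · -- 04=(0,0)
    rcases d14 with ⟨rfl, rfl⟩ | ⟨rfl, rfl⟩ | ⟨rfl, rfl⟩ | ⟨rfl, rfl⟩ | ⟨rfl, rfl⟩ | ⟨rfl, rfl⟩
    · -- 14=(0,0)
      rcases d24 with ⟨rfl, rfl⟩ | ⟨rfl, rfl⟩ | ⟨rfl, rfl⟩ | ⟨rfl, rfl⟩ | ⟨rfl, rfl⟩ | ⟨rfl, rfl⟩
      · -- 24=(0,0)
        rcases d34 with ⟨rfl, rfl⟩ | ⟨rfl, rfl⟩ | ⟨rfl, rfl⟩ | ⟨rfl, rfl⟩ | ⟨rfl, rfl⟩ | ⟨rfl, rfl⟩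
        · -- 34=(0,0)
          exfalso; omega
        · -- 34=(1,1)
          exact False.elim (cert_false T ((skipEmb 2).trans (Function.Embedding.refl _)) (by norm_num) (fun _ => hall _) (((((LB_zero T ((skipEmb 2).trans (Function.Embedding.refl _))).upd 1 2 1 (le_of_eq hx13)).upd 2 1 3 (le_of_eq hx31)).upd 2 3 1 (le_of_eq hx34)).upd 3 2 1 (le_of_eq hx43)) ![0,1,2,1] (by decide) (by decide) 1 (by decide))
        · -- 34=(1,2)
          exact False.elim (cert_false T ((skipEmb 2).trans (Function.Embedding.refl _)) (by norm_num) (fun _ => hall _) (((((LB_zero T ((skipEmb 2).trans (Function.Embedding.refl _))).upd 1 2 1 (le_of_eq hx13)).upd 2 1 3 (le_of_eq hx31)).upd 2 3 1 (le_of_eq hx34)).upd 3 2 2 (le_of_eq hx43)) ![0,1,2,1] (by decide) (by decide) 1 (by decide))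
        · -- 34=(2,1)
          exact False.elim (cert_false T ((skipEmb 2).trans (Function.Embedding.refl _)) (by norm_num) (fun _ => hall _) (((((LB_zero T ((skipEmb 2).trans (Function.Embedding.refl _))).upd 1 2 1 (le_of_eq hx13)).upd 2 1 3 (le_of_eq hx31)).upd 2 3 2 (le_of_eq hx34)).upd 3 2 1 (le_of_eq hx43)) ![0,1,2,1] (by decide) (by decide) 1 (by decide))
        · -- 34=(1,3)
          exact False.elim (cert_false T ((skipEmb 2).trans (Function.Embedding.refl _)) (by norm_num) (fun _ => hall _) (((((LB_zero T ((skipEmb 2).trans (Function.Embedding.refl _))).upd 1 2 1 (le_of_eq hx13)).upd 2 1 3 (le_of_eq hx31)).upd 2 3 1 (le_of_eq hx34)).upd 3 2 3 (le_of_eq hx43)) ![0,1,2,1] (by decide) (by decide) 1 (by decide))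
        · -- 34=(3,1)
          exact False.elim (cert_false T ((skipEmb 2).trans (Function.Embedding.refl _)) (by norm_num) (fun _ => hall _) (((((LB_zero T ((skipEmb 2).trans (Function.Embedding.refl _))).upd 1 2 1 (le_of_eq hx13)).upd 2 1 3 (le_of_eq hx31)).upd 2 3 3 (le_of_eq hx34)).upd 3 2 1 (le_of_eq hx43)) ![0,1,2,1] (by decide) (by decide) 1 (by decide))
      · -- 24=(1,1)
        rcases d34 with ⟨rfl, rfl⟩ | ⟨rfl, rfl⟩ | ⟨rfl, rfl⟩ | ⟨rfl, rfl⟩ | ⟨rfl, rfl⟩ | ⟨rfl, rfl⟩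
        · -- 34=(0,0)
          exfalso; omega
        · -- 34=(1,1)
          exact False.elim (cert_false T ((skipEmb 2).trans (Function.Embedding.refl _)) (by norm_num) (fun _ => hall _) (((((LB_zero T ((skipEmb 2).trans (Function.Embedding.refl _))).upd 1 2 1 (le_of_eq hx13)).upd 2 1 3 (le_of_eq hx31)).upd 2 3 1 (le_of_eq hx34)).upd 3 2 1 (le_of_eq hx43)) ![0,1,2,1] (by decide) (by decide) 1 (by decide))
        · -- 34=(1,2)
          exact False.elim (cert_false T ((skipEmb 2).trans (Function.Embedding.refl _)) (by norm_num) (fun _ => hall _) (((((LB_zero T ((skipEmb 2).trans (Function.Embedding.refl _))).upd 1 2 1 (le_of_eq hx13)).upd 2 1 3 (le_of_eq hx31)).upd 2 3 1 (le_of_eq hx34)).upd 3 2 2 (le_of_eq hx43)) ![0,1,2,1] (by decide) (by decide) 1 (by decide))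
        · -- 34=(2,1)
          exact False.elim (cert_false T ((skipEmb 2).trans (Function.Embedding.refl _)) (by norm_num) (fun _ => hall _) (((((LB_zero T ((skipEmb 2).trans (Function.Embedding.refl _))).upd 1 2 1 (le_of_eq hx13)).upd 2 1 3 (le_of_eq hx31)).upd 2 3 2 (le_of_eq hx34)).upd 3 2 1 (le_of_eq hx43)) ![0,1,2,1] (by decide) (by decide) 1 (by decide))
        · -- 34=(1,3)
          exact False.elim (cert_false T ((skipEmb 2).trans (Function.Embedding.refl _)) (by norm_num) (fun _ => hall _) (((((LB_zero T ((skipEmb 2).trans (Function.Embedding.refl _))).upd 1 2 1 (le_of_eq hx13)).upd 2 1 3 (le_of_eq hx31)).upd 2 3 1 (le_of_eq hx34)).upd 3 2 3 (le_of_eq hx43)) ![0,1,2,1] (by decide) (by decide) 1 (by decide))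
        · -- 34=(3,1)
          exact False.elim (cert_false T ((skipEmb 2).trans (Function.Embedding.refl _)) (by norm_num) (fun _ => hall _) (((((LB_zero T ((skipEmb 2).trans (Function.Embedding.refl _))).upd 1 2 1 (le_of_eq hx13)).upd 2 1 3 (le_of_eq hx31)).upd 2 3 3 (le_of_eq hx34)).upd 3 2 1 (le_of_eq hx43)) ![0,1,2,1] (by decide) (by decide) 1 (by decide))
      · -- 24=(1,2)
        rcases d34 with ⟨rfl, rfl⟩ | ⟨rfl, rfl⟩ | ⟨rfl, rfl⟩ | ⟨rfl, rfl⟩ | ⟨rfl, rfl⟩ | ⟨rfl, rfl⟩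
        · -- 34=(0,0)
          exfalso; omega
        · -- 34=(1,1)
          exact False.elim (cert_false T ((skipEmb 2).trans (Function.Embedding.refl _)) (by norm_num) (fun _ => hall _) (((((LB_zero T ((skipEmb 2).trans (Function.Embedding.refl _))).upd 1 2 1 (le_of_eq hx13)).upd 2 1 3 (le_of_eq hx31)).upd 2 3 1 (le_of_eq hx34)).upd 3 2 1 (le_of_eq hx43)) ![0,1,2,1] (by decide) (by decide) 1 (by decide))
        · -- 34=(1,2)
          exact False.elim (cert_false T ((skipEmb 2).trans (Function.Embedding.refl _)) (by norm_num) (fun _ => hall _) (((((LB_zero T ((skipEmb 2).trans (Function.Embedding.refl _))).upd 1 2 1 (le_of_eq hx13)).upd 2 1 3 (le_of_eq hx31)).upd 2 3 1 (le_of_eq hx34)).upd 3 2 2 (le_of_eq hx43)) ![0,1,2,1] (by decide) (by decide) 1 (by decide))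
        · -- 34=(2,1)
          exact False.elim (cert_false T ((skipEmb 2).trans (Function.Embedding.refl _)) (by norm_num) (fun _ => hall _) (((((LB_zero T ((skipEmb 2).trans (Function.Embedding.refl _))).upd 1 2 1 (le_of_eq hx13)).upd 2 1 3 (le_of_eq hx31)).upd 2 3 2 (le_of_eq hx34)).upd 3 2 1 (le_of_eq hx43)) ![0,1,2,1] (by decide) (by decide) 1 (by decide))
        · -- 34=(1,3)
          exact False.elim (cert_false T ((skipEmb 2).trans (Function.Embedding.refl _)) (by norm_num) (fun _ => hall _) (((((LB_zero T ((skipEmb 2).trans (Function.Embedding.refl _))).upd 1 2 1 (le_of_eq hx13)).upd 2 1 3 (le_of_eq hx31)).upd 2 3 1 (le_of_eq hx34)).upd 3 2 3 (le_of_eq hx43)) ![0,1,2,1] (by decide) (by decide) 1 (by decide))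
        · -- 34=(3,1)
          exact False.elim (cert_false T ((skipEmb 2).trans (Function.Embedding.refl _)) (by norm_num) (fun _ => hall _) (((((LB_zero T ((skipEmb 2).trans (Function.Embedding.refl _))).upd 1 2 1 (le_of_eq hx13)).upd 2 1 3 (le_of_eq hx31)).upd 2 3 3 (le_of_eq hx34)).upd 3 2 1 (le_of_eq hx43)) ![0,1,2,1] (by decide) (by decide) 1 (by decide))
      · -- 24=(2,1)
        rcases d34 with ⟨rfl, rfl⟩ | ⟨rfl, rfl⟩ | ⟨rfl, rfl⟩ | ⟨rfl, rfl⟩ | ⟨rfl, rfl⟩ | ⟨rfl, rfl⟩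
        · -- 34=(0,0)
          exfalso; omega
        · -- 34=(1,1)
          exact False.elim (cert_false T ((skipEmb 2).trans (Function.Embedding.refl _)) (by norm_num) (fun _ => hall _) (((((LB_zero T ((skipEmb 2).trans (Function.Embedding.refl _))).upd 1 2 1 (le_of_eq hx13)).upd 2 1 3 (le_of_eq hx31)).upd 2 3 1 (le_of_eq hx34)).upd 3 2 1 (le_of_eq hx43)) ![0,1,2,1] (by decide) (by decide) 1 (by decide))
        · -- 34=(1,2)
          exact False.elim (cert_false T ((skipEmb 2).trans (Function.Embedding.refl _)) (by norm_num) (fun _ => hall _) (((((LB_zero T ((skipEmb 2).trans (Function.Embedding.refl _))).upd 1 2 1 (le_of_eq hx13)).upd 2 1 3 (le_of_eq hx31)).upd 2 3 1 (le_of_eq hx34)).upd 3 2 2 (le_of_eq hx43)) ![0,1,2,1] (by decide) (by decide) 1 (by decide))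
        · -- 34=(2,1)
          exact False.elim (cert_false T ((skipEmb 2).trans (Function.Embedding.refl _)) (by norm_num) (fun _ => hall _) (((((LB_zero T ((skipEmb 2).trans (Function.Embedding.refl _))).upd 1 2 1 (le_of_eq hx13)).upd 2 1 3 (le_of_eq hx31)).upd 2 3 2 (le_of_eq hx34)).upd 3 2 1 (le_of_eq hx43)) ![0,1,2,1] (by decide) (by decide) 1 (by decide))
        · -- 34=(1,3)
          exact False.elim (cert_false T ((skipEmb 2).trans (Function.Embedding.refl _)) (by norm_num) (fun _ => hall _) (((((LB_zero T ((skipEmb 2).trans (Function.Embedding.refl _))).upd 1 2 1 (le_of_eq hx13)).upd 2 1 3 (le_of_eq hx31)).upd 2 3 1 (le_of_eq hx34)).upd 3 2 3 (le_of_eq hx43)) ![0,1,2,1] (by decide) (by decide) 1 (by decide))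
        · -- 34=(3,1)
          exact False.elim (cert_false T ((skipEmb 2).trans (Function.Embedding.refl _)) (by norm_num) (fun _ => hall _) (((((LB_zero T ((skipEmb 2).trans (Function.Embedding.refl _))).upd 1 2 1 (le_of_eq hx13)).upd 2 1 3 (le_of_eq hx31)).upd 2 3 3 (le_of_eq hx34)).upd 3 2 1 (le_of_eq hx43)) ![0,1,2,1] (by decide) (by decide) 1 (by decide))
      · -- 24=(1,3)
        rcases d34 with ⟨rfl, rfl⟩ | ⟨rfl, rfl⟩ | ⟨rfl, rfl⟩ | ⟨rfl, rfl⟩ | ⟨rfl, rfl⟩ | ⟨rfl, rfl⟩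
        · -- 34=(0,0)
          exfalso; omega
        · -- 34=(1,1)
          exact False.elim (cert_false T ((skipEmb 2).trans (Function.Embedding.refl _)) (by norm_num) (fun _ => hall _) (((((LB_zero T ((skipEmb 2).trans (Function.Embedding.refl _))).upd 1 2 1 (le_of_eq hx13)).upd 2 1 3 (le_of_eq hx31)).upd 2 3 1 (le_of_eq hx34)).upd 3 2 1 (le_of_eq hx43)) ![0,1,2,1] (by decide) (by decide) 1 (by decide))
        · -- 34=(1,2)
          exact False.elim (cert_false T ((skipEmb 2).trans (Function.Embedding.refl _)) (by norm_num) (fun _ => hall _) (((((LB_zero T ((skipEmb 2).trans (Function.Embedding.refl _))).upd 1 2 1 (le_of_eq hx13)).upd 2 1 3 (le_of_eq hx31)).upd 2 3 1 (le_of_eq hx34)).upd 3 2 2 (le_of_eq hx43)) ![0,1,2,1] (by decide) (by decide) 1 (by decide))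
        · -- 34=(2,1)
          exact False.elim (cert_false T ((skipEmb 2).trans (Function.Embedding.refl _)) (by norm_num) (fun _ => hall _) (((((LB_zero T ((skipEmb 2).trans (Function.Embedding.refl _))).upd 1 2 1 (le_of_eq hx13)).upd 2 1 3 (le_of_eq hx31)).upd 2 3 2 (le_of_eq hx34)).upd 3 2 1 (le_of_eq hx43)) ![0,1,2,1] (by decide) (by decide) 1 (by decide))
        · -- 34=(1,3)
          exact False.elim (cert_false T ((skipEmb 2).trans (Function.Embedding.refl _)) (by norm_num) (fun _ => hall _) (((((LB_zero T ((skipEmb 2).trans (Function.Embedding.refl _))).upd 1 2 1 (le_of_eq hx13)).upd 2 1 3 (le_of_eq hx31)).upd 2 3 1 (le_of_eq hx34)).upd 3 2 3 (le_of_eq hx43)) ![0,1,2,1] (by decide) (by decide) 1 (by decide))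
        · -- 34=(3,1)
          exact False.elim (cert_false T ((skipEmb 2).trans (Function.Embedding.refl _)) (by norm_num) (fun _ => hall _) (((((LB_zero T ((skipEmb 2).trans (Function.Embedding.refl _))).upd 1 2 1 (le_of_eq hx13)).upd 2 1 3 (le_of_eq hx31)).upd 2 3 3 (le_of_eq hx34)).upd 3 2 1 (le_of_eq hx43)) ![0,1,2,1] (by decide) (by decide) 1 (by decide))
      · -- 24=(3,1)
        rcases d34 with ⟨rfl, rfl⟩ | ⟨rfl, rfl⟩ | ⟨rfl, rfl⟩ | ⟨rfl, rfl⟩ | ⟨rfl, rfl⟩ | ⟨rfl, rfl⟩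
        · -- 34=(0,0)
          exfalso; omega
        · -- 34=(1,1)
          exact False.elim (cert_false T ((skipEmb 2).trans (Function.Embedding.refl _)) (by norm_num) (fun _ => hall _) (((((LB_zero T ((skipEmb 2).trans (Function.Embedding.refl _))).upd 1 2 1 (le_of_eq hx13)).upd 2 1 3 (le_of_eq hx31)).upd 2 3 1 (le_of_eq hx34)).upd 3 2 1 (le_of_eq hx43)) ![0,1,2,1] (by decide) (by decide) 1 (by decide))
        · -- 34=(1,2)
          exact False.elim (cert_false T ((skipEmb 2).trans (Function.Embedding.refl _)) (by norm_num) (fun _ => hall _) (((((LB_zero T ((skipEmb 2).trans (Function.Embedding.refl _))).upd 1 2 1 (le_of_eq hx13)).upd 2 1 3 (le_of_eq hx31)).upd 2 3 1 (le_of_eq hx34)).upd 3 2 2 (le_of_eq hx43)) ![0,1,2,1] (by decide) (by decide) 1 (by decide))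
        · -- 34=(2,1)
          exact False.elim (cert_false T ((skipEmb 2).trans (Function.Embedding.refl _)) (by norm_num) (fun _ => hall _) (((((LB_zero T ((skipEmb 2).trans (Function.Embedding.refl _))).upd 1 2 1 (le_of_eq hx13)).upd 2 1 3 (le_of_eq hx31)).upd 2 3 2 (le_of_eq hx34)).upd 3 2 1 (le_of_eq hx43)) ![0,1,2,1] (by decide) (by decide) 1 (by decide))
        · -- 34=(1,3)
          exact False.elim (cert_false T ((skipEmb 2).trans (Function.Embedding.refl _)) (by norm_num) (fun _ => hall _) (((((LB_zero T ((skipEmb 2).trans (Function.Embedding.refl _))).upd 1 2 1 (le_of_eq hx13)).upd 2 1 3 (le_of_eq hx31)).upd 2 3 1 (le_of_eq hx34)).upd 3 2 3 (le_of_eq hx43)) ![0,1,2,1] (by decide) (by decide) 1 (by decide))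
        · -- 34=(3,1)
          exact False.elim (cert_false T ((skipEmb 2).trans (Function.Embedding.refl _)) (by norm_num) (fun _ => hall _) (((((LB_zero T ((skipEmb 2).trans (Function.Embedding.refl _))).upd 1 2 1 (le_of_eq hx13)).upd 2 1 3 (le_of_eq hx31)).upd 2 3 3 (le_of_eq hx34)).upd 3 2 1 (le_of_eq hx43)) ![0,1,2,1] (by decide) (by decide) 1 (by decide))
    · -- 14=(1,1)
      exact False.elim (cert_false T ((skipEmb 2).trans (Function.Embedding.refl _)) (by norm_num) (fun _ => hall _) (((((LB_zero T ((skipEmb 2).trans (Function.Embedding.refl _))).upd 1 2 1 (le_of_eq hx13)).upd 1 3 1 (le_of_eq hx14)).upd 2 1 3 (le_of_eq hx31)).upd 3 1 1 (le_of_eq hx41)) ![0,2,3,1] (by decide) (by decide) 1 (by decide))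
    · -- 14=(1,2)
      exact False.elim (cert_false T ((skipEmb 2).trans (Function.Embedding.refl _)) (by norm_num) (fun _ => hall _) (((((LB_zero T ((skipEmb 2).trans (Function.Embedding.refl _))).upd 1 2 1 (le_of_eq hx13)).upd 1 3 1 (le_of_eq hx14)).upd 2 1 3 (le_of_eq hx31)).upd 3 1 2 (le_of_eq hx41)) ![0,1,1,1] (by decide) (by decide) 1 (by decide))
    · -- 14=(2,1)
      exact False.elim (cert_false T ((skipEmb 2).trans (Function.Embedding.refl _)) (by norm_num) (fun _ => hall _) (((((LB_zero T ((skipEmb 2).trans (Function.Embedding.refl _))).upd 1 2 1 (le_of_eq hx13)).upd 1 3 2 (le_of_eq hx14)).upd 2 1 3 (le_of_eq hx31)).upd 3 1 1 (le_of_eq hx41)) ![0,2,2,1] (by decide) (by decide) 1 (by decide))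
    · -- 14=(1,3)
      exact False.elim (cert_false T ((skipEmb 2).trans (Function.Embedding.refl _)) (by norm_num) (fun _ => hall _) (((((LB_zero T ((skipEmb 2).trans (Function.Embedding.refl _))).upd 1 2 1 (le_of_eq hx13)).upd 1 3 1 (le_of_eq hx14)).upd 2 1 3 (le_of_eq hx31)).upd 3 1 3 (le_of_eq hx41)) ![0,1,1,1] (by decide) (by decide) 1 (by decide))
    · -- 14=(3,1)
      exact False.elim (cert_false T ((skipEmb 2).trans (Function.Embedding.refl _)) (by norm_num) (fun _ => hall _) (((((LB_zero T ((skipEmb 2).trans (Function.Embedding.refl _))).upd 1 2 1 (le_of_eq hx13)).upd 1 3 3 (le_of_eq hx14)).upd 2 1 3 (le_of_eq hx31)).upd 3 1 1 (le_of_eq hx41)) ![0,2,1,1] (by decide) (by decide) 1 (by decide))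
  · -- 04=(1,1)
    rcases d14 with ⟨rfl, rfl⟩ | ⟨rfl, rfl⟩ | ⟨rfl, rfl⟩ | ⟨rfl, rfl⟩ | ⟨rfl, rfl⟩ | ⟨rfl, rfl⟩
    · -- 14=(0,0)
      rcases d24 with ⟨rfl, rfl⟩ | ⟨rfl, rfl⟩ | ⟨rfl, rfl⟩ | ⟨rfl, rfl⟩ | ⟨rfl, rfl⟩ | ⟨rfl, rfl⟩
      · -- 24=(0,0)
        rcases d34 with ⟨rfl, rfl⟩ | ⟨rfl, rfl⟩ | ⟨rfl, rfl⟩ | ⟨rfl, rfl⟩ | ⟨rfl, rfl⟩ | ⟨rfl, rfl⟩
        · -- 34=(0,0)
          exfalso; omega
        · -- 34=(1,1)
          exact False.elim (cert_false T ((skipEmb 2).trans (Function.Embedding.refl _)) (by norm_num) (fun _ => hall _) (((((LB_zero T ((skipEmb 2).trans (Function.Embedding.refl _))).upd 1 2 1 (le_of_eq hx13)).upd 2 1 3 (le_of_eq hx31)).upd 2 3 1 (le_of_eq hx34)).upd 3 2 1 (le_of_eq hx43)) ![0,1,2,1] (by decide) (by decide) 1 (by decide))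
        · -- 34=(1,2)
          exact False.elim (cert_false T ((skipEmb 2).trans (Function.Embedding.refl _)) (by norm_num) (fun _ => hall _) (((((LB_zero T ((skipEmb 2).trans (Function.Embedding.refl _))).upd 1 2 1 (le_of_eq hx13)).upd 2 1 3 (le_of_eq hx31)).upd 2 3 1 (le_of_eq hx34)).upd 3 2 2 (le_of_eq hx43)) ![0,1,2,1] (by decide) (by decide) 1 (by decide))
        · -- 34=(2,1)
          exact False.elim (cert_false T ((skipEmb 2).trans (Function.Embedding.refl _)) (by norm_num) (fun _ => hall _) (((((LB_zero T ((skipEmb 2).trans (Function.Embedding.refl _))).upd 1 2 1 (le_of_eq hx13)).upd 2 1 3 (le_of_eq hx31)).upd 2 3 2 (le_of_eq hx34)).upd 3 2 1 (le_of_eq hx43)) ![0,1,2,1] (by decide) (by decide) 1 (by decide))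
        · -- 34=(1,3)
          exact False.elim (cert_false T ((skipEmb 2).trans (Function.Embedding.refl _)) (by norm_num) (fun _ => hall _) (((((LB_zero T ((skipEmb 2).trans (Function.Embedding.refl _))).upd 0 3 1 (le_of_eq hx04)).upd 2 3 1 (le_of_eq hx34)).upd 3 0 1 (le_of_eq hx40)).upd 3 2 3 (le_of_eq hx43)) ![1,0,1,2] (by decide) (by decide) 0 (by decide))
        · -- 34=(3,1)
          exact False.elim (cert_false T ((skipEmb 2).trans (Function.Embedding.refl _)) (by norm_num) (fun _ => hall _) (((((LB_zero T ((skipEmb 2).trans (Function.Embedding.refl _))).upd 1 2 1 (le_of_eq hx13)).upd 2 1 3 (le_of_eq hx31)).upd 2 3 3 (le_of_eq hx34)).upd 3 2 1 (le_of_eq hx43)) ![0,1,2,1] (by decide) (by decide) 1 (by decide))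
      · -- 24=(1,1)
        rcases d34 with ⟨rfl, rfl⟩ | ⟨rfl, rfl⟩ | ⟨rfl, rfl⟩ | ⟨rfl, rfl⟩ | ⟨rfl, rfl⟩ | ⟨rfl, rfl⟩
        · -- 34=(0,0)
          exfalso; omega
        · -- 34=(1,1)
          exact False.elim (cert_false T ((skipEmb 2).trans (Function.Embedding.refl _)) (by norm_num) (fun _ => hall _) (((((LB_zero T ((skipEmb 2).trans (Function.Embedding.refl _))).upd 1 2 1 (le_of_eq hx13)).upd 2 1 3 (le_of_eq hx31)).upd 2 3 1 (le_of_eq hx34)).upd 3 2 1 (le_of_eq hx43)) ![0,1,2,1] (by decide) (by decide) 1 (by decide))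
        · -- 34=(1,2)
          exact False.elim (cert_false T ((skipEmb 2).trans (Function.Embedding.refl _)) (by norm_num) (fun _ => hall _) (((((LB_zero T ((skipEmb 2).trans (Function.Embedding.refl _))).upd 1 2 1 (le_of_eq hx13)).upd 2 1 3 (le_of_eq hx31)).upd 2 3 1 (le_of_eq hx34)).upd 3 2 2 (le_of_eq hx43)) ![0,1,2,1] (by decide) (by decide) 1 (by decide))
        · -- 34=(2,1)
          exact False.elim (cert_false T ((skipEmb 2).trans (Function.Embedding.refl _)) (by norm_num) (fun _ => hall _) (((((LB_zero T ((skipEmb 2).trans (Function.Embedding.refl _))).upd 1 2 1 (le_of_eq hx13)).upd 2 1 3 (le_of_eq hx31)).upd 2 3 2 (le_of_eq hx34)).upd 3 2 1 (le_of_eq hx43)) ![0,1,2,1] (by decide) (by decide) 1 (by decide))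
        · -- 34=(1,3)
          exact False.elim (cert_false T ((skipEmb 2).trans (Function.Embedding.refl _)) (by norm_num) (fun _ => hall _) (((((LB_zero T ((skipEmb 2).trans (Function.Embedding.refl _))).upd 0 3 1 (le_of_eq hx04)).upd 2 3 1 (le_of_eq hx34)).upd 3 0 1 (le_of_eq hx40)).upd 3 2 3 (le_of_eq hx43)) ![1,0,1,2] (by decide) (by decide) 0 (by decide))
        · -- 34=(3,1)
          exact False.elim (cert_false T ((skipEmb 2).trans (Function.Embedding.refl _)) (by norm_num) (fun _ => hall _) (((((LB_zero T ((skipEmb 2).trans (Function.Embedding.refl _))).upd 1 2 1 (le_of_eq hx13)).upd 2 1 3 (le_of_eq hx31)).upd 2 3 3 (le_of_eq hx34)).upd 3 2 1 (le_of_eq hx43)) ![0,1,2,1] (by decide) (by decide) 1 (by decide))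
      · -- 24=(1,2)
        rcases d34 with ⟨rfl, rfl⟩ | ⟨rfl, rfl⟩ | ⟨rfl, rfl⟩ | ⟨rfl, rfl⟩ | ⟨rfl, rfl⟩ | ⟨rfl, rfl⟩
        · -- 34=(0,0)
          exfalso; omega
        · -- 34=(1,1)
          exact False.elim (cert_false T ((skipEmb 2).trans (Function.Embedding.refl _)) (by norm_num) (fun _ => hall _) (((((LB_zero T ((skipEmb 2).trans (Function.Embedding.refl _))).upd 1 2 1 (le_of_eq hx13)).upd 2 1 3 (le_of_eq hx31)).upd 2 3 1 (le_of_eq hx34)).upd 3 2 1 (le_of_eq hx43)) ![0,1,2,1] (by decide) (by decide) 1 (by decide))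
        · -- 34=(1,2)
          exact False.elim (cert_false T ((skipEmb 2).trans (Function.Embedding.refl _)) (by norm_num) (fun _ => hall _) (((((LB_zero T ((skipEmb 2).trans (Function.Embedding.refl _))).upd 1 2 1 (le_of_eq hx13)).upd 2 1 3 (le_of_eq hx31)).upd 2 3 1 (le_of_eq hx34)).upd 3 2 2 (le_of_eq hx43)) ![0,1,2,1] (by decide) (by decide) 1 (by decide))
        · -- 34=(2,1)
          exact False.elim (cert_false T ((skipEmb 2).trans (Function.Embedding.refl _)) (by norm_num) (fun _ => hall _) (((((LB_zero T ((skipEmb 2).trans (Function.Embedding.refl _))).upd 1 2 1 (le_of_eq hx13)).upd 2 1 3 (le_of_eq hx31)).upd 2 3 2 (le_of_eq hx34)).upd 3 2 1 (le_of_eq hx43)) ![0,1,2,1] (by decide) (by decide) 1 (by decide))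
        · -- 34=(1,3)
          exact False.elim (cert_false T ((skipEmb 2).trans (Function.Embedding.refl _)) (by norm_num) (fun _ => hall _) (((((LB_zero T ((skipEmb 2).trans (Function.Embedding.refl _))).upd 0 3 1 (le_of_eq hx04)).upd 2 3 1 (le_of_eq hx34)).upd 3 0 1 (le_of_eq hx40)).upd 3 2 3 (le_of_eq hx43)) ![1,0,1,2] (by decide) (by decide) 0 (by decide))
        · -- 34=(3,1)
          exact False.elim (cert_false T ((skipEmb 2).trans (Function.Embedding.refl _)) (by norm_num) (fun _ => hall _) (((((LB_zero T ((skipEmb 2).trans (Function.Embedding.refl _))).upd 1 2 1 (le_of_eq hx13)).upd 2 1 3 (le_of_eq hx31)).upd 2 3 3 (le_of_eq hx34)).upd 3 2 1 (le_of_eq hx43)) ![0,1,2,1] (by decide) (by decide) 1 (by decide))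
      · -- 24=(2,1)
        rcases d34 with ⟨rfl, rfl⟩ | ⟨rfl, rfl⟩ | ⟨rfl, rfl⟩ | ⟨rfl, rfl⟩ | ⟨rfl, rfl⟩ | ⟨rfl, rfl⟩
        · -- 34=(0,0)
          exfalso; omega
        · -- 34=(1,1)
          exact False.elim (cert_false T ((skipEmb 2).trans (Function.Embedding.refl _)) (by norm_num) (fun _ => hall _) (((((LB_zero T ((skipEmb 2).trans (Function.Embedding.refl _))).upd 1 2 1 (le_of_eq hx13)).upd 2 1 3 (le_of_eq hx31)).upd 2 3 1 (le_of_eq hx34)).upd 3 2 1 (le_of_eq hx43)) ![0,1,2,1] (by decide) (by decide) 1 (by decide))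
        · -- 34=(1,2)
          exact False.elim (cert_false T ((skipEmb 2).trans (Function.Embedding.refl _)) (by norm_num) (fun _ => hall _) (((((LB_zero T ((skipEmb 2).trans (Function.Embedding.refl _))).upd 1 2 1 (le_of_eq hx13)).upd 2 1 3 (le_of_eq hx31)).upd 2 3 1 (le_of_eq hx34)).upd 3 2 2 (le_of_eq hx43)) ![0,1,2,1] (by decide) (by decide) 1 (by decide))
        · -- 34=(2,1)
          exact False.elim (cert_false T ((skipEmb 2).trans (Function.Embedding.refl _)) (by norm_num) (fun _ => hall _) (((((LB_zero T ((skipEmb 2).trans (Function.Embedding.refl _))).upd 1 2 1 (le_of_eq hx13)).upd 2 1 3 (le_of_eq hx31)).upd 2 3 2 (le_of_eq hx34)).upd 3 2 1 (le_of_eq hx43)) ![0,1,2,1] (by decide) (by decide) 1 (by decide))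
        · -- 34=(1,3)
          exact False.elim (cert_false T ((skipEmb 2).trans (Function.Embedding.refl _)) (by norm_num) (fun _ => hall _) (((((LB_zero T ((skipEmb 2).trans (Function.Embedding.refl _))).upd 0 3 1 (le_of_eq hx04)).upd 2 3 1 (le_of_eq hx34)).upd 3 0 1 (le_of_eq hx40)).upd 3 2 3 (le_of_eq hx43)) ![1,0,1,2] (by decide) (by decide) 0 (by decide))
        · -- 34=(3,1)
          exact False.elim (cert_false T ((skipEmb 2).trans (Function.Embedding.refl _)) (by norm_num) (fun _ => hall _) (((((LB_zero T ((skipEmb 2).trans (Function.Embedding.refl _))).upd 1 2 1 (le_of_eq hx13)).upd 2 1 3 (le_of_eq hx31)).upd 2 3 3 (le_of_eq hx34)).upd 3 2 1 (le_of_eq hx43)) ![0,1,2,1] (by decide) (by decide) 1 (by decide))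
      · -- 24=(1,3)
        exact False.elim (cert_false T ((skipEmb 3).trans (Function.Embedding.refl _)) (by norm_num) (fun _ => hall _) (((((LB_zero T ((skipEmb 3).trans (Function.Embedding.refl _))).upd 0 3 1 (le_of_eq hx04)).upd 2 3 1 (le_of_eq hx24)).upd 3 0 1 (le_of_eq hx40)).upd 3 2 3 (le_of_eq hx42)) ![1,0,1,2] (by decide) (by decide) 0 (by decide))
      · -- 24=(3,1)
        exact False.elim (cert_false T ((skipEmb 3).trans (Function.Embedding.refl _)) (by norm_num) (fun _ => hall _) (((((LB_zero T ((skipEmb 3).trans (Function.Embedding.refl _))).upd 0 3 1 (le_of_eq hx04)).upd 2 3 3 (le_of_eq hx24)).upd 3 0 1 (le_of_eq hx40)).upd 3 2 1 (le_of_eq hx42)) ![1,0,3,2] (by decide) (by decide) 0 (by decide))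
    · -- 14=(1,1)
      exact False.elim (cert_false T ((skipEmb 2).trans (Function.Embedding.refl _)) (by norm_num) (fun _ => hall _) (((((LB_zero T ((skipEmb 2).trans (Function.Embedding.refl _))).upd 1 2 1 (le_of_eq hx13)).upd 1 3 1 (le_of_eq hx14)).upd 2 1 3 (le_of_eq hx31)).upd 3 1 1 (le_of_eq hx41)) ![0,2,3,1] (by decide) (by decide) 1 (by decide))
    · -- 14=(1,2)
      exact False.elim (cert_false T ((skipEmb 2).trans (Function.Embedding.refl _)) (by norm_num) (fun _ => hall _) (((((LB_zero T ((skipEmb 2).trans (Function.Embedding.refl _))).upd 1 2 1 (le_of_eq hx13)).upd 1 3 1 (le_of_eq hx14)).upd 2 1 3 (le_of_eq hx31)).upd 3 1 2 (le_of_eq hx41)) ![0,1,1,1] (by decide) (by decide) 1 (by decide))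
    · -- 14=(2,1)
      exact False.elim (cert_false T ((skipEmb 2).trans (Function.Embedding.refl _)) (by norm_num) (fun _ => hall _) (((((LB_zero T ((skipEmb 2).trans (Function.Embedding.refl _))).upd 1 2 1 (le_of_eq hx13)).upd 1 3 2 (le_of_eq hx14)).upd 2 1 3 (le_of_eq hx31)).upd 3 1 1 (le_of_eq hx41)) ![0,2,2,1] (by decide) (by decide) 1 (by decide))
    · -- 14=(1,3)
      exact False.elim (cert_false T ((skipEmb 3).trans (Function.Embedding.refl _)) (by norm_num) (fun _ => hall _) (((((LB_zero T ((skipEmb 3).trans (Function.Embedding.refl _))).upd 0 3 1 (le_of_eq hx04)).upd 1 3 1 (le_of_eq hx14)).upd 3 0 1 (le_of_eq hx40)).upd 3 1 3 (le_of_eq hx41)) ![1,1,0,2] (by decide) (by decide) 0 (by decide))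
    · -- 14=(3,1)
      exact False.elim (cert_false T ((skipEmb 3).trans (Function.Embedding.refl _)) (by norm_num) (fun _ => hall _) (((((LB_zero T ((skipEmb 3).trans (Function.Embedding.refl _))).upd 0 3 1 (le_of_eq hx04)).upd 1 3 3 (le_of_eq hx14)).upd 3 0 1 (le_of_eq hx40)).upd 3 1 1 (le_of_eq hx41)) ![1,3,0,2] (by decide) (by decide) 0 (by decide))
  · -- 04=(1,2)
    rcases d14 with ⟨rfl, rfl⟩ | ⟨rfl, rfl⟩ | ⟨rfl, rfl⟩ | ⟨rfl, rfl⟩ | ⟨rfl, rfl⟩ | ⟨rfl, rfl⟩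
    · -- 14=(0,0)
      rcases d24 with ⟨rfl, rfl⟩ | ⟨rfl, rfl⟩ | ⟨rfl, rfl⟩ | ⟨rfl, rfl⟩ | ⟨rfl, rfl⟩ | ⟨rfl, rfl⟩
      · -- 24=(0,0)
        rcases d34 with ⟨rfl, rfl⟩ | ⟨rfl, rfl⟩ | ⟨rfl, rfl⟩ | ⟨rfl, rfl⟩ | ⟨rfl, rfl⟩ | ⟨rfl, rfl⟩
        · -- 34=(0,0)
          exfalso; omega
        · -- 34=(1,1)
          exact False.elim (cert_false T ((skipEmb 2).trans (Function.Embedding.refl _)) (by norm_num) (fun _ => hall _) (((((LB_zero T ((skipEmb 2).trans (Function.Embedding.refl _))).upd 1 2 1 (le_of_eq hx13)).upd 2 1 3 (le_of_eq hx31)).upd 2 3 1 (le_of_eq hx34)).upd 3 2 1 (le_of_eq hx43)) ![0,1,2,1] (by decide) (by decide) 1 (by decide))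
        · -- 34=(1,2)
          exact False.elim (cert_false T ((skipEmb 2).trans (Function.Embedding.refl _)) (by norm_num) (fun _ => hall _) (((((LB_zero T ((skipEmb 2).trans (Function.Embedding.refl _))).upd 0 3 1 (le_of_eq hx04)).upd 2 3 1 (le_of_eq hx34)).upd 3 0 2 (le_of_eq hx40)).upd 3 2 2 (le_of_eq hx43)) ![1,0,1,2] (by decide) (by decide) 0 (by decide))
        · -- 34=(2,1)
          exact False.elim (cert_false T ((skipEmb 2).trans (Function.Embedding.refl _)) (by norm_num) (fun _ => hall _) (((((LB_zero T ((skipEmb 2).trans (Function.Embedding.refl _))).upd 0 3 1 (le_of_eq hx04)).upd 2 3 2 (le_of_eq hx34)).upd 3 0 2 (le_of_eq hx40)).upd 3 2 1 (le_of_eq hx43)) ![1,0,2,2] (by decide) (by decide) 0 (by decide))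
        · -- 34=(1,3)
          exact False.elim (cert_false T ((skipEmb 2).trans (Function.Embedding.refl _)) (by norm_num) (fun _ => hall _) (((((LB_zero T ((skipEmb 2).trans (Function.Embedding.refl _))).upd 1 2 1 (le_of_eq hx13)).upd 2 1 3 (le_of_eq hx31)).upd 2 3 1 (le_of_eq hx34)).upd 3 2 3 (le_of_eq hx43)) ![0,1,2,1] (by decide) (by decide) 1 (by decide))
        · -- 34=(3,1)
          exact False.elim (cert_false T ((skipEmb 2).trans (Function.Embedding.refl _)) (by norm_num) (fun _ => hall _) (((((LB_zero T ((skipEmb 2).trans (Function.Embedding.refl _))).upd 0 3 1 (le_of_eq hx04)).upd 2 3 3 (le_of_eq hx34)).upd 3 0 2 (le_of_eq hx40)).upd 3 2 1 (le_of_eq hx43)) ![1,0,2,2] (by decide) (by decide) 0 (by decide))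
      · -- 24=(1,1)
        rcases d34 with ⟨rfl, rfl⟩ | ⟨rfl, rfl⟩ | ⟨rfl, rfl⟩ | ⟨rfl, rfl⟩ | ⟨rfl, rfl⟩ | ⟨rfl, rfl⟩
        · -- 34=(0,0)
          exfalso; omega
        · -- 34=(1,1)
          exact False.elim (cert_false T ((skipEmb 2).trans (Function.Embedding.refl _)) (by norm_num) (fun _ => hall _) (((((LB_zero T ((skipEmb 2).trans (Function.Embedding.refl _))).upd 1 2 1 (le_of_eq hx13)).upd 2 1 3 (le_of_eq hx31)).upd 2 3 1 (le_of_eq hx34)).upd 3 2 1 (le_of_eq hx43)) ![0,1,2,1] (by decide) (by decide) 1 (by decide))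
        · -- 34=(1,2)
          exact False.elim (cert_false T ((skipEmb 2).trans (Function.Embedding.refl _)) (by norm_num) (fun _ => hall _) (((((LB_zero T ((skipEmb 2).trans (Function.Embedding.refl _))).upd 0 3 1 (le_of_eq hx04)).upd 2 3 1 (le_of_eq hx34)).upd 3 0 2 (le_of_eq hx40)).upd 3 2 2 (le_of_eq hx43)) ![1,0,1,2] (by decide) (by decide) 0 (by decide))
        · -- 34=(2,1)
          exact False.elim (cert_false T ((skipEmb 2).trans (Function.Embedding.refl _)) (by norm_num) (fun _ => hall _) (((((LB_zero T ((skipEmb 2).trans (Function.Embedding.refl _))).upd 0 3 1 (le_of_eq hx04)).upd 2 3 2 (le_of_eq hx34)).upd 3 0 2 (le_of_eq hx40)).upd 3 2 1 (le_of_eq hx43)) ![1,0,2,2] (by decide) (by decide) 0 (by decide))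
        · -- 34=(1,3)
          exact False.elim (cert_false T ((skipEmb 2).trans (Function.Embedding.refl _)) (by norm_num) (fun _ => hall _) (((((LB_zero T ((skipEmb 2).trans (Function.Embedding.refl _))).upd 1 2 1 (le_of_eq hx13)).upd 2 1 3 (le_of_eq hx31)).upd 2 3 1 (le_of_eq hx34)).upd 3 2 3 (le_of_eq hx43)) ![0,1,2,1] (by decide) (by decide) 1 (by decide))
        · -- 34=(3,1)
          exact False.elim (cert_false T ((skipEmb 2).trans (Function.Embedding.refl _)) (by norm_num) (fun _ => hall _) (((((LB_zero T ((skipEmb 2).trans (Function.Embedding.refl _))).upd 0 3 1 (le_of_eq hx04)).upd 2 3 3 (le_of_eq hx34)).upd 3 0 2 (le_of_eq hx40)).upd 3 2 1 (le_of_eq hx43)) ![1,0,2,2] (by decide) (by decide) 0 (by decide))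
      · -- 24=(1,2)
        exact False.elim (cert_false T ((skipEmb 3).trans (Function.Embedding.refl _)) (by norm_num) (fun _ => hall _) (((((LB_zero T ((skipEmb 3).trans (Function.Embedding.refl _))).upd 0 3 1 (le_of_eq hx04)).upd 2 3 1 (le_of_eq hx24)).upd 3 0 2 (le_of_eq hx40)).upd 3 2 2 (le_of_eq hx42)) ![1,0,1,2] (by decide) (by decide) 0 (by decide))
      · -- 24=(2,1)
        exact False.elim (cert_false T ((skipEmb 3).trans (Function.Embedding.refl _)) (by norm_num) (fun _ => hall _) (((((LB_zero T ((skipEmb 3).trans (Function.Embedding.refl _))).upd 0 3 1 (le_of_eq hx04)).upd 2 3 2 (le_of_eq hx24)).upd 3 0 2 (le_of_eq hx40)).upd 3 2 1 (le_of_eq hx42)) ![1,0,2,2] (by decide) (by decide) 0 (by decide))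
      · -- 24=(1,3)
        exact False.elim (cert_false T ((skipEmb 3).trans (Function.Embedding.refl _)) (by norm_num) (fun _ => hall _) (((((LB_zero T ((skipEmb 3).trans (Function.Embedding.refl _))).upd 0 3 1 (le_of_eq hx04)).upd 2 3 1 (le_of_eq hx24)).upd 3 0 2 (le_of_eq hx40)).upd 3 2 3 (le_of_eq hx42)) ![1,0,1,2] (by decide) (by decide) 0 (by decide))
      · -- 24=(3,1)
        exact False.elim (cert_false T ((skipEmb 3).trans (Function.Embedding.refl _)) (by norm_num) (fun _ => hall _) (((((LB_zero T ((skipEmb 3).trans (Function.Embedding.refl _))).upd 0 3 1 (le_of_eq hx04)).upd 2 3 3 (le_of_eq hx24)).upd 3 0 2 (le_of_eq hx40)).upd 3 2 1 (le_of_eq hx42)) ![1,0,2,2] (by decide) (by decide) 0 (by decide))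
    · -- 14=(1,1)
      exact False.elim (cert_false T ((skipEmb 2).trans (Function.Embedding.refl _)) (by norm_num) (fun _ => hall _) (((((((LB_zero T ((skipEmb 2).trans (Function.Embedding.refl _))).upd 0 3 1 (le_of_eq hx04)).upd 1 2 1 (le_of_eq hx13)).upd 1 3 1 (le_of_eq hx14)).upd 2 1 3 (le_of_eq hx31)).upd 3 0 2 (le_of_eq hx40)).upd 3 1 1 (le_of_eq hx41)) ![1,2,2,2] (by decide) (by decide) 0 (by decide))
    · -- 14=(1,2)
      exact False.elim (cert_false T ((skipEmb 3).trans (Function.Embedding.refl _)) (by norm_num) (fun _ => hall _) (((((LB_zero T ((skipEmb 3).trans (Function.Embedding.refl _))).upd 0 3 1 (le_of_eq hx04)).upd 1 3 1 (le_of_eq hx14)).upd 3 0 2 (le_of_eq hx40)).upd 3 1 2 (le_of_eq hx41)) ![1,1,0,2] (by decide) (by decide) 0 (by decide))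
    · -- 14=(2,1)
      exact False.elim (cert_false T ((skipEmb 3).trans (Function.Embedding.refl _)) (by norm_num) (fun _ => hall _) (((((LB_zero T ((skipEmb 3).trans (Function.Embedding.refl _))).upd 0 3 1 (le_of_eq hx04)).upd 1 3 2 (le_of_eq hx14)).upd 3 0 2 (le_of_eq hx40)).upd 3 1 1 (le_of_eq hx41)) ![1,2,0,2] (by decide) (by decide) 0 (by decide))
    · -- 14=(1,3)
      exact False.elim (cert_false T ((skipEmb 3).trans (Function.Embedding.refl _)) (by norm_num) (fun _ => hall _) (((((LB_zero T ((skipEmb 3).trans (Function.Embedding.refl _))).upd 0 3 1 (le_of_eq hx04)).upd 1 3 1 (le_of_eq hx14)).upd 3 0 2 (le_of_eq hx40)).upd 3 1 3 (le_of_eq hx41)) ![1,1,0,2] (by decide) (by decide) 0 (by decide))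
    · -- 14=(3,1)
      exact False.elim (cert_false T ((skipEmb 3).trans (Function.Embedding.refl _)) (by norm_num) (fun _ => hall _) (((((LB_zero T ((skipEmb 3).trans (Function.Embedding.refl _))).upd 0 3 1 (le_of_eq hx04)).upd 1 3 3 (le_of_eq hx14)).upd 3 0 2 (le_of_eq hx40)).upd 3 1 1 (le_of_eq hx41)) ![1,2,0,2] (by decide) (by decide) 0 (by decide))
  · -- 04=(2,1)
    rcases d14 with ⟨rfl, rfl⟩ | ⟨rfl, rfl⟩ | ⟨rfl, rfl⟩ | ⟨rfl, rfl⟩ | ⟨rfl, rfl⟩ | ⟨rfl, rfl⟩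
    · -- 14=(0,0)
      rcases d24 with ⟨rfl, rfl⟩ | ⟨rfl, rfl⟩ | ⟨rfl, rfl⟩ | ⟨rfl, rfl⟩ | ⟨rfl, rfl⟩ | ⟨rfl, rfl⟩
      · -- 24=(0,0)
        rcases d34 with ⟨rfl, rfl⟩ | ⟨rfl, rfl⟩ | ⟨rfl, rfl⟩ | ⟨rfl, rfl⟩ | ⟨rfl, rfl⟩ | ⟨rfl, rfl⟩
        · -- 34=(0,0)
          exfalso; omega
        · -- 34=(1,1)
          exact False.elim (cert_false T ((skipEmb 2).trans (Function.Embedding.refl _)) (by norm_num) (fun _ => hall _) (((((LB_zero T ((skipEmb 2).trans (Function.Embedding.refl _))).upd 1 2 1 (le_of_eq hx13)).upd 2 1 3 (le_of_eq hx31)).upd 2 3 1 (le_of_eq hx34)).upd 3 2 1 (le_of_eq hx43)) ![0,1,2,1] (by decide) (by decide) 1 (by decide))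
        · -- 34=(1,2)
          exact False.elim (cert_false T ((skipEmb 2).trans (Function.Embedding.refl _)) (by norm_num) (fun _ => hall _) (((((LB_zero T ((skipEmb 2).trans (Function.Embedding.refl _))).upd 0 3 2 (le_of_eq hx04)).upd 2 3 1 (le_of_eq hx34)).upd 3 0 1 (le_of_eq hx40)).upd 3 2 2 (le_of_eq hx43)) ![2,0,1,2] (by decide) (by decide) 0 (by decide))
        · -- 34=(2,1)
          exact False.elim (cert_false T ((skipEmb 2).trans (Function.Embedding.refl _)) (by norm_num) (fun _ => hall _) (((((LB_zero T ((skipEmb 2).trans (Function.Embedding.refl _))).upd 0 3 2 (le_of_eq hx04)).upd 2 3 2 (le_of_eq hx34)).upd 3 0 1 (le_of_eq hx40)).upd 3 2 1 (le_of_eq hx43)) ![1,0,1,1] (by decide) (by decide) 0 (by decide))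
        · -- 34=(1,3)
          exact False.elim (cert_false T ((skipEmb 2).trans (Function.Embedding.refl _)) (by norm_num) (fun _ => hall _) (((((LB_zero T ((skipEmb 2).trans (Function.Embedding.refl _))).upd 0 3 2 (le_of_eq hx04)).upd 2 3 1 (le_of_eq hx34)).upd 3 0 1 (le_of_eq hx40)).upd 3 2 3 (le_of_eq hx43)) ![1,0,1,2] (by decide) (by decide) 0 (by decide))
        · -- 34=(3,1)
          exact False.elim (cert_false T ((skipEmb 2).trans (Function.Embedding.refl _)) (by norm_num) (fun _ => hall _) (((((LB_zero T ((skipEmb 2).trans (Function.Embedding.refl _))).upd 0 3 2 (le_of_eq hx04)).upd 2 3 3 (le_of_eq hx34)).upd 3 0 1 (le_of_eq hx40)).upd 3 2 1 (le_of_eq hx43)) ![1,0,1,1] (by decide) (by decide) 0 (by decide))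
      · -- 24=(1,1)
        rcases d34 with ⟨rfl, rfl⟩ | ⟨rfl, rfl⟩ | ⟨rfl, rfl⟩ | ⟨rfl, rfl⟩ | ⟨rfl, rfl⟩ | ⟨rfl, rfl⟩
        · -- 34=(0,0)
          exfalso; omega
        · -- 34=(1,1)
          exact False.elim (cert_false T ((skipEmb 2).trans (Function.Embedding.refl _)) (by norm_num) (fun _ => hall _) (((((LB_zero T ((skipEmb 2).trans (Function.Embedding.refl _))).upd 1 2 1 (le_of_eq hx13)).upd 2 1 3 (le_of_eq hx31)).upd 2 3 1 (le_of_eq hx34)).upd 3 2 1 (le_of_eq hx43)) ![0,1,2,1] (by decide) (by decide) 1 (by decide))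
        · -- 34=(1,2)
          exact False.elim (cert_false T ((skipEmb 2).trans (Function.Embedding.refl _)) (by norm_num) (fun _ => hall _) (((((LB_zero T ((skipEmb 2).trans (Function.Embedding.refl _))).upd 0 3 2 (le_of_eq hx04)).upd 2 3 1 (le_of_eq hx34)).upd 3 0 1 (le_of_eq hx40)).upd 3 2 2 (le_of_eq hx43)) ![2,0,1,2] (by decide) (by decide) 0 (by decide))
        · -- 34=(2,1)
          exact False.elim (cert_false T ((skipEmb 2).trans (Function.Embedding.refl _)) (by norm_num) (fun _ => hall _) (((((LB_zero T ((skipEmb 2).trans (Function.Embedding.refl _))).upd 0 3 2 (le_of_eq hx04)).upd 2 3 2 (le_of_eq hx34)).upd 3 0 1 (le_of_eq hx40)).upd 3 2 1 (le_of_eq hx43)) ![1,0,1,1] (by decide) (by decide) 0 (by decide))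
        · -- 34=(1,3)
          exact False.elim (cert_false T ((skipEmb 2).trans (Function.Embedding.refl _)) (by norm_num) (fun _ => hall _) (((((LB_zero T ((skipEmb 2).trans (Function.Embedding.refl _))).upd 0 3 2 (le_of_eq hx04)).upd 2 3 1 (le_of_eq hx34)).upd 3 0 1 (le_of_eq hx40)).upd 3 2 3 (le_of_eq hx43)) ![1,0,1,2] (by decide) (by decide) 0 (by decide))
        · -- 34=(3,1)
          exact False.elim (cert_false T ((skipEmb 2).trans (Function.Embedding.refl _)) (by norm_num) (fun _ => hall _) (((((LB_zero T ((skipEmb 2).trans (Function.Embedding.refl _))).upd 0 3 2 (le_of_eq hx04)).upd 2 3 3 (le_of_eq hx34)).upd 3 0 1 (le_of_eq hx40)).upd 3 2 1 (le_of_eq hx43)) ![1,0,1,1] (by decide) (by decide) 0 (by decide))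
      · -- 24=(1,2)
        exact False.elim (cert_false T ((skipEmb 3).trans (Function.Embedding.refl _)) (by norm_num) (fun _ => hall _) (((((LB_zero T ((skipEmb 3).trans (Function.Embedding.refl _))).upd 0 3 2 (le_of_eq hx04)).upd 2 3 1 (le_of_eq hx24)).upd 3 0 1 (le_of_eq hx40)).upd 3 2 2 (le_of_eq hx42)) ![2,0,1,2] (by decide) (by decide) 0 (by decide))
      · -- 24=(2,1)
        exact False.elim (cert_false T ((skipEmb 3).trans (Function.Embedding.refl _)) (by norm_num) (fun _ => hall _) (((((LB_zero T ((skipEmb 3).trans (Function.Embedding.refl _))).upd 0 3 2 (le_of_eq hx04)).upd 2 3 2 (le_of_eq hx24)).upd 3 0 1 (le_of_eq hx40)).upd 3 2 1 (le_of_eq hx42)) ![1,0,1,1] (by decide) (by decide) 0 (by decide))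
      · -- 24=(1,3)
        exact False.elim (cert_false T ((skipEmb 3).trans (Function.Embedding.refl _)) (by norm_num) (fun _ => hall _) (((((LB_zero T ((skipEmb 3).trans (Function.Embedding.refl _))).upd 0 3 2 (le_of_eq hx04)).upd 2 3 1 (le_of_eq hx24)).upd 3 0 1 (le_of_eq hx40)).upd 3 2 3 (le_of_eq hx42)) ![1,0,1,2] (by decide) (by decide) 0 (by decide))
      · -- 24=(3,1)
        exact False.elim (cert_false T ((skipEmb 3).trans (Function.Embedding.refl _)) (by norm_num) (fun _ => hall _) (((((LB_zero T ((skipEmb 3).trans (Function.Embedding.refl _))).upd 0 3 2 (le_of_eq hx04)).upd 2 3 3 (le_of_eq hx24)).upd 3 0 1 (le_of_eq hx40)).upd 3 2 1 (le_of_eq hx42)) ![1,0,1,1] (by decide) (by decide) 0 (by decide))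
    · -- 14=(1,1)
      exact False.elim (cert_false T ((skipEmb 2).trans (Function.Embedding.refl _)) (by norm_num) (fun _ => hall _) (((((((LB_zero T ((skipEmb 2).trans (Function.Embedding.refl _))).upd 0 3 2 (le_of_eq hx04)).upd 1 2 1 (le_of_eq hx13)).upd 1 3 1 (le_of_eq hx14)).upd 2 1 3 (le_of_eq hx31)).upd 3 0 1 (le_of_eq hx40)).upd 3 1 1 (le_of_eq hx41)) ![1,1,1,1] (by decide) (by decide) 0 (by decide))
    · -- 14=(1,2)
      exact False.elim (cert_false T ((skipEmb 3).trans (Function.Embedding.refl _)) (by norm_num) (fun _ => hall _) (((((LB_zero T ((skipEmb 3).trans (Function.Embedding.refl _))).upd 0 3 2 (le_of_eq hx04)).upd 1 3 1 (le_of_eq hx14)).upd 3 0 1 (le_of_eq hx40)).upd 3 1 2 (le_of_eq hx41)) ![2,1,0,2] (by decide) (by decide) 0 (by decide))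
    · -- 14=(2,1)
      exact False.elim (cert_false T ((skipEmb 3).trans (Function.Embedding.refl _)) (by norm_num) (fun _ => hall _) (((((LB_zero T ((skipEmb 3).trans (Function.Embedding.refl _))).upd 0 3 2 (le_of_eq hx04)).upd 1 3 2 (le_of_eq hx14)).upd 3 0 1 (le_of_eq hx40)).upd 3 1 1 (le_of_eq hx41)) ![1,1,0,1] (by decide) (by decide) 0 (by decide))
    · -- 14=(1,3)
      exact False.elim (cert_false T ((skipEmb 3).trans (Function.Embedding.refl _)) (by norm_num) (fun _ => hall _) (((((LB_zero T ((skipEmb 3).trans (Function.Embedding.refl _))).upd 0 3 2 (le_of_eq hx04)).upd 1 3 1 (le_of_eq hx14)).upd 3 0 1 (le_of_eq hx40)).upd 3 1 3 (le_of_eq hx41)) ![1,1,0,2] (by decide) (by decide) 0 (by decide))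
    · -- 14=(3,1)
      exact False.elim (cert_false T ((skipEmb 3).trans (Function.Embedding.refl _)) (by norm_num) (fun _ => hall _) (((((LB_zero T ((skipEmb 3).trans (Function.Embedding.refl _))).upd 0 3 2 (le_of_eq hx04)).upd 1 3 3 (le_of_eq hx14)).upd 3 0 1 (le_of_eq hx40)).upd 3 1 1 (le_of_eq hx41)) ![1,1,0,1] (by decide) (by decide) 0 (by decide))
  · -- 04=(1,3)
    rcases d14 with ⟨rfl, rfl⟩ | ⟨rfl, rfl⟩ | ⟨rfl, rfl⟩ | ⟨rfl, rfl⟩ | ⟨rfl, rfl⟩ | ⟨rfl, rfl⟩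
    · -- 14=(0,0)
      rcases d24 with ⟨rfl, rfl⟩ | ⟨rfl, rfl⟩ | ⟨rfl, rfl⟩ | ⟨rfl, rfl⟩ | ⟨rfl, rfl⟩ | ⟨rfl, rfl⟩
      · -- 24=(0,0)
        rcases d34 with ⟨rfl, rfl⟩ | ⟨rfl, rfl⟩ | ⟨rfl, rfl⟩ | ⟨rfl, rfl⟩ | ⟨rfl, rfl⟩ | ⟨rfl, rfl⟩
        · -- 34=(0,0)
          exfalso; omega
        · -- 34=(1,1)
          exact False.elim (cert_false T ((skipEmb 2).trans (Function.Embedding.refl _)) (by norm_num) (fun _ => hall _) (((((LB_zero T ((skipEmb 2).trans (Function.Embedding.refl _))).upd 0 3 1 (le_of_eq hx04)).upd 2 3 1 (le_of_eq hx34)).upd 3 0 3 (le_of_eq hx40)).upd 3 2 1 (le_of_eq hx43)) ![1,0,1,2] (by decide) (by decide) 0 (by decide))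
        · -- 34=(1,2)
          exact False.elim (cert_false T ((skipEmb 2).trans (Function.Embedding.refl _)) (by norm_num) (fun _ => hall _) (((((LB_zero T ((skipEmb 2).trans (Function.Embedding.refl _))).upd 1 2 1 (le_of_eq hx13)).upd 2 1 3 (le_of_eq hx31)).upd 2 3 1 (le_of_eq hx34)).upd 3 2 2 (le_of_eq hx43)) ![0,1,2,1] (by decide) (by decide) 1 (by decide))
        · -- 34=(2,1)
          exact False.elim (cert_false T ((skipEmb 2).trans (Function.Embedding.refl _)) (by norm_num) (fun _ => hall _) (((((LB_zero T ((skipEmb 2).trans (Function.Embedding.refl _))).upd 0 3 1 (le_of_eq hx04)).upd 2 3 2 (le_of_eq hx34)).upd 3 0 3 (le_of_eq hx40)).upd 3 2 1 (le_of_eq hx43)) ![1,0,1,2] (by decide) (by decide) 0 (by decide))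
        · -- 34=(1,3)
          exact False.elim (cert_false T ((skipEmb 2).trans (Function.Embedding.refl _)) (by norm_num) (fun _ => hall _) (((((LB_zero T ((skipEmb 2).trans (Function.Embedding.refl _))).upd 1 2 1 (le_of_eq hx13)).upd 2 1 3 (le_of_eq hx31)).upd 2 3 1 (le_of_eq hx34)).upd 3 2 3 (le_of_eq hx43)) ![0,1,2,1] (by decide) (by decide) 1 (by decide))
        · -- 34=(3,1)
          exact False.elim (cert_false T ((skipEmb 2).trans (Function.Embedding.refl _)) (by norm_num) (fun _ => hall _) (((((LB_zero T ((skipEmb 2).trans (Function.Embedding.refl _))).upd 0 3 1 (le_of_eq hx04)).upd 2 3 3 (le_of_eq hx34)).upd 3 0 3 (le_of_eq hx40)).upd 3 2 1 (le_of_eq hx43)) ![1,0,1,2] (by decide) (by decide) 0 (by decide))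
      · -- 24=(1,1)
        exact False.elim (cert_false T ((skipEmb 3).trans (Function.Embedding.refl _)) (by norm_num) (fun _ => hall _) (((((LB_zero T ((skipEmb 3).trans (Function.Embedding.refl _))).upd 0 3 1 (le_of_eq hx04)).upd 2 3 1 (le_of_eq hx24)).upd 3 0 3 (le_of_eq hx40)).upd 3 2 1 (le_of_eq hx42)) ![1,0,1,2] (by decide) (by decide) 0 (by decide))
      · -- 24=(1,2)
        exact False.elim (cert_false T ((skipEmb 3).trans (Function.Embedding.refl _)) (by norm_num) (fun _ => hall _) (((((LB_zero T ((skipEmb 3).trans (Function.Embedding.refl _))).upd 0 3 1 (le_of_eq hx04)).upd 2 3 1 (le_of_eq hx24)).upd 3 0 3 (le_of_eq hx40)).upd 3 2 2 (le_of_eq hx42)) ![1,0,1,2] (by decide) (by decide) 0 (by decide))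
      · -- 24=(2,1)
        exact False.elim (cert_false T ((skipEmb 3).trans (Function.Embedding.refl _)) (by norm_num) (fun _ => hall _) (((((LB_zero T ((skipEmb 3).trans (Function.Embedding.refl _))).upd 0 3 1 (le_of_eq hx04)).upd 2 3 2 (le_of_eq hx24)).upd 3 0 3 (le_of_eq hx40)).upd 3 2 1 (le_of_eq hx42)) ![1,0,1,2] (by decide) (by decide) 0 (by decide))
      · -- 24=(1,3)
        exact False.elim (cert_false T ((skipEmb 3).trans (Function.Embedding.refl _)) (by norm_num) (fun _ => hall _) (((((LB_zero T ((skipEmb 3).trans (Function.Embedding.refl _))).upd 0 3 1 (le_of_eq hx04)).upd 2 3 1 (le_of_eq hx24)).upd 3 0 3 (le_of_eq hx40)).upd 3 2 3 (le_of_eq hx42)) ![1,0,1,2] (by decide) (by decide) 0 (by decide))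
      · -- 24=(3,1)
        exact False.elim (cert_false T ((skipEmb 3).trans (Function.Embedding.refl _)) (by norm_num) (fun _ => hall _) (((((LB_zero T ((skipEmb 3).trans (Function.Embedding.refl _))).upd 0 3 1 (le_of_eq hx04)).upd 2 3 3 (le_of_eq hx24)).upd 3 0 3 (le_of_eq hx40)).upd 3 2 1 (le_of_eq hx42)) ![1,0,1,2] (by decide) (by decide) 0 (by decide))
    · -- 14=(1,1)
      exact False.elim (cert_false T ((skipEmb 3).trans (Function.Embedding.refl _)) (by norm_num) (fun _ => hall _) (((((LB_zero T ((skipEmb 3).trans (Function.Embedding.refl _))).upd 0 3 1 (le_of_eq hx04)).upd 1 3 1 (le_of_eq hx14)).upd 3 0 3 (le_of_eq hx40)).upd 3 1 1 (le_of_eq hx41)) ![1,1,0,2] (by decide) (by decide) 0 (by decide))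
    · -- 14=(1,2)
      exact False.elim (cert_false T ((skipEmb 3).trans (Function.Embedding.refl _)) (by norm_num) (fun _ => hall _) (((((LB_zero T ((skipEmb 3).trans (Function.Embedding.refl _))).upd 0 3 1 (le_of_eq hx04)).upd 1 3 1 (le_of_eq hx14)).upd 3 0 3 (le_of_eq hx40)).upd 3 1 2 (le_of_eq hx41)) ![1,1,0,2] (by decide) (by decide) 0 (by decide))
    · -- 14=(2,1)
      exact False.elim (cert_false T ((skipEmb 3).trans (Function.Embedding.refl _)) (by norm_num) (fun _ => hall _) (((((LB_zero T ((skipEmb 3).trans (Function.Embedding.refl _))).upd 0 3 1 (le_of_eq hx04)).upd 1 3 2 (le_of_eq hx14)).upd 3 0 3 (le_of_eq hx40)).upd 3 1 1 (le_of_eq hx41)) ![1,1,0,2] (by decide) (by decide) 0 (by decide))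
    · -- 14=(1,3)
      exact False.elim (cert_false T ((skipEmb 3).trans (Function.Embedding.refl _)) (by norm_num) (fun _ => hall _) (((((LB_zero T ((skipEmb 3).trans (Function.Embedding.refl _))).upd 0 3 1 (le_of_eq hx04)).upd 1 3 1 (le_of_eq hx14)).upd 3 0 3 (le_of_eq hx40)).upd 3 1 3 (le_of_eq hx41)) ![1,1,0,2] (by decide) (by decide) 0 (by decide))
    · -- 14=(3,1)
      exact False.elim (cert_false T ((skipEmb 3).trans (Function.Embedding.refl _)) (by norm_num) (fun _ => hall _) (((((LB_zero T ((skipEmb 3).trans (Function.Embedding.refl _))).upd 0 3 1 (le_of_eq hx04)).upd 1 3 3 (le_of_eq hx14)).upd 3 0 3 (le_of_eq hx40)).upd 3 1 1 (le_of_eq hx41)) ![1,1,0,2] (by decide) (by decide) 0 (by decide))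
  · -- 04=(3,1)
    rcases d14 with ⟨rfl, rfl⟩ | ⟨rfl, rfl⟩ | ⟨rfl, rfl⟩ | ⟨rfl, rfl⟩ | ⟨rfl, rfl⟩ | ⟨rfl, rfl⟩
    · -- 14=(0,0)
      rcases d24 with ⟨rfl, rfl⟩ | ⟨rfl, rfl⟩ | ⟨rfl, rfl⟩ | ⟨rfl, rfl⟩ | ⟨rfl, rfl⟩ | ⟨rfl, rfl⟩
      · -- 24=(0,0)
        rcases d34 with ⟨rfl, rfl⟩ | ⟨rfl, rfl⟩ | ⟨rfl, rfl⟩ | ⟨rfl, rfl⟩ | ⟨rfl, rfl⟩ | ⟨rfl, rfl⟩
        · -- 34=(0,0)
          exfalso; omega
        · -- 34=(1,1)
          exact False.elim (cert_false T ((skipEmb 2).trans (Function.Embedding.refl _)) (by norm_num) (fun _ => hall _) (((((LB_zero T ((skipEmb 2).trans (Function.Embedding.refl _))).upd 1 2 1 (le_of_eq hx13)).upd 2 1 3 (le_of_eq hx31)).upd 2 3 1 (le_of_eq hx34)).upd 3 2 1 (le_of_eq hx43)) ![0,1,2,1] (by decide) (by decide) 1 (by decide))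
        · -- 34=(1,2)
          exact False.elim (cert_false T ((skipEmb 2).trans (Function.Embedding.refl _)) (by norm_num) (fun _ => hall _) (((((LB_zero T ((skipEmb 2).trans (Function.Embedding.refl _))).upd 0 3 3 (le_of_eq hx04)).upd 2 3 1 (le_of_eq hx34)).upd 3 0 1 (le_of_eq hx40)).upd 3 2 2 (le_of_eq hx43)) ![2,0,1,2] (by decide) (by decide) 0 (by decide))
        · -- 34=(2,1)
          exact False.elim (cert_false T ((skipEmb 2).trans (Function.Embedding.refl _)) (by norm_num) (fun _ => hall _) (((((LB_zero T ((skipEmb 2).trans (Function.Embedding.refl _))).upd 0 3 3 (le_of_eq hx04)).upd 2 3 2 (le_of_eq hx34)).upd 3 0 1 (le_of_eq hx40)).upd 3 2 1 (le_of_eq hx43)) ![1,0,1,1] (by decide) (by decide) 0 (by decide))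
        · -- 34=(1,3)
          exact False.elim (cert_false T ((skipEmb 2).trans (Function.Embedding.refl _)) (by norm_num) (fun _ => hall _) (((((LB_zero T ((skipEmb 2).trans (Function.Embedding.refl _))).upd 0 3 3 (le_of_eq hx04)).upd 2 3 1 (le_of_eq hx34)).upd 3 0 1 (le_of_eq hx40)).upd 3 2 3 (le_of_eq hx43)) ![1,0,1,2] (by decide) (by decide) 0 (by decide))
        · -- 34=(3,1)
          exact False.elim (cert_false T ((skipEmb 2).trans (Function.Embedding.refl _)) (by norm_num) (fun _ => hall _) (((((LB_zero T ((skipEmb 2).trans (Function.Embedding.refl _))).upd 0 3 3 (le_of_eq hx04)).upd 2 3 3 (le_of_eq hx34)).upd 3 0 1 (le_of_eq hx40)).upd 3 2 1 (le_of_eq hx43)) ![1,0,1,1] (by decide) (by decide) 0 (by decide))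
      · -- 24=(1,1)
        exact False.elim (cert_false T ((skipEmb 3).trans (Function.Embedding.refl _)) (by norm_num) (fun _ => hall _) (((((LB_zero T ((skipEmb 3).trans (Function.Embedding.refl _))).upd 0 3 3 (le_of_eq hx04)).upd 2 3 1 (le_of_eq hx24)).upd 3 0 1 (le_of_eq hx40)).upd 3 2 1 (le_of_eq hx42)) ![3,0,1,2] (by decide) (by decide) 0 (by decide))
      · -- 24=(1,2)
        exact False.elim (cert_false T ((skipEmb 3).trans (Function.Embedding.refl _)) (by norm_num) (fun _ => hall _) (((((LB_zero T ((skipEmb 3).trans (Function.Embedding.refl _))).upd 0 3 3 (le_of_eq hx04)).upd 2 3 1 (le_of_eq hx24)).upd 3 0 1 (le_of_eq hx40)).upd 3 2 2 (le_of_eq hx42)) ![2,0,1,2] (by decide) (by decide) 0 (by decide))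
      · -- 24=(2,1)
        exact False.elim (cert_false T ((skipEmb 3).trans (Function.Embedding.refl _)) (by norm_num) (fun _ => hall _) (((((LB_zero T ((skipEmb 3).trans (Function.Embedding.refl _))).upd 0 3 3 (le_of_eq hx04)).upd 2 3 2 (le_of_eq hx24)).upd 3 0 1 (le_of_eq hx40)).upd 3 2 1 (le_of_eq hx42)) ![1,0,1,1] (by decide) (by decide) 0 (by decide))
      · -- 24=(1,3)
        exact False.elim (cert_false T ((skipEmb 3).trans (Function.Embedding.refl _)) (by norm_num) (fun _ => hall _) (((((LB_zero T ((skipEmb 3).trans (Function.Embedding.refl _))).upd 0 3 3 (le_of_eq hx04)).upd 2 3 1 (le_of_eq hx24)).upd 3 0 1 (le_of_eq hx40)).upd 3 2 3 (le_of_eq hx42)) ![1,0,1,2] (by decide) (by decide) 0 (by decide))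
      · -- 24=(3,1)
        exact False.elim (cert_false T ((skipEmb 3).trans (Function.Embedding.refl _)) (by norm_num) (fun _ => hall _) (((((LB_zero T ((skipEmb 3).trans (Function.Embedding.refl _))).upd 0 3 3 (le_of_eq hx04)).upd 2 3 3 (le_of_eq hx24)).upd 3 0 1 (le_of_eq hx40)).upd 3 2 1 (le_of_eq hx42)) ![1,0,1,1] (by decide) (by decide) 0 (by decide))
    · -- 14=(1,1)
      exact False.elim (cert_false T ((skipEmb 3).trans (Function.Embedding.refl _)) (by norm_num) (fun _ => hall _) (((((LB_zero T ((skipEmb 3).trans (Function.Embedding.refl _))).upd 0 3 3 (le_of_eq hx04)).upd 1 3 1 (le_of_eq hx14)).upd 3 0 1 (le_of_eq hx40)).upd 3 1 1 (le_of_eq hx41)) ![3,1,0,2] (by decide) (by decide) 0 (by decide))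
    · -- 14=(1,2)
      exact False.elim (cert_false T ((skipEmb 3).trans (Function.Embedding.refl _)) (by norm_num) (fun _ => hall _) (((((LB_zero T ((skipEmb 3).trans (Function.Embedding.refl _))).upd 0 3 3 (le_of_eq hx04)).upd 1 3 1 (le_of_eq hx14)).upd 3 0 1 (le_of_eq hx40)).upd 3 1 2 (le_of_eq hx41)) ![2,1,0,2] (by decide) (by decide) 0 (by decide))
    · -- 14=(2,1)
      exact False.elim (cert_false T ((skipEmb 3).trans (Function.Embedding.refl _)) (by norm_num) (fun _ => hall _) (((((LB_zero T ((skipEmb 3).trans (Function.Embedding.refl _))).upd 0 3 3 (le_of_eq hx04)).upd 1 3 2 (le_of_eq hx14)).upd 3 0 1 (le_of_eq hx40)).upd 3 1 1 (le_of_eq hx41)) ![1,1,0,1] (by decide) (by decide) 0 (by decide))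
    · -- 14=(1,3)
      exact False.elim (cert_false T ((skipEmb 3).trans (Function.Embedding.refl _)) (by norm_num) (fun _ => hall _) (((((LB_zero T ((skipEmb 3).trans (Function.Embedding.refl _))).upd 0 3 3 (le_of_eq hx04)).upd 1 3 1 (le_of_eq hx14)).upd 3 0 1 (le_of_eq hx40)).upd 3 1 3 (le_of_eq hx41)) ![1,1,0,2] (by decide) (by decide) 0 (by decide))
    · -- 14=(3,1)
      exact False.elim (cert_false T ((skipEmb 3).trans (Function.Embedding.refl _)) (by norm_num) (fun _ => hall _) (((((LB_zero T ((skipEmb 3).trans (Function.Embedding.refl _))).upd 0 3 3 (le_of_eq hx04)).upd 1 3 3 (le_of_eq hx14)).upd 3 0 1 (le_of_eq hx40)).upd 3 1 1 (le_of_eq hx41)) ![1,1,0,1] (by decide) (by decide) 0 (by decide))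

theorem case38 (T : NumericalType 5) (hall : ∀ i, T.IsMinusTwo i) (d : SData T)
    (h01 : N T (Function.Embedding.refl _) 0 1 = 0) (h10 : N T (Function.Embedding.refl _) 1 0 = 0)
    (h02 : N T (Function.Embedding.refl _) 0 2 = 0) (h20 : N T (Function.Embedding.refl _) 2 0 = 0)
    (h12 : N T (Function.Embedding.refl _) 1 2 = 0) (h21 : N T (Function.Embedding.refl _) 2 1 = 0)
    (h03 : N T (Function.Embedding.refl _) 0 3 = 0) (h30 : N T (Function.Embedding.refl _) 3 0 = 0)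
    (h13 : N T (Function.Embedding.refl _) 1 3 = 1) (h31 : N T (Function.Embedding.refl _) 3 1 = 3) :
    Goal T := by
  unfold Goal
  have hd := d
  obtain ⟨x01, x02, x03, x04, x10, x12, x13, x14, x20, x21, x23, x24, x30, x31, x32, x34, x40, x41, x42, x43, hx01, hx02, hx03, hx04, hx10, hx12, hx13, hx14, hx20, hx21, hx23, hx24, hx30, hx31, hx32, hx34, hx40, hx41, hx42, hx43, hw0, hm0, hw1, hm1, hw2, hm2, hw3, hm3, hw4, hm4, a00, a01, a02, a03, a04, a11, a10, a12, a13, a14, a22, a20, a21, a23, a24, a33, a30, a31, a32, a34, a44, a40, a41, a42, a43, wN01, wN02, wN12, wN03, wN13, wN23, wN04, wN14, wN24, wN34, e0, e1, e2, e3, e4, d01, d02, d12, d03, d13, d23, d04, d14, d24, d34⟩ := d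
  obtain rfl : x01 = 0 := hx01.trans h01
  obtain rfl : x10 = 0 := hx10.trans h10
  obtain rfl : x02 = 0 := hx02.trans h02
  obtain rfl : x20 = 0 := hx20.trans h20
  obtain rfl : x12 = 0 := hx12.trans h12
  obtain rfl : x21 = 0 := hx21.trans h21
  obtain rfl : x03 = 0 := hx03.trans h03
  obtain rfl : x30 = 0 := hx30.trans h30
  obtain rfl : x13 = 1 := hx13.trans h13
  obtain rfl : x31 = 3 := hx31.trans h31
  rcases d23 with ⟨rfl, rfl⟩ | ⟨rfl, rfl⟩ | ⟨rfl, rfl⟩ | ⟨rfl, rfl⟩ | ⟨rfl, rfl⟩ | ⟨rfl, rfl⟩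
  · -- 23=(0,0)
    exact case39 T hall hd hx01.symm hx10.symm hx02.symm hx20.symm hx12.symm hx21.symm hx03.symm hx30.symm hx13.symm hx31.symm hx23.symm hx32.symm
  · -- 23=(1,1)
    exact False.elim (cert_false T ((skipEmb 4).trans (Function.Embedding.refl _)) (by norm_num) (fun _ => hall _) (((((LB_zero T ((skipEmb 4).trans (Function.Embedding.refl _))).upd 1 3 1 (le_of_eq hx13)).upd 2 3 1 (le_of_eq hx23)).upd 3 1 3 (le_of_eq hx31)).upd 3 2 1 (le_of_eq hx32)) ![0,1,1,2] (by decide) (by decide) 1 (by decide))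
  · -- 23=(1,2)
    exact False.elim (cert_false T ((skipEmb 4).trans (Function.Embedding.refl _)) (by norm_num) (fun _ => hall _) (((((LB_zero T ((skipEmb 4).trans (Function.Embedding.refl _))).upd 1 3 1 (le_of_eq hx13)).upd 2 3 1 (le_of_eq hx23)).upd 3 1 3 (le_of_eq hx31)).upd 3 2 2 (le_of_eq hx32)) ![0,1,1,2] (by decide) (by decide) 1 (by decide))
  · -- 23=(2,1)
    exact False.elim (cert_false T ((skipEmb 4).trans (Function.Embedding.refl _)) (by norm_num) (fun _ => hall _) (((((LB_zero T ((skipEmb 4).trans (Function.Embedding.refl _))).upd 1 3 1 (le_of_eq hx13)).upd 2 3 2 (le_of_eq hx23)).upd 3 1 3 (le_of_eq hx31)).upd 3 2 1 (le_of_eq hx32)) ![0,1,1,2] (by decide) (by decide) 1 (by decide))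
  · -- 23=(1,3)
    exact False.elim (cert_false T ((skipEmb 4).trans (Function.Embedding.refl _)) (by norm_num) (fun _ => hall _) (((((LB_zero T ((skipEmb 4).trans (Function.Embedding.refl _))).upd 1 3 1 (le_of_eq hx13)).upd 2 3 1 (le_of_eq hx23)).upd 3 1 3 (le_of_eq hx31)).upd 3 2 3 (le_of_eq hx32)) ![0,1,1,2] (by decide) (by decide) 1 (by decide))
  · -- 23=(3,1)
    exact False.elim (cert_false T ((skipEmb 4).trans (Function.Embedding.refl _)) (by norm_num) (fun _ => hall _) (((((LB_zero T ((skipEmb 4).trans (Function.Embedding.refl _))).upd 1 3 1 (le_of_eq hx13)).upd 2 3 3 (le_of_eq hx23)).upd 3 1 3 (le_of_eq hx31)).upd 3 2 1 (le_of_eq hx32)) ![0,1,1,2] (by decide) (by decide) 1 (by decide))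

theorem case45 (T : NumericalType 5) (hall : ∀ i, T.IsMinusTwo i) (d : SData T)
    (h01 : N T (Function.Embedding.refl _) 0 1 = 0) (h10 : N T (Function.Embedding.refl _) 1 0 = 0)
    (h02 : N T (Function.Embedding.refl _) 0 2 = 0) (h20 : N T (Function.Embedding.refl _) 2 0 = 0)
    (h12 : N T (Function.Embedding.refl _) 1 2 = 0) (h21 : N T (Function.Embedding.refl _) 2 1 = 0)
    (h03 : N T (Function.Embedding.refl _) 0 3 = 1) (h30 : N T (Function.Embedding.refl _) 3 0 = 1)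
    (h13 : N T (Function.Embedding.refl _) 1 3 = 0) (h31 : N T (Function.Embedding.refl _) 3 1 = 0)
    (h23 : N T (Function.Embedding.refl _) 2 3 = 0) (h32 : N T (Function.Embedding.refl _) 3 2 = 0)
    (h04 : N T (Function.Embedding.refl _) 0 4 = 0) (h40 : N T (Function.Embedding.refl _) 4 0 = 0) :
    Goal T := by
  unfold Goal
  have hd := d
  obtain ⟨x01, x02, x03, x04, x10, x12, x13, x14, x20, x21, x23, x24, x30, x31, x32, x34, x40, x41, x42, x43, hx01, hx02, hx03, hx04, hx10, hx12, hx13, hx14, hx20, hx21, hx23, hx24, hx30, hx31, hx32, hx34, hx40, hx41, hx42, hx43, hw0, hm0, hw1, hm1, hw2, hm2, hw3, hm3, hw4, hm4, a00, a01, a02, a03, a04, a11, a10, a12, a13, a14, a22, a20, a21, a23, a24, a33, a30, a31, a32, a34, a44, a40, a41, a42, a43, wN01, wN02, wN12, wN03, wN13, wN23, wN04, wN14, wN24, wN34, e0, e1, e2, e3, e4, d01, d02, d12, d03, d13, d23, d04, d14, d24, d34⟩ := d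
  obtain rfl : x01 = 0 := hx01.trans h01
  obtain rfl : x10 = 0 := hx10.trans h10
  obtain rfl : x02 = 0 := hx02.trans h02
  obtain rfl : x20 = 0 := hx20.trans h20
  obtain rfl : x12 = 0 := hx12.trans h12
  obtain rfl : x21 = 0 := hx21.trans h21
  obtain rfl : x03 = 1 := hx03.trans h03
  obtain rfl : x30 = 1 := hx30.trans h30
  obtain rfl : x13 = 0 := hx13.trans h13
  obtain rfl : x31 = 0 := hx31.trans h31
  obtain rfl : x23 = 0 := hx23.trans h23
  obtain rfl : x32 = 0 := hx32.trans h32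
  obtain rfl : x04 = 0 := hx04.trans h04
  obtain rfl : x40 = 0 := hx40.trans h40
  rcases d14 with ⟨rfl, rfl⟩ | ⟨rfl, rfl⟩ | ⟨rfl, rfl⟩ | ⟨rfl, rfl⟩ | ⟨rfl, rfl⟩ | ⟨rfl, rfl⟩
  · -- 14=(0,0)
    rcases d24 with ⟨rfl, rfl⟩ | ⟨rfl, rfl⟩ | ⟨rfl, rfl⟩ | ⟨rfl, rfl⟩ | ⟨rfl, rfl⟩ | ⟨rfl, rfl⟩
    · -- 24=(0,0)
      rcases d34 with ⟨rfl, rfl⟩ | ⟨rfl, rfl⟩ | ⟨rfl, rfl⟩ | ⟨rfl, rfl⟩ | ⟨rfl, rfl⟩ | ⟨rfl, rfl⟩
      · -- 34=(0,0)
        exfalso; omega
      · -- 34=(1,1)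
        exfalso; omega
      · -- 34=(1,2)
        exfalso; omega
      · -- 34=(2,1)
        exfalso; omega
      · -- 34=(1,3)
        exact False.elim (cert_false T ((skipEmb 2).trans (Function.Embedding.refl _)) (by norm_num) (fun _ => hall _) (((((LB_zero T ((skipEmb 2).trans (Function.Embedding.refl _))).upd 0 2 1 (le_of_eq hx03)).upd 2 0 1 (le_of_eq hx30)).upd 2 3 1 (le_of_eq hx34)).upd 3 2 3 (le_of_eq hx43)) ![1,0,2,3] (by decide) (by decide) 0 (by decide))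
      · -- 34=(3,1)
        exact False.elim (cert_false T ((skipEmb 2).trans (Function.Embedding.refl _)) (by norm_num) (fun _ => hall _) (((((LB_zero T ((skipEmb 2).trans (Function.Embedding.refl _))).upd 0 2 1 (le_of_eq hx03)).upd 2 0 1 (le_of_eq hx30)).upd 2 3 3 (le_of_eq hx34)).upd 3 2 1 (le_of_eq hx43)) ![1,0,2,1] (by decide) (by decide) 0 (by decide))
    · -- 24=(1,1)
      rcases d34 with ⟨rfl, rfl⟩ | ⟨rfl, rfl⟩ | ⟨rfl, rfl⟩ | ⟨rfl, rfl⟩ | ⟨rfl, rfl⟩ | ⟨rfl, rfl⟩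
      · -- 34=(0,0)
        exfalso; omega
      · -- 34=(1,1)
        exfalso; omega
      · -- 34=(1,2)
        exfalso; omega
      · -- 34=(2,1)
        exfalso; omega
      · -- 34=(1,3)
        exact False.elim (cert_false T ((skipEmb 2).trans (Function.Embedding.refl _)) (by norm_num) (fun _ => hall _) (((((LB_zero T ((skipEmb 2).trans (Function.Embedding.refl _))).upd 0 2 1 (le_of_eq hx03)).upd 2 0 1 (le_of_eq hx30)).upd 2 3 1 (le_of_eq hx34)).upd 3 2 3 (le_of_eq hx43)) ![1,0,2,3] (by decide) (by decide) 0 (by decide))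
      · -- 34=(3,1)
        exact False.elim (cert_false T ((skipEmb 2).trans (Function.Embedding.refl _)) (by norm_num) (fun _ => hall _) (((((LB_zero T ((skipEmb 2).trans (Function.Embedding.refl _))).upd 0 2 1 (le_of_eq hx03)).upd 2 0 1 (le_of_eq hx30)).upd 2 3 3 (le_of_eq hx34)).upd 3 2 1 (le_of_eq hx43)) ![1,0,2,1] (by decide) (by decide) 0 (by decide))
    · -- 24=(1,2)
      rcases d34 with ⟨rfl, rfl⟩ | ⟨rfl, rfl⟩ | ⟨rfl, rfl⟩ | ⟨rfl, rfl⟩ | ⟨rfl, rfl⟩ | ⟨rfl, rfl⟩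
      · -- 34=(0,0)
        exfalso; omega
      · -- 34=(1,1)
        exfalso; omega
      · -- 34=(1,2)
        exact False.elim (cert_false T ((skipEmb 1).trans (Function.Embedding.refl _)) (by norm_num) (fun _ => hall _) (((((LB_zero T ((skipEmb 1).trans (Function.Embedding.refl _))).upd 1 3 1 (le_of_eq hx24)).upd 2 3 1 (le_of_eq hx34)).upd 3 1 2 (le_of_eq hx42)).upd 3 2 2 (le_of_eq hx43)) ![0,1,1,2] (by decide) (by decide) 1 (by decide))
      · -- 34=(2,1)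
        exact False.elim (cert_false T ((skipEmb 1).trans (Function.Embedding.refl _)) (by norm_num) (fun _ => hall _) (((((LB_zero T ((skipEmb 1).trans (Function.Embedding.refl _))).upd 1 3 1 (le_of_eq hx24)).upd 2 3 2 (le_of_eq hx34)).upd 3 1 2 (le_of_eq hx42)).upd 3 2 1 (le_of_eq hx43)) ![0,1,2,2] (by decide) (by decide) 1 (by decide))
      · -- 34=(1,3)
        exact False.elim (cert_false T ((skipEmb 2).trans (Function.Embedding.refl _)) (by norm_num) (fun _ => hall _) (((((LB_zero T ((skipEmb 2).trans (Function.Embedding.refl _))).upd 0 2 1 (le_of_eq hx03)).upd 2 0 1 (le_of_eq hx30)).upd 2 3 1 (le_of_eq hx34)).upd 3 2 3 (le_of_eq hx43)) ![1,0,2,3] (by decide) (by decide) 0 (by decide))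
      · -- 34=(3,1)
        exact False.elim (cert_false T ((skipEmb 2).trans (Function.Embedding.refl _)) (by norm_num) (fun _ => hall _) (((((LB_zero T ((skipEmb 2).trans (Function.Embedding.refl _))).upd 0 2 1 (le_of_eq hx03)).upd 2 0 1 (le_of_eq hx30)).upd 2 3 3 (le_of_eq hx34)).upd 3 2 1 (le_of_eq hx43)) ![1,0,2,1] (by decide) (by decide) 0 (by decide))
    · -- 24=(2,1)
      rcases d34 with ⟨rfl, rfl⟩ | ⟨rfl, rfl⟩ | ⟨rfl, rfl⟩ | ⟨rfl, rfl⟩ | ⟨rfl, rfl⟩ | ⟨rfl, rfl⟩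
      · -- 34=(0,0)
        exfalso; omega
      · -- 34=(1,1)
        exfalso; omega
      · -- 34=(1,2)
        exact False.elim (cert_false T ((skipEmb 1).trans (Function.Embedding.refl _)) (by norm_num) (fun _ => hall _) (((((LB_zero T ((skipEmb 1).trans (Function.Embedding.refl _))).upd 1 3 2 (le_of_eq hx24)).upd 2 3 1 (le_of_eq hx34)).upd 3 1 1 (le_of_eq hx42)).upd 3 2 2 (le_of_eq hx43)) ![0,2,1,2] (by decide) (by decide) 1 (by decide))
      · -- 34=(2,1)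
        exact False.elim (cert_false T ((skipEmb 1).trans (Function.Embedding.refl _)) (by norm_num) (fun _ => hall _) (((((LB_zero T ((skipEmb 1).trans (Function.Embedding.refl _))).upd 1 3 2 (le_of_eq hx24)).upd 2 3 2 (le_of_eq hx34)).upd 3 1 1 (le_of_eq hx42)).upd 3 2 1 (le_of_eq hx43)) ![0,1,1,1] (by decide) (by decide) 1 (by decide))
      · -- 34=(1,3)
        exact False.elim (cert_false T ((skipEmb 2).trans (Function.Embedding.refl _)) (by norm_num) (fun _ => hall _) (((((LB_zero T ((skipEmb 2).trans (Function.Embedding.refl _))).upd 0 2 1 (le_of_eq hx03)).upd 2 0 1 (le_of_eq hx30)).upd 2 3 1 (le_of_eq hx34)).upd 3 2 3 (le_of_eq hx43)) ![1,0,2,3] (by decide) (by decide) 0 (by decide))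
      · -- 34=(3,1)
        exact False.elim (cert_false T ((skipEmb 2).trans (Function.Embedding.refl _)) (by norm_num) (fun _ => hall _) (((((LB_zero T ((skipEmb 2).trans (Function.Embedding.refl _))).upd 0 2 1 (le_of_eq hx03)).upd 2 0 1 (le_of_eq hx30)).upd 2 3 3 (le_of_eq hx34)).upd 3 2 1 (le_of_eq hx43)) ![1,0,2,1] (by decide) (by decide) 0 (by decide))
    · -- 24=(1,3)
      rcases d34 with ⟨rfl, rfl⟩ | ⟨rfl, rfl⟩ | ⟨rfl, rfl⟩ | ⟨rfl, rfl⟩ | ⟨rfl, rfl⟩ | ⟨rfl, rfl⟩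
      · -- 34=(0,0)
        exfalso; omega
      · -- 34=(1,1)
        exact False.elim (cert_false T ((skipEmb 1).trans (Function.Embedding.refl _)) (by norm_num) (fun _ => hall _) (((((LB_zero T ((skipEmb 1).trans (Function.Embedding.refl _))).upd 1 3 1 (le_of_eq hx24)).upd 2 3 1 (le_of_eq hx34)).upd 3 1 3 (le_of_eq hx42)).upd 3 2 1 (le_of_eq hx43)) ![0,1,1,2] (by decide) (by decide) 1 (by decide))
      · -- 34=(1,2)
        exact False.elim (cert_false T ((skipEmb 1).trans (Function.Embedding.refl _)) (by norm_num) (fun _ => hall _) (((((LB_zero T ((skipEmb 1).trans (Function.Embedding.refl _))).upd 1 3 1 (le_of_eq hx24)).upd 2 3 1 (le_of_eq hx34)).upd 3 1 3 (le_of_eq hx42)).upd 3 2 2 (le_of_eq hx43)) ![0,1,1,2] (by decide) (by decide) 1 (by decide))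
      · -- 34=(2,1)
        exact False.elim (cert_false T ((skipEmb 1).trans (Function.Embedding.refl _)) (by norm_num) (fun _ => hall _) (((((LB_zero T ((skipEmb 1).trans (Function.Embedding.refl _))).upd 1 3 1 (le_of_eq hx24)).upd 2 3 2 (le_of_eq hx34)).upd 3 1 3 (le_of_eq hx42)).upd 3 2 1 (le_of_eq hx43)) ![0,1,1,2] (by decide) (by decide) 1 (by decide))
      · -- 34=(1,3)
        exact False.elim (cert_false T ((skipEmb 2).trans (Function.Embedding.refl _)) (by norm_num) (fun _ => hall _) (((((LB_zero T ((skipEmb 2).trans (Function.Embedding.refl _))).upd 0 2 1 (le_of_eq hx03)).upd 2 0 1 (le_of_eq hx30)).upd 2 3 1 (le_of_eq hx34)).upd 3 2 3 (le_of_eq hx43)) ![1,0,2,3] (by decide) (by decide) 0 (by decide))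
      · -- 34=(3,1)
        exact False.elim (cert_false T ((skipEmb 2).trans (Function.Embedding.refl _)) (by norm_num) (fun _ => hall _) (((((LB_zero T ((skipEmb 2).trans (Function.Embedding.refl _))).upd 0 2 1 (le_of_eq hx03)).upd 2 0 1 (le_of_eq hx30)).upd 2 3 3 (le_of_eq hx34)).upd 3 2 1 (le_of_eq hx43)) ![1,0,2,1] (by decide) (by decide) 0 (by decide))
    · -- 24=(3,1)
      rcases d34 with ⟨rfl, rfl⟩ | ⟨rfl, rfl⟩ | ⟨rfl, rfl⟩ | ⟨rfl, rfl⟩ | ⟨rfl, rfl⟩ | ⟨rfl, rfl⟩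
      · -- 34=(0,0)
        exfalso; omega
      · -- 34=(1,1)
        exact False.elim (cert_false T ((skipEmb 1).trans (Function.Embedding.refl _)) (by norm_num) (fun _ => hall _) (((((LB_zero T ((skipEmb 1).trans (Function.Embedding.refl _))).upd 1 3 3 (le_of_eq hx24)).upd 2 3 1 (le_of_eq hx34)).upd 3 1 1 (le_of_eq hx42)).upd 3 2 1 (le_of_eq hx43)) ![0,3,1,2] (by decide) (by decide) 1 (by decide))
      · -- 34=(1,2)
        exact False.elim (cert_false T ((skipEmb 1).trans (Function.Embedding.refl _)) (by norm_num) (fun _ => hall _) (((((LB_zero T ((skipEmb 1).trans (Function.Embedding.refl _))).upd 1 3 3 (le_of_eq hx24)).upd 2 3 1 (le_of_eq hx34)).upd 3 1 1 (le_of_eq hx42)).upd 3 2 2 (le_of_eq hx43)) ![0,2,1,2] (by decide) (by decide) 1 (by decide))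
      · -- 34=(2,1)
        exact False.elim (cert_false T ((skipEmb 1).trans (Function.Embedding.refl _)) (by norm_num) (fun _ => hall _) (((((LB_zero T ((skipEmb 1).trans (Function.Embedding.refl _))).upd 1 3 3 (le_of_eq hx24)).upd 2 3 2 (le_of_eq hx34)).upd 3 1 1 (le_of_eq hx42)).upd 3 2 1 (le_of_eq hx43)) ![0,1,1,1] (by decide) (by decide) 1 (by decide))
      · -- 34=(1,3)
        exact False.elim (cert_false T ((skipEmb 2).trans (Function.Embedding.refl _)) (by norm_num) (fun _ => hall _) (((((LB_zero T ((skipEmb 2).trans (Function.Embedding.refl _))).upd 0 2 1 (le_of_eq hx03)).upd 2 0 1 (le_of_eq hx30)).upd 2 3 1 (le_of_eq hx34)).upd 3 2 3 (le_of_eq hx43)) ![1,0,2,3] (by decide) (by decide) 0 (by decide))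
      · -- 34=(3,1)
        exact False.elim (cert_false T ((skipEmb 2).trans (Function.Embedding.refl _)) (by norm_num) (fun _ => hall _) (((((LB_zero T ((skipEmb 2).trans (Function.Embedding.refl _))).upd 0 2 1 (le_of_eq hx03)).upd 2 0 1 (le_of_eq hx30)).upd 2 3 3 (le_of_eq hx34)).upd 3 2 1 (le_of_eq hx43)) ![1,0,2,1] (by decide) (by decide) 0 (by decide))
  · -- 14=(1,1)
    rcases d24 with ⟨rfl, rfl⟩ | ⟨rfl, rfl⟩ | ⟨rfl, rfl⟩ | ⟨rfl, rfl⟩ | ⟨rfl, rfl⟩ | ⟨rfl, rfl⟩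
    · -- 24=(0,0)
      rcases d34 with ⟨rfl, rfl⟩ | ⟨rfl, rfl⟩ | ⟨rfl, rfl⟩ | ⟨rfl, rfl⟩ | ⟨rfl, rfl⟩ | ⟨rfl, rfl⟩
      · -- 34=(0,0)
        exfalso; omega
      · -- 34=(1,1)
        exfalso; omega
      · -- 34=(1,2)
        exfalso; omega
      · -- 34=(2,1)
        exfalso; omega
      · -- 34=(1,3)
        exact False.elim (cert_false T ((skipEmb 2).trans (Function.Embedding.refl _)) (by norm_num) (fun _ => hall _) (((((LB_zero T ((skipEmb 2).trans (Function.Embedding.refl _))).upd 1 3 1 (le_of_eq hx14)).upd 2 3 1 (le_of_eq hx34)).upd 3 1 1 (le_of_eq hx41)).upd 3 2 3 (le_of_eq hx43)) ![0,1,1,2] (by decide) (by decide) 1 (by decide))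
      · -- 34=(3,1)
        exact False.elim (cert_false T ((skipEmb 2).trans (Function.Embedding.refl _)) (by norm_num) (fun _ => hall _) (((((LB_zero T ((skipEmb 2).trans (Function.Embedding.refl _))).upd 0 2 1 (le_of_eq hx03)).upd 2 0 1 (le_of_eq hx30)).upd 2 3 3 (le_of_eq hx34)).upd 3 2 1 (le_of_eq hx43)) ![1,0,2,1] (by decide) (by decide) 0 (by decide))
    · -- 24=(1,1)
      rcases d34 with ⟨rfl, rfl⟩ | ⟨rfl, rfl⟩ | ⟨rfl, rfl⟩ | ⟨rfl, rfl⟩ | ⟨rfl, rfl⟩ | ⟨rfl, rfl⟩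
      · -- 34=(0,0)
        exfalso; omega
      · -- 34=(1,1)
        exfalso; omega
      · -- 34=(1,2)
        exact False.elim (cert_false T ((skipEmb 0).trans (Function.Embedding.refl _)) (by norm_num) (fun _ => hall _) (((((((LB_zero T ((skipEmb 0).trans (Function.Embedding.refl _))).upd 0 3 1 (le_of_eq hx14)).upd 1 3 1 (le_of_eq hx24)).upd 2 3 1 (le_of_eq hx34)).upd 3 0 1 (le_of_eq hx41)).upd 3 1 1 (le_of_eq hx42)).upd 3 2 2 (le_of_eq hx43)) ![1,1,1,2] (by decide) (by decide) 0 (by decide))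
      · -- 34=(2,1)
        exact False.elim (cert_false T ((skipEmb 0).trans (Function.Embedding.refl _)) (by norm_num) (fun _ => hall _) (((((((LB_zero T ((skipEmb 0).trans (Function.Embedding.refl _))).upd 0 3 1 (le_of_eq hx14)).upd 1 3 1 (le_of_eq hx24)).upd 2 3 2 (le_of_eq hx34)).upd 3 0 1 (le_of_eq hx41)).upd 3 1 1 (le_of_eq hx42)).upd 3 2 1 (le_of_eq hx43)) ![1,1,2,2] (by decide) (by decide) 0 (by decide))
      · -- 34=(1,3)
        exact False.elim (cert_false T ((skipEmb 2).trans (Function.Embedding.refl _)) (by norm_num) (fun _ => hall _) (((((LB_zero T ((skipEmb 2).trans (Function.Embedding.refl _))).upd 1 3 1 (le_of_eq hx14)).upd 2 3 1 (le_of_eq hx34)).upd 3 1 1 (le_of_eq hx41)).upd 3 2 3 (le_of_eq hx43)) ![0,1,1,2] (by decide) (by decide) 1 (by decide))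
      · -- 34=(3,1)
        exact False.elim (cert_false T ((skipEmb 2).trans (Function.Embedding.refl _)) (by norm_num) (fun _ => hall _) (((((LB_zero T ((skipEmb 2).trans (Function.Embedding.refl _))).upd 0 2 1 (le_of_eq hx03)).upd 2 0 1 (le_of_eq hx30)).upd 2 3 3 (le_of_eq hx34)).upd 3 2 1 (le_of_eq hx43)) ![1,0,2,1] (by decide) (by decide) 0 (by decide))
    · -- 24=(1,2)
      rcases d34 with ⟨rfl, rfl⟩ | ⟨rfl, rfl⟩ | ⟨rfl, rfl⟩ | ⟨rfl, rfl⟩ | ⟨rfl, rfl⟩ | ⟨rfl, rfl⟩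
      · -- 34=(0,0)
        exfalso; omega
      · -- 34=(1,1)
        exact False.elim (cert_false T ((skipEmb 0).trans (Function.Embedding.refl _)) (by norm_num) (fun _ => hall _) (((((((LB_zero T ((skipEmb 0).trans (Function.Embedding.refl _))).upd 0 3 1 (le_of_eq hx14)).upd 1 3 1 (le_of_eq hx24)).upd 2 3 1 (le_of_eq hx34)).upd 3 0 1 (le_of_eq hx41)).upd 3 1 2 (le_of_eq hx42)).upd 3 2 1 (le_of_eq hx43)) ![1,1,1,2] (by decide) (by decide) 0 (by decide))
      · -- 34=(1,2)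
        exact False.elim (cert_false T ((skipEmb 1).trans (Function.Embedding.refl _)) (by norm_num) (fun _ => hall _) (((((LB_zero T ((skipEmb 1).trans (Function.Embedding.refl _))).upd 1 3 1 (le_of_eq hx24)).upd 2 3 1 (le_of_eq hx34)).upd 3 1 2 (le_of_eq hx42)).upd 3 2 2 (le_of_eq hx43)) ![0,1,1,2] (by decide) (by decide) 1 (by decide))
      · -- 34=(2,1)
        exact False.elim (cert_false T ((skipEmb 1).trans (Function.Embedding.refl _)) (by norm_num) (fun _ => hall _) (((((LB_zero T ((skipEmb 1).trans (Function.Embedding.refl _))).upd 1 3 1 (le_of_eq hx24)).upd 2 3 2 (le_of_eq hx34)).upd 3 1 2 (le_of_eq hx42)).upd 3 2 1 (le_of_eq hx43)) ![0,1,2,2] (by decide) (by decide) 1 (by decide))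
      · -- 34=(1,3)
        exact False.elim (cert_false T ((skipEmb 2).trans (Function.Embedding.refl _)) (by norm_num) (fun _ => hall _) (((((LB_zero T ((skipEmb 2).trans (Function.Embedding.refl _))).upd 1 3 1 (le_of_eq hx14)).upd 2 3 1 (le_of_eq hx34)).upd 3 1 1 (le_of_eq hx41)).upd 3 2 3 (le_of_eq hx43)) ![0,1,1,2] (by decide) (by decide) 1 (by decide))
      · -- 34=(3,1)
        exact False.elim (cert_false T ((skipEmb 2).trans (Function.Embedding.refl _)) (by norm_num) (fun _ => hall _) (((((LB_zero T ((skipEmb 2).trans (Function.Embedding.refl _))).upd 0 2 1 (le_of_eq hx03)).upd 2 0 1 (le_of_eq hx30)).upd 2 3 3 (le_of_eq hx34)).upd 3 2 1 (le_of_eq hx43)) ![1,0,2,1] (by decide) (by decide) 0 (by decide))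
    · -- 24=(2,1)
      rcases d34 with ⟨rfl, rfl⟩ | ⟨rfl, rfl⟩ | ⟨rfl, rfl⟩ | ⟨rfl, rfl⟩ | ⟨rfl, rfl⟩ | ⟨rfl, rfl⟩
      · -- 34=(0,0)
        exfalso; omega
      · -- 34=(1,1)
        exact False.elim (cert_false T ((skipEmb 0).trans (Function.Embedding.refl _)) (by norm_num) (fun _ => hall _) (((((((LB_zero T ((skipEmb 0).trans (Function.Embedding.refl _))).upd 0 3 1 (le_of_eq hx14)).upd 1 3 2 (le_of_eq hx24)).upd 2 3 1 (le_of_eq hx34)).upd 3 0 1 (le_of_eq hx41)).upd 3 1 1 (le_of_eq hx42)).upd 3 2 1 (le_of_eq hx43)) ![1,2,1,2] (by decide) (by decide) 0 (by decide))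
      · -- 34=(1,2)
        exact False.elim (cert_false T ((skipEmb 1).trans (Function.Embedding.refl _)) (by norm_num) (fun _ => hall _) (((((LB_zero T ((skipEmb 1).trans (Function.Embedding.refl _))).upd 1 3 2 (le_of_eq hx24)).upd 2 3 1 (le_of_eq hx34)).upd 3 1 1 (le_of_eq hx42)).upd 3 2 2 (le_of_eq hx43)) ![0,2,1,2] (by decide) (by decide) 1 (by decide))
      · -- 34=(2,1)
        exact False.elim (cert_false T ((skipEmb 1).trans (Function.Embedding.refl _)) (by norm_num) (fun _ => hall _) (((((LB_zero T ((skipEmb 1).trans (Function.Embedding.refl _))).upd 1 3 2 (le_of_eq hx24)).upd 2 3 2 (le_of_eq hx34)).upd 3 1 1 (le_of_eq hx42)).upd 3 2 1 (le_of_eq hx43)) ![0,1,1,1] (by decide) (by decide) 1 (by decide))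
      · -- 34=(1,3)
        exact False.elim (cert_false T ((skipEmb 2).trans (Function.Embedding.refl _)) (by norm_num) (fun _ => hall _) (((((LB_zero T ((skipEmb 2).trans (Function.Embedding.refl _))).upd 1 3 1 (le_of_eq hx14)).upd 2 3 1 (le_of_eq hx34)).upd 3 1 1 (le_of_eq hx41)).upd 3 2 3 (le_of_eq hx43)) ![0,1,1,2] (by decide) (by decide) 1 (by decide))
      · -- 34=(3,1)
        exact False.elim (cert_false T ((skipEmb 2).trans (Function.Embedding.refl _)) (by norm_num) (fun _ => hall _) (((((LB_zero T ((skipEmb 2).trans (Function.Embedding.refl _))).upd 0 2 1 (le_of_eq hx03)).upd 2 0 1 (le_of_eq hx30)).upd 2 3 3 (le_of_eq hx34)).upd 3 2 1 (le_of_eq hx43)) ![1,0,2,1] (by decide) (by decide) 0 (by decide))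
    · -- 24=(1,3)
      exact False.elim (cert_false T ((skipEmb 3).trans (Function.Embedding.refl _)) (by norm_num) (fun _ => hall _) (((((LB_zero T ((skipEmb 3).trans (Function.Embedding.refl _))).upd 1 3 1 (le_of_eq hx14)).upd 2 3 1 (le_of_eq hx24)).upd 3 1 1 (le_of_eq hx41)).upd 3 2 3 (le_of_eq hx42)) ![0,1,1,2] (by decide) (by decide) 1 (by decide))
    · -- 24=(3,1)
      exact False.elim (cert_false T ((skipEmb 3).trans (Function.Embedding.refl _)) (by norm_num) (fun _ => hall _) (((((LB_zero T ((skipEmb 3).trans (Function.Embedding.refl _))).upd 1 3 1 (le_of_eq hx14)).upd 2 3 3 (le_of_eq hx24)).upd 3 1 1 (le_of_eq hx41)).upd 3 2 1 (le_of_eq hx42)) ![0,1,3,2] (by decide) (by decide) 1 (by decide))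
  · -- 14=(1,2)
    rcases d24 with ⟨rfl, rfl⟩ | ⟨rfl, rfl⟩ | ⟨rfl, rfl⟩ | ⟨rfl, rfl⟩ | ⟨rfl, rfl⟩ | ⟨rfl, rfl⟩
    · -- 24=(0,0)
      rcases d34 with ⟨rfl, rfl⟩ | ⟨rfl, rfl⟩ | ⟨rfl, rfl⟩ | ⟨rfl, rfl⟩ | ⟨rfl, rfl⟩ | ⟨rfl, rfl⟩
      · -- 34=(0,0)
        exfalso; omega
      · -- 34=(1,1)
        exfalso; omega
      · -- 34=(1,2)
        exact False.elim (cert_false T ((skipEmb 2).trans (Function.Embedding.refl _)) (by norm_num) (fun _ => hall _) (((((LB_zero T ((skipEmb 2).trans (Function.Embedding.refl _))).upd 1 3 1 (le_of_eq hx14)).upd 2 3 1 (le_of_eq hx34)).upd 3 1 2 (le_of_eq hx41)).upd 3 2 2 (le_of_eq hx43)) ![0,1,1,2] (by decide) (by decide) 1 (by decide))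
      · -- 34=(2,1)
        exact False.elim (cert_false T ((skipEmb 2).trans (Function.Embedding.refl _)) (by norm_num) (fun _ => hall _) (((((LB_zero T ((skipEmb 2).trans (Function.Embedding.refl _))).upd 1 3 1 (le_of_eq hx14)).upd 2 3 2 (le_of_eq hx34)).upd 3 1 2 (le_of_eq hx41)).upd 3 2 1 (le_of_eq hx43)) ![0,1,2,2] (by decide) (by decide) 1 (by decide))
      · -- 34=(1,3)
        exact False.elim (cert_false T ((skipEmb 2).trans (Function.Embedding.refl _)) (by norm_num) (fun _ => hall _) (((((LB_zero T ((skipEmb 2).trans (Function.Embedding.refl _))).upd 1 3 1 (le_of_eq hx14)).upd 2 3 1 (le_of_eq hx34)).upd 3 1 2 (le_of_eq hx41)).upd 3 2 3 (le_of_eq hx43)) ![0,1,1,2] (by decide) (by decide) 1 (by decide))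
      · -- 34=(3,1)
        exact False.elim (cert_false T ((skipEmb 2).trans (Function.Embedding.refl _)) (by norm_num) (fun _ => hall _) (((((LB_zero T ((skipEmb 2).trans (Function.Embedding.refl _))).upd 1 3 1 (le_of_eq hx14)).upd 2 3 3 (le_of_eq hx34)).upd 3 1 2 (le_of_eq hx41)).upd 3 2 1 (le_of_eq hx43)) ![0,1,2,2] (by decide) (by decide) 1 (by decide))
    · -- 24=(1,1)
      rcases d34 with ⟨rfl, rfl⟩ | ⟨rfl, rfl⟩ | ⟨rfl, rfl⟩ | ⟨rfl, rfl⟩ | ⟨rfl, rfl⟩ | ⟨rfl, rfl⟩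
      · -- 34=(0,0)
        exfalso; omega
      · -- 34=(1,1)
        exact False.elim (cert_false T ((skipEmb 0).trans (Function.Embedding.refl _)) (by norm_num) (fun _ => hall _) (((((((LB_zero T ((skipEmb 0).trans (Function.Embedding.refl _))).upd 0 3 1 (le_of_eq hx14)).upd 1 3 1 (le_of_eq hx24)).upd 2 3 1 (le_of_eq hx34)).upd 3 0 2 (le_of_eq hx41)).upd 3 1 1 (le_of_eq hx42)).upd 3 2 1 (le_of_eq hx43)) ![1,1,1,2] (by decide) (by decide) 0 (by decide))
      · -- 34=(1,2)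
        exact False.elim (cert_false T ((skipEmb 2).trans (Function.Embedding.refl _)) (by norm_num) (fun _ => hall _) (((((LB_zero T ((skipEmb 2).trans (Function.Embedding.refl _))).upd 1 3 1 (le_of_eq hx14)).upd 2 3 1 (le_of_eq hx34)).upd 3 1 2 (le_of_eq hx41)).upd 3 2 2 (le_of_eq hx43)) ![0,1,1,2] (by decide) (by decide) 1 (by decide))
      · -- 34=(2,1)
        exact False.elim (cert_false T ((skipEmb 2).trans (Function.Embedding.refl _)) (by norm_num) (fun _ => hall _) (((((LB_zero T ((skipEmb 2).trans (Function.Embedding.refl _))).upd 1 3 1 (le_of_eq hx14)).upd 2 3 2 (le_of_eq hx34)).upd 3 1 2 (le_of_eq hx41)).upd 3 2 1 (le_of_eq hx43)) ![0,1,2,2] (by decide) (by decide) 1 (by decide))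
      · -- 34=(1,3)
        exact False.elim (cert_false T ((skipEmb 2).trans (Function.Embedding.refl _)) (by norm_num) (fun _ => hall _) (((((LB_zero T ((skipEmb 2).trans (Function.Embedding.refl _))).upd 1 3 1 (le_of_eq hx14)).upd 2 3 1 (le_of_eq hx34)).upd 3 1 2 (le_of_eq hx41)).upd 3 2 3 (le_of_eq hx43)) ![0,1,1,2] (by decide) (by decide) 1 (by decide))
      · -- 34=(3,1)
        exact False.elim (cert_false T ((skipEmb 2).trans (Function.Embedding.refl _)) (by norm_num) (fun _ => hall _) (((((LB_zero T ((skipEmb 2).trans (Function.Embedding.refl _))).upd 1 3 1 (le_of_eq hx14)).upd 2 3 3 (le_of_eq hx34)).upd 3 1 2 (le_of_eq hx41)).upd 3 2 1 (le_of_eq hx43)) ![0,1,2,2] (by decide) (by decide) 1 (by decide))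
    · -- 24=(1,2)
      exact False.elim (cert_false T ((skipEmb 3).trans (Function.Embedding.refl _)) (by norm_num) (fun _ => hall _) (((((LB_zero T ((skipEmb 3).trans (Function.Embedding.refl _))).upd 1 3 1 (le_of_eq hx14)).upd 2 3 1 (le_of_eq hx24)).upd 3 1 2 (le_of_eq hx41)).upd 3 2 2 (le_of_eq hx42)) ![0,1,1,2] (by decide) (by decide) 1 (by decide))
    · -- 24=(2,1)
      exact False.elim (cert_false T ((skipEmb 3).trans (Function.Embedding.refl _)) (by norm_num) (fun _ => hall _) (((((LB_zero T ((skipEmb 3).trans (Function.Embedding.refl _))).upd 1 3 1 (le_of_eq hx14)).upd 2 3 2 (le_of_eq hx24)).upd 3 1 2 (le_of_eq hx41)).upd 3 2 1 (le_of_eq hx42)) ![0,1,2,2] (by decide) (by decide) 1 (by decide))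
    · -- 24=(1,3)
      exact False.elim (cert_false T ((skipEmb 3).trans (Function.Embedding.refl _)) (by norm_num) (fun _ => hall _) (((((LB_zero T ((skipEmb 3).trans (Function.Embedding.refl _))).upd 1 3 1 (le_of_eq hx14)).upd 2 3 1 (le_of_eq hx24)).upd 3 1 2 (le_of_eq hx41)).upd 3 2 3 (le_of_eq hx42)) ![0,1,1,2] (by decide) (by decide) 1 (by decide))
    · -- 24=(3,1)
      exact False.elim (cert_false T ((skipEmb 3).trans (Function.Embedding.refl _)) (by norm_num) (fun _ => hall _) (((((LB_zero T ((skipEmb 3).trans (Function.Embedding.refl _))).upd 1 3 1 (le_of_eq hx14)).upd 2 3 3 (le_of_eq hx24)).upd 3 1 2 (le_of_eq hx41)).upd 3 2 1 (le_of_eq hx42)) ![0,1,2,2] (by decide) (by decide) 1 (by decide))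
  · -- 14=(2,1)
    rcases d24 with ⟨rfl, rfl⟩ | ⟨rfl, rfl⟩ | ⟨rfl, rfl⟩ | ⟨rfl, rfl⟩ | ⟨rfl, rfl⟩ | ⟨rfl, rfl⟩
    · -- 24=(0,0)
      rcases d34 with ⟨rfl, rfl⟩ | ⟨rfl, rfl⟩ | ⟨rfl, rfl⟩ | ⟨rfl, rfl⟩ | ⟨rfl, rfl⟩ | ⟨rfl, rfl⟩
      · -- 34=(0,0)
        exfalso; omega
      · -- 34=(1,1)
        exfalso; omega
      · -- 34=(1,2)
        exact False.elim (cert_false T ((skipEmb 2).trans (Function.Embedding.refl _)) (by norm_num) (fun _ => hall _) (((((LB_zero T ((skipEmb 2).trans (Function.Embedding.refl _))).upd 1 3 2 (le_of_eq hx14)).upd 2 3 1 (le_of_eq hx34)).upd 3 1 1 (le_of_eq hx41)).upd 3 2 2 (le_of_eq hx43)) ![0,2,1,2] (by decide) (by decide) 1 (by decide))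
      · -- 34=(2,1)
        exact False.elim (cert_false T ((skipEmb 2).trans (Function.Embedding.refl _)) (by norm_num) (fun _ => hall _) (((((LB_zero T ((skipEmb 2).trans (Function.Embedding.refl _))).upd 1 3 2 (le_of_eq hx14)).upd 2 3 2 (le_of_eq hx34)).upd 3 1 1 (le_of_eq hx41)).upd 3 2 1 (le_of_eq hx43)) ![0,1,1,1] (by decide) (by decide) 1 (by decide))
      · -- 34=(1,3)
        exact False.elim (cert_false T ((skipEmb 2).trans (Function.Embedding.refl _)) (by norm_num) (fun _ => hall _) (((((LB_zero T ((skipEmb 2).trans (Function.Embedding.refl _))).upd 1 3 2 (le_of_eq hx14)).upd 2 3 1 (le_of_eq hx34)).upd 3 1 1 (le_of_eq hx41)).upd 3 2 3 (le_of_eq hx43)) ![0,1,1,2] (by decide) (by decide) 1 (by decide))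
      · -- 34=(3,1)
        exact False.elim (cert_false T ((skipEmb 2).trans (Function.Embedding.refl _)) (by norm_num) (fun _ => hall _) (((((LB_zero T ((skipEmb 2).trans (Function.Embedding.refl _))).upd 1 3 2 (le_of_eq hx14)).upd 2 3 3 (le_of_eq hx34)).upd 3 1 1 (le_of_eq hx41)).upd 3 2 1 (le_of_eq hx43)) ![0,1,1,1] (by decide) (by decide) 1 (by decide))
    · -- 24=(1,1)
      rcases d34 with ⟨rfl, rfl⟩ | ⟨rfl, rfl⟩ | ⟨rfl, rfl⟩ | ⟨rfl, rfl⟩ | ⟨rfl, rfl⟩ | ⟨rfl, rfl⟩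
      · -- 34=(0,0)
        exfalso; omega
      · -- 34=(1,1)
        exact False.elim (cert_false T ((skipEmb 0).trans (Function.Embedding.refl _)) (by norm_num) (fun _ => hall _) (((((((LB_zero T ((skipEmb 0).trans (Function.Embedding.refl _))).upd 0 3 2 (le_of_eq hx14)).upd 1 3 1 (le_of_eq hx24)).upd 2 3 1 (le_of_eq hx34)).upd 3 0 1 (le_of_eq hx41)).upd 3 1 1 (le_of_eq hx42)).upd 3 2 1 (le_of_eq hx43)) ![2,1,1,2] (by decide) (by decide) 0 (by decide))
      · -- 34=(1,2)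
        exact False.elim (cert_false T ((skipEmb 2).trans (Function.Embedding.refl _)) (by norm_num) (fun _ => hall _) (((((LB_zero T ((skipEmb 2).trans (Function.Embedding.refl _))).upd 1 3 2 (le_of_eq hx14)).upd 2 3 1 (le_of_eq hx34)).upd 3 1 1 (le_of_eq hx41)).upd 3 2 2 (le_of_eq hx43)) ![0,2,1,2] (by decide) (by decide) 1 (by decide))
      · -- 34=(2,1)
        exact False.elim (cert_false T ((skipEmb 2).trans (Function.Embedding.refl _)) (by norm_num) (fun _ => hall _) (((((LB_zero T ((skipEmb 2).trans (Function.Embedding.refl _))).upd 1 3 2 (le_of_eq hx14)).upd 2 3 2 (le_of_eq hx34)).upd 3 1 1 (le_of_eq hx41)).upd 3 2 1 (le_of_eq hx43)) ![0,1,1,1] (by decide) (by decide) 1 (by decide))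
      · -- 34=(1,3)
        exact False.elim (cert_false T ((skipEmb 2).trans (Function.Embedding.refl _)) (by norm_num) (fun _ => hall _) (((((LB_zero T ((skipEmb 2).trans (Function.Embedding.refl _))).upd 1 3 2 (le_of_eq hx14)).upd 2 3 1 (le_of_eq hx34)).upd 3 1 1 (le_of_eq hx41)).upd 3 2 3 (le_of_eq hx43)) ![0,1,1,2] (by decide) (by decide) 1 (by decide))
      · -- 34=(3,1)
        exact False.elim (cert_false T ((skipEmb 2).trans (Function.Embedding.refl _)) (by norm_num) (fun _ => hall _) (((((LB_zero T ((skipEmb 2).trans (Function.Embedding.refl _))).upd 1 3 2 (le_of_eq hx14)).upd 2 3 3 (le_of_eq hx34)).upd 3 1 1 (le_of_eq hx41)).upd 3 2 1 (le_of_eq hx43)) ![0,1,1,1] (by decide) (by decide) 1 (by decide))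
    · -- 24=(1,2)
      exact False.elim (cert_false T ((skipEmb 3).trans (Function.Embedding.refl _)) (by norm_num) (fun _ => hall _) (((((LB_zero T ((skipEmb 3).trans (Function.Embedding.refl _))).upd 1 3 2 (le_of_eq hx14)).upd 2 3 1 (le_of_eq hx24)).upd 3 1 1 (le_of_eq hx41)).upd 3 2 2 (le_of_eq hx42)) ![0,2,1,2] (by decide) (by decide) 1 (by decide))
    · -- 24=(2,1)
      exact False.elim (cert_false T ((skipEmb 3).trans (Function.Embedding.refl _)) (by norm_num) (fun _ => hall _) (((((LB_zero T ((skipEmb 3).trans (Function.Embedding.refl _))).upd 1 3 2 (le_of_eq hx14)).upd 2 3 2 (le_of_eq hx24)).upd 3 1 1 (le_of_eq hx41)).upd 3 2 1 (le_of_eq hx42)) ![0,1,1,1] (by decide) (by decide) 1 (by decide))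
    · -- 24=(1,3)
      exact False.elim (cert_false T ((skipEmb 3).trans (Function.Embedding.refl _)) (by norm_num) (fun _ => hall _) (((((LB_zero T ((skipEmb 3).trans (Function.Embedding.refl _))).upd 1 3 2 (le_of_eq hx14)).upd 2 3 1 (le_of_eq hx24)).upd 3 1 1 (le_of_eq hx41)).upd 3 2 3 (le_of_eq hx42)) ![0,1,1,2] (by decide) (by decide) 1 (by decide))
    · -- 24=(3,1)
      exact False.elim (cert_false T ((skipEmb 3).trans (Function.Embedding.refl _)) (by norm_num) (fun _ => hall _) (((((LB_zero T ((skipEmb 3).trans (Function.Embedding.refl _))).upd 1 3 2 (le_of_eq hx14)).upd 2 3 3 (le_of_eq hx24)).upd 3 1 1 (le_of_eq hx41)).upd 3 2 1 (le_of_eq hx42)) ![0,1,1,1] (by decide) (by decide) 1 (by decide))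
  · -- 14=(1,3)
    rcases d24 with ⟨rfl, rfl⟩ | ⟨rfl, rfl⟩ | ⟨rfl, rfl⟩ | ⟨rfl, rfl⟩ | ⟨rfl, rfl⟩ | ⟨rfl, rfl⟩
    · -- 24=(0,0)
      rcases d34 with ⟨rfl, rfl⟩ | ⟨rfl, rfl⟩ | ⟨rfl, rfl⟩ | ⟨rfl, rfl⟩ | ⟨rfl, rfl⟩ | ⟨rfl, rfl⟩
      · -- 34=(0,0)
        exfalso; omega
      · -- 34=(1,1)
        exact False.elim (cert_false T ((skipEmb 2).trans (Function.Embedding.refl _)) (by norm_num) (fun _ => hall _) (((((LB_zero T ((skipEmb 2).trans (Function.Embedding.refl _))).upd 1 3 1 (le_of_eq hx14)).upd 2 3 1 (le_of_eq hx34)).upd 3 1 3 (le_of_eq hx41)).upd 3 2 1 (le_of_eq hx43)) ![0,1,1,2] (by decide) (by decide) 1 (by decide))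
      · -- 34=(1,2)
        exact False.elim (cert_false T ((skipEmb 2).trans (Function.Embedding.refl _)) (by norm_num) (fun _ => hall _) (((((LB_zero T ((skipEmb 2).trans (Function.Embedding.refl _))).upd 1 3 1 (le_of_eq hx14)).upd 2 3 1 (le_of_eq hx34)).upd 3 1 3 (le_of_eq hx41)).upd 3 2 2 (le_of_eq hx43)) ![0,1,1,2] (by decide) (by decide) 1 (by decide))
      · -- 34=(2,1)
        exact False.elim (cert_false T ((skipEmb 2).trans (Function.Embedding.refl _)) (by norm_num) (fun _ => hall _) (((((LB_zero T ((skipEmb 2).trans (Function.Embedding.refl _))).upd 1 3 1 (le_of_eq hx14)).upd 2 3 2 (le_of_eq hx34)).upd 3 1 3 (le_of_eq hx41)).upd 3 2 1 (le_of_eq hx43)) ![0,1,1,2] (by decide) (by decide) 1 (by decide))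
      · -- 34=(1,3)
        exact False.elim (cert_false T ((skipEmb 2).trans (Function.Embedding.refl _)) (by norm_num) (fun _ => hall _) (((((LB_zero T ((skipEmb 2).trans (Function.Embedding.refl _))).upd 1 3 1 (le_of_eq hx14)).upd 2 3 1 (le_of_eq hx34)).upd 3 1 3 (le_of_eq hx41)).upd 3 2 3 (le_of_eq hx43)) ![0,1,1,2] (by decide) (by decide) 1 (by decide))
      · -- 34=(3,1)
        exact False.elim (cert_false T ((skipEmb 2).trans (Function.Embedding.refl _)) (by norm_num) (fun _ => hall _) (((((LB_zero T ((skipEmb 2).trans (Function.Embedding.refl _))).upd 1 3 1 (le_of_eq hx14)).upd 2 3 3 (le_of_eq hx34)).upd 3 1 3 (le_of_eq hx41)).upd 3 2 1 (le_of_eq hx43)) ![0,1,1,2] (by decide) (by decide) 1 (by decide))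
    · -- 24=(1,1)
      exact False.elim (cert_false T ((skipEmb 3).trans (Function.Embedding.refl _)) (by norm_num) (fun _ => hall _) (((((LB_zero T ((skipEmb 3).trans (Function.Embedding.refl _))).upd 1 3 1 (le_of_eq hx14)).upd 2 3 1 (le_of_eq hx24)).upd 3 1 3 (le_of_eq hx41)).upd 3 2 1 (le_of_eq hx42)) ![0,1,1,2] (by decide) (by decide) 1 (by decide))
    · -- 24=(1,2)
      exact False.elim (cert_false T ((skipEmb 3).trans (Function.Embedding.refl _)) (by norm_num) (fun _ => hall _) (((((LB_zero T ((skipEmb 3).trans (Function.Embedding.refl _))).upd 1 3 1 (le_of_eq hx14)).upd 2 3 1 (le_of_eq hx24)).upd 3 1 3 (le_of_eq hx41)).upd 3 2 2 (le_of_eq hx42)) ![0,1,1,2] (by decide) (by decide) 1 (by decide))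
    · -- 24=(2,1)
      exact False.elim (cert_false T ((skipEmb 3).trans (Function.Embedding.refl _)) (by norm_num) (fun _ => hall _) (((((LB_zero T ((skipEmb 3).trans (Function.Embedding.refl _))).upd 1 3 1 (le_of_eq hx14)).upd 2 3 2 (le_of_eq hx24)).upd 3 1 3 (le_of_eq hx41)).upd 3 2 1 (le_of_eq hx42)) ![0,1,1,2] (by decide) (by decide) 1 (by decide))
    · -- 24=(1,3)
      exact False.elim (cert_false T ((skipEmb 3).trans (Function.Embedding.refl _)) (by norm_num) (fun _ => hall _) (((((LB_zero T ((skipEmb 3).trans (Function.Embedding.refl _))).upd 1 3 1 (le_of_eq hx14)).upd 2 3 1 (le_of_eq hx24)).upd 3 1 3 (le_of_eq hx41)).upd 3 2 3 (le_of_eq hx42)) ![0,1,1,2] (by decide) (by decide) 1 (by decide))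
    · -- 24=(3,1)
      exact False.elim (cert_false T ((skipEmb 3).trans (Function.Embedding.refl _)) (by norm_num) (fun _ => hall _) (((((LB_zero T ((skipEmb 3).trans (Function.Embedding.refl _))).upd 1 3 1 (le_of_eq hx14)).upd 2 3 3 (le_of_eq hx24)).upd 3 1 3 (le_of_eq hx41)).upd 3 2 1 (le_of_eq hx42)) ![0,1,1,2] (by decide) (by decide) 1 (by decide))
  · -- 14=(3,1)
    rcases d24 with ⟨rfl, rfl⟩ | ⟨rfl, rfl⟩ | ⟨rfl, rfl⟩ | ⟨rfl, rfl⟩ | ⟨rfl, rfl⟩ | ⟨rfl, rfl⟩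
    · -- 24=(0,0)
      rcases d34 with ⟨rfl, rfl⟩ | ⟨rfl, rfl⟩ | ⟨rfl, rfl⟩ | ⟨rfl, rfl⟩ | ⟨rfl, rfl⟩ | ⟨rfl, rfl⟩
      · -- 34=(0,0)
        exfalso; omega
      · -- 34=(1,1)
        exact False.elim (cert_false T ((skipEmb 2).trans (Function.Embedding.refl _)) (by norm_num) (fun _ => hall _) (((((LB_zero T ((skipEmb 2).trans (Function.Embedding.refl _))).upd 1 3 3 (le_of_eq hx14)).upd 2 3 1 (le_of_eq hx34)).upd 3 1 1 (le_of_eq hx41)).upd 3 2 1 (le_of_eq hx43)) ![0,3,1,2] (by decide) (by decide) 1 (by decide))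
      · -- 34=(1,2)
        exact False.elim (cert_false T ((skipEmb 2).trans (Function.Embedding.refl _)) (by norm_num) (fun _ => hall _) (((((LB_zero T ((skipEmb 2).trans (Function.Embedding.refl _))).upd 1 3 3 (le_of_eq hx14)).upd 2 3 1 (le_of_eq hx34)).upd 3 1 1 (le_of_eq hx41)).upd 3 2 2 (le_of_eq hx43)) ![0,2,1,2] (by decide) (by decide) 1 (by decide))
      · -- 34=(2,1)
        exact False.elim (cert_false T ((skipEmb 2).trans (Function.Embedding.refl _)) (by norm_num) (fun _ => hall _) (((((LB_zero T ((skipEmb 2).trans (Function.Embedding.refl _))).upd 1 3 3 (le_of_eq hx14)).upd 2 3 2 (le_of_eq hx34)).upd 3 1 1 (le_of_eq hx41)).upd 3 2 1 (le_of_eq hx43)) ![0,1,1,1] (by decide) (by decide) 1 (by decide))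
      · -- 34=(1,3)
        exact False.elim (cert_false T ((skipEmb 2).trans (Function.Embedding.refl _)) (by norm_num) (fun _ => hall _) (((((LB_zero T ((skipEmb 2).trans (Function.Embedding.refl _))).upd 1 3 3 (le_of_eq hx14)).upd 2 3 1 (le_of_eq hx34)).upd 3 1 1 (le_of_eq hx41)).upd 3 2 3 (le_of_eq hx43)) ![0,1,1,2] (by decide) (by decide) 1 (by decide))
      · -- 34=(3,1)
        exact False.elim (cert_false T ((skipEmb 2).trans (Function.Embedding.refl _)) (by norm_num) (fun _ => hall _) (((((LB_zero T ((skipEmb 2).trans (Function.Embedding.refl _))).upd 1 3 3 (le_of_eq hx14)).upd 2 3 3 (le_of_eq hx34)).upd 3 1 1 (le_of_eq hx41)).upd 3 2 1 (le_of_eq hx43)) ![0,1,1,1] (by decide) (by decide) 1 (by decide))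
    · -- 24=(1,1)
      exact False.elim (cert_false T ((skipEmb 3).trans (Function.Embedding.refl _)) (by norm_num) (fun _ => hall _) (((((LB_zero T ((skipEmb 3).trans (Function.Embedding.refl _))).upd 1 3 3 (le_of_eq hx14)).upd 2 3 1 (le_of_eq hx24)).upd 3 1 1 (le_of_eq hx41)).upd 3 2 1 (le_of_eq hx42)) ![0,3,1,2] (by decide) (by decide) 1 (by decide))
    · -- 24=(1,2)
      exact False.elim (cert_false T ((skipEmb 3).trans (Function.Embedding.refl _)) (by norm_num) (fun _ => hall _) (((((LB_zero T ((skipEmb 3).trans (Function.Embedding.refl _))).upd 1 3 3 (le_of_eq hx14)).upd 2 3 1 (le_of_eq hx24)).upd 3 1 1 (le_of_eq hx41)).upd 3 2 2 (le_of_eq hx42)) ![0,2,1,2] (by decide) (by decide) 1 (by decide))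
    · -- 24=(2,1)
      exact False.elim (cert_false T ((skipEmb 3).trans (Function.Embedding.refl _)) (by norm_num) (fun _ => hall _) (((((LB_zero T ((skipEmb 3).trans (Function.Embedding.refl _))).upd 1 3 3 (le_of_eq hx14)).upd 2 3 2 (le_of_eq hx24)).upd 3 1 1 (le_of_eq hx41)).upd 3 2 1 (le_of_eq hx42)) ![0,1,1,1] (by decide) (by decide) 1 (by decide))
    · -- 24=(1,3)
      exact False.elim (cert_false T ((skipEmb 3).trans (Function.Embedding.refl _)) (by norm_num) (fun _ => hall _) (((((LB_zero T ((skipEmb 3).trans (Function.Embedding.refl _))).upd 1 3 3 (le_of_eq hx14)).upd 2 3 1 (le_of_eq hx24)).upd 3 1 1 (le_of_eq hx41)).upd 3 2 3 (le_of_eq hx42)) ![0,1,1,2] (by decide) (by decide) 1 (by decide))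
    · -- 24=(3,1)
      exact False.elim (cert_false T ((skipEmb 3).trans (Function.Embedding.refl _)) (by norm_num) (fun _ => hall _) (((((LB_zero T ((skipEmb 3).trans (Function.Embedding.refl _))).upd 1 3 3 (le_of_eq hx14)).upd 2 3 3 (le_of_eq hx24)).upd 3 1 1 (le_of_eq hx41)).upd 3 2 1 (le_of_eq hx42)) ![0,1,1,1] (by decide) (by decide) 1 (by decide))

theorem case46 (T : NumericalType 5) (hall : ∀ i, T.IsMinusTwo i) (d : SData T)
    (h01 : N T (Function.Embedding.refl _) 0 1 = 0) (h10 : N T (Function.Embedding.refl _) 1 0 = 0)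
    (h02 : N T (Function.Embedding.refl _) 0 2 = 0) (h20 : N T (Function.Embedding.refl _) 2 0 = 0)
    (h12 : N T (Function.Embedding.refl _) 1 2 = 0) (h21 : N T (Function.Embedding.refl _) 2 1 = 0)
    (h03 : N T (Function.Embedding.refl _) 0 3 = 1) (h30 : N T (Function.Embedding.refl _) 3 0 = 1)
    (h13 : N T (Function.Embedding.refl _) 1 3 = 0) (h31 : N T (Function.Embedding.refl _) 3 1 = 0)
    (h23 : N T (Function.Embedding.refl _) 2 3 = 0) (h32 : N T (Function.Embedding.refl _) 3 2 = 0)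
    (h04 : N T (Function.Embedding.refl _) 0 4 = 1) (h40 : N T (Function.Embedding.refl _) 4 0 = 1) :
    Goal T := by
  unfold Goal
  have hd := d
  obtain ⟨x01, x02, x03, x04, x10, x12, x13, x14, x20, x21, x23, x24, x30, x31, x32, x34, x40, x41, x42, x43, hx01, hx02, hx03, hx04, hx10, hx12, hx13, hx14, hx20, hx21, hx23, hx24, hx30, hx31, hx32, hx34, hx40, hx41, hx42, hx43, hw0, hm0, hw1, hm1, hw2, hm2, hw3, hm3, hw4, hm4, a00, a01, a02, a03, a04, a11, a10, a12, a13, a14, a22, a20, a21, a23, a24, a33, a30, a31, a32, a34, a44, a40, a41, a42, a43, wN01, wN02, wN12, wN03, wN13, wN23, wN04, wN14, wN24, wN34, e0, e1, e2, e3, e4, d01, d02, d12, d03, d13, d23, d04, d14, d24, d34⟩ := d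
  obtain rfl : x01 = 0 := hx01.trans h01
  obtain rfl : x10 = 0 := hx10.trans h10
  obtain rfl : x02 = 0 := hx02.trans h02
  obtain rfl : x20 = 0 := hx20.trans h20
  obtain rfl : x12 = 0 := hx12.trans h12
  obtain rfl : x21 = 0 := hx21.trans h21
  obtain rfl : x03 = 1 := hx03.trans h03
  obtain rfl : x30 = 1 := hx30.trans h30
  obtain rfl : x13 = 0 := hx13.trans h13
  obtain rfl : x31 = 0 := hx31.trans h31
  obtain rfl : x23 = 0 := hx23.trans h23
  obtain rfl : x32 = 0 := hx32.trans h32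
  obtain rfl : x04 = 1 := hx04.trans h04
  obtain rfl : x40 = 1 := hx40.trans h40
  rcases d14 with ⟨rfl, rfl⟩ | ⟨rfl, rfl⟩ | ⟨rfl, rfl⟩ | ⟨rfl, rfl⟩ | ⟨rfl, rfl⟩ | ⟨rfl, rfl⟩
  · -- 14=(0,0)
    rcases d24 with ⟨rfl, rfl⟩ | ⟨rfl, rfl⟩ | ⟨rfl, rfl⟩ | ⟨rfl, rfl⟩ | ⟨rfl, rfl⟩ | ⟨rfl, rfl⟩
    · -- 24=(0,0)
      rcases d34 with ⟨rfl, rfl⟩ | ⟨rfl, rfl⟩ | ⟨rfl, rfl⟩ | ⟨rfl, rfl⟩ | ⟨rfl, rfl⟩ | ⟨rfl, rfl⟩
      · -- 34=(0,0)
        exfalso; omega
      · -- 34=(1,1)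
        exact False.elim (cert_false T ((skipEmb 2).trans (Function.Embedding.refl _)) (by norm_num) (fun _ => hall _) (((((((LB_zero T ((skipEmb 2).trans (Function.Embedding.refl _))).upd 0 2 1 (le_of_eq hx03)).upd 0 3 1 (le_of_eq hx04)).upd 2 0 1 (le_of_eq hx30)).upd 2 3 1 (le_of_eq hx34)).upd 3 0 1 (le_of_eq hx40)).upd 3 2 1 (le_of_eq hx43)) ![1,0,1,1] (by decide) (by decide) 0 (by decide))
      · -- 34=(1,2)
        exact False.elim (cert_false T ((skipEmb 2).trans (Function.Embedding.refl _)) (by norm_num) (fun _ => hall _) (((((((LB_zero T ((skipEmb 2).trans (Function.Embedding.refl _))).upd 0 2 1 (le_of_eq hx03)).upd 0 3 1 (le_of_eq hx04)).upd 2 0 1 (le_of_eq hx30)).upd 2 3 1 (le_of_eq hx34)).upd 3 0 1 (le_of_eq hx40)).upd 3 2 2 (le_of_eq hx43)) ![1,0,1,1] (by decide) (by decide) 0 (by decide))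
      · -- 34=(2,1)
        exact False.elim (cert_false T ((skipEmb 2).trans (Function.Embedding.refl _)) (by norm_num) (fun _ => hall _) (((((((LB_zero T ((skipEmb 2).trans (Function.Embedding.refl _))).upd 0 2 1 (le_of_eq hx03)).upd 0 3 1 (le_of_eq hx04)).upd 2 0 1 (le_of_eq hx30)).upd 2 3 2 (le_of_eq hx34)).upd 3 0 1 (le_of_eq hx40)).upd 3 2 1 (le_of_eq hx43)) ![1,0,1,1] (by decide) (by decide) 0 (by decide))
      · -- 34=(1,3)
        exact False.elim (cert_false T ((skipEmb 2).trans (Function.Embedding.refl _)) (by norm_num) (fun _ => hall _) (((((((LB_zero T ((skipEmb 2).trans (Function.Embedding.refl _))).upd 0 2 1 (le_of_eq hx03)).upd 0 3 1 (le_of_eq hx04)).upd 2 0 1 (le_of_eq hx30)).upd 2 3 1 (le_of_eq hx34)).upd 3 0 1 (le_of_eq hx40)).upd 3 2 3 (le_of_eq hx43)) ![1,0,1,1] (by decide) (by decide) 0 (by decide))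
      · -- 34=(3,1)
        exact False.elim (cert_false T ((skipEmb 2).trans (Function.Embedding.refl _)) (by norm_num) (fun _ => hall _) (((((((LB_zero T ((skipEmb 2).trans (Function.Embedding.refl _))).upd 0 2 1 (le_of_eq hx03)).upd 0 3 1 (le_of_eq hx04)).upd 2 0 1 (le_of_eq hx30)).upd 2 3 3 (le_of_eq hx34)).upd 3 0 1 (le_of_eq hx40)).upd 3 2 1 (le_of_eq hx43)) ![1,0,1,1] (by decide) (by decide) 0 (by decide))
    · -- 24=(1,1)
      rcases d34 with ⟨rfl, rfl⟩ | ⟨rfl, rfl⟩ | ⟨rfl, rfl⟩ | ⟨rfl, rfl⟩ | ⟨rfl, rfl⟩ | ⟨rfl, rfl⟩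
      · -- 34=(0,0)
        exfalso; omega
      · -- 34=(1,1)
        exact False.elim (cert_false T ((skipEmb 2).trans (Function.Embedding.refl _)) (by norm_num) (fun _ => hall _) (((((((LB_zero T ((skipEmb 2).trans (Function.Embedding.refl _))).upd 0 2 1 (le_of_eq hx03)).upd 0 3 1 (le_of_eq hx04)).upd 2 0 1 (le_of_eq hx30)).upd 2 3 1 (le_of_eq hx34)).upd 3 0 1 (le_of_eq hx40)).upd 3 2 1 (le_of_eq hx43)) ![1,0,1,1] (by decide) (by decide) 0 (by decide))
      · -- 34=(1,2)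
        exact False.elim (cert_false T ((skipEmb 2).trans (Function.Embedding.refl _)) (by norm_num) (fun _ => hall _) (((((((LB_zero T ((skipEmb 2).trans (Function.Embedding.refl _))).upd 0 2 1 (le_of_eq hx03)).upd 0 3 1 (le_of_eq hx04)).upd 2 0 1 (le_of_eq hx30)).upd 2 3 1 (le_of_eq hx34)).upd 3 0 1 (le_of_eq hx40)).upd 3 2 2 (le_of_eq hx43)) ![1,0,1,1] (by decide) (by decide) 0 (by decide))
      · -- 34=(2,1)
        exact False.elim (cert_false T ((skipEmb 2).trans (Function.Embedding.refl _)) (by norm_num) (fun _ => hall _) (((((((LB_zero T ((skipEmb 2).trans (Function.Embedding.refl _))).upd 0 2 1 (le_of_eq hx03)).upd 0 3 1 (le_of_eq hx04)).upd 2 0 1 (le_of_eq hx30)).upd 2 3 2 (le_of_eq hx34)).upd 3 0 1 (le_of_eq hx40)).upd 3 2 1 (le_of_eq hx43)) ![1,0,1,1] (by decide) (by decide) 0 (by decide))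
      · -- 34=(1,3)
        exact False.elim (cert_false T ((skipEmb 2).trans (Function.Embedding.refl _)) (by norm_num) (fun _ => hall _) (((((((LB_zero T ((skipEmb 2).trans (Function.Embedding.refl _))).upd 0 2 1 (le_of_eq hx03)).upd 0 3 1 (le_of_eq hx04)).upd 2 0 1 (le_of_eq hx30)).upd 2 3 1 (le_of_eq hx34)).upd 3 0 1 (le_of_eq hx40)).upd 3 2 3 (le_of_eq hx43)) ![1,0,1,1] (by decide) (by decide) 0 (by decide))
      · -- 34=(3,1)
        exact False.elim (cert_false T ((skipEmb 2).trans (Function.Embedding.refl _)) (by norm_num) (fun _ => hall _) (((((((LB_zero T ((skipEmb 2).trans (Function.Embedding.refl _))).upd 0 2 1 (le_of_eq hx03)).upd 0 3 1 (le_of_eq hx04)).upd 2 0 1 (le_of_eq hx30)).upd 2 3 3 (le_of_eq hx34)).upd 3 0 1 (le_of_eq hx40)).upd 3 2 1 (le_of_eq hx43)) ![1,0,1,1] (by decide) (by decide) 0 (by decide))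
    · -- 24=(1,2)
      rcases d34 with ⟨rfl, rfl⟩ | ⟨rfl, rfl⟩ | ⟨rfl, rfl⟩ | ⟨rfl, rfl⟩ | ⟨rfl, rfl⟩ | ⟨rfl, rfl⟩
      · -- 34=(0,0)
        exfalso; omega
      · -- 34=(1,1)
        exact False.elim (cert_false T ((skipEmb 2).trans (Function.Embedding.refl _)) (by norm_num) (fun _ => hall _) (((((((LB_zero T ((skipEmb 2).trans (Function.Embedding.refl _))).upd 0 2 1 (le_of_eq hx03)).upd 0 3 1 (le_of_eq hx04)).upd 2 0 1 (le_of_eq hx30)).upd 2 3 1 (le_of_eq hx34)).upd 3 0 1 (le_of_eq hx40)).upd 3 2 1 (le_of_eq hx43)) ![1,0,1,1] (by decide) (by decide) 0 (by decide))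
      · -- 34=(1,2)
        exact False.elim (cert_false T ((skipEmb 2).trans (Function.Embedding.refl _)) (by norm_num) (fun _ => hall _) (((((((LB_zero T ((skipEmb 2).trans (Function.Embedding.refl _))).upd 0 2 1 (le_of_eq hx03)).upd 0 3 1 (le_of_eq hx04)).upd 2 0 1 (le_of_eq hx30)).upd 2 3 1 (le_of_eq hx34)).upd 3 0 1 (le_of_eq hx40)).upd 3 2 2 (le_of_eq hx43)) ![1,0,1,1] (by decide) (by decide) 0 (by decide))
      · -- 34=(2,1)
        exact False.elim (cert_false T ((skipEmb 2).trans (Function.Embedding.refl _)) (by norm_num) (fun _ => hall _) (((((((LB_zero T ((skipEmb 2).trans (Function.Embedding.refl _))).upd 0 2 1 (le_of_eq hx03)).upd 0 3 1 (le_of_eq hx04)).upd 2 0 1 (le_of_eq hx30)).upd 2 3 2 (le_of_eq hx34)).upd 3 0 1 (le_of_eq hx40)).upd 3 2 1 (le_of_eq hx43)) ![1,0,1,1] (by decide) (by decide) 0 (by decide))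
      · -- 34=(1,3)
        exact False.elim (cert_false T ((skipEmb 2).trans (Function.Embedding.refl _)) (by norm_num) (fun _ => hall _) (((((((LB_zero T ((skipEmb 2).trans (Function.Embedding.refl _))).upd 0 2 1 (le_of_eq hx03)).upd 0 3 1 (le_of_eq hx04)).upd 2 0 1 (le_of_eq hx30)).upd 2 3 1 (le_of_eq hx34)).upd 3 0 1 (le_of_eq hx40)).upd 3 2 3 (le_of_eq hx43)) ![1,0,1,1] (by decide) (by decide) 0 (by decide))
      · -- 34=(3,1)
        exact False.elim (cert_false T ((skipEmb 2).trans (Function.Embedding.refl _)) (by norm_num) (fun _ => hall _) (((((((LB_zero T ((skipEmb 2).trans (Function.Embedding.refl _))).upd 0 2 1 (le_of_eq hx03)).upd 0 3 1 (le_of_eq hx04)).upd 2 0 1 (le_of_eq hx30)).upd 2 3 3 (le_of_eq hx34)).upd 3 0 1 (le_of_eq hx40)).upd 3 2 1 (le_of_eq hx43)) ![1,0,1,1] (by decide) (by decide) 0 (by decide))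
    · -- 24=(2,1)
      rcases d34 with ⟨rfl, rfl⟩ | ⟨rfl, rfl⟩ | ⟨rfl, rfl⟩ | ⟨rfl, rfl⟩ | ⟨rfl, rfl⟩ | ⟨rfl, rfl⟩
      · -- 34=(0,0)
        exfalso; omega
      · -- 34=(1,1)
        exact False.elim (cert_false T ((skipEmb 2).trans (Function.Embedding.refl _)) (by norm_num) (fun _ => hall _) (((((((LB_zero T ((skipEmb 2).trans (Function.Embedding.refl _))).upd 0 2 1 (le_of_eq hx03)).upd 0 3 1 (le_of_eq hx04)).upd 2 0 1 (le_of_eq hx30)).upd 2 3 1 (le_of_eq hx34)).upd 3 0 1 (le_of_eq hx40)).upd 3 2 1 (le_of_eq hx43)) ![1,0,1,1] (by decide) (by decide) 0 (by decide))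
      · -- 34=(1,2)
        exact False.elim (cert_false T ((skipEmb 2).trans (Function.Embedding.refl _)) (by norm_num) (fun _ => hall _) (((((((LB_zero T ((skipEmb 2).trans (Function.Embedding.refl _))).upd 0 2 1 (le_of_eq hx03)).upd 0 3 1 (le_of_eq hx04)).upd 2 0 1 (le_of_eq hx30)).upd 2 3 1 (le_of_eq hx34)).upd 3 0 1 (le_of_eq hx40)).upd 3 2 2 (le_of_eq hx43)) ![1,0,1,1] (by decide) (by decide) 0 (by decide))
      · -- 34=(2,1)
        exact False.elim (cert_false T ((skipEmb 2).trans (Function.Embedding.refl _)) (by norm_num) (fun _ => hall _) (((((((LB_zero T ((skipEmb 2).trans (Function.Embedding.refl _))).upd 0 2 1 (le_of_eq hx03)).upd 0 3 1 (le_of_eq hx04)).upd 2 0 1 (le_of_eq hx30)).upd 2 3 2 (le_of_eq hx34)).upd 3 0 1 (le_of_eq hx40)).upd 3 2 1 (le_of_eq hx43)) ![1,0,1,1] (by decide) (by decide) 0 (by decide))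
      · -- 34=(1,3)
        exact False.elim (cert_false T ((skipEmb 2).trans (Function.Embedding.refl _)) (by norm_num) (fun _ => hall _) (((((((LB_zero T ((skipEmb 2).trans (Function.Embedding.refl _))).upd 0 2 1 (le_of_eq hx03)).upd 0 3 1 (le_of_eq hx04)).upd 2 0 1 (le_of_eq hx30)).upd 2 3 1 (le_of_eq hx34)).upd 3 0 1 (le_of_eq hx40)).upd 3 2 3 (le_of_eq hx43)) ![1,0,1,1] (by decide) (by decide) 0 (by decide))
      · -- 34=(3,1)
        exact False.elim (cert_false T ((skipEmb 2).trans (Function.Embedding.refl _)) (by norm_num) (fun _ => hall _) (((((((LB_zero T ((skipEmb 2).trans (Function.Embedding.refl _))).upd 0 2 1 (le_of_eq hx03)).upd 0 3 1 (le_of_eq hx04)).upd 2 0 1 (le_of_eq hx30)).upd 2 3 3 (le_of_eq hx34)).upd 3 0 1 (le_of_eq hx40)).upd 3 2 1 (le_of_eq hx43)) ![1,0,1,1] (by decide) (by decide) 0 (by decide))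
    · -- 24=(1,3)
      exact False.elim (cert_false T ((skipEmb 3).trans (Function.Embedding.refl _)) (by norm_num) (fun _ => hall _) (((((LB_zero T ((skipEmb 3).trans (Function.Embedding.refl _))).upd 0 3 1 (le_of_eq hx04)).upd 2 3 1 (le_of_eq hx24)).upd 3 0 1 (le_of_eq hx40)).upd 3 2 3 (le_of_eq hx42)) ![1,0,1,2] (by decide) (by decide) 0 (by decide))
    · -- 24=(3,1)
      exact False.elim (cert_false T ((skipEmb 3).trans (Function.Embedding.refl _)) (by norm_num) (fun _ => hall _) (((((LB_zero T ((skipEmb 3).trans (Function.Embedding.refl _))).upd 0 3 1 (le_of_eq hx04)).upd 2 3 3 (le_of_eq hx24)).upd 3 0 1 (le_of_eq hx40)).upd 3 2 1 (le_of_eq hx42)) ![1,0,3,2] (by decide) (by decide) 0 (by decide))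
  · -- 14=(1,1)
    rcases d24 with ⟨rfl, rfl⟩ | ⟨rfl, rfl⟩ | ⟨rfl, rfl⟩ | ⟨rfl, rfl⟩ | ⟨rfl, rfl⟩ | ⟨rfl, rfl⟩
    · -- 24=(0,0)
      rcases d34 with ⟨rfl, rfl⟩ | ⟨rfl, rfl⟩ | ⟨rfl, rfl⟩ | ⟨rfl, rfl⟩ | ⟨rfl, rfl⟩ | ⟨rfl, rfl⟩
      · -- 34=(0,0)
        exfalso; omega
      · -- 34=(1,1)
        exact False.elim (cert_false T ((skipEmb 2).trans (Function.Embedding.refl _)) (by norm_num) (fun _ => hall _) (((((((LB_zero T ((skipEmb 2).trans (Function.Embedding.refl _))).upd 0 2 1 (le_of_eq hx03)).upd 0 3 1 (le_of_eq hx04)).upd 2 0 1 (le_of_eq hx30)).upd 2 3 1 (le_of_eq hx34)).upd 3 0 1 (le_of_eq hx40)).upd 3 2 1 (le_of_eq hx43)) ![1,0,1,1] (by decide) (by decide) 0 (by decide))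
      · -- 34=(1,2)
        exact False.elim (cert_false T ((skipEmb 2).trans (Function.Embedding.refl _)) (by norm_num) (fun _ => hall _) (((((((LB_zero T ((skipEmb 2).trans (Function.Embedding.refl _))).upd 0 2 1 (le_of_eq hx03)).upd 0 3 1 (le_of_eq hx04)).upd 2 0 1 (le_of_eq hx30)).upd 2 3 1 (le_of_eq hx34)).upd 3 0 1 (le_of_eq hx40)).upd 3 2 2 (le_of_eq hx43)) ![1,0,1,1] (by decide) (by decide) 0 (by decide))
      · -- 34=(2,1)
        exact False.elim (cert_false T ((skipEmb 2).trans (Function.Embedding.refl _)) (by norm_num) (fun _ => hall _) (((((((LB_zero T ((skipEmb 2).trans (Function.Embedding.refl _))).upd 0 2 1 (le_of_eq hx03)).upd 0 3 1 (le_of_eq hx04)).upd 2 0 1 (le_of_eq hx30)).upd 2 3 2 (le_of_eq hx34)).upd 3 0 1 (le_of_eq hx40)).upd 3 2 1 (le_of_eq hx43)) ![1,0,1,1] (by decide) (by decide) 0 (by decide))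
      · -- 34=(1,3)
        exact False.elim (cert_false T ((skipEmb 2).trans (Function.Embedding.refl _)) (by norm_num) (fun _ => hall _) (((((((LB_zero T ((skipEmb 2).trans (Function.Embedding.refl _))).upd 0 2 1 (le_of_eq hx03)).upd 0 3 1 (le_of_eq hx04)).upd 2 0 1 (le_of_eq hx30)).upd 2 3 1 (le_of_eq hx34)).upd 3 0 1 (le_of_eq hx40)).upd 3 2 3 (le_of_eq hx43)) ![1,0,1,1] (by decide) (by decide) 0 (by decide))
      · -- 34=(3,1)
        exact False.elim (cert_false T ((skipEmb 2).trans (Function.Embedding.refl _)) (by norm_num) (fun _ => hall _) (((((((LB_zero T ((skipEmb 2).trans (Function.Embedding.refl _))).upd 0 2 1 (le_of_eq hx03)).upd 0 3 1 (le_of_eq hx04)).upd 2 0 1 (le_of_eq hx30)).upd 2 3 3 (le_of_eq hx34)).upd 3 0 1 (le_of_eq hx40)).upd 3 2 1 (le_of_eq hx43)) ![1,0,1,1] (by decide) (by decide) 0 (by decide))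
    · -- 24=(1,1)
      rcases d34 with ⟨rfl, rfl⟩ | ⟨rfl, rfl⟩ | ⟨rfl, rfl⟩ | ⟨rfl, rfl⟩ | ⟨rfl, rfl⟩ | ⟨rfl, rfl⟩
      · -- 34=(0,0)
        exfalso; omega
      · -- 34=(1,1)
        exact False.elim (cert_false T ((skipEmb 2).trans (Function.Embedding.refl _)) (by norm_num) (fun _ => hall _) (((((((LB_zero T ((skipEmb 2).trans (Function.Embedding.refl _))).upd 0 2 1 (le_of_eq hx03)).upd 0 3 1 (le_of_eq hx04)).upd 2 0 1 (le_of_eq hx30)).upd 2 3 1 (le_of_eq hx34)).upd 3 0 1 (le_of_eq hx40)).upd 3 2 1 (le_of_eq hx43)) ![1,0,1,1] (by decide) (by decide) 0 (by decide))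
      · -- 34=(1,2)
        exact False.elim (cert_false T ((skipEmb 2).trans (Function.Embedding.refl _)) (by norm_num) (fun _ => hall _) (((((((LB_zero T ((skipEmb 2).trans (Function.Embedding.refl _))).upd 0 2 1 (le_of_eq hx03)).upd 0 3 1 (le_of_eq hx04)).upd 2 0 1 (le_of_eq hx30)).upd 2 3 1 (le_of_eq hx34)).upd 3 0 1 (le_of_eq hx40)).upd 3 2 2 (le_of_eq hx43)) ![1,0,1,1] (by decide) (by decide) 0 (by decide))
      · -- 34=(2,1)
        exact False.elim (cert_false T ((skipEmb 2).trans (Function.Embedding.refl _)) (by norm_num) (fun _ => hall _) (((((((LB_zero T ((skipEmb 2).trans (Function.Embedding.refl _))).upd 0 2 1 (le_of_eq hx03)).upd 0 3 1 (le_of_eq hx04)).upd 2 0 1 (le_of_eq hx30)).upd 2 3 2 (le_of_eq hx34)).upd 3 0 1 (le_of_eq hx40)).upd 3 2 1 (le_of_eq hx43)) ![1,0,1,1] (by decide) (by decide) 0 (by decide))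
      · -- 34=(1,3)
        exact False.elim (cert_false T ((skipEmb 2).trans (Function.Embedding.refl _)) (by norm_num) (fun _ => hall _) (((((((LB_zero T ((skipEmb 2).trans (Function.Embedding.refl _))).upd 0 2 1 (le_of_eq hx03)).upd 0 3 1 (le_of_eq hx04)).upd 2 0 1 (le_of_eq hx30)).upd 2 3 1 (le_of_eq hx34)).upd 3 0 1 (le_of_eq hx40)).upd 3 2 3 (le_of_eq hx43)) ![1,0,1,1] (by decide) (by decide) 0 (by decide))
      · -- 34=(3,1)
        exact False.elim (cert_false T ((skipEmb 2).trans (Function.Embedding.refl _)) (by norm_num) (fun _ => hall _) (((((((LB_zero T ((skipEmb 2).trans (Function.Embedding.refl _))).upd 0 2 1 (le_of_eq hx03)).upd 0 3 1 (le_of_eq hx04)).upd 2 0 1 (le_of_eq hx30)).upd 2 3 3 (le_of_eq hx34)).upd 3 0 1 (le_of_eq hx40)).upd 3 2 1 (le_of_eq hx43)) ![1,0,1,1] (by decide) (by decide) 0 (by decide))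
    · -- 24=(1,2)
      exact False.elim (cert_false T ((skipEmb 3).trans (Function.Embedding.refl _)) (by norm_num) (fun _ => hall _) (((((((LB_zero T ((skipEmb 3).trans (Function.Embedding.refl _))).upd 0 3 1 (le_of_eq hx04)).upd 1 3 1 (le_of_eq hx14)).upd 2 3 1 (le_of_eq hx24)).upd 3 0 1 (le_of_eq hx40)).upd 3 1 1 (le_of_eq hx41)).upd 3 2 2 (le_of_eq hx42)) ![1,1,1,2] (by decide) (by decide) 0 (by decide))
    · -- 24=(2,1)
      exact False.elim (cert_false T ((skipEmb 3).trans (Function.Embedding.refl _)) (by norm_num) (fun _ => hall _) (((((((LB_zero T ((skipEmb 3).trans (Function.Embedding.refl _))).upd 0 3 1 (le_of_eq hx04)).upd 1 3 1 (le_of_eq hx14)).upd 2 3 2 (le_of_eq hx24)).upd 3 0 1 (le_of_eq hx40)).upd 3 1 1 (le_of_eq hx41)).upd 3 2 1 (le_of_eq hx42)) ![1,1,2,2] (by decide) (by decide) 0 (by decide))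
    · -- 24=(1,3)
      exact False.elim (cert_false T ((skipEmb 3).trans (Function.Embedding.refl _)) (by norm_num) (fun _ => hall _) (((((LB_zero T ((skipEmb 3).trans (Function.Embedding.refl _))).upd 1 3 1 (le_of_eq hx14)).upd 2 3 1 (le_of_eq hx24)).upd 3 1 1 (le_of_eq hx41)).upd 3 2 3 (le_of_eq hx42)) ![0,1,1,2] (by decide) (by decide) 1 (by decide))
    · -- 24=(3,1)
      exact False.elim (cert_false T ((skipEmb 3).trans (Function.Embedding.refl _)) (by norm_num) (fun _ => hall _) (((((((LB_zero T ((skipEmb 3).trans (Function.Embedding.refl _))).upd 0 3 1 (le_of_eq hx04)).upd 1 3 1 (le_of_eq hx14)).upd 2 3 3 (le_of_eq hx24)).upd 3 0 1 (le_of_eq hx40)).upd 3 1 1 (le_of_eq hx41)).upd 3 2 1 (le_of_eq hx42)) ![1,1,2,2] (by decide) (by decide) 0 (by decide))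
  · -- 14=(1,2)
    rcases d24 with ⟨rfl, rfl⟩ | ⟨rfl, rfl⟩ | ⟨rfl, rfl⟩ | ⟨rfl, rfl⟩ | ⟨rfl, rfl⟩ | ⟨rfl, rfl⟩
    · -- 24=(0,0)
      rcases d34 with ⟨rfl, rfl⟩ | ⟨rfl, rfl⟩ | ⟨rfl, rfl⟩ | ⟨rfl, rfl⟩ | ⟨rfl, rfl⟩ | ⟨rfl, rfl⟩
      · -- 34=(0,0)
        exfalso; omega
      · -- 34=(1,1)
        exact False.elim (cert_false T ((skipEmb 2).trans (Function.Embedding.refl _)) (by norm_num) (fun _ => hall _) (((((((LB_zero T ((skipEmb 2).trans (Function.Embedding.refl _))).upd 0 2 1 (le_of_eq hx03)).upd 0 3 1 (le_of_eq hx04)).upd 2 0 1 (le_of_eq hx30)).upd 2 3 1 (le_of_eq hx34)).upd 3 0 1 (le_of_eq hx40)).upd 3 2 1 (le_of_eq hx43)) ![1,0,1,1] (by decide) (by decide) 0 (by decide))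
      · -- 34=(1,2)
        exact False.elim (cert_false T ((skipEmb 2).trans (Function.Embedding.refl _)) (by norm_num) (fun _ => hall _) (((((((LB_zero T ((skipEmb 2).trans (Function.Embedding.refl _))).upd 0 2 1 (le_of_eq hx03)).upd 0 3 1 (le_of_eq hx04)).upd 2 0 1 (le_of_eq hx30)).upd 2 3 1 (le_of_eq hx34)).upd 3 0 1 (le_of_eq hx40)).upd 3 2 2 (le_of_eq hx43)) ![1,0,1,1] (by decide) (by decide) 0 (by decide))
      · -- 34=(2,1)
        exact False.elim (cert_false T ((skipEmb 2).trans (Function.Embedding.refl _)) (by norm_num) (fun _ => hall _) (((((((LB_zero T ((skipEmb 2).trans (Function.Embedding.refl _))).upd 0 2 1 (le_of_eq hx03)).upd 0 3 1 (le_of_eq hx04)).upd 2 0 1 (le_of_eq hx30)).upd 2 3 2 (le_of_eq hx34)).upd 3 0 1 (le_of_eq hx40)).upd 3 2 1 (le_of_eq hx43)) ![1,0,1,1] (by decide) (by decide) 0 (by decide))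
      · -- 34=(1,3)
        exact False.elim (cert_false T ((skipEmb 2).trans (Function.Embedding.refl _)) (by norm_num) (fun _ => hall _) (((((((LB_zero T ((skipEmb 2).trans (Function.Embedding.refl _))).upd 0 2 1 (le_of_eq hx03)).upd 0 3 1 (le_of_eq hx04)).upd 2 0 1 (le_of_eq hx30)).upd 2 3 1 (le_of_eq hx34)).upd 3 0 1 (le_of_eq hx40)).upd 3 2 3 (le_of_eq hx43)) ![1,0,1,1] (by decide) (by decide) 0 (by decide))
      · -- 34=(3,1)
        exact False.elim (cert_false T ((skipEmb 2).trans (Function.Embedding.refl _)) (by norm_num) (fun _ => hall _) (((((((LB_zero T ((skipEmb 2).trans (Function.Embedding.refl _))).upd 0 2 1 (le_of_eq hx03)).upd 0 3 1 (le_of_eq hx04)).upd 2 0 1 (le_of_eq hx30)).upd 2 3 3 (le_of_eq hx34)).upd 3 0 1 (le_of_eq hx40)).upd 3 2 1 (le_of_eq hx43)) ![1,0,1,1] (by decide) (by decide) 0 (by decide))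
    · -- 24=(1,1)
      exact False.elim (cert_false T ((skipEmb 3).trans (Function.Embedding.refl _)) (by norm_num) (fun _ => hall _) (((((((LB_zero T ((skipEmb 3).trans (Function.Embedding.refl _))).upd 0 3 1 (le_of_eq hx04)).upd 1 3 1 (le_of_eq hx14)).upd 2 3 1 (le_of_eq hx24)).upd 3 0 1 (le_of_eq hx40)).upd 3 1 2 (le_of_eq hx41)).upd 3 2 1 (le_of_eq hx42)) ![1,1,1,2] (by decide) (by decide) 0 (by decide))
    · -- 24=(1,2)
      exact False.elim (cert_false T ((skipEmb 3).trans (Function.Embedding.refl _)) (by norm_num) (fun _ => hall _) (((((LB_zero T ((skipEmb 3).trans (Function.Embedding.refl _))).upd 1 3 1 (le_of_eq hx14)).upd 2 3 1 (le_of_eq hx24)).upd 3 1 2 (le_of_eq hx41)).upd 3 2 2 (le_of_eq hx42)) ![0,1,1,2] (by decide) (by decide) 1 (by decide))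
    · -- 24=(2,1)
      exact False.elim (cert_false T ((skipEmb 3).trans (Function.Embedding.refl _)) (by norm_num) (fun _ => hall _) (((((LB_zero T ((skipEmb 3).trans (Function.Embedding.refl _))).upd 1 3 1 (le_of_eq hx14)).upd 2 3 2 (le_of_eq hx24)).upd 3 1 2 (le_of_eq hx41)).upd 3 2 1 (le_of_eq hx42)) ![0,1,2,2] (by decide) (by decide) 1 (by decide))
    · -- 24=(1,3)
      exact False.elim (cert_false T ((skipEmb 3).trans (Function.Embedding.refl _)) (by norm_num) (fun _ => hall _) (((((LB_zero T ((skipEmb 3).trans (Function.Embedding.refl _))).upd 1 3 1 (le_of_eq hx14)).upd 2 3 1 (le_of_eq hx24)).upd 3 1 2 (le_of_eq hx41)).upd 3 2 3 (le_of_eq hx42)) ![0,1,1,2] (by decide) (by decide) 1 (by decide))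
    · -- 24=(3,1)
      exact False.elim (cert_false T ((skipEmb 3).trans (Function.Embedding.refl _)) (by norm_num) (fun _ => hall _) (((((LB_zero T ((skipEmb 3).trans (Function.Embedding.refl _))).upd 1 3 1 (le_of_eq hx14)).upd 2 3 3 (le_of_eq hx24)).upd 3 1 2 (le_of_eq hx41)).upd 3 2 1 (le_of_eq hx42)) ![0,1,2,2] (by decide) (by decide) 1 (by decide))
  · -- 14=(2,1)
    rcases d24 with ⟨rfl, rfl⟩ | ⟨rfl, rfl⟩ | ⟨rfl, rfl⟩ | ⟨rfl, rfl⟩ | ⟨rfl, rfl⟩ | ⟨rfl, rfl⟩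
    · -- 24=(0,0)
      rcases d34 with ⟨rfl, rfl⟩ | ⟨rfl, rfl⟩ | ⟨rfl, rfl⟩ | ⟨rfl, rfl⟩ | ⟨rfl, rfl⟩ | ⟨rfl, rfl⟩
      · -- 34=(0,0)
        exfalso; omega
      · -- 34=(1,1)
        exact False.elim (cert_false T ((skipEmb 2).trans (Function.Embedding.refl _)) (by norm_num) (fun _ => hall _) (((((((LB_zero T ((skipEmb 2).trans (Function.Embedding.refl _))).upd 0 2 1 (le_of_eq hx03)).upd 0 3 1 (le_of_eq hx04)).upd 2 0 1 (le_of_eq hx30)).upd 2 3 1 (le_of_eq hx34)).upd 3 0 1 (le_of_eq hx40)).upd 3 2 1 (le_of_eq hx43)) ![1,0,1,1] (by decide) (by decide) 0 (by decide))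
      · -- 34=(1,2)
        exact False.elim (cert_false T ((skipEmb 2).trans (Function.Embedding.refl _)) (by norm_num) (fun _ => hall _) (((((((LB_zero T ((skipEmb 2).trans (Function.Embedding.refl _))).upd 0 2 1 (le_of_eq hx03)).upd 0 3 1 (le_of_eq hx04)).upd 2 0 1 (le_of_eq hx30)).upd 2 3 1 (le_of_eq hx34)).upd 3 0 1 (le_of_eq hx40)).upd 3 2 2 (le_of_eq hx43)) ![1,0,1,1] (by decide) (by decide) 0 (by decide))
      · -- 34=(2,1)
        exact False.elim (cert_false T ((skipEmb 2).trans (Function.Embedding.refl _)) (by norm_num) (fun _ => hall _) (((((LB_zero T ((skipEmb 2).trans (Function.Embedding.refl _))).upd 1 3 2 (le_of_eq hx14)).upd 2 3 2 (le_of_eq hx34)).upd 3 1 1 (le_of_eq hx41)).upd 3 2 1 (le_of_eq hx43)) ![0,1,1,1] (by decide) (by decide) 1 (by decide))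
      · -- 34=(1,3)
        exact False.elim (cert_false T ((skipEmb 2).trans (Function.Embedding.refl _)) (by norm_num) (fun _ => hall _) (((((((LB_zero T ((skipEmb 2).trans (Function.Embedding.refl _))).upd 0 2 1 (le_of_eq hx03)).upd 0 3 1 (le_of_eq hx04)).upd 2 0 1 (le_of_eq hx30)).upd 2 3 1 (le_of_eq hx34)).upd 3 0 1 (le_of_eq hx40)).upd 3 2 3 (le_of_eq hx43)) ![1,0,1,1] (by decide) (by decide) 0 (by decide))
      · -- 34=(3,1)
        exact False.elim (cert_false T ((skipEmb 2).trans (Function.Embedding.refl _)) (by norm_num) (fun _ => hall _) (((((LB_zero T ((skipEmb 2).trans (Function.Embedding.refl _))).upd 1 3 2 (le_of_eq hx14)).upd 2 3 3 (le_of_eq hx34)).upd 3 1 1 (le_of_eq hx41)).upd 3 2 1 (le_of_eq hx43)) ![0,1,1,1] (by decide) (by decide) 1 (by decide))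
    · -- 24=(1,1)
      exact False.elim (cert_false T ((skipEmb 3).trans (Function.Embedding.refl _)) (by norm_num) (fun _ => hall _) (((((((LB_zero T ((skipEmb 3).trans (Function.Embedding.refl _))).upd 0 3 1 (le_of_eq hx04)).upd 1 3 2 (le_of_eq hx14)).upd 2 3 1 (le_of_eq hx24)).upd 3 0 1 (le_of_eq hx40)).upd 3 1 1 (le_of_eq hx41)).upd 3 2 1 (le_of_eq hx42)) ![1,2,1,2] (by decide) (by decide) 0 (by decide))
    · -- 24=(1,2)
      exact False.elim (cert_false T ((skipEmb 3).trans (Function.Embedding.refl _)) (by norm_num) (fun _ => hall _) (((((LB_zero T ((skipEmb 3).trans (Function.Embedding.refl _))).upd 1 3 2 (le_of_eq hx14)).upd 2 3 1 (le_of_eq hx24)).upd 3 1 1 (le_of_eq hx41)).upd 3 2 2 (le_of_eq hx42)) ![0,2,1,2] (by decide) (by decide) 1 (by decide))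
    · -- 24=(2,1)
      exact False.elim (cert_false T ((skipEmb 3).trans (Function.Embedding.refl _)) (by norm_num) (fun _ => hall _) (((((LB_zero T ((skipEmb 3).trans (Function.Embedding.refl _))).upd 1 3 2 (le_of_eq hx14)).upd 2 3 2 (le_of_eq hx24)).upd 3 1 1 (le_of_eq hx41)).upd 3 2 1 (le_of_eq hx42)) ![0,1,1,1] (by decide) (by decide) 1 (by decide))
    · -- 24=(1,3)
      exact False.elim (cert_false T ((skipEmb 3).trans (Function.Embedding.refl _)) (by norm_num) (fun _ => hall _) (((((LB_zero T ((skipEmb 3).trans (Function.Embedding.refl _))).upd 1 3 2 (le_of_eq hx14)).upd 2 3 1 (le_of_eq hx24)).upd 3 1 1 (le_of_eq hx41)).upd 3 2 3 (le_of_eq hx42)) ![0,1,1,2] (by decide) (by decide) 1 (by decide))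
    · -- 24=(3,1)
      exact False.elim (cert_false T ((skipEmb 3).trans (Function.Embedding.refl _)) (by norm_num) (fun _ => hall _) (((((LB_zero T ((skipEmb 3).trans (Function.Embedding.refl _))).upd 1 3 2 (le_of_eq hx14)).upd 2 3 3 (le_of_eq hx24)).upd 3 1 1 (le_of_eq hx41)).upd 3 2 1 (le_of_eq hx42)) ![0,1,1,1] (by decide) (by decide) 1 (by decide))
  · -- 14=(1,3)
    exact False.elim (cert_false T ((skipEmb 3).trans (Function.Embedding.refl _)) (by norm_num) (fun _ => hall _) (((((LB_zero T ((skipEmb 3).trans (Function.Embedding.refl _))).upd 0 3 1 (le_of_eq hx04)).upd 1 3 1 (le_of_eq hx14)).upd 3 0 1 (le_of_eq hx40)).upd 3 1 3 (le_of_eq hx41)) ![1,1,0,2] (by decide) (by decide) 0 (by decide))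
  · -- 14=(3,1)
    exact False.elim (cert_false T ((skipEmb 3).trans (Function.Embedding.refl _)) (by norm_num) (fun _ => hall _) (((((LB_zero T ((skipEmb 3).trans (Function.Embedding.refl _))).upd 0 3 1 (le_of_eq hx04)).upd 1 3 3 (le_of_eq hx14)).upd 3 0 1 (le_of_eq hx40)).upd 3 1 1 (le_of_eq hx41)) ![1,3,0,2] (by decide) (by decide) 0 (by decide))

theorem case44 (T : NumericalType 5) (hall : ∀ i, T.IsMinusTwo i) (d : SData T)
    (h01 : N T (Function.Embedding.refl _) 0 1 = 0) (h10 : N T (Function.Embedding.refl _) 1 0 = 0)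
    (h02 : N T (Function.Embedding.refl _) 0 2 = 0) (h20 : N T (Function.Embedding.refl _) 2 0 = 0)
    (h12 : N T (Function.Embedding.refl _) 1 2 = 0) (h21 : N T (Function.Embedding.refl _) 2 1 = 0)
    (h03 : N T (Function.Embedding.refl _) 0 3 = 1) (h30 : N T (Function.Embedding.refl _) 3 0 = 1)
    (h13 : N T (Function.Embedding.refl _) 1 3 = 0) (h31 : N T (Function.Embedding.refl _) 3 1 = 0)
    (h23 : N T (Function.Embedding.refl _) 2 3 = 0) (h32 : N T (Function.Embedding.refl _) 3 2 = 0) :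
    Goal T := by
  unfold Goal
  have hd := d
  obtain ⟨x01, x02, x03, x04, x10, x12, x13, x14, x20, x21, x23, x24, x30, x31, x32, x34, x40, x41, x42, x43, hx01, hx02, hx03, hx04, hx10, hx12, hx13, hx14, hx20, hx21, hx23, hx24, hx30, hx31, hx32, hx34, hx40, hx41, hx42, hx43, hw0, hm0, hw1, hm1, hw2, hm2, hw3, hm3, hw4, hm4, a00, a01, a02, a03, a04, a11, a10, a12, a13, a14, a22, a20, a21, a23, a24, a33, a30, a31, a32, a34, a44, a40, a41, a42, a43, wN01, wN02, wN12, wN03, wN13, wN23, wN04, wN14, wN24, wN34, e0, e1, e2, e3, e4, d01, d02, d12, d03, d13, d23, d04, d14, d24, d34⟩ := d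
  obtain rfl : x01 = 0 := hx01.trans h01
  obtain rfl : x10 = 0 := hx10.trans h10
  obtain rfl : x02 = 0 := hx02.trans h02
  obtain rfl : x20 = 0 := hx20.trans h20
  obtain rfl : x12 = 0 := hx12.trans h12
  obtain rfl : x21 = 0 := hx21.trans h21
  obtain rfl : x03 = 1 := hx03.trans h03
  obtain rfl : x30 = 1 := hx30.trans h30
  obtain rfl : x13 = 0 := hx13.trans h13
  obtain rfl : x31 = 0 := hx31.trans h31
  obtain rfl : x23 = 0 := hx23.trans h23
  obtain rfl : x32 = 0 := hx32.trans h32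
  rcases d04 with ⟨rfl, rfl⟩ | ⟨rfl, rfl⟩ | ⟨rfl, rfl⟩ | ⟨rfl, rfl⟩ | ⟨rfl, rfl⟩ | ⟨rfl, rfl⟩
  · -- 04=(0,0)
    exact case45 T hall hd hx01.symm hx10.symm hx02.symm hx20.symm hx12.symm hx21.symm hx03.symm hx30.symm hx13.symm hx31.symm hx23.symm hx32.symm hx04.symm hx40.symm
  · -- 04=(1,1)
    exact case46 T hall hd hx01.symm hx10.symm hx02.symm hx20.symm hx12.symm hx21.symm hx03.symm hx30.symm hx13.symm hx31.symm hx23.symm hx32.symm hx04.symm hx40.symm
  · -- 04=(1,2)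
    rcases d14 with ⟨rfl, rfl⟩ | ⟨rfl, rfl⟩ | ⟨rfl, rfl⟩ | ⟨rfl, rfl⟩ | ⟨rfl, rfl⟩ | ⟨rfl, rfl⟩
    · -- 14=(0,0)
      rcases d24 with ⟨rfl, rfl⟩ | ⟨rfl, rfl⟩ | ⟨rfl, rfl⟩ | ⟨rfl, rfl⟩ | ⟨rfl, rfl⟩ | ⟨rfl, rfl⟩
      · -- 24=(0,0)
        rcases d34 with ⟨rfl, rfl⟩ | ⟨rfl, rfl⟩ | ⟨rfl, rfl⟩ | ⟨rfl, rfl⟩ | ⟨rfl, rfl⟩ | ⟨rfl, rfl⟩
        · -- 34=(0,0)
          exfalso; omega
        · -- 34=(1,1)
          exact False.elim (cert_false T ((skipEmb 2).trans (Function.Embedding.refl _)) (by norm_num) (fun _ => hall _) (((((((LB_zero T ((skipEmb 2).trans (Function.Embedding.refl _))).upd 0 2 1 (le_of_eq hx03)).upd 0 3 1 (le_of_eq hx04)).upd 2 0 1 (le_of_eq hx30)).upd 2 3 1 (le_of_eq hx34)).upd 3 0 2 (le_of_eq hx40)).upd 3 2 1 (le_of_eq hx43)) ![1,0,1,1] (by decide) (by decide) 0 (by decide))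
        · -- 34=(1,2)
          exact False.elim (cert_false T ((skipEmb 2).trans (Function.Embedding.refl _)) (by norm_num) (fun _ => hall _) (((((((LB_zero T ((skipEmb 2).trans (Function.Embedding.refl _))).upd 0 2 1 (le_of_eq hx03)).upd 0 3 1 (le_of_eq hx04)).upd 2 0 1 (le_of_eq hx30)).upd 2 3 1 (le_of_eq hx34)).upd 3 0 2 (le_of_eq hx40)).upd 3 2 2 (le_of_eq hx43)) ![1,0,1,1] (by decide) (by decide) 0 (by decide))
        · -- 34=(2,1)
          exact False.elim (cert_false T ((skipEmb 2).trans (Function.Embedding.refl _)) (by norm_num) (fun _ => hall _) (((((((LB_zero T ((skipEmb 2).trans (Function.Embedding.refl _))).upd 0 2 1 (le_of_eq hx03)).upd 0 3 1 (le_of_eq hx04)).upd 2 0 1 (le_of_eq hx30)).upd 2 3 2 (le_of_eq hx34)).upd 3 0 2 (le_of_eq hx40)).upd 3 2 1 (le_of_eq hx43)) ![1,0,1,1] (by decide) (by decide) 0 (by decide))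
        · -- 34=(1,3)
          exact False.elim (cert_false T ((skipEmb 2).trans (Function.Embedding.refl _)) (by norm_num) (fun _ => hall _) (((((((LB_zero T ((skipEmb 2).trans (Function.Embedding.refl _))).upd 0 2 1 (le_of_eq hx03)).upd 0 3 1 (le_of_eq hx04)).upd 2 0 1 (le_of_eq hx30)).upd 2 3 1 (le_of_eq hx34)).upd 3 0 2 (le_of_eq hx40)).upd 3 2 3 (le_of_eq hx43)) ![1,0,1,1] (by decide) (by decide) 0 (by decide))
        · -- 34=(3,1)
          exact False.elim (cert_false T ((skipEmb 2).trans (Function.Embedding.refl _)) (by norm_num) (fun _ => hall _) (((((((LB_zero T ((skipEmb 2).trans (Function.Embedding.refl _))).upd 0 2 1 (le_of_eq hx03)).upd 0 3 1 (le_of_eq hx04)).upd 2 0 1 (le_of_eq hx30)).upd 2 3 3 (le_of_eq hx34)).upd 3 0 2 (le_of_eq hx40)).upd 3 2 1 (le_of_eq hx43)) ![1,0,1,1] (by decide) (by decide) 0 (by decide))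
      · -- 24=(1,1)
        rcases d34 with ⟨rfl, rfl⟩ | ⟨rfl, rfl⟩ | ⟨rfl, rfl⟩ | ⟨rfl, rfl⟩ | ⟨rfl, rfl⟩ | ⟨rfl, rfl⟩
        · -- 34=(0,0)
          exfalso; omega
        · -- 34=(1,1)
          exact False.elim (cert_false T ((skipEmb 2).trans (Function.Embedding.refl _)) (by norm_num) (fun _ => hall _) (((((((LB_zero T ((skipEmb 2).trans (Function.Embedding.refl _))).upd 0 2 1 (le_of_eq hx03)).upd 0 3 1 (le_of_eq hx04)).upd 2 0 1 (le_of_eq hx30)).upd 2 3 1 (le_of_eq hx34)).upd 3 0 2 (le_of_eq hx40)).upd 3 2 1 (le_of_eq hx43)) ![1,0,1,1] (by decide) (by decide) 0 (by decide))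
        · -- 34=(1,2)
          exact False.elim (cert_false T ((skipEmb 2).trans (Function.Embedding.refl _)) (by norm_num) (fun _ => hall _) (((((((LB_zero T ((skipEmb 2).trans (Function.Embedding.refl _))).upd 0 2 1 (le_of_eq hx03)).upd 0 3 1 (le_of_eq hx04)).upd 2 0 1 (le_of_eq hx30)).upd 2 3 1 (le_of_eq hx34)).upd 3 0 2 (le_of_eq hx40)).upd 3 2 2 (le_of_eq hx43)) ![1,0,1,1] (by decide) (by decide) 0 (by decide))
        · -- 34=(2,1)
          exact False.elim (cert_false T ((skipEmb 2).trans (Function.Embedding.refl _)) (by norm_num) (fun _ => hall _) (((((((LB_zero T ((skipEmb 2).trans (Function.Embedding.refl _))).upd 0 2 1 (le_of_eq hx03)).upd 0 3 1 (le_of_eq hx04)).upd 2 0 1 (le_of_eq hx30)).upd 2 3 2 (le_of_eq hx34)).upd 3 0 2 (le_of_eq hx40)).upd 3 2 1 (le_of_eq hx43)) ![1,0,1,1] (by decide) (by decide) 0 (by decide))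
        · -- 34=(1,3)
          exact False.elim (cert_false T ((skipEmb 2).trans (Function.Embedding.refl _)) (by norm_num) (fun _ => hall _) (((((((LB_zero T ((skipEmb 2).trans (Function.Embedding.refl _))).upd 0 2 1 (le_of_eq hx03)).upd 0 3 1 (le_of_eq hx04)).upd 2 0 1 (le_of_eq hx30)).upd 2 3 1 (le_of_eq hx34)).upd 3 0 2 (le_of_eq hx40)).upd 3 2 3 (le_of_eq hx43)) ![1,0,1,1] (by decide) (by decide) 0 (by decide))
        · -- 34=(3,1)
          exact False.elim (cert_false T ((skipEmb 2).trans (Function.Embedding.refl _)) (by norm_num) (fun _ => hall _) (((((((LB_zero T ((skipEmb 2).trans (Function.Embedding.refl _))).upd 0 2 1 (le_of_eq hx03)).upd 0 3 1 (le_of_eq hx04)).upd 2 0 1 (le_of_eq hx30)).upd 2 3 3 (le_of_eq hx34)).upd 3 0 2 (le_of_eq hx40)).upd 3 2 1 (le_of_eq hx43)) ![1,0,1,1] (by decide) (by decide) 0 (by decide))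
      · -- 24=(1,2)
        exact False.elim (cert_false T ((skipEmb 3).trans (Function.Embedding.refl _)) (by norm_num) (fun _ => hall _) (((((LB_zero T ((skipEmb 3).trans (Function.Embedding.refl _))).upd 0 3 1 (le_of_eq hx04)).upd 2 3 1 (le_of_eq hx24)).upd 3 0 2 (le_of_eq hx40)).upd 3 2 2 (le_of_eq hx42)) ![1,0,1,2] (by decide) (by decide) 0 (by decide))
      · -- 24=(2,1)
        exact False.elim (cert_false T ((skipEmb 3).trans (Function.Embedding.refl _)) (by norm_num) (fun _ => hall _) (((((LB_zero T ((skipEmb 3).trans (Function.Embedding.refl _))).upd 0 3 1 (le_of_eq hx04)).upd 2 3 2 (le_of_eq hx24)).upd 3 0 2 (le_of_eq hx40)).upd 3 2 1 (le_of_eq hx42)) ![1,0,2,2] (by decide) (by decide) 0 (by decide))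
      · -- 24=(1,3)
        exact False.elim (cert_false T ((skipEmb 3).trans (Function.Embedding.refl _)) (by norm_num) (fun _ => hall _) (((((LB_zero T ((skipEmb 3).trans (Function.Embedding.refl _))).upd 0 3 1 (le_of_eq hx04)).upd 2 3 1 (le_of_eq hx24)).upd 3 0 2 (le_of_eq hx40)).upd 3 2 3 (le_of_eq hx42)) ![1,0,1,2] (by decide) (by decide) 0 (by decide))
      · -- 24=(3,1)
        exact False.elim (cert_false T ((skipEmb 3).trans (Function.Embedding.refl _)) (by norm_num) (fun _ => hall _) (((((LB_zero T ((skipEmb 3).trans (Function.Embedding.refl _))).upd 0 3 1 (le_of_eq hx04)).upd 2 3 3 (le_of_eq hx24)).upd 3 0 2 (le_of_eq hx40)).upd 3 2 1 (le_of_eq hx42)) ![1,0,2,2] (by decide) (by decide) 0 (by decide))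
    · -- 14=(1,1)
      rcases d24 with ⟨rfl, rfl⟩ | ⟨rfl, rfl⟩ | ⟨rfl, rfl⟩ | ⟨rfl, rfl⟩ | ⟨rfl, rfl⟩ | ⟨rfl, rfl⟩
      · -- 24=(0,0)
        rcases d34 with ⟨rfl, rfl⟩ | ⟨rfl, rfl⟩ | ⟨rfl, rfl⟩ | ⟨rfl, rfl⟩ | ⟨rfl, rfl⟩ | ⟨rfl, rfl⟩
        · -- 34=(0,0)
          exfalso; omega
        · -- 34=(1,1)
          exact False.elim (cert_false T ((skipEmb 2).trans (Function.Embedding.refl _)) (by norm_num) (fun _ => hall _) (((((((LB_zero T ((skipEmb 2).trans (Function.Embedding.refl _))).upd 0 2 1 (le_of_eq hx03)).upd 0 3 1 (le_of_eq hx04)).upd 2 0 1 (le_of_eq hx30)).upd 2 3 1 (le_of_eq hx34)).upd 3 0 2 (le_of_eq hx40)).upd 3 2 1 (le_of_eq hx43)) ![1,0,1,1] (by decide) (by decide) 0 (by decide))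
        · -- 34=(1,2)
          exact False.elim (cert_false T ((skipEmb 2).trans (Function.Embedding.refl _)) (by norm_num) (fun _ => hall _) (((((((LB_zero T ((skipEmb 2).trans (Function.Embedding.refl _))).upd 0 2 1 (le_of_eq hx03)).upd 0 3 1 (le_of_eq hx04)).upd 2 0 1 (le_of_eq hx30)).upd 2 3 1 (le_of_eq hx34)).upd 3 0 2 (le_of_eq hx40)).upd 3 2 2 (le_of_eq hx43)) ![1,0,1,1] (by decide) (by decide) 0 (by decide))
        · -- 34=(2,1)
          exact False.elim (cert_false T ((skipEmb 2).trans (Function.Embedding.refl _)) (by norm_num) (fun _ => hall _) (((((((LB_zero T ((skipEmb 2).trans (Function.Embedding.refl _))).upd 0 2 1 (le_of_eq hx03)).upd 0 3 1 (le_of_eq hx04)).upd 2 0 1 (le_of_eq hx30)).upd 2 3 2 (le_of_eq hx34)).upd 3 0 2 (le_of_eq hx40)).upd 3 2 1 (le_of_eq hx43)) ![1,0,1,1] (by decide) (by decide) 0 (by decide))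
        · -- 34=(1,3)
          exact False.elim (cert_false T ((skipEmb 2).trans (Function.Embedding.refl _)) (by norm_num) (fun _ => hall _) (((((((LB_zero T ((skipEmb 2).trans (Function.Embedding.refl _))).upd 0 2 1 (le_of_eq hx03)).upd 0 3 1 (le_of_eq hx04)).upd 2 0 1 (le_of_eq hx30)).upd 2 3 1 (le_of_eq hx34)).upd 3 0 2 (le_of_eq hx40)).upd 3 2 3 (le_of_eq hx43)) ![1,0,1,1] (by decide) (by decide) 0 (by decide))
        · -- 34=(3,1)
          exact False.elim (cert_false T ((skipEmb 2).trans (Function.Embedding.refl _)) (by norm_num) (fun _ => hall _) (((((((LB_zero T ((skipEmb 2).trans (Function.Embedding.refl _))).upd 0 2 1 (le_of_eq hx03)).upd 0 3 1 (le_of_eq hx04)).upd 2 0 1 (le_of_eq hx30)).upd 2 3 3 (le_of_eq hx34)).upd 3 0 2 (le_of_eq hx40)).upd 3 2 1 (le_of_eq hx43)) ![1,0,1,1] (by decide) (by decide) 0 (by decide))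
      · -- 24=(1,1)
        exact False.elim (cert_false T ((skipEmb 3).trans (Function.Embedding.refl _)) (by norm_num) (fun _ => hall _) (((((((LB_zero T ((skipEmb 3).trans (Function.Embedding.refl _))).upd 0 3 1 (le_of_eq hx04)).upd 1 3 1 (le_of_eq hx14)).upd 2 3 1 (le_of_eq hx24)).upd 3 0 2 (le_of_eq hx40)).upd 3 1 1 (le_of_eq hx41)).upd 3 2 1 (le_of_eq hx42)) ![1,1,1,2] (by decide) (by decide) 0 (by decide))
      · -- 24=(1,2)
        exact False.elim (cert_false T ((skipEmb 3).trans (Function.Embedding.refl _)) (by norm_num) (fun _ => hall _) (((((LB_zero T ((skipEmb 3).trans (Function.Embedding.refl _))).upd 0 3 1 (le_of_eq hx04)).upd 2 3 1 (le_of_eq hx24)).upd 3 0 2 (le_of_eq hx40)).upd 3 2 2 (le_of_eq hx42)) ![1,0,1,2] (by decide) (by decide) 0 (by decide))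
      · -- 24=(2,1)
        exact False.elim (cert_false T ((skipEmb 3).trans (Function.Embedding.refl _)) (by norm_num) (fun _ => hall _) (((((LB_zero T ((skipEmb 3).trans (Function.Embedding.refl _))).upd 0 3 1 (le_of_eq hx04)).upd 2 3 2 (le_of_eq hx24)).upd 3 0 2 (le_of_eq hx40)).upd 3 2 1 (le_of_eq hx42)) ![1,0,2,2] (by decide) (by decide) 0 (by decide))
      · -- 24=(1,3)
        exact False.elim (cert_false T ((skipEmb 3).trans (Function.Embedding.refl _)) (by norm_num) (fun _ => hall _) (((((LB_zero T ((skipEmb 3).trans (Function.Embedding.refl _))).upd 1 3 1 (le_of_eq hx14)).upd 2 3 1 (le_of_eq hx24)).upd 3 1 1 (le_of_eq hx41)).upd 3 2 3 (le_of_eq hx42)) ![0,1,1,2] (by decide) (by decide) 1 (by decide))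
      · -- 24=(3,1)
        exact False.elim (cert_false T ((skipEmb 3).trans (Function.Embedding.refl _)) (by norm_num) (fun _ => hall _) (((((LB_zero T ((skipEmb 3).trans (Function.Embedding.refl _))).upd 0 3 1 (le_of_eq hx04)).upd 2 3 3 (le_of_eq hx24)).upd 3 0 2 (le_of_eq hx40)).upd 3 2 1 (le_of_eq hx42)) ![1,0,2,2] (by decide) (by decide) 0 (by decide))
    · -- 14=(1,2)
      exact False.elim (cert_false T ((skipEmb 3).trans (Function.Embedding.refl _)) (by norm_num) (fun _ => hall _) (((((LB_zero T ((skipEmb 3).trans (Function.Embedding.refl _))).upd 0 3 1 (le_of_eq hx04)).upd 1 3 1 (le_of_eq hx14)).upd 3 0 2 (le_of_eq hx40)).upd 3 1 2 (le_of_eq hx41)) ![1,1,0,2] (by decide) (by decide) 0 (by decide))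
    · -- 14=(2,1)
      exact False.elim (cert_false T ((skipEmb 3).trans (Function.Embedding.refl _)) (by norm_num) (fun _ => hall _) (((((LB_zero T ((skipEmb 3).trans (Function.Embedding.refl _))).upd 0 3 1 (le_of_eq hx04)).upd 1 3 2 (le_of_eq hx14)).upd 3 0 2 (le_of_eq hx40)).upd 3 1 1 (le_of_eq hx41)) ![1,2,0,2] (by decide) (by decide) 0 (by decide))
    · -- 14=(1,3)
      exact False.elim (cert_false T ((skipEmb 3).trans (Function.Embedding.refl _)) (by norm_num) (fun _ => hall _) (((((LB_zero T ((skipEmb 3).trans (Function.Embedding.refl _))).upd 0 3 1 (le_of_eq hx04)).upd 1 3 1 (le_of_eq hx14)).upd 3 0 2 (le_of_eq hx40)).upd 3 1 3 (le_of_eq hx41)) ![1,1,0,2] (by decide) (by decide) 0 (by decide))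
    · -- 14=(3,1)
      exact False.elim (cert_false T ((skipEmb 3).trans (Function.Embedding.refl _)) (by norm_num) (fun _ => hall _) (((((LB_zero T ((skipEmb 3).trans (Function.Embedding.refl _))).upd 0 3 1 (le_of_eq hx04)).upd 1 3 3 (le_of_eq hx14)).upd 3 0 2 (le_of_eq hx40)).upd 3 1 1 (le_of_eq hx41)) ![1,2,0,2] (by decide) (by decide) 0 (by decide))
  · -- 04=(2,1)
    rcases d14 with ⟨rfl, rfl⟩ | ⟨rfl, rfl⟩ | ⟨rfl, rfl⟩ | ⟨rfl, rfl⟩ | ⟨rfl, rfl⟩ | ⟨rfl, rfl⟩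
    · -- 14=(0,0)
      rcases d24 with ⟨rfl, rfl⟩ | ⟨rfl, rfl⟩ | ⟨rfl, rfl⟩ | ⟨rfl, rfl⟩ | ⟨rfl, rfl⟩ | ⟨rfl, rfl⟩
      · -- 24=(0,0)
        rcases d34 with ⟨rfl, rfl⟩ | ⟨rfl, rfl⟩ | ⟨rfl, rfl⟩ | ⟨rfl, rfl⟩ | ⟨rfl, rfl⟩ | ⟨rfl, rfl⟩
        · -- 34=(0,0)
          exfalso; omega
        · -- 34=(1,1)
          exact False.elim (cert_false T ((skipEmb 2).trans (Function.Embedding.refl _)) (by norm_num) (fun _ => hall _) (((((((LB_zero T ((skipEmb 2).trans (Function.Embedding.refl _))).upd 0 2 1 (le_of_eq hx03)).upd 0 3 2 (le_of_eq hx04)).upd 2 0 1 (le_of_eq hx30)).upd 2 3 1 (le_of_eq hx34)).upd 3 0 1 (le_of_eq hx40)).upd 3 2 1 (le_of_eq hx43)) ![1,0,1,1] (by decide) (by decide) 0 (by decide))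
        · -- 34=(1,2)
          exact False.elim (cert_false T ((skipEmb 2).trans (Function.Embedding.refl _)) (by norm_num) (fun _ => hall _) (((((((LB_zero T ((skipEmb 2).trans (Function.Embedding.refl _))).upd 0 2 1 (le_of_eq hx03)).upd 0 3 2 (le_of_eq hx04)).upd 2 0 1 (le_of_eq hx30)).upd 2 3 1 (le_of_eq hx34)).upd 3 0 1 (le_of_eq hx40)).upd 3 2 2 (le_of_eq hx43)) ![1,0,1,1] (by decide) (by decide) 0 (by decide))
        · -- 34=(2,1)
          exact False.elim (cert_false T ((skipEmb 2).trans (Function.Embedding.refl _)) (by norm_num) (fun _ => hall _) (((((((LB_zero T ((skipEmb 2).trans (Function.Embedding.refl _))).upd 0 2 1 (le_of_eq hx03)).upd 0 3 2 (le_of_eq hx04)).upd 2 0 1 (le_of_eq hx30)).upd 2 3 2 (le_of_eq hx34)).upd 3 0 1 (le_of_eq hx40)).upd 3 2 1 (le_of_eq hx43)) ![1,0,1,1] (by decide) (by decide) 0 (by decide))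
        · -- 34=(1,3)
          exact False.elim (cert_false T ((skipEmb 2).trans (Function.Embedding.refl _)) (by norm_num) (fun _ => hall _) (((((((LB_zero T ((skipEmb 2).trans (Function.Embedding.refl _))).upd 0 2 1 (le_of_eq hx03)).upd 0 3 2 (le_of_eq hx04)).upd 2 0 1 (le_of_eq hx30)).upd 2 3 1 (le_of_eq hx34)).upd 3 0 1 (le_of_eq hx40)).upd 3 2 3 (le_of_eq hx43)) ![1,0,1,1] (by decide) (by decide) 0 (by decide))
        · -- 34=(3,1)
          exact False.elim (cert_false T ((skipEmb 2).trans (Function.Embedding.refl _)) (by norm_num) (fun _ => hall _) (((((((LB_zero T ((skipEmb 2).trans (Function.Embedding.refl _))).upd 0 2 1 (le_of_eq hx03)).upd 0 3 2 (le_of_eq hx04)).upd 2 0 1 (le_of_eq hx30)).upd 2 3 3 (le_of_eq hx34)).upd 3 0 1 (le_of_eq hx40)).upd 3 2 1 (le_of_eq hx43)) ![1,0,1,1] (by decide) (by decide) 0 (by decide))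
      · -- 24=(1,1)
        rcases d34 with ⟨rfl, rfl⟩ | ⟨rfl, rfl⟩ | ⟨rfl, rfl⟩ | ⟨rfl, rfl⟩ | ⟨rfl, rfl⟩ | ⟨rfl, rfl⟩
        · -- 34=(0,0)
          exfalso; omega
        · -- 34=(1,1)
          exact False.elim (cert_false T ((skipEmb 2).trans (Function.Embedding.refl _)) (by norm_num) (fun _ => hall _) (((((((LB_zero T ((skipEmb 2).trans (Function.Embedding.refl _))).upd 0 2 1 (le_of_eq hx03)).upd 0 3 2 (le_of_eq hx04)).upd 2 0 1 (le_of_eq hx30)).upd 2 3 1 (le_of_eq hx34)).upd 3 0 1 (le_of_eq hx40)).upd 3 2 1 (le_of_eq hx43)) ![1,0,1,1] (by decide) (by decide) 0 (by decide))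
        · -- 34=(1,2)
          exact False.elim (cert_false T ((skipEmb 2).trans (Function.Embedding.refl _)) (by norm_num) (fun _ => hall _) (((((((LB_zero T ((skipEmb 2).trans (Function.Embedding.refl _))).upd 0 2 1 (le_of_eq hx03)).upd 0 3 2 (le_of_eq hx04)).upd 2 0 1 (le_of_eq hx30)).upd 2 3 1 (le_of_eq hx34)).upd 3 0 1 (le_of_eq hx40)).upd 3 2 2 (le_of_eq hx43)) ![1,0,1,1] (by decide) (by decide) 0 (by decide))
        · -- 34=(2,1)
          exact False.elim (cert_false T ((skipEmb 2).trans (Function.Embedding.refl _)) (by norm_num) (fun _ => hall _) (((((((LB_zero T ((skipEmb 2).trans (Function.Embedding.refl _))).upd 0 2 1 (le_of_eq hx03)).upd 0 3 2 (le_of_eq hx04)).upd 2 0 1 (le_of_eq hx30)).upd 2 3 2 (le_of_eq hx34)).upd 3 0 1 (le_of_eq hx40)).upd 3 2 1 (le_of_eq hx43)) ![1,0,1,1] (by decide) (by decide) 0 (by decide))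
        · -- 34=(1,3)
          exact False.elim (cert_false T ((skipEmb 2).trans (Function.Embedding.refl _)) (by norm_num) (fun _ => hall _) (((((((LB_zero T ((skipEmb 2).trans (Function.Embedding.refl _))).upd 0 2 1 (le_of_eq hx03)).upd 0 3 2 (le_of_eq hx04)).upd 2 0 1 (le_of_eq hx30)).upd 2 3 1 (le_of_eq hx34)).upd 3 0 1 (le_of_eq hx40)).upd 3 2 3 (le_of_eq hx43)) ![1,0,1,1] (by decide) (by decide) 0 (by decide))
        · -- 34=(3,1)
          exact False.elim (cert_false T ((skipEmb 2).trans (Function.Embedding.refl _)) (by norm_num) (fun _ => hall _) (((((((LB_zero T ((skipEmb 2).trans (Function.Embedding.refl _))).upd 0 2 1 (le_of_eq hx03)).upd 0 3 2 (le_of_eq hx04)).upd 2 0 1 (le_of_eq hx30)).upd 2 3 3 (le_of_eq hx34)).upd 3 0 1 (le_of_eq hx40)).upd 3 2 1 (le_of_eq hx43)) ![1,0,1,1] (by decide) (by decide) 0 (by decide))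
      · -- 24=(1,2)
        exact False.elim (cert_false T ((skipEmb 3).trans (Function.Embedding.refl _)) (by norm_num) (fun _ => hall _) (((((LB_zero T ((skipEmb 3).trans (Function.Embedding.refl _))).upd 0 3 2 (le_of_eq hx04)).upd 2 3 1 (le_of_eq hx24)).upd 3 0 1 (le_of_eq hx40)).upd 3 2 2 (le_of_eq hx42)) ![2,0,1,2] (by decide) (by decide) 0 (by decide))
      · -- 24=(2,1)
        exact False.elim (cert_false T ((skipEmb 3).trans (Function.Embedding.refl _)) (by norm_num) (fun _ => hall _) (((((LB_zero T ((skipEmb 3).trans (Function.Embedding.refl _))).upd 0 3 2 (le_of_eq hx04)).upd 2 3 2 (le_of_eq hx24)).upd 3 0 1 (le_of_eq hx40)).upd 3 2 1 (le_of_eq hx42)) ![1,0,1,1] (by decide) (by decide) 0 (by decide))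
      · -- 24=(1,3)
        exact False.elim (cert_false T ((skipEmb 3).trans (Function.Embedding.refl _)) (by norm_num) (fun _ => hall _) (((((LB_zero T ((skipEmb 3).trans (Function.Embedding.refl _))).upd 0 3 2 (le_of_eq hx04)).upd 2 3 1 (le_of_eq hx24)).upd 3 0 1 (le_of_eq hx40)).upd 3 2 3 (le_of_eq hx42)) ![1,0,1,2] (by decide) (by decide) 0 (by decide))
      · -- 24=(3,1)
        exact False.elim (cert_false T ((skipEmb 3).trans (Function.Embedding.refl _)) (by norm_num) (fun _ => hall _) (((((LB_zero T ((skipEmb 3).trans (Function.Embedding.refl _))).upd 0 3 2 (le_of_eq hx04)).upd 2 3 3 (le_of_eq hx24)).upd 3 0 1 (le_of_eq hx40)).upd 3 2 1 (le_of_eq hx42)) ![1,0,1,1] (by decide) (by decide) 0 (by decide))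
    · -- 14=(1,1)
      rcases d24 with ⟨rfl, rfl⟩ | ⟨rfl, rfl⟩ | ⟨rfl, rfl⟩ | ⟨rfl, rfl⟩ | ⟨rfl, rfl⟩ | ⟨rfl, rfl⟩
      · -- 24=(0,0)
        rcases d34 with ⟨rfl, rfl⟩ | ⟨rfl, rfl⟩ | ⟨rfl, rfl⟩ | ⟨rfl, rfl⟩ | ⟨rfl, rfl⟩ | ⟨rfl, rfl⟩
        · -- 34=(0,0)
          exfalso; omega
        · -- 34=(1,1)
          exact False.elim (cert_false T ((skipEmb 2).trans (Function.Embedding.refl _)) (by norm_num) (fun _ => hall _) (((((((LB_zero T ((skipEmb 2).trans (Function.Embedding.refl _))).upd 0 2 1 (le_of_eq hx03)).upd 0 3 2 (le_of_eq hx04)).upd 2 0 1 (le_of_eq hx30)).upd 2 3 1 (le_of_eq hx34)).upd 3 0 1 (le_of_eq hx40)).upd 3 2 1 (le_of_eq hx43)) ![1,0,1,1] (by decide) (by decide) 0 (by decide))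
        · -- 34=(1,2)
          exact False.elim (cert_false T ((skipEmb 2).trans (Function.Embedding.refl _)) (by norm_num) (fun _ => hall _) (((((((LB_zero T ((skipEmb 2).trans (Function.Embedding.refl _))).upd 0 2 1 (le_of_eq hx03)).upd 0 3 2 (le_of_eq hx04)).upd 2 0 1 (le_of_eq hx30)).upd 2 3 1 (le_of_eq hx34)).upd 3 0 1 (le_of_eq hx40)).upd 3 2 2 (le_of_eq hx43)) ![1,0,1,1] (by decide) (by decide) 0 (by decide))
        · -- 34=(2,1)
          exact False.elim (cert_false T ((skipEmb 2).trans (Function.Embedding.refl _)) (by norm_num) (fun _ => hall _) (((((((LB_zero T ((skipEmb 2).trans (Function.Embedding.refl _))).upd 0 2 1 (le_of_eq hx03)).upd 0 3 2 (le_of_eq hx04)).upd 2 0 1 (le_of_eq hx30)).upd 2 3 2 (le_of_eq hx34)).upd 3 0 1 (le_of_eq hx40)).upd 3 2 1 (le_of_eq hx43)) ![1,0,1,1] (by decide) (by decide) 0 (by decide))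
        · -- 34=(1,3)
          exact False.elim (cert_false T ((skipEmb 2).trans (Function.Embedding.refl _)) (by norm_num) (fun _ => hall _) (((((((LB_zero T ((skipEmb 2).trans (Function.Embedding.refl _))).upd 0 2 1 (le_of_eq hx03)).upd 0 3 2 (le_of_eq hx04)).upd 2 0 1 (le_of_eq hx30)).upd 2 3 1 (le_of_eq hx34)).upd 3 0 1 (le_of_eq hx40)).upd 3 2 3 (le_of_eq hx43)) ![1,0,1,1] (by decide) (by decide) 0 (by decide))
        · -- 34=(3,1)
          exact False.elim (cert_false T ((skipEmb 2).trans (Function.Embedding.refl _)) (by norm_num) (fun _ => hall _) (((((((LB_zero T ((skipEmb 2).trans (Function.Embedding.refl _))).upd 0 2 1 (le_of_eq hx03)).upd 0 3 2 (le_of_eq hx04)).upd 2 0 1 (le_of_eq hx30)).upd 2 3 3 (le_of_eq hx34)).upd 3 0 1 (le_of_eq hx40)).upd 3 2 1 (le_of_eq hx43)) ![1,0,1,1] (by decide) (by decide) 0 (by decide))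
      · -- 24=(1,1)
        exact False.elim (cert_false T ((skipEmb 3).trans (Function.Embedding.refl _)) (by norm_num) (fun _ => hall _) (((((((LB_zero T ((skipEmb 3).trans (Function.Embedding.refl _))).upd 0 3 2 (le_of_eq hx04)).upd 1 3 1 (le_of_eq hx14)).upd 2 3 1 (le_of_eq hx24)).upd 3 0 1 (le_of_eq hx40)).upd 3 1 1 (le_of_eq hx41)).upd 3 2 1 (le_of_eq hx42)) ![2,1,1,2] (by decide) (by decide) 0 (by decide))
      · -- 24=(1,2)
        exact False.elim (cert_false T ((skipEmb 3).trans (Function.Embedding.refl _)) (by norm_num) (fun _ => hall _) (((((((LB_zero T ((skipEmb 3).trans (Function.Embedding.refl _))).upd 0 3 2 (le_of_eq hx04)).upd 1 3 1 (le_of_eq hx14)).upd 2 3 1 (le_of_eq hx24)).upd 3 0 1 (le_of_eq hx40)).upd 3 1 1 (le_of_eq hx41)).upd 3 2 2 (le_of_eq hx42)) ![1,1,1,2] (by decide) (by decide) 0 (by decide))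
      · -- 24=(2,1)
        exact False.elim (cert_false T ((skipEmb 3).trans (Function.Embedding.refl _)) (by norm_num) (fun _ => hall _) (((((LB_zero T ((skipEmb 3).trans (Function.Embedding.refl _))).upd 0 3 2 (le_of_eq hx04)).upd 2 3 2 (le_of_eq hx24)).upd 3 0 1 (le_of_eq hx40)).upd 3 2 1 (le_of_eq hx42)) ![1,0,1,1] (by decide) (by decide) 0 (by decide))
      · -- 24=(1,3)
        exact False.elim (cert_false T ((skipEmb 3).trans (Function.Embedding.refl _)) (by norm_num) (fun _ => hall _) (((((LB_zero T ((skipEmb 3).trans (Function.Embedding.refl _))).upd 1 3 1 (le_of_eq hx14)).upd 2 3 1 (le_of_eq hx24)).upd 3 1 1 (le_of_eq hx41)).upd 3 2 3 (le_of_eq hx42)) ![0,1,1,2] (by decide) (by decide) 1 (by decide))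
      · -- 24=(3,1)
        exact False.elim (cert_false T ((skipEmb 3).trans (Function.Embedding.refl _)) (by norm_num) (fun _ => hall _) (((((LB_zero T ((skipEmb 3).trans (Function.Embedding.refl _))).upd 0 3 2 (le_of_eq hx04)).upd 2 3 3 (le_of_eq hx24)).upd 3 0 1 (le_of_eq hx40)).upd 3 2 1 (le_of_eq hx42)) ![1,0,1,1] (by decide) (by decide) 0 (by decide))
    · -- 14=(1,2)
      exact False.elim (cert_false T ((skipEmb 3).trans (Function.Embedding.refl _)) (by norm_num) (fun _ => hall _) (((((LB_zero T ((skipEmb 3).trans (Function.Embedding.refl _))).upd 0 3 2 (le_of_eq hx04)).upd 1 3 1 (le_of_eq hx14)).upd 3 0 1 (le_of_eq hx40)).upd 3 1 2 (le_of_eq hx41)) ![2,1,0,2] (by decide) (by decide) 0 (by decide))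
    · -- 14=(2,1)
      exact False.elim (cert_false T ((skipEmb 3).trans (Function.Embedding.refl _)) (by norm_num) (fun _ => hall _) (((((LB_zero T ((skipEmb 3).trans (Function.Embedding.refl _))).upd 0 3 2 (le_of_eq hx04)).upd 1 3 2 (le_of_eq hx14)).upd 3 0 1 (le_of_eq hx40)).upd 3 1 1 (le_of_eq hx41)) ![1,1,0,1] (by decide) (by decide) 0 (by decide))
    · -- 14=(1,3)
      exact False.elim (cert_false T ((skipEmb 3).trans (Function.Embedding.refl _)) (by norm_num) (fun _ => hall _) (((((LB_zero T ((skipEmb 3).trans (Function.Embedding.refl _))).upd 0 3 2 (le_of_eq hx04)).upd 1 3 1 (le_of_eq hx14)).upd 3 0 1 (le_of_eq hx40)).upd 3 1 3 (le_of_eq hx41)) ![1,1,0,2] (by decide) (by decide) 0 (by decide))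
    · -- 14=(3,1)
      exact False.elim (cert_false T ((skipEmb 3).trans (Function.Embedding.refl _)) (by norm_num) (fun _ => hall _) (((((LB_zero T ((skipEmb 3).trans (Function.Embedding.refl _))).upd 0 3 2 (le_of_eq hx04)).upd 1 3 3 (le_of_eq hx14)).upd 3 0 1 (le_of_eq hx40)).upd 3 1 1 (le_of_eq hx41)) ![1,1,0,1] (by decide) (by decide) 0 (by decide))
  · -- 04=(1,3)
    exact False.elim (cert_false T ((skipEmb 2).trans (Function.Embedding.refl _)) (by norm_num) (fun _ => hall _) (((((LB_zero T ((skipEmb 2).trans (Function.Embedding.refl _))).upd 0 2 1 (le_of_eq hx03)).upd 0 3 1 (le_of_eq hx04)).upd 2 0 1 (le_of_eq hx30)).upd 3 0 3 (le_of_eq hx40)) ![2,0,1,3] (by decide) (by decide) 0 (by decide))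
  · -- 04=(3,1)
    exact False.elim (cert_false T ((skipEmb 2).trans (Function.Embedding.refl _)) (by norm_num) (fun _ => hall _) (((((LB_zero T ((skipEmb 2).trans (Function.Embedding.refl _))).upd 0 2 1 (le_of_eq hx03)).upd 0 3 3 (le_of_eq hx04)).upd 2 0 1 (le_of_eq hx30)).upd 3 0 1 (le_of_eq hx40)) ![2,0,1,1] (by decide) (by decide) 0 (by decide))

theorem case48 (T : NumericalType 5) (hall : ∀ i, T.IsMinusTwo i) (d : SData T)
    (h01 : N T (Function.Embedding.refl _) 0 1 = 0) (h10 : N T (Function.Embedding.refl _) 1 0 = 0)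
    (h02 : N T (Function.Embedding.refl _) 0 2 = 0) (h20 : N T (Function.Embedding.refl _) 2 0 = 0)
    (h12 : N T (Function.Embedding.refl _) 1 2 = 0) (h21 : N T (Function.Embedding.refl _) 2 1 = 0)
    (h03 : N T (Function.Embedding.refl _) 0 3 = 1) (h30 : N T (Function.Embedding.refl _) 3 0 = 1)
    (h13 : N T (Function.Embedding.refl _) 1 3 = 0) (h31 : N T (Function.Embedding.refl _) 3 1 = 0)
    (h23 : N T (Function.Embedding.refl _) 2 3 = 1) (h32 : N T (Function.Embedding.refl _) 3 2 = 1)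
    (h04 : N T (Function.Embedding.refl _) 0 4 = 0) (h40 : N T (Function.Embedding.refl _) 4 0 = 0) :
    Goal T := by
  unfold Goal
  have hd := d
  obtain ⟨x01, x02, x03, x04, x10, x12, x13, x14, x20, x21, x23, x24, x30, x31, x32, x34, x40, x41, x42, x43, hx01, hx02, hx03, hx04, hx10, hx12, hx13, hx14, hx20, hx21, hx23, hx24, hx30, hx31, hx32, hx34, hx40, hx41, hx42, hx43, hw0, hm0, hw1, hm1, hw2, hm2, hw3, hm3, hw4, hm4, a00, a01, a02, a03, a04, a11, a10, a12, a13, a14, a22, a20, a21, a23, a24, a33, a30, a31, a32, a34, a44, a40, a41, a42, a43, wN01, wN02, wN12, wN03, wN13, wN23, wN04, wN14, wN24, wN34, e0, e1, e2, e3, e4, d01, d02, d12, d03, d13, d23, d04, d14, d24, d34⟩ := d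
  obtain rfl : x01 = 0 := hx01.trans h01
  obtain rfl : x10 = 0 := hx10.trans h10
  obtain rfl : x02 = 0 := hx02.trans h02
  obtain rfl : x20 = 0 := hx20.trans h20
  obtain rfl : x12 = 0 := hx12.trans h12
  obtain rfl : x21 = 0 := hx21.trans h21
  obtain rfl : x03 = 1 := hx03.trans h03
  obtain rfl : x30 = 1 := hx30.trans h30
  obtain rfl : x13 = 0 := hx13.trans h13
  obtain rfl : x31 = 0 := hx31.trans h31
  obtain rfl : x23 = 1 := hx23.trans h23
  obtain rfl : x32 = 1 := hx32.trans h32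
  obtain rfl : x04 = 0 := hx04.trans h04
  obtain rfl : x40 = 0 := hx40.trans h40
  rcases d14 with ⟨rfl, rfl⟩ | ⟨rfl, rfl⟩ | ⟨rfl, rfl⟩ | ⟨rfl, rfl⟩ | ⟨rfl, rfl⟩ | ⟨rfl, rfl⟩
  · -- 14=(0,0)
    rcases d24 with ⟨rfl, rfl⟩ | ⟨rfl, rfl⟩ | ⟨rfl, rfl⟩ | ⟨rfl, rfl⟩ | ⟨rfl, rfl⟩ | ⟨rfl, rfl⟩
    · -- 24=(0,0)
      rcases d34 with ⟨rfl, rfl⟩ | ⟨rfl, rfl⟩ | ⟨rfl, rfl⟩ | ⟨rfl, rfl⟩ | ⟨rfl, rfl⟩ | ⟨rfl, rfl⟩
      · -- 34=(0,0)
        exfalso; omega
      · -- 34=(1,1)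
        exfalso; omega
      · -- 34=(1,2)
        exact False.elim (cert_false T ((skipEmb 1).trans (Function.Embedding.refl _)) (by norm_num) (fun _ => hall _) (((((((LB_zero T ((skipEmb 1).trans (Function.Embedding.refl _))).upd 0 2 1 (le_of_eq hx03)).upd 1 2 1 (le_of_eq hx23)).upd 2 0 1 (le_of_eq hx30)).upd 2 1 1 (le_of_eq hx32)).upd 2 3 1 (le_of_eq hx34)).upd 3 2 2 (le_of_eq hx43)) ![1,1,2,2] (by decide) (by decide) 0 (by decide))
      · -- 34=(2,1)
        exact False.elim (cert_false T ((skipEmb 1).trans (Function.Embedding.refl _)) (by norm_num) (fun _ => hall _) (((((((LB_zero T ((skipEmb 1).trans (Function.Embedding.refl _))).upd 0 2 1 (le_of_eq hx03)).upd 1 2 1 (le_of_eq hx23)).upd 2 0 1 (le_of_eq hx30)).upd 2 1 1 (le_of_eq hx32)).upd 2 3 2 (le_of_eq hx34)).upd 3 2 1 (le_of_eq hx43)) ![1,1,2,1] (by decide) (by decide) 0 (by decide))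
      · -- 34=(1,3)
        exact False.elim (cert_false T ((skipEmb 2).trans (Function.Embedding.refl _)) (by norm_num) (fun _ => hall _) (((((LB_zero T ((skipEmb 2).trans (Function.Embedding.refl _))).upd 0 2 1 (le_of_eq hx03)).upd 2 0 1 (le_of_eq hx30)).upd 2 3 1 (le_of_eq hx34)).upd 3 2 3 (le_of_eq hx43)) ![1,0,2,3] (by decide) (by decide) 0 (by decide))
      · -- 34=(3,1)
        exact False.elim (cert_false T ((skipEmb 2).trans (Function.Embedding.refl _)) (by norm_num) (fun _ => hall _) (((((LB_zero T ((skipEmb 2).trans (Function.Embedding.refl _))).upd 0 2 1 (le_of_eq hx03)).upd 2 0 1 (le_of_eq hx30)).upd 2 3 3 (le_of_eq hx34)).upd 3 2 1 (le_of_eq hx43)) ![1,0,2,1] (by decide) (by decide) 0 (by decide))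
    · -- 24=(1,1)
      rcases d34 with ⟨rfl, rfl⟩ | ⟨rfl, rfl⟩ | ⟨rfl, rfl⟩ | ⟨rfl, rfl⟩ | ⟨rfl, rfl⟩ | ⟨rfl, rfl⟩
      · -- 34=(0,0)
        exfalso; omega
      · -- 34=(1,1)
        exact False.elim (cert_false T ((skipEmb 1).trans (Function.Embedding.refl _)) (by norm_num) (fun _ => hall _) (((((((LB_zero T ((skipEmb 1).trans (Function.Embedding.refl _))).upd 1 2 1 (le_of_eq hx23)).upd 1 3 1 (le_of_eq hx24)).upd 2 1 1 (le_of_eq hx32)).upd 2 3 1 (le_of_eq hx34)).upd 3 1 1 (le_of_eq hx42)).upd 3 2 1 (le_of_eq hx43)) ![0,1,1,1] (by decide) (by decide) 1 (by decide))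
      · -- 34=(1,2)
        exact False.elim (cert_false T ((skipEmb 1).trans (Function.Embedding.refl _)) (by norm_num) (fun _ => hall _) (((((((LB_zero T ((skipEmb 1).trans (Function.Embedding.refl _))).upd 1 2 1 (le_of_eq hx23)).upd 1 3 1 (le_of_eq hx24)).upd 2 1 1 (le_of_eq hx32)).upd 2 3 1 (le_of_eq hx34)).upd 3 1 1 (le_of_eq hx42)).upd 3 2 2 (le_of_eq hx43)) ![0,1,1,1] (by decide) (by decide) 1 (by decide))
      · -- 34=(2,1)
        exact False.elim (cert_false T ((skipEmb 1).trans (Function.Embedding.refl _)) (by norm_num) (fun _ => hall _) (((((((LB_zero T ((skipEmb 1).trans (Function.Embedding.refl _))).upd 1 2 1 (le_of_eq hx23)).upd 1 3 1 (le_of_eq hx24)).upd 2 1 1 (le_of_eq hx32)).upd 2 3 2 (le_of_eq hx34)).upd 3 1 1 (le_of_eq hx42)).upd 3 2 1 (le_of_eq hx43)) ![0,1,1,1] (by decide) (by decide) 1 (by decide))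
      · -- 34=(1,3)
        exact False.elim (cert_false T ((skipEmb 2).trans (Function.Embedding.refl _)) (by norm_num) (fun _ => hall _) (((((LB_zero T ((skipEmb 2).trans (Function.Embedding.refl _))).upd 0 2 1 (le_of_eq hx03)).upd 2 0 1 (le_of_eq hx30)).upd 2 3 1 (le_of_eq hx34)).upd 3 2 3 (le_of_eq hx43)) ![1,0,2,3] (by decide) (by decide) 0 (by decide))
      · -- 34=(3,1)
        exact False.elim (cert_false T ((skipEmb 2).trans (Function.Embedding.refl _)) (by norm_num) (fun _ => hall _) (((((LB_zero T ((skipEmb 2).trans (Function.Embedding.refl _))).upd 0 2 1 (le_of_eq hx03)).upd 2 0 1 (le_of_eq hx30)).upd 2 3 3 (le_of_eq hx34)).upd 3 2 1 (le_of_eq hx43)) ![1,0,2,1] (by decide) (by decide) 0 (by decide))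
    · -- 24=(1,2)
      rcases d34 with ⟨rfl, rfl⟩ | ⟨rfl, rfl⟩ | ⟨rfl, rfl⟩ | ⟨rfl, rfl⟩ | ⟨rfl, rfl⟩ | ⟨rfl, rfl⟩
      · -- 34=(0,0)
        exfalso; omega
      · -- 34=(1,1)
        exact False.elim (cert_false T ((skipEmb 1).trans (Function.Embedding.refl _)) (by norm_num) (fun _ => hall _) (((((((LB_zero T ((skipEmb 1).trans (Function.Embedding.refl _))).upd 1 2 1 (le_of_eq hx23)).upd 1 3 1 (le_of_eq hx24)).upd 2 1 1 (le_of_eq hx32)).upd 2 3 1 (le_of_eq hx34)).upd 3 1 2 (le_of_eq hx42)).upd 3 2 1 (le_of_eq hx43)) ![0,1,1,1] (by decide) (by decide) 1 (by decide))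
      · -- 34=(1,2)
        exact False.elim (cert_false T ((skipEmb 1).trans (Function.Embedding.refl _)) (by norm_num) (fun _ => hall _) (((((((LB_zero T ((skipEmb 1).trans (Function.Embedding.refl _))).upd 1 2 1 (le_of_eq hx23)).upd 1 3 1 (le_of_eq hx24)).upd 2 1 1 (le_of_eq hx32)).upd 2 3 1 (le_of_eq hx34)).upd 3 1 2 (le_of_eq hx42)).upd 3 2 2 (le_of_eq hx43)) ![0,1,1,1] (by decide) (by decide) 1 (by decide))
      · -- 34=(2,1)
        exact False.elim (cert_false T ((skipEmb 1).trans (Function.Embedding.refl _)) (by norm_num) (fun _ => hall _) (((((((LB_zero T ((skipEmb 1).trans (Function.Embedding.refl _))).upd 1 2 1 (le_of_eq hx23)).upd 1 3 1 (le_of_eq hx24)).upd 2 1 1 (le_of_eq hx32)).upd 2 3 2 (le_of_eq hx34)).upd 3 1 2 (le_of_eq hx42)).upd 3 2 1 (le_of_eq hx43)) ![0,1,1,1] (by decide) (by decide) 1 (by decide))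
      · -- 34=(1,3)
        exact False.elim (cert_false T ((skipEmb 2).trans (Function.Embedding.refl _)) (by norm_num) (fun _ => hall _) (((((LB_zero T ((skipEmb 2).trans (Function.Embedding.refl _))).upd 0 2 1 (le_of_eq hx03)).upd 2 0 1 (le_of_eq hx30)).upd 2 3 1 (le_of_eq hx34)).upd 3 2 3 (le_of_eq hx43)) ![1,0,2,3] (by decide) (by decide) 0 (by decide))
      · -- 34=(3,1)
        exact False.elim (cert_false T ((skipEmb 2).trans (Function.Embedding.refl _)) (by norm_num) (fun _ => hall _) (((((LB_zero T ((skipEmb 2).trans (Function.Embedding.refl _))).upd 0 2 1 (le_of_eq hx03)).upd 2 0 1 (le_of_eq hx30)).upd 2 3 3 (le_of_eq hx34)).upd 3 2 1 (le_of_eq hx43)) ![1,0,2,1] (by decide) (by decide) 0 (by decide))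
    · -- 24=(2,1)
      rcases d34 with ⟨rfl, rfl⟩ | ⟨rfl, rfl⟩ | ⟨rfl, rfl⟩ | ⟨rfl, rfl⟩ | ⟨rfl, rfl⟩ | ⟨rfl, rfl⟩
      · -- 34=(0,0)
        exfalso; omega
      · -- 34=(1,1)
        exact False.elim (cert_false T ((skipEmb 1).trans (Function.Embedding.refl _)) (by norm_num) (fun _ => hall _) (((((((LB_zero T ((skipEmb 1).trans (Function.Embedding.refl _))).upd 1 2 1 (le_of_eq hx23)).upd 1 3 2 (le_of_eq hx24)).upd 2 1 1 (le_of_eq hx32)).upd 2 3 1 (le_of_eq hx34)).upd 3 1 1 (le_of_eq hx42)).upd 3 2 1 (le_of_eq hx43)) ![0,1,1,1] (by decide) (by decide) 1 (by decide))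
      · -- 34=(1,2)
        exact False.elim (cert_false T ((skipEmb 1).trans (Function.Embedding.refl _)) (by norm_num) (fun _ => hall _) (((((((LB_zero T ((skipEmb 1).trans (Function.Embedding.refl _))).upd 1 2 1 (le_of_eq hx23)).upd 1 3 2 (le_of_eq hx24)).upd 2 1 1 (le_of_eq hx32)).upd 2 3 1 (le_of_eq hx34)).upd 3 1 1 (le_of_eq hx42)).upd 3 2 2 (le_of_eq hx43)) ![0,1,1,1] (by decide) (by decide) 1 (by decide))
      · -- 34=(2,1)
        exact False.elim (cert_false T ((skipEmb 1).trans (Function.Embedding.refl _)) (by norm_num) (fun _ => hall _) (((((((LB_zero T ((skipEmb 1).trans (Function.Embedding.refl _))).upd 1 2 1 (le_of_eq hx23)).upd 1 3 2 (le_of_eq hx24)).upd 2 1 1 (le_of_eq hx32)).upd 2 3 2 (le_of_eq hx34)).upd 3 1 1 (le_of_eq hx42)).upd 3 2 1 (le_of_eq hx43)) ![0,1,1,1] (by decide) (by decide) 1 (by decide))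
      · -- 34=(1,3)
        exact False.elim (cert_false T ((skipEmb 2).trans (Function.Embedding.refl _)) (by norm_num) (fun _ => hall _) (((((LB_zero T ((skipEmb 2).trans (Function.Embedding.refl _))).upd 0 2 1 (le_of_eq hx03)).upd 2 0 1 (le_of_eq hx30)).upd 2 3 1 (le_of_eq hx34)).upd 3 2 3 (le_of_eq hx43)) ![1,0,2,3] (by decide) (by decide) 0 (by decide))
      · -- 34=(3,1)
        exact False.elim (cert_false T ((skipEmb 2).trans (Function.Embedding.refl _)) (by norm_num) (fun _ => hall _) (((((LB_zero T ((skipEmb 2).trans (Function.Embedding.refl _))).upd 0 2 1 (le_of_eq hx03)).upd 2 0 1 (le_of_eq hx30)).upd 2 3 3 (le_of_eq hx34)).upd 3 2 1 (le_of_eq hx43)) ![1,0,2,1] (by decide) (by decide) 0 (by decide))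
    · -- 24=(1,3)
      exact False.elim (cert_false T ((skipEmb 1).trans (Function.Embedding.refl _)) (by norm_num) (fun _ => hall _) (((((LB_zero T ((skipEmb 1).trans (Function.Embedding.refl _))).upd 1 2 1 (le_of_eq hx23)).upd 1 3 1 (le_of_eq hx24)).upd 2 1 1 (le_of_eq hx32)).upd 3 1 3 (le_of_eq hx42)) ![0,2,1,3] (by decide) (by decide) 1 (by decide))
    · -- 24=(3,1)
      exact False.elim (cert_false T ((skipEmb 1).trans (Function.Embedding.refl _)) (by norm_num) (fun _ => hall _) (((((LB_zero T ((skipEmb 1).trans (Function.Embedding.refl _))).upd 1 2 1 (le_of_eq hx23)).upd 1 3 3 (le_of_eq hx24)).upd 2 1 1 (le_of_eq hx32)).upd 3 1 1 (le_of_eq hx42)) ![0,2,1,1] (by decide) (by decide) 1 (by decide))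
  · -- 14=(1,1)
    rcases d24 with ⟨rfl, rfl⟩ | ⟨rfl, rfl⟩ | ⟨rfl, rfl⟩ | ⟨rfl, rfl⟩ | ⟨rfl, rfl⟩ | ⟨rfl, rfl⟩
    · -- 24=(0,0)
      rcases d34 with ⟨rfl, rfl⟩ | ⟨rfl, rfl⟩ | ⟨rfl, rfl⟩ | ⟨rfl, rfl⟩ | ⟨rfl, rfl⟩ | ⟨rfl, rfl⟩
      · -- 34=(0,0)
        exfalso; omega
      · -- 34=(1,1)
        exfalso; omega
      · -- 34=(1,2)
        exact False.elim (cert_false T ((skipEmb 1).trans (Function.Embedding.refl _)) (by norm_num) (fun _ => hall _) (((((((LB_zero T ((skipEmb 1).trans (Function.Embedding.refl _))).upd 0 2 1 (le_of_eq hx03)).upd 1 2 1 (le_of_eq hx23)).upd 2 0 1 (le_of_eq hx30)).upd 2 1 1 (le_of_eq hx32)).upd 2 3 1 (le_of_eq hx34)).upd 3 2 2 (le_of_eq hx43)) ![1,1,2,2] (by decide) (by decide) 0 (by decide))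
      · -- 34=(2,1)
        exact False.elim (cert_false T ((skipEmb 1).trans (Function.Embedding.refl _)) (by norm_num) (fun _ => hall _) (((((((LB_zero T ((skipEmb 1).trans (Function.Embedding.refl _))).upd 0 2 1 (le_of_eq hx03)).upd 1 2 1 (le_of_eq hx23)).upd 2 0 1 (le_of_eq hx30)).upd 2 1 1 (le_of_eq hx32)).upd 2 3 2 (le_of_eq hx34)).upd 3 2 1 (le_of_eq hx43)) ![1,1,2,1] (by decide) (by decide) 0 (by decide))
      · -- 34=(1,3)
        exact False.elim (cert_false T ((skipEmb 2).trans (Function.Embedding.refl _)) (by norm_num) (fun _ => hall _) (((((LB_zero T ((skipEmb 2).trans (Function.Embedding.refl _))).upd 1 3 1 (le_of_eq hx14)).upd 2 3 1 (le_of_eq hx34)).upd 3 1 1 (le_of_eq hx41)).upd 3 2 3 (le_of_eq hx43)) ![0,1,1,2] (by decide) (by decide) 1 (by decide))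
      · -- 34=(3,1)
        exact False.elim (cert_false T ((skipEmb 2).trans (Function.Embedding.refl _)) (by norm_num) (fun _ => hall _) (((((LB_zero T ((skipEmb 2).trans (Function.Embedding.refl _))).upd 0 2 1 (le_of_eq hx03)).upd 2 0 1 (le_of_eq hx30)).upd 2 3 3 (le_of_eq hx34)).upd 3 2 1 (le_of_eq hx43)) ![1,0,2,1] (by decide) (by decide) 0 (by decide))
    · -- 24=(1,1)
      rcases d34 with ⟨rfl, rfl⟩ | ⟨rfl, rfl⟩ | ⟨rfl, rfl⟩ | ⟨rfl, rfl⟩ | ⟨rfl, rfl⟩ | ⟨rfl, rfl⟩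
      · -- 34=(0,0)
        exfalso; omega
      · -- 34=(1,1)
        exact False.elim (cert_false T ((skipEmb 1).trans (Function.Embedding.refl _)) (by norm_num) (fun _ => hall _) (((((((LB_zero T ((skipEmb 1).trans (Function.Embedding.refl _))).upd 1 2 1 (le_of_eq hx23)).upd 1 3 1 (le_of_eq hx24)).upd 2 1 1 (le_of_eq hx32)).upd 2 3 1 (le_of_eq hx34)).upd 3 1 1 (le_of_eq hx42)).upd 3 2 1 (le_of_eq hx43)) ![0,1,1,1] (by decide) (by decide) 1 (by decide))
      · -- 34=(1,2)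
        exact False.elim (cert_false T ((skipEmb 1).trans (Function.Embedding.refl _)) (by norm_num) (fun _ => hall _) (((((((LB_zero T ((skipEmb 1).trans (Function.Embedding.refl _))).upd 1 2 1 (le_of_eq hx23)).upd 1 3 1 (le_of_eq hx24)).upd 2 1 1 (le_of_eq hx32)).upd 2 3 1 (le_of_eq hx34)).upd 3 1 1 (le_of_eq hx42)).upd 3 2 2 (le_of_eq hx43)) ![0,1,1,1] (by decide) (by decide) 1 (by decide))
      · -- 34=(2,1)
        exact False.elim (cert_false T ((skipEmb 1).trans (Function.Embedding.refl _)) (by norm_num) (fun _ => hall _) (((((((LB_zero T ((skipEmb 1).trans (Function.Embedding.refl _))).upd 1 2 1 (le_of_eq hx23)).upd 1 3 1 (le_of_eq hx24)).upd 2 1 1 (le_of_eq hx32)).upd 2 3 2 (le_of_eq hx34)).upd 3 1 1 (le_of_eq hx42)).upd 3 2 1 (le_of_eq hx43)) ![0,1,1,1] (by decide) (by decide) 1 (by decide))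
      · -- 34=(1,3)
        exact False.elim (cert_false T ((skipEmb 2).trans (Function.Embedding.refl _)) (by norm_num) (fun _ => hall _) (((((LB_zero T ((skipEmb 2).trans (Function.Embedding.refl _))).upd 1 3 1 (le_of_eq hx14)).upd 2 3 1 (le_of_eq hx34)).upd 3 1 1 (le_of_eq hx41)).upd 3 2 3 (le_of_eq hx43)) ![0,1,1,2] (by decide) (by decide) 1 (by decide))
      · -- 34=(3,1)
        exact False.elim (cert_false T ((skipEmb 2).trans (Function.Embedding.refl _)) (by norm_num) (fun _ => hall _) (((((LB_zero T ((skipEmb 2).trans (Function.Embedding.refl _))).upd 0 2 1 (le_of_eq hx03)).upd 2 0 1 (le_of_eq hx30)).upd 2 3 3 (le_of_eq hx34)).upd 3 2 1 (le_of_eq hx43)) ![1,0,2,1] (by decide) (by decide) 0 (by decide))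
    · -- 24=(1,2)
      rcases d34 with ⟨rfl, rfl⟩ | ⟨rfl, rfl⟩ | ⟨rfl, rfl⟩ | ⟨rfl, rfl⟩ | ⟨rfl, rfl⟩ | ⟨rfl, rfl⟩
      · -- 34=(0,0)
        refine ⟨(⟨![0, 3, 2, 4, 1], ![0, 4, 2, 1, 3], by decide, by decide⟩ : Equiv.Perm (Fin 5)), T.m 0, T.w 4, Or.inr (Or.inr (Or.inl ?_))⟩
        show T.m 0 = T.m 0 ∧ T.m 3 = 2 * T.m 0 ∧ T.m 2 = 3 * T.m 0 ∧ T.m 4 = 4 * T.m 0 ∧ T.m 1 = 2 * T.m 0 ∧ T.w 0 = 2 * T.w 4 ∧ T.w 3 = 2 * T.w 4 ∧ T.w 2 = 2 * T.w 4 ∧ T.w 4 = T.w 4 ∧ T.w 1 = T.w 4 ∧ T.a 0 0 = -4 * T.w 4 ∧ T.a 0 3 = 2 * T.w 4 ∧ T.a 0 2 = 0 ∧ T.a 0 4 = 0 ∧ T.a 0 1 = 0 ∧ T.a 3 3 = -4 * T.w 4 ∧ T.a 3 2 = 2 * T.w 4 ∧ T.a 3 4 = 0 ∧ T.a 3 1 = 0 ∧ T.a 2 2 = -4 * T.w 4 ∧ T.a 2 4 = 2 * T.w 4 ∧ T.a 2 1 = 0 ∧ T.a 4 4 = -2 * T.w 4 ∧ T.a 4 1 = T.w 4 ∧ T.a 1 1 = -2 * T.w 4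
        refine ⟨?_, ?_, ?_, ?_, ?_, ?_, ?_, ?_, ?_, ?_, ?_, ?_, ?_, ?_, ?_, ?_, ?_, ?_, ?_, ?_, ?_, ?_, ?_, ?_, ?_⟩ <;> omega
      · -- 34=(1,1)
        exact False.elim (cert_false T ((skipEmb 1).trans (Function.Embedding.refl _)) (by norm_num) (fun _ => hall _) (((((((LB_zero T ((skipEmb 1).trans (Function.Embedding.refl _))).upd 1 2 1 (le_of_eq hx23)).upd 1 3 1 (le_of_eq hx24)).upd 2 1 1 (le_of_eq hx32)).upd 2 3 1 (le_of_eq hx34)).upd 3 1 2 (le_of_eq hx42)).upd 3 2 1 (le_of_eq hx43)) ![0,1,1,1] (by decide) (by decide) 1 (by decide))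
      · -- 34=(1,2)
        exact False.elim (cert_false T ((skipEmb 1).trans (Function.Embedding.refl _)) (by norm_num) (fun _ => hall _) (((((((LB_zero T ((skipEmb 1).trans (Function.Embedding.refl _))).upd 1 2 1 (le_of_eq hx23)).upd 1 3 1 (le_of_eq hx24)).upd 2 1 1 (le_of_eq hx32)).upd 2 3 1 (le_of_eq hx34)).upd 3 1 2 (le_of_eq hx42)).upd 3 2 2 (le_of_eq hx43)) ![0,1,1,1] (by decide) (by decide) 1 (by decide))
      · -- 34=(2,1)
        exact False.elim (cert_false T ((skipEmb 1).trans (Function.Embedding.refl _)) (by norm_num) (fun _ => hall _) (((((((LB_zero T ((skipEmb 1).trans (Function.Embedding.refl _))).upd 1 2 1 (le_of_eq hx23)).upd 1 3 1 (le_of_eq hx24)).upd 2 1 1 (le_of_eq hx32)).upd 2 3 2 (le_of_eq hx34)).upd 3 1 2 (le_of_eq hx42)).upd 3 2 1 (le_of_eq hx43)) ![0,1,1,1] (by decide) (by decide) 1 (by decide))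
      · -- 34=(1,3)
        exact False.elim (cert_false T ((skipEmb 2).trans (Function.Embedding.refl _)) (by norm_num) (fun _ => hall _) (((((LB_zero T ((skipEmb 2).trans (Function.Embedding.refl _))).upd 1 3 1 (le_of_eq hx14)).upd 2 3 1 (le_of_eq hx34)).upd 3 1 1 (le_of_eq hx41)).upd 3 2 3 (le_of_eq hx43)) ![0,1,1,2] (by decide) (by decide) 1 (by decide))
      · -- 34=(3,1)
        exact False.elim (cert_false T ((skipEmb 2).trans (Function.Embedding.refl _)) (by norm_num) (fun _ => hall _) (((((LB_zero T ((skipEmb 2).trans (Function.Embedding.refl _))).upd 0 2 1 (le_of_eq hx03)).upd 2 0 1 (le_of_eq hx30)).upd 2 3 3 (le_of_eq hx34)).upd 3 2 1 (le_of_eq hx43)) ![1,0,2,1] (by decide) (by decide) 0 (by decide))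
    · -- 24=(2,1)
      rcases d34 with ⟨rfl, rfl⟩ | ⟨rfl, rfl⟩ | ⟨rfl, rfl⟩ | ⟨rfl, rfl⟩ | ⟨rfl, rfl⟩ | ⟨rfl, rfl⟩
      · -- 34=(0,0)
        refine ⟨(⟨![0, 3, 2, 4, 1], ![0, 4, 2, 1, 3], by decide, by decide⟩ : Equiv.Perm (Fin 5)), T.m 0, T.w 0, Or.inr (Or.inl ?_)⟩
        show T.m 0 = T.m 0 ∧ T.m 3 = 2 * T.m 0 ∧ T.m 2 = 3 * T.m 0 ∧ T.m 4 = 2 * T.m 0 ∧ T.m 1 = T.m 0 ∧ T.w 0 = T.w 0 ∧ T.w 3 = T.w 0 ∧ T.w 2 = T.w 0 ∧ T.w 4 = 2 * T.w 0 ∧ T.w 1 = 2 * T.w 0 ∧ T.a 0 0 = -2 * T.w 0 ∧ T.a 0 3 = T.w 0 ∧ T.a 0 2 = 0 ∧ T.a 0 4 = 0 ∧ T.a 0 1 = 0 ∧ T.a 3 3 = -2 * T.w 0 ∧ T.a 3 2 = T.w 0 ∧ T.a 3 4 = 0 ∧ T.a 3 1 = 0 ∧ T.a 2 2 = -2 * T.w 0 ∧ T.a 2 4 = 2 * T.w 0 ∧ T.a 2 1 = 0 ∧ T.a 4 4 = -4 * T.w 0 ∧ T.a 4 1 = 2 * T.w 0 ∧ T.a 1 1 = -4 * T.w 0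
        refine ⟨?_, ?_, ?_, ?_, ?_, ?_, ?_, ?_, ?_, ?_, ?_, ?_, ?_, ?_, ?_, ?_, ?_, ?_, ?_, ?_, ?_, ?_, ?_, ?_, ?_⟩ <;> omega
      · -- 34=(1,1)
        exact False.elim (cert_false T ((skipEmb 1).trans (Function.Embedding.refl _)) (by norm_num) (fun _ => hall _) (((((((LB_zero T ((skipEmb 1).trans (Function.Embedding.refl _))).upd 1 2 1 (le_of_eq hx23)).upd 1 3 2 (le_of_eq hx24)).upd 2 1 1 (le_of_eq hx32)).upd 2 3 1 (le_of_eq hx34)).upd 3 1 1 (le_of_eq hx42)).upd 3 2 1 (le_of_eq hx43)) ![0,1,1,1] (by decide) (by decide) 1 (by decide))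
      · -- 34=(1,2)
        exact False.elim (cert_false T ((skipEmb 1).trans (Function.Embedding.refl _)) (by norm_num) (fun _ => hall _) (((((((LB_zero T ((skipEmb 1).trans (Function.Embedding.refl _))).upd 1 2 1 (le_of_eq hx23)).upd 1 3 2 (le_of_eq hx24)).upd 2 1 1 (le_of_eq hx32)).upd 2 3 1 (le_of_eq hx34)).upd 3 1 1 (le_of_eq hx42)).upd 3 2 2 (le_of_eq hx43)) ![0,1,1,1] (by decide) (by decide) 1 (by decide))
      · -- 34=(2,1)
        exact False.elim (cert_false T ((skipEmb 1).trans (Function.Embedding.refl _)) (by norm_num) (fun _ => hall _) (((((((LB_zero T ((skipEmb 1).trans (Function.Embedding.refl _))).upd 1 2 1 (le_of_eq hx23)).upd 1 3 2 (le_of_eq hx24)).upd 2 1 1 (le_of_eq hx32)).upd 2 3 2 (le_of_eq hx34)).upd 3 1 1 (le_of_eq hx42)).upd 3 2 1 (le_of_eq hx43)) ![0,1,1,1] (by decide) (by decide) 1 (by decide))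
      · -- 34=(1,3)
        exact False.elim (cert_false T ((skipEmb 2).trans (Function.Embedding.refl _)) (by norm_num) (fun _ => hall _) (((((LB_zero T ((skipEmb 2).trans (Function.Embedding.refl _))).upd 1 3 1 (le_of_eq hx14)).upd 2 3 1 (le_of_eq hx34)).upd 3 1 1 (le_of_eq hx41)).upd 3 2 3 (le_of_eq hx43)) ![0,1,1,2] (by decide) (by decide) 1 (by decide))
      · -- 34=(3,1)
        exact False.elim (cert_false T ((skipEmb 2).trans (Function.Embedding.refl _)) (by norm_num) (fun _ => hall _) (((((LB_zero T ((skipEmb 2).trans (Function.Embedding.refl _))).upd 0 2 1 (le_of_eq hx03)).upd 2 0 1 (le_of_eq hx30)).upd 2 3 3 (le_of_eq hx34)).upd 3 2 1 (le_of_eq hx43)) ![1,0,2,1] (by decide) (by decide) 0 (by decide))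
    · -- 24=(1,3)
      exact False.elim (cert_false T ((skipEmb 3).trans (Function.Embedding.refl _)) (by norm_num) (fun _ => hall _) (((((LB_zero T ((skipEmb 3).trans (Function.Embedding.refl _))).upd 1 3 1 (le_of_eq hx14)).upd 2 3 1 (le_of_eq hx24)).upd 3 1 1 (le_of_eq hx41)).upd 3 2 3 (le_of_eq hx42)) ![0,1,1,2] (by decide) (by decide) 1 (by decide))
    · -- 24=(3,1)
      exact False.elim (cert_false T ((skipEmb 3).trans (Function.Embedding.refl _)) (by norm_num) (fun _ => hall _) (((((LB_zero T ((skipEmb 3).trans (Function.Embedding.refl _))).upd 1 3 1 (le_of_eq hx14)).upd 2 3 3 (le_of_eq hx24)).upd 3 1 1 (le_of_eq hx41)).upd 3 2 1 (le_of_eq hx42)) ![0,1,3,2] (by decide) (by decide) 1 (by decide))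
  · -- 14=(1,2)
    rcases d24 with ⟨rfl, rfl⟩ | ⟨rfl, rfl⟩ | ⟨rfl, rfl⟩ | ⟨rfl, rfl⟩ | ⟨rfl, rfl⟩ | ⟨rfl, rfl⟩
    · -- 24=(0,0)
      rcases d34 with ⟨rfl, rfl⟩ | ⟨rfl, rfl⟩ | ⟨rfl, rfl⟩ | ⟨rfl, rfl⟩ | ⟨rfl, rfl⟩ | ⟨rfl, rfl⟩
      · -- 34=(0,0)
        exfalso; omega
      · -- 34=(1,1)
        refine ⟨(⟨![1, 4, 3, 0, 2], ![3, 0, 4, 2, 1], by decide, by decide⟩ : Equiv.Perm (Fin 5)), T.m 1, T.w 4, Or.inr (Or.inr (Or.inr (Or.inr (Or.inr (Or.inr (Or.inr (Or.inl ?_)))))))⟩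
        show T.m 1 = T.m 1 ∧ T.m 4 = 2 * T.m 1 ∧ T.m 3 = 2 * T.m 1 ∧ T.m 0 = T.m 1 ∧ T.m 2 = T.m 1 ∧ T.w 1 = 2 * T.w 4 ∧ T.w 4 = T.w 4 ∧ T.w 3 = T.w 4 ∧ T.w 0 = T.w 4 ∧ T.w 2 = T.w 4 ∧ T.a 1 1 = -4 * T.w 4 ∧ T.a 1 4 = 2 * T.w 4 ∧ T.a 1 3 = 0 ∧ T.a 1 0 = 0 ∧ T.a 1 2 = 0 ∧ T.a 4 4 = -2 * T.w 4 ∧ T.a 4 3 = T.w 4 ∧ T.a 4 0 = 0 ∧ T.a 4 2 = 0 ∧ T.a 3 3 = -2 * T.w 4 ∧ T.a 3 0 = T.w 4 ∧ T.a 3 2 = T.w 4 ∧ T.a 0 0 = -2 * T.w 4 ∧ T.a 0 2 = 0 ∧ T.a 2 2 = -2 * T.w 4
        refine ⟨?_, ?_, ?_, ?_, ?_, ?_, ?_, ?_, ?_, ?_, ?_, ?_, ?_, ?_, ?_, ?_, ?_, ?_, ?_, ?_, ?_, ?_, ?_, ?_, ?_⟩ <;> omega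
      · -- 34=(1,2)
        exact False.elim (cert_false T ((skipEmb 2).trans (Function.Embedding.refl _)) (by norm_num) (fun _ => hall _) (((((LB_zero T ((skipEmb 2).trans (Function.Embedding.refl _))).upd 1 3 1 (le_of_eq hx14)).upd 2 3 1 (le_of_eq hx34)).upd 3 1 2 (le_of_eq hx41)).upd 3 2 2 (le_of_eq hx43)) ![0,1,1,2] (by decide) (by decide) 1 (by decide))
      · -- 34=(2,1)
        exact False.elim (cert_false T ((skipEmb 2).trans (Function.Embedding.refl _)) (by norm_num) (fun _ => hall _) (((((LB_zero T ((skipEmb 2).trans (Function.Embedding.refl _))).upd 1 3 1 (le_of_eq hx14)).upd 2 3 2 (le_of_eq hx34)).upd 3 1 2 (le_of_eq hx41)).upd 3 2 1 (le_of_eq hx43)) ![0,1,2,2] (by decide) (by decide) 1 (by decide))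
      · -- 34=(1,3)
        exact False.elim (cert_false T ((skipEmb 2).trans (Function.Embedding.refl _)) (by norm_num) (fun _ => hall _) (((((LB_zero T ((skipEmb 2).trans (Function.Embedding.refl _))).upd 1 3 1 (le_of_eq hx14)).upd 2 3 1 (le_of_eq hx34)).upd 3 1 2 (le_of_eq hx41)).upd 3 2 3 (le_of_eq hx43)) ![0,1,1,2] (by decide) (by decide) 1 (by decide))
      · -- 34=(3,1)
        exact False.elim (cert_false T ((skipEmb 2).trans (Function.Embedding.refl _)) (by norm_num) (fun _ => hall _) (((((LB_zero T ((skipEmb 2).trans (Function.Embedding.refl _))).upd 1 3 1 (le_of_eq hx14)).upd 2 3 3 (le_of_eq hx34)).upd 3 1 2 (le_of_eq hx41)).upd 3 2 1 (le_of_eq hx43)) ![0,1,2,2] (by decide) (by decide) 1 (by decide))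
    · -- 24=(1,1)
      rcases d34 with ⟨rfl, rfl⟩ | ⟨rfl, rfl⟩ | ⟨rfl, rfl⟩ | ⟨rfl, rfl⟩ | ⟨rfl, rfl⟩ | ⟨rfl, rfl⟩
      · -- 34=(0,0)
        exfalso; omega
      · -- 34=(1,1)
        exact False.elim (cert_false T ((skipEmb 1).trans (Function.Embedding.refl _)) (by norm_num) (fun _ => hall _) (((((((LB_zero T ((skipEmb 1).trans (Function.Embedding.refl _))).upd 1 2 1 (le_of_eq hx23)).upd 1 3 1 (le_of_eq hx24)).upd 2 1 1 (le_of_eq hx32)).upd 2 3 1 (le_of_eq hx34)).upd 3 1 1 (le_of_eq hx42)).upd 3 2 1 (le_of_eq hx43)) ![0,1,1,1] (by decide) (by decide) 1 (by decide))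
      · -- 34=(1,2)
        exact False.elim (cert_false T ((skipEmb 2).trans (Function.Embedding.refl _)) (by norm_num) (fun _ => hall _) (((((LB_zero T ((skipEmb 2).trans (Function.Embedding.refl _))).upd 1 3 1 (le_of_eq hx14)).upd 2 3 1 (le_of_eq hx34)).upd 3 1 2 (le_of_eq hx41)).upd 3 2 2 (le_of_eq hx43)) ![0,1,1,2] (by decide) (by decide) 1 (by decide))
      · -- 34=(2,1)
        exact False.elim (cert_false T ((skipEmb 2).trans (Function.Embedding.refl _)) (by norm_num) (fun _ => hall _) (((((LB_zero T ((skipEmb 2).trans (Function.Embedding.refl _))).upd 1 3 1 (le_of_eq hx14)).upd 2 3 2 (le_of_eq hx34)).upd 3 1 2 (le_of_eq hx41)).upd 3 2 1 (le_of_eq hx43)) ![0,1,2,2] (by decide) (by decide) 1 (by decide))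
      · -- 34=(1,3)
        exact False.elim (cert_false T ((skipEmb 2).trans (Function.Embedding.refl _)) (by norm_num) (fun _ => hall _) (((((LB_zero T ((skipEmb 2).trans (Function.Embedding.refl _))).upd 1 3 1 (le_of_eq hx14)).upd 2 3 1 (le_of_eq hx34)).upd 3 1 2 (le_of_eq hx41)).upd 3 2 3 (le_of_eq hx43)) ![0,1,1,2] (by decide) (by decide) 1 (by decide))
      · -- 34=(3,1)
        exact False.elim (cert_false T ((skipEmb 2).trans (Function.Embedding.refl _)) (by norm_num) (fun _ => hall _) (((((LB_zero T ((skipEmb 2).trans (Function.Embedding.refl _))).upd 1 3 1 (le_of_eq hx14)).upd 2 3 3 (le_of_eq hx34)).upd 3 1 2 (le_of_eq hx41)).upd 3 2 1 (le_of_eq hx43)) ![0,1,2,2] (by decide) (by decide) 1 (by decide))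
    · -- 24=(1,2)
      exact False.elim (cert_false T ((skipEmb 3).trans (Function.Embedding.refl _)) (by norm_num) (fun _ => hall _) (((((LB_zero T ((skipEmb 3).trans (Function.Embedding.refl _))).upd 1 3 1 (le_of_eq hx14)).upd 2 3 1 (le_of_eq hx24)).upd 3 1 2 (le_of_eq hx41)).upd 3 2 2 (le_of_eq hx42)) ![0,1,1,2] (by decide) (by decide) 1 (by decide))
    · -- 24=(2,1)
      exact False.elim (cert_false T ((skipEmb 3).trans (Function.Embedding.refl _)) (by norm_num) (fun _ => hall _) (((((LB_zero T ((skipEmb 3).trans (Function.Embedding.refl _))).upd 1 3 1 (le_of_eq hx14)).upd 2 3 2 (le_of_eq hx24)).upd 3 1 2 (le_of_eq hx41)).upd 3 2 1 (le_of_eq hx42)) ![0,1,2,2] (by decide) (by decide) 1 (by decide))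
    · -- 24=(1,3)
      exact False.elim (cert_false T ((skipEmb 3).trans (Function.Embedding.refl _)) (by norm_num) (fun _ => hall _) (((((LB_zero T ((skipEmb 3).trans (Function.Embedding.refl _))).upd 1 3 1 (le_of_eq hx14)).upd 2 3 1 (le_of_eq hx24)).upd 3 1 2 (le_of_eq hx41)).upd 3 2 3 (le_of_eq hx42)) ![0,1,1,2] (by decide) (by decide) 1 (by decide))
    · -- 24=(3,1)
      exact False.elim (cert_false T ((skipEmb 3).trans (Function.Embedding.refl _)) (by norm_num) (fun _ => hall _) (((((LB_zero T ((skipEmb 3).trans (Function.Embedding.refl _))).upd 1 3 1 (le_of_eq hx14)).upd 2 3 3 (le_of_eq hx24)).upd 3 1 2 (le_of_eq hx41)).upd 3 2 1 (le_of_eq hx42)) ![0,1,2,2] (by decide) (by decide) 1 (by decide))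
  · -- 14=(2,1)
    rcases d24 with ⟨rfl, rfl⟩ | ⟨rfl, rfl⟩ | ⟨rfl, rfl⟩ | ⟨rfl, rfl⟩ | ⟨rfl, rfl⟩ | ⟨rfl, rfl⟩
    · -- 24=(0,0)
      rcases d34 with ⟨rfl, rfl⟩ | ⟨rfl, rfl⟩ | ⟨rfl, rfl⟩ | ⟨rfl, rfl⟩ | ⟨rfl, rfl⟩ | ⟨rfl, rfl⟩
      · -- 34=(0,0)
        exfalso; omega
      · -- 34=(1,1)
        refine ⟨(⟨![1, 4, 3, 0, 2], ![3, 0, 4, 2, 1], by decide, by decide⟩ : Equiv.Perm (Fin 5)), T.m 0, T.w 1, Or.inr (Or.inr (Or.inr (Or.inr (Or.inr (Or.inr (Or.inr (Or.inr (?_))))))))⟩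
        show T.m 1 = 2 * T.m 0 ∧ T.m 4 = 2 * T.m 0 ∧ T.m 3 = 2 * T.m 0 ∧ T.m 0 = T.m 0 ∧ T.m 2 = T.m 0 ∧ T.w 1 = T.w 1 ∧ T.w 4 = 2 * T.w 1 ∧ T.w 3 = 2 * T.w 1 ∧ T.w 0 = 2 * T.w 1 ∧ T.w 2 = 2 * T.w 1 ∧ T.a 1 1 = -2 * T.w 1 ∧ T.a 1 4 = 2 * T.w 1 ∧ T.a 1 3 = 0 ∧ T.a 1 0 = 0 ∧ T.a 1 2 = 0 ∧ T.a 4 4 = -4 * T.w 1 ∧ T.a 4 3 = 2 * T.w 1 ∧ T.a 4 0 = 0 ∧ T.a 4 2 = 0 ∧ T.a 3 3 = -4 * T.w 1 ∧ T.a 3 0 = 2 * T.w 1 ∧ T.a 3 2 = 2 * T.w 1 ∧ T.a 0 0 = -4 * T.w 1 ∧ T.a 0 2 = 0 ∧ T.a 2 2 = -4 * T.w 1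
        refine ⟨?_, ?_, ?_, ?_, ?_, ?_, ?_, ?_, ?_, ?_, ?_, ?_, ?_, ?_, ?_, ?_, ?_, ?_, ?_, ?_, ?_, ?_, ?_, ?_, ?_⟩ <;> omega
      · -- 34=(1,2)
        exact False.elim (cert_false T ((skipEmb 2).trans (Function.Embedding.refl _)) (by norm_num) (fun _ => hall _) (((((LB_zero T ((skipEmb 2).trans (Function.Embedding.refl _))).upd 1 3 2 (le_of_eq hx14)).upd 2 3 1 (le_of_eq hx34)).upd 3 1 1 (le_of_eq hx41)).upd 3 2 2 (le_of_eq hx43)) ![0,2,1,2] (by decide) (by decide) 1 (by decide))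
      · -- 34=(2,1)
        exact False.elim (cert_false T ((skipEmb 2).trans (Function.Embedding.refl _)) (by norm_num) (fun _ => hall _) (((((LB_zero T ((skipEmb 2).trans (Function.Embedding.refl _))).upd 1 3 2 (le_of_eq hx14)).upd 2 3 2 (le_of_eq hx34)).upd 3 1 1 (le_of_eq hx41)).upd 3 2 1 (le_of_eq hx43)) ![0,1,1,1] (by decide) (by decide) 1 (by decide))
      · -- 34=(1,3)
        exact False.elim (cert_false T ((skipEmb 2).trans (Function.Embedding.refl _)) (by norm_num) (fun _ => hall _) (((((LB_zero T ((skipEmb 2).trans (Function.Embedding.refl _))).upd 1 3 2 (le_of_eq hx14)).upd 2 3 1 (le_of_eq hx34)).upd 3 1 1 (le_of_eq hx41)).upd 3 2 3 (le_of_eq hx43)) ![0,1,1,2] (by decide) (by decide) 1 (by decide))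
      · -- 34=(3,1)
        exact False.elim (cert_false T ((skipEmb 2).trans (Function.Embedding.refl _)) (by norm_num) (fun _ => hall _) (((((LB_zero T ((skipEmb 2).trans (Function.Embedding.refl _))).upd 1 3 2 (le_of_eq hx14)).upd 2 3 3 (le_of_eq hx34)).upd 3 1 1 (le_of_eq hx41)).upd 3 2 1 (le_of_eq hx43)) ![0,1,1,1] (by decide) (by decide) 1 (by decide))
    · -- 24=(1,1)
      rcases d34 with ⟨rfl, rfl⟩ | ⟨rfl, rfl⟩ | ⟨rfl, rfl⟩ | ⟨rfl, rfl⟩ | ⟨rfl, rfl⟩ | ⟨rfl, rfl⟩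
      · -- 34=(0,0)
        exfalso; omega
      · -- 34=(1,1)
        exact False.elim (cert_false T ((skipEmb 1).trans (Function.Embedding.refl _)) (by norm_num) (fun _ => hall _) (((((((LB_zero T ((skipEmb 1).trans (Function.Embedding.refl _))).upd 1 2 1 (le_of_eq hx23)).upd 1 3 1 (le_of_eq hx24)).upd 2 1 1 (le_of_eq hx32)).upd 2 3 1 (le_of_eq hx34)).upd 3 1 1 (le_of_eq hx42)).upd 3 2 1 (le_of_eq hx43)) ![0,1,1,1] (by decide) (by decide) 1 (by decide))
      · -- 34=(1,2)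
        exact False.elim (cert_false T ((skipEmb 2).trans (Function.Embedding.refl _)) (by norm_num) (fun _ => hall _) (((((LB_zero T ((skipEmb 2).trans (Function.Embedding.refl _))).upd 1 3 2 (le_of_eq hx14)).upd 2 3 1 (le_of_eq hx34)).upd 3 1 1 (le_of_eq hx41)).upd 3 2 2 (le_of_eq hx43)) ![0,2,1,2] (by decide) (by decide) 1 (by decide))
      · -- 34=(2,1)
        exact False.elim (cert_false T ((skipEmb 2).trans (Function.Embedding.refl _)) (by norm_num) (fun _ => hall _) (((((LB_zero T ((skipEmb 2).trans (Function.Embedding.refl _))).upd 1 3 2 (le_of_eq hx14)).upd 2 3 2 (le_of_eq hx34)).upd 3 1 1 (le_of_eq hx41)).upd 3 2 1 (le_of_eq hx43)) ![0,1,1,1] (by decide) (by decide) 1 (by decide))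
      · -- 34=(1,3)
        exact False.elim (cert_false T ((skipEmb 2).trans (Function.Embedding.refl _)) (by norm_num) (fun _ => hall _) (((((LB_zero T ((skipEmb 2).trans (Function.Embedding.refl _))).upd 1 3 2 (le_of_eq hx14)).upd 2 3 1 (le_of_eq hx34)).upd 3 1 1 (le_of_eq hx41)).upd 3 2 3 (le_of_eq hx43)) ![0,1,1,2] (by decide) (by decide) 1 (by decide))
      · -- 34=(3,1)
        exact False.elim (cert_false T ((skipEmb 2).trans (Function.Embedding.refl _)) (by norm_num) (fun _ => hall _) (((((LB_zero T ((skipEmb 2).trans (Function.Embedding.refl _))).upd 1 3 2 (le_of_eq hx14)).upd 2 3 3 (le_of_eq hx34)).upd 3 1 1 (le_of_eq hx41)).upd 3 2 1 (le_of_eq hx43)) ![0,1,1,1] (by decide) (by decide) 1 (by decide))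
    · -- 24=(1,2)
      exact False.elim (cert_false T ((skipEmb 3).trans (Function.Embedding.refl _)) (by norm_num) (fun _ => hall _) (((((LB_zero T ((skipEmb 3).trans (Function.Embedding.refl _))).upd 1 3 2 (le_of_eq hx14)).upd 2 3 1 (le_of_eq hx24)).upd 3 1 1 (le_of_eq hx41)).upd 3 2 2 (le_of_eq hx42)) ![0,2,1,2] (by decide) (by decide) 1 (by decide))
    · -- 24=(2,1)
      exact False.elim (cert_false T ((skipEmb 3).trans (Function.Embedding.refl _)) (by norm_num) (fun _ => hall _) (((((LB_zero T ((skipEmb 3).trans (Function.Embedding.refl _))).upd 1 3 2 (le_of_eq hx14)).upd 2 3 2 (le_of_eq hx24)).upd 3 1 1 (le_of_eq hx41)).upd 3 2 1 (le_of_eq hx42)) ![0,1,1,1] (by decide) (by decide) 1 (by decide))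
    · -- 24=(1,3)
      exact False.elim (cert_false T ((skipEmb 3).trans (Function.Embedding.refl _)) (by norm_num) (fun _ => hall _) (((((LB_zero T ((skipEmb 3).trans (Function.Embedding.refl _))).upd 1 3 2 (le_of_eq hx14)).upd 2 3 1 (le_of_eq hx24)).upd 3 1 1 (le_of_eq hx41)).upd 3 2 3 (le_of_eq hx42)) ![0,1,1,2] (by decide) (by decide) 1 (by decide))
    · -- 24=(3,1)
      exact False.elim (cert_false T ((skipEmb 3).trans (Function.Embedding.refl _)) (by norm_num) (fun _ => hall _) (((((LB_zero T ((skipEmb 3).trans (Function.Embedding.refl _))).upd 1 3 2 (le_of_eq hx14)).upd 2 3 3 (le_of_eq hx24)).upd 3 1 1 (le_of_eq hx41)).upd 3 2 1 (le_of_eq hx42)) ![0,1,1,1] (by decide) (by decide) 1 (by decide))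
  · -- 14=(1,3)
    rcases d24 with ⟨rfl, rfl⟩ | ⟨rfl, rfl⟩ | ⟨rfl, rfl⟩ | ⟨rfl, rfl⟩ | ⟨rfl, rfl⟩ | ⟨rfl, rfl⟩
    · -- 24=(0,0)
      rcases d34 with ⟨rfl, rfl⟩ | ⟨rfl, rfl⟩ | ⟨rfl, rfl⟩ | ⟨rfl, rfl⟩ | ⟨rfl, rfl⟩ | ⟨rfl, rfl⟩
      · -- 34=(0,0)
        exfalso; omega
      · -- 34=(1,1)
        exact False.elim (cert_false T ((skipEmb 2).trans (Function.Embedding.refl _)) (by norm_num) (fun _ => hall _) (((((LB_zero T ((skipEmb 2).trans (Function.Embedding.refl _))).upd 1 3 1 (le_of_eq hx14)).upd 2 3 1 (le_of_eq hx34)).upd 3 1 3 (le_of_eq hx41)).upd 3 2 1 (le_of_eq hx43)) ![0,1,1,2] (by decide) (by decide) 1 (by decide))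
      · -- 34=(1,2)
        exact False.elim (cert_false T ((skipEmb 2).trans (Function.Embedding.refl _)) (by norm_num) (fun _ => hall _) (((((LB_zero T ((skipEmb 2).trans (Function.Embedding.refl _))).upd 1 3 1 (le_of_eq hx14)).upd 2 3 1 (le_of_eq hx34)).upd 3 1 3 (le_of_eq hx41)).upd 3 2 2 (le_of_eq hx43)) ![0,1,1,2] (by decide) (by decide) 1 (by decide))
      · -- 34=(2,1)
        exact False.elim (cert_false T ((skipEmb 2).trans (Function.Embedding.refl _)) (by norm_num) (fun _ => hall _) (((((LB_zero T ((skipEmb 2).trans (Function.Embedding.refl _))).upd 1 3 1 (le_of_eq hx14)).upd 2 3 2 (le_of_eq hx34)).upd 3 1 3 (le_of_eq hx41)).upd 3 2 1 (le_of_eq hx43)) ![0,1,1,2] (by decide) (by decide) 1 (by decide))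
      · -- 34=(1,3)
        exact False.elim (cert_false T ((skipEmb 2).trans (Function.Embedding.refl _)) (by norm_num) (fun _ => hall _) (((((LB_zero T ((skipEmb 2).trans (Function.Embedding.refl _))).upd 1 3 1 (le_of_eq hx14)).upd 2 3 1 (le_of_eq hx34)).upd 3 1 3 (le_of_eq hx41)).upd 3 2 3 (le_of_eq hx43)) ![0,1,1,2] (by decide) (by decide) 1 (by decide))
      · -- 34=(3,1)
        exact False.elim (cert_false T ((skipEmb 2).trans (Function.Embedding.refl _)) (by norm_num) (fun _ => hall _) (((((LB_zero T ((skipEmb 2).trans (Function.Embedding.refl _))).upd 1 3 1 (le_of_eq hx14)).upd 2 3 3 (le_of_eq hx34)).upd 3 1 3 (le_of_eq hx41)).upd 3 2 1 (le_of_eq hx43)) ![0,1,1,2] (by decide) (by decide) 1 (by decide))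
    · -- 24=(1,1)
      exact False.elim (cert_false T ((skipEmb 3).trans (Function.Embedding.refl _)) (by norm_num) (fun _ => hall _) (((((LB_zero T ((skipEmb 3).trans (Function.Embedding.refl _))).upd 1 3 1 (le_of_eq hx14)).upd 2 3 1 (le_of_eq hx24)).upd 3 1 3 (le_of_eq hx41)).upd 3 2 1 (le_of_eq hx42)) ![0,1,1,2] (by decide) (by decide) 1 (by decide))
    · -- 24=(1,2)
      exact False.elim (cert_false T ((skipEmb 3).trans (Function.Embedding.refl _)) (by norm_num) (fun _ => hall _) (((((LB_zero T ((skipEmb 3).trans (Function.Embedding.refl _))).upd 1 3 1 (le_of_eq hx14)).upd 2 3 1 (le_of_eq hx24)).upd 3 1 3 (le_of_eq hx41)).upd 3 2 2 (le_of_eq hx42)) ![0,1,1,2] (by decide) (by decide) 1 (by decide))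
    · -- 24=(2,1)
      exact False.elim (cert_false T ((skipEmb 3).trans (Function.Embedding.refl _)) (by norm_num) (fun _ => hall _) (((((LB_zero T ((skipEmb 3).trans (Function.Embedding.refl _))).upd 1 3 1 (le_of_eq hx14)).upd 2 3 2 (le_of_eq hx24)).upd 3 1 3 (le_of_eq hx41)).upd 3 2 1 (le_of_eq hx42)) ![0,1,1,2] (by decide) (by decide) 1 (by decide))
    · -- 24=(1,3)
      exact False.elim (cert_false T ((skipEmb 3).trans (Function.Embedding.refl _)) (by norm_num) (fun _ => hall _) (((((LB_zero T ((skipEmb 3).trans (Function.Embedding.refl _))).upd 1 3 1 (le_of_eq hx14)).upd 2 3 1 (le_of_eq hx24)).upd 3 1 3 (le_of_eq hx41)).upd 3 2 3 (le_of_eq hx42)) ![0,1,1,2] (by decide) (by decide) 1 (by decide))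
    · -- 24=(3,1)
      exact False.elim (cert_false T ((skipEmb 3).trans (Function.Embedding.refl _)) (by norm_num) (fun _ => hall _) (((((LB_zero T ((skipEmb 3).trans (Function.Embedding.refl _))).upd 1 3 1 (le_of_eq hx14)).upd 2 3 3 (le_of_eq hx24)).upd 3 1 3 (le_of_eq hx41)).upd 3 2 1 (le_of_eq hx42)) ![0,1,1,2] (by decide) (by decide) 1 (by decide))
  · -- 14=(3,1)
    rcases d24 with ⟨rfl, rfl⟩ | ⟨rfl, rfl⟩ | ⟨rfl, rfl⟩ | ⟨rfl, rfl⟩ | ⟨rfl, rfl⟩ | ⟨rfl, rfl⟩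
    · -- 24=(0,0)
      rcases d34 with ⟨rfl, rfl⟩ | ⟨rfl, rfl⟩ | ⟨rfl, rfl⟩ | ⟨rfl, rfl⟩ | ⟨rfl, rfl⟩ | ⟨rfl, rfl⟩
      · -- 34=(0,0)
        exfalso; omega
      · -- 34=(1,1)
        exact False.elim (cert_false T ((skipEmb 2).trans (Function.Embedding.refl _)) (by norm_num) (fun _ => hall _) (((((LB_zero T ((skipEmb 2).trans (Function.Embedding.refl _))).upd 1 3 3 (le_of_eq hx14)).upd 2 3 1 (le_of_eq hx34)).upd 3 1 1 (le_of_eq hx41)).upd 3 2 1 (le_of_eq hx43)) ![0,3,1,2] (by decide) (by decide) 1 (by decide))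
      · -- 34=(1,2)
        exact False.elim (cert_false T ((skipEmb 2).trans (Function.Embedding.refl _)) (by norm_num) (fun _ => hall _) (((((LB_zero T ((skipEmb 2).trans (Function.Embedding.refl _))).upd 1 3 3 (le_of_eq hx14)).upd 2 3 1 (le_of_eq hx34)).upd 3 1 1 (le_of_eq hx41)).upd 3 2 2 (le_of_eq hx43)) ![0,2,1,2] (by decide) (by decide) 1 (by decide))
      · -- 34=(2,1)
        exact False.elim (cert_false T ((skipEmb 2).trans (Function.Embedding.refl _)) (by norm_num) (fun _ => hall _) (((((LB_zero T ((skipEmb 2).trans (Function.Embedding.refl _))).upd 1 3 3 (le_of_eq hx14)).upd 2 3 2 (le_of_eq hx34)).upd 3 1 1 (le_of_eq hx41)).upd 3 2 1 (le_of_eq hx43)) ![0,1,1,1] (by decide) (by decide) 1 (by decide))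
      · -- 34=(1,3)
        exact False.elim (cert_false T ((skipEmb 2).trans (Function.Embedding.refl _)) (by norm_num) (fun _ => hall _) (((((LB_zero T ((skipEmb 2).trans (Function.Embedding.refl _))).upd 1 3 3 (le_of_eq hx14)).upd 2 3 1 (le_of_eq hx34)).upd 3 1 1 (le_of_eq hx41)).upd 3 2 3 (le_of_eq hx43)) ![0,1,1,2] (by decide) (by decide) 1 (by decide))
      · -- 34=(3,1)
        exact False.elim (cert_false T ((skipEmb 2).trans (Function.Embedding.refl _)) (by norm_num) (fun _ => hall _) (((((LB_zero T ((skipEmb 2).trans (Function.Embedding.refl _))).upd 1 3 3 (le_of_eq hx14)).upd 2 3 3 (le_of_eq hx34)).upd 3 1 1 (le_of_eq hx41)).upd 3 2 1 (le_of_eq hx43)) ![0,1,1,1] (by decide) (by decide) 1 (by decide))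
    · -- 24=(1,1)
      exact False.elim (cert_false T ((skipEmb 3).trans (Function.Embedding.refl _)) (by norm_num) (fun _ => hall _) (((((LB_zero T ((skipEmb 3).trans (Function.Embedding.refl _))).upd 1 3 3 (le_of_eq hx14)).upd 2 3 1 (le_of_eq hx24)).upd 3 1 1 (le_of_eq hx41)).upd 3 2 1 (le_of_eq hx42)) ![0,3,1,2] (by decide) (by decide) 1 (by decide))
    · -- 24=(1,2)
      exact False.elim (cert_false T ((skipEmb 3).trans (Function.Embedding.refl _)) (by norm_num) (fun _ => hall _) (((((LB_zero T ((skipEmb 3).trans (Function.Embedding.refl _))).upd 1 3 3 (le_of_eq hx14)).upd 2 3 1 (le_of_eq hx24)).upd 3 1 1 (le_of_eq hx41)).upd 3 2 2 (le_of_eq hx42)) ![0,2,1,2] (by decide) (by decide) 1 (by decide))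
    · -- 24=(2,1)
      exact False.elim (cert_false T ((skipEmb 3).trans (Function.Embedding.refl _)) (by norm_num) (fun _ => hall _) (((((LB_zero T ((skipEmb 3).trans (Function.Embedding.refl _))).upd 1 3 3 (le_of_eq hx14)).upd 2 3 2 (le_of_eq hx24)).upd 3 1 1 (le_of_eq hx41)).upd 3 2 1 (le_of_eq hx42)) ![0,1,1,1] (by decide) (by decide) 1 (by decide))
    · -- 24=(1,3)
      exact False.elim (cert_false T ((skipEmb 3).trans (Function.Embedding.refl _)) (by norm_num) (fun _ => hall _) (((((LB_zero T ((skipEmb 3).trans (Function.Embedding.refl _))).upd 1 3 3 (le_of_eq hx14)).upd 2 3 1 (le_of_eq hx24)).upd 3 1 1 (le_of_eq hx41)).upd 3 2 3 (le_of_eq hx42)) ![0,1,1,2] (by decide) (by decide) 1 (by decide))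
    · -- 24=(3,1)
      exact False.elim (cert_false T ((skipEmb 3).trans (Function.Embedding.refl _)) (by norm_num) (fun _ => hall _) (((((LB_zero T ((skipEmb 3).trans (Function.Embedding.refl _))).upd 1 3 3 (le_of_eq hx14)).upd 2 3 3 (le_of_eq hx24)).upd 3 1 1 (le_of_eq hx41)).upd 3 2 1 (le_of_eq hx42)) ![0,1,1,1] (by decide) (by decide) 1 (by decide))

theorem case47 (T : NumericalType 5) (hall : ∀ i, T.IsMinusTwo i) (d : SData T)
    (h01 : N T (Function.Embedding.refl _) 0 1 = 0) (h10 : N T (Function.Embedding.refl _) 1 0 = 0)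
    (h02 : N T (Function.Embedding.refl _) 0 2 = 0) (h20 : N T (Function.Embedding.refl _) 2 0 = 0)
    (h12 : N T (Function.Embedding.refl _) 1 2 = 0) (h21 : N T (Function.Embedding.refl _) 2 1 = 0)
    (h03 : N T (Function.Embedding.refl _) 0 3 = 1) (h30 : N T (Function.Embedding.refl _) 3 0 = 1)
    (h13 : N T (Function.Embedding.refl _) 1 3 = 0) (h31 : N T (Function.Embedding.refl _) 3 1 = 0)
    (h23 : N T (Function.Embedding.refl _) 2 3 = 1) (h32 : N T (Function.Embedding.refl _) 3 2 = 1) :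
    Goal T := by
  unfold Goal
  have hd := d
  obtain ⟨x01, x02, x03, x04, x10, x12, x13, x14, x20, x21, x23, x24, x30, x31, x32, x34, x40, x41, x42, x43, hx01, hx02, hx03, hx04, hx10, hx12, hx13, hx14, hx20, hx21, hx23, hx24, hx30, hx31, hx32, hx34, hx40, hx41, hx42, hx43, hw0, hm0, hw1, hm1, hw2, hm2, hw3, hm3, hw4, hm4, a00, a01, a02, a03, a04, a11, a10, a12, a13, a14, a22, a20, a21, a23, a24, a33, a30, a31, a32, a34, a44, a40, a41, a42, a43, wN01, wN02, wN12, wN03, wN13, wN23, wN04, wN14, wN24, wN34, e0, e1, e2, e3, e4, d01, d02, d12, d03, d13, d23, d04, d14, d24, d34⟩ := d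
  obtain rfl : x01 = 0 := hx01.trans h01
  obtain rfl : x10 = 0 := hx10.trans h10
  obtain rfl : x02 = 0 := hx02.trans h02
  obtain rfl : x20 = 0 := hx20.trans h20
  obtain rfl : x12 = 0 := hx12.trans h12
  obtain rfl : x21 = 0 := hx21.trans h21
  obtain rfl : x03 = 1 := hx03.trans h03
  obtain rfl : x30 = 1 := hx30.trans h30
  obtain rfl : x13 = 0 := hx13.trans h13
  obtain rfl : x31 = 0 := hx31.trans h31
  obtain rfl : x23 = 1 := hx23.trans h23
  obtain rfl : x32 = 1 := hx32.trans h32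
  rcases d04 with ⟨rfl, rfl⟩ | ⟨rfl, rfl⟩ | ⟨rfl, rfl⟩ | ⟨rfl, rfl⟩ | ⟨rfl, rfl⟩ | ⟨rfl, rfl⟩
  · -- 04=(0,0)
    exact case48 T hall hd hx01.symm hx10.symm hx02.symm hx20.symm hx12.symm hx21.symm hx03.symm hx30.symm hx13.symm hx31.symm hx23.symm hx32.symm hx04.symm hx40.symm
  · -- 04=(1,1)
    rcases d14 with ⟨rfl, rfl⟩ | ⟨rfl, rfl⟩ | ⟨rfl, rfl⟩ | ⟨rfl, rfl⟩ | ⟨rfl, rfl⟩ | ⟨rfl, rfl⟩
    · -- 14=(0,0)
      rcases d24 with ⟨rfl, rfl⟩ | ⟨rfl, rfl⟩ | ⟨rfl, rfl⟩ | ⟨rfl, rfl⟩ | ⟨rfl, rfl⟩ | ⟨rfl, rfl⟩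
      · -- 24=(0,0)
        rcases d34 with ⟨rfl, rfl⟩ | ⟨rfl, rfl⟩ | ⟨rfl, rfl⟩ | ⟨rfl, rfl⟩ | ⟨rfl, rfl⟩ | ⟨rfl, rfl⟩
        · -- 34=(0,0)
          exfalso; omega
        · -- 34=(1,1)
          exact False.elim (cert_false T ((skipEmb 2).trans (Function.Embedding.refl _)) (by norm_num) (fun _ => hall _) (((((((LB_zero T ((skipEmb 2).trans (Function.Embedding.refl _))).upd 0 2 1 (le_of_eq hx03)).upd 0 3 1 (le_of_eq hx04)).upd 2 0 1 (le_of_eq hx30)).upd 2 3 1 (le_of_eq hx34)).upd 3 0 1 (le_of_eq hx40)).upd 3 2 1 (le_of_eq hx43)) ![1,0,1,1] (by decide) (by decide) 0 (by decide))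
        · -- 34=(1,2)
          exact False.elim (cert_false T ((skipEmb 2).trans (Function.Embedding.refl _)) (by norm_num) (fun _ => hall _) (((((((LB_zero T ((skipEmb 2).trans (Function.Embedding.refl _))).upd 0 2 1 (le_of_eq hx03)).upd 0 3 1 (le_of_eq hx04)).upd 2 0 1 (le_of_eq hx30)).upd 2 3 1 (le_of_eq hx34)).upd 3 0 1 (le_of_eq hx40)).upd 3 2 2 (le_of_eq hx43)) ![1,0,1,1] (by decide) (by decide) 0 (by decide))
        · -- 34=(2,1)
          exact False.elim (cert_false T ((skipEmb 2).trans (Function.Embedding.refl _)) (by norm_num) (fun _ => hall _) (((((((LB_zero T ((skipEmb 2).trans (Function.Embedding.refl _))).upd 0 2 1 (le_of_eq hx03)).upd 0 3 1 (le_of_eq hx04)).upd 2 0 1 (le_of_eq hx30)).upd 2 3 2 (le_of_eq hx34)).upd 3 0 1 (le_of_eq hx40)).upd 3 2 1 (le_of_eq hx43)) ![1,0,1,1] (by decide) (by decide) 0 (by decide))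
        · -- 34=(1,3)
          exact False.elim (cert_false T ((skipEmb 2).trans (Function.Embedding.refl _)) (by norm_num) (fun _ => hall _) (((((((LB_zero T ((skipEmb 2).trans (Function.Embedding.refl _))).upd 0 2 1 (le_of_eq hx03)).upd 0 3 1 (le_of_eq hx04)).upd 2 0 1 (le_of_eq hx30)).upd 2 3 1 (le_of_eq hx34)).upd 3 0 1 (le_of_eq hx40)).upd 3 2 3 (le_of_eq hx43)) ![1,0,1,1] (by decide) (by decide) 0 (by decide))
        · -- 34=(3,1)
          exact False.elim (cert_false T ((skipEmb 2).trans (Function.Embedding.refl _)) (by norm_num) (fun _ => hall _) (((((((LB_zero T ((skipEmb 2).trans (Function.Embedding.refl _))).upd 0 2 1 (le_of_eq hx03)).upd 0 3 1 (le_of_eq hx04)).upd 2 0 1 (le_of_eq hx30)).upd 2 3 3 (le_of_eq hx34)).upd 3 0 1 (le_of_eq hx40)).upd 3 2 1 (le_of_eq hx43)) ![1,0,1,1] (by decide) (by decide) 0 (by decide))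
      · -- 24=(1,1)
        exact False.elim (cert_false T ((skipEmb 1).trans (Function.Embedding.refl _)) (by norm_num) (fun _ => hall _) (((((((((LB_zero T ((skipEmb 1).trans (Function.Embedding.refl _))).upd 0 2 1 (le_of_eq hx03)).upd 0 3 1 (le_of_eq hx04)).upd 1 2 1 (le_of_eq hx23)).upd 1 3 1 (le_of_eq hx24)).upd 2 0 1 (le_of_eq hx30)).upd 2 1 1 (le_of_eq hx32)).upd 3 0 1 (le_of_eq hx40)).upd 3 1 1 (le_of_eq hx42)) ![1,1,1,1] (by decide) (by decide) 0 (by decide))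
      · -- 24=(1,2)
        exact False.elim (cert_false T ((skipEmb 1).trans (Function.Embedding.refl _)) (by norm_num) (fun _ => hall _) (((((((((LB_zero T ((skipEmb 1).trans (Function.Embedding.refl _))).upd 0 2 1 (le_of_eq hx03)).upd 0 3 1 (le_of_eq hx04)).upd 1 2 1 (le_of_eq hx23)).upd 1 3 1 (le_of_eq hx24)).upd 2 0 1 (le_of_eq hx30)).upd 2 1 1 (le_of_eq hx32)).upd 3 0 1 (le_of_eq hx40)).upd 3 1 2 (le_of_eq hx42)) ![1,1,1,1] (by decide) (by decide) 0 (by decide))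
      · -- 24=(2,1)
        exact False.elim (cert_false T ((skipEmb 1).trans (Function.Embedding.refl _)) (by norm_num) (fun _ => hall _) (((((((((LB_zero T ((skipEmb 1).trans (Function.Embedding.refl _))).upd 0 2 1 (le_of_eq hx03)).upd 0 3 1 (le_of_eq hx04)).upd 1 2 1 (le_of_eq hx23)).upd 1 3 2 (le_of_eq hx24)).upd 2 0 1 (le_of_eq hx30)).upd 2 1 1 (le_of_eq hx32)).upd 3 0 1 (le_of_eq hx40)).upd 3 1 1 (le_of_eq hx42)) ![1,1,1,1] (by decide) (by decide) 0 (by decide))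
      · -- 24=(1,3)
        exact False.elim (cert_false T ((skipEmb 3).trans (Function.Embedding.refl _)) (by norm_num) (fun _ => hall _) (((((LB_zero T ((skipEmb 3).trans (Function.Embedding.refl _))).upd 0 3 1 (le_of_eq hx04)).upd 2 3 1 (le_of_eq hx24)).upd 3 0 1 (le_of_eq hx40)).upd 3 2 3 (le_of_eq hx42)) ![1,0,1,2] (by decide) (by decide) 0 (by decide))
      · -- 24=(3,1)
        exact False.elim (cert_false T ((skipEmb 3).trans (Function.Embedding.refl _)) (by norm_num) (fun _ => hall _) (((((LB_zero T ((skipEmb 3).trans (Function.Embedding.refl _))).upd 0 3 1 (le_of_eq hx04)).upd 2 3 3 (le_of_eq hx24)).upd 3 0 1 (le_of_eq hx40)).upd 3 2 1 (le_of_eq hx42)) ![1,0,3,2] (by decide) (by decide) 0 (by decide))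
    · -- 14=(1,1)
      rcases d24 with ⟨rfl, rfl⟩ | ⟨rfl, rfl⟩ | ⟨rfl, rfl⟩ | ⟨rfl, rfl⟩ | ⟨rfl, rfl⟩ | ⟨rfl, rfl⟩
      · -- 24=(0,0)
        rcases d34 with ⟨rfl, rfl⟩ | ⟨rfl, rfl⟩ | ⟨rfl, rfl⟩ | ⟨rfl, rfl⟩ | ⟨rfl, rfl⟩ | ⟨rfl, rfl⟩
        · -- 34=(0,0)
          exfalso; omega
        · -- 34=(1,1)
          exact False.elim (cert_false T ((skipEmb 2).trans (Function.Embedding.refl _)) (by norm_num) (fun _ => hall _) (((((((LB_zero T ((skipEmb 2).trans (Function.Embedding.refl _))).upd 0 2 1 (le_of_eq hx03)).upd 0 3 1 (le_of_eq hx04)).upd 2 0 1 (le_of_eq hx30)).upd 2 3 1 (le_of_eq hx34)).upd 3 0 1 (le_of_eq hx40)).upd 3 2 1 (le_of_eq hx43)) ![1,0,1,1] (by decide) (by decide) 0 (by decide))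
        · -- 34=(1,2)
          exact False.elim (cert_false T ((skipEmb 2).trans (Function.Embedding.refl _)) (by norm_num) (fun _ => hall _) (((((((LB_zero T ((skipEmb 2).trans (Function.Embedding.refl _))).upd 0 2 1 (le_of_eq hx03)).upd 0 3 1 (le_of_eq hx04)).upd 2 0 1 (le_of_eq hx30)).upd 2 3 1 (le_of_eq hx34)).upd 3 0 1 (le_of_eq hx40)).upd 3 2 2 (le_of_eq hx43)) ![1,0,1,1] (by decide) (by decide) 0 (by decide))
        · -- 34=(2,1)
          exact False.elim (cert_false T ((skipEmb 2).trans (Function.Embedding.refl _)) (by norm_num) (fun _ => hall _) (((((((LB_zero T ((skipEmb 2).trans (Function.Embedding.refl _))).upd 0 2 1 (le_of_eq hx03)).upd 0 3 1 (le_of_eq hx04)).upd 2 0 1 (le_of_eq hx30)).upd 2 3 2 (le_of_eq hx34)).upd 3 0 1 (le_of_eq hx40)).upd 3 2 1 (le_of_eq hx43)) ![1,0,1,1] (by decide) (by decide) 0 (by decide))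
        · -- 34=(1,3)
          exact False.elim (cert_false T ((skipEmb 2).trans (Function.Embedding.refl _)) (by norm_num) (fun _ => hall _) (((((((LB_zero T ((skipEmb 2).trans (Function.Embedding.refl _))).upd 0 2 1 (le_of_eq hx03)).upd 0 3 1 (le_of_eq hx04)).upd 2 0 1 (le_of_eq hx30)).upd 2 3 1 (le_of_eq hx34)).upd 3 0 1 (le_of_eq hx40)).upd 3 2 3 (le_of_eq hx43)) ![1,0,1,1] (by decide) (by decide) 0 (by decide))
        · -- 34=(3,1)
          exact False.elim (cert_false T ((skipEmb 2).trans (Function.Embedding.refl _)) (by norm_num) (fun _ => hall _) (((((((LB_zero T ((skipEmb 2).trans (Function.Embedding.refl _))).upd 0 2 1 (le_of_eq hx03)).upd 0 3 1 (le_of_eq hx04)).upd 2 0 1 (le_of_eq hx30)).upd 2 3 3 (le_of_eq hx34)).upd 3 0 1 (le_of_eq hx40)).upd 3 2 1 (le_of_eq hx43)) ![1,0,1,1] (by decide) (by decide) 0 (by decide))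
      · -- 24=(1,1)
        exact False.elim (cert_false T ((skipEmb 1).trans (Function.Embedding.refl _)) (by norm_num) (fun _ => hall _) (((((((((LB_zero T ((skipEmb 1).trans (Function.Embedding.refl _))).upd 0 2 1 (le_of_eq hx03)).upd 0 3 1 (le_of_eq hx04)).upd 1 2 1 (le_of_eq hx23)).upd 1 3 1 (le_of_eq hx24)).upd 2 0 1 (le_of_eq hx30)).upd 2 1 1 (le_of_eq hx32)).upd 3 0 1 (le_of_eq hx40)).upd 3 1 1 (le_of_eq hx42)) ![1,1,1,1] (by decide) (by decide) 0 (by decide))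
      · -- 24=(1,2)
        exact False.elim (cert_false T ((skipEmb 3).trans (Function.Embedding.refl _)) (by norm_num) (fun _ => hall _) (((((((LB_zero T ((skipEmb 3).trans (Function.Embedding.refl _))).upd 0 3 1 (le_of_eq hx04)).upd 1 3 1 (le_of_eq hx14)).upd 2 3 1 (le_of_eq hx24)).upd 3 0 1 (le_of_eq hx40)).upd 3 1 1 (le_of_eq hx41)).upd 3 2 2 (le_of_eq hx42)) ![1,1,1,2] (by decide) (by decide) 0 (by decide))
      · -- 24=(2,1)
        exact False.elim (cert_false T ((skipEmb 3).trans (Function.Embedding.refl _)) (by norm_num) (fun _ => hall _) (((((((LB_zero T ((skipEmb 3).trans (Function.Embedding.refl _))).upd 0 3 1 (le_of_eq hx04)).upd 1 3 1 (le_of_eq hx14)).upd 2 3 2 (le_of_eq hx24)).upd 3 0 1 (le_of_eq hx40)).upd 3 1 1 (le_of_eq hx41)).upd 3 2 1 (le_of_eq hx42)) ![1,1,2,2] (by decide) (by decide) 0 (by decide))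
      · -- 24=(1,3)
        exact False.elim (cert_false T ((skipEmb 3).trans (Function.Embedding.refl _)) (by norm_num) (fun _ => hall _) (((((LB_zero T ((skipEmb 3).trans (Function.Embedding.refl _))).upd 1 3 1 (le_of_eq hx14)).upd 2 3 1 (le_of_eq hx24)).upd 3 1 1 (le_of_eq hx41)).upd 3 2 3 (le_of_eq hx42)) ![0,1,1,2] (by decide) (by decide) 1 (by decide))
      · -- 24=(3,1)
        exact False.elim (cert_false T ((skipEmb 3).trans (Function.Embedding.refl _)) (by norm_num) (fun _ => hall _) (((((((LB_zero T ((skipEmb 3).trans (Function.Embedding.refl _))).upd 0 3 1 (le_of_eq hx04)).upd 1 3 1 (le_of_eq hx14)).upd 2 3 3 (le_of_eq hx24)).upd 3 0 1 (le_of_eq hx40)).upd 3 1 1 (le_of_eq hx41)).upd 3 2 1 (le_of_eq hx42)) ![1,1,2,2] (by decide) (by decide) 0 (by decide))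
    · -- 14=(1,2)
      rcases d24 with ⟨rfl, rfl⟩ | ⟨rfl, rfl⟩ | ⟨rfl, rfl⟩ | ⟨rfl, rfl⟩ | ⟨rfl, rfl⟩ | ⟨rfl, rfl⟩
      · -- 24=(0,0)
        rcases d34 with ⟨rfl, rfl⟩ | ⟨rfl, rfl⟩ | ⟨rfl, rfl⟩ | ⟨rfl, rfl⟩ | ⟨rfl, rfl⟩ | ⟨rfl, rfl⟩
        · -- 34=(0,0)
          exfalso; omega
        · -- 34=(1,1)
          exact False.elim (cert_false T ((skipEmb 2).trans (Function.Embedding.refl _)) (by norm_num) (fun _ => hall _) (((((((LB_zero T ((skipEmb 2).trans (Function.Embedding.refl _))).upd 0 2 1 (le_of_eq hx03)).upd 0 3 1 (le_of_eq hx04)).upd 2 0 1 (le_of_eq hx30)).upd 2 3 1 (le_of_eq hx34)).upd 3 0 1 (le_of_eq hx40)).upd 3 2 1 (le_of_eq hx43)) ![1,0,1,1] (by decide) (by decide) 0 (by decide))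
        · -- 34=(1,2)
          exact False.elim (cert_false T ((skipEmb 2).trans (Function.Embedding.refl _)) (by norm_num) (fun _ => hall _) (((((((LB_zero T ((skipEmb 2).trans (Function.Embedding.refl _))).upd 0 2 1 (le_of_eq hx03)).upd 0 3 1 (le_of_eq hx04)).upd 2 0 1 (le_of_eq hx30)).upd 2 3 1 (le_of_eq hx34)).upd 3 0 1 (le_of_eq hx40)).upd 3 2 2 (le_of_eq hx43)) ![1,0,1,1] (by decide) (by decide) 0 (by decide))
        · -- 34=(2,1)
          exact False.elim (cert_false T ((skipEmb 2).trans (Function.Embedding.refl _)) (by norm_num) (fun _ => hall _) (((((((LB_zero T ((skipEmb 2).trans (Function.Embedding.refl _))).upd 0 2 1 (le_of_eq hx03)).upd 0 3 1 (le_of_eq hx04)).upd 2 0 1 (le_of_eq hx30)).upd 2 3 2 (le_of_eq hx34)).upd 3 0 1 (le_of_eq hx40)).upd 3 2 1 (le_of_eq hx43)) ![1,0,1,1] (by decide) (by decide) 0 (by decide))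
        · -- 34=(1,3)
          exact False.elim (cert_false T ((skipEmb 2).trans (Function.Embedding.refl _)) (by norm_num) (fun _ => hall _) (((((((LB_zero T ((skipEmb 2).trans (Function.Embedding.refl _))).upd 0 2 1 (le_of_eq hx03)).upd 0 3 1 (le_of_eq hx04)).upd 2 0 1 (le_of_eq hx30)).upd 2 3 1 (le_of_eq hx34)).upd 3 0 1 (le_of_eq hx40)).upd 3 2 3 (le_of_eq hx43)) ![1,0,1,1] (by decide) (by decide) 0 (by decide))
        · -- 34=(3,1)
          exact False.elim (cert_false T ((skipEmb 2).trans (Function.Embedding.refl _)) (by norm_num) (fun _ => hall _) (((((((LB_zero T ((skipEmb 2).trans (Function.Embedding.refl _))).upd 0 2 1 (le_of_eq hx03)).upd 0 3 1 (le_of_eq hx04)).upd 2 0 1 (le_of_eq hx30)).upd 2 3 3 (le_of_eq hx34)).upd 3 0 1 (le_of_eq hx40)).upd 3 2 1 (le_of_eq hx43)) ![1,0,1,1] (by decide) (by decide) 0 (by decide))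
      · -- 24=(1,1)
        exact False.elim (cert_false T ((skipEmb 3).trans (Function.Embedding.refl _)) (by norm_num) (fun _ => hall _) (((((((LB_zero T ((skipEmb 3).trans (Function.Embedding.refl _))).upd 0 3 1 (le_of_eq hx04)).upd 1 3 1 (le_of_eq hx14)).upd 2 3 1 (le_of_eq hx24)).upd 3 0 1 (le_of_eq hx40)).upd 3 1 2 (le_of_eq hx41)).upd 3 2 1 (le_of_eq hx42)) ![1,1,1,2] (by decide) (by decide) 0 (by decide))
      · -- 24=(1,2)
        exact False.elim (cert_false T ((skipEmb 3).trans (Function.Embedding.refl _)) (by norm_num) (fun _ => hall _) (((((LB_zero T ((skipEmb 3).trans (Function.Embedding.refl _))).upd 1 3 1 (le_of_eq hx14)).upd 2 3 1 (le_of_eq hx24)).upd 3 1 2 (le_of_eq hx41)).upd 3 2 2 (le_of_eq hx42)) ![0,1,1,2] (by decide) (by decide) 1 (by decide))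
      · -- 24=(2,1)
        exact False.elim (cert_false T ((skipEmb 3).trans (Function.Embedding.refl _)) (by norm_num) (fun _ => hall _) (((((LB_zero T ((skipEmb 3).trans (Function.Embedding.refl _))).upd 1 3 1 (le_of_eq hx14)).upd 2 3 2 (le_of_eq hx24)).upd 3 1 2 (le_of_eq hx41)).upd 3 2 1 (le_of_eq hx42)) ![0,1,2,2] (by decide) (by decide) 1 (by decide))
      · -- 24=(1,3)
        exact False.elim (cert_false T ((skipEmb 3).trans (Function.Embedding.refl _)) (by norm_num) (fun _ => hall _) (((((LB_zero T ((skipEmb 3).trans (Function.Embedding.refl _))).upd 1 3 1 (le_of_eq hx14)).upd 2 3 1 (le_of_eq hx24)).upd 3 1 2 (le_of_eq hx41)).upd 3 2 3 (le_of_eq hx42)) ![0,1,1,2] (by decide) (by decide) 1 (by decide))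
      · -- 24=(3,1)
        exact False.elim (cert_false T ((skipEmb 3).trans (Function.Embedding.refl _)) (by norm_num) (fun _ => hall _) (((((LB_zero T ((skipEmb 3).trans (Function.Embedding.refl _))).upd 1 3 1 (le_of_eq hx14)).upd 2 3 3 (le_of_eq hx24)).upd 3 1 2 (le_of_eq hx41)).upd 3 2 1 (le_of_eq hx42)) ![0,1,2,2] (by decide) (by decide) 1 (by decide))
    · -- 14=(2,1)
      rcases d24 with ⟨rfl, rfl⟩ | ⟨rfl, rfl⟩ | ⟨rfl, rfl⟩ | ⟨rfl, rfl⟩ | ⟨rfl, rfl⟩ | ⟨rfl, rfl⟩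
      · -- 24=(0,0)
        rcases d34 with ⟨rfl, rfl⟩ | ⟨rfl, rfl⟩ | ⟨rfl, rfl⟩ | ⟨rfl, rfl⟩ | ⟨rfl, rfl⟩ | ⟨rfl, rfl⟩
        · -- 34=(0,0)
          exfalso; omega
        · -- 34=(1,1)
          exact False.elim (cert_false T ((skipEmb 2).trans (Function.Embedding.refl _)) (by norm_num) (fun _ => hall _) (((((((LB_zero T ((skipEmb 2).trans (Function.Embedding.refl _))).upd 0 2 1 (le_of_eq hx03)).upd 0 3 1 (le_of_eq hx04)).upd 2 0 1 (le_of_eq hx30)).upd 2 3 1 (le_of_eq hx34)).upd 3 0 1 (le_of_eq hx40)).upd 3 2 1 (le_of_eq hx43)) ![1,0,1,1] (by decide) (by decide) 0 (by decide))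
        · -- 34=(1,2)
          exact False.elim (cert_false T ((skipEmb 2).trans (Function.Embedding.refl _)) (by norm_num) (fun _ => hall _) (((((((LB_zero T ((skipEmb 2).trans (Function.Embedding.refl _))).upd 0 2 1 (le_of_eq hx03)).upd 0 3 1 (le_of_eq hx04)).upd 2 0 1 (le_of_eq hx30)).upd 2 3 1 (le_of_eq hx34)).upd 3 0 1 (le_of_eq hx40)).upd 3 2 2 (le_of_eq hx43)) ![1,0,1,1] (by decide) (by decide) 0 (by decide))
        · -- 34=(2,1)
          exact False.elim (cert_false T ((skipEmb 2).trans (Function.Embedding.refl _)) (by norm_num) (fun _ => hall _) (((((LB_zero T ((skipEmb 2).trans (Function.Embedding.refl _))).upd 1 3 2 (le_of_eq hx14)).upd 2 3 2 (le_of_eq hx34)).upd 3 1 1 (le_of_eq hx41)).upd 3 2 1 (le_of_eq hx43)) ![0,1,1,1] (by decide) (by decide) 1 (by decide))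
        · -- 34=(1,3)
          exact False.elim (cert_false T ((skipEmb 2).trans (Function.Embedding.refl _)) (by norm_num) (fun _ => hall _) (((((((LB_zero T ((skipEmb 2).trans (Function.Embedding.refl _))).upd 0 2 1 (le_of_eq hx03)).upd 0 3 1 (le_of_eq hx04)).upd 2 0 1 (le_of_eq hx30)).upd 2 3 1 (le_of_eq hx34)).upd 3 0 1 (le_of_eq hx40)).upd 3 2 3 (le_of_eq hx43)) ![1,0,1,1] (by decide) (by decide) 0 (by decide))
        · -- 34=(3,1)
          exact False.elim (cert_false T ((skipEmb 2).trans (Function.Embedding.refl _)) (by norm_num) (fun _ => hall _) (((((LB_zero T ((skipEmb 2).trans (Function.Embedding.refl _))).upd 1 3 2 (le_of_eq hx14)).upd 2 3 3 (le_of_eq hx34)).upd 3 1 1 (le_of_eq hx41)).upd 3 2 1 (le_of_eq hx43)) ![0,1,1,1] (by decide) (by decide) 1 (by decide))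
      · -- 24=(1,1)
        exact False.elim (cert_false T ((skipEmb 3).trans (Function.Embedding.refl _)) (by norm_num) (fun _ => hall _) (((((((LB_zero T ((skipEmb 3).trans (Function.Embedding.refl _))).upd 0 3 1 (le_of_eq hx04)).upd 1 3 2 (le_of_eq hx14)).upd 2 3 1 (le_of_eq hx24)).upd 3 0 1 (le_of_eq hx40)).upd 3 1 1 (le_of_eq hx41)).upd 3 2 1 (le_of_eq hx42)) ![1,2,1,2] (by decide) (by decide) 0 (by decide))
      · -- 24=(1,2)
        exact False.elim (cert_false T ((skipEmb 3).trans (Function.Embedding.refl _)) (by norm_num) (fun _ => hall _) (((((LB_zero T ((skipEmb 3).trans (Function.Embedding.refl _))).upd 1 3 2 (le_of_eq hx14)).upd 2 3 1 (le_of_eq hx24)).upd 3 1 1 (le_of_eq hx41)).upd 3 2 2 (le_of_eq hx42)) ![0,2,1,2] (by decide) (by decide) 1 (by decide))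
      · -- 24=(2,1)
        exact False.elim (cert_false T ((skipEmb 3).trans (Function.Embedding.refl _)) (by norm_num) (fun _ => hall _) (((((LB_zero T ((skipEmb 3).trans (Function.Embedding.refl _))).upd 1 3 2 (le_of_eq hx14)).upd 2 3 2 (le_of_eq hx24)).upd 3 1 1 (le_of_eq hx41)).upd 3 2 1 (le_of_eq hx42)) ![0,1,1,1] (by decide) (by decide) 1 (by decide))
      · -- 24=(1,3)
        exact False.elim (cert_false T ((skipEmb 3).trans (Function.Embedding.refl _)) (by norm_num) (fun _ => hall _) (((((LB_zero T ((skipEmb 3).trans (Function.Embedding.refl _))).upd 1 3 2 (le_of_eq hx14)).upd 2 3 1 (le_of_eq hx24)).upd 3 1 1 (le_of_eq hx41)).upd 3 2 3 (le_of_eq hx42)) ![0,1,1,2] (by decide) (by decide) 1 (by decide))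
      · -- 24=(3,1)
        exact False.elim (cert_false T ((skipEmb 3).trans (Function.Embedding.refl _)) (by norm_num) (fun _ => hall _) (((((LB_zero T ((skipEmb 3).trans (Function.Embedding.refl _))).upd 1 3 2 (le_of_eq hx14)).upd 2 3 3 (le_of_eq hx24)).upd 3 1 1 (le_of_eq hx41)).upd 3 2 1 (le_of_eq hx42)) ![0,1,1,1] (by decide) (by decide) 1 (by decide))
    · -- 14=(1,3)
      exact False.elim (cert_false T ((skipEmb 3).trans (Function.Embedding.refl _)) (by norm_num) (fun _ => hall _) (((((LB_zero T ((skipEmb 3).trans (Function.Embedding.refl _))).upd 0 3 1 (le_of_eq hx04)).upd 1 3 1 (le_of_eq hx14)).upd 3 0 1 (le_of_eq hx40)).upd 3 1 3 (le_of_eq hx41)) ![1,1,0,2] (by decide) (by decide) 0 (by decide))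
    · -- 14=(3,1)
      exact False.elim (cert_false T ((skipEmb 3).trans (Function.Embedding.refl _)) (by norm_num) (fun _ => hall _) (((((LB_zero T ((skipEmb 3).trans (Function.Embedding.refl _))).upd 0 3 1 (le_of_eq hx04)).upd 1 3 3 (le_of_eq hx14)).upd 3 0 1 (le_of_eq hx40)).upd 3 1 1 (le_of_eq hx41)) ![1,3,0,2] (by decide) (by decide) 0 (by decide))
  · -- 04=(1,2)
    rcases d14 with ⟨rfl, rfl⟩ | ⟨rfl, rfl⟩ | ⟨rfl, rfl⟩ | ⟨rfl, rfl⟩ | ⟨rfl, rfl⟩ | ⟨rfl, rfl⟩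
    · -- 14=(0,0)
      rcases d24 with ⟨rfl, rfl⟩ | ⟨rfl, rfl⟩ | ⟨rfl, rfl⟩ | ⟨rfl, rfl⟩ | ⟨rfl, rfl⟩ | ⟨rfl, rfl⟩
      · -- 24=(0,0)
        rcases d34 with ⟨rfl, rfl⟩ | ⟨rfl, rfl⟩ | ⟨rfl, rfl⟩ | ⟨rfl, rfl⟩ | ⟨rfl, rfl⟩ | ⟨rfl, rfl⟩
        · -- 34=(0,0)
          exfalso; omega
        · -- 34=(1,1)
          exact False.elim (cert_false T ((skipEmb 2).trans (Function.Embedding.refl _)) (by norm_num) (fun _ => hall _) (((((((LB_zero T ((skipEmb 2).trans (Function.Embedding.refl _))).upd 0 2 1 (le_of_eq hx03)).upd 0 3 1 (le_of_eq hx04)).upd 2 0 1 (le_of_eq hx30)).upd 2 3 1 (le_of_eq hx34)).upd 3 0 2 (le_of_eq hx40)).upd 3 2 1 (le_of_eq hx43)) ![1,0,1,1] (by decide) (by decide) 0 (by decide))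
        · -- 34=(1,2)
          exact False.elim (cert_false T ((skipEmb 2).trans (Function.Embedding.refl _)) (by norm_num) (fun _ => hall _) (((((((LB_zero T ((skipEmb 2).trans (Function.Embedding.refl _))).upd 0 2 1 (le_of_eq hx03)).upd 0 3 1 (le_of_eq hx04)).upd 2 0 1 (le_of_eq hx30)).upd 2 3 1 (le_of_eq hx34)).upd 3 0 2 (le_of_eq hx40)).upd 3 2 2 (le_of_eq hx43)) ![1,0,1,1] (by decide) (by decide) 0 (by decide))
        · -- 34=(2,1)
          exact False.elim (cert_false T ((skipEmb 2).trans (Function.Embedding.refl _)) (by norm_num) (fun _ => hall _) (((((((LB_zero T ((skipEmb 2).trans (Function.Embedding.refl _))).upd 0 2 1 (le_of_eq hx03)).upd 0 3 1 (le_of_eq hx04)).upd 2 0 1 (le_of_eq hx30)).upd 2 3 2 (le_of_eq hx34)).upd 3 0 2 (le_of_eq hx40)).upd 3 2 1 (le_of_eq hx43)) ![1,0,1,1] (by decide) (by decide) 0 (by decide))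
        · -- 34=(1,3)
          exact False.elim (cert_false T ((skipEmb 2).trans (Function.Embedding.refl _)) (by norm_num) (fun _ => hall _) (((((((LB_zero T ((skipEmb 2).trans (Function.Embedding.refl _))).upd 0 2 1 (le_of_eq hx03)).upd 0 3 1 (le_of_eq hx04)).upd 2 0 1 (le_of_eq hx30)).upd 2 3 1 (le_of_eq hx34)).upd 3 0 2 (le_of_eq hx40)).upd 3 2 3 (le_of_eq hx43)) ![1,0,1,1] (by decide) (by decide) 0 (by decide))
        · -- 34=(3,1)
          exact False.elim (cert_false T ((skipEmb 2).trans (Function.Embedding.refl _)) (by norm_num) (fun _ => hall _) (((((((LB_zero T ((skipEmb 2).trans (Function.Embedding.refl _))).upd 0 2 1 (le_of_eq hx03)).upd 0 3 1 (le_of_eq hx04)).upd 2 0 1 (le_of_eq hx30)).upd 2 3 3 (le_of_eq hx34)).upd 3 0 2 (le_of_eq hx40)).upd 3 2 1 (le_of_eq hx43)) ![1,0,1,1] (by decide) (by decide) 0 (by decide))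
      · -- 24=(1,1)
        exact False.elim (cert_false T ((skipEmb 1).trans (Function.Embedding.refl _)) (by norm_num) (fun _ => hall _) (((((((((LB_zero T ((skipEmb 1).trans (Function.Embedding.refl _))).upd 0 2 1 (le_of_eq hx03)).upd 0 3 1 (le_of_eq hx04)).upd 1 2 1 (le_of_eq hx23)).upd 1 3 1 (le_of_eq hx24)).upd 2 0 1 (le_of_eq hx30)).upd 2 1 1 (le_of_eq hx32)).upd 3 0 2 (le_of_eq hx40)).upd 3 1 1 (le_of_eq hx42)) ![1,1,1,1] (by decide) (by decide) 0 (by decide))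
      · -- 24=(1,2)
        exact False.elim (cert_false T ((skipEmb 3).trans (Function.Embedding.refl _)) (by norm_num) (fun _ => hall _) (((((LB_zero T ((skipEmb 3).trans (Function.Embedding.refl _))).upd 0 3 1 (le_of_eq hx04)).upd 2 3 1 (le_of_eq hx24)).upd 3 0 2 (le_of_eq hx40)).upd 3 2 2 (le_of_eq hx42)) ![1,0,1,2] (by decide) (by decide) 0 (by decide))
      · -- 24=(2,1)
        exact False.elim (cert_false T ((skipEmb 3).trans (Function.Embedding.refl _)) (by norm_num) (fun _ => hall _) (((((LB_zero T ((skipEmb 3).trans (Function.Embedding.refl _))).upd 0 3 1 (le_of_eq hx04)).upd 2 3 2 (le_of_eq hx24)).upd 3 0 2 (le_of_eq hx40)).upd 3 2 1 (le_of_eq hx42)) ![1,0,2,2] (by decide) (by decide) 0 (by decide))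
      · -- 24=(1,3)
        exact False.elim (cert_false T ((skipEmb 3).trans (Function.Embedding.refl _)) (by norm_num) (fun _ => hall _) (((((LB_zero T ((skipEmb 3).trans (Function.Embedding.refl _))).upd 0 3 1 (le_of_eq hx04)).upd 2 3 1 (le_of_eq hx24)).upd 3 0 2 (le_of_eq hx40)).upd 3 2 3 (le_of_eq hx42)) ![1,0,1,2] (by decide) (by decide) 0 (by decide))
      · -- 24=(3,1)
        exact False.elim (cert_false T ((skipEmb 3).trans (Function.Embedding.refl _)) (by norm_num) (fun _ => hall _) (((((LB_zero T ((skipEmb 3).trans (Function.Embedding.refl _))).upd 0 3 1 (le_of_eq hx04)).upd 2 3 3 (le_of_eq hx24)).upd 3 0 2 (le_of_eq hx40)).upd 3 2 1 (le_of_eq hx42)) ![1,0,2,2] (by decide) (by decide) 0 (by decide))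
    · -- 14=(1,1)
      rcases d24 with ⟨rfl, rfl⟩ | ⟨rfl, rfl⟩ | ⟨rfl, rfl⟩ | ⟨rfl, rfl⟩ | ⟨rfl, rfl⟩ | ⟨rfl, rfl⟩
      · -- 24=(0,0)
        rcases d34 with ⟨rfl, rfl⟩ | ⟨rfl, rfl⟩ | ⟨rfl, rfl⟩ | ⟨rfl, rfl⟩ | ⟨rfl, rfl⟩ | ⟨rfl, rfl⟩
        · -- 34=(0,0)
          refine ⟨(⟨![2, 3, 0, 4, 1], ![2, 4, 0, 1, 3], by decide, by decide⟩ : Equiv.Perm (Fin 5)), T.m 2, T.w 4, Or.inr (Or.inr (Or.inl ?_))⟩
          show T.m 2 = T.m 2 ∧ T.m 3 = 2 * T.m 2 ∧ T.m 0 = 3 * T.m 2 ∧ T.m 4 = 4 * T.m 2 ∧ T.m 1 = 2 * T.m 2 ∧ T.w 2 = 2 * T.w 4 ∧ T.w 3 = 2 * T.w 4 ∧ T.w 0 = 2 * T.w 4 ∧ T.w 4 = T.w 4 ∧ T.w 1 = T.w 4 ∧ T.a 2 2 = -4 * T.w 4 ∧ T.a 2 3 = 2 * T.w 4 ∧ T.a 2 0 = 0 ∧ T.a 2 4 = 0 ∧ T.a 2 1 = 0 ∧ T.a 3 3 = -4 * T.w 4 ∧ T.a 3 0 = 2 * T.w 4 ∧ T.a 3 4 = 0 ∧ T.a 3 1 = 0 ∧ T.a 0 0 = -4 * T.w 4 ∧ T.a 0 4 = 2 * T.w 4 ∧ T.a 0 1 = 0 ∧ T.a 4 4 = -2 * T.w 4 ∧ T.a 4 1 = T.w 4 ∧ T.a 1 1 = -2 * T.w 4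
          refine ⟨?_, ?_, ?_, ?_, ?_, ?_, ?_, ?_, ?_, ?_, ?_, ?_, ?_, ?_, ?_, ?_, ?_, ?_, ?_, ?_, ?_, ?_, ?_, ?_, ?_⟩ <;> omega
        · -- 34=(1,1)
          exact False.elim (cert_false T ((skipEmb 2).trans (Function.Embedding.refl _)) (by norm_num) (fun _ => hall _) (((((((LB_zero T ((skipEmb 2).trans (Function.Embedding.refl _))).upd 0 2 1 (le_of_eq hx03)).upd 0 3 1 (le_of_eq hx04)).upd 2 0 1 (le_of_eq hx30)).upd 2 3 1 (le_of_eq hx34)).upd 3 0 2 (le_of_eq hx40)).upd 3 2 1 (le_of_eq hx43)) ![1,0,1,1] (by decide) (by decide) 0 (by decide))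
        · -- 34=(1,2)
          exact False.elim (cert_false T ((skipEmb 2).trans (Function.Embedding.refl _)) (by norm_num) (fun _ => hall _) (((((((LB_zero T ((skipEmb 2).trans (Function.Embedding.refl _))).upd 0 2 1 (le_of_eq hx03)).upd 0 3 1 (le_of_eq hx04)).upd 2 0 1 (le_of_eq hx30)).upd 2 3 1 (le_of_eq hx34)).upd 3 0 2 (le_of_eq hx40)).upd 3 2 2 (le_of_eq hx43)) ![1,0,1,1] (by decide) (by decide) 0 (by decide))
        · -- 34=(2,1)
          exact False.elim (cert_false T ((skipEmb 2).trans (Function.Embedding.refl _)) (by norm_num) (fun _ => hall _) (((((((LB_zero T ((skipEmb 2).trans (Function.Embedding.refl _))).upd 0 2 1 (le_of_eq hx03)).upd 0 3 1 (le_of_eq hx04)).upd 2 0 1 (le_of_eq hx30)).upd 2 3 2 (le_of_eq hx34)).upd 3 0 2 (le_of_eq hx40)).upd 3 2 1 (le_of_eq hx43)) ![1,0,1,1] (by decide) (by decide) 0 (by decide))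
        · -- 34=(1,3)
          exact False.elim (cert_false T ((skipEmb 2).trans (Function.Embedding.refl _)) (by norm_num) (fun _ => hall _) (((((((LB_zero T ((skipEmb 2).trans (Function.Embedding.refl _))).upd 0 2 1 (le_of_eq hx03)).upd 0 3 1 (le_of_eq hx04)).upd 2 0 1 (le_of_eq hx30)).upd 2 3 1 (le_of_eq hx34)).upd 3 0 2 (le_of_eq hx40)).upd 3 2 3 (le_of_eq hx43)) ![1,0,1,1] (by decide) (by decide) 0 (by decide))
        · -- 34=(3,1)
          exact False.elim (cert_false T ((skipEmb 2).trans (Function.Embedding.refl _)) (by norm_num) (fun _ => hall _) (((((((LB_zero T ((skipEmb 2).trans (Function.Embedding.refl _))).upd 0 2 1 (le_of_eq hx03)).upd 0 3 1 (le_of_eq hx04)).upd 2 0 1 (le_of_eq hx30)).upd 2 3 3 (le_of_eq hx34)).upd 3 0 2 (le_of_eq hx40)).upd 3 2 1 (le_of_eq hx43)) ![1,0,1,1] (by decide) (by decide) 0 (by decide))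
      · -- 24=(1,1)
        exact False.elim (cert_false T ((skipEmb 3).trans (Function.Embedding.refl _)) (by norm_num) (fun _ => hall _) (((((((LB_zero T ((skipEmb 3).trans (Function.Embedding.refl _))).upd 0 3 1 (le_of_eq hx04)).upd 1 3 1 (le_of_eq hx14)).upd 2 3 1 (le_of_eq hx24)).upd 3 0 2 (le_of_eq hx40)).upd 3 1 1 (le_of_eq hx41)).upd 3 2 1 (le_of_eq hx42)) ![1,1,1,2] (by decide) (by decide) 0 (by decide))
      · -- 24=(1,2)
        exact False.elim (cert_false T ((skipEmb 3).trans (Function.Embedding.refl _)) (by norm_num) (fun _ => hall _) (((((LB_zero T ((skipEmb 3).trans (Function.Embedding.refl _))).upd 0 3 1 (le_of_eq hx04)).upd 2 3 1 (le_of_eq hx24)).upd 3 0 2 (le_of_eq hx40)).upd 3 2 2 (le_of_eq hx42)) ![1,0,1,2] (by decide) (by decide) 0 (by decide))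
      · -- 24=(2,1)
        exact False.elim (cert_false T ((skipEmb 3).trans (Function.Embedding.refl _)) (by norm_num) (fun _ => hall _) (((((LB_zero T ((skipEmb 3).trans (Function.Embedding.refl _))).upd 0 3 1 (le_of_eq hx04)).upd 2 3 2 (le_of_eq hx24)).upd 3 0 2 (le_of_eq hx40)).upd 3 2 1 (le_of_eq hx42)) ![1,0,2,2] (by decide) (by decide) 0 (by decide))
      · -- 24=(1,3)
        exact False.elim (cert_false T ((skipEmb 3).trans (Function.Embedding.refl _)) (by norm_num) (fun _ => hall _) (((((LB_zero T ((skipEmb 3).trans (Function.Embedding.refl _))).upd 1 3 1 (le_of_eq hx14)).upd 2 3 1 (le_of_eq hx24)).upd 3 1 1 (le_of_eq hx41)).upd 3 2 3 (le_of_eq hx42)) ![0,1,1,2] (by decide) (by decide) 1 (by decide))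
      · -- 24=(3,1)
        exact False.elim (cert_false T ((skipEmb 3).trans (Function.Embedding.refl _)) (by norm_num) (fun _ => hall _) (((((LB_zero T ((skipEmb 3).trans (Function.Embedding.refl _))).upd 0 3 1 (le_of_eq hx04)).upd 2 3 3 (le_of_eq hx24)).upd 3 0 2 (le_of_eq hx40)).upd 3 2 1 (le_of_eq hx42)) ![1,0,2,2] (by decide) (by decide) 0 (by decide))
    · -- 14=(1,2)
      exact False.elim (cert_false T ((skipEmb 3).trans (Function.Embedding.refl _)) (by norm_num) (fun _ => hall _) (((((LB_zero T ((skipEmb 3).trans (Function.Embedding.refl _))).upd 0 3 1 (le_of_eq hx04)).upd 1 3 1 (le_of_eq hx14)).upd 3 0 2 (le_of_eq hx40)).upd 3 1 2 (le_of_eq hx41)) ![1,1,0,2] (by decide) (by decide) 0 (by decide))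
    · -- 14=(2,1)
      exact False.elim (cert_false T ((skipEmb 3).trans (Function.Embedding.refl _)) (by norm_num) (fun _ => hall _) (((((LB_zero T ((skipEmb 3).trans (Function.Embedding.refl _))).upd 0 3 1 (le_of_eq hx04)).upd 1 3 2 (le_of_eq hx14)).upd 3 0 2 (le_of_eq hx40)).upd 3 1 1 (le_of_eq hx41)) ![1,2,0,2] (by decide) (by decide) 0 (by decide))
    · -- 14=(1,3)
      exact False.elim (cert_false T ((skipEmb 3).trans (Function.Embedding.refl _)) (by norm_num) (fun _ => hall _) (((((LB_zero T ((skipEmb 3).trans (Function.Embedding.refl _))).upd 0 3 1 (le_of_eq hx04)).upd 1 3 1 (le_of_eq hx14)).upd 3 0 2 (le_of_eq hx40)).upd 3 1 3 (le_of_eq hx41)) ![1,1,0,2] (by decide) (by decide) 0 (by decide))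
    · -- 14=(3,1)
      exact False.elim (cert_false T ((skipEmb 3).trans (Function.Embedding.refl _)) (by norm_num) (fun _ => hall _) (((((LB_zero T ((skipEmb 3).trans (Function.Embedding.refl _))).upd 0 3 1 (le_of_eq hx04)).upd 1 3 3 (le_of_eq hx14)).upd 3 0 2 (le_of_eq hx40)).upd 3 1 1 (le_of_eq hx41)) ![1,2,0,2] (by decide) (by decide) 0 (by decide))
  · -- 04=(2,1)
    rcases d14 with ⟨rfl, rfl⟩ | ⟨rfl, rfl⟩ | ⟨rfl, rfl⟩ | ⟨rfl, rfl⟩ | ⟨rfl, rfl⟩ | ⟨rfl, rfl⟩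
    · -- 14=(0,0)
      rcases d24 with ⟨rfl, rfl⟩ | ⟨rfl, rfl⟩ | ⟨rfl, rfl⟩ | ⟨rfl, rfl⟩ | ⟨rfl, rfl⟩ | ⟨rfl, rfl⟩
      · -- 24=(0,0)
        rcases d34 with ⟨rfl, rfl⟩ | ⟨rfl, rfl⟩ | ⟨rfl, rfl⟩ | ⟨rfl, rfl⟩ | ⟨rfl, rfl⟩ | ⟨rfl, rfl⟩
        · -- 34=(0,0)
          exfalso; omega
        · -- 34=(1,1)
          exact False.elim (cert_false T ((skipEmb 2).trans (Function.Embedding.refl _)) (by norm_num) (fun _ => hall _) (((((((LB_zero T ((skipEmb 2).trans (Function.Embedding.refl _))).upd 0 2 1 (le_of_eq hx03)).upd 0 3 2 (le_of_eq hx04)).upd 2 0 1 (le_of_eq hx30)).upd 2 3 1 (le_of_eq hx34)).upd 3 0 1 (le_of_eq hx40)).upd 3 2 1 (le_of_eq hx43)) ![1,0,1,1] (by decide) (by decide) 0 (by decide))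
        · -- 34=(1,2)
          exact False.elim (cert_false T ((skipEmb 2).trans (Function.Embedding.refl _)) (by norm_num) (fun _ => hall _) (((((((LB_zero T ((skipEmb 2).trans (Function.Embedding.refl _))).upd 0 2 1 (le_of_eq hx03)).upd 0 3 2 (le_of_eq hx04)).upd 2 0 1 (le_of_eq hx30)).upd 2 3 1 (le_of_eq hx34)).upd 3 0 1 (le_of_eq hx40)).upd 3 2 2 (le_of_eq hx43)) ![1,0,1,1] (by decide) (by decide) 0 (by decide))
        · -- 34=(2,1)
          exact False.elim (cert_false T ((skipEmb 2).trans (Function.Embedding.refl _)) (by norm_num) (fun _ => hall _) (((((((LB_zero T ((skipEmb 2).trans (Function.Embedding.refl _))).upd 0 2 1 (le_of_eq hx03)).upd 0 3 2 (le_of_eq hx04)).upd 2 0 1 (le_of_eq hx30)).upd 2 3 2 (le_of_eq hx34)).upd 3 0 1 (le_of_eq hx40)).upd 3 2 1 (le_of_eq hx43)) ![1,0,1,1] (by decide) (by decide) 0 (by decide))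
        · -- 34=(1,3)
          exact False.elim (cert_false T ((skipEmb 2).trans (Function.Embedding.refl _)) (by norm_num) (fun _ => hall _) (((((((LB_zero T ((skipEmb 2).trans (Function.Embedding.refl _))).upd 0 2 1 (le_of_eq hx03)).upd 0 3 2 (le_of_eq hx04)).upd 2 0 1 (le_of_eq hx30)).upd 2 3 1 (le_of_eq hx34)).upd 3 0 1 (le_of_eq hx40)).upd 3 2 3 (le_of_eq hx43)) ![1,0,1,1] (by decide) (by decide) 0 (by decide))
        · -- 34=(3,1)
          exact False.elim (cert_false T ((skipEmb 2).trans (Function.Embedding.refl _)) (by norm_num) (fun _ => hall _) (((((((LB_zero T ((skipEmb 2).trans (Function.Embedding.refl _))).upd 0 2 1 (le_of_eq hx03)).upd 0 3 2 (le_of_eq hx04)).upd 2 0 1 (le_of_eq hx30)).upd 2 3 3 (le_of_eq hx34)).upd 3 0 1 (le_of_eq hx40)).upd 3 2 1 (le_of_eq hx43)) ![1,0,1,1] (by decide) (by decide) 0 (by decide))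
      · -- 24=(1,1)
        exact False.elim (cert_false T ((skipEmb 1).trans (Function.Embedding.refl _)) (by norm_num) (fun _ => hall _) (((((((((LB_zero T ((skipEmb 1).trans (Function.Embedding.refl _))).upd 0 2 1 (le_of_eq hx03)).upd 0 3 2 (le_of_eq hx04)).upd 1 2 1 (le_of_eq hx23)).upd 1 3 1 (le_of_eq hx24)).upd 2 0 1 (le_of_eq hx30)).upd 2 1 1 (le_of_eq hx32)).upd 3 0 1 (le_of_eq hx40)).upd 3 1 1 (le_of_eq hx42)) ![1,1,1,1] (by decide) (by decide) 0 (by decide))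
      · -- 24=(1,2)
        exact False.elim (cert_false T ((skipEmb 3).trans (Function.Embedding.refl _)) (by norm_num) (fun _ => hall _) (((((LB_zero T ((skipEmb 3).trans (Function.Embedding.refl _))).upd 0 3 2 (le_of_eq hx04)).upd 2 3 1 (le_of_eq hx24)).upd 3 0 1 (le_of_eq hx40)).upd 3 2 2 (le_of_eq hx42)) ![2,0,1,2] (by decide) (by decide) 0 (by decide))
      · -- 24=(2,1)
        exact False.elim (cert_false T ((skipEmb 3).trans (Function.Embedding.refl _)) (by norm_num) (fun _ => hall _) (((((LB_zero T ((skipEmb 3).trans (Function.Embedding.refl _))).upd 0 3 2 (le_of_eq hx04)).upd 2 3 2 (le_of_eq hx24)).upd 3 0 1 (le_of_eq hx40)).upd 3 2 1 (le_of_eq hx42)) ![1,0,1,1] (by decide) (by decide) 0 (by decide))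
      · -- 24=(1,3)
        exact False.elim (cert_false T ((skipEmb 3).trans (Function.Embedding.refl _)) (by norm_num) (fun _ => hall _) (((((LB_zero T ((skipEmb 3).trans (Function.Embedding.refl _))).upd 0 3 2 (le_of_eq hx04)).upd 2 3 1 (le_of_eq hx24)).upd 3 0 1 (le_of_eq hx40)).upd 3 2 3 (le_of_eq hx42)) ![1,0,1,2] (by decide) (by decide) 0 (by decide))
      · -- 24=(3,1)
        exact False.elim (cert_false T ((skipEmb 3).trans (Function.Embedding.refl _)) (by norm_num) (fun _ => hall _) (((((LB_zero T ((skipEmb 3).trans (Function.Embedding.refl _))).upd 0 3 2 (le_of_eq hx04)).upd 2 3 3 (le_of_eq hx24)).upd 3 0 1 (le_of_eq hx40)).upd 3 2 1 (le_of_eq hx42)) ![1,0,1,1] (by decide) (by decide) 0 (by decide))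
    · -- 14=(1,1)
      rcases d24 with ⟨rfl, rfl⟩ | ⟨rfl, rfl⟩ | ⟨rfl, rfl⟩ | ⟨rfl, rfl⟩ | ⟨rfl, rfl⟩ | ⟨rfl, rfl⟩
      · -- 24=(0,0)
        rcases d34 with ⟨rfl, rfl⟩ | ⟨rfl, rfl⟩ | ⟨rfl, rfl⟩ | ⟨rfl, rfl⟩ | ⟨rfl, rfl⟩ | ⟨rfl, rfl⟩
        · -- 34=(0,0)
          refine ⟨(⟨![2, 3, 0, 4, 1], ![2, 4, 0, 1, 3], by decide, by decide⟩ : Equiv.Perm (Fin 5)), T.m 2, T.w 2, Or.inr (Or.inl ?_)⟩
          show T.m 2 = T.m 2 ∧ T.m 3 = 2 * T.m 2 ∧ T.m 0 = 3 * T.m 2 ∧ T.m 4 = 2 * T.m 2 ∧ T.m 1 = T.m 2 ∧ T.w 2 = T.w 2 ∧ T.w 3 = T.w 2 ∧ T.w 0 = T.w 2 ∧ T.w 4 = 2 * T.w 2 ∧ T.w 1 = 2 * T.w 2 ∧ T.a 2 2 = -2 * T.w 2 ∧ T.a 2 3 = T.w 2 ∧ T.a 2 0 = 0 ∧ T.a 2 4 = 0 ∧ T.a 2 1 = 0 ∧ T.a 3 3 = -2 * T.w 2 ∧ T.a 3 0 = T.w 2 ∧ T.a 3 4 = 0 ∧ T.a 3 1 = 0 ∧ T.a 0 0 = -2 * T.w 2 ∧ T.a 0 4 = 2 * T.w 2 ∧ T.a 0 1 = 0 ∧ T.a 4 4 = -4 * T.w 2 ∧ T.a 4 1 = 2 * T.w 2 ∧ T.a 1 1 = -4 * T.w 2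
          refine ⟨?_, ?_, ?_, ?_, ?_, ?_, ?_, ?_, ?_, ?_, ?_, ?_, ?_, ?_, ?_, ?_, ?_, ?_, ?_, ?_, ?_, ?_, ?_, ?_, ?_⟩ <;> omega
        · -- 34=(1,1)
          exact False.elim (cert_false T ((skipEmb 2).trans (Function.Embedding.refl _)) (by norm_num) (fun _ => hall _) (((((((LB_zero T ((skipEmb 2).trans (Function.Embedding.refl _))).upd 0 2 1 (le_of_eq hx03)).upd 0 3 2 (le_of_eq hx04)).upd 2 0 1 (le_of_eq hx30)).upd 2 3 1 (le_of_eq hx34)).upd 3 0 1 (le_of_eq hx40)).upd 3 2 1 (le_of_eq hx43)) ![1,0,1,1] (by decide) (by decide) 0 (by decide))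
        · -- 34=(1,2)
          exact False.elim (cert_false T ((skipEmb 2).trans (Function.Embedding.refl _)) (by norm_num) (fun _ => hall _) (((((((LB_zero T ((skipEmb 2).trans (Function.Embedding.refl _))).upd 0 2 1 (le_of_eq hx03)).upd 0 3 2 (le_of_eq hx04)).upd 2 0 1 (le_of_eq hx30)).upd 2 3 1 (le_of_eq hx34)).upd 3 0 1 (le_of_eq hx40)).upd 3 2 2 (le_of_eq hx43)) ![1,0,1,1] (by decide) (by decide) 0 (by decide))
        · -- 34=(2,1)
          exact False.elim (cert_false T ((skipEmb 2).trans (Function.Embedding.refl _)) (by norm_num) (fun _ => hall _) (((((((LB_zero T ((skipEmb 2).trans (Function.Embedding.refl _))).upd 0 2 1 (le_of_eq hx03)).upd 0 3 2 (le_of_eq hx04)).upd 2 0 1 (le_of_eq hx30)).upd 2 3 2 (le_of_eq hx34)).upd 3 0 1 (le_of_eq hx40)).upd 3 2 1 (le_of_eq hx43)) ![1,0,1,1] (by decide) (by decide) 0 (by decide))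
        · -- 34=(1,3)
          exact False.elim (cert_false T ((skipEmb 2).trans (Function.Embedding.refl _)) (by norm_num) (fun _ => hall _) (((((((LB_zero T ((skipEmb 2).trans (Function.Embedding.refl _))).upd 0 2 1 (le_of_eq hx03)).upd 0 3 2 (le_of_eq hx04)).upd 2 0 1 (le_of_eq hx30)).upd 2 3 1 (le_of_eq hx34)).upd 3 0 1 (le_of_eq hx40)).upd 3 2 3 (le_of_eq hx43)) ![1,0,1,1] (by decide) (by decide) 0 (by decide))
        · -- 34=(3,1)
          exact False.elim (cert_false T ((skipEmb 2).trans (Function.Embedding.refl _)) (by norm_num) (fun _ => hall _) (((((((LB_zero T ((skipEmb 2).trans (Function.Embedding.refl _))).upd 0 2 1 (le_of_eq hx03)).upd 0 3 2 (le_of_eq hx04)).upd 2 0 1 (le_of_eq hx30)).upd 2 3 3 (le_of_eq hx34)).upd 3 0 1 (le_of_eq hx40)).upd 3 2 1 (le_of_eq hx43)) ![1,0,1,1] (by decide) (by decide) 0 (by decide))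
      · -- 24=(1,1)
        exact False.elim (cert_false T ((skipEmb 3).trans (Function.Embedding.refl _)) (by norm_num) (fun _ => hall _) (((((((LB_zero T ((skipEmb 3).trans (Function.Embedding.refl _))).upd 0 3 2 (le_of_eq hx04)).upd 1 3 1 (le_of_eq hx14)).upd 2 3 1 (le_of_eq hx24)).upd 3 0 1 (le_of_eq hx40)).upd 3 1 1 (le_of_eq hx41)).upd 3 2 1 (le_of_eq hx42)) ![2,1,1,2] (by decide) (by decide) 0 (by decide))
      · -- 24=(1,2)
        exact False.elim (cert_false T ((skipEmb 3).trans (Function.Embedding.refl _)) (by norm_num) (fun _ => hall _) (((((((LB_zero T ((skipEmb 3).trans (Function.Embedding.refl _))).upd 0 3 2 (le_of_eq hx04)).upd 1 3 1 (le_of_eq hx14)).upd 2 3 1 (le_of_eq hx24)).upd 3 0 1 (le_of_eq hx40)).upd 3 1 1 (le_of_eq hx41)).upd 3 2 2 (le_of_eq hx42)) ![1,1,1,2] (by decide) (by decide) 0 (by decide))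
      · -- 24=(2,1)
        exact False.elim (cert_false T ((skipEmb 3).trans (Function.Embedding.refl _)) (by norm_num) (fun _ => hall _) (((((LB_zero T ((skipEmb 3).trans (Function.Embedding.refl _))).upd 0 3 2 (le_of_eq hx04)).upd 2 3 2 (le_of_eq hx24)).upd 3 0 1 (le_of_eq hx40)).upd 3 2 1 (le_of_eq hx42)) ![1,0,1,1] (by decide) (by decide) 0 (by decide))
      · -- 24=(1,3)
        exact False.elim (cert_false T ((skipEmb 3).trans (Function.Embedding.refl _)) (by norm_num) (fun _ => hall _) (((((LB_zero T ((skipEmb 3).trans (Function.Embedding.refl _))).upd 1 3 1 (le_of_eq hx14)).upd 2 3 1 (le_of_eq hx24)).upd 3 1 1 (le_of_eq hx41)).upd 3 2 3 (le_of_eq hx42)) ![0,1,1,2] (by decide) (by decide) 1 (by decide))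
      · -- 24=(3,1)
        exact False.elim (cert_false T ((skipEmb 3).trans (Function.Embedding.refl _)) (by norm_num) (fun _ => hall _) (((((LB_zero T ((skipEmb 3).trans (Function.Embedding.refl _))).upd 0 3 2 (le_of_eq hx04)).upd 2 3 3 (le_of_eq hx24)).upd 3 0 1 (le_of_eq hx40)).upd 3 2 1 (le_of_eq hx42)) ![1,0,1,1] (by decide) (by decide) 0 (by decide))
    · -- 14=(1,2)
      exact False.elim (cert_false T ((skipEmb 3).trans (Function.Embedding.refl _)) (by norm_num) (fun _ => hall _) (((((LB_zero T ((skipEmb 3).trans (Function.Embedding.refl _))).upd 0 3 2 (le_of_eq hx04)).upd 1 3 1 (le_of_eq hx14)).upd 3 0 1 (le_of_eq hx40)).upd 3 1 2 (le_of_eq hx41)) ![2,1,0,2] (by decide) (by decide) 0 (by decide))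
    · -- 14=(2,1)
      exact False.elim (cert_false T ((skipEmb 3).trans (Function.Embedding.refl _)) (by norm_num) (fun _ => hall _) (((((LB_zero T ((skipEmb 3).trans (Function.Embedding.refl _))).upd 0 3 2 (le_of_eq hx04)).upd 1 3 2 (le_of_eq hx14)).upd 3 0 1 (le_of_eq hx40)).upd 3 1 1 (le_of_eq hx41)) ![1,1,0,1] (by decide) (by decide) 0 (by decide))
    · -- 14=(1,3)
      exact False.elim (cert_false T ((skipEmb 3).trans (Function.Embedding.refl _)) (by norm_num) (fun _ => hall _) (((((LB_zero T ((skipEmb 3).trans (Function.Embedding.refl _))).upd 0 3 2 (le_of_eq hx04)).upd 1 3 1 (le_of_eq hx14)).upd 3 0 1 (le_of_eq hx40)).upd 3 1 3 (le_of_eq hx41)) ![1,1,0,2] (by decide) (by decide) 0 (by decide))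
    · -- 14=(3,1)
      exact False.elim (cert_false T ((skipEmb 3).trans (Function.Embedding.refl _)) (by norm_num) (fun _ => hall _) (((((LB_zero T ((skipEmb 3).trans (Function.Embedding.refl _))).upd 0 3 2 (le_of_eq hx04)).upd 1 3 3 (le_of_eq hx14)).upd 3 0 1 (le_of_eq hx40)).upd 3 1 1 (le_of_eq hx41)) ![1,1,0,1] (by decide) (by decide) 0 (by decide))
  · -- 04=(1,3)
    exact False.elim (cert_false T ((skipEmb 2).trans (Function.Embedding.refl _)) (by norm_num) (fun _ => hall _) (((((LB_zero T ((skipEmb 2).trans (Function.Embedding.refl _))).upd 0 2 1 (le_of_eq hx03)).upd 0 3 1 (le_of_eq hx04)).upd 2 0 1 (le_of_eq hx30)).upd 3 0 3 (le_of_eq hx40)) ![2,0,1,3] (by decide) (by decide) 0 (by decide))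
  · -- 04=(3,1)
    exact False.elim (cert_false T ((skipEmb 2).trans (Function.Embedding.refl _)) (by norm_num) (fun _ => hall _) (((((LB_zero T ((skipEmb 2).trans (Function.Embedding.refl _))).upd 0 2 1 (le_of_eq hx03)).upd 0 3 3 (le_of_eq hx04)).upd 2 0 1 (le_of_eq hx30)).upd 3 0 1 (le_of_eq hx40)) ![2,0,1,1] (by decide) (by decide) 0 (by decide))

theorem case50 (T : NumericalType 5) (hall : ∀ i, T.IsMinusTwo i) (d : SData T)
    (h01 : N T (Function.Embedding.refl _) 0 1 = 0) (h10 : N T (Function.Embedding.refl _) 1 0 = 0)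
    (h02 : N T (Function.Embedding.refl _) 0 2 = 0) (h20 : N T (Function.Embedding.refl _) 2 0 = 0)
    (h12 : N T (Function.Embedding.refl _) 1 2 = 0) (h21 : N T (Function.Embedding.refl _) 2 1 = 0)
    (h03 : N T (Function.Embedding.refl _) 0 3 = 1) (h30 : N T (Function.Embedding.refl _) 3 0 = 1)
    (h13 : N T (Function.Embedding.refl _) 1 3 = 0) (h31 : N T (Function.Embedding.refl _) 3 1 = 0)
    (h23 : N T (Function.Embedding.refl _) 2 3 = 1) (h32 : N T (Function.Embedding.refl _) 3 2 = 2)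
    (h04 : N T (Function.Embedding.refl _) 0 4 = 0) (h40 : N T (Function.Embedding.refl _) 4 0 = 0) :
    Goal T := by
  unfold Goal
  have hd := d
  obtain ⟨x01, x02, x03, x04, x10, x12, x13, x14, x20, x21, x23, x24, x30, x31, x32, x34, x40, x41, x42, x43, hx01, hx02, hx03, hx04, hx10, hx12, hx13, hx14, hx20, hx21, hx23, hx24, hx30, hx31, hx32, hx34, hx40, hx41, hx42, hx43, hw0, hm0, hw1, hm1, hw2, hm2, hw3, hm3, hw4, hm4, a00, a01, a02, a03, a04, a11, a10, a12, a13, a14, a22, a20, a21, a23, a24, a33, a30, a31, a32, a34, a44, a40, a41, a42, a43, wN01, wN02, wN12, wN03, wN13, wN23, wN04, wN14, wN24, wN34, e0, e1, e2, e3, e4, d01, d02, d12, d03, d13, d23, d04, d14, d24, d34⟩ := d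
  obtain rfl : x01 = 0 := hx01.trans h01
  obtain rfl : x10 = 0 := hx10.trans h10
  obtain rfl : x02 = 0 := hx02.trans h02
  obtain rfl : x20 = 0 := hx20.trans h20
  obtain rfl : x12 = 0 := hx12.trans h12
  obtain rfl : x21 = 0 := hx21.trans h21
  obtain rfl : x03 = 1 := hx03.trans h03
  obtain rfl : x30 = 1 := hx30.trans h30
  obtain rfl : x13 = 0 := hx13.trans h13
  obtain rfl : x31 = 0 := hx31.trans h31
  obtain rfl : x23 = 1 := hx23.trans h23
  obtain rfl : x32 = 2 := hx32.trans h32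
  obtain rfl : x04 = 0 := hx04.trans h04
  obtain rfl : x40 = 0 := hx40.trans h40
  rcases d14 with ⟨rfl, rfl⟩ | ⟨rfl, rfl⟩ | ⟨rfl, rfl⟩ | ⟨rfl, rfl⟩ | ⟨rfl, rfl⟩ | ⟨rfl, rfl⟩
  · -- 14=(0,0)
    rcases d24 with ⟨rfl, rfl⟩ | ⟨rfl, rfl⟩ | ⟨rfl, rfl⟩ | ⟨rfl, rfl⟩ | ⟨rfl, rfl⟩ | ⟨rfl, rfl⟩
    · -- 24=(0,0)
      rcases d34 with ⟨rfl, rfl⟩ | ⟨rfl, rfl⟩ | ⟨rfl, rfl⟩ | ⟨rfl, rfl⟩ | ⟨rfl, rfl⟩ | ⟨rfl, rfl⟩
      · -- 34=(0,0)
        exfalso; omega
      · -- 34=(1,1)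
        exact False.elim (cert_false T ((skipEmb 1).trans (Function.Embedding.refl _)) (by norm_num) (fun _ => hall _) (((((((LB_zero T ((skipEmb 1).trans (Function.Embedding.refl _))).upd 0 2 1 (le_of_eq hx03)).upd 1 2 1 (le_of_eq hx23)).upd 2 0 1 (le_of_eq hx30)).upd 2 1 2 (le_of_eq hx32)).upd 2 3 1 (le_of_eq hx34)).upd 3 2 1 (le_of_eq hx43)) ![1,1,2,1] (by decide) (by decide) 0 (by decide))
      · -- 34=(1,2)
        exact False.elim (cert_false T ((skipEmb 1).trans (Function.Embedding.refl _)) (by norm_num) (fun _ => hall _) (((((LB_zero T ((skipEmb 1).trans (Function.Embedding.refl _))).upd 1 2 1 (le_of_eq hx23)).upd 2 1 2 (le_of_eq hx32)).upd 2 3 1 (le_of_eq hx34)).upd 3 2 2 (le_of_eq hx43)) ![0,1,2,2] (by decide) (by decide) 1 (by decide))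
      · -- 34=(2,1)
        exact False.elim (cert_false T ((skipEmb 1).trans (Function.Embedding.refl _)) (by norm_num) (fun _ => hall _) (((((LB_zero T ((skipEmb 1).trans (Function.Embedding.refl _))).upd 1 2 1 (le_of_eq hx23)).upd 2 1 2 (le_of_eq hx32)).upd 2 3 2 (le_of_eq hx34)).upd 3 2 1 (le_of_eq hx43)) ![0,1,2,1] (by decide) (by decide) 1 (by decide))
      · -- 34=(1,3)
        exact False.elim (cert_false T ((skipEmb 2).trans (Function.Embedding.refl _)) (by norm_num) (fun _ => hall _) (((((LB_zero T ((skipEmb 2).trans (Function.Embedding.refl _))).upd 0 2 1 (le_of_eq hx03)).upd 2 0 1 (le_of_eq hx30)).upd 2 3 1 (le_of_eq hx34)).upd 3 2 3 (le_of_eq hx43)) ![1,0,2,3] (by decide) (by decide) 0 (by decide))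
      · -- 34=(3,1)
        exact False.elim (cert_false T ((skipEmb 2).trans (Function.Embedding.refl _)) (by norm_num) (fun _ => hall _) (((((LB_zero T ((skipEmb 2).trans (Function.Embedding.refl _))).upd 0 2 1 (le_of_eq hx03)).upd 2 0 1 (le_of_eq hx30)).upd 2 3 3 (le_of_eq hx34)).upd 3 2 1 (le_of_eq hx43)) ![1,0,2,1] (by decide) (by decide) 0 (by decide))
    · -- 24=(1,1)
      rcases d34 with ⟨rfl, rfl⟩ | ⟨rfl, rfl⟩ | ⟨rfl, rfl⟩ | ⟨rfl, rfl⟩ | ⟨rfl, rfl⟩ | ⟨rfl, rfl⟩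
      · -- 34=(0,0)
        exfalso; omega
      · -- 34=(1,1)
        exact False.elim (cert_false T ((skipEmb 1).trans (Function.Embedding.refl _)) (by norm_num) (fun _ => hall _) (((((((LB_zero T ((skipEmb 1).trans (Function.Embedding.refl _))).upd 1 2 1 (le_of_eq hx23)).upd 1 3 1 (le_of_eq hx24)).upd 2 1 2 (le_of_eq hx32)).upd 2 3 1 (le_of_eq hx34)).upd 3 1 1 (le_of_eq hx42)).upd 3 2 1 (le_of_eq hx43)) ![0,1,1,1] (by decide) (by decide) 1 (by decide))
      · -- 34=(1,2)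
        exact False.elim (cert_false T ((skipEmb 1).trans (Function.Embedding.refl _)) (by norm_num) (fun _ => hall _) (((((((LB_zero T ((skipEmb 1).trans (Function.Embedding.refl _))).upd 1 2 1 (le_of_eq hx23)).upd 1 3 1 (le_of_eq hx24)).upd 2 1 2 (le_of_eq hx32)).upd 2 3 1 (le_of_eq hx34)).upd 3 1 1 (le_of_eq hx42)).upd 3 2 2 (le_of_eq hx43)) ![0,1,1,1] (by decide) (by decide) 1 (by decide))
      · -- 34=(2,1)
        exact False.elim (cert_false T ((skipEmb 1).trans (Function.Embedding.refl _)) (by norm_num) (fun _ => hall _) (((((((LB_zero T ((skipEmb 1).trans (Function.Embedding.refl _))).upd 1 2 1 (le_of_eq hx23)).upd 1 3 1 (le_of_eq hx24)).upd 2 1 2 (le_of_eq hx32)).upd 2 3 2 (le_of_eq hx34)).upd 3 1 1 (le_of_eq hx42)).upd 3 2 1 (le_of_eq hx43)) ![0,1,1,1] (by decide) (by decide) 1 (by decide))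
      · -- 34=(1,3)
        exact False.elim (cert_false T ((skipEmb 2).trans (Function.Embedding.refl _)) (by norm_num) (fun _ => hall _) (((((LB_zero T ((skipEmb 2).trans (Function.Embedding.refl _))).upd 0 2 1 (le_of_eq hx03)).upd 2 0 1 (le_of_eq hx30)).upd 2 3 1 (le_of_eq hx34)).upd 3 2 3 (le_of_eq hx43)) ![1,0,2,3] (by decide) (by decide) 0 (by decide))
      · -- 34=(3,1)
        exact False.elim (cert_false T ((skipEmb 2).trans (Function.Embedding.refl _)) (by norm_num) (fun _ => hall _) (((((LB_zero T ((skipEmb 2).trans (Function.Embedding.refl _))).upd 0 2 1 (le_of_eq hx03)).upd 2 0 1 (le_of_eq hx30)).upd 2 3 3 (le_of_eq hx34)).upd 3 2 1 (le_of_eq hx43)) ![1,0,2,1] (by decide) (by decide) 0 (by decide))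
    · -- 24=(1,2)
      exact False.elim (cert_false T ((skipEmb 1).trans (Function.Embedding.refl _)) (by norm_num) (fun _ => hall _) (((((LB_zero T ((skipEmb 1).trans (Function.Embedding.refl _))).upd 1 2 1 (le_of_eq hx23)).upd 1 3 1 (le_of_eq hx24)).upd 2 1 2 (le_of_eq hx32)).upd 3 1 2 (le_of_eq hx42)) ![0,1,1,1] (by decide) (by decide) 1 (by decide))
    · -- 24=(2,1)
      exact False.elim (cert_false T ((skipEmb 1).trans (Function.Embedding.refl _)) (by norm_num) (fun _ => hall _) (((((LB_zero T ((skipEmb 1).trans (Function.Embedding.refl _))).upd 1 2 1 (le_of_eq hx23)).upd 1 3 2 (le_of_eq hx24)).upd 2 1 2 (le_of_eq hx32)).upd 3 1 1 (le_of_eq hx42)) ![0,2,2,1] (by decide) (by decide) 1 (by decide))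
    · -- 24=(1,3)
      exact False.elim (cert_false T ((skipEmb 1).trans (Function.Embedding.refl _)) (by norm_num) (fun _ => hall _) (((((LB_zero T ((skipEmb 1).trans (Function.Embedding.refl _))).upd 1 2 1 (le_of_eq hx23)).upd 1 3 1 (le_of_eq hx24)).upd 2 1 2 (le_of_eq hx32)).upd 3 1 3 (le_of_eq hx42)) ![0,1,1,1] (by decide) (by decide) 1 (by decide))
    · -- 24=(3,1)
      exact False.elim (cert_false T ((skipEmb 1).trans (Function.Embedding.refl _)) (by norm_num) (fun _ => hall _) (((((LB_zero T ((skipEmb 1).trans (Function.Embedding.refl _))).upd 1 2 1 (le_of_eq hx23)).upd 1 3 3 (le_of_eq hx24)).upd 2 1 2 (le_of_eq hx32)).upd 3 1 1 (le_of_eq hx42)) ![0,2,1,1] (by decide) (by decide) 1 (by decide))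
  · -- 14=(1,1)
    rcases d24 with ⟨rfl, rfl⟩ | ⟨rfl, rfl⟩ | ⟨rfl, rfl⟩ | ⟨rfl, rfl⟩ | ⟨rfl, rfl⟩ | ⟨rfl, rfl⟩
    · -- 24=(0,0)
      rcases d34 with ⟨rfl, rfl⟩ | ⟨rfl, rfl⟩ | ⟨rfl, rfl⟩ | ⟨rfl, rfl⟩ | ⟨rfl, rfl⟩ | ⟨rfl, rfl⟩
      · -- 34=(0,0)
        exfalso; omega
      · -- 34=(1,1)
        exact False.elim (cert_false T ((skipEmb 1).trans (Function.Embedding.refl _)) (by norm_num) (fun _ => hall _) (((((((LB_zero T ((skipEmb 1).trans (Function.Embedding.refl _))).upd 0 2 1 (le_of_eq hx03)).upd 1 2 1 (le_of_eq hx23)).upd 2 0 1 (le_of_eq hx30)).upd 2 1 2 (le_of_eq hx32)).upd 2 3 1 (le_of_eq hx34)).upd 3 2 1 (le_of_eq hx43)) ![1,1,2,1] (by decide) (by decide) 0 (by decide))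
      · -- 34=(1,2)
        exact False.elim (cert_false T ((skipEmb 1).trans (Function.Embedding.refl _)) (by norm_num) (fun _ => hall _) (((((LB_zero T ((skipEmb 1).trans (Function.Embedding.refl _))).upd 1 2 1 (le_of_eq hx23)).upd 2 1 2 (le_of_eq hx32)).upd 2 3 1 (le_of_eq hx34)).upd 3 2 2 (le_of_eq hx43)) ![0,1,2,2] (by decide) (by decide) 1 (by decide))
      · -- 34=(2,1)
        exact False.elim (cert_false T ((skipEmb 1).trans (Function.Embedding.refl _)) (by norm_num) (fun _ => hall _) (((((LB_zero T ((skipEmb 1).trans (Function.Embedding.refl _))).upd 1 2 1 (le_of_eq hx23)).upd 2 1 2 (le_of_eq hx32)).upd 2 3 2 (le_of_eq hx34)).upd 3 2 1 (le_of_eq hx43)) ![0,1,2,1] (by decide) (by decide) 1 (by decide))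
      · -- 34=(1,3)
        exact False.elim (cert_false T ((skipEmb 2).trans (Function.Embedding.refl _)) (by norm_num) (fun _ => hall _) (((((LB_zero T ((skipEmb 2).trans (Function.Embedding.refl _))).upd 1 3 1 (le_of_eq hx14)).upd 2 3 1 (le_of_eq hx34)).upd 3 1 1 (le_of_eq hx41)).upd 3 2 3 (le_of_eq hx43)) ![0,1,1,2] (by decide) (by decide) 1 (by decide))
      · -- 34=(3,1)
        exact False.elim (cert_false T ((skipEmb 2).trans (Function.Embedding.refl _)) (by norm_num) (fun _ => hall _) (((((LB_zero T ((skipEmb 2).trans (Function.Embedding.refl _))).upd 0 2 1 (le_of_eq hx03)).upd 2 0 1 (le_of_eq hx30)).upd 2 3 3 (le_of_eq hx34)).upd 3 2 1 (le_of_eq hx43)) ![1,0,2,1] (by decide) (by decide) 0 (by decide))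
    · -- 24=(1,1)
      rcases d34 with ⟨rfl, rfl⟩ | ⟨rfl, rfl⟩ | ⟨rfl, rfl⟩ | ⟨rfl, rfl⟩ | ⟨rfl, rfl⟩ | ⟨rfl, rfl⟩
      · -- 34=(0,0)
        refine ⟨(⟨![1, 4, 2, 3, 0], ![4, 0, 2, 3, 1], by decide, by decide⟩ : Equiv.Perm (Fin 5)), T.m 1, T.w 3, Or.inr (Or.inr (Or.inl ?_))⟩
        show T.m 1 = T.m 1 ∧ T.m 4 = 2 * T.m 1 ∧ T.m 2 = 3 * T.m 1 ∧ T.m 3 = 4 * T.m 1 ∧ T.m 0 = 2 * T.m 1 ∧ T.w 1 = 2 * T.w 3 ∧ T.w 4 = 2 * T.w 3 ∧ T.w 2 = 2 * T.w 3 ∧ T.w 3 = T.w 3 ∧ T.w 0 = T.w 3 ∧ T.a 1 1 = -4 * T.w 3 ∧ T.a 1 4 = 2 * T.w 3 ∧ T.a 1 2 = 0 ∧ T.a 1 3 = 0 ∧ T.a 1 0 = 0 ∧ T.a 4 4 = -4 * T.w 3 ∧ T.a 4 2 = 2 * T.w 3 ∧ T.a 4 3 = 0 ∧ T.a 4 0 = 0 ∧ T.a 2 2 = -4 * T.w 3 ∧ T.a 2 3 = 2 * T.w 3 ∧ T.a 2 0 = 0 ∧ T.a 3 3 = -2 * T.w 3 ∧ T.a 3 0 = T.w 3 ∧ T.a 0 0 = -2 * T.w 3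
        refine ⟨?_, ?_, ?_, ?_, ?_, ?_, ?_, ?_, ?_, ?_, ?_, ?_, ?_, ?_, ?_, ?_, ?_, ?_, ?_, ?_, ?_, ?_, ?_, ?_, ?_⟩ <;> omega
      · -- 34=(1,1)
        exact False.elim (cert_false T ((skipEmb 1).trans (Function.Embedding.refl _)) (by norm_num) (fun _ => hall _) (((((((LB_zero T ((skipEmb 1).trans (Function.Embedding.refl _))).upd 1 2 1 (le_of_eq hx23)).upd 1 3 1 (le_of_eq hx24)).upd 2 1 2 (le_of_eq hx32)).upd 2 3 1 (le_of_eq hx34)).upd 3 1 1 (le_of_eq hx42)).upd 3 2 1 (le_of_eq hx43)) ![0,1,1,1] (by decide) (by decide) 1 (by decide))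
      · -- 34=(1,2)
        exact False.elim (cert_false T ((skipEmb 1).trans (Function.Embedding.refl _)) (by norm_num) (fun _ => hall _) (((((((LB_zero T ((skipEmb 1).trans (Function.Embedding.refl _))).upd 1 2 1 (le_of_eq hx23)).upd 1 3 1 (le_of_eq hx24)).upd 2 1 2 (le_of_eq hx32)).upd 2 3 1 (le_of_eq hx34)).upd 3 1 1 (le_of_eq hx42)).upd 3 2 2 (le_of_eq hx43)) ![0,1,1,1] (by decide) (by decide) 1 (by decide))
      · -- 34=(2,1)
        exact False.elim (cert_false T ((skipEmb 1).trans (Function.Embedding.refl _)) (by norm_num) (fun _ => hall _) (((((((LB_zero T ((skipEmb 1).trans (Function.Embedding.refl _))).upd 1 2 1 (le_of_eq hx23)).upd 1 3 1 (le_of_eq hx24)).upd 2 1 2 (le_of_eq hx32)).upd 2 3 2 (le_of_eq hx34)).upd 3 1 1 (le_of_eq hx42)).upd 3 2 1 (le_of_eq hx43)) ![0,1,1,1] (by decide) (by decide) 1 (by decide))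
      · -- 34=(1,3)
        exact False.elim (cert_false T ((skipEmb 2).trans (Function.Embedding.refl _)) (by norm_num) (fun _ => hall _) (((((LB_zero T ((skipEmb 2).trans (Function.Embedding.refl _))).upd 1 3 1 (le_of_eq hx14)).upd 2 3 1 (le_of_eq hx34)).upd 3 1 1 (le_of_eq hx41)).upd 3 2 3 (le_of_eq hx43)) ![0,1,1,2] (by decide) (by decide) 1 (by decide))
      · -- 34=(3,1)
        exact False.elim (cert_false T ((skipEmb 2).trans (Function.Embedding.refl _)) (by norm_num) (fun _ => hall _) (((((LB_zero T ((skipEmb 2).trans (Function.Embedding.refl _))).upd 0 2 1 (le_of_eq hx03)).upd 2 0 1 (le_of_eq hx30)).upd 2 3 3 (le_of_eq hx34)).upd 3 2 1 (le_of_eq hx43)) ![1,0,2,1] (by decide) (by decide) 0 (by decide))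
    · -- 24=(1,2)
      exact False.elim (cert_false T ((skipEmb 1).trans (Function.Embedding.refl _)) (by norm_num) (fun _ => hall _) (((((LB_zero T ((skipEmb 1).trans (Function.Embedding.refl _))).upd 1 2 1 (le_of_eq hx23)).upd 1 3 1 (le_of_eq hx24)).upd 2 1 2 (le_of_eq hx32)).upd 3 1 2 (le_of_eq hx42)) ![0,1,1,1] (by decide) (by decide) 1 (by decide))
    · -- 24=(2,1)
      exact False.elim (cert_false T ((skipEmb 1).trans (Function.Embedding.refl _)) (by norm_num) (fun _ => hall _) (((((LB_zero T ((skipEmb 1).trans (Function.Embedding.refl _))).upd 1 2 1 (le_of_eq hx23)).upd 1 3 2 (le_of_eq hx24)).upd 2 1 2 (le_of_eq hx32)).upd 3 1 1 (le_of_eq hx42)) ![0,2,2,1] (by decide) (by decide) 1 (by decide))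
    · -- 24=(1,3)
      exact False.elim (cert_false T ((skipEmb 3).trans (Function.Embedding.refl _)) (by norm_num) (fun _ => hall _) (((((LB_zero T ((skipEmb 3).trans (Function.Embedding.refl _))).upd 1 3 1 (le_of_eq hx14)).upd 2 3 1 (le_of_eq hx24)).upd 3 1 1 (le_of_eq hx41)).upd 3 2 3 (le_of_eq hx42)) ![0,1,1,2] (by decide) (by decide) 1 (by decide))
    · -- 24=(3,1)
      exact False.elim (cert_false T ((skipEmb 3).trans (Function.Embedding.refl _)) (by norm_num) (fun _ => hall _) (((((LB_zero T ((skipEmb 3).trans (Function.Embedding.refl _))).upd 1 3 1 (le_of_eq hx14)).upd 2 3 3 (le_of_eq hx24)).upd 3 1 1 (le_of_eq hx41)).upd 3 2 1 (le_of_eq hx42)) ![0,1,3,2] (by decide) (by decide) 1 (by decide))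
  · -- 14=(1,2)
    rcases d24 with ⟨rfl, rfl⟩ | ⟨rfl, rfl⟩ | ⟨rfl, rfl⟩ | ⟨rfl, rfl⟩ | ⟨rfl, rfl⟩ | ⟨rfl, rfl⟩
    · -- 24=(0,0)
      rcases d34 with ⟨rfl, rfl⟩ | ⟨rfl, rfl⟩ | ⟨rfl, rfl⟩ | ⟨rfl, rfl⟩ | ⟨rfl, rfl⟩ | ⟨rfl, rfl⟩
      · -- 34=(0,0)
        exfalso; omega
      · -- 34=(1,1)
        exact False.elim (cert_false T ((skipEmb 1).trans (Function.Embedding.refl _)) (by norm_num) (fun _ => hall _) (((((((LB_zero T ((skipEmb 1).trans (Function.Embedding.refl _))).upd 0 2 1 (le_of_eq hx03)).upd 1 2 1 (le_of_eq hx23)).upd 2 0 1 (le_of_eq hx30)).upd 2 1 2 (le_of_eq hx32)).upd 2 3 1 (le_of_eq hx34)).upd 3 2 1 (le_of_eq hx43)) ![1,1,2,1] (by decide) (by decide) 0 (by decide))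
      · -- 34=(1,2)
        exact False.elim (cert_false T ((skipEmb 2).trans (Function.Embedding.refl _)) (by norm_num) (fun _ => hall _) (((((LB_zero T ((skipEmb 2).trans (Function.Embedding.refl _))).upd 1 3 1 (le_of_eq hx14)).upd 2 3 1 (le_of_eq hx34)).upd 3 1 2 (le_of_eq hx41)).upd 3 2 2 (le_of_eq hx43)) ![0,1,1,2] (by decide) (by decide) 1 (by decide))
      · -- 34=(2,1)
        exact False.elim (cert_false T ((skipEmb 2).trans (Function.Embedding.refl _)) (by norm_num) (fun _ => hall _) (((((LB_zero T ((skipEmb 2).trans (Function.Embedding.refl _))).upd 1 3 1 (le_of_eq hx14)).upd 2 3 2 (le_of_eq hx34)).upd 3 1 2 (le_of_eq hx41)).upd 3 2 1 (le_of_eq hx43)) ![0,1,2,2] (by decide) (by decide) 1 (by decide))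
      · -- 34=(1,3)
        exact False.elim (cert_false T ((skipEmb 2).trans (Function.Embedding.refl _)) (by norm_num) (fun _ => hall _) (((((LB_zero T ((skipEmb 2).trans (Function.Embedding.refl _))).upd 1 3 1 (le_of_eq hx14)).upd 2 3 1 (le_of_eq hx34)).upd 3 1 2 (le_of_eq hx41)).upd 3 2 3 (le_of_eq hx43)) ![0,1,1,2] (by decide) (by decide) 1 (by decide))
      · -- 34=(3,1)
        exact False.elim (cert_false T ((skipEmb 2).trans (Function.Embedding.refl _)) (by norm_num) (fun _ => hall _) (((((LB_zero T ((skipEmb 2).trans (Function.Embedding.refl _))).upd 1 3 1 (le_of_eq hx14)).upd 2 3 3 (le_of_eq hx34)).upd 3 1 2 (le_of_eq hx41)).upd 3 2 1 (le_of_eq hx43)) ![0,1,2,2] (by decide) (by decide) 1 (by decide))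
    · -- 24=(1,1)
      exact False.elim (cert_false T ((skipEmb 0).trans (Function.Embedding.refl _)) (by norm_num) (fun _ => hall _) (((((((LB_zero T ((skipEmb 0).trans (Function.Embedding.refl _))).upd 0 3 1 (le_of_eq hx14)).upd 1 2 1 (le_of_eq hx23)).upd 1 3 1 (le_of_eq hx24)).upd 2 1 2 (le_of_eq hx32)).upd 3 0 2 (le_of_eq hx41)).upd 3 1 1 (le_of_eq hx42)) ![1,2,2,2] (by decide) (by decide) 0 (by decide))
    · -- 24=(1,2)
      exact False.elim (cert_false T ((skipEmb 3).trans (Function.Embedding.refl _)) (by norm_num) (fun _ => hall _) (((((LB_zero T ((skipEmb 3).trans (Function.Embedding.refl _))).upd 1 3 1 (le_of_eq hx14)).upd 2 3 1 (le_of_eq hx24)).upd 3 1 2 (le_of_eq hx41)).upd 3 2 2 (le_of_eq hx42)) ![0,1,1,2] (by decide) (by decide) 1 (by decide))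
    · -- 24=(2,1)
      exact False.elim (cert_false T ((skipEmb 3).trans (Function.Embedding.refl _)) (by norm_num) (fun _ => hall _) (((((LB_zero T ((skipEmb 3).trans (Function.Embedding.refl _))).upd 1 3 1 (le_of_eq hx14)).upd 2 3 2 (le_of_eq hx24)).upd 3 1 2 (le_of_eq hx41)).upd 3 2 1 (le_of_eq hx42)) ![0,1,2,2] (by decide) (by decide) 1 (by decide))
    · -- 24=(1,3)
      exact False.elim (cert_false T ((skipEmb 3).trans (Function.Embedding.refl _)) (by norm_num) (fun _ => hall _) (((((LB_zero T ((skipEmb 3).trans (Function.Embedding.refl _))).upd 1 3 1 (le_of_eq hx14)).upd 2 3 1 (le_of_eq hx24)).upd 3 1 2 (le_of_eq hx41)).upd 3 2 3 (le_of_eq hx42)) ![0,1,1,2] (by decide) (by decide) 1 (by decide))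
    · -- 24=(3,1)
      exact False.elim (cert_false T ((skipEmb 3).trans (Function.Embedding.refl _)) (by norm_num) (fun _ => hall _) (((((LB_zero T ((skipEmb 3).trans (Function.Embedding.refl _))).upd 1 3 1 (le_of_eq hx14)).upd 2 3 3 (le_of_eq hx24)).upd 3 1 2 (le_of_eq hx41)).upd 3 2 1 (le_of_eq hx42)) ![0,1,2,2] (by decide) (by decide) 1 (by decide))
  · -- 14=(2,1)
    rcases d24 with ⟨rfl, rfl⟩ | ⟨rfl, rfl⟩ | ⟨rfl, rfl⟩ | ⟨rfl, rfl⟩ | ⟨rfl, rfl⟩ | ⟨rfl, rfl⟩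
    · -- 24=(0,0)
      rcases d34 with ⟨rfl, rfl⟩ | ⟨rfl, rfl⟩ | ⟨rfl, rfl⟩ | ⟨rfl, rfl⟩ | ⟨rfl, rfl⟩ | ⟨rfl, rfl⟩
      · -- 34=(0,0)
        exfalso; omega
      · -- 34=(1,1)
        exact False.elim (cert_false T ((skipEmb 1).trans (Function.Embedding.refl _)) (by norm_num) (fun _ => hall _) (((((((LB_zero T ((skipEmb 1).trans (Function.Embedding.refl _))).upd 0 2 1 (le_of_eq hx03)).upd 1 2 1 (le_of_eq hx23)).upd 2 0 1 (le_of_eq hx30)).upd 2 1 2 (le_of_eq hx32)).upd 2 3 1 (le_of_eq hx34)).upd 3 2 1 (le_of_eq hx43)) ![1,1,2,1] (by decide) (by decide) 0 (by decide))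
      · -- 34=(1,2)
        exact False.elim (cert_false T ((skipEmb 2).trans (Function.Embedding.refl _)) (by norm_num) (fun _ => hall _) (((((LB_zero T ((skipEmb 2).trans (Function.Embedding.refl _))).upd 1 3 2 (le_of_eq hx14)).upd 2 3 1 (le_of_eq hx34)).upd 3 1 1 (le_of_eq hx41)).upd 3 2 2 (le_of_eq hx43)) ![0,2,1,2] (by decide) (by decide) 1 (by decide))
      · -- 34=(2,1)
        exact False.elim (cert_false T ((skipEmb 2).trans (Function.Embedding.refl _)) (by norm_num) (fun _ => hall _) (((((LB_zero T ((skipEmb 2).trans (Function.Embedding.refl _))).upd 1 3 2 (le_of_eq hx14)).upd 2 3 2 (le_of_eq hx34)).upd 3 1 1 (le_of_eq hx41)).upd 3 2 1 (le_of_eq hx43)) ![0,1,1,1] (by decide) (by decide) 1 (by decide))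
      · -- 34=(1,3)
        exact False.elim (cert_false T ((skipEmb 2).trans (Function.Embedding.refl _)) (by norm_num) (fun _ => hall _) (((((LB_zero T ((skipEmb 2).trans (Function.Embedding.refl _))).upd 1 3 2 (le_of_eq hx14)).upd 2 3 1 (le_of_eq hx34)).upd 3 1 1 (le_of_eq hx41)).upd 3 2 3 (le_of_eq hx43)) ![0,1,1,2] (by decide) (by decide) 1 (by decide))
      · -- 34=(3,1)
        exact False.elim (cert_false T ((skipEmb 2).trans (Function.Embedding.refl _)) (by norm_num) (fun _ => hall _) (((((LB_zero T ((skipEmb 2).trans (Function.Embedding.refl _))).upd 1 3 2 (le_of_eq hx14)).upd 2 3 3 (le_of_eq hx34)).upd 3 1 1 (le_of_eq hx41)).upd 3 2 1 (le_of_eq hx43)) ![0,1,1,1] (by decide) (by decide) 1 (by decide))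
    · -- 24=(1,1)
      exact False.elim (cert_false T ((skipEmb 0).trans (Function.Embedding.refl _)) (by norm_num) (fun _ => hall _) (((((((LB_zero T ((skipEmb 0).trans (Function.Embedding.refl _))).upd 0 3 2 (le_of_eq hx14)).upd 1 2 1 (le_of_eq hx23)).upd 1 3 1 (le_of_eq hx24)).upd 2 1 2 (le_of_eq hx32)).upd 3 0 1 (le_of_eq hx41)).upd 3 1 1 (le_of_eq hx42)) ![1,1,1,1] (by decide) (by decide) 0 (by decide))
    · -- 24=(1,2)
      exact False.elim (cert_false T ((skipEmb 3).trans (Function.Embedding.refl _)) (by norm_num) (fun _ => hall _) (((((LB_zero T ((skipEmb 3).trans (Function.Embedding.refl _))).upd 1 3 2 (le_of_eq hx14)).upd 2 3 1 (le_of_eq hx24)).upd 3 1 1 (le_of_eq hx41)).upd 3 2 2 (le_of_eq hx42)) ![0,2,1,2] (by decide) (by decide) 1 (by decide))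
    · -- 24=(2,1)
      exact False.elim (cert_false T ((skipEmb 3).trans (Function.Embedding.refl _)) (by norm_num) (fun _ => hall _) (((((LB_zero T ((skipEmb 3).trans (Function.Embedding.refl _))).upd 1 3 2 (le_of_eq hx14)).upd 2 3 2 (le_of_eq hx24)).upd 3 1 1 (le_of_eq hx41)).upd 3 2 1 (le_of_eq hx42)) ![0,1,1,1] (by decide) (by decide) 1 (by decide))
    · -- 24=(1,3)
      exact False.elim (cert_false T ((skipEmb 3).trans (Function.Embedding.refl _)) (by norm_num) (fun _ => hall _) (((((LB_zero T ((skipEmb 3).trans (Function.Embedding.refl _))).upd 1 3 2 (le_of_eq hx14)).upd 2 3 1 (le_of_eq hx24)).upd 3 1 1 (le_of_eq hx41)).upd 3 2 3 (le_of_eq hx42)) ![0,1,1,2] (by decide) (by decide) 1 (by decide))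
    · -- 24=(3,1)
      exact False.elim (cert_false T ((skipEmb 3).trans (Function.Embedding.refl _)) (by norm_num) (fun _ => hall _) (((((LB_zero T ((skipEmb 3).trans (Function.Embedding.refl _))).upd 1 3 2 (le_of_eq hx14)).upd 2 3 3 (le_of_eq hx24)).upd 3 1 1 (le_of_eq hx41)).upd 3 2 1 (le_of_eq hx42)) ![0,1,1,1] (by decide) (by decide) 1 (by decide))
  · -- 14=(1,3)
    rcases d24 with ⟨rfl, rfl⟩ | ⟨rfl, rfl⟩ | ⟨rfl, rfl⟩ | ⟨rfl, rfl⟩ | ⟨rfl, rfl⟩ | ⟨rfl, rfl⟩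
    · -- 24=(0,0)
      rcases d34 with ⟨rfl, rfl⟩ | ⟨rfl, rfl⟩ | ⟨rfl, rfl⟩ | ⟨rfl, rfl⟩ | ⟨rfl, rfl⟩ | ⟨rfl, rfl⟩
      · -- 34=(0,0)
        exfalso; omega
      · -- 34=(1,1)
        exact False.elim (cert_false T ((skipEmb 2).trans (Function.Embedding.refl _)) (by norm_num) (fun _ => hall _) (((((LB_zero T ((skipEmb 2).trans (Function.Embedding.refl _))).upd 1 3 1 (le_of_eq hx14)).upd 2 3 1 (le_of_eq hx34)).upd 3 1 3 (le_of_eq hx41)).upd 3 2 1 (le_of_eq hx43)) ![0,1,1,2] (by decide) (by decide) 1 (by decide))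
      · -- 34=(1,2)
        exact False.elim (cert_false T ((skipEmb 2).trans (Function.Embedding.refl _)) (by norm_num) (fun _ => hall _) (((((LB_zero T ((skipEmb 2).trans (Function.Embedding.refl _))).upd 1 3 1 (le_of_eq hx14)).upd 2 3 1 (le_of_eq hx34)).upd 3 1 3 (le_of_eq hx41)).upd 3 2 2 (le_of_eq hx43)) ![0,1,1,2] (by decide) (by decide) 1 (by decide))
      · -- 34=(2,1)
        exact False.elim (cert_false T ((skipEmb 2).trans (Function.Embedding.refl _)) (by norm_num) (fun _ => hall _) (((((LB_zero T ((skipEmb 2).trans (Function.Embedding.refl _))).upd 1 3 1 (le_of_eq hx14)).upd 2 3 2 (le_of_eq hx34)).upd 3 1 3 (le_of_eq hx41)).upd 3 2 1 (le_of_eq hx43)) ![0,1,1,2] (by decide) (by decide) 1 (by decide))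
      · -- 34=(1,3)
        exact False.elim (cert_false T ((skipEmb 2).trans (Function.Embedding.refl _)) (by norm_num) (fun _ => hall _) (((((LB_zero T ((skipEmb 2).trans (Function.Embedding.refl _))).upd 1 3 1 (le_of_eq hx14)).upd 2 3 1 (le_of_eq hx34)).upd 3 1 3 (le_of_eq hx41)).upd 3 2 3 (le_of_eq hx43)) ![0,1,1,2] (by decide) (by decide) 1 (by decide))
      · -- 34=(3,1)
        exact False.elim (cert_false T ((skipEmb 2).trans (Function.Embedding.refl _)) (by norm_num) (fun _ => hall _) (((((LB_zero T ((skipEmb 2).trans (Function.Embedding.refl _))).upd 1 3 1 (le_of_eq hx14)).upd 2 3 3 (le_of_eq hx34)).upd 3 1 3 (le_of_eq hx41)).upd 3 2 1 (le_of_eq hx43)) ![0,1,1,2] (by decide) (by decide) 1 (by decide))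
    · -- 24=(1,1)
      exact False.elim (cert_false T ((skipEmb 3).trans (Function.Embedding.refl _)) (by norm_num) (fun _ => hall _) (((((LB_zero T ((skipEmb 3).trans (Function.Embedding.refl _))).upd 1 3 1 (le_of_eq hx14)).upd 2 3 1 (le_of_eq hx24)).upd 3 1 3 (le_of_eq hx41)).upd 3 2 1 (le_of_eq hx42)) ![0,1,1,2] (by decide) (by decide) 1 (by decide))
    · -- 24=(1,2)
      exact False.elim (cert_false T ((skipEmb 3).trans (Function.Embedding.refl _)) (by norm_num) (fun _ => hall _) (((((LB_zero T ((skipEmb 3).trans (Function.Embedding.refl _))).upd 1 3 1 (le_of_eq hx14)).upd 2 3 1 (le_of_eq hx24)).upd 3 1 3 (le_of_eq hx41)).upd 3 2 2 (le_of_eq hx42)) ![0,1,1,2] (by decide) (by decide) 1 (by decide))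
    · -- 24=(2,1)
      exact False.elim (cert_false T ((skipEmb 3).trans (Function.Embedding.refl _)) (by norm_num) (fun _ => hall _) (((((LB_zero T ((skipEmb 3).trans (Function.Embedding.refl _))).upd 1 3 1 (le_of_eq hx14)).upd 2 3 2 (le_of_eq hx24)).upd 3 1 3 (le_of_eq hx41)).upd 3 2 1 (le_of_eq hx42)) ![0,1,1,2] (by decide) (by decide) 1 (by decide))
    · -- 24=(1,3)
      exact False.elim (cert_false T ((skipEmb 3).trans (Function.Embedding.refl _)) (by norm_num) (fun _ => hall _) (((((LB_zero T ((skipEmb 3).trans (Function.Embedding.refl _))).upd 1 3 1 (le_of_eq hx14)).upd 2 3 1 (le_of_eq hx24)).upd 3 1 3 (le_of_eq hx41)).upd 3 2 3 (le_of_eq hx42)) ![0,1,1,2] (by decide) (by decide) 1 (by decide))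
    · -- 24=(3,1)
      exact False.elim (cert_false T ((skipEmb 3).trans (Function.Embedding.refl _)) (by norm_num) (fun _ => hall _) (((((LB_zero T ((skipEmb 3).trans (Function.Embedding.refl _))).upd 1 3 1 (le_of_eq hx14)).upd 2 3 3 (le_of_eq hx24)).upd 3 1 3 (le_of_eq hx41)).upd 3 2 1 (le_of_eq hx42)) ![0,1,1,2] (by decide) (by decide) 1 (by decide))
  · -- 14=(3,1)
    rcases d24 with ⟨rfl, rfl⟩ | ⟨rfl, rfl⟩ | ⟨rfl, rfl⟩ | ⟨rfl, rfl⟩ | ⟨rfl, rfl⟩ | ⟨rfl, rfl⟩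
    · -- 24=(0,0)
      rcases d34 with ⟨rfl, rfl⟩ | ⟨rfl, rfl⟩ | ⟨rfl, rfl⟩ | ⟨rfl, rfl⟩ | ⟨rfl, rfl⟩ | ⟨rfl, rfl⟩
      · -- 34=(0,0)
        exfalso; omega
      · -- 34=(1,1)
        exact False.elim (cert_false T ((skipEmb 2).trans (Function.Embedding.refl _)) (by norm_num) (fun _ => hall _) (((((LB_zero T ((skipEmb 2).trans (Function.Embedding.refl _))).upd 1 3 3 (le_of_eq hx14)).upd 2 3 1 (le_of_eq hx34)).upd 3 1 1 (le_of_eq hx41)).upd 3 2 1 (le_of_eq hx43)) ![0,3,1,2] (by decide) (by decide) 1 (by decide))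
      · -- 34=(1,2)
        exact False.elim (cert_false T ((skipEmb 2).trans (Function.Embedding.refl _)) (by norm_num) (fun _ => hall _) (((((LB_zero T ((skipEmb 2).trans (Function.Embedding.refl _))).upd 1 3 3 (le_of_eq hx14)).upd 2 3 1 (le_of_eq hx34)).upd 3 1 1 (le_of_eq hx41)).upd 3 2 2 (le_of_eq hx43)) ![0,2,1,2] (by decide) (by decide) 1 (by decide))
      · -- 34=(2,1)
        exact False.elim (cert_false T ((skipEmb 2).trans (Function.Embedding.refl _)) (by norm_num) (fun _ => hall _) (((((LB_zero T ((skipEmb 2).trans (Function.Embedding.refl _))).upd 1 3 3 (le_of_eq hx14)).upd 2 3 2 (le_of_eq hx34)).upd 3 1 1 (le_of_eq hx41)).upd 3 2 1 (le_of_eq hx43)) ![0,1,1,1] (by decide) (by decide) 1 (by decide))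
      · -- 34=(1,3)
        exact False.elim (cert_false T ((skipEmb 2).trans (Function.Embedding.refl _)) (by norm_num) (fun _ => hall _) (((((LB_zero T ((skipEmb 2).trans (Function.Embedding.refl _))).upd 1 3 3 (le_of_eq hx14)).upd 2 3 1 (le_of_eq hx34)).upd 3 1 1 (le_of_eq hx41)).upd 3 2 3 (le_of_eq hx43)) ![0,1,1,2] (by decide) (by decide) 1 (by decide))
      · -- 34=(3,1)
        exact False.elim (cert_false T ((skipEmb 2).trans (Function.Embedding.refl _)) (by norm_num) (fun _ => hall _) (((((LB_zero T ((skipEmb 2).trans (Function.Embedding.refl _))).upd 1 3 3 (le_of_eq hx14)).upd 2 3 3 (le_of_eq hx34)).upd 3 1 1 (le_of_eq hx41)).upd 3 2 1 (le_of_eq hx43)) ![0,1,1,1] (by decide) (by decide) 1 (by decide))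
    · -- 24=(1,1)
      exact False.elim (cert_false T ((skipEmb 3).trans (Function.Embedding.refl _)) (by norm_num) (fun _ => hall _) (((((LB_zero T ((skipEmb 3).trans (Function.Embedding.refl _))).upd 1 3 3 (le_of_eq hx14)).upd 2 3 1 (le_of_eq hx24)).upd 3 1 1 (le_of_eq hx41)).upd 3 2 1 (le_of_eq hx42)) ![0,3,1,2] (by decide) (by decide) 1 (by decide))
    · -- 24=(1,2)
      exact False.elim (cert_false T ((skipEmb 3).trans (Function.Embedding.refl _)) (by norm_num) (fun _ => hall _) (((((LB_zero T ((skipEmb 3).trans (Function.Embedding.refl _))).upd 1 3 3 (le_of_eq hx14)).upd 2 3 1 (le_of_eq hx24)).upd 3 1 1 (le_of_eq hx41)).upd 3 2 2 (le_of_eq hx42)) ![0,2,1,2] (by decide) (by decide) 1 (by decide))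
    · -- 24=(2,1)
      exact False.elim (cert_false T ((skipEmb 3).trans (Function.Embedding.refl _)) (by norm_num) (fun _ => hall _) (((((LB_zero T ((skipEmb 3).trans (Function.Embedding.refl _))).upd 1 3 3 (le_of_eq hx14)).upd 2 3 2 (le_of_eq hx24)).upd 3 1 1 (le_of_eq hx41)).upd 3 2 1 (le_of_eq hx42)) ![0,1,1,1] (by decide) (by decide) 1 (by decide))
    · -- 24=(1,3)
      exact False.elim (cert_false T ((skipEmb 3).trans (Function.Embedding.refl _)) (by norm_num) (fun _ => hall _) (((((LB_zero T ((skipEmb 3).trans (Function.Embedding.refl _))).upd 1 3 3 (le_of_eq hx14)).upd 2 3 1 (le_of_eq hx24)).upd 3 1 1 (le_of_eq hx41)).upd 3 2 3 (le_of_eq hx42)) ![0,1,1,2] (by decide) (by decide) 1 (by decide))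
    · -- 24=(3,1)
      exact False.elim (cert_false T ((skipEmb 3).trans (Function.Embedding.refl _)) (by norm_num) (fun _ => hall _) (((((LB_zero T ((skipEmb 3).trans (Function.Embedding.refl _))).upd 1 3 3 (le_of_eq hx14)).upd 2 3 3 (le_of_eq hx24)).upd 3 1 1 (le_of_eq hx41)).upd 3 2 1 (le_of_eq hx42)) ![0,1,1,1] (by decide) (by decide) 1 (by decide))

theorem case49 (T : NumericalType 5) (hall : ∀ i, T.IsMinusTwo i) (d : SData T)
    (h01 : N T (Function.Embedding.refl _) 0 1 = 0) (h10 : N T (Function.Embedding.refl _) 1 0 = 0)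
    (h02 : N T (Function.Embedding.refl _) 0 2 = 0) (h20 : N T (Function.Embedding.refl _) 2 0 = 0)
    (h12 : N T (Function.Embedding.refl _) 1 2 = 0) (h21 : N T (Function.Embedding.refl _) 2 1 = 0)
    (h03 : N T (Function.Embedding.refl _) 0 3 = 1) (h30 : N T (Function.Embedding.refl _) 3 0 = 1)
    (h13 : N T (Function.Embedding.refl _) 1 3 = 0) (h31 : N T (Function.Embedding.refl _) 3 1 = 0)
    (h23 : N T (Function.Embedding.refl _) 2 3 = 1) (h32 : N T (Function.Embedding.refl _) 3 2 = 2) :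
    Goal T := by
  unfold Goal
  have hd := d
  obtain ⟨x01, x02, x03, x04, x10, x12, x13, x14, x20, x21, x23, x24, x30, x31, x32, x34, x40, x41, x42, x43, hx01, hx02, hx03, hx04, hx10, hx12, hx13, hx14, hx20, hx21, hx23, hx24, hx30, hx31, hx32, hx34, hx40, hx41, hx42, hx43, hw0, hm0, hw1, hm1, hw2, hm2, hw3, hm3, hw4, hm4, a00, a01, a02, a03, a04, a11, a10, a12, a13, a14, a22, a20, a21, a23, a24, a33, a30, a31, a32, a34, a44, a40, a41, a42, a43, wN01, wN02, wN12, wN03, wN13, wN23, wN04, wN14, wN24, wN34, e0, e1, e2, e3, e4, d01, d02, d12, d03, d13, d23, d04, d14, d24, d34⟩ := d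
  obtain rfl : x01 = 0 := hx01.trans h01
  obtain rfl : x10 = 0 := hx10.trans h10
  obtain rfl : x02 = 0 := hx02.trans h02
  obtain rfl : x20 = 0 := hx20.trans h20
  obtain rfl : x12 = 0 := hx12.trans h12
  obtain rfl : x21 = 0 := hx21.trans h21
  obtain rfl : x03 = 1 := hx03.trans h03
  obtain rfl : x30 = 1 := hx30.trans h30
  obtain rfl : x13 = 0 := hx13.trans h13
  obtain rfl : x31 = 0 := hx31.trans h31
  obtain rfl : x23 = 1 := hx23.trans h23
  obtain rfl : x32 = 2 := hx32.trans h32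
  rcases d04 with ⟨rfl, rfl⟩ | ⟨rfl, rfl⟩ | ⟨rfl, rfl⟩ | ⟨rfl, rfl⟩ | ⟨rfl, rfl⟩ | ⟨rfl, rfl⟩
  · -- 04=(0,0)
    exact case50 T hall hd hx01.symm hx10.symm hx02.symm hx20.symm hx12.symm hx21.symm hx03.symm hx30.symm hx13.symm hx31.symm hx23.symm hx32.symm hx04.symm hx40.symm
  · -- 04=(1,1)
    rcases d14 with ⟨rfl, rfl⟩ | ⟨rfl, rfl⟩ | ⟨rfl, rfl⟩ | ⟨rfl, rfl⟩ | ⟨rfl, rfl⟩ | ⟨rfl, rfl⟩
    · -- 14=(0,0)
      rcases d24 with ⟨rfl, rfl⟩ | ⟨rfl, rfl⟩ | ⟨rfl, rfl⟩ | ⟨rfl, rfl⟩ | ⟨rfl, rfl⟩ | ⟨rfl, rfl⟩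
      · -- 24=(0,0)
        rcases d34 with ⟨rfl, rfl⟩ | ⟨rfl, rfl⟩ | ⟨rfl, rfl⟩ | ⟨rfl, rfl⟩ | ⟨rfl, rfl⟩ | ⟨rfl, rfl⟩
        · -- 34=(0,0)
          exfalso; omega
        · -- 34=(1,1)
          exact False.elim (cert_false T ((skipEmb 2).trans (Function.Embedding.refl _)) (by norm_num) (fun _ => hall _) (((((((LB_zero T ((skipEmb 2).trans (Function.Embedding.refl _))).upd 0 2 1 (le_of_eq hx03)).upd 0 3 1 (le_of_eq hx04)).upd 2 0 1 (le_of_eq hx30)).upd 2 3 1 (le_of_eq hx34)).upd 3 0 1 (le_of_eq hx40)).upd 3 2 1 (le_of_eq hx43)) ![1,0,1,1] (by decide) (by decide) 0 (by decide))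
        · -- 34=(1,2)
          exact False.elim (cert_false T ((skipEmb 2).trans (Function.Embedding.refl _)) (by norm_num) (fun _ => hall _) (((((((LB_zero T ((skipEmb 2).trans (Function.Embedding.refl _))).upd 0 2 1 (le_of_eq hx03)).upd 0 3 1 (le_of_eq hx04)).upd 2 0 1 (le_of_eq hx30)).upd 2 3 1 (le_of_eq hx34)).upd 3 0 1 (le_of_eq hx40)).upd 3 2 2 (le_of_eq hx43)) ![1,0,1,1] (by decide) (by decide) 0 (by decide))
        · -- 34=(2,1)
          exact False.elim (cert_false T ((skipEmb 2).trans (Function.Embedding.refl _)) (by norm_num) (fun _ => hall _) (((((((LB_zero T ((skipEmb 2).trans (Function.Embedding.refl _))).upd 0 2 1 (le_of_eq hx03)).upd 0 3 1 (le_of_eq hx04)).upd 2 0 1 (le_of_eq hx30)).upd 2 3 2 (le_of_eq hx34)).upd 3 0 1 (le_of_eq hx40)).upd 3 2 1 (le_of_eq hx43)) ![1,0,1,1] (by decide) (by decide) 0 (by decide))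
        · -- 34=(1,3)
          exact False.elim (cert_false T ((skipEmb 2).trans (Function.Embedding.refl _)) (by norm_num) (fun _ => hall _) (((((((LB_zero T ((skipEmb 2).trans (Function.Embedding.refl _))).upd 0 2 1 (le_of_eq hx03)).upd 0 3 1 (le_of_eq hx04)).upd 2 0 1 (le_of_eq hx30)).upd 2 3 1 (le_of_eq hx34)).upd 3 0 1 (le_of_eq hx40)).upd 3 2 3 (le_of_eq hx43)) ![1,0,1,1] (by decide) (by decide) 0 (by decide))
        · -- 34=(3,1)
          exact False.elim (cert_false T ((skipEmb 2).trans (Function.Embedding.refl _)) (by norm_num) (fun _ => hall _) (((((((LB_zero T ((skipEmb 2).trans (Function.Embedding.refl _))).upd 0 2 1 (le_of_eq hx03)).upd 0 3 1 (le_of_eq hx04)).upd 2 0 1 (le_of_eq hx30)).upd 2 3 3 (le_of_eq hx34)).upd 3 0 1 (le_of_eq hx40)).upd 3 2 1 (le_of_eq hx43)) ![1,0,1,1] (by decide) (by decide) 0 (by decide))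
      · -- 24=(1,1)
        exact False.elim (cert_false T ((skipEmb 1).trans (Function.Embedding.refl _)) (by norm_num) (fun _ => hall _) (((((((((LB_zero T ((skipEmb 1).trans (Function.Embedding.refl _))).upd 0 2 1 (le_of_eq hx03)).upd 0 3 1 (le_of_eq hx04)).upd 1 2 1 (le_of_eq hx23)).upd 1 3 1 (le_of_eq hx24)).upd 2 0 1 (le_of_eq hx30)).upd 2 1 2 (le_of_eq hx32)).upd 3 0 1 (le_of_eq hx40)).upd 3 1 1 (le_of_eq hx42)) ![1,1,1,1] (by decide) (by decide) 0 (by decide))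
      · -- 24=(1,2)
        exact False.elim (cert_false T ((skipEmb 1).trans (Function.Embedding.refl _)) (by norm_num) (fun _ => hall _) (((((LB_zero T ((skipEmb 1).trans (Function.Embedding.refl _))).upd 1 2 1 (le_of_eq hx23)).upd 1 3 1 (le_of_eq hx24)).upd 2 1 2 (le_of_eq hx32)).upd 3 1 2 (le_of_eq hx42)) ![0,1,1,1] (by decide) (by decide) 1 (by decide))
      · -- 24=(2,1)
        exact False.elim (cert_false T ((skipEmb 1).trans (Function.Embedding.refl _)) (by norm_num) (fun _ => hall _) (((((((((LB_zero T ((skipEmb 1).trans (Function.Embedding.refl _))).upd 0 2 1 (le_of_eq hx03)).upd 0 3 1 (le_of_eq hx04)).upd 1 2 1 (le_of_eq hx23)).upd 1 3 2 (le_of_eq hx24)).upd 2 0 1 (le_of_eq hx30)).upd 2 1 2 (le_of_eq hx32)).upd 3 0 1 (le_of_eq hx40)).upd 3 1 1 (le_of_eq hx42)) ![1,1,1,1] (by decide) (by decide) 0 (by decide))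
      · -- 24=(1,3)
        exact False.elim (cert_false T ((skipEmb 3).trans (Function.Embedding.refl _)) (by norm_num) (fun _ => hall _) (((((LB_zero T ((skipEmb 3).trans (Function.Embedding.refl _))).upd 0 3 1 (le_of_eq hx04)).upd 2 3 1 (le_of_eq hx24)).upd 3 0 1 (le_of_eq hx40)).upd 3 2 3 (le_of_eq hx42)) ![1,0,1,2] (by decide) (by decide) 0 (by decide))
      · -- 24=(3,1)
        exact False.elim (cert_false T ((skipEmb 3).trans (Function.Embedding.refl _)) (by norm_num) (fun _ => hall _) (((((LB_zero T ((skipEmb 3).trans (Function.Embedding.refl _))).upd 0 3 1 (le_of_eq hx04)).upd 2 3 3 (le_of_eq hx24)).upd 3 0 1 (le_of_eq hx40)).upd 3 2 1 (le_of_eq hx42)) ![1,0,3,2] (by decide) (by decide) 0 (by decide))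
    · -- 14=(1,1)
      rcases d24 with ⟨rfl, rfl⟩ | ⟨rfl, rfl⟩ | ⟨rfl, rfl⟩ | ⟨rfl, rfl⟩ | ⟨rfl, rfl⟩ | ⟨rfl, rfl⟩
      · -- 24=(0,0)
        rcases d34 with ⟨rfl, rfl⟩ | ⟨rfl, rfl⟩ | ⟨rfl, rfl⟩ | ⟨rfl, rfl⟩ | ⟨rfl, rfl⟩ | ⟨rfl, rfl⟩
        · -- 34=(0,0)
          exfalso; omega
        · -- 34=(1,1)
          exact False.elim (cert_false T ((skipEmb 2).trans (Function.Embedding.refl _)) (by norm_num) (fun _ => hall _) (((((((LB_zero T ((skipEmb 2).trans (Function.Embedding.refl _))).upd 0 2 1 (le_of_eq hx03)).upd 0 3 1 (le_of_eq hx04)).upd 2 0 1 (le_of_eq hx30)).upd 2 3 1 (le_of_eq hx34)).upd 3 0 1 (le_of_eq hx40)).upd 3 2 1 (le_of_eq hx43)) ![1,0,1,1] (by decide) (by decide) 0 (by decide))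
        · -- 34=(1,2)
          exact False.elim (cert_false T ((skipEmb 2).trans (Function.Embedding.refl _)) (by norm_num) (fun _ => hall _) (((((((LB_zero T ((skipEmb 2).trans (Function.Embedding.refl _))).upd 0 2 1 (le_of_eq hx03)).upd 0 3 1 (le_of_eq hx04)).upd 2 0 1 (le_of_eq hx30)).upd 2 3 1 (le_of_eq hx34)).upd 3 0 1 (le_of_eq hx40)).upd 3 2 2 (le_of_eq hx43)) ![1,0,1,1] (by decide) (by decide) 0 (by decide))
        · -- 34=(2,1)
          exact False.elim (cert_false T ((skipEmb 2).trans (Function.Embedding.refl _)) (by norm_num) (fun _ => hall _) (((((((LB_zero T ((skipEmb 2).trans (Function.Embedding.refl _))).upd 0 2 1 (le_of_eq hx03)).upd 0 3 1 (le_of_eq hx04)).upd 2 0 1 (le_of_eq hx30)).upd 2 3 2 (le_of_eq hx34)).upd 3 0 1 (le_of_eq hx40)).upd 3 2 1 (le_of_eq hx43)) ![1,0,1,1] (by decide) (by decide) 0 (by decide))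
        · -- 34=(1,3)
          exact False.elim (cert_false T ((skipEmb 2).trans (Function.Embedding.refl _)) (by norm_num) (fun _ => hall _) (((((((LB_zero T ((skipEmb 2).trans (Function.Embedding.refl _))).upd 0 2 1 (le_of_eq hx03)).upd 0 3 1 (le_of_eq hx04)).upd 2 0 1 (le_of_eq hx30)).upd 2 3 1 (le_of_eq hx34)).upd 3 0 1 (le_of_eq hx40)).upd 3 2 3 (le_of_eq hx43)) ![1,0,1,1] (by decide) (by decide) 0 (by decide))
        · -- 34=(3,1)
          exact False.elim (cert_false T ((skipEmb 2).trans (Function.Embedding.refl _)) (by norm_num) (fun _ => hall _) (((((((LB_zero T ((skipEmb 2).trans (Function.Embedding.refl _))).upd 0 2 1 (le_of_eq hx03)).upd 0 3 1 (le_of_eq hx04)).upd 2 0 1 (le_of_eq hx30)).upd 2 3 3 (le_of_eq hx34)).upd 3 0 1 (le_of_eq hx40)).upd 3 2 1 (le_of_eq hx43)) ![1,0,1,1] (by decide) (by decide) 0 (by decide))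
      · -- 24=(1,1)
        exact False.elim (cert_false T ((skipEmb 1).trans (Function.Embedding.refl _)) (by norm_num) (fun _ => hall _) (((((((((LB_zero T ((skipEmb 1).trans (Function.Embedding.refl _))).upd 0 2 1 (le_of_eq hx03)).upd 0 3 1 (le_of_eq hx04)).upd 1 2 1 (le_of_eq hx23)).upd 1 3 1 (le_of_eq hx24)).upd 2 0 1 (le_of_eq hx30)).upd 2 1 2 (le_of_eq hx32)).upd 3 0 1 (le_of_eq hx40)).upd 3 1 1 (le_of_eq hx42)) ![1,1,1,1] (by decide) (by decide) 0 (by decide))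
      · -- 24=(1,2)
        exact False.elim (cert_false T ((skipEmb 3).trans (Function.Embedding.refl _)) (by norm_num) (fun _ => hall _) (((((((LB_zero T ((skipEmb 3).trans (Function.Embedding.refl _))).upd 0 3 1 (le_of_eq hx04)).upd 1 3 1 (le_of_eq hx14)).upd 2 3 1 (le_of_eq hx24)).upd 3 0 1 (le_of_eq hx40)).upd 3 1 1 (le_of_eq hx41)).upd 3 2 2 (le_of_eq hx42)) ![1,1,1,2] (by decide) (by decide) 0 (by decide))
      · -- 24=(2,1)
        exact False.elim (cert_false T ((skipEmb 3).trans (Function.Embedding.refl _)) (by norm_num) (fun _ => hall _) (((((((LB_zero T ((skipEmb 3).trans (Function.Embedding.refl _))).upd 0 3 1 (le_of_eq hx04)).upd 1 3 1 (le_of_eq hx14)).upd 2 3 2 (le_of_eq hx24)).upd 3 0 1 (le_of_eq hx40)).upd 3 1 1 (le_of_eq hx41)).upd 3 2 1 (le_of_eq hx42)) ![1,1,2,2] (by decide) (by decide) 0 (by decide))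
      · -- 24=(1,3)
        exact False.elim (cert_false T ((skipEmb 3).trans (Function.Embedding.refl _)) (by norm_num) (fun _ => hall _) (((((LB_zero T ((skipEmb 3).trans (Function.Embedding.refl _))).upd 1 3 1 (le_of_eq hx14)).upd 2 3 1 (le_of_eq hx24)).upd 3 1 1 (le_of_eq hx41)).upd 3 2 3 (le_of_eq hx42)) ![0,1,1,2] (by decide) (by decide) 1 (by decide))
      · -- 24=(3,1)
        exact False.elim (cert_false T ((skipEmb 3).trans (Function.Embedding.refl _)) (by norm_num) (fun _ => hall _) (((((((LB_zero T ((skipEmb 3).trans (Function.Embedding.refl _))).upd 0 3 1 (le_of_eq hx04)).upd 1 3 1 (le_of_eq hx14)).upd 2 3 3 (le_of_eq hx24)).upd 3 0 1 (le_of_eq hx40)).upd 3 1 1 (le_of_eq hx41)).upd 3 2 1 (le_of_eq hx42)) ![1,1,2,2] (by decide) (by decide) 0 (by decide))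
    · -- 14=(1,2)
      rcases d24 with ⟨rfl, rfl⟩ | ⟨rfl, rfl⟩ | ⟨rfl, rfl⟩ | ⟨rfl, rfl⟩ | ⟨rfl, rfl⟩ | ⟨rfl, rfl⟩
      · -- 24=(0,0)
        rcases d34 with ⟨rfl, rfl⟩ | ⟨rfl, rfl⟩ | ⟨rfl, rfl⟩ | ⟨rfl, rfl⟩ | ⟨rfl, rfl⟩ | ⟨rfl, rfl⟩
        · -- 34=(0,0)
          refine ⟨(⟨![1, 4, 0, 3, 2], ![2, 0, 4, 3, 1], by decide, by decide⟩ : Equiv.Perm (Fin 5)), T.m 1, T.w 4, Or.inr (Or.inr (Or.inr (Or.inr (Or.inr (Or.inl ?_)))))⟩
          show T.m 1 = T.m 1 ∧ T.m 4 = 2 * T.m 1 ∧ T.m 0 = 2 * T.m 1 ∧ T.m 3 = 2 * T.m 1 ∧ T.m 2 = T.m 1 ∧ T.w 1 = 2 * T.w 4 ∧ T.w 4 = T.w 4 ∧ T.w 0 = T.w 4 ∧ T.w 3 = T.w 4 ∧ T.w 2 = 2 * T.w 4 ∧ T.a 1 1 = -4 * T.w 4 ∧ T.a 1 4 = 2 * T.w 4 ∧ T.a 1 0 = 0 ∧ T.a 1 3 = 0 ∧ T.a 1 2 = 0 ∧ T.a 4 4 = -2 * T.w 4 ∧ T.a 4 0 = T.w 4 ∧ T.a 4 3 = 0 ∧ T.a 4 2 = 0 ∧ T.a 0 0 = -2 * T.w 4 ∧ T.a 0 3 = T.w 4 ∧ T.a 0 2 = 0 ∧ T.a 3 3 = -2 * T.w 4 ∧ T.a 3 2 = 2 * T.w 4 ∧ T.a 2 2 = -4 * T.w 4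
          refine ⟨?_, ?_, ?_, ?_, ?_, ?_, ?_, ?_, ?_, ?_, ?_, ?_, ?_, ?_, ?_, ?_, ?_, ?_, ?_, ?_, ?_, ?_, ?_, ?_, ?_⟩ <;> omega
        · -- 34=(1,1)
          exact False.elim (cert_false T ((skipEmb 2).trans (Function.Embedding.refl _)) (by norm_num) (fun _ => hall _) (((((((LB_zero T ((skipEmb 2).trans (Function.Embedding.refl _))).upd 0 2 1 (le_of_eq hx03)).upd 0 3 1 (le_of_eq hx04)).upd 2 0 1 (le_of_eq hx30)).upd 2 3 1 (le_of_eq hx34)).upd 3 0 1 (le_of_eq hx40)).upd 3 2 1 (le_of_eq hx43)) ![1,0,1,1] (by decide) (by decide) 0 (by decide))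
        · -- 34=(1,2)
          exact False.elim (cert_false T ((skipEmb 2).trans (Function.Embedding.refl _)) (by norm_num) (fun _ => hall _) (((((((LB_zero T ((skipEmb 2).trans (Function.Embedding.refl _))).upd 0 2 1 (le_of_eq hx03)).upd 0 3 1 (le_of_eq hx04)).upd 2 0 1 (le_of_eq hx30)).upd 2 3 1 (le_of_eq hx34)).upd 3 0 1 (le_of_eq hx40)).upd 3 2 2 (le_of_eq hx43)) ![1,0,1,1] (by decide) (by decide) 0 (by decide))
        · -- 34=(2,1)
          exact False.elim (cert_false T ((skipEmb 2).trans (Function.Embedding.refl _)) (by norm_num) (fun _ => hall _) (((((((LB_zero T ((skipEmb 2).trans (Function.Embedding.refl _))).upd 0 2 1 (le_of_eq hx03)).upd 0 3 1 (le_of_eq hx04)).upd 2 0 1 (le_of_eq hx30)).upd 2 3 2 (le_of_eq hx34)).upd 3 0 1 (le_of_eq hx40)).upd 3 2 1 (le_of_eq hx43)) ![1,0,1,1] (by decide) (by decide) 0 (by decide))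
        · -- 34=(1,3)
          exact False.elim (cert_false T ((skipEmb 2).trans (Function.Embedding.refl _)) (by norm_num) (fun _ => hall _) (((((((LB_zero T ((skipEmb 2).trans (Function.Embedding.refl _))).upd 0 2 1 (le_of_eq hx03)).upd 0 3 1 (le_of_eq hx04)).upd 2 0 1 (le_of_eq hx30)).upd 2 3 1 (le_of_eq hx34)).upd 3 0 1 (le_of_eq hx40)).upd 3 2 3 (le_of_eq hx43)) ![1,0,1,1] (by decide) (by decide) 0 (by decide))
        · -- 34=(3,1)
          exact False.elim (cert_false T ((skipEmb 2).trans (Function.Embedding.refl _)) (by norm_num) (fun _ => hall _) (((((((LB_zero T ((skipEmb 2).trans (Function.Embedding.refl _))).upd 0 2 1 (le_of_eq hx03)).upd 0 3 1 (le_of_eq hx04)).upd 2 0 1 (le_of_eq hx30)).upd 2 3 3 (le_of_eq hx34)).upd 3 0 1 (le_of_eq hx40)).upd 3 2 1 (le_of_eq hx43)) ![1,0,1,1] (by decide) (by decide) 0 (by decide))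
      · -- 24=(1,1)
        exact False.elim (cert_false T ((skipEmb 3).trans (Function.Embedding.refl _)) (by norm_num) (fun _ => hall _) (((((((LB_zero T ((skipEmb 3).trans (Function.Embedding.refl _))).upd 0 3 1 (le_of_eq hx04)).upd 1 3 1 (le_of_eq hx14)).upd 2 3 1 (le_of_eq hx24)).upd 3 0 1 (le_of_eq hx40)).upd 3 1 2 (le_of_eq hx41)).upd 3 2 1 (le_of_eq hx42)) ![1,1,1,2] (by decide) (by decide) 0 (by decide))
      · -- 24=(1,2)
        exact False.elim (cert_false T ((skipEmb 3).trans (Function.Embedding.refl _)) (by norm_num) (fun _ => hall _) (((((LB_zero T ((skipEmb 3).trans (Function.Embedding.refl _))).upd 1 3 1 (le_of_eq hx14)).upd 2 3 1 (le_of_eq hx24)).upd 3 1 2 (le_of_eq hx41)).upd 3 2 2 (le_of_eq hx42)) ![0,1,1,2] (by decide) (by decide) 1 (by decide))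
      · -- 24=(2,1)
        exact False.elim (cert_false T ((skipEmb 3).trans (Function.Embedding.refl _)) (by norm_num) (fun _ => hall _) (((((LB_zero T ((skipEmb 3).trans (Function.Embedding.refl _))).upd 1 3 1 (le_of_eq hx14)).upd 2 3 2 (le_of_eq hx24)).upd 3 1 2 (le_of_eq hx41)).upd 3 2 1 (le_of_eq hx42)) ![0,1,2,2] (by decide) (by decide) 1 (by decide))
      · -- 24=(1,3)
        exact False.elim (cert_false T ((skipEmb 3).trans (Function.Embedding.refl _)) (by norm_num) (fun _ => hall _) (((((LB_zero T ((skipEmb 3).trans (Function.Embedding.refl _))).upd 1 3 1 (le_of_eq hx14)).upd 2 3 1 (le_of_eq hx24)).upd 3 1 2 (le_of_eq hx41)).upd 3 2 3 (le_of_eq hx42)) ![0,1,1,2] (by decide) (by decide) 1 (by decide))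
      · -- 24=(3,1)
        exact False.elim (cert_false T ((skipEmb 3).trans (Function.Embedding.refl _)) (by norm_num) (fun _ => hall _) (((((LB_zero T ((skipEmb 3).trans (Function.Embedding.refl _))).upd 1 3 1 (le_of_eq hx14)).upd 2 3 3 (le_of_eq hx24)).upd 3 1 2 (le_of_eq hx41)).upd 3 2 1 (le_of_eq hx42)) ![0,1,2,2] (by decide) (by decide) 1 (by decide))
    · -- 14=(2,1)
      rcases d24 with ⟨rfl, rfl⟩ | ⟨rfl, rfl⟩ | ⟨rfl, rfl⟩ | ⟨rfl, rfl⟩ | ⟨rfl, rfl⟩ | ⟨rfl, rfl⟩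
      · -- 24=(0,0)
        rcases d34 with ⟨rfl, rfl⟩ | ⟨rfl, rfl⟩ | ⟨rfl, rfl⟩ | ⟨rfl, rfl⟩ | ⟨rfl, rfl⟩ | ⟨rfl, rfl⟩
        · -- 34=(0,0)
          refine ⟨(⟨![1, 4, 0, 3, 2], ![2, 0, 4, 3, 1], by decide, by decide⟩ : Equiv.Perm (Fin 5)), T.m 2, T.w 1, Or.inr (Or.inr (Or.inr (Or.inl ?_)))⟩
          show T.m 1 = 2 * T.m 2 ∧ T.m 4 = 2 * T.m 2 ∧ T.m 0 = 2 * T.m 2 ∧ T.m 3 = 2 * T.m 2 ∧ T.m 2 = T.m 2 ∧ T.w 1 = T.w 1 ∧ T.w 4 = 2 * T.w 1 ∧ T.w 0 = 2 * T.w 1 ∧ T.w 3 = 2 * T.w 1 ∧ T.w 2 = 4 * T.w 1 ∧ T.a 1 1 = -2 * T.w 1 ∧ T.a 1 4 = 2 * T.w 1 ∧ T.a 1 0 = 0 ∧ T.a 1 3 = 0 ∧ T.a 1 2 = 0 ∧ T.a 4 4 = -4 * T.w 1 ∧ T.a 4 0 = 2 * T.w 1 ∧ T.a 4 3 = 0 ∧ T.a 4 2 = 0 ∧ T.a 0 0 = -4 * T.w 1 ∧ T.a 0 3 = 2 * T.w 1 ∧ T.a 0 2 = 0 ∧ T.a 3 3 = -4 * T.w 1 ∧ T.a 3 2 = 4 * T.w 1 ∧ T.a 2 2 = -8 * T.w 1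
          refine ⟨?_, ?_, ?_, ?_, ?_, ?_, ?_, ?_, ?_, ?_, ?_, ?_, ?_, ?_, ?_, ?_, ?_, ?_, ?_, ?_, ?_, ?_, ?_, ?_, ?_⟩ <;> omega
        · -- 34=(1,1)
          exact False.elim (cert_false T ((skipEmb 2).trans (Function.Embedding.refl _)) (by norm_num) (fun _ => hall _) (((((((LB_zero T ((skipEmb 2).trans (Function.Embedding.refl _))).upd 0 2 1 (le_of_eq hx03)).upd 0 3 1 (le_of_eq hx04)).upd 2 0 1 (le_of_eq hx30)).upd 2 3 1 (le_of_eq hx34)).upd 3 0 1 (le_of_eq hx40)).upd 3 2 1 (le_of_eq hx43)) ![1,0,1,1] (by decide) (by decide) 0 (by decide))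
        · -- 34=(1,2)
          exact False.elim (cert_false T ((skipEmb 2).trans (Function.Embedding.refl _)) (by norm_num) (fun _ => hall _) (((((((LB_zero T ((skipEmb 2).trans (Function.Embedding.refl _))).upd 0 2 1 (le_of_eq hx03)).upd 0 3 1 (le_of_eq hx04)).upd 2 0 1 (le_of_eq hx30)).upd 2 3 1 (le_of_eq hx34)).upd 3 0 1 (le_of_eq hx40)).upd 3 2 2 (le_of_eq hx43)) ![1,0,1,1] (by decide) (by decide) 0 (by decide))
        · -- 34=(2,1)
          exact False.elim (cert_false T ((skipEmb 2).trans (Function.Embedding.refl _)) (by norm_num) (fun _ => hall _) (((((LB_zero T ((skipEmb 2).trans (Function.Embedding.refl _))).upd 1 3 2 (le_of_eq hx14)).upd 2 3 2 (le_of_eq hx34)).upd 3 1 1 (le_of_eq hx41)).upd 3 2 1 (le_of_eq hx43)) ![0,1,1,1] (by decide) (by decide) 1 (by decide))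
        · -- 34=(1,3)
          exact False.elim (cert_false T ((skipEmb 2).trans (Function.Embedding.refl _)) (by norm_num) (fun _ => hall _) (((((((LB_zero T ((skipEmb 2).trans (Function.Embedding.refl _))).upd 0 2 1 (le_of_eq hx03)).upd 0 3 1 (le_of_eq hx04)).upd 2 0 1 (le_of_eq hx30)).upd 2 3 1 (le_of_eq hx34)).upd 3 0 1 (le_of_eq hx40)).upd 3 2 3 (le_of_eq hx43)) ![1,0,1,1] (by decide) (by decide) 0 (by decide))
        · -- 34=(3,1)
          exact False.elim (cert_false T ((skipEmb 2).trans (Function.Embedding.refl _)) (by norm_num) (fun _ => hall _) (((((LB_zero T ((skipEmb 2).trans (Function.Embedding.refl _))).upd 1 3 2 (le_of_eq hx14)).upd 2 3 3 (le_of_eq hx34)).upd 3 1 1 (le_of_eq hx41)).upd 3 2 1 (le_of_eq hx43)) ![0,1,1,1] (by decide) (by decide) 1 (by decide))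
      · -- 24=(1,1)
        exact False.elim (cert_false T ((skipEmb 3).trans (Function.Embedding.refl _)) (by norm_num) (fun _ => hall _) (((((((LB_zero T ((skipEmb 3).trans (Function.Embedding.refl _))).upd 0 3 1 (le_of_eq hx04)).upd 1 3 2 (le_of_eq hx14)).upd 2 3 1 (le_of_eq hx24)).upd 3 0 1 (le_of_eq hx40)).upd 3 1 1 (le_of_eq hx41)).upd 3 2 1 (le_of_eq hx42)) ![1,2,1,2] (by decide) (by decide) 0 (by decide))
      · -- 24=(1,2)
        exact False.elim (cert_false T ((skipEmb 3).trans (Function.Embedding.refl _)) (by norm_num) (fun _ => hall _) (((((LB_zero T ((skipEmb 3).trans (Function.Embedding.refl _))).upd 1 3 2 (le_of_eq hx14)).upd 2 3 1 (le_of_eq hx24)).upd 3 1 1 (le_of_eq hx41)).upd 3 2 2 (le_of_eq hx42)) ![0,2,1,2] (by decide) (by decide) 1 (by decide))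
      · -- 24=(2,1)
        exact False.elim (cert_false T ((skipEmb 3).trans (Function.Embedding.refl _)) (by norm_num) (fun _ => hall _) (((((LB_zero T ((skipEmb 3).trans (Function.Embedding.refl _))).upd 1 3 2 (le_of_eq hx14)).upd 2 3 2 (le_of_eq hx24)).upd 3 1 1 (le_of_eq hx41)).upd 3 2 1 (le_of_eq hx42)) ![0,1,1,1] (by decide) (by decide) 1 (by decide))
      · -- 24=(1,3)
        exact False.elim (cert_false T ((skipEmb 3).trans (Function.Embedding.refl _)) (by norm_num) (fun _ => hall _) (((((LB_zero T ((skipEmb 3).trans (Function.Embedding.refl _))).upd 1 3 2 (le_of_eq hx14)).upd 2 3 1 (le_of_eq hx24)).upd 3 1 1 (le_of_eq hx41)).upd 3 2 3 (le_of_eq hx42)) ![0,1,1,2] (by decide) (by decide) 1 (by decide))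
      · -- 24=(3,1)
        exact False.elim (cert_false T ((skipEmb 3).trans (Function.Embedding.refl _)) (by norm_num) (fun _ => hall _) (((((LB_zero T ((skipEmb 3).trans (Function.Embedding.refl _))).upd 1 3 2 (le_of_eq hx14)).upd 2 3 3 (le_of_eq hx24)).upd 3 1 1 (le_of_eq hx41)).upd 3 2 1 (le_of_eq hx42)) ![0,1,1,1] (by decide) (by decide) 1 (by decide))
    · -- 14=(1,3)
      exact False.elim (cert_false T ((skipEmb 3).trans (Function.Embedding.refl _)) (by norm_num) (fun _ => hall _) (((((LB_zero T ((skipEmb 3).trans (Function.Embedding.refl _))).upd 0 3 1 (le_of_eq hx04)).upd 1 3 1 (le_of_eq hx14)).upd 3 0 1 (le_of_eq hx40)).upd 3 1 3 (le_of_eq hx41)) ![1,1,0,2] (by decide) (by decide) 0 (by decide))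
    · -- 14=(3,1)
      exact False.elim (cert_false T ((skipEmb 3).trans (Function.Embedding.refl _)) (by norm_num) (fun _ => hall _) (((((LB_zero T ((skipEmb 3).trans (Function.Embedding.refl _))).upd 0 3 1 (le_of_eq hx04)).upd 1 3 3 (le_of_eq hx14)).upd 3 0 1 (le_of_eq hx40)).upd 3 1 1 (le_of_eq hx41)) ![1,3,0,2] (by decide) (by decide) 0 (by decide))
  · -- 04=(1,2)
    exact False.elim (cert_false T ((skipEmb 1).trans (Function.Embedding.refl _)) (by norm_num) (fun _ => hall _) (((((((LB_zero T ((skipEmb 1).trans (Function.Embedding.refl _))).upd 0 2 1 (le_of_eq hx03)).upd 0 3 1 (le_of_eq hx04)).upd 1 2 1 (le_of_eq hx23)).upd 2 0 1 (le_of_eq hx30)).upd 2 1 2 (le_of_eq hx32)).upd 3 0 2 (le_of_eq hx40)) ![2,1,2,2] (by decide) (by decide) 0 (by decide))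
  · -- 04=(2,1)
    exact False.elim (cert_false T ((skipEmb 1).trans (Function.Embedding.refl _)) (by norm_num) (fun _ => hall _) (((((((LB_zero T ((skipEmb 1).trans (Function.Embedding.refl _))).upd 0 2 1 (le_of_eq hx03)).upd 0 3 2 (le_of_eq hx04)).upd 1 2 1 (le_of_eq hx23)).upd 2 0 1 (le_of_eq hx30)).upd 2 1 2 (le_of_eq hx32)).upd 3 0 1 (le_of_eq hx40)) ![2,1,2,1] (by decide) (by decide) 0 (by decide))
  · -- 04=(1,3)
    exact False.elim (cert_false T ((skipEmb 2).trans (Function.Embedding.refl _)) (by norm_num) (fun _ => hall _) (((((LB_zero T ((skipEmb 2).trans (Function.Embedding.refl _))).upd 0 2 1 (le_of_eq hx03)).upd 0 3 1 (le_of_eq hx04)).upd 2 0 1 (le_of_eq hx30)).upd 3 0 3 (le_of_eq hx40)) ![2,0,1,3] (by decide) (by decide) 0 (by decide))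
  · -- 04=(3,1)
    exact False.elim (cert_false T ((skipEmb 2).trans (Function.Embedding.refl _)) (by norm_num) (fun _ => hall _) (((((LB_zero T ((skipEmb 2).trans (Function.Embedding.refl _))).upd 0 2 1 (le_of_eq hx03)).upd 0 3 3 (le_of_eq hx04)).upd 2 0 1 (le_of_eq hx30)).upd 3 0 1 (le_of_eq hx40)) ![2,0,1,1] (by decide) (by decide) 0 (by decide))

theorem case52 (T : NumericalType 5) (hall : ∀ i, T.IsMinusTwo i) (d : SData T)
    (h01 : N T (Function.Embedding.refl _) 0 1 = 0) (h10 : N T (Function.Embedding.refl _) 1 0 = 0)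
    (h02 : N T (Function.Embedding.refl _) 0 2 = 0) (h20 : N T (Function.Embedding.refl _) 2 0 = 0)
    (h12 : N T (Function.Embedding.refl _) 1 2 = 0) (h21 : N T (Function.Embedding.refl _) 2 1 = 0)
    (h03 : N T (Function.Embedding.refl _) 0 3 = 1) (h30 : N T (Function.Embedding.refl _) 3 0 = 1)
    (h13 : N T (Function.Embedding.refl _) 1 3 = 0) (h31 : N T (Function.Embedding.refl _) 3 1 = 0)
    (h23 : N T (Function.Embedding.refl _) 2 3 = 2) (h32 : N T (Function.Embedding.refl _) 3 2 = 1)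
    (h04 : N T (Function.Embedding.refl _) 0 4 = 0) (h40 : N T (Function.Embedding.refl _) 4 0 = 0) :
    Goal T := by
  unfold Goal
  have hd := d
  obtain ⟨x01, x02, x03, x04, x10, x12, x13, x14, x20, x21, x23, x24, x30, x31, x32, x34, x40, x41, x42, x43, hx01, hx02, hx03, hx04, hx10, hx12, hx13, hx14, hx20, hx21, hx23, hx24, hx30, hx31, hx32, hx34, hx40, hx41, hx42, hx43, hw0, hm0, hw1, hm1, hw2, hm2, hw3, hm3, hw4, hm4, a00, a01, a02, a03, a04, a11, a10, a12, a13, a14, a22, a20, a21, a23, a24, a33, a30, a31, a32, a34, a44, a40, a41, a42, a43, wN01, wN02, wN12, wN03, wN13, wN23, wN04, wN14, wN24, wN34, e0, e1, e2, e3, e4, d01, d02, d12, d03, d13, d23, d04, d14, d24, d34⟩ := d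
  obtain rfl : x01 = 0 := hx01.trans h01
  obtain rfl : x10 = 0 := hx10.trans h10
  obtain rfl : x02 = 0 := hx02.trans h02
  obtain rfl : x20 = 0 := hx20.trans h20
  obtain rfl : x12 = 0 := hx12.trans h12
  obtain rfl : x21 = 0 := hx21.trans h21
  obtain rfl : x03 = 1 := hx03.trans h03
  obtain rfl : x30 = 1 := hx30.trans h30
  obtain rfl : x13 = 0 := hx13.trans h13
  obtain rfl : x31 = 0 := hx31.trans h31
  obtain rfl : x23 = 2 := hx23.trans h23
  obtain rfl : x32 = 1 := hx32.trans h32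
  obtain rfl : x04 = 0 := hx04.trans h04
  obtain rfl : x40 = 0 := hx40.trans h40
  rcases d14 with ⟨rfl, rfl⟩ | ⟨rfl, rfl⟩ | ⟨rfl, rfl⟩ | ⟨rfl, rfl⟩ | ⟨rfl, rfl⟩ | ⟨rfl, rfl⟩
  · -- 14=(0,0)
    rcases d24 with ⟨rfl, rfl⟩ | ⟨rfl, rfl⟩ | ⟨rfl, rfl⟩ | ⟨rfl, rfl⟩ | ⟨rfl, rfl⟩ | ⟨rfl, rfl⟩
    · -- 24=(0,0)
      rcases d34 with ⟨rfl, rfl⟩ | ⟨rfl, rfl⟩ | ⟨rfl, rfl⟩ | ⟨rfl, rfl⟩ | ⟨rfl, rfl⟩ | ⟨rfl, rfl⟩
      · -- 34=(0,0)
        exfalso; omega
      · -- 34=(1,1)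
        exact False.elim (cert_false T ((skipEmb 1).trans (Function.Embedding.refl _)) (by norm_num) (fun _ => hall _) (((((((LB_zero T ((skipEmb 1).trans (Function.Embedding.refl _))).upd 0 2 1 (le_of_eq hx03)).upd 1 2 2 (le_of_eq hx23)).upd 2 0 1 (le_of_eq hx30)).upd 2 1 1 (le_of_eq hx32)).upd 2 3 1 (le_of_eq hx34)).upd 3 2 1 (le_of_eq hx43)) ![1,2,2,1] (by decide) (by decide) 0 (by decide))
      · -- 34=(1,2)
        exact False.elim (cert_false T ((skipEmb 1).trans (Function.Embedding.refl _)) (by norm_num) (fun _ => hall _) (((((LB_zero T ((skipEmb 1).trans (Function.Embedding.refl _))).upd 1 2 2 (le_of_eq hx23)).upd 2 1 1 (le_of_eq hx32)).upd 2 3 1 (le_of_eq hx34)).upd 3 2 2 (le_of_eq hx43)) ![0,1,1,1] (by decide) (by decide) 1 (by decide))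
      · -- 34=(2,1)
        exact False.elim (cert_false T ((skipEmb 1).trans (Function.Embedding.refl _)) (by norm_num) (fun _ => hall _) (((((LB_zero T ((skipEmb 1).trans (Function.Embedding.refl _))).upd 1 2 2 (le_of_eq hx23)).upd 2 1 1 (le_of_eq hx32)).upd 2 3 2 (le_of_eq hx34)).upd 3 2 1 (le_of_eq hx43)) ![0,2,2,1] (by decide) (by decide) 1 (by decide))
      · -- 34=(1,3)
        exact False.elim (cert_false T ((skipEmb 2).trans (Function.Embedding.refl _)) (by norm_num) (fun _ => hall _) (((((LB_zero T ((skipEmb 2).trans (Function.Embedding.refl _))).upd 0 2 1 (le_of_eq hx03)).upd 2 0 1 (le_of_eq hx30)).upd 2 3 1 (le_of_eq hx34)).upd 3 2 3 (le_of_eq hx43)) ![1,0,2,3] (by decide) (by decide) 0 (by decide))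
      · -- 34=(3,1)
        exact False.elim (cert_false T ((skipEmb 2).trans (Function.Embedding.refl _)) (by norm_num) (fun _ => hall _) (((((LB_zero T ((skipEmb 2).trans (Function.Embedding.refl _))).upd 0 2 1 (le_of_eq hx03)).upd 2 0 1 (le_of_eq hx30)).upd 2 3 3 (le_of_eq hx34)).upd 3 2 1 (le_of_eq hx43)) ![1,0,2,1] (by decide) (by decide) 0 (by decide))
    · -- 24=(1,1)
      rcases d34 with ⟨rfl, rfl⟩ | ⟨rfl, rfl⟩ | ⟨rfl, rfl⟩ | ⟨rfl, rfl⟩ | ⟨rfl, rfl⟩ | ⟨rfl, rfl⟩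
      · -- 34=(0,0)
        exfalso; omega
      · -- 34=(1,1)
        exact False.elim (cert_false T ((skipEmb 1).trans (Function.Embedding.refl _)) (by norm_num) (fun _ => hall _) (((((((LB_zero T ((skipEmb 1).trans (Function.Embedding.refl _))).upd 1 2 2 (le_of_eq hx23)).upd 1 3 1 (le_of_eq hx24)).upd 2 1 1 (le_of_eq hx32)).upd 2 3 1 (le_of_eq hx34)).upd 3 1 1 (le_of_eq hx42)).upd 3 2 1 (le_of_eq hx43)) ![0,1,1,1] (by decide) (by decide) 1 (by decide))
      · -- 34=(1,2)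
        exact False.elim (cert_false T ((skipEmb 1).trans (Function.Embedding.refl _)) (by norm_num) (fun _ => hall _) (((((((LB_zero T ((skipEmb 1).trans (Function.Embedding.refl _))).upd 1 2 2 (le_of_eq hx23)).upd 1 3 1 (le_of_eq hx24)).upd 2 1 1 (le_of_eq hx32)).upd 2 3 1 (le_of_eq hx34)).upd 3 1 1 (le_of_eq hx42)).upd 3 2 2 (le_of_eq hx43)) ![0,1,1,1] (by decide) (by decide) 1 (by decide))
      · -- 34=(2,1)
        exact False.elim (cert_false T ((skipEmb 1).trans (Function.Embedding.refl _)) (by norm_num) (fun _ => hall _) (((((((LB_zero T ((skipEmb 1).trans (Function.Embedding.refl _))).upd 1 2 2 (le_of_eq hx23)).upd 1 3 1 (le_of_eq hx24)).upd 2 1 1 (le_of_eq hx32)).upd 2 3 2 (le_of_eq hx34)).upd 3 1 1 (le_of_eq hx42)).upd 3 2 1 (le_of_eq hx43)) ![0,1,1,1] (by decide) (by decide) 1 (by decide))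
      · -- 34=(1,3)
        exact False.elim (cert_false T ((skipEmb 2).trans (Function.Embedding.refl _)) (by norm_num) (fun _ => hall _) (((((LB_zero T ((skipEmb 2).trans (Function.Embedding.refl _))).upd 0 2 1 (le_of_eq hx03)).upd 2 0 1 (le_of_eq hx30)).upd 2 3 1 (le_of_eq hx34)).upd 3 2 3 (le_of_eq hx43)) ![1,0,2,3] (by decide) (by decide) 0 (by decide))
      · -- 34=(3,1)
        exact False.elim (cert_false T ((skipEmb 2).trans (Function.Embedding.refl _)) (by norm_num) (fun _ => hall _) (((((LB_zero T ((skipEmb 2).trans (Function.Embedding.refl _))).upd 0 2 1 (le_of_eq hx03)).upd 2 0 1 (le_of_eq hx30)).upd 2 3 3 (le_of_eq hx34)).upd 3 2 1 (le_of_eq hx43)) ![1,0,2,1] (by decide) (by decide) 0 (by decide))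
    · -- 24=(1,2)
      exact False.elim (cert_false T ((skipEmb 1).trans (Function.Embedding.refl _)) (by norm_num) (fun _ => hall _) (((((LB_zero T ((skipEmb 1).trans (Function.Embedding.refl _))).upd 1 2 2 (le_of_eq hx23)).upd 1 3 1 (le_of_eq hx24)).upd 2 1 1 (le_of_eq hx32)).upd 3 1 2 (le_of_eq hx42)) ![0,2,1,2] (by decide) (by decide) 1 (by decide))
    · -- 24=(2,1)
      exact False.elim (cert_false T ((skipEmb 1).trans (Function.Embedding.refl _)) (by norm_num) (fun _ => hall _) (((((LB_zero T ((skipEmb 1).trans (Function.Embedding.refl _))).upd 1 2 2 (le_of_eq hx23)).upd 1 3 2 (le_of_eq hx24)).upd 2 1 1 (le_of_eq hx32)).upd 3 1 1 (le_of_eq hx42)) ![0,2,1,1] (by decide) (by decide) 1 (by decide))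
    · -- 24=(1,3)
      exact False.elim (cert_false T ((skipEmb 1).trans (Function.Embedding.refl _)) (by norm_num) (fun _ => hall _) (((((LB_zero T ((skipEmb 1).trans (Function.Embedding.refl _))).upd 1 2 2 (le_of_eq hx23)).upd 1 3 1 (le_of_eq hx24)).upd 2 1 1 (le_of_eq hx32)).upd 3 1 3 (le_of_eq hx42)) ![0,2,1,2] (by decide) (by decide) 1 (by decide))
    · -- 24=(3,1)
      exact False.elim (cert_false T ((skipEmb 1).trans (Function.Embedding.refl _)) (by norm_num) (fun _ => hall _) (((((LB_zero T ((skipEmb 1).trans (Function.Embedding.refl _))).upd 1 2 2 (le_of_eq hx23)).upd 1 3 3 (le_of_eq hx24)).upd 2 1 1 (le_of_eq hx32)).upd 3 1 1 (le_of_eq hx42)) ![0,2,1,1] (by decide) (by decide) 1 (by decide))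
  · -- 14=(1,1)
    rcases d24 with ⟨rfl, rfl⟩ | ⟨rfl, rfl⟩ | ⟨rfl, rfl⟩ | ⟨rfl, rfl⟩ | ⟨rfl, rfl⟩ | ⟨rfl, rfl⟩
    · -- 24=(0,0)
      rcases d34 with ⟨rfl, rfl⟩ | ⟨rfl, rfl⟩ | ⟨rfl, rfl⟩ | ⟨rfl, rfl⟩ | ⟨rfl, rfl⟩ | ⟨rfl, rfl⟩
      · -- 34=(0,0)
        exfalso; omega
      · -- 34=(1,1)
        exact False.elim (cert_false T ((skipEmb 1).trans (Function.Embedding.refl _)) (by norm_num) (fun _ => hall _) (((((((LB_zero T ((skipEmb 1).trans (Function.Embedding.refl _))).upd 0 2 1 (le_of_eq hx03)).upd 1 2 2 (le_of_eq hx23)).upd 2 0 1 (le_of_eq hx30)).upd 2 1 1 (le_of_eq hx32)).upd 2 3 1 (le_of_eq hx34)).upd 3 2 1 (le_of_eq hx43)) ![1,2,2,1] (by decide) (by decide) 0 (by decide))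
      · -- 34=(1,2)
        exact False.elim (cert_false T ((skipEmb 1).trans (Function.Embedding.refl _)) (by norm_num) (fun _ => hall _) (((((LB_zero T ((skipEmb 1).trans (Function.Embedding.refl _))).upd 1 2 2 (le_of_eq hx23)).upd 2 1 1 (le_of_eq hx32)).upd 2 3 1 (le_of_eq hx34)).upd 3 2 2 (le_of_eq hx43)) ![0,1,1,1] (by decide) (by decide) 1 (by decide))
      · -- 34=(2,1)
        exact False.elim (cert_false T ((skipEmb 1).trans (Function.Embedding.refl _)) (by norm_num) (fun _ => hall _) (((((LB_zero T ((skipEmb 1).trans (Function.Embedding.refl _))).upd 1 2 2 (le_of_eq hx23)).upd 2 1 1 (le_of_eq hx32)).upd 2 3 2 (le_of_eq hx34)).upd 3 2 1 (le_of_eq hx43)) ![0,2,2,1] (by decide) (by decide) 1 (by decide))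
      · -- 34=(1,3)
        exact False.elim (cert_false T ((skipEmb 2).trans (Function.Embedding.refl _)) (by norm_num) (fun _ => hall _) (((((LB_zero T ((skipEmb 2).trans (Function.Embedding.refl _))).upd 1 3 1 (le_of_eq hx14)).upd 2 3 1 (le_of_eq hx34)).upd 3 1 1 (le_of_eq hx41)).upd 3 2 3 (le_of_eq hx43)) ![0,1,1,2] (by decide) (by decide) 1 (by decide))
      · -- 34=(3,1)
        exact False.elim (cert_false T ((skipEmb 2).trans (Function.Embedding.refl _)) (by norm_num) (fun _ => hall _) (((((LB_zero T ((skipEmb 2).trans (Function.Embedding.refl _))).upd 0 2 1 (le_of_eq hx03)).upd 2 0 1 (le_of_eq hx30)).upd 2 3 3 (le_of_eq hx34)).upd 3 2 1 (le_of_eq hx43)) ![1,0,2,1] (by decide) (by decide) 0 (by decide))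
    · -- 24=(1,1)
      rcases d34 with ⟨rfl, rfl⟩ | ⟨rfl, rfl⟩ | ⟨rfl, rfl⟩ | ⟨rfl, rfl⟩ | ⟨rfl, rfl⟩ | ⟨rfl, rfl⟩
      · -- 34=(0,0)
        refine ⟨(⟨![1, 4, 2, 3, 0], ![4, 0, 2, 3, 1], by decide, by decide⟩ : Equiv.Perm (Fin 5)), T.m 1, T.w 1, Or.inr (Or.inl ?_)⟩
        show T.m 1 = T.m 1 ∧ T.m 4 = 2 * T.m 1 ∧ T.m 2 = 3 * T.m 1 ∧ T.m 3 = 2 * T.m 1 ∧ T.m 0 = T.m 1 ∧ T.w 1 = T.w 1 ∧ T.w 4 = T.w 1 ∧ T.w 2 = T.w 1 ∧ T.w 3 = 2 * T.w 1 ∧ T.w 0 = 2 * T.w 1 ∧ T.a 1 1 = -2 * T.w 1 ∧ T.a 1 4 = T.w 1 ∧ T.a 1 2 = 0 ∧ T.a 1 3 = 0 ∧ T.a 1 0 = 0 ∧ T.a 4 4 = -2 * T.w 1 ∧ T.a 4 2 = T.w 1 ∧ T.a 4 3 = 0 ∧ T.a 4 0 = 0 ∧ T.a 2 2 = -2 * T.w 1 ∧ T.a 2 3 = 2 * T.w 1 ∧ T.a 2 0 = 0 ∧ T.a 3 3 = -4 * T.w 1 ∧ T.a 3 0 = 2 * T.w 1 ∧ T.a 0 0 = -4 * T.w 1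
        refine ⟨?_, ?_, ?_, ?_, ?_, ?_, ?_, ?_, ?_, ?_, ?_, ?_, ?_, ?_, ?_, ?_, ?_, ?_, ?_, ?_, ?_, ?_, ?_, ?_, ?_⟩ <;> omega
      · -- 34=(1,1)
        exact False.elim (cert_false T ((skipEmb 1).trans (Function.Embedding.refl _)) (by norm_num) (fun _ => hall _) (((((((LB_zero T ((skipEmb 1).trans (Function.Embedding.refl _))).upd 1 2 2 (le_of_eq hx23)).upd 1 3 1 (le_of_eq hx24)).upd 2 1 1 (le_of_eq hx32)).upd 2 3 1 (le_of_eq hx34)).upd 3 1 1 (le_of_eq hx42)).upd 3 2 1 (le_of_eq hx43)) ![0,1,1,1] (by decide) (by decide) 1 (by decide))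
      · -- 34=(1,2)
        exact False.elim (cert_false T ((skipEmb 1).trans (Function.Embedding.refl _)) (by norm_num) (fun _ => hall _) (((((((LB_zero T ((skipEmb 1).trans (Function.Embedding.refl _))).upd 1 2 2 (le_of_eq hx23)).upd 1 3 1 (le_of_eq hx24)).upd 2 1 1 (le_of_eq hx32)).upd 2 3 1 (le_of_eq hx34)).upd 3 1 1 (le_of_eq hx42)).upd 3 2 2 (le_of_eq hx43)) ![0,1,1,1] (by decide) (by decide) 1 (by decide))
      · -- 34=(2,1)
        exact False.elim (cert_false T ((skipEmb 1).trans (Function.Embedding.refl _)) (by norm_num) (fun _ => hall _) (((((((LB_zero T ((skipEmb 1).trans (Function.Embedding.refl _))).upd 1 2 2 (le_of_eq hx23)).upd 1 3 1 (le_of_eq hx24)).upd 2 1 1 (le_of_eq hx32)).upd 2 3 2 (le_of_eq hx34)).upd 3 1 1 (le_of_eq hx42)).upd 3 2 1 (le_of_eq hx43)) ![0,1,1,1] (by decide) (by decide) 1 (by decide))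
      · -- 34=(1,3)
        exact False.elim (cert_false T ((skipEmb 2).trans (Function.Embedding.refl _)) (by norm_num) (fun _ => hall _) (((((LB_zero T ((skipEmb 2).trans (Function.Embedding.refl _))).upd 1 3 1 (le_of_eq hx14)).upd 2 3 1 (le_of_eq hx34)).upd 3 1 1 (le_of_eq hx41)).upd 3 2 3 (le_of_eq hx43)) ![0,1,1,2] (by decide) (by decide) 1 (by decide))
      · -- 34=(3,1)
        exact False.elim (cert_false T ((skipEmb 2).trans (Function.Embedding.refl _)) (by norm_num) (fun _ => hall _) (((((LB_zero T ((skipEmb 2).trans (Function.Embedding.refl _))).upd 0 2 1 (le_of_eq hx03)).upd 2 0 1 (le_of_eq hx30)).upd 2 3 3 (le_of_eq hx34)).upd 3 2 1 (le_of_eq hx43)) ![1,0,2,1] (by decide) (by decide) 0 (by decide))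
    · -- 24=(1,2)
      exact False.elim (cert_false T ((skipEmb 1).trans (Function.Embedding.refl _)) (by norm_num) (fun _ => hall _) (((((LB_zero T ((skipEmb 1).trans (Function.Embedding.refl _))).upd 1 2 2 (le_of_eq hx23)).upd 1 3 1 (le_of_eq hx24)).upd 2 1 1 (le_of_eq hx32)).upd 3 1 2 (le_of_eq hx42)) ![0,2,1,2] (by decide) (by decide) 1 (by decide))
    · -- 24=(2,1)
      exact False.elim (cert_false T ((skipEmb 1).trans (Function.Embedding.refl _)) (by norm_num) (fun _ => hall _) (((((LB_zero T ((skipEmb 1).trans (Function.Embedding.refl _))).upd 1 2 2 (le_of_eq hx23)).upd 1 3 2 (le_of_eq hx24)).upd 2 1 1 (le_of_eq hx32)).upd 3 1 1 (le_of_eq hx42)) ![0,2,1,1] (by decide) (by decide) 1 (by decide))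
    · -- 24=(1,3)
      exact False.elim (cert_false T ((skipEmb 3).trans (Function.Embedding.refl _)) (by norm_num) (fun _ => hall _) (((((LB_zero T ((skipEmb 3).trans (Function.Embedding.refl _))).upd 1 3 1 (le_of_eq hx14)).upd 2 3 1 (le_of_eq hx24)).upd 3 1 1 (le_of_eq hx41)).upd 3 2 3 (le_of_eq hx42)) ![0,1,1,2] (by decide) (by decide) 1 (by decide))
    · -- 24=(3,1)
      exact False.elim (cert_false T ((skipEmb 3).trans (Function.Embedding.refl _)) (by norm_num) (fun _ => hall _) (((((LB_zero T ((skipEmb 3).trans (Function.Embedding.refl _))).upd 1 3 1 (le_of_eq hx14)).upd 2 3 3 (le_of_eq hx24)).upd 3 1 1 (le_of_eq hx41)).upd 3 2 1 (le_of_eq hx42)) ![0,1,3,2] (by decide) (by decide) 1 (by decide))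
  · -- 14=(1,2)
    rcases d24 with ⟨rfl, rfl⟩ | ⟨rfl, rfl⟩ | ⟨rfl, rfl⟩ | ⟨rfl, rfl⟩ | ⟨rfl, rfl⟩ | ⟨rfl, rfl⟩
    · -- 24=(0,0)
      rcases d34 with ⟨rfl, rfl⟩ | ⟨rfl, rfl⟩ | ⟨rfl, rfl⟩ | ⟨rfl, rfl⟩ | ⟨rfl, rfl⟩ | ⟨rfl, rfl⟩
      · -- 34=(0,0)
        exfalso; omega
      · -- 34=(1,1)
        exact False.elim (cert_false T ((skipEmb 1).trans (Function.Embedding.refl _)) (by norm_num) (fun _ => hall _) (((((((LB_zero T ((skipEmb 1).trans (Function.Embedding.refl _))).upd 0 2 1 (le_of_eq hx03)).upd 1 2 2 (le_of_eq hx23)).upd 2 0 1 (le_of_eq hx30)).upd 2 1 1 (le_of_eq hx32)).upd 2 3 1 (le_of_eq hx34)).upd 3 2 1 (le_of_eq hx43)) ![1,2,2,1] (by decide) (by decide) 0 (by decide))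
      · -- 34=(1,2)
        exact False.elim (cert_false T ((skipEmb 2).trans (Function.Embedding.refl _)) (by norm_num) (fun _ => hall _) (((((LB_zero T ((skipEmb 2).trans (Function.Embedding.refl _))).upd 1 3 1 (le_of_eq hx14)).upd 2 3 1 (le_of_eq hx34)).upd 3 1 2 (le_of_eq hx41)).upd 3 2 2 (le_of_eq hx43)) ![0,1,1,2] (by decide) (by decide) 1 (by decide))
      · -- 34=(2,1)
        exact False.elim (cert_false T ((skipEmb 2).trans (Function.Embedding.refl _)) (by norm_num) (fun _ => hall _) (((((LB_zero T ((skipEmb 2).trans (Function.Embedding.refl _))).upd 1 3 1 (le_of_eq hx14)).upd 2 3 2 (le_of_eq hx34)).upd 3 1 2 (le_of_eq hx41)).upd 3 2 1 (le_of_eq hx43)) ![0,1,2,2] (by decide) (by decide) 1 (by decide))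
      · -- 34=(1,3)
        exact False.elim (cert_false T ((skipEmb 2).trans (Function.Embedding.refl _)) (by norm_num) (fun _ => hall _) (((((LB_zero T ((skipEmb 2).trans (Function.Embedding.refl _))).upd 1 3 1 (le_of_eq hx14)).upd 2 3 1 (le_of_eq hx34)).upd 3 1 2 (le_of_eq hx41)).upd 3 2 3 (le_of_eq hx43)) ![0,1,1,2] (by decide) (by decide) 1 (by decide))
      · -- 34=(3,1)
        exact False.elim (cert_false T ((skipEmb 2).trans (Function.Embedding.refl _)) (by norm_num) (fun _ => hall _) (((((LB_zero T ((skipEmb 2).trans (Function.Embedding.refl _))).upd 1 3 1 (le_of_eq hx14)).upd 2 3 3 (le_of_eq hx34)).upd 3 1 2 (le_of_eq hx41)).upd 3 2 1 (le_of_eq hx43)) ![0,1,2,2] (by decide) (by decide) 1 (by decide))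
    · -- 24=(1,1)
      exact False.elim (cert_false T ((skipEmb 0).trans (Function.Embedding.refl _)) (by norm_num) (fun _ => hall _) (((((((LB_zero T ((skipEmb 0).trans (Function.Embedding.refl _))).upd 0 3 1 (le_of_eq hx14)).upd 1 2 2 (le_of_eq hx23)).upd 1 3 1 (le_of_eq hx24)).upd 2 1 1 (le_of_eq hx32)).upd 3 0 2 (le_of_eq hx41)).upd 3 1 1 (le_of_eq hx42)) ![1,2,1,2] (by decide) (by decide) 0 (by decide))
    · -- 24=(1,2)
      exact False.elim (cert_false T ((skipEmb 3).trans (Function.Embedding.refl _)) (by norm_num) (fun _ => hall _) (((((LB_zero T ((skipEmb 3).trans (Function.Embedding.refl _))).upd 1 3 1 (le_of_eq hx14)).upd 2 3 1 (le_of_eq hx24)).upd 3 1 2 (le_of_eq hx41)).upd 3 2 2 (le_of_eq hx42)) ![0,1,1,2] (by decide) (by decide) 1 (by decide))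
    · -- 24=(2,1)
      exact False.elim (cert_false T ((skipEmb 3).trans (Function.Embedding.refl _)) (by norm_num) (fun _ => hall _) (((((LB_zero T ((skipEmb 3).trans (Function.Embedding.refl _))).upd 1 3 1 (le_of_eq hx14)).upd 2 3 2 (le_of_eq hx24)).upd 3 1 2 (le_of_eq hx41)).upd 3 2 1 (le_of_eq hx42)) ![0,1,2,2] (by decide) (by decide) 1 (by decide))
    · -- 24=(1,3)
      exact False.elim (cert_false T ((skipEmb 3).trans (Function.Embedding.refl _)) (by norm_num) (fun _ => hall _) (((((LB_zero T ((skipEmb 3).trans (Function.Embedding.refl _))).upd 1 3 1 (le_of_eq hx14)).upd 2 3 1 (le_of_eq hx24)).upd 3 1 2 (le_of_eq hx41)).upd 3 2 3 (le_of_eq hx42)) ![0,1,1,2] (by decide) (by decide) 1 (by decide))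
    · -- 24=(3,1)
      exact False.elim (cert_false T ((skipEmb 3).trans (Function.Embedding.refl _)) (by norm_num) (fun _ => hall _) (((((LB_zero T ((skipEmb 3).trans (Function.Embedding.refl _))).upd 1 3 1 (le_of_eq hx14)).upd 2 3 3 (le_of_eq hx24)).upd 3 1 2 (le_of_eq hx41)).upd 3 2 1 (le_of_eq hx42)) ![0,1,2,2] (by decide) (by decide) 1 (by decide))
  · -- 14=(2,1)
    rcases d24 with ⟨rfl, rfl⟩ | ⟨rfl, rfl⟩ | ⟨rfl, rfl⟩ | ⟨rfl, rfl⟩ | ⟨rfl, rfl⟩ | ⟨rfl, rfl⟩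
    · -- 24=(0,0)
      rcases d34 with ⟨rfl, rfl⟩ | ⟨rfl, rfl⟩ | ⟨rfl, rfl⟩ | ⟨rfl, rfl⟩ | ⟨rfl, rfl⟩ | ⟨rfl, rfl⟩
      · -- 34=(0,0)
        exfalso; omega
      · -- 34=(1,1)
        exact False.elim (cert_false T ((skipEmb 1).trans (Function.Embedding.refl _)) (by norm_num) (fun _ => hall _) (((((((LB_zero T ((skipEmb 1).trans (Function.Embedding.refl _))).upd 0 2 1 (le_of_eq hx03)).upd 1 2 2 (le_of_eq hx23)).upd 2 0 1 (le_of_eq hx30)).upd 2 1 1 (le_of_eq hx32)).upd 2 3 1 (le_of_eq hx34)).upd 3 2 1 (le_of_eq hx43)) ![1,2,2,1] (by decide) (by decide) 0 (by decide))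
      · -- 34=(1,2)
        exact False.elim (cert_false T ((skipEmb 2).trans (Function.Embedding.refl _)) (by norm_num) (fun _ => hall _) (((((LB_zero T ((skipEmb 2).trans (Function.Embedding.refl _))).upd 1 3 2 (le_of_eq hx14)).upd 2 3 1 (le_of_eq hx34)).upd 3 1 1 (le_of_eq hx41)).upd 3 2 2 (le_of_eq hx43)) ![0,2,1,2] (by decide) (by decide) 1 (by decide))
      · -- 34=(2,1)
        exact False.elim (cert_false T ((skipEmb 2).trans (Function.Embedding.refl _)) (by norm_num) (fun _ => hall _) (((((LB_zero T ((skipEmb 2).trans (Function.Embedding.refl _))).upd 1 3 2 (le_of_eq hx14)).upd 2 3 2 (le_of_eq hx34)).upd 3 1 1 (le_of_eq hx41)).upd 3 2 1 (le_of_eq hx43)) ![0,1,1,1] (by decide) (by decide) 1 (by decide))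
      · -- 34=(1,3)
        exact False.elim (cert_false T ((skipEmb 2).trans (Function.Embedding.refl _)) (by norm_num) (fun _ => hall _) (((((LB_zero T ((skipEmb 2).trans (Function.Embedding.refl _))).upd 1 3 2 (le_of_eq hx14)).upd 2 3 1 (le_of_eq hx34)).upd 3 1 1 (le_of_eq hx41)).upd 3 2 3 (le_of_eq hx43)) ![0,1,1,2] (by decide) (by decide) 1 (by decide))
      · -- 34=(3,1)
        exact False.elim (cert_false T ((skipEmb 2).trans (Function.Embedding.refl _)) (by norm_num) (fun _ => hall _) (((((LB_zero T ((skipEmb 2).trans (Function.Embedding.refl _))).upd 1 3 2 (le_of_eq hx14)).upd 2 3 3 (le_of_eq hx34)).upd 3 1 1 (le_of_eq hx41)).upd 3 2 1 (le_of_eq hx43)) ![0,1,1,1] (by decide) (by decide) 1 (by decide))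
    · -- 24=(1,1)
      exact False.elim (cert_false T ((skipEmb 0).trans (Function.Embedding.refl _)) (by norm_num) (fun _ => hall _) (((((((LB_zero T ((skipEmb 0).trans (Function.Embedding.refl _))).upd 0 3 2 (le_of_eq hx14)).upd 1 2 2 (le_of_eq hx23)).upd 1 3 1 (le_of_eq hx24)).upd 2 1 1 (le_of_eq hx32)).upd 3 0 1 (le_of_eq hx41)).upd 3 1 1 (le_of_eq hx42)) ![2,2,1,2] (by decide) (by decide) 0 (by decide))
    · -- 24=(1,2)
      exact False.elim (cert_false T ((skipEmb 3).trans (Function.Embedding.refl _)) (by norm_num) (fun _ => hall _) (((((LB_zero T ((skipEmb 3).trans (Function.Embedding.refl _))).upd 1 3 2 (le_of_eq hx14)).upd 2 3 1 (le_of_eq hx24)).upd 3 1 1 (le_of_eq hx41)).upd 3 2 2 (le_of_eq hx42)) ![0,2,1,2] (by decide) (by decide) 1 (by decide))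
    · -- 24=(2,1)
      exact False.elim (cert_false T ((skipEmb 3).trans (Function.Embedding.refl _)) (by norm_num) (fun _ => hall _) (((((LB_zero T ((skipEmb 3).trans (Function.Embedding.refl _))).upd 1 3 2 (le_of_eq hx14)).upd 2 3 2 (le_of_eq hx24)).upd 3 1 1 (le_of_eq hx41)).upd 3 2 1 (le_of_eq hx42)) ![0,1,1,1] (by decide) (by decide) 1 (by decide))
    · -- 24=(1,3)
      exact False.elim (cert_false T ((skipEmb 3).trans (Function.Embedding.refl _)) (by norm_num) (fun _ => hall _) (((((LB_zero T ((skipEmb 3).trans (Function.Embedding.refl _))).upd 1 3 2 (le_of_eq hx14)).upd 2 3 1 (le_of_eq hx24)).upd 3 1 1 (le_of_eq hx41)).upd 3 2 3 (le_of_eq hx42)) ![0,1,1,2] (by decide) (by decide) 1 (by decide))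
    · -- 24=(3,1)
      exact False.elim (cert_false T ((skipEmb 3).trans (Function.Embedding.refl _)) (by norm_num) (fun _ => hall _) (((((LB_zero T ((skipEmb 3).trans (Function.Embedding.refl _))).upd 1 3 2 (le_of_eq hx14)).upd 2 3 3 (le_of_eq hx24)).upd 3 1 1 (le_of_eq hx41)).upd 3 2 1 (le_of_eq hx42)) ![0,1,1,1] (by decide) (by decide) 1 (by decide))
  · -- 14=(1,3)
    rcases d24 with ⟨rfl, rfl⟩ | ⟨rfl, rfl⟩ | ⟨rfl, rfl⟩ | ⟨rfl, rfl⟩ | ⟨rfl, rfl⟩ | ⟨rfl, rfl⟩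
    · -- 24=(0,0)
      rcases d34 with ⟨rfl, rfl⟩ | ⟨rfl, rfl⟩ | ⟨rfl, rfl⟩ | ⟨rfl, rfl⟩ | ⟨rfl, rfl⟩ | ⟨rfl, rfl⟩
      · -- 34=(0,0)
        exfalso; omega
      · -- 34=(1,1)
        exact False.elim (cert_false T ((skipEmb 2).trans (Function.Embedding.refl _)) (by norm_num) (fun _ => hall _) (((((LB_zero T ((skipEmb 2).trans (Function.Embedding.refl _))).upd 1 3 1 (le_of_eq hx14)).upd 2 3 1 (le_of_eq hx34)).upd 3 1 3 (le_of_eq hx41)).upd 3 2 1 (le_of_eq hx43)) ![0,1,1,2] (by decide) (by decide) 1 (by decide))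
      · -- 34=(1,2)
        exact False.elim (cert_false T ((skipEmb 2).trans (Function.Embedding.refl _)) (by norm_num) (fun _ => hall _) (((((LB_zero T ((skipEmb 2).trans (Function.Embedding.refl _))).upd 1 3 1 (le_of_eq hx14)).upd 2 3 1 (le_of_eq hx34)).upd 3 1 3 (le_of_eq hx41)).upd 3 2 2 (le_of_eq hx43)) ![0,1,1,2] (by decide) (by decide) 1 (by decide))
      · -- 34=(2,1)
        exact False.elim (cert_false T ((skipEmb 2).trans (Function.Embedding.refl _)) (by norm_num) (fun _ => hall _) (((((LB_zero T ((skipEmb 2).trans (Function.Embedding.refl _))).upd 1 3 1 (le_of_eq hx14)).upd 2 3 2 (le_of_eq hx34)).upd 3 1 3 (le_of_eq hx41)).upd 3 2 1 (le_of_eq hx43)) ![0,1,1,2] (by decide) (by decide) 1 (by decide))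
      · -- 34=(1,3)
        exact False.elim (cert_false T ((skipEmb 2).trans (Function.Embedding.refl _)) (by norm_num) (fun _ => hall _) (((((LB_zero T ((skipEmb 2).trans (Function.Embedding.refl _))).upd 1 3 1 (le_of_eq hx14)).upd 2 3 1 (le_of_eq hx34)).upd 3 1 3 (le_of_eq hx41)).upd 3 2 3 (le_of_eq hx43)) ![0,1,1,2] (by decide) (by decide) 1 (by decide))
      · -- 34=(3,1)
        exact False.elim (cert_false T ((skipEmb 2).trans (Function.Embedding.refl _)) (by norm_num) (fun _ => hall _) (((((LB_zero T ((skipEmb 2).trans (Function.Embedding.refl _))).upd 1 3 1 (le_of_eq hx14)).upd 2 3 3 (le_of_eq hx34)).upd 3 1 3 (le_of_eq hx41)).upd 3 2 1 (le_of_eq hx43)) ![0,1,1,2] (by decide) (by decide) 1 (by decide))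
    · -- 24=(1,1)
      exact False.elim (cert_false T ((skipEmb 3).trans (Function.Embedding.refl _)) (by norm_num) (fun _ => hall _) (((((LB_zero T ((skipEmb 3).trans (Function.Embedding.refl _))).upd 1 3 1 (le_of_eq hx14)).upd 2 3 1 (le_of_eq hx24)).upd 3 1 3 (le_of_eq hx41)).upd 3 2 1 (le_of_eq hx42)) ![0,1,1,2] (by decide) (by decide) 1 (by decide))
    · -- 24=(1,2)
      exact False.elim (cert_false T ((skipEmb 3).trans (Function.Embedding.refl _)) (by norm_num) (fun _ => hall _) (((((LB_zero T ((skipEmb 3).trans (Function.Embedding.refl _))).upd 1 3 1 (le_of_eq hx14)).upd 2 3 1 (le_of_eq hx24)).upd 3 1 3 (le_of_eq hx41)).upd 3 2 2 (le_of_eq hx42)) ![0,1,1,2] (by decide) (by decide) 1 (by decide))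
    · -- 24=(2,1)
      exact False.elim (cert_false T ((skipEmb 3).trans (Function.Embedding.refl _)) (by norm_num) (fun _ => hall _) (((((LB_zero T ((skipEmb 3).trans (Function.Embedding.refl _))).upd 1 3 1 (le_of_eq hx14)).upd 2 3 2 (le_of_eq hx24)).upd 3 1 3 (le_of_eq hx41)).upd 3 2 1 (le_of_eq hx42)) ![0,1,1,2] (by decide) (by decide) 1 (by decide))
    · -- 24=(1,3)
      exact False.elim (cert_false T ((skipEmb 3).trans (Function.Embedding.refl _)) (by norm_num) (fun _ => hall _) (((((LB_zero T ((skipEmb 3).trans (Function.Embedding.refl _))).upd 1 3 1 (le_of_eq hx14)).upd 2 3 1 (le_of_eq hx24)).upd 3 1 3 (le_of_eq hx41)).upd 3 2 3 (le_of_eq hx42)) ![0,1,1,2] (by decide) (by decide) 1 (by decide))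
    · -- 24=(3,1)
      exact False.elim (cert_false T ((skipEmb 3).trans (Function.Embedding.refl _)) (by norm_num) (fun _ => hall _) (((((LB_zero T ((skipEmb 3).trans (Function.Embedding.refl _))).upd 1 3 1 (le_of_eq hx14)).upd 2 3 3 (le_of_eq hx24)).upd 3 1 3 (le_of_eq hx41)).upd 3 2 1 (le_of_eq hx42)) ![0,1,1,2] (by decide) (by decide) 1 (by decide))
  · -- 14=(3,1)
    rcases d24 with ⟨rfl, rfl⟩ | ⟨rfl, rfl⟩ | ⟨rfl, rfl⟩ | ⟨rfl, rfl⟩ | ⟨rfl, rfl⟩ | ⟨rfl, rfl⟩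
    · -- 24=(0,0)
      rcases d34 with ⟨rfl, rfl⟩ | ⟨rfl, rfl⟩ | ⟨rfl, rfl⟩ | ⟨rfl, rfl⟩ | ⟨rfl, rfl⟩ | ⟨rfl, rfl⟩
      · -- 34=(0,0)
        exfalso; omega
      · -- 34=(1,1)
        exact False.elim (cert_false T ((skipEmb 2).trans (Function.Embedding.refl _)) (by norm_num) (fun _ => hall _) (((((LB_zero T ((skipEmb 2).trans (Function.Embedding.refl _))).upd 1 3 3 (le_of_eq hx14)).upd 2 3 1 (le_of_eq hx34)).upd 3 1 1 (le_of_eq hx41)).upd 3 2 1 (le_of_eq hx43)) ![0,3,1,2] (by decide) (by decide) 1 (by decide))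
      · -- 34=(1,2)
        exact False.elim (cert_false T ((skipEmb 2).trans (Function.Embedding.refl _)) (by norm_num) (fun _ => hall _) (((((LB_zero T ((skipEmb 2).trans (Function.Embedding.refl _))).upd 1 3 3 (le_of_eq hx14)).upd 2 3 1 (le_of_eq hx34)).upd 3 1 1 (le_of_eq hx41)).upd 3 2 2 (le_of_eq hx43)) ![0,2,1,2] (by decide) (by decide) 1 (by decide))
      · -- 34=(2,1)
        exact False.elim (cert_false T ((skipEmb 2).trans (Function.Embedding.refl _)) (by norm_num) (fun _ => hall _) (((((LB_zero T ((skipEmb 2).trans (Function.Embedding.refl _))).upd 1 3 3 (le_of_eq hx14)).upd 2 3 2 (le_of_eq hx34)).upd 3 1 1 (le_of_eq hx41)).upd 3 2 1 (le_of_eq hx43)) ![0,1,1,1] (by decide) (by decide) 1 (by decide))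
      · -- 34=(1,3)
        exact False.elim (cert_false T ((skipEmb 2).trans (Function.Embedding.refl _)) (by norm_num) (fun _ => hall _) (((((LB_zero T ((skipEmb 2).trans (Function.Embedding.refl _))).upd 1 3 3 (le_of_eq hx14)).upd 2 3 1 (le_of_eq hx34)).upd 3 1 1 (le_of_eq hx41)).upd 3 2 3 (le_of_eq hx43)) ![0,1,1,2] (by decide) (by decide) 1 (by decide))
      · -- 34=(3,1)
        exact False.elim (cert_false T ((skipEmb 2).trans (Function.Embedding.refl _)) (by norm_num) (fun _ => hall _) (((((LB_zero T ((skipEmb 2).trans (Function.Embedding.refl _))).upd 1 3 3 (le_of_eq hx14)).upd 2 3 3 (le_of_eq hx34)).upd 3 1 1 (le_of_eq hx41)).upd 3 2 1 (le_of_eq hx43)) ![0,1,1,1] (by decide) (by decide) 1 (by decide))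
    · -- 24=(1,1)
      exact False.elim (cert_false T ((skipEmb 3).trans (Function.Embedding.refl _)) (by norm_num) (fun _ => hall _) (((((LB_zero T ((skipEmb 3).trans (Function.Embedding.refl _))).upd 1 3 3 (le_of_eq hx14)).upd 2 3 1 (le_of_eq hx24)).upd 3 1 1 (le_of_eq hx41)).upd 3 2 1 (le_of_eq hx42)) ![0,3,1,2] (by decide) (by decide) 1 (by decide))
    · -- 24=(1,2)
      exact False.elim (cert_false T ((skipEmb 3).trans (Function.Embedding.refl _)) (by norm_num) (fun _ => hall _) (((((LB_zero T ((skipEmb 3).trans (Function.Embedding.refl _))).upd 1 3 3 (le_of_eq hx14)).upd 2 3 1 (le_of_eq hx24)).upd 3 1 1 (le_of_eq hx41)).upd 3 2 2 (le_of_eq hx42)) ![0,2,1,2] (by decide) (by decide) 1 (by decide))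
    · -- 24=(2,1)
      exact False.elim (cert_false T ((skipEmb 3).trans (Function.Embedding.refl _)) (by norm_num) (fun _ => hall _) (((((LB_zero T ((skipEmb 3).trans (Function.Embedding.refl _))).upd 1 3 3 (le_of_eq hx14)).upd 2 3 2 (le_of_eq hx24)).upd 3 1 1 (le_of_eq hx41)).upd 3 2 1 (le_of_eq hx42)) ![0,1,1,1] (by decide) (by decide) 1 (by decide))
    · -- 24=(1,3)
      exact False.elim (cert_false T ((skipEmb 3).trans (Function.Embedding.refl _)) (by norm_num) (fun _ => hall _) (((((LB_zero T ((skipEmb 3).trans (Function.Embedding.refl _))).upd 1 3 3 (le_of_eq hx14)).upd 2 3 1 (le_of_eq hx24)).upd 3 1 1 (le_of_eq hx41)).upd 3 2 3 (le_of_eq hx42)) ![0,1,1,2] (by decide) (by decide) 1 (by decide))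
    · -- 24=(3,1)
      exact False.elim (cert_false T ((skipEmb 3).trans (Function.Embedding.refl _)) (by norm_num) (fun _ => hall _) (((((LB_zero T ((skipEmb 3).trans (Function.Embedding.refl _))).upd 1 3 3 (le_of_eq hx14)).upd 2 3 3 (le_of_eq hx24)).upd 3 1 1 (le_of_eq hx41)).upd 3 2 1 (le_of_eq hx42)) ![0,1,1,1] (by decide) (by decide) 1 (by decide))

theorem case51 (T : NumericalType 5) (hall : ∀ i, T.IsMinusTwo i) (d : SData T)
    (h01 : N T (Function.Embedding.refl _) 0 1 = 0) (h10 : N T (Function.Embedding.refl _) 1 0 = 0)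
    (h02 : N T (Function.Embedding.refl _) 0 2 = 0) (h20 : N T (Function.Embedding.refl _) 2 0 = 0)
    (h12 : N T (Function.Embedding.refl _) 1 2 = 0) (h21 : N T (Function.Embedding.refl _) 2 1 = 0)
    (h03 : N T (Function.Embedding.refl _) 0 3 = 1) (h30 : N T (Function.Embedding.refl _) 3 0 = 1)
    (h13 : N T (Function.Embedding.refl _) 1 3 = 0) (h31 : N T (Function.Embedding.refl _) 3 1 = 0)
    (h23 : N T (Function.Embedding.refl _) 2 3 = 2) (h32 : N T (Function.Embedding.refl _) 3 2 = 1) :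
    Goal T := by
  unfold Goal
  have hd := d
  obtain ⟨x01, x02, x03, x04, x10, x12, x13, x14, x20, x21, x23, x24, x30, x31, x32, x34, x40, x41, x42, x43, hx01, hx02, hx03, hx04, hx10, hx12, hx13, hx14, hx20, hx21, hx23, hx24, hx30, hx31, hx32, hx34, hx40, hx41, hx42, hx43, hw0, hm0, hw1, hm1, hw2, hm2, hw3, hm3, hw4, hm4, a00, a01, a02, a03, a04, a11, a10, a12, a13, a14, a22, a20, a21, a23, a24, a33, a30, a31, a32, a34, a44, a40, a41, a42, a43, wN01, wN02, wN12, wN03, wN13, wN23, wN04, wN14, wN24, wN34, e0, e1, e2, e3, e4, d01, d02, d12, d03, d13, d23, d04, d14, d24, d34⟩ := d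
  obtain rfl : x01 = 0 := hx01.trans h01
  obtain rfl : x10 = 0 := hx10.trans h10
  obtain rfl : x02 = 0 := hx02.trans h02
  obtain rfl : x20 = 0 := hx20.trans h20
  obtain rfl : x12 = 0 := hx12.trans h12
  obtain rfl : x21 = 0 := hx21.trans h21
  obtain rfl : x03 = 1 := hx03.trans h03
  obtain rfl : x30 = 1 := hx30.trans h30
  obtain rfl : x13 = 0 := hx13.trans h13
  obtain rfl : x31 = 0 := hx31.trans h31
  obtain rfl : x23 = 2 := hx23.trans h23
  obtain rfl : x32 = 1 := hx32.trans h32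
  rcases d04 with ⟨rfl, rfl⟩ | ⟨rfl, rfl⟩ | ⟨rfl, rfl⟩ | ⟨rfl, rfl⟩ | ⟨rfl, rfl⟩ | ⟨rfl, rfl⟩
  · -- 04=(0,0)
    exact case52 T hall hd hx01.symm hx10.symm hx02.symm hx20.symm hx12.symm hx21.symm hx03.symm hx30.symm hx13.symm hx31.symm hx23.symm hx32.symm hx04.symm hx40.symm
  · -- 04=(1,1)
    rcases d14 with ⟨rfl, rfl⟩ | ⟨rfl, rfl⟩ | ⟨rfl, rfl⟩ | ⟨rfl, rfl⟩ | ⟨rfl, rfl⟩ | ⟨rfl, rfl⟩
    · -- 14=(0,0)
      rcases d24 with ⟨rfl, rfl⟩ | ⟨rfl, rfl⟩ | ⟨rfl, rfl⟩ | ⟨rfl, rfl⟩ | ⟨rfl, rfl⟩ | ⟨rfl, rfl⟩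
      · -- 24=(0,0)
        rcases d34 with ⟨rfl, rfl⟩ | ⟨rfl, rfl⟩ | ⟨rfl, rfl⟩ | ⟨rfl, rfl⟩ | ⟨rfl, rfl⟩ | ⟨rfl, rfl⟩
        · -- 34=(0,0)
          exfalso; omega
        · -- 34=(1,1)
          exact False.elim (cert_false T ((skipEmb 2).trans (Function.Embedding.refl _)) (by norm_num) (fun _ => hall _) (((((((LB_zero T ((skipEmb 2).trans (Function.Embedding.refl _))).upd 0 2 1 (le_of_eq hx03)).upd 0 3 1 (le_of_eq hx04)).upd 2 0 1 (le_of_eq hx30)).upd 2 3 1 (le_of_eq hx34)).upd 3 0 1 (le_of_eq hx40)).upd 3 2 1 (le_of_eq hx43)) ![1,0,1,1] (by decide) (by decide) 0 (by decide))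
        · -- 34=(1,2)
          exact False.elim (cert_false T ((skipEmb 2).trans (Function.Embedding.refl _)) (by norm_num) (fun _ => hall _) (((((((LB_zero T ((skipEmb 2).trans (Function.Embedding.refl _))).upd 0 2 1 (le_of_eq hx03)).upd 0 3 1 (le_of_eq hx04)).upd 2 0 1 (le_of_eq hx30)).upd 2 3 1 (le_of_eq hx34)).upd 3 0 1 (le_of_eq hx40)).upd 3 2 2 (le_of_eq hx43)) ![1,0,1,1] (by decide) (by decide) 0 (by decide))
        · -- 34=(2,1)
          exact False.elim (cert_false T ((skipEmb 2).trans (Function.Embedding.refl _)) (by norm_num) (fun _ => hall _) (((((((LB_zero T ((skipEmb 2).trans (Function.Embedding.refl _))).upd 0 2 1 (le_of_eq hx03)).upd 0 3 1 (le_of_eq hx04)).upd 2 0 1 (le_of_eq hx30)).upd 2 3 2 (le_of_eq hx34)).upd 3 0 1 (le_of_eq hx40)).upd 3 2 1 (le_of_eq hx43)) ![1,0,1,1] (by decide) (by decide) 0 (by decide))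
        · -- 34=(1,3)
          exact False.elim (cert_false T ((skipEmb 2).trans (Function.Embedding.refl _)) (by norm_num) (fun _ => hall _) (((((((LB_zero T ((skipEmb 2).trans (Function.Embedding.refl _))).upd 0 2 1 (le_of_eq hx03)).upd 0 3 1 (le_of_eq hx04)).upd 2 0 1 (le_of_eq hx30)).upd 2 3 1 (le_of_eq hx34)).upd 3 0 1 (le_of_eq hx40)).upd 3 2 3 (le_of_eq hx43)) ![1,0,1,1] (by decide) (by decide) 0 (by decide))
        · -- 34=(3,1)
          exact False.elim (cert_false T ((skipEmb 2).trans (Function.Embedding.refl _)) (by norm_num) (fun _ => hall _) (((((((LB_zero T ((skipEmb 2).trans (Function.Embedding.refl _))).upd 0 2 1 (le_of_eq hx03)).upd 0 3 1 (le_of_eq hx04)).upd 2 0 1 (le_of_eq hx30)).upd 2 3 3 (le_of_eq hx34)).upd 3 0 1 (le_of_eq hx40)).upd 3 2 1 (le_of_eq hx43)) ![1,0,1,1] (by decide) (by decide) 0 (by decide))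
      · -- 24=(1,1)
        exact False.elim (cert_false T ((skipEmb 1).trans (Function.Embedding.refl _)) (by norm_num) (fun _ => hall _) (((((((((LB_zero T ((skipEmb 1).trans (Function.Embedding.refl _))).upd 0 2 1 (le_of_eq hx03)).upd 0 3 1 (le_of_eq hx04)).upd 1 2 2 (le_of_eq hx23)).upd 1 3 1 (le_of_eq hx24)).upd 2 0 1 (le_of_eq hx30)).upd 2 1 1 (le_of_eq hx32)).upd 3 0 1 (le_of_eq hx40)).upd 3 1 1 (le_of_eq hx42)) ![1,1,1,1] (by decide) (by decide) 0 (by decide))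
      · -- 24=(1,2)
        exact False.elim (cert_false T ((skipEmb 1).trans (Function.Embedding.refl _)) (by norm_num) (fun _ => hall _) (((((((((LB_zero T ((skipEmb 1).trans (Function.Embedding.refl _))).upd 0 2 1 (le_of_eq hx03)).upd 0 3 1 (le_of_eq hx04)).upd 1 2 2 (le_of_eq hx23)).upd 1 3 1 (le_of_eq hx24)).upd 2 0 1 (le_of_eq hx30)).upd 2 1 1 (le_of_eq hx32)).upd 3 0 1 (le_of_eq hx40)).upd 3 1 2 (le_of_eq hx42)) ![1,1,1,1] (by decide) (by decide) 0 (by decide))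
      · -- 24=(2,1)
        exact False.elim (cert_false T ((skipEmb 1).trans (Function.Embedding.refl _)) (by norm_num) (fun _ => hall _) (((((((((LB_zero T ((skipEmb 1).trans (Function.Embedding.refl _))).upd 0 2 1 (le_of_eq hx03)).upd 0 3 1 (le_of_eq hx04)).upd 1 2 2 (le_of_eq hx23)).upd 1 3 2 (le_of_eq hx24)).upd 2 0 1 (le_of_eq hx30)).upd 2 1 1 (le_of_eq hx32)).upd 3 0 1 (le_of_eq hx40)).upd 3 1 1 (le_of_eq hx42)) ![1,1,1,1] (by decide) (by decide) 0 (by decide))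
      · -- 24=(1,3)
        exact False.elim (cert_false T ((skipEmb 3).trans (Function.Embedding.refl _)) (by norm_num) (fun _ => hall _) (((((LB_zero T ((skipEmb 3).trans (Function.Embedding.refl _))).upd 0 3 1 (le_of_eq hx04)).upd 2 3 1 (le_of_eq hx24)).upd 3 0 1 (le_of_eq hx40)).upd 3 2 3 (le_of_eq hx42)) ![1,0,1,2] (by decide) (by decide) 0 (by decide))
      · -- 24=(3,1)
        exact False.elim (cert_false T ((skipEmb 3).trans (Function.Embedding.refl _)) (by norm_num) (fun _ => hall _) (((((LB_zero T ((skipEmb 3).trans (Function.Embedding.refl _))).upd 0 3 1 (le_of_eq hx04)).upd 2 3 3 (le_of_eq hx24)).upd 3 0 1 (le_of_eq hx40)).upd 3 2 1 (le_of_eq hx42)) ![1,0,3,2] (by decide) (by decide) 0 (by decide))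
    · -- 14=(1,1)
      rcases d24 with ⟨rfl, rfl⟩ | ⟨rfl, rfl⟩ | ⟨rfl, rfl⟩ | ⟨rfl, rfl⟩ | ⟨rfl, rfl⟩ | ⟨rfl, rfl⟩
      · -- 24=(0,0)
        rcases d34 with ⟨rfl, rfl⟩ | ⟨rfl, rfl⟩ | ⟨rfl, rfl⟩ | ⟨rfl, rfl⟩ | ⟨rfl, rfl⟩ | ⟨rfl, rfl⟩
        · -- 34=(0,0)
          exfalso; omega
        · -- 34=(1,1)
          exact False.elim (cert_false T ((skipEmb 2).trans (Function.Embedding.refl _)) (by norm_num) (fun _ => hall _) (((((((LB_zero T ((skipEmb 2).trans (Function.Embedding.refl _))).upd 0 2 1 (le_of_eq hx03)).upd 0 3 1 (le_of_eq hx04)).upd 2 0 1 (le_of_eq hx30)).upd 2 3 1 (le_of_eq hx34)).upd 3 0 1 (le_of_eq hx40)).upd 3 2 1 (le_of_eq hx43)) ![1,0,1,1] (by decide) (by decide) 0 (by decide))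
        · -- 34=(1,2)
          exact False.elim (cert_false T ((skipEmb 2).trans (Function.Embedding.refl _)) (by norm_num) (fun _ => hall _) (((((((LB_zero T ((skipEmb 2).trans (Function.Embedding.refl _))).upd 0 2 1 (le_of_eq hx03)).upd 0 3 1 (le_of_eq hx04)).upd 2 0 1 (le_of_eq hx30)).upd 2 3 1 (le_of_eq hx34)).upd 3 0 1 (le_of_eq hx40)).upd 3 2 2 (le_of_eq hx43)) ![1,0,1,1] (by decide) (by decide) 0 (by decide))
        · -- 34=(2,1)
          exact False.elim (cert_false T ((skipEmb 2).trans (Function.Embedding.refl _)) (by norm_num) (fun _ => hall _) (((((((LB_zero T ((skipEmb 2).trans (Function.Embedding.refl _))).upd 0 2 1 (le_of_eq hx03)).upd 0 3 1 (le_of_eq hx04)).upd 2 0 1 (le_of_eq hx30)).upd 2 3 2 (le_of_eq hx34)).upd 3 0 1 (le_of_eq hx40)).upd 3 2 1 (le_of_eq hx43)) ![1,0,1,1] (by decide) (by decide) 0 (by decide))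
        · -- 34=(1,3)
          exact False.elim (cert_false T ((skipEmb 2).trans (Function.Embedding.refl _)) (by norm_num) (fun _ => hall _) (((((((LB_zero T ((skipEmb 2).trans (Function.Embedding.refl _))).upd 0 2 1 (le_of_eq hx03)).upd 0 3 1 (le_of_eq hx04)).upd 2 0 1 (le_of_eq hx30)).upd 2 3 1 (le_of_eq hx34)).upd 3 0 1 (le_of_eq hx40)).upd 3 2 3 (le_of_eq hx43)) ![1,0,1,1] (by decide) (by decide) 0 (by decide))
        · -- 34=(3,1)
          exact False.elim (cert_false T ((skipEmb 2).trans (Function.Embedding.refl _)) (by norm_num) (fun _ => hall _) (((((((LB_zero T ((skipEmb 2).trans (Function.Embedding.refl _))).upd 0 2 1 (le_of_eq hx03)).upd 0 3 1 (le_of_eq hx04)).upd 2 0 1 (le_of_eq hx30)).upd 2 3 3 (le_of_eq hx34)).upd 3 0 1 (le_of_eq hx40)).upd 3 2 1 (le_of_eq hx43)) ![1,0,1,1] (by decide) (by decide) 0 (by decide))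
      · -- 24=(1,1)
        exact False.elim (cert_false T ((skipEmb 1).trans (Function.Embedding.refl _)) (by norm_num) (fun _ => hall _) (((((((((LB_zero T ((skipEmb 1).trans (Function.Embedding.refl _))).upd 0 2 1 (le_of_eq hx03)).upd 0 3 1 (le_of_eq hx04)).upd 1 2 2 (le_of_eq hx23)).upd 1 3 1 (le_of_eq hx24)).upd 2 0 1 (le_of_eq hx30)).upd 2 1 1 (le_of_eq hx32)).upd 3 0 1 (le_of_eq hx40)).upd 3 1 1 (le_of_eq hx42)) ![1,1,1,1] (by decide) (by decide) 0 (by decide))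
      · -- 24=(1,2)
        exact False.elim (cert_false T ((skipEmb 3).trans (Function.Embedding.refl _)) (by norm_num) (fun _ => hall _) (((((((LB_zero T ((skipEmb 3).trans (Function.Embedding.refl _))).upd 0 3 1 (le_of_eq hx04)).upd 1 3 1 (le_of_eq hx14)).upd 2 3 1 (le_of_eq hx24)).upd 3 0 1 (le_of_eq hx40)).upd 3 1 1 (le_of_eq hx41)).upd 3 2 2 (le_of_eq hx42)) ![1,1,1,2] (by decide) (by decide) 0 (by decide))
      · -- 24=(2,1)
        exact False.elim (cert_false T ((skipEmb 3).trans (Function.Embedding.refl _)) (by norm_num) (fun _ => hall _) (((((((LB_zero T ((skipEmb 3).trans (Function.Embedding.refl _))).upd 0 3 1 (le_of_eq hx04)).upd 1 3 1 (le_of_eq hx14)).upd 2 3 2 (le_of_eq hx24)).upd 3 0 1 (le_of_eq hx40)).upd 3 1 1 (le_of_eq hx41)).upd 3 2 1 (le_of_eq hx42)) ![1,1,2,2] (by decide) (by decide) 0 (by decide))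
      · -- 24=(1,3)
        exact False.elim (cert_false T ((skipEmb 3).trans (Function.Embedding.refl _)) (by norm_num) (fun _ => hall _) (((((LB_zero T ((skipEmb 3).trans (Function.Embedding.refl _))).upd 1 3 1 (le_of_eq hx14)).upd 2 3 1 (le_of_eq hx24)).upd 3 1 1 (le_of_eq hx41)).upd 3 2 3 (le_of_eq hx42)) ![0,1,1,2] (by decide) (by decide) 1 (by decide))
      · -- 24=(3,1)
        exact False.elim (cert_false T ((skipEmb 3).trans (Function.Embedding.refl _)) (by norm_num) (fun _ => hall _) (((((((LB_zero T ((skipEmb 3).trans (Function.Embedding.refl _))).upd 0 3 1 (le_of_eq hx04)).upd 1 3 1 (le_of_eq hx14)).upd 2 3 3 (le_of_eq hx24)).upd 3 0 1 (le_of_eq hx40)).upd 3 1 1 (le_of_eq hx41)).upd 3 2 1 (le_of_eq hx42)) ![1,1,2,2] (by decide) (by decide) 0 (by decide))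
    · -- 14=(1,2)
      rcases d24 with ⟨rfl, rfl⟩ | ⟨rfl, rfl⟩ | ⟨rfl, rfl⟩ | ⟨rfl, rfl⟩ | ⟨rfl, rfl⟩ | ⟨rfl, rfl⟩
      · -- 24=(0,0)
        rcases d34 with ⟨rfl, rfl⟩ | ⟨rfl, rfl⟩ | ⟨rfl, rfl⟩ | ⟨rfl, rfl⟩ | ⟨rfl, rfl⟩ | ⟨rfl, rfl⟩
        · -- 34=(0,0)
          refine ⟨(⟨![2, 3, 0, 4, 1], ![2, 4, 0, 1, 3], by decide, by decide⟩ : Equiv.Perm (Fin 5)), T.m 1, T.w 2, Or.inr (Or.inr (Or.inr (Or.inl ?_)))⟩
          show T.m 2 = 2 * T.m 1 ∧ T.m 3 = 2 * T.m 1 ∧ T.m 0 = 2 * T.m 1 ∧ T.m 4 = 2 * T.m 1 ∧ T.m 1 = T.m 1 ∧ T.w 2 = T.w 2 ∧ T.w 3 = 2 * T.w 2 ∧ T.w 0 = 2 * T.w 2 ∧ T.w 4 = 2 * T.w 2 ∧ T.w 1 = 4 * T.w 2 ∧ T.a 2 2 = -2 * T.w 2 ∧ T.a 2 3 = 2 * T.w 2 ∧ T.a 2 0 = 0 ∧ T.a 2 4 = 0 ∧ T.a 2 1 = 0 ∧ T.a 3 3 = -4 * T.w 2 ∧ T.a 3 0 = 2 * T.w 2 ∧ T.a 3 4 = 0 ∧ T.a 3 1 = 0 ∧ T.a 0 0 = -4 * T.w 2 ∧ T.a 0 4 = 2 * T.w 2 ∧ T.a 0 1 = 0 ∧ T.a 4 4 = -4 * T.w 2 ∧ T.a 4 1 = 4 * T.w 2 ∧ T.a 1 1 = -8 * T.w 2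
          refine ⟨?_, ?_, ?_, ?_, ?_, ?_, ?_, ?_, ?_, ?_, ?_, ?_, ?_, ?_, ?_, ?_, ?_, ?_, ?_, ?_, ?_, ?_, ?_, ?_, ?_⟩ <;> omega
        · -- 34=(1,1)
          exact False.elim (cert_false T ((skipEmb 2).trans (Function.Embedding.refl _)) (by norm_num) (fun _ => hall _) (((((((LB_zero T ((skipEmb 2).trans (Function.Embedding.refl _))).upd 0 2 1 (le_of_eq hx03)).upd 0 3 1 (le_of_eq hx04)).upd 2 0 1 (le_of_eq hx30)).upd 2 3 1 (le_of_eq hx34)).upd 3 0 1 (le_of_eq hx40)).upd 3 2 1 (le_of_eq hx43)) ![1,0,1,1] (by decide) (by decide) 0 (by decide))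
        · -- 34=(1,2)
          exact False.elim (cert_false T ((skipEmb 2).trans (Function.Embedding.refl _)) (by norm_num) (fun _ => hall _) (((((((LB_zero T ((skipEmb 2).trans (Function.Embedding.refl _))).upd 0 2 1 (le_of_eq hx03)).upd 0 3 1 (le_of_eq hx04)).upd 2 0 1 (le_of_eq hx30)).upd 2 3 1 (le_of_eq hx34)).upd 3 0 1 (le_of_eq hx40)).upd 3 2 2 (le_of_eq hx43)) ![1,0,1,1] (by decide) (by decide) 0 (by decide))
        · -- 34=(2,1)
          exact False.elim (cert_false T ((skipEmb 2).trans (Function.Embedding.refl _)) (by norm_num) (fun _ => hall _) (((((((LB_zero T ((skipEmb 2).trans (Function.Embedding.refl _))).upd 0 2 1 (le_of_eq hx03)).upd 0 3 1 (le_of_eq hx04)).upd 2 0 1 (le_of_eq hx30)).upd 2 3 2 (le_of_eq hx34)).upd 3 0 1 (le_of_eq hx40)).upd 3 2 1 (le_of_eq hx43)) ![1,0,1,1] (by decide) (by decide) 0 (by decide))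
        · -- 34=(1,3)
          exact False.elim (cert_false T ((skipEmb 2).trans (Function.Embedding.refl _)) (by norm_num) (fun _ => hall _) (((((((LB_zero T ((skipEmb 2).trans (Function.Embedding.refl _))).upd 0 2 1 (le_of_eq hx03)).upd 0 3 1 (le_of_eq hx04)).upd 2 0 1 (le_of_eq hx30)).upd 2 3 1 (le_of_eq hx34)).upd 3 0 1 (le_of_eq hx40)).upd 3 2 3 (le_of_eq hx43)) ![1,0,1,1] (by decide) (by decide) 0 (by decide))
        · -- 34=(3,1)
          exact False.elim (cert_false T ((skipEmb 2).trans (Function.Embedding.refl _)) (by norm_num) (fun _ => hall _) (((((((LB_zero T ((skipEmb 2).trans (Function.Embedding.refl _))).upd 0 2 1 (le_of_eq hx03)).upd 0 3 1 (le_of_eq hx04)).upd 2 0 1 (le_of_eq hx30)).upd 2 3 3 (le_of_eq hx34)).upd 3 0 1 (le_of_eq hx40)).upd 3 2 1 (le_of_eq hx43)) ![1,0,1,1] (by decide) (by decide) 0 (by decide))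
      · -- 24=(1,1)
        exact False.elim (cert_false T ((skipEmb 3).trans (Function.Embedding.refl _)) (by norm_num) (fun _ => hall _) (((((((LB_zero T ((skipEmb 3).trans (Function.Embedding.refl _))).upd 0 3 1 (le_of_eq hx04)).upd 1 3 1 (le_of_eq hx14)).upd 2 3 1 (le_of_eq hx24)).upd 3 0 1 (le_of_eq hx40)).upd 3 1 2 (le_of_eq hx41)).upd 3 2 1 (le_of_eq hx42)) ![1,1,1,2] (by decide) (by decide) 0 (by decide))
      · -- 24=(1,2)
        exact False.elim (cert_false T ((skipEmb 3).trans (Function.Embedding.refl _)) (by norm_num) (fun _ => hall _) (((((LB_zero T ((skipEmb 3).trans (Function.Embedding.refl _))).upd 1 3 1 (le_of_eq hx14)).upd 2 3 1 (le_of_eq hx24)).upd 3 1 2 (le_of_eq hx41)).upd 3 2 2 (le_of_eq hx42)) ![0,1,1,2] (by decide) (by decide) 1 (by decide))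
      · -- 24=(2,1)
        exact False.elim (cert_false T ((skipEmb 3).trans (Function.Embedding.refl _)) (by norm_num) (fun _ => hall _) (((((LB_zero T ((skipEmb 3).trans (Function.Embedding.refl _))).upd 1 3 1 (le_of_eq hx14)).upd 2 3 2 (le_of_eq hx24)).upd 3 1 2 (le_of_eq hx41)).upd 3 2 1 (le_of_eq hx42)) ![0,1,2,2] (by decide) (by decide) 1 (by decide))
      · -- 24=(1,3)
        exact False.elim (cert_false T ((skipEmb 3).trans (Function.Embedding.refl _)) (by norm_num) (fun _ => hall _) (((((LB_zero T ((skipEmb 3).trans (Function.Embedding.refl _))).upd 1 3 1 (le_of_eq hx14)).upd 2 3 1 (le_of_eq hx24)).upd 3 1 2 (le_of_eq hx41)).upd 3 2 3 (le_of_eq hx42)) ![0,1,1,2] (by decide) (by decide) 1 (by decide))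
      · -- 24=(3,1)
        exact False.elim (cert_false T ((skipEmb 3).trans (Function.Embedding.refl _)) (by norm_num) (fun _ => hall _) (((((LB_zero T ((skipEmb 3).trans (Function.Embedding.refl _))).upd 1 3 1 (le_of_eq hx14)).upd 2 3 3 (le_of_eq hx24)).upd 3 1 2 (le_of_eq hx41)).upd 3 2 1 (le_of_eq hx42)) ![0,1,2,2] (by decide) (by decide) 1 (by decide))
    · -- 14=(2,1)
      rcases d24 with ⟨rfl, rfl⟩ | ⟨rfl, rfl⟩ | ⟨rfl, rfl⟩ | ⟨rfl, rfl⟩ | ⟨rfl, rfl⟩ | ⟨rfl, rfl⟩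
      · -- 24=(0,0)
        rcases d34 with ⟨rfl, rfl⟩ | ⟨rfl, rfl⟩ | ⟨rfl, rfl⟩ | ⟨rfl, rfl⟩ | ⟨rfl, rfl⟩ | ⟨rfl, rfl⟩
        · -- 34=(0,0)
          refine ⟨(⟨![1, 4, 0, 3, 2], ![2, 0, 4, 3, 1], by decide, by decide⟩ : Equiv.Perm (Fin 5)), T.m 1, T.w 1, Or.inr (Or.inr (Or.inr (Or.inr (Or.inl ?_))))⟩
          show T.m 1 = T.m 1 ∧ T.m 4 = T.m 1 ∧ T.m 0 = T.m 1 ∧ T.m 3 = T.m 1 ∧ T.m 2 = T.m 1 ∧ T.w 1 = T.w 1 ∧ T.w 4 = 2 * T.w 1 ∧ T.w 0 = 2 * T.w 1 ∧ T.w 3 = 2 * T.w 1 ∧ T.w 2 = T.w 1 ∧ T.a 1 1 = -2 * T.w 1 ∧ T.a 1 4 = 2 * T.w 1 ∧ T.a 1 0 = 0 ∧ T.a 1 3 = 0 ∧ T.a 1 2 = 0 ∧ T.a 4 4 = -4 * T.w 1 ∧ T.a 4 0 = 2 * T.w 1 ∧ T.a 4 3 = 0 ∧ T.a 4 2 = 0 ∧ T.a 0 0 = -4 * T.w 1 ∧ T.a 0 3 = 2 * T.w 1 ∧ T.a 0 2 = 0 ∧ T.a 3 3 = -4 * T.w 1 ∧ T.a 3 2 = 2 * T.w 1 ∧ T.a 2 2 = -2 * T.w 1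
          refine ⟨?_, ?_, ?_, ?_, ?_, ?_, ?_, ?_, ?_, ?_, ?_, ?_, ?_, ?_, ?_, ?_, ?_, ?_, ?_, ?_, ?_, ?_, ?_, ?_, ?_⟩ <;> omega
        · -- 34=(1,1)
          exact False.elim (cert_false T ((skipEmb 2).trans (Function.Embedding.refl _)) (by norm_num) (fun _ => hall _) (((((((LB_zero T ((skipEmb 2).trans (Function.Embedding.refl _))).upd 0 2 1 (le_of_eq hx03)).upd 0 3 1 (le_of_eq hx04)).upd 2 0 1 (le_of_eq hx30)).upd 2 3 1 (le_of_eq hx34)).upd 3 0 1 (le_of_eq hx40)).upd 3 2 1 (le_of_eq hx43)) ![1,0,1,1] (by decide) (by decide) 0 (by decide))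
        · -- 34=(1,2)
          exact False.elim (cert_false T ((skipEmb 2).trans (Function.Embedding.refl _)) (by norm_num) (fun _ => hall _) (((((((LB_zero T ((skipEmb 2).trans (Function.Embedding.refl _))).upd 0 2 1 (le_of_eq hx03)).upd 0 3 1 (le_of_eq hx04)).upd 2 0 1 (le_of_eq hx30)).upd 2 3 1 (le_of_eq hx34)).upd 3 0 1 (le_of_eq hx40)).upd 3 2 2 (le_of_eq hx43)) ![1,0,1,1] (by decide) (by decide) 0 (by decide))
        · -- 34=(2,1)
          exact False.elim (cert_false T ((skipEmb 2).trans (Function.Embedding.refl _)) (by norm_num) (fun _ => hall _) (((((LB_zero T ((skipEmb 2).trans (Function.Embedding.refl _))).upd 1 3 2 (le_of_eq hx14)).upd 2 3 2 (le_of_eq hx34)).upd 3 1 1 (le_of_eq hx41)).upd 3 2 1 (le_of_eq hx43)) ![0,1,1,1] (by decide) (by decide) 1 (by decide))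
        · -- 34=(1,3)
          exact False.elim (cert_false T ((skipEmb 2).trans (Function.Embedding.refl _)) (by norm_num) (fun _ => hall _) (((((((LB_zero T ((skipEmb 2).trans (Function.Embedding.refl _))).upd 0 2 1 (le_of_eq hx03)).upd 0 3 1 (le_of_eq hx04)).upd 2 0 1 (le_of_eq hx30)).upd 2 3 1 (le_of_eq hx34)).upd 3 0 1 (le_of_eq hx40)).upd 3 2 3 (le_of_eq hx43)) ![1,0,1,1] (by decide) (by decide) 0 (by decide))
        · -- 34=(3,1)
          exact False.elim (cert_false T ((skipEmb 2).trans (Function.Embedding.refl _)) (by norm_num) (fun _ => hall _) (((((LB_zero T ((skipEmb 2).trans (Function.Embedding.refl _))).upd 1 3 2 (le_of_eq hx14)).upd 2 3 3 (le_of_eq hx34)).upd 3 1 1 (le_of_eq hx41)).upd 3 2 1 (le_of_eq hx43)) ![0,1,1,1] (by decide) (by decide) 1 (by decide))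
      · -- 24=(1,1)
        exact False.elim (cert_false T ((skipEmb 3).trans (Function.Embedding.refl _)) (by norm_num) (fun _ => hall _) (((((((LB_zero T ((skipEmb 3).trans (Function.Embedding.refl _))).upd 0 3 1 (le_of_eq hx04)).upd 1 3 2 (le_of_eq hx14)).upd 2 3 1 (le_of_eq hx24)).upd 3 0 1 (le_of_eq hx40)).upd 3 1 1 (le_of_eq hx41)).upd 3 2 1 (le_of_eq hx42)) ![1,2,1,2] (by decide) (by decide) 0 (by decide))
      · -- 24=(1,2)
        exact False.elim (cert_false T ((skipEmb 3).trans (Function.Embedding.refl _)) (by norm_num) (fun _ => hall _) (((((LB_zero T ((skipEmb 3).trans (Function.Embedding.refl _))).upd 1 3 2 (le_of_eq hx14)).upd 2 3 1 (le_of_eq hx24)).upd 3 1 1 (le_of_eq hx41)).upd 3 2 2 (le_of_eq hx42)) ![0,2,1,2] (by decide) (by decide) 1 (by decide))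
      · -- 24=(2,1)
        exact False.elim (cert_false T ((skipEmb 3).trans (Function.Embedding.refl _)) (by norm_num) (fun _ => hall _) (((((LB_zero T ((skipEmb 3).trans (Function.Embedding.refl _))).upd 1 3 2 (le_of_eq hx14)).upd 2 3 2 (le_of_eq hx24)).upd 3 1 1 (le_of_eq hx41)).upd 3 2 1 (le_of_eq hx42)) ![0,1,1,1] (by decide) (by decide) 1 (by decide))
      · -- 24=(1,3)
        exact False.elim (cert_false T ((skipEmb 3).trans (Function.Embedding.refl _)) (by norm_num) (fun _ => hall _) (((((LB_zero T ((skipEmb 3).trans (Function.Embedding.refl _))).upd 1 3 2 (le_of_eq hx14)).upd 2 3 1 (le_of_eq hx24)).upd 3 1 1 (le_of_eq hx41)).upd 3 2 3 (le_of_eq hx42)) ![0,1,1,2] (by decide) (by decide) 1 (by decide))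
      · -- 24=(3,1)
        exact False.elim (cert_false T ((skipEmb 3).trans (Function.Embedding.refl _)) (by norm_num) (fun _ => hall _) (((((LB_zero T ((skipEmb 3).trans (Function.Embedding.refl _))).upd 1 3 2 (le_of_eq hx14)).upd 2 3 3 (le_of_eq hx24)).upd 3 1 1 (le_of_eq hx41)).upd 3 2 1 (le_of_eq hx42)) ![0,1,1,1] (by decide) (by decide) 1 (by decide))
    · -- 14=(1,3)
      exact False.elim (cert_false T ((skipEmb 3).trans (Function.Embedding.refl _)) (by norm_num) (fun _ => hall _) (((((LB_zero T ((skipEmb 3).trans (Function.Embedding.refl _))).upd 0 3 1 (le_of_eq hx04)).upd 1 3 1 (le_of_eq hx14)).upd 3 0 1 (le_of_eq hx40)).upd 3 1 3 (le_of_eq hx41)) ![1,1,0,2] (by decide) (by decide) 0 (by decide))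
    · -- 14=(3,1)
      exact False.elim (cert_false T ((skipEmb 3).trans (Function.Embedding.refl _)) (by norm_num) (fun _ => hall _) (((((LB_zero T ((skipEmb 3).trans (Function.Embedding.refl _))).upd 0 3 1 (le_of_eq hx04)).upd 1 3 3 (le_of_eq hx14)).upd 3 0 1 (le_of_eq hx40)).upd 3 1 1 (le_of_eq hx41)) ![1,3,0,2] (by decide) (by decide) 0 (by decide))
  · -- 04=(1,2)
    exact False.elim (cert_false T ((skipEmb 1).trans (Function.Embedding.refl _)) (by norm_num) (fun _ => hall _) (((((((LB_zero T ((skipEmb 1).trans (Function.Embedding.refl _))).upd 0 2 1 (le_of_eq hx03)).upd 0 3 1 (le_of_eq hx04)).upd 1 2 2 (le_of_eq hx23)).upd 2 0 1 (le_of_eq hx30)).upd 2 1 1 (le_of_eq hx32)).upd 3 0 2 (le_of_eq hx40)) ![1,1,1,1] (by decide) (by decide) 0 (by decide))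
  · -- 04=(2,1)
    exact False.elim (cert_false T ((skipEmb 1).trans (Function.Embedding.refl _)) (by norm_num) (fun _ => hall _) (((((((LB_zero T ((skipEmb 1).trans (Function.Embedding.refl _))).upd 0 2 1 (le_of_eq hx03)).upd 0 3 2 (le_of_eq hx04)).upd 1 2 2 (le_of_eq hx23)).upd 2 0 1 (le_of_eq hx30)).upd 2 1 1 (le_of_eq hx32)).upd 3 0 1 (le_of_eq hx40)) ![2,2,2,1] (by decide) (by decide) 0 (by decide))
  · -- 04=(1,3)
    exact False.elim (cert_false T ((skipEmb 2).trans (Function.Embedding.refl _)) (by norm_num) (fun _ => hall _) (((((LB_zero T ((skipEmb 2).trans (Function.Embedding.refl _))).upd 0 2 1 (le_of_eq hx03)).upd 0 3 1 (le_of_eq hx04)).upd 2 0 1 (le_of_eq hx30)).upd 3 0 3 (le_of_eq hx40)) ![2,0,1,3] (by decide) (by decide) 0 (by decide))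
  · -- 04=(3,1)
    exact False.elim (cert_false T ((skipEmb 2).trans (Function.Embedding.refl _)) (by norm_num) (fun _ => hall _) (((((LB_zero T ((skipEmb 2).trans (Function.Embedding.refl _))).upd 0 2 1 (le_of_eq hx03)).upd 0 3 3 (le_of_eq hx04)).upd 2 0 1 (le_of_eq hx30)).upd 3 0 1 (le_of_eq hx40)) ![2,0,1,1] (by decide) (by decide) 0 (by decide))

theorem case43 (T : NumericalType 5) (hall : ∀ i, T.IsMinusTwo i) (d : SData T)
    (h01 : N T (Function.Embedding.refl _) 0 1 = 0) (h10 : N T (Function.Embedding.refl _) 1 0 = 0)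
    (h02 : N T (Function.Embedding.refl _) 0 2 = 0) (h20 : N T (Function.Embedding.refl _) 2 0 = 0)
    (h12 : N T (Function.Embedding.refl _) 1 2 = 0) (h21 : N T (Function.Embedding.refl _) 2 1 = 0)
    (h03 : N T (Function.Embedding.refl _) 0 3 = 1) (h30 : N T (Function.Embedding.refl _) 3 0 = 1)
    (h13 : N T (Function.Embedding.refl _) 1 3 = 0) (h31 : N T (Function.Embedding.refl _) 3 1 = 0) :
    Goal T := by
  unfold Goal
  have hd := d
  obtain ⟨x01, x02, x03, x04, x10, x12, x13, x14, x20, x21, x23, x24, x30, x31, x32, x34, x40, x41, x42, x43, hx01, hx02, hx03, hx04, hx10, hx12, hx13, hx14, hx20, hx21, hx23, hx24, hx30, hx31, hx32, hx34, hx40, hx41, hx42, hx43, hw0, hm0, hw1, hm1, hw2, hm2, hw3, hm3, hw4, hm4, a00, a01, a02, a03, a04, a11, a10, a12, a13, a14, a22, a20, a21, a23, a24, a33, a30, a31, a32, a34, a44, a40, a41, a42, a43, wN01, wN02, wN12, wN03, wN13, wN23, wN04, wN14, wN24, wN34, e0, e1, e2, e3,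 e4, d01, d02, d12, d03, d13, d23, d04, d14, d24, d34⟩ := d
  obtain rfl : x01 = 0 := hx01.trans h01
  obtain rfl : x10 = 0 := hx10.trans h10
  obtain rfl : x02 = 0 := hx02.trans h02
  obtain rfl : x20 = 0 := hx20.trans h20
  obtain rfl : x12 = 0 := hx12.trans h12
  obtain rfl : x21 = 0 := hx21.trans h21
  obtain rfl : x03 = 1 := hx03.trans h03
  obtain rfl : x30 = 1 := hx30.trans h30
  obtain rfl : x13 = 0 := hx13.trans h13
  obtain rfl : x31 = 0 := hx31.trans h31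
  rcases d23 with ⟨rfl, rfl⟩ | ⟨rfl, rfl⟩ | ⟨rfl, rfl⟩ | ⟨rfl, rfl⟩ | ⟨rfl, rfl⟩ | ⟨rfl, rfl⟩
  · -- 23=(0,0)
    exact case44 T hall hd hx01.symm hx10.symm hx02.symm hx20.symm hx12.symm hx21.symm hx03.symm hx30.symm hx13.symm hx31.symm hx23.symm hx32.symm
  · -- 23=(1,1)
    exact case47 T hall hd hx01.symm hx10.symm hx02.symm hx20.symm hx12.symm hx21.symm hx03.symm hx30.symm hx13.symm hx31.symm hx23.symm hx32.symm
  · -- 23=(1,2)
    exact case49 T hall hd hx01.symm hx10.symm hx02.symm hx20.symm hx12.symm hx21.symm hx03.symm hx30.symm hx13.symm hx31.symm hx23.symm hx32.symm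
  · -- 23=(2,1)
    exact case51 T hall hd hx01.symm hx10.symm hx02.symm hx20.symm hx12.symm hx21.symm hx03.symm hx30.symm hx13.symm hx31.symm hx23.symm hx32.symm
  · -- 23=(1,3)
    exact False.elim (cert_false T ((skipEmb 4).trans (Function.Embedding.refl _)) (by norm_num) (fun _ => hall _) (((((LB_zero T ((skipEmb 4).trans (Function.Embedding.refl _))).upd 0 3 1 (le_of_eq hx03)).upd 2 3 1 (le_of_eq hx23)).upd 3 0 1 (le_of_eq hx30)).upd 3 2 3 (le_of_eq hx32)) ![1,0,1,2] (by decide) (by decide) 0 (by decide))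
  · -- 23=(3,1)
    exact False.elim (cert_false T ((skipEmb 4).trans (Function.Embedding.refl _)) (by norm_num) (fun _ => hall _) (((((LB_zero T ((skipEmb 4).trans (Function.Embedding.refl _))).upd 0 3 1 (le_of_eq hx03)).upd 2 3 3 (le_of_eq hx23)).upd 3 0 1 (le_of_eq hx30)).upd 3 2 1 (le_of_eq hx32)) ![1,0,3,2] (by decide) (by decide) 0 (by decide))

theorem case55 (T : NumericalType 5) (hall : ∀ i, T.IsMinusTwo i) (d : SData T)
    (h01 : N T (Function.Embedding.refl _) 0 1 = 0) (h10 : N T (Function.Embedding.refl _) 1 0 = 0)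
    (h02 : N T (Function.Embedding.refl _) 0 2 = 0) (h20 : N T (Function.Embedding.refl _) 2 0 = 0)
    (h12 : N T (Function.Embedding.refl _) 1 2 = 0) (h21 : N T (Function.Embedding.refl _) 2 1 = 0)
    (h03 : N T (Function.Embedding.refl _) 0 3 = 1) (h30 : N T (Function.Embedding.refl _) 3 0 = 1)
    (h13 : N T (Function.Embedding.refl _) 1 3 = 1) (h31 : N T (Function.Embedding.refl _) 3 1 = 1)
    (h23 : N T (Function.Embedding.refl _) 2 3 = 0) (h32 : N T (Function.Embedding.refl _) 3 2 = 0)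
    (h04 : N T (Function.Embedding.refl _) 0 4 = 0) (h40 : N T (Function.Embedding.refl _) 4 0 = 0) :
    Goal T := by
  unfold Goal
  have hd := d
  obtain ⟨x01, x02, x03, x04, x10, x12, x13, x14, x20, x21, x23, x24, x30, x31, x32, x34, x40, x41, x42, x43, hx01, hx02, hx03, hx04, hx10, hx12, hx13, hx14, hx20, hx21, hx23, hx24, hx30, hx31, hx32, hx34, hx40, hx41, hx42, hx43, hw0, hm0, hw1, hm1, hw2, hm2, hw3, hm3, hw4, hm4, a00, a01, a02, a03, a04, a11, a10, a12, a13, a14, a22, a20, a21, a23, a24, a33, a30, a31, a32, a34, a44, a40, a41, a42, a43, wN01, wN02, wN12, wN03, wN13, wN23, wN04, wN14, wN24, wN34, e0, e1, e2, e3, e4, d01, d02, d12, d03, d13, d23, d04, d14, d24, d34⟩ := d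
  obtain rfl : x01 = 0 := hx01.trans h01
  obtain rfl : x10 = 0 := hx10.trans h10
  obtain rfl : x02 = 0 := hx02.trans h02
  obtain rfl : x20 = 0 := hx20.trans h20
  obtain rfl : x12 = 0 := hx12.trans h12
  obtain rfl : x21 = 0 := hx21.trans h21
  obtain rfl : x03 = 1 := hx03.trans h03
  obtain rfl : x30 = 1 := hx30.trans h30
  obtain rfl : x13 = 1 := hx13.trans h13
  obtain rfl : x31 = 1 := hx31.trans h31
  obtain rfl : x23 = 0 := hx23.trans h23
  obtain rfl : x32 = 0 := hx32.trans h32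
  obtain rfl : x04 = 0 := hx04.trans h04
  obtain rfl : x40 = 0 := hx40.trans h40
  rcases d14 with ⟨rfl, rfl⟩ | ⟨rfl, rfl⟩ | ⟨rfl, rfl⟩ | ⟨rfl, rfl⟩ | ⟨rfl, rfl⟩ | ⟨rfl, rfl⟩
  · -- 14=(0,0)
    rcases d24 with ⟨rfl, rfl⟩ | ⟨rfl, rfl⟩ | ⟨rfl, rfl⟩ | ⟨rfl, rfl⟩ | ⟨rfl, rfl⟩ | ⟨rfl, rfl⟩
    · -- 24=(0,0)
      rcases d34 with ⟨rfl, rfl⟩ | ⟨rfl, rfl⟩ | ⟨rfl, rfl⟩ | ⟨rfl, rfl⟩ | ⟨rfl, rfl⟩ | ⟨rfl, rfl⟩
      · -- 34=(0,0)
        exfalso; omega
      · -- 34=(1,1)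
        exfalso; omega
      · -- 34=(1,2)
        exact False.elim (cert_false T ((skipEmb 2).trans (Function.Embedding.refl _)) (by norm_num) (fun _ => hall _) (((((((LB_zero T ((skipEmb 2).trans (Function.Embedding.refl _))).upd 0 2 1 (le_of_eq hx03)).upd 1 2 1 (le_of_eq hx13)).upd 2 0 1 (le_of_eq hx30)).upd 2 1 1 (le_of_eq hx31)).upd 2 3 1 (le_of_eq hx34)).upd 3 2 2 (le_of_eq hx43)) ![1,1,2,2] (by decide) (by decide) 0 (by decide))
      · -- 34=(2,1)
        exact False.elim (cert_false T ((skipEmb 2).trans (Function.Embedding.refl _)) (by norm_num) (fun _ => hall _) (((((((LB_zero T ((skipEmb 2).trans (Function.Embedding.refl _))).upd 0 2 1 (le_of_eq hx03)).upd 1 2 1 (le_of_eq hx13)).upd 2 0 1 (le_of_eq hx30)).upd 2 1 1 (le_of_eq hx31)).upd 2 3 2 (le_of_eq hx34)).upd 3 2 1 (le_of_eq hx43)) ![1,1,2,1] (by decide) (by decide) 0 (by decide))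
      · -- 34=(1,3)
        exact False.elim (cert_false T ((skipEmb 2).trans (Function.Embedding.refl _)) (by norm_num) (fun _ => hall _) (((((((LB_zero T ((skipEmb 2).trans (Function.Embedding.refl _))).upd 0 2 1 (le_of_eq hx03)).upd 1 2 1 (le_of_eq hx13)).upd 2 0 1 (le_of_eq hx30)).upd 2 1 1 (le_of_eq hx31)).upd 2 3 1 (le_of_eq hx34)).upd 3 2 3 (le_of_eq hx43)) ![1,1,2,2] (by decide) (by decide) 0 (by decide))
      · -- 34=(3,1)
        exact False.elim (cert_false T ((skipEmb 2).trans (Function.Embedding.refl _)) (by norm_num) (fun _ => hall _) (((((LB_zero T ((skipEmb 2).trans (Function.Embedding.refl _))).upd 1 2 1 (le_of_eq hx13)).upd 2 1 1 (le_of_eq hx31)).upd 2 3 3 (le_of_eq hx34)).upd 3 2 1 (le_of_eq hx43)) ![0,1,2,1] (by decide) (by decide) 1 (by decide))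
    · -- 24=(1,1)
      rcases d34 with ⟨rfl, rfl⟩ | ⟨rfl, rfl⟩ | ⟨rfl, rfl⟩ | ⟨rfl, rfl⟩ | ⟨rfl, rfl⟩ | ⟨rfl, rfl⟩
      · -- 34=(0,0)
        exfalso; omega
      · -- 34=(1,1)
        exfalso; omega
      · -- 34=(1,2)
        exact False.elim (cert_false T ((skipEmb 2).trans (Function.Embedding.refl _)) (by norm_num) (fun _ => hall _) (((((((LB_zero T ((skipEmb 2).trans (Function.Embedding.refl _))).upd 0 2 1 (le_of_eq hx03)).upd 1 2 1 (le_of_eq hx13)).upd 2 0 1 (le_of_eq hx30)).upd 2 1 1 (le_of_eq hx31)).upd 2 3 1 (le_of_eq hx34)).upd 3 2 2 (le_of_eq hx43)) ![1,1,2,2] (by decide) (by decide) 0 (by decide))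
      · -- 34=(2,1)
        exact False.elim (cert_false T ((skipEmb 2).trans (Function.Embedding.refl _)) (by norm_num) (fun _ => hall _) (((((((LB_zero T ((skipEmb 2).trans (Function.Embedding.refl _))).upd 0 2 1 (le_of_eq hx03)).upd 1 2 1 (le_of_eq hx13)).upd 2 0 1 (le_of_eq hx30)).upd 2 1 1 (le_of_eq hx31)).upd 2 3 2 (le_of_eq hx34)).upd 3 2 1 (le_of_eq hx43)) ![1,1,2,1] (by decide) (by decide) 0 (by decide))
      · -- 34=(1,3)
        exact False.elim (cert_false T ((skipEmb 2).trans (Function.Embedding.refl _)) (by norm_num) (fun _ => hall _) (((((((LB_zero T ((skipEmb 2).trans (Function.Embedding.refl _))).upd 0 2 1 (le_of_eq hx03)).upd 1 2 1 (le_of_eq hx13)).upd 2 0 1 (le_of_eq hx30)).upd 2 1 1 (le_of_eq hx31)).upd 2 3 1 (le_of_eq hx34)).upd 3 2 3 (le_of_eq hx43)) ![1,1,2,2] (by decide) (by decide) 0 (by decide))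
      · -- 34=(3,1)
        exact False.elim (cert_false T ((skipEmb 2).trans (Function.Embedding.refl _)) (by norm_num) (fun _ => hall _) (((((LB_zero T ((skipEmb 2).trans (Function.Embedding.refl _))).upd 1 2 1 (le_of_eq hx13)).upd 2 1 1 (le_of_eq hx31)).upd 2 3 3 (le_of_eq hx34)).upd 3 2 1 (le_of_eq hx43)) ![0,1,2,1] (by decide) (by decide) 1 (by decide))
    · -- 24=(1,2)
      rcases d34 with ⟨rfl, rfl⟩ | ⟨rfl, rfl⟩ | ⟨rfl, rfl⟩ | ⟨rfl, rfl⟩ | ⟨rfl, rfl⟩ | ⟨rfl, rfl⟩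
      · -- 34=(0,0)
        exfalso; omega
      · -- 34=(1,1)
        refine ⟨(⟨![2, 4, 3, 0, 1], ![3, 4, 0, 2, 1], by decide, by decide⟩ : Equiv.Perm (Fin 5)), T.m 2, T.w 4, Or.inr (Or.inr (Or.inr (Or.inr (Or.inr (Or.inr (Or.inr (Or.inl ?_)))))))⟩
        show T.m 2 = T.m 2 ∧ T.m 4 = 2 * T.m 2 ∧ T.m 3 = 2 * T.m 2 ∧ T.m 0 = T.m 2 ∧ T.m 1 = T.m 2 ∧ T.w 2 = 2 * T.w 4 ∧ T.w 4 = T.w 4 ∧ T.w 3 = T.w 4 ∧ T.w 0 = T.w 4 ∧ T.w 1 = T.w 4 ∧ T.a 2 2 = -4 * T.w 4 ∧ T.a 2 4 = 2 * T.w 4 ∧ T.a 2 3 = 0 ∧ T.a 2 0 = 0 ∧ T.a 2 1 = 0 ∧ T.a 4 4 = -2 * T.w 4 ∧ T.a 4 3 = T.w 4 ∧ T.a 4 0 = 0 ∧ T.a 4 1 = 0 ∧ T.a 3 3 = -2 * T.w 4 ∧ T.a 3 0 = T.w 4 ∧ T.a 3 1 = T.w 4 ∧ T.a 0 0 = -2 * T.w 4 ∧ T.a 0 1 = 0 ∧ T.a 1 1 = -2 * T.w 4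
        refine ⟨?_, ?_, ?_, ?_, ?_, ?_, ?_, ?_, ?_, ?_, ?_, ?_, ?_, ?_, ?_, ?_, ?_, ?_, ?_, ?_, ?_, ?_, ?_, ?_, ?_⟩ <;> omega
      · -- 34=(1,2)
        exact False.elim (cert_false T ((skipEmb 2).trans (Function.Embedding.refl _)) (by norm_num) (fun _ => hall _) (((((((LB_zero T ((skipEmb 2).trans (Function.Embedding.refl _))).upd 0 2 1 (le_of_eq hx03)).upd 1 2 1 (le_of_eq hx13)).upd 2 0 1 (le_of_eq hx30)).upd 2 1 1 (le_of_eq hx31)).upd 2 3 1 (le_of_eq hx34)).upd 3 2 2 (le_of_eq hx43)) ![1,1,2,2] (by decide) (by decide) 0 (by decide))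
      · -- 34=(2,1)
        exact False.elim (cert_false T ((skipEmb 2).trans (Function.Embedding.refl _)) (by norm_num) (fun _ => hall _) (((((((LB_zero T ((skipEmb 2).trans (Function.Embedding.refl _))).upd 0 2 1 (le_of_eq hx03)).upd 1 2 1 (le_of_eq hx13)).upd 2 0 1 (le_of_eq hx30)).upd 2 1 1 (le_of_eq hx31)).upd 2 3 2 (le_of_eq hx34)).upd 3 2 1 (le_of_eq hx43)) ![1,1,2,1] (by decide) (by decide) 0 (by decide))
      · -- 34=(1,3)
        exact False.elim (cert_false T ((skipEmb 2).trans (Function.Embedding.refl _)) (by norm_num) (fun _ => hall _) (((((((LB_zero T ((skipEmb 2).trans (Function.Embedding.refl _))).upd 0 2 1 (le_of_eq hx03)).upd 1 2 1 (le_of_eq hx13)).upd 2 0 1 (le_of_eq hx30)).upd 2 1 1 (le_of_eq hx31)).upd 2 3 1 (le_of_eq hx34)).upd 3 2 3 (le_of_eq hx43)) ![1,1,2,2] (by decide) (by decide) 0 (by decide))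
      · -- 34=(3,1)
        exact False.elim (cert_false T ((skipEmb 2).trans (Function.Embedding.refl _)) (by norm_num) (fun _ => hall _) (((((LB_zero T ((skipEmb 2).trans (Function.Embedding.refl _))).upd 1 2 1 (le_of_eq hx13)).upd 2 1 1 (le_of_eq hx31)).upd 2 3 3 (le_of_eq hx34)).upd 3 2 1 (le_of_eq hx43)) ![0,1,2,1] (by decide) (by decide) 1 (by decide))
    · -- 24=(2,1)
      rcases d34 with ⟨rfl, rfl⟩ | ⟨rfl, rfl⟩ | ⟨rfl, rfl⟩ | ⟨rfl, rfl⟩ | ⟨rfl, rfl⟩ | ⟨rfl, rfl⟩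
      · -- 34=(0,0)
        exfalso; omega
      · -- 34=(1,1)
        refine ⟨(⟨![2, 4, 3, 0, 1], ![3, 4, 0, 2, 1], by decide, by decide⟩ : Equiv.Perm (Fin 5)), T.m 0, T.w 2, Or.inr (Or.inr (Or.inr (Or.inr (Or.inr (Or.inr (Or.inr (Or.inr (?_))))))))⟩
        show T.m 2 = 2 * T.m 0 ∧ T.m 4 = 2 * T.m 0 ∧ T.m 3 = 2 * T.m 0 ∧ T.m 0 = T.m 0 ∧ T.m 1 = T.m 0 ∧ T.w 2 = T.w 2 ∧ T.w 4 = 2 * T.w 2 ∧ T.w 3 = 2 * T.w 2 ∧ T.w 0 = 2 * T.w 2 ∧ T.w 1 = 2 * T.w 2 ∧ T.a 2 2 = -2 * T.w 2 ∧ T.a 2 4 = 2 * T.w 2 ∧ T.a 2 3 = 0 ∧ T.a 2 0 = 0 ∧ T.a 2 1 = 0 ∧ T.a 4 4 = -4 * T.w 2 ∧ T.a 4 3 = 2 * T.w 2 ∧ T.a 4 0 = 0 ∧ T.a 4 1 = 0 ∧ T.a 3 3 = -4 * T.w 2 ∧ T.a 3 0 = 2 * T.w 2 ∧ T.a 3 1 = 2 * T.w 2 ∧ T.a 0 0 = -4 * T.w 2 ∧ T.a 0 1 = 0 ∧ T.a 1 1 = -4 * T.w 2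
        refine ⟨?_, ?_, ?_, ?_, ?_, ?_, ?_, ?_, ?_, ?_, ?_, ?_, ?_, ?_, ?_, ?_, ?_, ?_, ?_, ?_, ?_, ?_, ?_, ?_, ?_⟩ <;> omega
      · -- 34=(1,2)
        exact False.elim (cert_false T ((skipEmb 2).trans (Function.Embedding.refl _)) (by norm_num) (fun _ => hall _) (((((((LB_zero T ((skipEmb 2).trans (Function.Embedding.refl _))).upd 0 2 1 (le_of_eq hx03)).upd 1 2 1 (le_of_eq hx13)).upd 2 0 1 (le_of_eq hx30)).upd 2 1 1 (le_of_eq hx31)).upd 2 3 1 (le_of_eq hx34)).upd 3 2 2 (le_of_eq hx43)) ![1,1,2,2] (by decide) (by decide) 0 (by decide))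
      · -- 34=(2,1)
        exact False.elim (cert_false T ((skipEmb 2).trans (Function.Embedding.refl _)) (by norm_num) (fun _ => hall _) (((((((LB_zero T ((skipEmb 2).trans (Function.Embedding.refl _))).upd 0 2 1 (le_of_eq hx03)).upd 1 2 1 (le_of_eq hx13)).upd 2 0 1 (le_of_eq hx30)).upd 2 1 1 (le_of_eq hx31)).upd 2 3 2 (le_of_eq hx34)).upd 3 2 1 (le_of_eq hx43)) ![1,1,2,1] (by decide) (by decide) 0 (by decide))
      · -- 34=(1,3)
        exact False.elim (cert_false T ((skipEmb 2).trans (Function.Embedding.refl _)) (by norm_num) (fun _ => hall _) (((((((LB_zero T ((skipEmb 2).trans (Function.Embedding.refl _))).upd 0 2 1 (le_of_eq hx03)).upd 1 2 1 (le_of_eq hx13)).upd 2 0 1 (le_of_eq hx30)).upd 2 1 1 (le_of_eq hx31)).upd 2 3 1 (le_of_eq hx34)).upd 3 2 3 (le_of_eq hx43)) ![1,1,2,2] (by decide) (by decide) 0 (by decide))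
      · -- 34=(3,1)
        exact False.elim (cert_false T ((skipEmb 2).trans (Function.Embedding.refl _)) (by norm_num) (fun _ => hall _) (((((LB_zero T ((skipEmb 2).trans (Function.Embedding.refl _))).upd 1 2 1 (le_of_eq hx13)).upd 2 1 1 (le_of_eq hx31)).upd 2 3 3 (le_of_eq hx34)).upd 3 2 1 (le_of_eq hx43)) ![0,1,2,1] (by decide) (by decide) 1 (by decide))
    · -- 24=(1,3)
      rcases d34 with ⟨rfl, rfl⟩ | ⟨rfl, rfl⟩ | ⟨rfl, rfl⟩ | ⟨rfl, rfl⟩ | ⟨rfl, rfl⟩ | ⟨rfl, rfl⟩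
      · -- 34=(0,0)
        exfalso; omega
      · -- 34=(1,1)
        exact False.elim (cert_false T ((skipEmb 1).trans (Function.Embedding.refl _)) (by norm_num) (fun _ => hall _) (((((LB_zero T ((skipEmb 1).trans (Function.Embedding.refl _))).upd 1 3 1 (le_of_eq hx24)).upd 2 3 1 (le_of_eq hx34)).upd 3 1 3 (le_of_eq hx42)).upd 3 2 1 (le_of_eq hx43)) ![0,1,1,2] (by decide) (by decide) 1 (by decide))
      · -- 34=(1,2)
        exact False.elim (cert_false T ((skipEmb 2).trans (Function.Embedding.refl _)) (by norm_num) (fun _ => hall _) (((((((LB_zero T ((skipEmb 2).trans (Function.Embedding.refl _))).upd 0 2 1 (le_of_eq hx03)).upd 1 2 1 (le_of_eq hx13)).upd 2 0 1 (le_of_eq hx30)).upd 2 1 1 (le_of_eq hx31)).upd 2 3 1 (le_of_eq hx34)).upd 3 2 2 (le_of_eq hx43)) ![1,1,2,2] (by decide) (by decide) 0 (by decide))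
      · -- 34=(2,1)
        exact False.elim (cert_false T ((skipEmb 2).trans (Function.Embedding.refl _)) (by norm_num) (fun _ => hall _) (((((((LB_zero T ((skipEmb 2).trans (Function.Embedding.refl _))).upd 0 2 1 (le_of_eq hx03)).upd 1 2 1 (le_of_eq hx13)).upd 2 0 1 (le_of_eq hx30)).upd 2 1 1 (le_of_eq hx31)).upd 2 3 2 (le_of_eq hx34)).upd 3 2 1 (le_of_eq hx43)) ![1,1,2,1] (by decide) (by decide) 0 (by decide))
      · -- 34=(1,3)
        exact False.elim (cert_false T ((skipEmb 2).trans (Function.Embedding.refl _)) (by norm_num) (fun _ => hall _) (((((((LB_zero T ((skipEmb 2).trans (Function.Embedding.refl _))).upd 0 2 1 (le_of_eq hx03)).upd 1 2 1 (le_of_eq hx13)).upd 2 0 1 (le_of_eq hx30)).upd 2 1 1 (le_of_eq hx31)).upd 2 3 1 (le_of_eq hx34)).upd 3 2 3 (le_of_eq hx43)) ![1,1,2,2] (by decide) (by decide) 0 (by decide))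
      · -- 34=(3,1)
        exact False.elim (cert_false T ((skipEmb 2).trans (Function.Embedding.refl _)) (by norm_num) (fun _ => hall _) (((((LB_zero T ((skipEmb 2).trans (Function.Embedding.refl _))).upd 1 2 1 (le_of_eq hx13)).upd 2 1 1 (le_of_eq hx31)).upd 2 3 3 (le_of_eq hx34)).upd 3 2 1 (le_of_eq hx43)) ![0,1,2,1] (by decide) (by decide) 1 (by decide))
    · -- 24=(3,1)
      rcases d34 with ⟨rfl, rfl⟩ | ⟨rfl, rfl⟩ | ⟨rfl, rfl⟩ | ⟨rfl, rfl⟩ | ⟨rfl, rfl⟩ | ⟨rfl, rfl⟩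
      · -- 34=(0,0)
        exfalso; omega
      · -- 34=(1,1)
        exact False.elim (cert_false T ((skipEmb 1).trans (Function.Embedding.refl _)) (by norm_num) (fun _ => hall _) (((((LB_zero T ((skipEmb 1).trans (Function.Embedding.refl _))).upd 1 3 3 (le_of_eq hx24)).upd 2 3 1 (le_of_eq hx34)).upd 3 1 1 (le_of_eq hx42)).upd 3 2 1 (le_of_eq hx43)) ![0,3,1,2] (by decide) (by decide) 1 (by decide))
      · -- 34=(1,2)
        exact False.elim (cert_false T ((skipEmb 2).trans (Function.Embedding.refl _)) (by norm_num) (fun _ => hall _) (((((((LB_zero T ((skipEmb 2).trans (Function.Embedding.refl _))).upd 0 2 1 (le_of_eq hx03)).upd 1 2 1 (le_of_eq hx13)).upd 2 0 1 (le_of_eq hx30)).upd 2 1 1 (le_of_eq hx31)).upd 2 3 1 (le_of_eq hx34)).upd 3 2 2 (le_of_eq hx43)) ![1,1,2,2] (by decide) (by decide) 0 (by decide))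
      · -- 34=(2,1)
        exact False.elim (cert_false T ((skipEmb 2).trans (Function.Embedding.refl _)) (by norm_num) (fun _ => hall _) (((((((LB_zero T ((skipEmb 2).trans (Function.Embedding.refl _))).upd 0 2 1 (le_of_eq hx03)).upd 1 2 1 (le_of_eq hx13)).upd 2 0 1 (le_of_eq hx30)).upd 2 1 1 (le_of_eq hx31)).upd 2 3 2 (le_of_eq hx34)).upd 3 2 1 (le_of_eq hx43)) ![1,1,2,1] (by decide) (by decide) 0 (by decide))
      · -- 34=(1,3)
        exact False.elim (cert_false T ((skipEmb 2).trans (Function.Embedding.refl _)) (by norm_num) (fun _ => hall _) (((((((LB_zero T ((skipEmb 2).trans (Function.Embedding.refl _))).upd 0 2 1 (le_of_eq hx03)).upd 1 2 1 (le_of_eq hx13)).upd 2 0 1 (le_of_eq hx30)).upd 2 1 1 (le_of_eq hx31)).upd 2 3 1 (le_of_eq hx34)).upd 3 2 3 (le_of_eq hx43)) ![1,1,2,2] (by decide) (by decide) 0 (by decide))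
      · -- 34=(3,1)
        exact False.elim (cert_false T ((skipEmb 2).trans (Function.Embedding.refl _)) (by norm_num) (fun _ => hall _) (((((LB_zero T ((skipEmb 2).trans (Function.Embedding.refl _))).upd 1 2 1 (le_of_eq hx13)).upd 2 1 1 (le_of_eq hx31)).upd 2 3 3 (le_of_eq hx34)).upd 3 2 1 (le_of_eq hx43)) ![0,1,2,1] (by decide) (by decide) 1 (by decide))
  · -- 14=(1,1)
    rcases d24 with ⟨rfl, rfl⟩ | ⟨rfl, rfl⟩ | ⟨rfl, rfl⟩ | ⟨rfl, rfl⟩ | ⟨rfl, rfl⟩ | ⟨rfl, rfl⟩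
    · -- 24=(0,0)
      rcases d34 with ⟨rfl, rfl⟩ | ⟨rfl, rfl⟩ | ⟨rfl, rfl⟩ | ⟨rfl, rfl⟩ | ⟨rfl, rfl⟩ | ⟨rfl, rfl⟩
      · -- 34=(0,0)
        exfalso; omega
      · -- 34=(1,1)
        exact False.elim (cert_false T ((skipEmb 2).trans (Function.Embedding.refl _)) (by norm_num) (fun _ => hall _) (((((((LB_zero T ((skipEmb 2).trans (Function.Embedding.refl _))).upd 1 2 1 (le_of_eq hx13)).upd 1 3 1 (le_of_eq hx14)).upd 2 1 1 (le_of_eq hx31)).upd 2 3 1 (le_of_eq hx34)).upd 3 1 1 (le_of_eq hx41)).upd 3 2 1 (le_of_eq hx43)) ![0,1,1,1] (by decide) (by decide) 1 (by decide))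
      · -- 34=(1,2)
        exact False.elim (cert_false T ((skipEmb 2).trans (Function.Embedding.refl _)) (by norm_num) (fun _ => hall _) (((((((LB_zero T ((skipEmb 2).trans (Function.Embedding.refl _))).upd 1 2 1 (le_of_eq hx13)).upd 1 3 1 (le_of_eq hx14)).upd 2 1 1 (le_of_eq hx31)).upd 2 3 1 (le_of_eq hx34)).upd 3 1 1 (le_of_eq hx41)).upd 3 2 2 (le_of_eq hx43)) ![0,1,1,1] (by decide) (by decide) 1 (by decide))
      · -- 34=(2,1)
        exact False.elim (cert_false T ((skipEmb 2).trans (Function.Embedding.refl _)) (by norm_num) (fun _ => hall _) (((((((LB_zero T ((skipEmb 2).trans (Function.Embedding.refl _))).upd 1 2 1 (le_of_eq hx13)).upd 1 3 1 (le_of_eq hx14)).upd 2 1 1 (le_of_eq hx31)).upd 2 3 2 (le_of_eq hx34)).upd 3 1 1 (le_of_eq hx41)).upd 3 2 1 (le_of_eq hx43)) ![0,1,1,1] (by decide) (by decide) 1 (by decide))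
      · -- 34=(1,3)
        exact False.elim (cert_false T ((skipEmb 2).trans (Function.Embedding.refl _)) (by norm_num) (fun _ => hall _) (((((((LB_zero T ((skipEmb 2).trans (Function.Embedding.refl _))).upd 1 2 1 (le_of_eq hx13)).upd 1 3 1 (le_of_eq hx14)).upd 2 1 1 (le_of_eq hx31)).upd 2 3 1 (le_of_eq hx34)).upd 3 1 1 (le_of_eq hx41)).upd 3 2 3 (le_of_eq hx43)) ![0,1,1,1] (by decide) (by decide) 1 (by decide))
      · -- 34=(3,1)
        exact False.elim (cert_false T ((skipEmb 2).trans (Function.Embedding.refl _)) (by norm_num) (fun _ => hall _) (((((((LB_zero T ((skipEmb 2).trans (Function.Embedding.refl _))).upd 1 2 1 (le_of_eq hx13)).upd 1 3 1 (le_of_eq hx14)).upd 2 1 1 (le_of_eq hx31)).upd 2 3 3 (le_of_eq hx34)).upd 3 1 1 (le_of_eq hx41)).upd 3 2 1 (le_of_eq hx43)) ![0,1,1,1] (by decide) (by decide) 1 (by decide))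
    · -- 24=(1,1)
      rcases d34 with ⟨rfl, rfl⟩ | ⟨rfl, rfl⟩ | ⟨rfl, rfl⟩ | ⟨rfl, rfl⟩ | ⟨rfl, rfl⟩ | ⟨rfl, rfl⟩
      · -- 34=(0,0)
        exfalso; omega
      · -- 34=(1,1)
        exact False.elim (cert_false T ((skipEmb 2).trans (Function.Embedding.refl _)) (by norm_num) (fun _ => hall _) (((((((LB_zero T ((skipEmb 2).trans (Function.Embedding.refl _))).upd 1 2 1 (le_of_eq hx13)).upd 1 3 1 (le_of_eq hx14)).upd 2 1 1 (le_of_eq hx31)).upd 2 3 1 (le_of_eq hx34)).upd 3 1 1 (le_of_eq hx41)).upd 3 2 1 (le_of_eq hx43)) ![0,1,1,1] (by decide) (by decide) 1 (by decide))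
      · -- 34=(1,2)
        exact False.elim (cert_false T ((skipEmb 2).trans (Function.Embedding.refl _)) (by norm_num) (fun _ => hall _) (((((((LB_zero T ((skipEmb 2).trans (Function.Embedding.refl _))).upd 1 2 1 (le_of_eq hx13)).upd 1 3 1 (le_of_eq hx14)).upd 2 1 1 (le_of_eq hx31)).upd 2 3 1 (le_of_eq hx34)).upd 3 1 1 (le_of_eq hx41)).upd 3 2 2 (le_of_eq hx43)) ![0,1,1,1] (by decide) (by decide) 1 (by decide))
      · -- 34=(2,1)
        exact False.elim (cert_false T ((skipEmb 2).trans (Function.Embedding.refl _)) (by norm_num) (fun _ => hall _) (((((((LB_zero T ((skipEmb 2).trans (Function.Embedding.refl _))).upd 1 2 1 (le_of_eq hx13)).upd 1 3 1 (le_of_eq hx14)).upd 2 1 1 (le_of_eq hx31)).upd 2 3 2 (le_of_eq hx34)).upd 3 1 1 (le_of_eq hx41)).upd 3 2 1 (le_of_eq hx43)) ![0,1,1,1] (by decide) (by decide) 1 (by decide))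
      · -- 34=(1,3)
        exact False.elim (cert_false T ((skipEmb 2).trans (Function.Embedding.refl _)) (by norm_num) (fun _ => hall _) (((((((LB_zero T ((skipEmb 2).trans (Function.Embedding.refl _))).upd 1 2 1 (le_of_eq hx13)).upd 1 3 1 (le_of_eq hx14)).upd 2 1 1 (le_of_eq hx31)).upd 2 3 1 (le_of_eq hx34)).upd 3 1 1 (le_of_eq hx41)).upd 3 2 3 (le_of_eq hx43)) ![0,1,1,1] (by decide) (by decide) 1 (by decide))
      · -- 34=(3,1)
        exact False.elim (cert_false T ((skipEmb 2).trans (Function.Embedding.refl _)) (by norm_num) (fun _ => hall _) (((((((LB_zero T ((skipEmb 2).trans (Function.Embedding.refl _))).upd 1 2 1 (le_of_eq hx13)).upd 1 3 1 (le_of_eq hx14)).upd 2 1 1 (le_of_eq hx31)).upd 2 3 3 (le_of_eq hx34)).upd 3 1 1 (le_of_eq hx41)).upd 3 2 1 (le_of_eq hx43)) ![0,1,1,1] (by decide) (by decide) 1 (by decide))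
    · -- 24=(1,2)
      rcases d34 with ⟨rfl, rfl⟩ | ⟨rfl, rfl⟩ | ⟨rfl, rfl⟩ | ⟨rfl, rfl⟩ | ⟨rfl, rfl⟩ | ⟨rfl, rfl⟩
      · -- 34=(0,0)
        exfalso; omega
      · -- 34=(1,1)
        exact False.elim (cert_false T ((skipEmb 2).trans (Function.Embedding.refl _)) (by norm_num) (fun _ => hall _) (((((((LB_zero T ((skipEmb 2).trans (Function.Embedding.refl _))).upd 1 2 1 (le_of_eq hx13)).upd 1 3 1 (le_of_eq hx14)).upd 2 1 1 (le_of_eq hx31)).upd 2 3 1 (le_of_eq hx34)).upd 3 1 1 (le_of_eq hx41)).upd 3 2 1 (le_of_eq hx43)) ![0,1,1,1] (by decide) (by decide) 1 (by decide))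
      · -- 34=(1,2)
        exact False.elim (cert_false T ((skipEmb 2).trans (Function.Embedding.refl _)) (by norm_num) (fun _ => hall _) (((((((LB_zero T ((skipEmb 2).trans (Function.Embedding.refl _))).upd 1 2 1 (le_of_eq hx13)).upd 1 3 1 (le_of_eq hx14)).upd 2 1 1 (le_of_eq hx31)).upd 2 3 1 (le_of_eq hx34)).upd 3 1 1 (le_of_eq hx41)).upd 3 2 2 (le_of_eq hx43)) ![0,1,1,1] (by decide) (by decide) 1 (by decide))
      · -- 34=(2,1)
        exact False.elim (cert_false T ((skipEmb 2).trans (Function.Embedding.refl _)) (by norm_num) (fun _ => hall _) (((((((LB_zero T ((skipEmb 2).trans (Function.Embedding.refl _))).upd 1 2 1 (le_of_eq hx13)).upd 1 3 1 (le_of_eq hx14)).upd 2 1 1 (le_of_eq hx31)).upd 2 3 2 (le_of_eq hx34)).upd 3 1 1 (le_of_eq hx41)).upd 3 2 1 (le_of_eq hx43)) ![0,1,1,1] (by decide) (by decide) 1 (by decide))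
      · -- 34=(1,3)
        exact False.elim (cert_false T ((skipEmb 2).trans (Function.Embedding.refl _)) (by norm_num) (fun _ => hall _) (((((((LB_zero T ((skipEmb 2).trans (Function.Embedding.refl _))).upd 1 2 1 (le_of_eq hx13)).upd 1 3 1 (le_of_eq hx14)).upd 2 1 1 (le_of_eq hx31)).upd 2 3 1 (le_of_eq hx34)).upd 3 1 1 (le_of_eq hx41)).upd 3 2 3 (le_of_eq hx43)) ![0,1,1,1] (by decide) (by decide) 1 (by decide))
      · -- 34=(3,1)
        exact False.elim (cert_false T ((skipEmb 2).trans (Function.Embedding.refl _)) (by norm_num) (fun _ => hall _) (((((((LB_zero T ((skipEmb 2).trans (Function.Embedding.refl _))).upd 1 2 1 (le_of_eq hx13)).upd 1 3 1 (le_of_eq hx14)).upd 2 1 1 (le_of_eq hx31)).upd 2 3 3 (le_of_eq hx34)).upd 3 1 1 (le_of_eq hx41)).upd 3 2 1 (le_of_eq hx43)) ![0,1,1,1] (by decide) (by decide) 1 (by decide))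
    · -- 24=(2,1)
      rcases d34 with ⟨rfl, rfl⟩ | ⟨rfl, rfl⟩ | ⟨rfl, rfl⟩ | ⟨rfl, rfl⟩ | ⟨rfl, rfl⟩ | ⟨rfl, rfl⟩
      · -- 34=(0,0)
        exfalso; omega
      · -- 34=(1,1)
        exact False.elim (cert_false T ((skipEmb 2).trans (Function.Embedding.refl _)) (by norm_num) (fun _ => hall _) (((((((LB_zero T ((skipEmb 2).trans (Function.Embedding.refl _))).upd 1 2 1 (le_of_eq hx13)).upd 1 3 1 (le_of_eq hx14)).upd 2 1 1 (le_of_eq hx31)).upd 2 3 1 (le_of_eq hx34)).upd 3 1 1 (le_of_eq hx41)).upd 3 2 1 (le_of_eq hx43)) ![0,1,1,1] (by decide) (by decide) 1 (by decide))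
      · -- 34=(1,2)
        exact False.elim (cert_false T ((skipEmb 2).trans (Function.Embedding.refl _)) (by norm_num) (fun _ => hall _) (((((((LB_zero T ((skipEmb 2).trans (Function.Embedding.refl _))).upd 1 2 1 (le_of_eq hx13)).upd 1 3 1 (le_of_eq hx14)).upd 2 1 1 (le_of_eq hx31)).upd 2 3 1 (le_of_eq hx34)).upd 3 1 1 (le_of_eq hx41)).upd 3 2 2 (le_of_eq hx43)) ![0,1,1,1] (by decide) (by decide) 1 (by decide))
      · -- 34=(2,1)
        exact False.elim (cert_false T ((skipEmb 2).trans (Function.Embedding.refl _)) (by norm_num) (fun _ => hall _) (((((((LB_zero T ((skipEmb 2).trans (Function.Embedding.refl _))).upd 1 2 1 (le_of_eq hx13)).upd 1 3 1 (le_of_eq hx14)).upd 2 1 1 (le_of_eq hx31)).upd 2 3 2 (le_of_eq hx34)).upd 3 1 1 (le_of_eq hx41)).upd 3 2 1 (le_of_eq hx43)) ![0,1,1,1] (by decide) (by decide) 1 (by decide))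
      · -- 34=(1,3)
        exact False.elim (cert_false T ((skipEmb 2).trans (Function.Embedding.refl _)) (by norm_num) (fun _ => hall _) (((((((LB_zero T ((skipEmb 2).trans (Function.Embedding.refl _))).upd 1 2 1 (le_of_eq hx13)).upd 1 3 1 (le_of_eq hx14)).upd 2 1 1 (le_of_eq hx31)).upd 2 3 1 (le_of_eq hx34)).upd 3 1 1 (le_of_eq hx41)).upd 3 2 3 (le_of_eq hx43)) ![0,1,1,1] (by decide) (by decide) 1 (by decide))
      · -- 34=(3,1)
        exact False.elim (cert_false T ((skipEmb 2).trans (Function.Embedding.refl _)) (by norm_num) (fun _ => hall _) (((((((LB_zero T ((skipEmb 2).trans (Function.Embedding.refl _))).upd 1 2 1 (le_of_eq hx13)).upd 1 3 1 (le_of_eq hx14)).upd 2 1 1 (le_of_eq hx31)).upd 2 3 3 (le_of_eq hx34)).upd 3 1 1 (le_of_eq hx41)).upd 3 2 1 (le_of_eq hx43)) ![0,1,1,1] (by decide) (by decide) 1 (by decide))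
    · -- 24=(1,3)
      exact False.elim (cert_false T ((skipEmb 3).trans (Function.Embedding.refl _)) (by norm_num) (fun _ => hall _) (((((LB_zero T ((skipEmb 3).trans (Function.Embedding.refl _))).upd 1 3 1 (le_of_eq hx14)).upd 2 3 1 (le_of_eq hx24)).upd 3 1 1 (le_of_eq hx41)).upd 3 2 3 (le_of_eq hx42)) ![0,1,1,2] (by decide) (by decide) 1 (by decide))
    · -- 24=(3,1)
      exact False.elim (cert_false T ((skipEmb 3).trans (Function.Embedding.refl _)) (by norm_num) (fun _ => hall _) (((((LB_zero T ((skipEmb 3).trans (Function.Embedding.refl _))).upd 1 3 1 (le_of_eq hx14)).upd 2 3 3 (le_of_eq hx24)).upd 3 1 1 (le_of_eq hx41)).upd 3 2 1 (le_of_eq hx42)) ![0,1,3,2] (by decide) (by decide) 1 (by decide))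
  · -- 14=(1,2)
    rcases d24 with ⟨rfl, rfl⟩ | ⟨rfl, rfl⟩ | ⟨rfl, rfl⟩ | ⟨rfl, rfl⟩ | ⟨rfl, rfl⟩ | ⟨rfl, rfl⟩
    · -- 24=(0,0)
      rcases d34 with ⟨rfl, rfl⟩ | ⟨rfl, rfl⟩ | ⟨rfl, rfl⟩ | ⟨rfl, rfl⟩ | ⟨rfl, rfl⟩ | ⟨rfl, rfl⟩
      · -- 34=(0,0)
        exfalso; omega
      · -- 34=(1,1)
        exact False.elim (cert_false T ((skipEmb 2).trans (Function.Embedding.refl _)) (by norm_num) (fun _ => hall _) (((((((LB_zero T ((skipEmb 2).trans (Function.Embedding.refl _))).upd 1 2 1 (le_of_eq hx13)).upd 1 3 1 (le_of_eq hx14)).upd 2 1 1 (le_of_eq hx31)).upd 2 3 1 (le_of_eq hx34)).upd 3 1 2 (le_of_eq hx41)).upd 3 2 1 (le_of_eq hx43)) ![0,1,1,1] (by decide) (by decide) 1 (by decide))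
      · -- 34=(1,2)
        exact False.elim (cert_false T ((skipEmb 2).trans (Function.Embedding.refl _)) (by norm_num) (fun _ => hall _) (((((((LB_zero T ((skipEmb 2).trans (Function.Embedding.refl _))).upd 1 2 1 (le_of_eq hx13)).upd 1 3 1 (le_of_eq hx14)).upd 2 1 1 (le_of_eq hx31)).upd 2 3 1 (le_of_eq hx34)).upd 3 1 2 (le_of_eq hx41)).upd 3 2 2 (le_of_eq hx43)) ![0,1,1,1] (by decide) (by decide) 1 (by decide))
      · -- 34=(2,1)
        exact False.elim (cert_false T ((skipEmb 2).trans (Function.Embedding.refl _)) (by norm_num) (fun _ => hall _) (((((((LB_zero T ((skipEmb 2).trans (Function.Embedding.refl _))).upd 1 2 1 (le_of_eq hx13)).upd 1 3 1 (le_of_eq hx14)).upd 2 1 1 (le_of_eq hx31)).upd 2 3 2 (le_of_eq hx34)).upd 3 1 2 (le_of_eq hx41)).upd 3 2 1 (le_of_eq hx43)) ![0,1,1,1] (by decide) (by decide) 1 (by decide))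
      · -- 34=(1,3)
        exact False.elim (cert_false T ((skipEmb 2).trans (Function.Embedding.refl _)) (by norm_num) (fun _ => hall _) (((((((LB_zero T ((skipEmb 2).trans (Function.Embedding.refl _))).upd 1 2 1 (le_of_eq hx13)).upd 1 3 1 (le_of_eq hx14)).upd 2 1 1 (le_of_eq hx31)).upd 2 3 1 (le_of_eq hx34)).upd 3 1 2 (le_of_eq hx41)).upd 3 2 3 (le_of_eq hx43)) ![0,1,1,1] (by decide) (by decide) 1 (by decide))
      · -- 34=(3,1)
        exact False.elim (cert_false T ((skipEmb 2).trans (Function.Embedding.refl _)) (by norm_num) (fun _ => hall _) (((((((LB_zero T ((skipEmb 2).trans (Function.Embedding.refl _))).upd 1 2 1 (le_of_eq hx13)).upd 1 3 1 (le_of_eq hx14)).upd 2 1 1 (le_of_eq hx31)).upd 2 3 3 (le_of_eq hx34)).upd 3 1 2 (le_of_eq hx41)).upd 3 2 1 (le_of_eq hx43)) ![0,1,1,1] (by decide) (by decide) 1 (by decide))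
    · -- 24=(1,1)
      rcases d34 with ⟨rfl, rfl⟩ | ⟨rfl, rfl⟩ | ⟨rfl, rfl⟩ | ⟨rfl, rfl⟩ | ⟨rfl, rfl⟩ | ⟨rfl, rfl⟩
      · -- 34=(0,0)
        refine ⟨(⟨![0, 3, 1, 4, 2], ![0, 2, 4, 1, 3], by decide, by decide⟩ : Equiv.Perm (Fin 5)), T.m 0, T.w 4, Or.inr (Or.inr (Or.inl ?_))⟩
        show T.m 0 = T.m 0 ∧ T.m 3 = 2 * T.m 0 ∧ T.m 1 = 3 * T.m 0 ∧ T.m 4 = 4 * T.m 0 ∧ T.m 2 = 2 * T.m 0 ∧ T.w 0 = 2 * T.w 4 ∧ T.w 3 = 2 * T.w 4 ∧ T.w 1 = 2 * T.w 4 ∧ T.w 4 = T.w 4 ∧ T.w 2 = T.w 4 ∧ T.a 0 0 = -4 * T.w 4 ∧ T.a 0 3 = 2 * T.w 4 ∧ T.a 0 1 = 0 ∧ T.a 0 4 = 0 ∧ T.a 0 2 = 0 ∧ T.a 3 3 = -4 * T.w 4 ∧ T.a 3 1 = 2 * T.w 4 ∧ T.a 3 4 = 0 ∧ T.a 3 2 = 0 ∧ T.a 1 1 = -4 * T.w 4 ∧ T.a 1 4 = 2 * T.w 4 ∧ T.a 1 2 = 0 ∧ T.a 4 4 = -2 * T.w 4 ∧ T.a 4 2 = T.w 4 ∧ T.a 2 2 = -2 * T.w 4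
        refine ⟨?_, ?_, ?_, ?_, ?_, ?_, ?_, ?_, ?_, ?_, ?_, ?_, ?_, ?_, ?_, ?_, ?_, ?_, ?_, ?_, ?_, ?_, ?_, ?_, ?_⟩ <;> omega
      · -- 34=(1,1)
        exact False.elim (cert_false T ((skipEmb 2).trans (Function.Embedding.refl _)) (by norm_num) (fun _ => hall _) (((((((LB_zero T ((skipEmb 2).trans (Function.Embedding.refl _))).upd 1 2 1 (le_of_eq hx13)).upd 1 3 1 (le_of_eq hx14)).upd 2 1 1 (le_of_eq hx31)).upd 2 3 1 (le_of_eq hx34)).upd 3 1 2 (le_of_eq hx41)).upd 3 2 1 (le_of_eq hx43)) ![0,1,1,1] (by decide) (by decide) 1 (by decide))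
      · -- 34=(1,2)
        exact False.elim (cert_false T ((skipEmb 2).trans (Function.Embedding.refl _)) (by norm_num) (fun _ => hall _) (((((((LB_zero T ((skipEmb 2).trans (Function.Embedding.refl _))).upd 1 2 1 (le_of_eq hx13)).upd 1 3 1 (le_of_eq hx14)).upd 2 1 1 (le_of_eq hx31)).upd 2 3 1 (le_of_eq hx34)).upd 3 1 2 (le_of_eq hx41)).upd 3 2 2 (le_of_eq hx43)) ![0,1,1,1] (by decide) (by decide) 1 (by decide))
      · -- 34=(2,1)
        exact False.elim (cert_false T ((skipEmb 2).trans (Function.Embedding.refl _)) (by norm_num) (fun _ => hall _) (((((((LB_zero T ((skipEmb 2).trans (Function.Embedding.refl _))).upd 1 2 1 (le_of_eq hx13)).upd 1 3 1 (le_of_eq hx14)).upd 2 1 1 (le_of_eq hx31)).upd 2 3 2 (le_of_eq hx34)).upd 3 1 2 (le_of_eq hx41)).upd 3 2 1 (le_of_eq hx43)) ![0,1,1,1] (by decide) (by decide) 1 (by decide))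
      · -- 34=(1,3)
        exact False.elim (cert_false T ((skipEmb 2).trans (Function.Embedding.refl _)) (by norm_num) (fun _ => hall _) (((((((LB_zero T ((skipEmb 2).trans (Function.Embedding.refl _))).upd 1 2 1 (le_of_eq hx13)).upd 1 3 1 (le_of_eq hx14)).upd 2 1 1 (le_of_eq hx31)).upd 2 3 1 (le_of_eq hx34)).upd 3 1 2 (le_of_eq hx41)).upd 3 2 3 (le_of_eq hx43)) ![0,1,1,1] (by decide) (by decide) 1 (by decide))
      · -- 34=(3,1)
        exact False.elim (cert_false T ((skipEmb 2).trans (Function.Embedding.refl _)) (by norm_num) (fun _ => hall _) (((((((LB_zero T ((skipEmb 2).trans (Function.Embedding.refl _))).upd 1 2 1 (le_of_eq hx13)).upd 1 3 1 (le_of_eq hx14)).upd 2 1 1 (le_of_eq hx31)).upd 2 3 3 (le_of_eq hx34)).upd 3 1 2 (le_of_eq hx41)).upd 3 2 1 (le_of_eq hx43)) ![0,1,1,1] (by decide) (by decide) 1 (by decide))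
    · -- 24=(1,2)
      exact False.elim (cert_false T ((skipEmb 3).trans (Function.Embedding.refl _)) (by norm_num) (fun _ => hall _) (((((LB_zero T ((skipEmb 3).trans (Function.Embedding.refl _))).upd 1 3 1 (le_of_eq hx14)).upd 2 3 1 (le_of_eq hx24)).upd 3 1 2 (le_of_eq hx41)).upd 3 2 2 (le_of_eq hx42)) ![0,1,1,2] (by decide) (by decide) 1 (by decide))
    · -- 24=(2,1)
      exact False.elim (cert_false T ((skipEmb 3).trans (Function.Embedding.refl _)) (by norm_num) (fun _ => hall _) (((((LB_zero T ((skipEmb 3).trans (Function.Embedding.refl _))).upd 1 3 1 (le_of_eq hx14)).upd 2 3 2 (le_of_eq hx24)).upd 3 1 2 (le_of_eq hx41)).upd 3 2 1 (le_of_eq hx42)) ![0,1,2,2] (by decide) (by decide) 1 (by decide))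
    · -- 24=(1,3)
      exact False.elim (cert_false T ((skipEmb 3).trans (Function.Embedding.refl _)) (by norm_num) (fun _ => hall _) (((((LB_zero T ((skipEmb 3).trans (Function.Embedding.refl _))).upd 1 3 1 (le_of_eq hx14)).upd 2 3 1 (le_of_eq hx24)).upd 3 1 2 (le_of_eq hx41)).upd 3 2 3 (le_of_eq hx42)) ![0,1,1,2] (by decide) (by decide) 1 (by decide))
    · -- 24=(3,1)
      exact False.elim (cert_false T ((skipEmb 3).trans (Function.Embedding.refl _)) (by norm_num) (fun _ => hall _) (((((LB_zero T ((skipEmb 3).trans (Function.Embedding.refl _))).upd 1 3 1 (le_of_eq hx14)).upd 2 3 3 (le_of_eq hx24)).upd 3 1 2 (le_of_eq hx41)).upd 3 2 1 (le_of_eq hx42)) ![0,1,2,2] (by decide) (by decide) 1 (by decide))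
  · -- 14=(2,1)
    rcases d24 with ⟨rfl, rfl⟩ | ⟨rfl, rfl⟩ | ⟨rfl, rfl⟩ | ⟨rfl, rfl⟩ | ⟨rfl, rfl⟩ | ⟨rfl, rfl⟩
    · -- 24=(0,0)
      rcases d34 with ⟨rfl, rfl⟩ | ⟨rfl, rfl⟩ | ⟨rfl, rfl⟩ | ⟨rfl, rfl⟩ | ⟨rfl, rfl⟩ | ⟨rfl, rfl⟩
      · -- 34=(0,0)
        exfalso; omega
      · -- 34=(1,1)
        exact False.elim (cert_false T ((skipEmb 2).trans (Function.Embedding.refl _)) (by norm_num) (fun _ => hall _) (((((((LB_zero T ((skipEmb 2).trans (Function.Embedding.refl _))).upd 1 2 1 (le_of_eq hx13)).upd 1 3 2 (le_of_eq hx14)).upd 2 1 1 (le_of_eq hx31)).upd 2 3 1 (le_of_eq hx34)).upd 3 1 1 (le_of_eq hx41)).upd 3 2 1 (le_of_eq hx43)) ![0,1,1,1] (by decide) (by decide) 1 (by decide))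
      · -- 34=(1,2)
        exact False.elim (cert_false T ((skipEmb 2).trans (Function.Embedding.refl _)) (by norm_num) (fun _ => hall _) (((((((LB_zero T ((skipEmb 2).trans (Function.Embedding.refl _))).upd 1 2 1 (le_of_eq hx13)).upd 1 3 2 (le_of_eq hx14)).upd 2 1 1 (le_of_eq hx31)).upd 2 3 1 (le_of_eq hx34)).upd 3 1 1 (le_of_eq hx41)).upd 3 2 2 (le_of_eq hx43)) ![0,1,1,1] (by decide) (by decide) 1 (by decide))
      · -- 34=(2,1)
        exact False.elim (cert_false T ((skipEmb 2).trans (Function.Embedding.refl _)) (by norm_num) (fun _ => hall _) (((((((LB_zero T ((skipEmb 2).trans (Function.Embedding.refl _))).upd 1 2 1 (le_of_eq hx13)).upd 1 3 2 (le_of_eq hx14)).upd 2 1 1 (le_of_eq hx31)).upd 2 3 2 (le_of_eq hx34)).upd 3 1 1 (le_of_eq hx41)).upd 3 2 1 (le_of_eq hx43)) ![0,1,1,1] (by decide) (by decide) 1 (by decide))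
      · -- 34=(1,3)
        exact False.elim (cert_false T ((skipEmb 2).trans (Function.Embedding.refl _)) (by norm_num) (fun _ => hall _) (((((((LB_zero T ((skipEmb 2).trans (Function.Embedding.refl _))).upd 1 2 1 (le_of_eq hx13)).upd 1 3 2 (le_of_eq hx14)).upd 2 1 1 (le_of_eq hx31)).upd 2 3 1 (le_of_eq hx34)).upd 3 1 1 (le_of_eq hx41)).upd 3 2 3 (le_of_eq hx43)) ![0,1,1,1] (by decide) (by decide) 1 (by decide))
      · -- 34=(3,1)
        exact False.elim (cert_false T ((skipEmb 2).trans (Function.Embedding.refl _)) (by norm_num) (fun _ => hall _) (((((((LB_zero T ((skipEmb 2).trans (Function.Embedding.refl _))).upd 1 2 1 (le_of_eq hx13)).upd 1 3 2 (le_of_eq hx14)).upd 2 1 1 (le_of_eq hx31)).upd 2 3 3 (le_of_eq hx34)).upd 3 1 1 (le_of_eq hx41)).upd 3 2 1 (le_of_eq hx43)) ![0,1,1,1] (by decide) (by decide) 1 (by decide))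
    · -- 24=(1,1)
      rcases d34 with ⟨rfl, rfl⟩ | ⟨rfl, rfl⟩ | ⟨rfl, rfl⟩ | ⟨rfl, rfl⟩ | ⟨rfl, rfl⟩ | ⟨rfl, rfl⟩
      · -- 34=(0,0)
        refine ⟨(⟨![0, 3, 1, 4, 2], ![0, 2, 4, 1, 3], by decide, by decide⟩ : Equiv.Perm (Fin 5)), T.m 0, T.w 0, Or.inr (Or.inl ?_)⟩
        show T.m 0 = T.m 0 ∧ T.m 3 = 2 * T.m 0 ∧ T.m 1 = 3 * T.m 0 ∧ T.m 4 = 2 * T.m 0 ∧ T.m 2 = T.m 0 ∧ T.w 0 = T.w 0 ∧ T.w 3 = T.w 0 ∧ T.w 1 = T.w 0 ∧ T.w 4 = 2 * T.w 0 ∧ T.w 2 = 2 * T.w 0 ∧ T.a 0 0 = -2 * T.w 0 ∧ T.a 0 3 = T.w 0 ∧ T.a 0 1 = 0 ∧ T.a 0 4 = 0 ∧ T.a 0 2 = 0 ∧ T.a 3 3 = -2 * T.w 0 ∧ T.a 3 1 = T.w 0 ∧ T.a 3 4 = 0 ∧ T.a 3 2 = 0 ∧ T.a 1 1 = -2 * T.w 0 ∧ T.a 1 4 = 2 * T.w 0 ∧ T.a 1 2 = 0 ∧ T.a 4 4 = -4 * T.w 0 ∧ T.a 4 2 = 2 * T.w 0 ∧ T.a 2 2 = -4 * T.w 0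
        refine ⟨?_, ?_, ?_, ?_, ?_, ?_, ?_, ?_, ?_, ?_, ?_, ?_, ?_, ?_, ?_, ?_, ?_, ?_, ?_, ?_, ?_, ?_, ?_, ?_, ?_⟩ <;> omega
      · -- 34=(1,1)
        exact False.elim (cert_false T ((skipEmb 2).trans (Function.Embedding.refl _)) (by norm_num) (fun _ => hall _) (((((((LB_zero T ((skipEmb 2).trans (Function.Embedding.refl _))).upd 1 2 1 (le_of_eq hx13)).upd 1 3 2 (le_of_eq hx14)).upd 2 1 1 (le_of_eq hx31)).upd 2 3 1 (le_of_eq hx34)).upd 3 1 1 (le_of_eq hx41)).upd 3 2 1 (le_of_eq hx43)) ![0,1,1,1] (by decide) (by decide) 1 (by decide))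
      · -- 34=(1,2)
        exact False.elim (cert_false T ((skipEmb 2).trans (Function.Embedding.refl _)) (by norm_num) (fun _ => hall _) (((((((LB_zero T ((skipEmb 2).trans (Function.Embedding.refl _))).upd 1 2 1 (le_of_eq hx13)).upd 1 3 2 (le_of_eq hx14)).upd 2 1 1 (le_of_eq hx31)).upd 2 3 1 (le_of_eq hx34)).upd 3 1 1 (le_of_eq hx41)).upd 3 2 2 (le_of_eq hx43)) ![0,1,1,1] (by decide) (by decide) 1 (by decide))
      · -- 34=(2,1)
        exact False.elim (cert_false T ((skipEmb 2).trans (Function.Embedding.refl _)) (by norm_num) (fun _ => hall _) (((((((LB_zero T ((skipEmb 2).trans (Function.Embedding.refl _))).upd 1 2 1 (le_of_eq hx13)).upd 1 3 2 (le_of_eq hx14)).upd 2 1 1 (le_of_eq hx31)).upd 2 3 2 (le_of_eq hx34)).upd 3 1 1 (le_of_eq hx41)).upd 3 2 1 (le_of_eq hx43)) ![0,1,1,1] (by decide) (by decide) 1 (by decide))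
      · -- 34=(1,3)
        exact False.elim (cert_false T ((skipEmb 2).trans (Function.Embedding.refl _)) (by norm_num) (fun _ => hall _) (((((((LB_zero T ((skipEmb 2).trans (Function.Embedding.refl _))).upd 1 2 1 (le_of_eq hx13)).upd 1 3 2 (le_of_eq hx14)).upd 2 1 1 (le_of_eq hx31)).upd 2 3 1 (le_of_eq hx34)).upd 3 1 1 (le_of_eq hx41)).upd 3 2 3 (le_of_eq hx43)) ![0,1,1,1] (by decide) (by decide) 1 (by decide))
      · -- 34=(3,1)
        exact False.elim (cert_false T ((skipEmb 2).trans (Function.Embedding.refl _)) (by norm_num) (fun _ => hall _) (((((((LB_zero T ((skipEmb 2).trans (Function.Embedding.refl _))).upd 1 2 1 (le_of_eq hx13)).upd 1 3 2 (le_of_eq hx14)).upd 2 1 1 (le_of_eq hx31)).upd 2 3 3 (le_of_eq hx34)).upd 3 1 1 (le_of_eq hx41)).upd 3 2 1 (le_of_eq hx43)) ![0,1,1,1] (by decide) (by decide) 1 (by decide))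
    · -- 24=(1,2)
      exact False.elim (cert_false T ((skipEmb 3).trans (Function.Embedding.refl _)) (by norm_num) (fun _ => hall _) (((((LB_zero T ((skipEmb 3).trans (Function.Embedding.refl _))).upd 1 3 2 (le_of_eq hx14)).upd 2 3 1 (le_of_eq hx24)).upd 3 1 1 (le_of_eq hx41)).upd 3 2 2 (le_of_eq hx42)) ![0,2,1,2] (by decide) (by decide) 1 (by decide))
    · -- 24=(2,1)
      exact False.elim (cert_false T ((skipEmb 3).trans (Function.Embedding.refl _)) (by norm_num) (fun _ => hall _) (((((LB_zero T ((skipEmb 3).trans (Function.Embedding.refl _))).upd 1 3 2 (le_of_eq hx14)).upd 2 3 2 (le_of_eq hx24)).upd 3 1 1 (le_of_eq hx41)).upd 3 2 1 (le_of_eq hx42)) ![0,1,1,1] (by decide) (by decide) 1 (by decide))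
    · -- 24=(1,3)
      exact False.elim (cert_false T ((skipEmb 3).trans (Function.Embedding.refl _)) (by norm_num) (fun _ => hall _) (((((LB_zero T ((skipEmb 3).trans (Function.Embedding.refl _))).upd 1 3 2 (le_of_eq hx14)).upd 2 3 1 (le_of_eq hx24)).upd 3 1 1 (le_of_eq hx41)).upd 3 2 3 (le_of_eq hx42)) ![0,1,1,2] (by decide) (by decide) 1 (by decide))
    · -- 24=(3,1)
      exact False.elim (cert_false T ((skipEmb 3).trans (Function.Embedding.refl _)) (by norm_num) (fun _ => hall _) (((((LB_zero T ((skipEmb 3).trans (Function.Embedding.refl _))).upd 1 3 2 (le_of_eq hx14)).upd 2 3 3 (le_of_eq hx24)).upd 3 1 1 (le_of_eq hx41)).upd 3 2 1 (le_of_eq hx42)) ![0,1,1,1] (by decide) (by decide) 1 (by decide))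
  · -- 14=(1,3)
    exact False.elim (cert_false T ((skipEmb 2).trans (Function.Embedding.refl _)) (by norm_num) (fun _ => hall _) (((((LB_zero T ((skipEmb 2).trans (Function.Embedding.refl _))).upd 1 2 1 (le_of_eq hx13)).upd 1 3 1 (le_of_eq hx14)).upd 2 1 1 (le_of_eq hx31)).upd 3 1 3 (le_of_eq hx41)) ![0,2,1,3] (by decide) (by decide) 1 (by decide))
  · -- 14=(3,1)
    exact False.elim (cert_false T ((skipEmb 2).trans (Function.Embedding.refl _)) (by norm_num) (fun _ => hall _) (((((LB_zero T ((skipEmb 2).trans (Function.Embedding.refl _))).upd 1 2 1 (le_of_eq hx13)).upd 1 3 3 (le_of_eq hx14)).upd 2 1 1 (le_of_eq hx31)).upd 3 1 1 (le_of_eq hx41)) ![0,2,1,1] (by decide) (by decide) 1 (by decide))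

theorem case54 (T : NumericalType 5) (hall : ∀ i, T.IsMinusTwo i) (d : SData T)
    (h01 : N T (Function.Embedding.refl _) 0 1 = 0) (h10 : N T (Function.Embedding.refl _) 1 0 = 0)
    (h02 : N T (Function.Embedding.refl _) 0 2 = 0) (h20 : N T (Function.Embedding.refl _) 2 0 = 0)
    (h12 : N T (Function.Embedding.refl _) 1 2 = 0) (h21 : N T (Function.Embedding.refl _) 2 1 = 0)
    (h03 : N T (Function.Embedding.refl _) 0 3 = 1) (h30 : N T (Function.Embedding.refl _) 3 0 = 1)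
    (h13 : N T (Function.Embedding.refl _) 1 3 = 1) (h31 : N T (Function.Embedding.refl _) 3 1 = 1)
    (h23 : N T (Function.Embedding.refl _) 2 3 = 0) (h32 : N T (Function.Embedding.refl _) 3 2 = 0) :
    Goal T := by
  unfold Goal
  have hd := d
  obtain ⟨x01, x02, x03, x04, x10, x12, x13, x14, x20, x21, x23, x24, x30, x31, x32, x34, x40, x41, x42, x43, hx01, hx02, hx03, hx04, hx10, hx12, hx13, hx14, hx20, hx21, hx23, hx24, hx30, hx31, hx32, hx34, hx40, hx41, hx42, hx43, hw0, hm0, hw1, hm1, hw2, hm2, hw3, hm3, hw4, hm4, a00, a01, a02, a03, a04, a11, a10, a12, a13, a14, a22, a20, a21, a23, a24, a33, a30, a31, a32, a34, a44, a40, a41, a42, a43, wN01, wN02, wN12, wN03, wN13, wN23, wN04, wN14, wN24, wN34, e0, e1, e2, e3, e4, d01, d02, d12, d03, d13, d23, d04, d14, d24, d34⟩ := d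
  obtain rfl : x01 = 0 := hx01.trans h01
  obtain rfl : x10 = 0 := hx10.trans h10
  obtain rfl : x02 = 0 := hx02.trans h02
  obtain rfl : x20 = 0 := hx20.trans h20
  obtain rfl : x12 = 0 := hx12.trans h12
  obtain rfl : x21 = 0 := hx21.trans h21
  obtain rfl : x03 = 1 := hx03.trans h03
  obtain rfl : x30 = 1 := hx30.trans h30
  obtain rfl : x13 = 1 := hx13.trans h13
  obtain rfl : x31 = 1 := hx31.trans h31
  obtain rfl : x23 = 0 := hx23.trans h23
  obtain rfl : x32 = 0 := hx32.trans h32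
  rcases d04 with ⟨rfl, rfl⟩ | ⟨rfl, rfl⟩ | ⟨rfl, rfl⟩ | ⟨rfl, rfl⟩ | ⟨rfl, rfl⟩ | ⟨rfl, rfl⟩
  · -- 04=(0,0)
    exact case55 T hall hd hx01.symm hx10.symm hx02.symm hx20.symm hx12.symm hx21.symm hx03.symm hx30.symm hx13.symm hx31.symm hx23.symm hx32.symm hx04.symm hx40.symm
  · -- 04=(1,1)
    rcases d14 with ⟨rfl, rfl⟩ | ⟨rfl, rfl⟩ | ⟨rfl, rfl⟩ | ⟨rfl, rfl⟩ | ⟨rfl, rfl⟩ | ⟨rfl, rfl⟩
    · -- 14=(0,0)
      rcases d24 with ⟨rfl, rfl⟩ | ⟨rfl, rfl⟩ | ⟨rfl, rfl⟩ | ⟨rfl, rfl⟩ | ⟨rfl, rfl⟩ | ⟨rfl, rfl⟩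
      · -- 24=(0,0)
        rcases d34 with ⟨rfl, rfl⟩ | ⟨rfl, rfl⟩ | ⟨rfl, rfl⟩ | ⟨rfl, rfl⟩ | ⟨rfl, rfl⟩ | ⟨rfl, rfl⟩
        · -- 34=(0,0)
          exfalso; omega
        · -- 34=(1,1)
          exact False.elim (cert_false T ((skipEmb 2).trans (Function.Embedding.refl _)) (by norm_num) (fun _ => hall _) (((((((LB_zero T ((skipEmb 2).trans (Function.Embedding.refl _))).upd 0 2 1 (le_of_eq hx03)).upd 0 3 1 (le_of_eq hx04)).upd 2 0 1 (le_of_eq hx30)).upd 2 3 1 (le_of_eq hx34)).upd 3 0 1 (le_of_eq hx40)).upd 3 2 1 (le_of_eq hx43)) ![1,0,1,1] (by decide) (by decide) 0 (by decide))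
        · -- 34=(1,2)
          exact False.elim (cert_false T ((skipEmb 2).trans (Function.Embedding.refl _)) (by norm_num) (fun _ => hall _) (((((((LB_zero T ((skipEmb 2).trans (Function.Embedding.refl _))).upd 0 2 1 (le_of_eq hx03)).upd 0 3 1 (le_of_eq hx04)).upd 2 0 1 (le_of_eq hx30)).upd 2 3 1 (le_of_eq hx34)).upd 3 0 1 (le_of_eq hx40)).upd 3 2 2 (le_of_eq hx43)) ![1,0,1,1] (by decide) (by decide) 0 (by decide))
        · -- 34=(2,1)
          exact False.elim (cert_false T ((skipEmb 2).trans (Function.Embedding.refl _)) (by norm_num) (fun _ => hall _) (((((((LB_zero T ((skipEmb 2).trans (Function.Embedding.refl _))).upd 0 2 1 (le_of_eq hx03)).upd 0 3 1 (le_of_eq hx04)).upd 2 0 1 (le_of_eq hx30)).upd 2 3 2 (le_of_eq hx34)).upd 3 0 1 (le_of_eq hx40)).upd 3 2 1 (le_of_eq hx43)) ![1,0,1,1] (by decide) (by decide) 0 (by decide))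
        · -- 34=(1,3)
          exact False.elim (cert_false T ((skipEmb 2).trans (Function.Embedding.refl _)) (by norm_num) (fun _ => hall _) (((((((LB_zero T ((skipEmb 2).trans (Function.Embedding.refl _))).upd 0 2 1 (le_of_eq hx03)).upd 0 3 1 (le_of_eq hx04)).upd 2 0 1 (le_of_eq hx30)).upd 2 3 1 (le_of_eq hx34)).upd 3 0 1 (le_of_eq hx40)).upd 3 2 3 (le_of_eq hx43)) ![1,0,1,1] (by decide) (by decide) 0 (by decide))
        · -- 34=(3,1)
          exact False.elim (cert_false T ((skipEmb 2).trans (Function.Embedding.refl _)) (by norm_num) (fun _ => hall _) (((((((LB_zero T ((skipEmb 2).trans (Function.Embedding.refl _))).upd 0 2 1 (le_of_eq hx03)).upd 0 3 1 (le_of_eq hx04)).upd 2 0 1 (le_of_eq hx30)).upd 2 3 3 (le_of_eq hx34)).upd 3 0 1 (le_of_eq hx40)).upd 3 2 1 (le_of_eq hx43)) ![1,0,1,1] (by decide) (by decide) 0 (by decide))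
      · -- 24=(1,1)
        rcases d34 with ⟨rfl, rfl⟩ | ⟨rfl, rfl⟩ | ⟨rfl, rfl⟩ | ⟨rfl, rfl⟩ | ⟨rfl, rfl⟩ | ⟨rfl, rfl⟩
        · -- 34=(0,0)
          exfalso; omega
        · -- 34=(1,1)
          exact False.elim (cert_false T ((skipEmb 2).trans (Function.Embedding.refl _)) (by norm_num) (fun _ => hall _) (((((((LB_zero T ((skipEmb 2).trans (Function.Embedding.refl _))).upd 0 2 1 (le_of_eq hx03)).upd 0 3 1 (le_of_eq hx04)).upd 2 0 1 (le_of_eq hx30)).upd 2 3 1 (le_of_eq hx34)).upd 3 0 1 (le_of_eq hx40)).upd 3 2 1 (le_of_eq hx43)) ![1,0,1,1] (by decide) (by decide) 0 (by decide))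
        · -- 34=(1,2)
          exact False.elim (cert_false T ((skipEmb 2).trans (Function.Embedding.refl _)) (by norm_num) (fun _ => hall _) (((((((LB_zero T ((skipEmb 2).trans (Function.Embedding.refl _))).upd 0 2 1 (le_of_eq hx03)).upd 0 3 1 (le_of_eq hx04)).upd 2 0 1 (le_of_eq hx30)).upd 2 3 1 (le_of_eq hx34)).upd 3 0 1 (le_of_eq hx40)).upd 3 2 2 (le_of_eq hx43)) ![1,0,1,1] (by decide) (by decide) 0 (by decide))
        · -- 34=(2,1)
          exact False.elim (cert_false T ((skipEmb 2).trans (Function.Embedding.refl _)) (by norm_num) (fun _ => hall _) (((((((LB_zero T ((skipEmb 2).trans (Function.Embedding.refl _))).upd 0 2 1 (le_of_eq hx03)).upd 0 3 1 (le_of_eq hx04)).upd 2 0 1 (le_of_eq hx30)).upd 2 3 2 (le_of_eq hx34)).upd 3 0 1 (le_of_eq hx40)).upd 3 2 1 (le_of_eq hx43)) ![1,0,1,1] (by decide) (by decide) 0 (by decide))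
        · -- 34=(1,3)
          exact False.elim (cert_false T ((skipEmb 2).trans (Function.Embedding.refl _)) (by norm_num) (fun _ => hall _) (((((((LB_zero T ((skipEmb 2).trans (Function.Embedding.refl _))).upd 0 2 1 (le_of_eq hx03)).upd 0 3 1 (le_of_eq hx04)).upd 2 0 1 (le_of_eq hx30)).upd 2 3 1 (le_of_eq hx34)).upd 3 0 1 (le_of_eq hx40)).upd 3 2 3 (le_of_eq hx43)) ![1,0,1,1] (by decide) (by decide) 0 (by decide))
        · -- 34=(3,1)
          exact False.elim (cert_false T ((skipEmb 2).trans (Function.Embedding.refl _)) (by norm_num) (fun _ => hall _) (((((((LB_zero T ((skipEmb 2).trans (Function.Embedding.refl _))).upd 0 2 1 (le_of_eq hx03)).upd 0 3 1 (le_of_eq hx04)).upd 2 0 1 (le_of_eq hx30)).upd 2 3 3 (le_of_eq hx34)).upd 3 0 1 (le_of_eq hx40)).upd 3 2 1 (le_of_eq hx43)) ![1,0,1,1] (by decide) (by decide) 0 (by decide))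
      · -- 24=(1,2)
        rcases d34 with ⟨rfl, rfl⟩ | ⟨rfl, rfl⟩ | ⟨rfl, rfl⟩ | ⟨rfl, rfl⟩ | ⟨rfl, rfl⟩ | ⟨rfl, rfl⟩
        · -- 34=(0,0)
          exfalso; omega
        · -- 34=(1,1)
          exact False.elim (cert_false T ((skipEmb 2).trans (Function.Embedding.refl _)) (by norm_num) (fun _ => hall _) (((((((LB_zero T ((skipEmb 2).trans (Function.Embedding.refl _))).upd 0 2 1 (le_of_eq hx03)).upd 0 3 1 (le_of_eq hx04)).upd 2 0 1 (le_of_eq hx30)).upd 2 3 1 (le_of_eq hx34)).upd 3 0 1 (le_of_eq hx40)).upd 3 2 1 (le_of_eq hx43)) ![1,0,1,1] (by decide) (by decide) 0 (by decide))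
        · -- 34=(1,2)
          exact False.elim (cert_false T ((skipEmb 2).trans (Function.Embedding.refl _)) (by norm_num) (fun _ => hall _) (((((((LB_zero T ((skipEmb 2).trans (Function.Embedding.refl _))).upd 0 2 1 (le_of_eq hx03)).upd 0 3 1 (le_of_eq hx04)).upd 2 0 1 (le_of_eq hx30)).upd 2 3 1 (le_of_eq hx34)).upd 3 0 1 (le_of_eq hx40)).upd 3 2 2 (le_of_eq hx43)) ![1,0,1,1] (by decide) (by decide) 0 (by decide))
        · -- 34=(2,1)
          exact False.elim (cert_false T ((skipEmb 2).trans (Function.Embedding.refl _)) (by norm_num) (fun _ => hall _) (((((((LB_zero T ((skipEmb 2).trans (Function.Embedding.refl _))).upd 0 2 1 (le_of_eq hx03)).upd 0 3 1 (le_of_eq hx04)).upd 2 0 1 (le_of_eq hx30)).upd 2 3 2 (le_of_eq hx34)).upd 3 0 1 (le_of_eq hx40)).upd 3 2 1 (le_of_eq hx43)) ![1,0,1,1] (by decide) (by decide) 0 (by decide))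
        · -- 34=(1,3)
          exact False.elim (cert_false T ((skipEmb 2).trans (Function.Embedding.refl _)) (by norm_num) (fun _ => hall _) (((((((LB_zero T ((skipEmb 2).trans (Function.Embedding.refl _))).upd 0 2 1 (le_of_eq hx03)).upd 0 3 1 (le_of_eq hx04)).upd 2 0 1 (le_of_eq hx30)).upd 2 3 1 (le_of_eq hx34)).upd 3 0 1 (le_of_eq hx40)).upd 3 2 3 (le_of_eq hx43)) ![1,0,1,1] (by decide) (by decide) 0 (by decide))
        · -- 34=(3,1)
          exact False.elim (cert_false T ((skipEmb 2).trans (Function.Embedding.refl _)) (by norm_num) (fun _ => hall _) (((((((LB_zero T ((skipEmb 2).trans (Function.Embedding.refl _))).upd 0 2 1 (le_of_eq hx03)).upd 0 3 1 (le_of_eq hx04)).upd 2 0 1 (le_of_eq hx30)).upd 2 3 3 (le_of_eq hx34)).upd 3 0 1 (le_of_eq hx40)).upd 3 2 1 (le_of_eq hx43)) ![1,0,1,1] (by decide) (by decide) 0 (by decide))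
      · -- 24=(2,1)
        rcases d34 with ⟨rfl, rfl⟩ | ⟨rfl, rfl⟩ | ⟨rfl, rfl⟩ | ⟨rfl, rfl⟩ | ⟨rfl, rfl⟩ | ⟨rfl, rfl⟩
        · -- 34=(0,0)
          exfalso; omega
        · -- 34=(1,1)
          exact False.elim (cert_false T ((skipEmb 2).trans (Function.Embedding.refl _)) (by norm_num) (fun _ => hall _) (((((((LB_zero T ((skipEmb 2).trans (Function.Embedding.refl _))).upd 0 2 1 (le_of_eq hx03)).upd 0 3 1 (le_of_eq hx04)).upd 2 0 1 (le_of_eq hx30)).upd 2 3 1 (le_of_eq hx34)).upd 3 0 1 (le_of_eq hx40)).upd 3 2 1 (le_of_eq hx43)) ![1,0,1,1] (by decide) (by decide) 0 (by decide))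
        · -- 34=(1,2)
          exact False.elim (cert_false T ((skipEmb 2).trans (Function.Embedding.refl _)) (by norm_num) (fun _ => hall _) (((((((LB_zero T ((skipEmb 2).trans (Function.Embedding.refl _))).upd 0 2 1 (le_of_eq hx03)).upd 0 3 1 (le_of_eq hx04)).upd 2 0 1 (le_of_eq hx30)).upd 2 3 1 (le_of_eq hx34)).upd 3 0 1 (le_of_eq hx40)).upd 3 2 2 (le_of_eq hx43)) ![1,0,1,1] (by decide) (by decide) 0 (by decide))
        · -- 34=(2,1)
          exact False.elim (cert_false T ((skipEmb 2).trans (Function.Embedding.refl _)) (by norm_num) (fun _ => hall _) (((((((LB_zero T ((skipEmb 2).trans (Function.Embedding.refl _))).upd 0 2 1 (le_of_eq hx03)).upd 0 3 1 (le_of_eq hx04)).upd 2 0 1 (le_of_eq hx30)).upd 2 3 2 (le_of_eq hx34)).upd 3 0 1 (le_of_eq hx40)).upd 3 2 1 (le_of_eq hx43)) ![1,0,1,1] (by decide) (by decide) 0 (by decide))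
        · -- 34=(1,3)
          exact False.elim (cert_false T ((skipEmb 2).trans (Function.Embedding.refl _)) (by norm_num) (fun _ => hall _) (((((((LB_zero T ((skipEmb 2).trans (Function.Embedding.refl _))).upd 0 2 1 (le_of_eq hx03)).upd 0 3 1 (le_of_eq hx04)).upd 2 0 1 (le_of_eq hx30)).upd 2 3 1 (le_of_eq hx34)).upd 3 0 1 (le_of_eq hx40)).upd 3 2 3 (le_of_eq hx43)) ![1,0,1,1] (by decide) (by decide) 0 (by decide))
        · -- 34=(3,1)
          exact False.elim (cert_false T ((skipEmb 2).trans (Function.Embedding.refl _)) (by norm_num) (fun _ => hall _) (((((((LB_zero T ((skipEmb 2).trans (Function.Embedding.refl _))).upd 0 2 1 (le_of_eq hx03)).upd 0 3 1 (le_of_eq hx04)).upd 2 0 1 (le_of_eq hx30)).upd 2 3 3 (le_of_eq hx34)).upd 3 0 1 (le_of_eq hx40)).upd 3 2 1 (le_of_eq hx43)) ![1,0,1,1] (by decide) (by decide) 0 (by decide))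
      · -- 24=(1,3)
        exact False.elim (cert_false T ((skipEmb 3).trans (Function.Embedding.refl _)) (by norm_num) (fun _ => hall _) (((((LB_zero T ((skipEmb 3).trans (Function.Embedding.refl _))).upd 0 3 1 (le_of_eq hx04)).upd 2 3 1 (le_of_eq hx24)).upd 3 0 1 (le_of_eq hx40)).upd 3 2 3 (le_of_eq hx42)) ![1,0,1,2] (by decide) (by decide) 0 (by decide))
      · -- 24=(3,1)
        exact False.elim (cert_false T ((skipEmb 3).trans (Function.Embedding.refl _)) (by norm_num) (fun _ => hall _) (((((LB_zero T ((skipEmb 3).trans (Function.Embedding.refl _))).upd 0 3 1 (le_of_eq hx04)).upd 2 3 3 (le_of_eq hx24)).upd 3 0 1 (le_of_eq hx40)).upd 3 2 1 (le_of_eq hx42)) ![1,0,3,2] (by decide) (by decide) 0 (by decide))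
    · -- 14=(1,1)
      exact False.elim (cert_false T ((skipEmb 2).trans (Function.Embedding.refl _)) (by norm_num) (fun _ => hall _) (((((((((LB_zero T ((skipEmb 2).trans (Function.Embedding.refl _))).upd 0 2 1 (le_of_eq hx03)).upd 0 3 1 (le_of_eq hx04)).upd 1 2 1 (le_of_eq hx13)).upd 1 3 1 (le_of_eq hx14)).upd 2 0 1 (le_of_eq hx30)).upd 2 1 1 (le_of_eq hx31)).upd 3 0 1 (le_of_eq hx40)).upd 3 1 1 (le_of_eq hx41)) ![1,1,1,1] (by decide) (by decide) 0 (by decide))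
    · -- 14=(1,2)
      exact False.elim (cert_false T ((skipEmb 2).trans (Function.Embedding.refl _)) (by norm_num) (fun _ => hall _) (((((((((LB_zero T ((skipEmb 2).trans (Function.Embedding.refl _))).upd 0 2 1 (le_of_eq hx03)).upd 0 3 1 (le_of_eq hx04)).upd 1 2 1 (le_of_eq hx13)).upd 1 3 1 (le_of_eq hx14)).upd 2 0 1 (le_of_eq hx30)).upd 2 1 1 (le_of_eq hx31)).upd 3 0 1 (le_of_eq hx40)).upd 3 1 2 (le_of_eq hx41)) ![1,1,1,1] (by decide) (by decide) 0 (by decide))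
    · -- 14=(2,1)
      exact False.elim (cert_false T ((skipEmb 2).trans (Function.Embedding.refl _)) (by norm_num) (fun _ => hall _) (((((((((LB_zero T ((skipEmb 2).trans (Function.Embedding.refl _))).upd 0 2 1 (le_of_eq hx03)).upd 0 3 1 (le_of_eq hx04)).upd 1 2 1 (le_of_eq hx13)).upd 1 3 2 (le_of_eq hx14)).upd 2 0 1 (le_of_eq hx30)).upd 2 1 1 (le_of_eq hx31)).upd 3 0 1 (le_of_eq hx40)).upd 3 1 1 (le_of_eq hx41)) ![1,1,1,1] (by decide) (by decide) 0 (by decide))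
    · -- 14=(1,3)
      exact False.elim (cert_false T ((skipEmb 3).trans (Function.Embedding.refl _)) (by norm_num) (fun _ => hall _) (((((LB_zero T ((skipEmb 3).trans (Function.Embedding.refl _))).upd 0 3 1 (le_of_eq hx04)).upd 1 3 1 (le_of_eq hx14)).upd 3 0 1 (le_of_eq hx40)).upd 3 1 3 (le_of_eq hx41)) ![1,1,0,2] (by decide) (by decide) 0 (by decide))
    · -- 14=(3,1)
      exact False.elim (cert_false T ((skipEmb 3).trans (Function.Embedding.refl _)) (by norm_num) (fun _ => hall _) (((((LB_zero T ((skipEmb 3).trans (Function.Embedding.refl _))).upd 0 3 1 (le_of_eq hx04)).upd 1 3 3 (le_of_eq hx14)).upd 3 0 1 (le_of_eq hx40)).upd 3 1 1 (le_of_eq hx41)) ![1,3,0,2] (by decide) (by decide) 0 (by decide))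
  · -- 04=(1,2)
    rcases d14 with ⟨rfl, rfl⟩ | ⟨rfl, rfl⟩ | ⟨rfl, rfl⟩ | ⟨rfl, rfl⟩ | ⟨rfl, rfl⟩ | ⟨rfl, rfl⟩
    · -- 14=(0,0)
      rcases d24 with ⟨rfl, rfl⟩ | ⟨rfl, rfl⟩ | ⟨rfl, rfl⟩ | ⟨rfl, rfl⟩ | ⟨rfl, rfl⟩ | ⟨rfl, rfl⟩
      · -- 24=(0,0)
        rcases d34 with ⟨rfl, rfl⟩ | ⟨rfl, rfl⟩ | ⟨rfl, rfl⟩ | ⟨rfl, rfl⟩ | ⟨rfl, rfl⟩ | ⟨rfl, rfl⟩
        · -- 34=(0,0)
          exfalso; omega
        · -- 34=(1,1)
          exact False.elim (cert_false T ((skipEmb 2).trans (Function.Embedding.refl _)) (by norm_num) (fun _ => hall _) (((((((LB_zero T ((skipEmb 2).trans (Function.Embedding.refl _))).upd 0 2 1 (le_of_eq hx03)).upd 0 3 1 (le_of_eq hx04)).upd 2 0 1 (le_of_eq hx30)).upd 2 3 1 (le_of_eq hx34)).upd 3 0 2 (le_of_eq hx40)).upd 3 2 1 (le_of_eq hx43)) ![1,0,1,1] (by decide) (by decide) 0 (by decide))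
        · -- 34=(1,2)
          exact False.elim (cert_false T ((skipEmb 2).trans (Function.Embedding.refl _)) (by norm_num) (fun _ => hall _) (((((((LB_zero T ((skipEmb 2).trans (Function.Embedding.refl _))).upd 0 2 1 (le_of_eq hx03)).upd 0 3 1 (le_of_eq hx04)).upd 2 0 1 (le_of_eq hx30)).upd 2 3 1 (le_of_eq hx34)).upd 3 0 2 (le_of_eq hx40)).upd 3 2 2 (le_of_eq hx43)) ![1,0,1,1] (by decide) (by decide) 0 (by decide))
        · -- 34=(2,1)
          exact False.elim (cert_false T ((skipEmb 2).trans (Function.Embedding.refl _)) (by norm_num) (fun _ => hall _) (((((((LB_zero T ((skipEmb 2).trans (Function.Embedding.refl _))).upd 0 2 1 (le_of_eq hx03)).upd 0 3 1 (le_of_eq hx04)).upd 2 0 1 (le_of_eq hx30)).upd 2 3 2 (le_of_eq hx34)).upd 3 0 2 (le_of_eq hx40)).upd 3 2 1 (le_of_eq hx43)) ![1,0,1,1] (by decide) (by decide) 0 (by decide))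
        · -- 34=(1,3)
          exact False.elim (cert_false T ((skipEmb 2).trans (Function.Embedding.refl _)) (by norm_num) (fun _ => hall _) (((((((LB_zero T ((skipEmb 2).trans (Function.Embedding.refl _))).upd 0 2 1 (le_of_eq hx03)).upd 0 3 1 (le_of_eq hx04)).upd 2 0 1 (le_of_eq hx30)).upd 2 3 1 (le_of_eq hx34)).upd 3 0 2 (le_of_eq hx40)).upd 3 2 3 (le_of_eq hx43)) ![1,0,1,1] (by decide) (by decide) 0 (by decide))
        · -- 34=(3,1)
          exact False.elim (cert_false T ((skipEmb 2).trans (Function.Embedding.refl _)) (by norm_num) (fun _ => hall _) (((((((LB_zero T ((skipEmb 2).trans (Function.Embedding.refl _))).upd 0 2 1 (le_of_eq hx03)).upd 0 3 1 (le_of_eq hx04)).upd 2 0 1 (le_of_eq hx30)).upd 2 3 3 (le_of_eq hx34)).upd 3 0 2 (le_of_eq hx40)).upd 3 2 1 (le_of_eq hx43)) ![1,0,1,1] (by decide) (by decide) 0 (by decide))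
      · -- 24=(1,1)
        rcases d34 with ⟨rfl, rfl⟩ | ⟨rfl, rfl⟩ | ⟨rfl, rfl⟩ | ⟨rfl, rfl⟩ | ⟨rfl, rfl⟩ | ⟨rfl, rfl⟩
        · -- 34=(0,0)
          refine ⟨(⟨![1, 3, 0, 4, 2], ![2, 0, 4, 1, 3], by decide, by decide⟩ : Equiv.Perm (Fin 5)), T.m 1, T.w 4, Or.inr (Or.inr (Or.inl ?_))⟩
          show T.m 1 = T.m 1 ∧ T.m 3 = 2 * T.m 1 ∧ T.m 0 = 3 * T.m 1 ∧ T.m 4 = 4 * T.m 1 ∧ T.m 2 = 2 * T.m 1 ∧ T.w 1 = 2 * T.w 4 ∧ T.w 3 = 2 * T.w 4 ∧ T.w 0 = 2 * T.w 4 ∧ T.w 4 = T.w 4 ∧ T.w 2 = T.w 4 ∧ T.a 1 1 = -4 * T.w 4 ∧ T.a 1 3 = 2 * T.w 4 ∧ T.a 1 0 = 0 ∧ T.a 1 4 = 0 ∧ T.a 1 2 = 0 ∧ T.a 3 3 = -4 * T.w 4 ∧ T.a 3 0 = 2 * T.w 4 ∧ T.a 3 4 = 0 ∧ T.a 3 2 = 0 ∧ T.a 0 0 = -4 * T.w 4 ∧ T.a 0 4 = 2 * T.w 4 ∧ T.a 0 2 = 0 ∧ T.a 4 4 = -2 * T.w 4 ∧ T.a 4 2 = T.w 4 ∧ T.a 2 2 = -2 * T.w 4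
          refine ⟨?_, ?_, ?_, ?_, ?_, ?_, ?_, ?_, ?_, ?_, ?_, ?_, ?_, ?_, ?_, ?_, ?_, ?_, ?_, ?_, ?_, ?_, ?_, ?_, ?_⟩ <;> omega
        · -- 34=(1,1)
          exact False.elim (cert_false T ((skipEmb 2).trans (Function.Embedding.refl _)) (by norm_num) (fun _ => hall _) (((((((LB_zero T ((skipEmb 2).trans (Function.Embedding.refl _))).upd 0 2 1 (le_of_eq hx03)).upd 0 3 1 (le_of_eq hx04)).upd 2 0 1 (le_of_eq hx30)).upd 2 3 1 (le_of_eq hx34)).upd 3 0 2 (le_of_eq hx40)).upd 3 2 1 (le_of_eq hx43)) ![1,0,1,1] (by decide) (by decide) 0 (by decide))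
        · -- 34=(1,2)
          exact False.elim (cert_false T ((skipEmb 2).trans (Function.Embedding.refl _)) (by norm_num) (fun _ => hall _) (((((((LB_zero T ((skipEmb 2).trans (Function.Embedding.refl _))).upd 0 2 1 (le_of_eq hx03)).upd 0 3 1 (le_of_eq hx04)).upd 2 0 1 (le_of_eq hx30)).upd 2 3 1 (le_of_eq hx34)).upd 3 0 2 (le_of_eq hx40)).upd 3 2 2 (le_of_eq hx43)) ![1,0,1,1] (by decide) (by decide) 0 (by decide))
        · -- 34=(2,1)
          exact False.elim (cert_false T ((skipEmb 2).trans (Function.Embedding.refl _)) (by norm_num) (fun _ => hall _) (((((((LB_zero T ((skipEmb 2).trans (Function.Embedding.refl _))).upd 0 2 1 (le_of_eq hx03)).upd 0 3 1 (le_of_eq hx04)).upd 2 0 1 (le_of_eq hx30)).upd 2 3 2 (le_of_eq hx34)).upd 3 0 2 (le_of_eq hx40)).upd 3 2 1 (le_of_eq hx43)) ![1,0,1,1] (by decide) (by decide) 0 (by decide))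
        · -- 34=(1,3)
          exact False.elim (cert_false T ((skipEmb 2).trans (Function.Embedding.refl _)) (by norm_num) (fun _ => hall _) (((((((LB_zero T ((skipEmb 2).trans (Function.Embedding.refl _))).upd 0 2 1 (le_of_eq hx03)).upd 0 3 1 (le_of_eq hx04)).upd 2 0 1 (le_of_eq hx30)).upd 2 3 1 (le_of_eq hx34)).upd 3 0 2 (le_of_eq hx40)).upd 3 2 3 (le_of_eq hx43)) ![1,0,1,1] (by decide) (by decide) 0 (by decide))
        · -- 34=(3,1)
          exact False.elim (cert_false T ((skipEmb 2).trans (Function.Embedding.refl _)) (by norm_num) (fun _ => hall _) (((((((LB_zero T ((skipEmb 2).trans (Function.Embedding.refl _))).upd 0 2 1 (le_of_eq hx03)).upd 0 3 1 (le_of_eq hx04)).upd 2 0 1 (le_of_eq hx30)).upd 2 3 3 (le_of_eq hx34)).upd 3 0 2 (le_of_eq hx40)).upd 3 2 1 (le_of_eq hx43)) ![1,0,1,1] (by decide) (by decide) 0 (by decide))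
      · -- 24=(1,2)
        exact False.elim (cert_false T ((skipEmb 3).trans (Function.Embedding.refl _)) (by norm_num) (fun _ => hall _) (((((LB_zero T ((skipEmb 3).trans (Function.Embedding.refl _))).upd 0 3 1 (le_of_eq hx04)).upd 2 3 1 (le_of_eq hx24)).upd 3 0 2 (le_of_eq hx40)).upd 3 2 2 (le_of_eq hx42)) ![1,0,1,2] (by decide) (by decide) 0 (by decide))
      · -- 24=(2,1)
        exact False.elim (cert_false T ((skipEmb 3).trans (Function.Embedding.refl _)) (by norm_num) (fun _ => hall _) (((((LB_zero T ((skipEmb 3).trans (Function.Embedding.refl _))).upd 0 3 1 (le_of_eq hx04)).upd 2 3 2 (le_of_eq hx24)).upd 3 0 2 (le_of_eq hx40)).upd 3 2 1 (le_of_eq hx42)) ![1,0,2,2] (by decide) (by decide) 0 (by decide))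
      · -- 24=(1,3)
        exact False.elim (cert_false T ((skipEmb 3).trans (Function.Embedding.refl _)) (by norm_num) (fun _ => hall _) (((((LB_zero T ((skipEmb 3).trans (Function.Embedding.refl _))).upd 0 3 1 (le_of_eq hx04)).upd 2 3 1 (le_of_eq hx24)).upd 3 0 2 (le_of_eq hx40)).upd 3 2 3 (le_of_eq hx42)) ![1,0,1,2] (by decide) (by decide) 0 (by decide))
      · -- 24=(3,1)
        exact False.elim (cert_false T ((skipEmb 3).trans (Function.Embedding.refl _)) (by norm_num) (fun _ => hall _) (((((LB_zero T ((skipEmb 3).trans (Function.Embedding.refl _))).upd 0 3 1 (le_of_eq hx04)).upd 2 3 3 (le_of_eq hx24)).upd 3 0 2 (le_of_eq hx40)).upd 3 2 1 (le_of_eq hx42)) ![1,0,2,2] (by decide) (by decide) 0 (by decide))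
    · -- 14=(1,1)
      exact False.elim (cert_false T ((skipEmb 2).trans (Function.Embedding.refl _)) (by norm_num) (fun _ => hall _) (((((((((LB_zero T ((skipEmb 2).trans (Function.Embedding.refl _))).upd 0 2 1 (le_of_eq hx03)).upd 0 3 1 (le_of_eq hx04)).upd 1 2 1 (le_of_eq hx13)).upd 1 3 1 (le_of_eq hx14)).upd 2 0 1 (le_of_eq hx30)).upd 2 1 1 (le_of_eq hx31)).upd 3 0 2 (le_of_eq hx40)).upd 3 1 1 (le_of_eq hx41)) ![1,1,1,1] (by decide) (by decide) 0 (by decide))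
    · -- 14=(1,2)
      exact False.elim (cert_false T ((skipEmb 3).trans (Function.Embedding.refl _)) (by norm_num) (fun _ => hall _) (((((LB_zero T ((skipEmb 3).trans (Function.Embedding.refl _))).upd 0 3 1 (le_of_eq hx04)).upd 1 3 1 (le_of_eq hx14)).upd 3 0 2 (le_of_eq hx40)).upd 3 1 2 (le_of_eq hx41)) ![1,1,0,2] (by decide) (by decide) 0 (by decide))
    · -- 14=(2,1)
      exact False.elim (cert_false T ((skipEmb 3).trans (Function.Embedding.refl _)) (by norm_num) (fun _ => hall _) (((((LB_zero T ((skipEmb 3).trans (Function.Embedding.refl _))).upd 0 3 1 (le_of_eq hx04)).upd 1 3 2 (le_of_eq hx14)).upd 3 0 2 (le_of_eq hx40)).upd 3 1 1 (le_of_eq hx41)) ![1,2,0,2] (by decide) (by decide) 0 (by decide))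
    · -- 14=(1,3)
      exact False.elim (cert_false T ((skipEmb 3).trans (Function.Embedding.refl _)) (by norm_num) (fun _ => hall _) (((((LB_zero T ((skipEmb 3).trans (Function.Embedding.refl _))).upd 0 3 1 (le_of_eq hx04)).upd 1 3 1 (le_of_eq hx14)).upd 3 0 2 (le_of_eq hx40)).upd 3 1 3 (le_of_eq hx41)) ![1,1,0,2] (by decide) (by decide) 0 (by decide))
    · -- 14=(3,1)
      exact False.elim (cert_false T ((skipEmb 3).trans (Function.Embedding.refl _)) (by norm_num) (fun _ => hall _) (((((LB_zero T ((skipEmb 3).trans (Function.Embedding.refl _))).upd 0 3 1 (le_of_eq hx04)).upd 1 3 3 (le_of_eq hx14)).upd 3 0 2 (le_of_eq hx40)).upd 3 1 1 (le_of_eq hx41)) ![1,2,0,2] (by decide) (by decide) 0 (by decide))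
  · -- 04=(2,1)
    rcases d14 with ⟨rfl, rfl⟩ | ⟨rfl, rfl⟩ | ⟨rfl, rfl⟩ | ⟨rfl, rfl⟩ | ⟨rfl, rfl⟩ | ⟨rfl, rfl⟩
    · -- 14=(0,0)
      rcases d24 with ⟨rfl, rfl⟩ | ⟨rfl, rfl⟩ | ⟨rfl, rfl⟩ | ⟨rfl, rfl⟩ | ⟨rfl, rfl⟩ | ⟨rfl, rfl⟩
      · -- 24=(0,0)
        rcases d34 with ⟨rfl, rfl⟩ | ⟨rfl, rfl⟩ | ⟨rfl, rfl⟩ | ⟨rfl, rfl⟩ | ⟨rfl, rfl⟩ | ⟨rfl, rfl⟩
        · -- 34=(0,0)
          exfalso; omega
        · -- 34=(1,1)
          exact False.elim (cert_false T ((skipEmb 2).trans (Function.Embedding.refl _)) (by norm_num) (fun _ => hall _) (((((((LB_zero T ((skipEmb 2).trans (Function.Embedding.refl _))).upd 0 2 1 (le_of_eq hx03)).upd 0 3 2 (le_of_eq hx04)).upd 2 0 1 (le_of_eq hx30)).upd 2 3 1 (le_of_eq hx34)).upd 3 0 1 (le_of_eq hx40)).upd 3 2 1 (le_of_eq hx43)) ![1,0,1,1] (by decide) (by decide) 0 (by decide))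
        · -- 34=(1,2)
          exact False.elim (cert_false T ((skipEmb 2).trans (Function.Embedding.refl _)) (by norm_num) (fun _ => hall _) (((((((LB_zero T ((skipEmb 2).trans (Function.Embedding.refl _))).upd 0 2 1 (le_of_eq hx03)).upd 0 3 2 (le_of_eq hx04)).upd 2 0 1 (le_of_eq hx30)).upd 2 3 1 (le_of_eq hx34)).upd 3 0 1 (le_of_eq hx40)).upd 3 2 2 (le_of_eq hx43)) ![1,0,1,1] (by decide) (by decide) 0 (by decide))
        · -- 34=(2,1)
          exact False.elim (cert_false T ((skipEmb 2).trans (Function.Embedding.refl _)) (by norm_num) (fun _ => hall _) (((((((LB_zero T ((skipEmb 2).trans (Function.Embedding.refl _))).upd 0 2 1 (le_of_eq hx03)).upd 0 3 2 (le_of_eq hx04)).upd 2 0 1 (le_of_eq hx30)).upd 2 3 2 (le_of_eq hx34)).upd 3 0 1 (le_of_eq hx40)).upd 3 2 1 (le_of_eq hx43)) ![1,0,1,1] (by decide) (by decide) 0 (by decide))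
        · -- 34=(1,3)
          exact False.elim (cert_false T ((skipEmb 2).trans (Function.Embedding.refl _)) (by norm_num) (fun _ => hall _) (((((((LB_zero T ((skipEmb 2).trans (Function.Embedding.refl _))).upd 0 2 1 (le_of_eq hx03)).upd 0 3 2 (le_of_eq hx04)).upd 2 0 1 (le_of_eq hx30)).upd 2 3 1 (le_of_eq hx34)).upd 3 0 1 (le_of_eq hx40)).upd 3 2 3 (le_of_eq hx43)) ![1,0,1,1] (by decide) (by decide) 0 (by decide))
        · -- 34=(3,1)
          exact False.elim (cert_false T ((skipEmb 2).trans (Function.Embedding.refl _)) (by norm_num) (fun _ => hall _) (((((((LB_zero T ((skipEmb 2).trans (Function.Embedding.refl _))).upd 0 2 1 (le_of_eq hx03)).upd 0 3 2 (le_of_eq hx04)).upd 2 0 1 (le_of_eq hx30)).upd 2 3 3 (le_of_eq hx34)).upd 3 0 1 (le_of_eq hx40)).upd 3 2 1 (le_of_eq hx43)) ![1,0,1,1] (by decide) (by decide) 0 (by decide))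
      · -- 24=(1,1)
        rcases d34 with ⟨rfl, rfl⟩ | ⟨rfl, rfl⟩ | ⟨rfl, rfl⟩ | ⟨rfl, rfl⟩ | ⟨rfl, rfl⟩ | ⟨rfl, rfl⟩
        · -- 34=(0,0)
          refine ⟨(⟨![1, 3, 0, 4, 2], ![2, 0, 4, 1, 3], by decide, by decide⟩ : Equiv.Perm (Fin 5)), T.m 1, T.w 1, Or.inr (Or.inl ?_)⟩
          show T.m 1 = T.m 1 ∧ T.m 3 = 2 * T.m 1 ∧ T.m 0 = 3 * T.m 1 ∧ T.m 4 = 2 * T.m 1 ∧ T.m 2 = T.m 1 ∧ T.w 1 = T.w 1 ∧ T.w 3 = T.w 1 ∧ T.w 0 = T.w 1 ∧ T.w 4 = 2 * T.w 1 ∧ T.w 2 = 2 * T.w 1 ∧ T.a 1 1 = -2 * T.w 1 ∧ T.a 1 3 = T.w 1 ∧ T.a 1 0 = 0 ∧ T.a 1 4 = 0 ∧ T.a 1 2 = 0 ∧ T.a 3 3 = -2 * T.w 1 ∧ T.a 3 0 = T.w 1 ∧ T.a 3 4 = 0 ∧ T.a 3 2 = 0 ∧ T.a 0 0 = -2 * T.w 1 ∧ T.a 0 4 = 2 * T.w 1 ∧ T.a 0 2 = 0 ∧ T.a 4 4 = -4 * T.w 1 ∧ T.a 4 2 = 2 * T.w 1 ∧ T.a 2 2 = -4 * T.w 1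
          refine ⟨?_, ?_, ?_, ?_, ?_, ?_, ?_, ?_, ?_, ?_, ?_, ?_, ?_, ?_, ?_, ?_, ?_, ?_, ?_, ?_, ?_, ?_, ?_, ?_, ?_⟩ <;> omega
        · -- 34=(1,1)
          exact False.elim (cert_false T ((skipEmb 2).trans (Function.Embedding.refl _)) (by norm_num) (fun _ => hall _) (((((((LB_zero T ((skipEmb 2).trans (Function.Embedding.refl _))).upd 0 2 1 (le_of_eq hx03)).upd 0 3 2 (le_of_eq hx04)).upd 2 0 1 (le_of_eq hx30)).upd 2 3 1 (le_of_eq hx34)).upd 3 0 1 (le_of_eq hx40)).upd 3 2 1 (le_of_eq hx43)) ![1,0,1,1] (by decide) (by decide) 0 (by decide))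
        · -- 34=(1,2)
          exact False.elim (cert_false T ((skipEmb 2).trans (Function.Embedding.refl _)) (by norm_num) (fun _ => hall _) (((((((LB_zero T ((skipEmb 2).trans (Function.Embedding.refl _))).upd 0 2 1 (le_of_eq hx03)).upd 0 3 2 (le_of_eq hx04)).upd 2 0 1 (le_of_eq hx30)).upd 2 3 1 (le_of_eq hx34)).upd 3 0 1 (le_of_eq hx40)).upd 3 2 2 (le_of_eq hx43)) ![1,0,1,1] (by decide) (by decide) 0 (by decide))
        · -- 34=(2,1)
          exact False.elim (cert_false T ((skipEmb 2).trans (Function.Embedding.refl _)) (by norm_num) (fun _ => hall _) (((((((LB_zero T ((skipEmb 2).trans (Function.Embedding.refl _))).upd 0 2 1 (le_of_eq hx03)).upd 0 3 2 (le_of_eq hx04)).upd 2 0 1 (le_of_eq hx30)).upd 2 3 2 (le_of_eq hx34)).upd 3 0 1 (le_of_eq hx40)).upd 3 2 1 (le_of_eq hx43)) ![1,0,1,1] (by decide) (by decide) 0 (by decide))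
        · -- 34=(1,3)
          exact False.elim (cert_false T ((skipEmb 2).trans (Function.Embedding.refl _)) (by norm_num) (fun _ => hall _) (((((((LB_zero T ((skipEmb 2).trans (Function.Embedding.refl _))).upd 0 2 1 (le_of_eq hx03)).upd 0 3 2 (le_of_eq hx04)).upd 2 0 1 (le_of_eq hx30)).upd 2 3 1 (le_of_eq hx34)).upd 3 0 1 (le_of_eq hx40)).upd 3 2 3 (le_of_eq hx43)) ![1,0,1,1] (by decide) (by decide) 0 (by decide))
        · -- 34=(3,1)
          exact False.elim (cert_false T ((skipEmb 2).trans (Function.Embedding.refl _)) (by norm_num) (fun _ => hall _) (((((((LB_zero T ((skipEmb 2).trans (Function.Embedding.refl _))).upd 0 2 1 (le_of_eq hx03)).upd 0 3 2 (le_of_eq hx04)).upd 2 0 1 (le_of_eq hx30)).upd 2 3 3 (le_of_eq hx34)).upd 3 0 1 (le_of_eq hx40)).upd 3 2 1 (le_of_eq hx43)) ![1,0,1,1] (by decide) (by decide) 0 (by decide))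
      · -- 24=(1,2)
        exact False.elim (cert_false T ((skipEmb 3).trans (Function.Embedding.refl _)) (by norm_num) (fun _ => hall _) (((((LB_zero T ((skipEmb 3).trans (Function.Embedding.refl _))).upd 0 3 2 (le_of_eq hx04)).upd 2 3 1 (le_of_eq hx24)).upd 3 0 1 (le_of_eq hx40)).upd 3 2 2 (le_of_eq hx42)) ![2,0,1,2] (by decide) (by decide) 0 (by decide))
      · -- 24=(2,1)
        exact False.elim (cert_false T ((skipEmb 3).trans (Function.Embedding.refl _)) (by norm_num) (fun _ => hall _) (((((LB_zero T ((skipEmb 3).trans (Function.Embedding.refl _))).upd 0 3 2 (le_of_eq hx04)).upd 2 3 2 (le_of_eq hx24)).upd 3 0 1 (le_of_eq hx40)).upd 3 2 1 (le_of_eq hx42)) ![1,0,1,1] (by decide) (by decide) 0 (by decide))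
      · -- 24=(1,3)
        exact False.elim (cert_false T ((skipEmb 3).trans (Function.Embedding.refl _)) (by norm_num) (fun _ => hall _) (((((LB_zero T ((skipEmb 3).trans (Function.Embedding.refl _))).upd 0 3 2 (le_of_eq hx04)).upd 2 3 1 (le_of_eq hx24)).upd 3 0 1 (le_of_eq hx40)).upd 3 2 3 (le_of_eq hx42)) ![1,0,1,2] (by decide) (by decide) 0 (by decide))
      · -- 24=(3,1)
        exact False.elim (cert_false T ((skipEmb 3).trans (Function.Embedding.refl _)) (by norm_num) (fun _ => hall _) (((((LB_zero T ((skipEmb 3).trans (Function.Embedding.refl _))).upd 0 3 2 (le_of_eq hx04)).upd 2 3 3 (le_of_eq hx24)).upd 3 0 1 (le_of_eq hx40)).upd 3 2 1 (le_of_eq hx42)) ![1,0,1,1] (by decide) (by decide) 0 (by decide))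
    · -- 14=(1,1)
      exact False.elim (cert_false T ((skipEmb 2).trans (Function.Embedding.refl _)) (by norm_num) (fun _ => hall _) (((((((((LB_zero T ((skipEmb 2).trans (Function.Embedding.refl _))).upd 0 2 1 (le_of_eq hx03)).upd 0 3 2 (le_of_eq hx04)).upd 1 2 1 (le_of_eq hx13)).upd 1 3 1 (le_of_eq hx14)).upd 2 0 1 (le_of_eq hx30)).upd 2 1 1 (le_of_eq hx31)).upd 3 0 1 (le_of_eq hx40)).upd 3 1 1 (le_of_eq hx41)) ![1,1,1,1] (by decide) (by decide) 0 (by decide))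
    · -- 14=(1,2)
      exact False.elim (cert_false T ((skipEmb 3).trans (Function.Embedding.refl _)) (by norm_num) (fun _ => hall _) (((((LB_zero T ((skipEmb 3).trans (Function.Embedding.refl _))).upd 0 3 2 (le_of_eq hx04)).upd 1 3 1 (le_of_eq hx14)).upd 3 0 1 (le_of_eq hx40)).upd 3 1 2 (le_of_eq hx41)) ![2,1,0,2] (by decide) (by decide) 0 (by decide))
    · -- 14=(2,1)
      exact False.elim (cert_false T ((skipEmb 3).trans (Function.Embedding.refl _)) (by norm_num) (fun _ => hall _) (((((LB_zero T ((skipEmb 3).trans (Function.Embedding.refl _))).upd 0 3 2 (le_of_eq hx04)).upd 1 3 2 (le_of_eq hx14)).upd 3 0 1 (le_of_eq hx40)).upd 3 1 1 (le_of_eq hx41)) ![1,1,0,1] (by decide) (by decide) 0 (by decide))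
    · -- 14=(1,3)
      exact False.elim (cert_false T ((skipEmb 3).trans (Function.Embedding.refl _)) (by norm_num) (fun _ => hall _) (((((LB_zero T ((skipEmb 3).trans (Function.Embedding.refl _))).upd 0 3 2 (le_of_eq hx04)).upd 1 3 1 (le_of_eq hx14)).upd 3 0 1 (le_of_eq hx40)).upd 3 1 3 (le_of_eq hx41)) ![1,1,0,2] (by decide) (by decide) 0 (by decide))
    · -- 14=(3,1)
      exact False.elim (cert_false T ((skipEmb 3).trans (Function.Embedding.refl _)) (by norm_num) (fun _ => hall _) (((((LB_zero T ((skipEmb 3).trans (Function.Embedding.refl _))).upd 0 3 2 (le_of_eq hx04)).upd 1 3 3 (le_of_eq hx14)).upd 3 0 1 (le_of_eq hx40)).upd 3 1 1 (le_of_eq hx41)) ![1,1,0,1] (by decide) (by decide) 0 (by decide))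
  · -- 04=(1,3)
    exact False.elim (cert_false T ((skipEmb 2).trans (Function.Embedding.refl _)) (by norm_num) (fun _ => hall _) (((((LB_zero T ((skipEmb 2).trans (Function.Embedding.refl _))).upd 0 2 1 (le_of_eq hx03)).upd 0 3 1 (le_of_eq hx04)).upd 2 0 1 (le_of_eq hx30)).upd 3 0 3 (le_of_eq hx40)) ![2,0,1,3] (by decide) (by decide) 0 (by decide))
  · -- 04=(3,1)
    exact False.elim (cert_false T ((skipEmb 2).trans (Function.Embedding.refl _)) (by norm_num) (fun _ => hall _) (((((LB_zero T ((skipEmb 2).trans (Function.Embedding.refl _))).upd 0 2 1 (le_of_eq hx03)).upd 0 3 3 (le_of_eq hx04)).upd 2 0 1 (le_of_eq hx30)).upd 3 0 1 (le_of_eq hx40)) ![2,0,1,1] (by decide) (by decide) 0 (by decide))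

theorem case57 (T : NumericalType 5) (hall : ∀ i, T.IsMinusTwo i) (d : SData T)
    (h01 : N T (Function.Embedding.refl _) 0 1 = 0) (h10 : N T (Function.Embedding.refl _) 1 0 = 0)
    (h02 : N T (Function.Embedding.refl _) 0 2 = 0) (h20 : N T (Function.Embedding.refl _) 2 0 = 0)
    (h12 : N T (Function.Embedding.refl _) 1 2 = 0) (h21 : N T (Function.Embedding.refl _) 2 1 = 0)
    (h03 : N T (Function.Embedding.refl _) 0 3 = 1) (h30 : N T (Function.Embedding.refl _) 3 0 = 1)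
    (h13 : N T (Function.Embedding.refl _) 1 3 = 1) (h31 : N T (Function.Embedding.refl _) 3 1 = 1)
    (h23 : N T (Function.Embedding.refl _) 2 3 = 1) (h32 : N T (Function.Embedding.refl _) 3 2 = 1)
    (h04 : N T (Function.Embedding.refl _) 0 4 = 0) (h40 : N T (Function.Embedding.refl _) 4 0 = 0) :
    Goal T := by
  unfold Goal
  have hd := d
  obtain ⟨x01, x02, x03, x04, x10, x12, x13, x14, x20, x21, x23, x24, x30, x31, x32, x34, x40, x41, x42, x43, hx01, hx02, hx03, hx04, hx10, hx12, hx13, hx14, hx20, hx21, hx23, hx24, hx30, hx31, hx32, hx34, hx40, hx41, hx42, hx43, hw0, hm0, hw1, hm1, hw2, hm2, hw3, hm3, hw4, hm4, a00, a01, a02, a03, a04, a11, a10, a12, a13, a14, a22, a20, a21, a23, a24, a33, a30, a31, a32, a34, a44, a40, a41, a42, a43, wN01, wN02, wN12, wN03, wN13, wN23, wN04, wN14, wN24, wN34, e0, e1, e2, e3, e4, d01, d02, d12, d03, d13, d23, d04, d14, d24, d34⟩ := d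
  obtain rfl : x01 = 0 := hx01.trans h01
  obtain rfl : x10 = 0 := hx10.trans h10
  obtain rfl : x02 = 0 := hx02.trans h02
  obtain rfl : x20 = 0 := hx20.trans h20
  obtain rfl : x12 = 0 := hx12.trans h12
  obtain rfl : x21 = 0 := hx21.trans h21
  obtain rfl : x03 = 1 := hx03.trans h03
  obtain rfl : x30 = 1 := hx30.trans h30
  obtain rfl : x13 = 1 := hx13.trans h13
  obtain rfl : x31 = 1 := hx31.trans h31
  obtain rfl : x23 = 1 := hx23.trans h23
  obtain rfl : x32 = 1 := hx32.trans h32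
  obtain rfl : x04 = 0 := hx04.trans h04
  obtain rfl : x40 = 0 := hx40.trans h40
  rcases d14 with ⟨rfl, rfl⟩ | ⟨rfl, rfl⟩ | ⟨rfl, rfl⟩ | ⟨rfl, rfl⟩ | ⟨rfl, rfl⟩ | ⟨rfl, rfl⟩
  · -- 14=(0,0)
    rcases d24 with ⟨rfl, rfl⟩ | ⟨rfl, rfl⟩ | ⟨rfl, rfl⟩ | ⟨rfl, rfl⟩ | ⟨rfl, rfl⟩ | ⟨rfl, rfl⟩
    · -- 24=(0,0)
      rcases d34 with ⟨rfl, rfl⟩ | ⟨rfl, rfl⟩ | ⟨rfl, rfl⟩ | ⟨rfl, rfl⟩ | ⟨rfl, rfl⟩ | ⟨rfl, rfl⟩
      · -- 34=(0,0)
        exfalso; omega
      · -- 34=(1,1)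
        refine ⟨(⟨![3, 0, 1, 2, 4], ![1, 2, 3, 0, 4], by decide, by decide⟩ : Equiv.Perm (Fin 5)), T.m 0, T.w 3, Or.inr (Or.inr (Or.inr (Or.inr (Or.inr (Or.inr (Or.inl ?_))))))⟩
        show T.m 3 = 2 * T.m 0 ∧ T.m 0 = T.m 0 ∧ T.m 1 = T.m 0 ∧ T.m 2 = T.m 0 ∧ T.m 4 = T.m 0 ∧ T.w 3 = T.w 3 ∧ T.w 0 = T.w 3 ∧ T.w 1 = T.w 3 ∧ T.w 2 = T.w 3 ∧ T.w 4 = T.w 3 ∧ T.a 3 3 = -2 * T.w 3 ∧ T.a 3 0 = T.w 3 ∧ T.a 3 1 = T.w 3 ∧ T.a 3 2 = T.w 3 ∧ T.a 3 4 = T.w 3 ∧ T.a 0 0 = -2 * T.w 3 ∧ T.a 0 1 = 0 ∧ T.a 0 2 = 0 ∧ T.a 0 4 = 0 ∧ T.a 1 1 = -2 * T.w 3 ∧ T.a 1 2 = 0 ∧ T.a 1 4 = 0 ∧ T.a 2 2 = -2 * T.w 3 ∧ T.a 2 4 = 0 ∧ T.a 4 4 = -2 * T.w 3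
        refine ⟨?_, ?_, ?_, ?_, ?_, ?_, ?_, ?_, ?_, ?_, ?_, ?_, ?_, ?_, ?_, ?_, ?_, ?_, ?_, ?_, ?_, ?_, ?_, ?_, ?_⟩ <;> omega
      · -- 34=(1,2)
        exact False.elim (cert_false T ((skipEmb 2).trans (Function.Embedding.refl _)) (by norm_num) (fun _ => hall _) (((((((LB_zero T ((skipEmb 2).trans (Function.Embedding.refl _))).upd 0 2 1 (le_of_eq hx03)).upd 1 2 1 (le_of_eq hx13)).upd 2 0 1 (le_of_eq hx30)).upd 2 1 1 (le_of_eq hx31)).upd 2 3 1 (le_of_eq hx34)).upd 3 2 2 (le_of_eq hx43)) ![1,1,2,2] (by decide) (by decide) 0 (by decide))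
      · -- 34=(2,1)
        exact False.elim (cert_false T ((skipEmb 2).trans (Function.Embedding.refl _)) (by norm_num) (fun _ => hall _) (((((((LB_zero T ((skipEmb 2).trans (Function.Embedding.refl _))).upd 0 2 1 (le_of_eq hx03)).upd 1 2 1 (le_of_eq hx13)).upd 2 0 1 (le_of_eq hx30)).upd 2 1 1 (le_of_eq hx31)).upd 2 3 2 (le_of_eq hx34)).upd 3 2 1 (le_of_eq hx43)) ![1,1,2,1] (by decide) (by decide) 0 (by decide))
      · -- 34=(1,3)
        exact False.elim (cert_false T ((skipEmb 2).trans (Function.Embedding.refl _)) (by norm_num) (fun _ => hall _) (((((((LB_zero T ((skipEmb 2).trans (Function.Embedding.refl _))).upd 0 2 1 (le_of_eq hx03)).upd 1 2 1 (le_of_eq hx13)).upd 2 0 1 (le_of_eq hx30)).upd 2 1 1 (le_of_eq hx31)).upd 2 3 1 (le_of_eq hx34)).upd 3 2 3 (le_of_eq hx43)) ![1,1,2,2] (by decide) (by decide) 0 (by decide))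
      · -- 34=(3,1)
        exact False.elim (cert_false T ((skipEmb 2).trans (Function.Embedding.refl _)) (by norm_num) (fun _ => hall _) (((((LB_zero T ((skipEmb 2).trans (Function.Embedding.refl _))).upd 1 2 1 (le_of_eq hx13)).upd 2 1 1 (le_of_eq hx31)).upd 2 3 3 (le_of_eq hx34)).upd 3 2 1 (le_of_eq hx43)) ![0,1,2,1] (by decide) (by decide) 1 (by decide))
    · -- 24=(1,1)
      rcases d34 with ⟨rfl, rfl⟩ | ⟨rfl, rfl⟩ | ⟨rfl, rfl⟩ | ⟨rfl, rfl⟩ | ⟨rfl, rfl⟩ | ⟨rfl, rfl⟩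
      · -- 34=(0,0)
        exfalso; omega
      · -- 34=(1,1)
        exact False.elim (cert_false T ((skipEmb 1).trans (Function.Embedding.refl _)) (by norm_num) (fun _ => hall _) (((((((LB_zero T ((skipEmb 1).trans (Function.Embedding.refl _))).upd 1 2 1 (le_of_eq hx23)).upd 1 3 1 (le_of_eq hx24)).upd 2 1 1 (le_of_eq hx32)).upd 2 3 1 (le_of_eq hx34)).upd 3 1 1 (le_of_eq hx42)).upd 3 2 1 (le_of_eq hx43)) ![0,1,1,1] (by decide) (by decide) 1 (by decide))
      · -- 34=(1,2)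
        exact False.elim (cert_false T ((skipEmb 2).trans (Function.Embedding.refl _)) (by norm_num) (fun _ => hall _) (((((((LB_zero T ((skipEmb 2).trans (Function.Embedding.refl _))).upd 0 2 1 (le_of_eq hx03)).upd 1 2 1 (le_of_eq hx13)).upd 2 0 1 (le_of_eq hx30)).upd 2 1 1 (le_of_eq hx31)).upd 2 3 1 (le_of_eq hx34)).upd 3 2 2 (le_of_eq hx43)) ![1,1,2,2] (by decide) (by decide) 0 (by decide))
      · -- 34=(2,1)
        exact False.elim (cert_false T ((skipEmb 2).trans (Function.Embedding.refl _)) (by norm_num) (fun _ => hall _) (((((((LB_zero T ((skipEmb 2).trans (Function.Embedding.refl _))).upd 0 2 1 (le_of_eq hx03)).upd 1 2 1 (le_of_eq hx13)).upd 2 0 1 (le_of_eq hx30)).upd 2 1 1 (le_of_eq hx31)).upd 2 3 2 (le_of_eq hx34)).upd 3 2 1 (le_of_eq hx43)) ![1,1,2,1] (by decide) (by decide) 0 (by decide))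
      · -- 34=(1,3)
        exact False.elim (cert_false T ((skipEmb 2).trans (Function.Embedding.refl _)) (by norm_num) (fun _ => hall _) (((((((LB_zero T ((skipEmb 2).trans (Function.Embedding.refl _))).upd 0 2 1 (le_of_eq hx03)).upd 1 2 1 (le_of_eq hx13)).upd 2 0 1 (le_of_eq hx30)).upd 2 1 1 (le_of_eq hx31)).upd 2 3 1 (le_of_eq hx34)).upd 3 2 3 (le_of_eq hx43)) ![1,1,2,2] (by decide) (by decide) 0 (by decide))
      · -- 34=(3,1)
        exact False.elim (cert_false T ((skipEmb 2).trans (Function.Embedding.refl _)) (by norm_num) (fun _ => hall _) (((((LB_zero T ((skipEmb 2).trans (Function.Embedding.refl _))).upd 1 2 1 (le_of_eq hx13)).upd 2 1 1 (le_of_eq hx31)).upd 2 3 3 (le_of_eq hx34)).upd 3 2 1 (le_of_eq hx43)) ![0,1,2,1] (by decide) (by decide) 1 (by decide))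
    · -- 24=(1,2)
      rcases d34 with ⟨rfl, rfl⟩ | ⟨rfl, rfl⟩ | ⟨rfl, rfl⟩ | ⟨rfl, rfl⟩ | ⟨rfl, rfl⟩ | ⟨rfl, rfl⟩
      · -- 34=(0,0)
        refine ⟨(⟨![4, 2, 3, 0, 1], ![3, 4, 1, 2, 0], by decide, by decide⟩ : Equiv.Perm (Fin 5)), T.m 0, T.w 4, Or.inr (Or.inr (Or.inr (Or.inr (Or.inr (Or.inr (Or.inr (Or.inr (?_))))))))⟩
        show T.m 4 = 2 * T.m 0 ∧ T.m 2 = 2 * T.m 0 ∧ T.m 3 = 2 * T.m 0 ∧ T.m 0 = T.m 0 ∧ T.m 1 = T.m 0 ∧ T.w 4 = T.w 4 ∧ T.w 2 = 2 * T.w 4 ∧ T.w 3 = 2 * T.w 4 ∧ T.w 0 = 2 * T.w 4 ∧ T.w 1 = 2 * T.w 4 ∧ T.a 4 4 = -2 * T.w 4 ∧ T.a 4 2 = 2 * T.w 4 ∧ T.a 4 3 = 0 ∧ T.a 4 0 = 0 ∧ T.a 4 1 = 0 ∧ T.a 2 2 = -4 * T.w 4 ∧ T.a 2 3 = 2 * T.w 4 ∧ T.a 2 0 = 0 ∧ T.a 2 1 = 0 ∧ T.a 3 3 = -4 * T.w 4 ∧ T.a 3 0 = 2 * T.w 4 ∧ T.a 3 1 = 2 * T.w 4 ∧ T.a 0 0 = -4 * T.w 4 ∧ T.a 0 1 = 0 ∧ T.a 1 1 = -4 * T.w 4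
        refine ⟨?_, ?_, ?_, ?_, ?_, ?_, ?_, ?_, ?_, ?_, ?_, ?_, ?_, ?_, ?_, ?_, ?_, ?_, ?_, ?_, ?_, ?_, ?_, ?_, ?_⟩ <;> omega
      · -- 34=(1,1)
        exact False.elim (cert_false T ((skipEmb 1).trans (Function.Embedding.refl _)) (by norm_num) (fun _ => hall _) (((((((LB_zero T ((skipEmb 1).trans (Function.Embedding.refl _))).upd 1 2 1 (le_of_eq hx23)).upd 1 3 1 (le_of_eq hx24)).upd 2 1 1 (le_of_eq hx32)).upd 2 3 1 (le_of_eq hx34)).upd 3 1 2 (le_of_eq hx42)).upd 3 2 1 (le_of_eq hx43)) ![0,1,1,1] (by decide) (by decide) 1 (by decide))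
      · -- 34=(1,2)
        exact False.elim (cert_false T ((skipEmb 2).trans (Function.Embedding.refl _)) (by norm_num) (fun _ => hall _) (((((((LB_zero T ((skipEmb 2).trans (Function.Embedding.refl _))).upd 0 2 1 (le_of_eq hx03)).upd 1 2 1 (le_of_eq hx13)).upd 2 0 1 (le_of_eq hx30)).upd 2 1 1 (le_of_eq hx31)).upd 2 3 1 (le_of_eq hx34)).upd 3 2 2 (le_of_eq hx43)) ![1,1,2,2] (by decide) (by decide) 0 (by decide))
      · -- 34=(2,1)
        exact False.elim (cert_false T ((skipEmb 2).trans (Function.Embedding.refl _)) (by norm_num) (fun _ => hall _) (((((((LB_zero T ((skipEmb 2).trans (Function.Embedding.refl _))).upd 0 2 1 (le_of_eq hx03)).upd 1 2 1 (le_of_eq hx13)).upd 2 0 1 (le_of_eq hx30)).upd 2 1 1 (le_of_eq hx31)).upd 2 3 2 (le_of_eq hx34)).upd 3 2 1 (le_of_eq hx43)) ![1,1,2,1] (by decide) (by decide) 0 (by decide))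
      · -- 34=(1,3)
        exact False.elim (cert_false T ((skipEmb 2).trans (Function.Embedding.refl _)) (by norm_num) (fun _ => hall _) (((((((LB_zero T ((skipEmb 2).trans (Function.Embedding.refl _))).upd 0 2 1 (le_of_eq hx03)).upd 1 2 1 (le_of_eq hx13)).upd 2 0 1 (le_of_eq hx30)).upd 2 1 1 (le_of_eq hx31)).upd 2 3 1 (le_of_eq hx34)).upd 3 2 3 (le_of_eq hx43)) ![1,1,2,2] (by decide) (by decide) 0 (by decide))
      · -- 34=(3,1)
        exact False.elim (cert_false T ((skipEmb 2).trans (Function.Embedding.refl _)) (by norm_num) (fun _ => hall _) (((((LB_zero T ((skipEmb 2).trans (Function.Embedding.refl _))).upd 1 2 1 (le_of_eq hx13)).upd 2 1 1 (le_of_eq hx31)).upd 2 3 3 (le_of_eq hx34)).upd 3 2 1 (le_of_eq hx43)) ![0,1,2,1] (by decide) (by decide) 1 (by decide))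
    · -- 24=(2,1)
      rcases d34 with ⟨rfl, rfl⟩ | ⟨rfl, rfl⟩ | ⟨rfl, rfl⟩ | ⟨rfl, rfl⟩ | ⟨rfl, rfl⟩ | ⟨rfl, rfl⟩
      · -- 34=(0,0)
        refine ⟨(⟨![4, 2, 3, 0, 1], ![3, 4, 1, 2, 0], by decide, by decide⟩ : Equiv.Perm (Fin 5)), T.m 4, T.w 2, Or.inr (Or.inr (Or.inr (Or.inr (Or.inr (Or.inr (Or.inr (Or.inl ?_)))))))⟩
        show T.m 4 = T.m 4 ∧ T.m 2 = 2 * T.m 4 ∧ T.m 3 = 2 * T.m 4 ∧ T.m 0 = T.m 4 ∧ T.m 1 = T.m 4 ∧ T.w 4 = 2 * T.w 2 ∧ T.w 2 = T.w 2 ∧ T.w 3 = T.w 2 ∧ T.w 0 = T.w 2 ∧ T.w 1 = T.w 2 ∧ T.a 4 4 = -4 * T.w 2 ∧ T.a 4 2 = 2 * T.w 2 ∧ T.a 4 3 = 0 ∧ T.a 4 0 = 0 ∧ T.a 4 1 = 0 ∧ T.a 2 2 = -2 * T.w 2 ∧ T.a 2 3 = T.w 2 ∧ T.a 2 0 = 0 ∧ T.a 2 1 = 0 ∧ T.a 3 3 = -2 * T.w 2 ∧ T.a 3 0 = T.w 2 ∧ T.a 3 1 = T.w 2 ∧ T.a 0 0 = -2 * T.w 2 ∧ T.a 0 1 = 0 ∧ T.a 1 1 = -2 * T.w 2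
        refine ⟨?_, ?_, ?_, ?_, ?_, ?_, ?_, ?_, ?_, ?_, ?_, ?_, ?_, ?_, ?_, ?_, ?_, ?_, ?_, ?_, ?_, ?_, ?_, ?_, ?_⟩ <;> omega
      · -- 34=(1,1)
        exact False.elim (cert_false T ((skipEmb 1).trans (Function.Embedding.refl _)) (by norm_num) (fun _ => hall _) (((((((LB_zero T ((skipEmb 1).trans (Function.Embedding.refl _))).upd 1 2 1 (le_of_eq hx23)).upd 1 3 2 (le_of_eq hx24)).upd 2 1 1 (le_of_eq hx32)).upd 2 3 1 (le_of_eq hx34)).upd 3 1 1 (le_of_eq hx42)).upd 3 2 1 (le_of_eq hx43)) ![0,1,1,1] (by decide) (by decide) 1 (by decide))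
      · -- 34=(1,2)
        exact False.elim (cert_false T ((skipEmb 2).trans (Function.Embedding.refl _)) (by norm_num) (fun _ => hall _) (((((((LB_zero T ((skipEmb 2).trans (Function.Embedding.refl _))).upd 0 2 1 (le_of_eq hx03)).upd 1 2 1 (le_of_eq hx13)).upd 2 0 1 (le_of_eq hx30)).upd 2 1 1 (le_of_eq hx31)).upd 2 3 1 (le_of_eq hx34)).upd 3 2 2 (le_of_eq hx43)) ![1,1,2,2] (by decide) (by decide) 0 (by decide))
      · -- 34=(2,1)
        exact False.elim (cert_false T ((skipEmb 2).trans (Function.Embedding.refl _)) (by norm_num) (fun _ => hall _) (((((((LB_zero T ((skipEmb 2).trans (Function.Embedding.refl _))).upd 0 2 1 (le_of_eq hx03)).upd 1 2 1 (le_of_eq hx13)).upd 2 0 1 (le_of_eq hx30)).upd 2 1 1 (le_of_eq hx31)).upd 2 3 2 (le_of_eq hx34)).upd 3 2 1 (le_of_eq hx43)) ![1,1,2,1] (by decide) (by decide) 0 (by decide))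
      · -- 34=(1,3)
        exact False.elim (cert_false T ((skipEmb 2).trans (Function.Embedding.refl _)) (by norm_num) (fun _ => hall _) (((((((LB_zero T ((skipEmb 2).trans (Function.Embedding.refl _))).upd 0 2 1 (le_of_eq hx03)).upd 1 2 1 (le_of_eq hx13)).upd 2 0 1 (le_of_eq hx30)).upd 2 1 1 (le_of_eq hx31)).upd 2 3 1 (le_of_eq hx34)).upd 3 2 3 (le_of_eq hx43)) ![1,1,2,2] (by decide) (by decide) 0 (by decide))
      · -- 34=(3,1)
        exact False.elim (cert_false T ((skipEmb 2).trans (Function.Embedding.refl _)) (by norm_num) (fun _ => hall _) (((((LB_zero T ((skipEmb 2).trans (Function.Embedding.refl _))).upd 1 2 1 (le_of_eq hx13)).upd 2 1 1 (le_of_eq hx31)).upd 2 3 3 (le_of_eq hx34)).upd 3 2 1 (le_of_eq hx43)) ![0,1,2,1] (by decide) (by decide) 1 (by decide))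
    · -- 24=(1,3)
      exact False.elim (cert_false T ((skipEmb 1).trans (Function.Embedding.refl _)) (by norm_num) (fun _ => hall _) (((((LB_zero T ((skipEmb 1).trans (Function.Embedding.refl _))).upd 1 2 1 (le_of_eq hx23)).upd 1 3 1 (le_of_eq hx24)).upd 2 1 1 (le_of_eq hx32)).upd 3 1 3 (le_of_eq hx42)) ![0,2,1,3] (by decide) (by decide) 1 (by decide))
    · -- 24=(3,1)
      exact False.elim (cert_false T ((skipEmb 1).trans (Function.Embedding.refl _)) (by norm_num) (fun _ => hall _) (((((LB_zero T ((skipEmb 1).trans (Function.Embedding.refl _))).upd 1 2 1 (le_of_eq hx23)).upd 1 3 3 (le_of_eq hx24)).upd 2 1 1 (le_of_eq hx32)).upd 3 1 1 (le_of_eq hx42)) ![0,2,1,1] (by decide) (by decide) 1 (by decide))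
  · -- 14=(1,1)
    rcases d24 with ⟨rfl, rfl⟩ | ⟨rfl, rfl⟩ | ⟨rfl, rfl⟩ | ⟨rfl, rfl⟩ | ⟨rfl, rfl⟩ | ⟨rfl, rfl⟩
    · -- 24=(0,0)
      rcases d34 with ⟨rfl, rfl⟩ | ⟨rfl, rfl⟩ | ⟨rfl, rfl⟩ | ⟨rfl, rfl⟩ | ⟨rfl, rfl⟩ | ⟨rfl, rfl⟩
      · -- 34=(0,0)
        exfalso; omega
      · -- 34=(1,1)
        exact False.elim (cert_false T ((skipEmb 2).trans (Function.Embedding.refl _)) (by norm_num) (fun _ => hall _) (((((((LB_zero T ((skipEmb 2).trans (Function.Embedding.refl _))).upd 1 2 1 (le_of_eq hx13)).upd 1 3 1 (le_of_eq hx14)).upd 2 1 1 (le_of_eq hx31)).upd 2 3 1 (le_of_eq hx34)).upd 3 1 1 (le_of_eq hx41)).upd 3 2 1 (le_of_eq hx43)) ![0,1,1,1] (by decide) (by decide) 1 (by decide))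
      · -- 34=(1,2)
        exact False.elim (cert_false T ((skipEmb 2).trans (Function.Embedding.refl _)) (by norm_num) (fun _ => hall _) (((((((LB_zero T ((skipEmb 2).trans (Function.Embedding.refl _))).upd 1 2 1 (le_of_eq hx13)).upd 1 3 1 (le_of_eq hx14)).upd 2 1 1 (le_of_eq hx31)).upd 2 3 1 (le_of_eq hx34)).upd 3 1 1 (le_of_eq hx41)).upd 3 2 2 (le_of_eq hx43)) ![0,1,1,1] (by decide) (by decide) 1 (by decide))
      · -- 34=(2,1)
        exact False.elim (cert_false T ((skipEmb 2).trans (Function.Embedding.refl _)) (by norm_num) (fun _ => hall _) (((((((LB_zero T ((skipEmb 2).trans (Function.Embedding.refl _))).upd 1 2 1 (le_of_eq hx13)).upd 1 3 1 (le_of_eq hx14)).upd 2 1 1 (le_of_eq hx31)).upd 2 3 2 (le_of_eq hx34)).upd 3 1 1 (le_of_eq hx41)).upd 3 2 1 (le_of_eq hx43)) ![0,1,1,1] (by decide) (by decide) 1 (by decide))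
      · -- 34=(1,3)
        exact False.elim (cert_false T ((skipEmb 2).trans (Function.Embedding.refl _)) (by norm_num) (fun _ => hall _) (((((((LB_zero T ((skipEmb 2).trans (Function.Embedding.refl _))).upd 1 2 1 (le_of_eq hx13)).upd 1 3 1 (le_of_eq hx14)).upd 2 1 1 (le_of_eq hx31)).upd 2 3 1 (le_of_eq hx34)).upd 3 1 1 (le_of_eq hx41)).upd 3 2 3 (le_of_eq hx43)) ![0,1,1,1] (by decide) (by decide) 1 (by decide))
      · -- 34=(3,1)
        exact False.elim (cert_false T ((skipEmb 2).trans (Function.Embedding.refl _)) (by norm_num) (fun _ => hall _) (((((((LB_zero T ((skipEmb 2).trans (Function.Embedding.refl _))).upd 1 2 1 (le_of_eq hx13)).upd 1 3 1 (le_of_eq hx14)).upd 2 1 1 (le_of_eq hx31)).upd 2 3 3 (le_of_eq hx34)).upd 3 1 1 (le_of_eq hx41)).upd 3 2 1 (le_of_eq hx43)) ![0,1,1,1] (by decide) (by decide) 1 (by decide))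
    · -- 24=(1,1)
      exact False.elim (cert_false T ((skipEmb 0).trans (Function.Embedding.refl _)) (by norm_num) (fun _ => hall _) (((((((((LB_zero T ((skipEmb 0).trans (Function.Embedding.refl _))).upd 0 2 1 (le_of_eq hx13)).upd 0 3 1 (le_of_eq hx14)).upd 1 2 1 (le_of_eq hx23)).upd 1 3 1 (le_of_eq hx24)).upd 2 0 1 (le_of_eq hx31)).upd 2 1 1 (le_of_eq hx32)).upd 3 0 1 (le_of_eq hx41)).upd 3 1 1 (le_of_eq hx42)) ![1,1,1,1] (by decide) (by decide) 0 (by decide))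
    · -- 24=(1,2)
      exact False.elim (cert_false T ((skipEmb 0).trans (Function.Embedding.refl _)) (by norm_num) (fun _ => hall _) (((((((((LB_zero T ((skipEmb 0).trans (Function.Embedding.refl _))).upd 0 2 1 (le_of_eq hx13)).upd 0 3 1 (le_of_eq hx14)).upd 1 2 1 (le_of_eq hx23)).upd 1 3 1 (le_of_eq hx24)).upd 2 0 1 (le_of_eq hx31)).upd 2 1 1 (le_of_eq hx32)).upd 3 0 1 (le_of_eq hx41)).upd 3 1 2 (le_of_eq hx42)) ![1,1,1,1] (by decide) (by decide) 0 (by decide))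
    · -- 24=(2,1)
      exact False.elim (cert_false T ((skipEmb 0).trans (Function.Embedding.refl _)) (by norm_num) (fun _ => hall _) (((((((((LB_zero T ((skipEmb 0).trans (Function.Embedding.refl _))).upd 0 2 1 (le_of_eq hx13)).upd 0 3 1 (le_of_eq hx14)).upd 1 2 1 (le_of_eq hx23)).upd 1 3 2 (le_of_eq hx24)).upd 2 0 1 (le_of_eq hx31)).upd 2 1 1 (le_of_eq hx32)).upd 3 0 1 (le_of_eq hx41)).upd 3 1 1 (le_of_eq hx42)) ![1,1,1,1] (by decide) (by decide) 0 (by decide))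
    · -- 24=(1,3)
      exact False.elim (cert_false T ((skipEmb 3).trans (Function.Embedding.refl _)) (by norm_num) (fun _ => hall _) (((((LB_zero T ((skipEmb 3).trans (Function.Embedding.refl _))).upd 1 3 1 (le_of_eq hx14)).upd 2 3 1 (le_of_eq hx24)).upd 3 1 1 (le_of_eq hx41)).upd 3 2 3 (le_of_eq hx42)) ![0,1,1,2] (by decide) (by decide) 1 (by decide))
    · -- 24=(3,1)
      exact False.elim (cert_false T ((skipEmb 3).trans (Function.Embedding.refl _)) (by norm_num) (fun _ => hall _) (((((LB_zero T ((skipEmb 3).trans (Function.Embedding.refl _))).upd 1 3 1 (le_of_eq hx14)).upd 2 3 3 (le_of_eq hx24)).upd 3 1 1 (le_of_eq hx41)).upd 3 2 1 (le_of_eq hx42)) ![0,1,3,2] (by decide) (by decide) 1 (by decide))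
  · -- 14=(1,2)
    rcases d24 with ⟨rfl, rfl⟩ | ⟨rfl, rfl⟩ | ⟨rfl, rfl⟩ | ⟨rfl, rfl⟩ | ⟨rfl, rfl⟩ | ⟨rfl, rfl⟩
    · -- 24=(0,0)
      rcases d34 with ⟨rfl, rfl⟩ | ⟨rfl, rfl⟩ | ⟨rfl, rfl⟩ | ⟨rfl, rfl⟩ | ⟨rfl, rfl⟩ | ⟨rfl, rfl⟩
      · -- 34=(0,0)
        refine ⟨(⟨![4, 1, 3, 0, 2], ![3, 1, 4, 2, 0], by decide, by decide⟩ : Equiv.Perm (Fin 5)), T.m 0, T.w 4, Or.inr (Or.inr (Or.inr (Or.inr (Or.inr (Or.inr (Or.inr (Or.inr (?_))))))))⟩
        show T.m 4 = 2 * T.m 0 ∧ T.m 1 = 2 * T.m 0 ∧ T.m 3 = 2 * T.m 0 ∧ T.m 0 = T.m 0 ∧ T.m 2 = T.m 0 ∧ T.w 4 = T.w 4 ∧ T.w 1 = 2 * T.w 4 ∧ T.w 3 = 2 * T.w 4 ∧ T.w 0 = 2 * T.w 4 ∧ T.w 2 = 2 * T.w 4 ∧ T.a 4 4 = -2 * T.w 4 ∧ T.a 4 1 = 2 * T.w 4 ∧ T.a 4 3 = 0 ∧ T.a 4 0 = 0 ∧ T.a 4 2 = 0 ∧ T.a 1 1 = -4 * T.w 4 ∧ T.a 1 3 = 2 * T.w 4 ∧ T.a 1 0 = 0 ∧ T.a 1 2 = 0 ∧ T.a 3 3 = -4 * T.w 4 ∧ T.a 3 0 = 2 * T.w 4 ∧ T.a 3 2 = 2 * T.w 4 ∧ T.a 0 0 = -4 * T.w 4 ∧ T.a 0 2 = 0 ∧ T.a 2 2 = -4 * T.w 4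
        refine ⟨?_, ?_, ?_, ?_, ?_, ?_, ?_, ?_, ?_, ?_, ?_, ?_, ?_, ?_, ?_, ?_, ?_, ?_, ?_, ?_, ?_, ?_, ?_, ?_, ?_⟩ <;> omega
      · -- 34=(1,1)
        exact False.elim (cert_false T ((skipEmb 2).trans (Function.Embedding.refl _)) (by norm_num) (fun _ => hall _) (((((((LB_zero T ((skipEmb 2).trans (Function.Embedding.refl _))).upd 1 2 1 (le_of_eq hx13)).upd 1 3 1 (le_of_eq hx14)).upd 2 1 1 (le_of_eq hx31)).upd 2 3 1 (le_of_eq hx34)).upd 3 1 2 (le_of_eq hx41)).upd 3 2 1 (le_of_eq hx43)) ![0,1,1,1] (by decide) (by decide) 1 (by decide))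
      · -- 34=(1,2)
        exact False.elim (cert_false T ((skipEmb 2).trans (Function.Embedding.refl _)) (by norm_num) (fun _ => hall _) (((((((LB_zero T ((skipEmb 2).trans (Function.Embedding.refl _))).upd 1 2 1 (le_of_eq hx13)).upd 1 3 1 (le_of_eq hx14)).upd 2 1 1 (le_of_eq hx31)).upd 2 3 1 (le_of_eq hx34)).upd 3 1 2 (le_of_eq hx41)).upd 3 2 2 (le_of_eq hx43)) ![0,1,1,1] (by decide) (by decide) 1 (by decide))
      · -- 34=(2,1)
        exact False.elim (cert_false T ((skipEmb 2).trans (Function.Embedding.refl _)) (by norm_num) (fun _ => hall _) (((((((LB_zero T ((skipEmb 2).trans (Function.Embedding.refl _))).upd 1 2 1 (le_of_eq hx13)).upd 1 3 1 (le_of_eq hx14)).upd 2 1 1 (le_of_eq hx31)).upd 2 3 2 (le_of_eq hx34)).upd 3 1 2 (le_of_eq hx41)).upd 3 2 1 (le_of_eq hx43)) ![0,1,1,1] (by decide) (by decide) 1 (by decide))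
      · -- 34=(1,3)
        exact False.elim (cert_false T ((skipEmb 2).trans (Function.Embedding.refl _)) (by norm_num) (fun _ => hall _) (((((((LB_zero T ((skipEmb 2).trans (Function.Embedding.refl _))).upd 1 2 1 (le_of_eq hx13)).upd 1 3 1 (le_of_eq hx14)).upd 2 1 1 (le_of_eq hx31)).upd 2 3 1 (le_of_eq hx34)).upd 3 1 2 (le_of_eq hx41)).upd 3 2 3 (le_of_eq hx43)) ![0,1,1,1] (by decide) (by decide) 1 (by decide))
      · -- 34=(3,1)
        exact False.elim (cert_false T ((skipEmb 2).trans (Function.Embedding.refl _)) (by norm_num) (fun _ => hall _) (((((((LB_zero T ((skipEmb 2).trans (Function.Embedding.refl _))).upd 1 2 1 (le_of_eq hx13)).upd 1 3 1 (le_of_eq hx14)).upd 2 1 1 (le_of_eq hx31)).upd 2 3 3 (le_of_eq hx34)).upd 3 1 2 (le_of_eq hx41)).upd 3 2 1 (le_of_eq hx43)) ![0,1,1,1] (by decide) (by decide) 1 (by decide))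
    · -- 24=(1,1)
      exact False.elim (cert_false T ((skipEmb 0).trans (Function.Embedding.refl _)) (by norm_num) (fun _ => hall _) (((((((((LB_zero T ((skipEmb 0).trans (Function.Embedding.refl _))).upd 0 2 1 (le_of_eq hx13)).upd 0 3 1 (le_of_eq hx14)).upd 1 2 1 (le_of_eq hx23)).upd 1 3 1 (le_of_eq hx24)).upd 2 0 1 (le_of_eq hx31)).upd 2 1 1 (le_of_eq hx32)).upd 3 0 2 (le_of_eq hx41)).upd 3 1 1 (le_of_eq hx42)) ![1,1,1,1] (by decide) (by decide) 0 (by decide))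
    · -- 24=(1,2)
      exact False.elim (cert_false T ((skipEmb 3).trans (Function.Embedding.refl _)) (by norm_num) (fun _ => hall _) (((((LB_zero T ((skipEmb 3).trans (Function.Embedding.refl _))).upd 1 3 1 (le_of_eq hx14)).upd 2 3 1 (le_of_eq hx24)).upd 3 1 2 (le_of_eq hx41)).upd 3 2 2 (le_of_eq hx42)) ![0,1,1,2] (by decide) (by decide) 1 (by decide))
    · -- 24=(2,1)
      exact False.elim (cert_false T ((skipEmb 3).trans (Function.Embedding.refl _)) (by norm_num) (fun _ => hall _) (((((LB_zero T ((skipEmb 3).trans (Function.Embedding.refl _))).upd 1 3 1 (le_of_eq hx14)).upd 2 3 2 (le_of_eq hx24)).upd 3 1 2 (le_of_eq hx41)).upd 3 2 1 (le_of_eq hx42)) ![0,1,2,2] (by decide) (by decide) 1 (by decide))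
    · -- 24=(1,3)
      exact False.elim (cert_false T ((skipEmb 3).trans (Function.Embedding.refl _)) (by norm_num) (fun _ => hall _) (((((LB_zero T ((skipEmb 3).trans (Function.Embedding.refl _))).upd 1 3 1 (le_of_eq hx14)).upd 2 3 1 (le_of_eq hx24)).upd 3 1 2 (le_of_eq hx41)).upd 3 2 3 (le_of_eq hx42)) ![0,1,1,2] (by decide) (by decide) 1 (by decide))
    · -- 24=(3,1)
      exact False.elim (cert_false T ((skipEmb 3).trans (Function.Embedding.refl _)) (by norm_num) (fun _ => hall _) (((((LB_zero T ((skipEmb 3).trans (Function.Embedding.refl _))).upd 1 3 1 (le_of_eq hx14)).upd 2 3 3 (le_of_eq hx24)).upd 3 1 2 (le_of_eq hx41)).upd 3 2 1 (le_of_eq hx42)) ![0,1,2,2] (by decide) (by decide) 1 (by decide))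
  · -- 14=(2,1)
    rcases d24 with ⟨rfl, rfl⟩ | ⟨rfl, rfl⟩ | ⟨rfl, rfl⟩ | ⟨rfl, rfl⟩ | ⟨rfl, rfl⟩ | ⟨rfl, rfl⟩
    · -- 24=(0,0)
      rcases d34 with ⟨rfl, rfl⟩ | ⟨rfl, rfl⟩ | ⟨rfl, rfl⟩ | ⟨rfl, rfl⟩ | ⟨rfl, rfl⟩ | ⟨rfl, rfl⟩
      · -- 34=(0,0)
        refine ⟨(⟨![4, 1, 3, 0, 2], ![3, 1, 4, 2, 0], by decide, by decide⟩ : Equiv.Perm (Fin 5)), T.m 4, T.w 1, Or.inr (Or.inr (Or.inr (Or.inr (Or.inr (Or.inr (Or.inr (Or.inl ?_)))))))⟩
        show T.m 4 = T.m 4 ∧ T.m 1 = 2 * T.m 4 ∧ T.m 3 = 2 * T.m 4 ∧ T.m 0 = T.m 4 ∧ T.m 2 = T.m 4 ∧ T.w 4 = 2 * T.w 1 ∧ T.w 1 = T.w 1 ∧ T.w 3 = T.w 1 ∧ T.w 0 = T.w 1 ∧ T.w 2 = T.w 1 ∧ T.a 4 4 = -4 * T.w 1 ∧ T.a 4 1 = 2 * T.w 1 ∧ T.a 4 3 = 0 ∧ T.a 4 0 = 0 ∧ T.a 4 2 = 0 ∧ T.a 1 1 = -2 * T.w 1 ∧ T.a 1 3 = T.w 1 ∧ T.a 1 0 = 0 ∧ T.a 1 2 = 0 ∧ T.a 3 3 = -2 * T.w 1 ∧ T.a 3 0 = T.w 1 ∧ T.a 3 2 = T.w 1 ∧ T.a 0 0 = -2 * T.w 1 ∧ T.a 0 2 = 0 ∧ T.a 2 2 = -2 * T.w 1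
        refine ⟨?_, ?_, ?_, ?_, ?_, ?_, ?_, ?_, ?_, ?_, ?_, ?_, ?_, ?_, ?_, ?_, ?_, ?_, ?_, ?_, ?_, ?_, ?_, ?_, ?_⟩ <;> omega
      · -- 34=(1,1)
        exact False.elim (cert_false T ((skipEmb 2).trans (Function.Embedding.refl _)) (by norm_num) (fun _ => hall _) (((((((LB_zero T ((skipEmb 2).trans (Function.Embedding.refl _))).upd 1 2 1 (le_of_eq hx13)).upd 1 3 2 (le_of_eq hx14)).upd 2 1 1 (le_of_eq hx31)).upd 2 3 1 (le_of_eq hx34)).upd 3 1 1 (le_of_eq hx41)).upd 3 2 1 (le_of_eq hx43)) ![0,1,1,1] (by decide) (by decide) 1 (by decide))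
      · -- 34=(1,2)
        exact False.elim (cert_false T ((skipEmb 2).trans (Function.Embedding.refl _)) (by norm_num) (fun _ => hall _) (((((((LB_zero T ((skipEmb 2).trans (Function.Embedding.refl _))).upd 1 2 1 (le_of_eq hx13)).upd 1 3 2 (le_of_eq hx14)).upd 2 1 1 (le_of_eq hx31)).upd 2 3 1 (le_of_eq hx34)).upd 3 1 1 (le_of_eq hx41)).upd 3 2 2 (le_of_eq hx43)) ![0,1,1,1] (by decide) (by decide) 1 (by decide))
      · -- 34=(2,1)
        exact False.elim (cert_false T ((skipEmb 2).trans (Function.Embedding.refl _)) (by norm_num) (fun _ => hall _) (((((((LB_zero T ((skipEmb 2).trans (Function.Embedding.refl _))).upd 1 2 1 (le_of_eq hx13)).upd 1 3 2 (le_of_eq hx14)).upd 2 1 1 (le_of_eq hx31)).upd 2 3 2 (le_of_eq hx34)).upd 3 1 1 (le_of_eq hx41)).upd 3 2 1 (le_of_eq hx43)) ![0,1,1,1] (by decide) (by decide) 1 (by decide))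
      · -- 34=(1,3)
        exact False.elim (cert_false T ((skipEmb 2).trans (Function.Embedding.refl _)) (by norm_num) (fun _ => hall _) (((((((LB_zero T ((skipEmb 2).trans (Function.Embedding.refl _))).upd 1 2 1 (le_of_eq hx13)).upd 1 3 2 (le_of_eq hx14)).upd 2 1 1 (le_of_eq hx31)).upd 2 3 1 (le_of_eq hx34)).upd 3 1 1 (le_of_eq hx41)).upd 3 2 3 (le_of_eq hx43)) ![0,1,1,1] (by decide) (by decide) 1 (by decide))
      · -- 34=(3,1)
        exact False.elim (cert_false T ((skipEmb 2).trans (Function.Embedding.refl _)) (by norm_num) (fun _ => hall _) (((((((LB_zero T ((skipEmb 2).trans (Function.Embedding.refl _))).upd 1 2 1 (le_of_eq hx13)).upd 1 3 2 (le_of_eq hx14)).upd 2 1 1 (le_of_eq hx31)).upd 2 3 3 (le_of_eq hx34)).upd 3 1 1 (le_of_eq hx41)).upd 3 2 1 (le_of_eq hx43)) ![0,1,1,1] (by decide) (by decide) 1 (by decide))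
    · -- 24=(1,1)
      exact False.elim (cert_false T ((skipEmb 0).trans (Function.Embedding.refl _)) (by norm_num) (fun _ => hall _) (((((((((LB_zero T ((skipEmb 0).trans (Function.Embedding.refl _))).upd 0 2 1 (le_of_eq hx13)).upd 0 3 2 (le_of_eq hx14)).upd 1 2 1 (le_of_eq hx23)).upd 1 3 1 (le_of_eq hx24)).upd 2 0 1 (le_of_eq hx31)).upd 2 1 1 (le_of_eq hx32)).upd 3 0 1 (le_of_eq hx41)).upd 3 1 1 (le_of_eq hx42)) ![1,1,1,1] (by decide) (by decide) 0 (by decide))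
    · -- 24=(1,2)
      exact False.elim (cert_false T ((skipEmb 3).trans (Function.Embedding.refl _)) (by norm_num) (fun _ => hall _) (((((LB_zero T ((skipEmb 3).trans (Function.Embedding.refl _))).upd 1 3 2 (le_of_eq hx14)).upd 2 3 1 (le_of_eq hx24)).upd 3 1 1 (le_of_eq hx41)).upd 3 2 2 (le_of_eq hx42)) ![0,2,1,2] (by decide) (by decide) 1 (by decide))
    · -- 24=(2,1)
      exact False.elim (cert_false T ((skipEmb 3).trans (Function.Embedding.refl _)) (by norm_num) (fun _ => hall _) (((((LB_zero T ((skipEmb 3).trans (Function.Embedding.refl _))).upd 1 3 2 (le_of_eq hx14)).upd 2 3 2 (le_of_eq hx24)).upd 3 1 1 (le_of_eq hx41)).upd 3 2 1 (le_of_eq hx42)) ![0,1,1,1] (by decide) (by decide) 1 (by decide))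
    · -- 24=(1,3)
      exact False.elim (cert_false T ((skipEmb 3).trans (Function.Embedding.refl _)) (by norm_num) (fun _ => hall _) (((((LB_zero T ((skipEmb 3).trans (Function.Embedding.refl _))).upd 1 3 2 (le_of_eq hx14)).upd 2 3 1 (le_of_eq hx24)).upd 3 1 1 (le_of_eq hx41)).upd 3 2 3 (le_of_eq hx42)) ![0,1,1,2] (by decide) (by decide) 1 (by decide))
    · -- 24=(3,1)
      exact False.elim (cert_false T ((skipEmb 3).trans (Function.Embedding.refl _)) (by norm_num) (fun _ => hall _) (((((LB_zero T ((skipEmb 3).trans (Function.Embedding.refl _))).upd 1 3 2 (le_of_eq hx14)).upd 2 3 3 (le_of_eq hx24)).upd 3 1 1 (le_of_eq hx41)).upd 3 2 1 (le_of_eq hx42)) ![0,1,1,1] (by decide) (by decide) 1 (by decide))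
  · -- 14=(1,3)
    exact False.elim (cert_false T ((skipEmb 2).trans (Function.Embedding.refl _)) (by norm_num) (fun _ => hall _) (((((LB_zero T ((skipEmb 2).trans (Function.Embedding.refl _))).upd 1 2 1 (le_of_eq hx13)).upd 1 3 1 (le_of_eq hx14)).upd 2 1 1 (le_of_eq hx31)).upd 3 1 3 (le_of_eq hx41)) ![0,2,1,3] (by decide) (by decide) 1 (by decide))
  · -- 14=(3,1)
    exact False.elim (cert_false T ((skipEmb 2).trans (Function.Embedding.refl _)) (by norm_num) (fun _ => hall _) (((((LB_zero T ((skipEmb 2).trans (Function.Embedding.refl _))).upd 1 2 1 (le_of_eq hx13)).upd 1 3 3 (le_of_eq hx14)).upd 2 1 1 (le_of_eq hx31)).upd 3 1 1 (le_of_eq hx41)) ![0,2,1,1] (by decide) (by decide) 1 (by decide))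

theorem case56 (T : NumericalType 5) (hall : ∀ i, T.IsMinusTwo i) (d : SData T)
    (h01 : N T (Function.Embedding.refl _) 0 1 = 0) (h10 : N T (Function.Embedding.refl _) 1 0 = 0)
    (h02 : N T (Function.Embedding.refl _) 0 2 = 0) (h20 : N T (Function.Embedding.refl _) 2 0 = 0)
    (h12 : N T (Function.Embedding.refl _) 1 2 = 0) (h21 : N T (Function.Embedding.refl _) 2 1 = 0)
    (h03 : N T (Function.Embedding.refl _) 0 3 = 1) (h30 : N T (Function.Embedding.refl _) 3 0 = 1)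
    (h13 : N T (Function.Embedding.refl _) 1 3 = 1) (h31 : N T (Function.Embedding.refl _) 3 1 = 1)
    (h23 : N T (Function.Embedding.refl _) 2 3 = 1) (h32 : N T (Function.Embedding.refl _) 3 2 = 1) :
    Goal T := by
  unfold Goal
  have hd := d
  obtain ⟨x01, x02, x03, x04, x10, x12, x13, x14, x20, x21, x23, x24, x30, x31, x32, x34, x40, x41, x42, x43, hx01, hx02, hx03, hx04, hx10, hx12, hx13, hx14, hx20, hx21, hx23, hx24, hx30, hx31, hx32, hx34, hx40, hx41, hx42, hx43, hw0, hm0, hw1, hm1, hw2, hm2, hw3, hm3, hw4, hm4, a00, a01, a02, a03, a04, a11, a10, a12, a13, a14, a22, a20, a21, a23, a24, a33, a30, a31, a32, a34, a44, a40, a41, a42, a43, wN01, wN02, wN12, wN03, wN13, wN23, wN04, wN14, wN24, wN34, e0, e1, e2, e3, e4, d01, d02, d12, d03, d13, d23, d04, d14, d24, d34⟩ := d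
  obtain rfl : x01 = 0 := hx01.trans h01
  obtain rfl : x10 = 0 := hx10.trans h10
  obtain rfl : x02 = 0 := hx02.trans h02
  obtain rfl : x20 = 0 := hx20.trans h20
  obtain rfl : x12 = 0 := hx12.trans h12
  obtain rfl : x21 = 0 := hx21.trans h21
  obtain rfl : x03 = 1 := hx03.trans h03
  obtain rfl : x30 = 1 := hx30.trans h30
  obtain rfl : x13 = 1 := hx13.trans h13
  obtain rfl : x31 = 1 := hx31.trans h31
  obtain rfl : x23 = 1 := hx23.trans h23
  obtain rfl : x32 = 1 := hx32.trans h32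
  rcases d04 with ⟨rfl, rfl⟩ | ⟨rfl, rfl⟩ | ⟨rfl, rfl⟩ | ⟨rfl, rfl⟩ | ⟨rfl, rfl⟩ | ⟨rfl, rfl⟩
  · -- 04=(0,0)
    exact case57 T hall hd hx01.symm hx10.symm hx02.symm hx20.symm hx12.symm hx21.symm hx03.symm hx30.symm hx13.symm hx31.symm hx23.symm hx32.symm hx04.symm hx40.symm
  · -- 04=(1,1)
    rcases d14 with ⟨rfl, rfl⟩ | ⟨rfl, rfl⟩ | ⟨rfl, rfl⟩ | ⟨rfl, rfl⟩ | ⟨rfl, rfl⟩ | ⟨rfl, rfl⟩
    · -- 14=(0,0)
      rcases d24 with ⟨rfl, rfl⟩ | ⟨rfl, rfl⟩ | ⟨rfl, rfl⟩ | ⟨rfl, rfl⟩ | ⟨rfl, rfl⟩ | ⟨rfl, rfl⟩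
      · -- 24=(0,0)
        rcases d34 with ⟨rfl, rfl⟩ | ⟨rfl, rfl⟩ | ⟨rfl, rfl⟩ | ⟨rfl, rfl⟩ | ⟨rfl, rfl⟩ | ⟨rfl, rfl⟩
        · -- 34=(0,0)
          exfalso; omega
        · -- 34=(1,1)
          exact False.elim (cert_false T ((skipEmb 2).trans (Function.Embedding.refl _)) (by norm_num) (fun _ => hall _) (((((((LB_zero T ((skipEmb 2).trans (Function.Embedding.refl _))).upd 0 2 1 (le_of_eq hx03)).upd 0 3 1 (le_of_eq hx04)).upd 2 0 1 (le_of_eq hx30)).upd 2 3 1 (le_of_eq hx34)).upd 3 0 1 (le_of_eq hx40)).upd 3 2 1 (le_of_eq hx43)) ![1,0,1,1] (by decide) (by decide) 0 (by decide))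
        · -- 34=(1,2)
          exact False.elim (cert_false T ((skipEmb 2).trans (Function.Embedding.refl _)) (by norm_num) (fun _ => hall _) (((((((LB_zero T ((skipEmb 2).trans (Function.Embedding.refl _))).upd 0 2 1 (le_of_eq hx03)).upd 0 3 1 (le_of_eq hx04)).upd 2 0 1 (le_of_eq hx30)).upd 2 3 1 (le_of_eq hx34)).upd 3 0 1 (le_of_eq hx40)).upd 3 2 2 (le_of_eq hx43)) ![1,0,1,1] (by decide) (by decide) 0 (by decide))
        · -- 34=(2,1)
          exact False.elim (cert_false T ((skipEmb 2).trans (Function.Embedding.refl _)) (by norm_num) (fun _ => hall _) (((((((LB_zero T ((skipEmb 2).trans (Function.Embedding.refl _))).upd 0 2 1 (le_of_eq hx03)).upd 0 3 1 (le_of_eq hx04)).upd 2 0 1 (le_of_eq hx30)).upd 2 3 2 (le_of_eq hx34)).upd 3 0 1 (le_of_eq hx40)).upd 3 2 1 (le_of_eq hx43)) ![1,0,1,1] (by decide) (by decide) 0 (by decide))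
        · -- 34=(1,3)
          exact False.elim (cert_false T ((skipEmb 2).trans (Function.Embedding.refl _)) (by norm_num) (fun _ => hall _) (((((((LB_zero T ((skipEmb 2).trans (Function.Embedding.refl _))).upd 0 2 1 (le_of_eq hx03)).upd 0 3 1 (le_of_eq hx04)).upd 2 0 1 (le_of_eq hx30)).upd 2 3 1 (le_of_eq hx34)).upd 3 0 1 (le_of_eq hx40)).upd 3 2 3 (le_of_eq hx43)) ![1,0,1,1] (by decide) (by decide) 0 (by decide))
        · -- 34=(3,1)
          exact False.elim (cert_false T ((skipEmb 2).trans (Function.Embedding.refl _)) (by norm_num) (fun _ => hall _) (((((((LB_zero T ((skipEmb 2).trans (Function.Embedding.refl _))).upd 0 2 1 (le_of_eq hx03)).upd 0 3 1 (le_of_eq hx04)).upd 2 0 1 (le_of_eq hx30)).upd 2 3 3 (le_of_eq hx34)).upd 3 0 1 (le_of_eq hx40)).upd 3 2 1 (le_of_eq hx43)) ![1,0,1,1] (by decide) (by decide) 0 (by decide))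
      · -- 24=(1,1)
        exact False.elim (cert_false T ((skipEmb 1).trans (Function.Embedding.refl _)) (by norm_num) (fun _ => hall _) (((((((((LB_zero T ((skipEmb 1).trans (Function.Embedding.refl _))).upd 0 2 1 (le_of_eq hx03)).upd 0 3 1 (le_of_eq hx04)).upd 1 2 1 (le_of_eq hx23)).upd 1 3 1 (le_of_eq hx24)).upd 2 0 1 (le_of_eq hx30)).upd 2 1 1 (le_of_eq hx32)).upd 3 0 1 (le_of_eq hx40)).upd 3 1 1 (le_of_eq hx42)) ![1,1,1,1] (by decide) (by decide) 0 (by decide))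
      · -- 24=(1,2)
        exact False.elim (cert_false T ((skipEmb 1).trans (Function.Embedding.refl _)) (by norm_num) (fun _ => hall _) (((((((((LB_zero T ((skipEmb 1).trans (Function.Embedding.refl _))).upd 0 2 1 (le_of_eq hx03)).upd 0 3 1 (le_of_eq hx04)).upd 1 2 1 (le_of_eq hx23)).upd 1 3 1 (le_of_eq hx24)).upd 2 0 1 (le_of_eq hx30)).upd 2 1 1 (le_of_eq hx32)).upd 3 0 1 (le_of_eq hx40)).upd 3 1 2 (le_of_eq hx42)) ![1,1,1,1] (by decide) (by decide) 0 (by decide))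
      · -- 24=(2,1)
        exact False.elim (cert_false T ((skipEmb 1).trans (Function.Embedding.refl _)) (by norm_num) (fun _ => hall _) (((((((((LB_zero T ((skipEmb 1).trans (Function.Embedding.refl _))).upd 0 2 1 (le_of_eq hx03)).upd 0 3 1 (le_of_eq hx04)).upd 1 2 1 (le_of_eq hx23)).upd 1 3 2 (le_of_eq hx24)).upd 2 0 1 (le_of_eq hx30)).upd 2 1 1 (le_of_eq hx32)).upd 3 0 1 (le_of_eq hx40)).upd 3 1 1 (le_of_eq hx42)) ![1,1,1,1] (by decide) (by decide) 0 (by decide))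
      · -- 24=(1,3)
        exact False.elim (cert_false T ((skipEmb 3).trans (Function.Embedding.refl _)) (by norm_num) (fun _ => hall _) (((((LB_zero T ((skipEmb 3).trans (Function.Embedding.refl _))).upd 0 3 1 (le_of_eq hx04)).upd 2 3 1 (le_of_eq hx24)).upd 3 0 1 (le_of_eq hx40)).upd 3 2 3 (le_of_eq hx42)) ![1,0,1,2] (by decide) (by decide) 0 (by decide))
      · -- 24=(3,1)
        exact False.elim (cert_false T ((skipEmb 3).trans (Function.Embedding.refl _)) (by norm_num) (fun _ => hall _) (((((LB_zero T ((skipEmb 3).trans (Function.Embedding.refl _))).upd 0 3 1 (le_of_eq hx04)).upd 2 3 3 (le_of_eq hx24)).upd 3 0 1 (le_of_eq hx40)).upd 3 2 1 (le_of_eq hx42)) ![1,0,3,2] (by decide) (by decide) 0 (by decide))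
    · -- 14=(1,1)
      exact False.elim (cert_false T ((skipEmb 2).trans (Function.Embedding.refl _)) (by norm_num) (fun _ => hall _) (((((((((LB_zero T ((skipEmb 2).trans (Function.Embedding.refl _))).upd 0 2 1 (le_of_eq hx03)).upd 0 3 1 (le_of_eq hx04)).upd 1 2 1 (le_of_eq hx13)).upd 1 3 1 (le_of_eq hx14)).upd 2 0 1 (le_of_eq hx30)).upd 2 1 1 (le_of_eq hx31)).upd 3 0 1 (le_of_eq hx40)).upd 3 1 1 (le_of_eq hx41)) ![1,1,1,1] (by decide) (by decide) 0 (by decide))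
    · -- 14=(1,2)
      exact False.elim (cert_false T ((skipEmb 2).trans (Function.Embedding.refl _)) (by norm_num) (fun _ => hall _) (((((((((LB_zero T ((skipEmb 2).trans (Function.Embedding.refl _))).upd 0 2 1 (le_of_eq hx03)).upd 0 3 1 (le_of_eq hx04)).upd 1 2 1 (le_of_eq hx13)).upd 1 3 1 (le_of_eq hx14)).upd 2 0 1 (le_of_eq hx30)).upd 2 1 1 (le_of_eq hx31)).upd 3 0 1 (le_of_eq hx40)).upd 3 1 2 (le_of_eq hx41)) ![1,1,1,1] (by decide) (by decide) 0 (by decide))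
    · -- 14=(2,1)
      exact False.elim (cert_false T ((skipEmb 2).trans (Function.Embedding.refl _)) (by norm_num) (fun _ => hall _) (((((((((LB_zero T ((skipEmb 2).trans (Function.Embedding.refl _))).upd 0 2 1 (le_of_eq hx03)).upd 0 3 1 (le_of_eq hx04)).upd 1 2 1 (le_of_eq hx13)).upd 1 3 2 (le_of_eq hx14)).upd 2 0 1 (le_of_eq hx30)).upd 2 1 1 (le_of_eq hx31)).upd 3 0 1 (le_of_eq hx40)).upd 3 1 1 (le_of_eq hx41)) ![1,1,1,1] (by decide) (by decide) 0 (by decide))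
    · -- 14=(1,3)
      exact False.elim (cert_false T ((skipEmb 3).trans (Function.Embedding.refl _)) (by norm_num) (fun _ => hall _) (((((LB_zero T ((skipEmb 3).trans (Function.Embedding.refl _))).upd 0 3 1 (le_of_eq hx04)).upd 1 3 1 (le_of_eq hx14)).upd 3 0 1 (le_of_eq hx40)).upd 3 1 3 (le_of_eq hx41)) ![1,1,0,2] (by decide) (by decide) 0 (by decide))
    · -- 14=(3,1)
      exact False.elim (cert_false T ((skipEmb 3).trans (Function.Embedding.refl _)) (by norm_num) (fun _ => hall _) (((((LB_zero T ((skipEmb 3).trans (Function.Embedding.refl _))).upd 0 3 1 (le_of_eq hx04)).upd 1 3 3 (le_of_eq hx14)).upd 3 0 1 (le_of_eq hx40)).upd 3 1 1 (le_of_eq hx41)) ![1,3,0,2] (by decide) (by decide) 0 (by decide))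
  · -- 04=(1,2)
    rcases d14 with ⟨rfl, rfl⟩ | ⟨rfl, rfl⟩ | ⟨rfl, rfl⟩ | ⟨rfl, rfl⟩ | ⟨rfl, rfl⟩ | ⟨rfl, rfl⟩
    · -- 14=(0,0)
      rcases d24 with ⟨rfl, rfl⟩ | ⟨rfl, rfl⟩ | ⟨rfl, rfl⟩ | ⟨rfl, rfl⟩ | ⟨rfl, rfl⟩ | ⟨rfl, rfl⟩
      · -- 24=(0,0)
        rcases d34 with ⟨rfl, rfl⟩ | ⟨rfl, rfl⟩ | ⟨rfl, rfl⟩ | ⟨rfl, rfl⟩ | ⟨rfl, rfl⟩ | ⟨rfl, rfl⟩
        · -- 34=(0,0)
          refine ⟨(⟨![4, 0, 3, 1, 2], ![1, 3, 4, 2, 0], by decide, by decide⟩ : Equiv.Perm (Fin 5)), T.m 1, T.w 4, Or.inr (Or.inr (Or.inr (Or.inr (Or.inr (Or.inr (Or.inr (Or.inr (?_))))))))⟩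
          show T.m 4 = 2 * T.m 1 ∧ T.m 0 = 2 * T.m 1 ∧ T.m 3 = 2 * T.m 1 ∧ T.m 1 = T.m 1 ∧ T.m 2 = T.m 1 ∧ T.w 4 = T.w 4 ∧ T.w 0 = 2 * T.w 4 ∧ T.w 3 = 2 * T.w 4 ∧ T.w 1 = 2 * T.w 4 ∧ T.w 2 = 2 * T.w 4 ∧ T.a 4 4 = -2 * T.w 4 ∧ T.a 4 0 = 2 * T.w 4 ∧ T.a 4 3 = 0 ∧ T.a 4 1 = 0 ∧ T.a 4 2 = 0 ∧ T.a 0 0 = -4 * T.w 4 ∧ T.a 0 3 = 2 * T.w 4 ∧ T.a 0 1 = 0 ∧ T.a 0 2 = 0 ∧ T.a 3 3 = -4 * T.w 4 ∧ T.a 3 1 = 2 * T.w 4 ∧ T.a 3 2 = 2 * T.w 4 ∧ T.a 1 1 = -4 * T.w 4 ∧ T.a 1 2 = 0 ∧ T.a 2 2 = -4 * T.w 4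
          refine ⟨?_, ?_, ?_, ?_, ?_, ?_, ?_, ?_, ?_, ?_, ?_, ?_, ?_, ?_, ?_, ?_, ?_, ?_, ?_, ?_, ?_, ?_, ?_, ?_, ?_⟩ <;> omega
        · -- 34=(1,1)
          exact False.elim (cert_false T ((skipEmb 2).trans (Function.Embedding.refl _)) (by norm_num) (fun _ => hall _) (((((((LB_zero T ((skipEmb 2).trans (Function.Embedding.refl _))).upd 0 2 1 (le_of_eq hx03)).upd 0 3 1 (le_of_eq hx04)).upd 2 0 1 (le_of_eq hx30)).upd 2 3 1 (le_of_eq hx34)).upd 3 0 2 (le_of_eq hx40)).upd 3 2 1 (le_of_eq hx43)) ![1,0,1,1] (by decide) (by decide) 0 (by decide))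
        · -- 34=(1,2)
          exact False.elim (cert_false T ((skipEmb 2).trans (Function.Embedding.refl _)) (by norm_num) (fun _ => hall _) (((((((LB_zero T ((skipEmb 2).trans (Function.Embedding.refl _))).upd 0 2 1 (le_of_eq hx03)).upd 0 3 1 (le_of_eq hx04)).upd 2 0 1 (le_of_eq hx30)).upd 2 3 1 (le_of_eq hx34)).upd 3 0 2 (le_of_eq hx40)).upd 3 2 2 (le_of_eq hx43)) ![1,0,1,1] (by decide) (by decide) 0 (by decide))
        · -- 34=(2,1)
          exact False.elim (cert_false T ((skipEmb 2).trans (Function.Embedding.refl _)) (by norm_num) (fun _ => hall _) (((((((LB_zero T ((skipEmb 2).trans (Function.Embedding.refl _))).upd 0 2 1 (le_of_eq hx03)).upd 0 3 1 (le_of_eq hx04)).upd 2 0 1 (le_of_eq hx30)).upd 2 3 2 (le_of_eq hx34)).upd 3 0 2 (le_of_eq hx40)).upd 3 2 1 (le_of_eq hx43)) ![1,0,1,1] (by decide) (by decide) 0 (by decide))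
        · -- 34=(1,3)
          exact False.elim (cert_false T ((skipEmb 2).trans (Function.Embedding.refl _)) (by norm_num) (fun _ => hall _) (((((((LB_zero T ((skipEmb 2).trans (Function.Embedding.refl _))).upd 0 2 1 (le_of_eq hx03)).upd 0 3 1 (le_of_eq hx04)).upd 2 0 1 (le_of_eq hx30)).upd 2 3 1 (le_of_eq hx34)).upd 3 0 2 (le_of_eq hx40)).upd 3 2 3 (le_of_eq hx43)) ![1,0,1,1] (by decide) (by decide) 0 (by decide))
        · -- 34=(3,1)
          exact False.elim (cert_false T ((skipEmb 2).trans (Function.Embedding.refl _)) (by norm_num) (fun _ => hall _) (((((((LB_zero T ((skipEmb 2).trans (Function.Embedding.refl _))).upd 0 2 1 (le_of_eq hx03)).upd 0 3 1 (le_of_eq hx04)).upd 2 0 1 (le_of_eq hx30)).upd 2 3 3 (le_of_eq hx34)).upd 3 0 2 (le_of_eq hx40)).upd 3 2 1 (le_of_eq hx43)) ![1,0,1,1] (by decide) (by decide) 0 (by decide))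
      · -- 24=(1,1)
        exact False.elim (cert_false T ((skipEmb 1).trans (Function.Embedding.refl _)) (by norm_num) (fun _ => hall _) (((((((((LB_zero T ((skipEmb 1).trans (Function.Embedding.refl _))).upd 0 2 1 (le_of_eq hx03)).upd 0 3 1 (le_of_eq hx04)).upd 1 2 1 (le_of_eq hx23)).upd 1 3 1 (le_of_eq hx24)).upd 2 0 1 (le_of_eq hx30)).upd 2 1 1 (le_of_eq hx32)).upd 3 0 2 (le_of_eq hx40)).upd 3 1 1 (le_of_eq hx42)) ![1,1,1,1] (by decide) (by decide) 0 (by decide))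
      · -- 24=(1,2)
        exact False.elim (cert_false T ((skipEmb 3).trans (Function.Embedding.refl _)) (by norm_num) (fun _ => hall _) (((((LB_zero T ((skipEmb 3).trans (Function.Embedding.refl _))).upd 0 3 1 (le_of_eq hx04)).upd 2 3 1 (le_of_eq hx24)).upd 3 0 2 (le_of_eq hx40)).upd 3 2 2 (le_of_eq hx42)) ![1,0,1,2] (by decide) (by decide) 0 (by decide))
      · -- 24=(2,1)
        exact False.elim (cert_false T ((skipEmb 3).trans (Function.Embedding.refl _)) (by norm_num) (fun _ => hall _) (((((LB_zero T ((skipEmb 3).trans (Function.Embedding.refl _))).upd 0 3 1 (le_of_eq hx04)).upd 2 3 2 (le_of_eq hx24)).upd 3 0 2 (le_of_eq hx40)).upd 3 2 1 (le_of_eq hx42)) ![1,0,2,2] (by decide) (by decide) 0 (by decide))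
      · -- 24=(1,3)
        exact False.elim (cert_false T ((skipEmb 3).trans (Function.Embedding.refl _)) (by norm_num) (fun _ => hall _) (((((LB_zero T ((skipEmb 3).trans (Function.Embedding.refl _))).upd 0 3 1 (le_of_eq hx04)).upd 2 3 1 (le_of_eq hx24)).upd 3 0 2 (le_of_eq hx40)).upd 3 2 3 (le_of_eq hx42)) ![1,0,1,2] (by decide) (by decide) 0 (by decide))
      · -- 24=(3,1)
        exact False.elim (cert_false T ((skipEmb 3).trans (Function.Embedding.refl _)) (by norm_num) (fun _ => hall _) (((((LB_zero T ((skipEmb 3).trans (Function.Embedding.refl _))).upd 0 3 1 (le_of_eq hx04)).upd 2 3 3 (le_of_eq hx24)).upd 3 0 2 (le_of_eq hx40)).upd 3 2 1 (le_of_eq hx42)) ![1,0,2,2] (by decide) (by decide) 0 (by decide))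
    · -- 14=(1,1)
      exact False.elim (cert_false T ((skipEmb 2).trans (Function.Embedding.refl _)) (by norm_num) (fun _ => hall _) (((((((((LB_zero T ((skipEmb 2).trans (Function.Embedding.refl _))).upd 0 2 1 (le_of_eq hx03)).upd 0 3 1 (le_of_eq hx04)).upd 1 2 1 (le_of_eq hx13)).upd 1 3 1 (le_of_eq hx14)).upd 2 0 1 (le_of_eq hx30)).upd 2 1 1 (le_of_eq hx31)).upd 3 0 2 (le_of_eq hx40)).upd 3 1 1 (le_of_eq hx41)) ![1,1,1,1] (by decide) (by decide) 0 (by decide))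
    · -- 14=(1,2)
      exact False.elim (cert_false T ((skipEmb 3).trans (Function.Embedding.refl _)) (by norm_num) (fun _ => hall _) (((((LB_zero T ((skipEmb 3).trans (Function.Embedding.refl _))).upd 0 3 1 (le_of_eq hx04)).upd 1 3 1 (le_of_eq hx14)).upd 3 0 2 (le_of_eq hx40)).upd 3 1 2 (le_of_eq hx41)) ![1,1,0,2] (by decide) (by decide) 0 (by decide))
    · -- 14=(2,1)
      exact False.elim (cert_false T ((skipEmb 3).trans (Function.Embedding.refl _)) (by norm_num) (fun _ => hall _) (((((LB_zero T ((skipEmb 3).trans (Function.Embedding.refl _))).upd 0 3 1 (le_of_eq hx04)).upd 1 3 2 (le_of_eq hx14)).upd 3 0 2 (le_of_eq hx40)).upd 3 1 1 (le_of_eq hx41)) ![1,2,0,2] (by decide) (by decide) 0 (by decide))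
    · -- 14=(1,3)
      exact False.elim (cert_false T ((skipEmb 3).trans (Function.Embedding.refl _)) (by norm_num) (fun _ => hall _) (((((LB_zero T ((skipEmb 3).trans (Function.Embedding.refl _))).upd 0 3 1 (le_of_eq hx04)).upd 1 3 1 (le_of_eq hx14)).upd 3 0 2 (le_of_eq hx40)).upd 3 1 3 (le_of_eq hx41)) ![1,1,0,2] (by decide) (by decide) 0 (by decide))
    · -- 14=(3,1)
      exact False.elim (cert_false T ((skipEmb 3).trans (Function.Embedding.refl _)) (by norm_num) (fun _ => hall _) (((((LB_zero T ((skipEmb 3).trans (Function.Embedding.refl _))).upd 0 3 1 (le_of_eq hx04)).upd 1 3 3 (le_of_eq hx14)).upd 3 0 2 (le_of_eq hx40)).upd 3 1 1 (le_of_eq hx41)) ![1,2,0,2] (by decide) (by decide) 0 (by decide))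
  · -- 04=(2,1)
    rcases d14 with ⟨rfl, rfl⟩ | ⟨rfl, rfl⟩ | ⟨rfl, rfl⟩ | ⟨rfl, rfl⟩ | ⟨rfl, rfl⟩ | ⟨rfl, rfl⟩
    · -- 14=(0,0)
      rcases d24 with ⟨rfl, rfl⟩ | ⟨rfl, rfl⟩ | ⟨rfl, rfl⟩ | ⟨rfl, rfl⟩ | ⟨rfl, rfl⟩ | ⟨rfl, rfl⟩
      · -- 24=(0,0)
        rcases d34 with ⟨rfl, rfl⟩ | ⟨rfl, rfl⟩ | ⟨rfl, rfl⟩ | ⟨rfl, rfl⟩ | ⟨rfl, rfl⟩ | ⟨rfl, rfl⟩
        · -- 34=(0,0)
          refine ⟨(⟨![4, 0, 3, 1, 2], ![1, 3, 4, 2, 0], by decide, by decide⟩ : Equiv.Perm (Fin 5)), T.m 4, T.w 0, Or.inr (Or.inr (Or.inr (Or.inr (Or.inr (Or.inr (Or.inr (Or.inl ?_)))))))⟩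
          show T.m 4 = T.m 4 ∧ T.m 0 = 2 * T.m 4 ∧ T.m 3 = 2 * T.m 4 ∧ T.m 1 = T.m 4 ∧ T.m 2 = T.m 4 ∧ T.w 4 = 2 * T.w 0 ∧ T.w 0 = T.w 0 ∧ T.w 3 = T.w 0 ∧ T.w 1 = T.w 0 ∧ T.w 2 = T.w 0 ∧ T.a 4 4 = -4 * T.w 0 ∧ T.a 4 0 = 2 * T.w 0 ∧ T.a 4 3 = 0 ∧ T.a 4 1 = 0 ∧ T.a 4 2 = 0 ∧ T.a 0 0 = -2 * T.w 0 ∧ T.a 0 3 = T.w 0 ∧ T.a 0 1 = 0 ∧ T.a 0 2 = 0 ∧ T.a 3 3 = -2 * T.w 0 ∧ T.a 3 1 = T.w 0 ∧ T.a 3 2 = T.w 0 ∧ T.a 1 1 = -2 * T.w 0 ∧ T.a 1 2 = 0 ∧ T.a 2 2 = -2 * T.w 0
          refine ⟨?_, ?_, ?_, ?_, ?_, ?_, ?_, ?_, ?_, ?_, ?_, ?_, ?_, ?_, ?_, ?_, ?_, ?_, ?_, ?_, ?_, ?_, ?_, ?_, ?_⟩ <;> omega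
        · -- 34=(1,1)
          exact False.elim (cert_false T ((skipEmb 2).trans (Function.Embedding.refl _)) (by norm_num) (fun _ => hall _) (((((((LB_zero T ((skipEmb 2).trans (Function.Embedding.refl _))).upd 0 2 1 (le_of_eq hx03)).upd 0 3 2 (le_of_eq hx04)).upd 2 0 1 (le_of_eq hx30)).upd 2 3 1 (le_of_eq hx34)).upd 3 0 1 (le_of_eq hx40)).upd 3 2 1 (le_of_eq hx43)) ![1,0,1,1] (by decide) (by decide) 0 (by decide))
        · -- 34=(1,2)
          exact False.elim (cert_false T ((skipEmb 2).trans (Function.Embedding.refl _)) (by norm_num) (fun _ => hall _) (((((((LB_zero T ((skipEmb 2).trans (Function.Embedding.refl _))).upd 0 2 1 (le_of_eq hx03)).upd 0 3 2 (le_of_eq hx04)).upd 2 0 1 (le_of_eq hx30)).upd 2 3 1 (le_of_eq hx34)).upd 3 0 1 (le_of_eq hx40)).upd 3 2 2 (le_of_eq hx43)) ![1,0,1,1] (by decide) (by decide) 0 (by decide))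
        · -- 34=(2,1)
          exact False.elim (cert_false T ((skipEmb 2).trans (Function.Embedding.refl _)) (by norm_num) (fun _ => hall _) (((((((LB_zero T ((skipEmb 2).trans (Function.Embedding.refl _))).upd 0 2 1 (le_of_eq hx03)).upd 0 3 2 (le_of_eq hx04)).upd 2 0 1 (le_of_eq hx30)).upd 2 3 2 (le_of_eq hx34)).upd 3 0 1 (le_of_eq hx40)).upd 3 2 1 (le_of_eq hx43)) ![1,0,1,1] (by decide) (by decide) 0 (by decide))
        · -- 34=(1,3)
          exact False.elim (cert_false T ((skipEmb 2).trans (Function.Embedding.refl _)) (by norm_num) (fun _ => hall _) (((((((LB_zero T ((skipEmb 2).trans (Function.Embedding.refl _))).upd 0 2 1 (le_of_eq hx03)).upd 0 3 2 (le_of_eq hx04)).upd 2 0 1 (le_of_eq hx30)).upd 2 3 1 (le_of_eq hx34)).upd 3 0 1 (le_of_eq hx40)).upd 3 2 3 (le_of_eq hx43)) ![1,0,1,1] (by decide) (by decide) 0 (by decide))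
        · -- 34=(3,1)
          exact False.elim (cert_false T ((skipEmb 2).trans (Function.Embedding.refl _)) (by norm_num) (fun _ => hall _) (((((((LB_zero T ((skipEmb 2).trans (Function.Embedding.refl _))).upd 0 2 1 (le_of_eq hx03)).upd 0 3 2 (le_of_eq hx04)).upd 2 0 1 (le_of_eq hx30)).upd 2 3 3 (le_of_eq hx34)).upd 3 0 1 (le_of_eq hx40)).upd 3 2 1 (le_of_eq hx43)) ![1,0,1,1] (by decide) (by decide) 0 (by decide))
      · -- 24=(1,1)
        exact False.elim (cert_false T ((skipEmb 1).trans (Function.Embedding.refl _)) (by norm_num) (fun _ => hall _) (((((((((LB_zero T ((skipEmb 1).trans (Function.Embedding.refl _))).upd 0 2 1 (le_of_eq hx03)).upd 0 3 2 (le_of_eq hx04)).upd 1 2 1 (le_of_eq hx23)).upd 1 3 1 (le_of_eq hx24)).upd 2 0 1 (le_of_eq hx30)).upd 2 1 1 (le_of_eq hx32)).upd 3 0 1 (le_of_eq hx40)).upd 3 1 1 (le_of_eq hx42)) ![1,1,1,1] (by decide) (by decide) 0 (by decide))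
      · -- 24=(1,2)
        exact False.elim (cert_false T ((skipEmb 3).trans (Function.Embedding.refl _)) (by norm_num) (fun _ => hall _) (((((LB_zero T ((skipEmb 3).trans (Function.Embedding.refl _))).upd 0 3 2 (le_of_eq hx04)).upd 2 3 1 (le_of_eq hx24)).upd 3 0 1 (le_of_eq hx40)).upd 3 2 2 (le_of_eq hx42)) ![2,0,1,2] (by decide) (by decide) 0 (by decide))
      · -- 24=(2,1)
        exact False.elim (cert_false T ((skipEmb 3).trans (Function.Embedding.refl _)) (by norm_num) (fun _ => hall _) (((((LB_zero T ((skipEmb 3).trans (Function.Embedding.refl _))).upd 0 3 2 (le_of_eq hx04)).upd 2 3 2 (le_of_eq hx24)).upd 3 0 1 (le_of_eq hx40)).upd 3 2 1 (le_of_eq hx42)) ![1,0,1,1] (by decide) (by decide) 0 (by decide))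
      · -- 24=(1,3)
        exact False.elim (cert_false T ((skipEmb 3).trans (Function.Embedding.refl _)) (by norm_num) (fun _ => hall _) (((((LB_zero T ((skipEmb 3).trans (Function.Embedding.refl _))).upd 0 3 2 (le_of_eq hx04)).upd 2 3 1 (le_of_eq hx24)).upd 3 0 1 (le_of_eq hx40)).upd 3 2 3 (le_of_eq hx42)) ![1,0,1,2] (by decide) (by decide) 0 (by decide))
      · -- 24=(3,1)
        exact False.elim (cert_false T ((skipEmb 3).trans (Function.Embedding.refl _)) (by norm_num) (fun _ => hall _) (((((LB_zero T ((skipEmb 3).trans (Function.Embedding.refl _))).upd 0 3 2 (le_of_eq hx04)).upd 2 3 3 (le_of_eq hx24)).upd 3 0 1 (le_of_eq hx40)).upd 3 2 1 (le_of_eq hx42)) ![1,0,1,1] (by decide) (by decide) 0 (by decide))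
    · -- 14=(1,1)
      exact False.elim (cert_false T ((skipEmb 2).trans (Function.Embedding.refl _)) (by norm_num) (fun _ => hall _) (((((((((LB_zero T ((skipEmb 2).trans (Function.Embedding.refl _))).upd 0 2 1 (le_of_eq hx03)).upd 0 3 2 (le_of_eq hx04)).upd 1 2 1 (le_of_eq hx13)).upd 1 3 1 (le_of_eq hx14)).upd 2 0 1 (le_of_eq hx30)).upd 2 1 1 (le_of_eq hx31)).upd 3 0 1 (le_of_eq hx40)).upd 3 1 1 (le_of_eq hx41)) ![1,1,1,1] (by decide) (by decide) 0 (by decide))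
    · -- 14=(1,2)
      exact False.elim (cert_false T ((skipEmb 3).trans (Function.Embedding.refl _)) (by norm_num) (fun _ => hall _) (((((LB_zero T ((skipEmb 3).trans (Function.Embedding.refl _))).upd 0 3 2 (le_of_eq hx04)).upd 1 3 1 (le_of_eq hx14)).upd 3 0 1 (le_of_eq hx40)).upd 3 1 2 (le_of_eq hx41)) ![2,1,0,2] (by decide) (by decide) 0 (by decide))
    · -- 14=(2,1)
      exact False.elim (cert_false T ((skipEmb 3).trans (Function.Embedding.refl _)) (by norm_num) (fun _ => hall _) (((((LB_zero T ((skipEmb 3).trans (Function.Embedding.refl _))).upd 0 3 2 (le_of_eq hx04)).upd 1 3 2 (le_of_eq hx14)).upd 3 0 1 (le_of_eq hx40)).upd 3 1 1 (le_of_eq hx41)) ![1,1,0,1] (by decide) (by decide) 0 (by decide))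
    · -- 14=(1,3)
      exact False.elim (cert_false T ((skipEmb 3).trans (Function.Embedding.refl _)) (by norm_num) (fun _ => hall _) (((((LB_zero T ((skipEmb 3).trans (Function.Embedding.refl _))).upd 0 3 2 (le_of_eq hx04)).upd 1 3 1 (le_of_eq hx14)).upd 3 0 1 (le_of_eq hx40)).upd 3 1 3 (le_of_eq hx41)) ![1,1,0,2] (by decide) (by decide) 0 (by decide))
    · -- 14=(3,1)
      exact False.elim (cert_false T ((skipEmb 3).trans (Function.Embedding.refl _)) (by norm_num) (fun _ => hall _) (((((LB_zero T ((skipEmb 3).trans (Function.Embedding.refl _))).upd 0 3 2 (le_of_eq hx04)).upd 1 3 3 (le_of_eq hx14)).upd 3 0 1 (le_of_eq hx40)).upd 3 1 1 (le_of_eq hx41)) ![1,1,0,1] (by decide) (by decide) 0 (by decide))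
  · -- 04=(1,3)
    exact False.elim (cert_false T ((skipEmb 2).trans (Function.Embedding.refl _)) (by norm_num) (fun _ => hall _) (((((LB_zero T ((skipEmb 2).trans (Function.Embedding.refl _))).upd 0 2 1 (le_of_eq hx03)).upd 0 3 1 (le_of_eq hx04)).upd 2 0 1 (le_of_eq hx30)).upd 3 0 3 (le_of_eq hx40)) ![2,0,1,3] (by decide) (by decide) 0 (by decide))
  · -- 04=(3,1)
    exact False.elim (cert_false T ((skipEmb 2).trans (Function.Embedding.refl _)) (by norm_num) (fun _ => hall _) (((((LB_zero T ((skipEmb 2).trans (Function.Embedding.refl _))).upd 0 2 1 (le_of_eq hx03)).upd 0 3 3 (le_of_eq hx04)).upd 2 0 1 (le_of_eq hx30)).upd 3 0 1 (le_of_eq hx40)) ![2,0,1,1] (by decide) (by decide) 0 (by decide))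

theorem case53 (T : NumericalType 5) (hall : ∀ i, T.IsMinusTwo i) (d : SData T)
    (h01 : N T (Function.Embedding.refl _) 0 1 = 0) (h10 : N T (Function.Embedding.refl _) 1 0 = 0)
    (h02 : N T (Function.Embedding.refl _) 0 2 = 0) (h20 : N T (Function.Embedding.refl _) 2 0 = 0)
    (h12 : N T (Function.Embedding.refl _) 1 2 = 0) (h21 : N T (Function.Embedding.refl _) 2 1 = 0)
    (h03 : N T (Function.Embedding.refl _) 0 3 = 1) (h30 : N T (Function.Embedding.refl _) 3 0 = 1)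
    (h13 : N T (Function.Embedding.refl _) 1 3 = 1) (h31 : N T (Function.Embedding.refl _) 3 1 = 1) :
    Goal T := by
  unfold Goal
  have hd := d
  obtain ⟨x01, x02, x03, x04, x10, x12, x13, x14, x20, x21, x23, x24, x30, x31, x32, x34, x40, x41, x42, x43, hx01, hx02, hx03, hx04, hx10, hx12, hx13, hx14, hx20, hx21, hx23, hx24, hx30, hx31, hx32, hx34, hx40, hx41, hx42, hx43, hw0, hm0, hw1, hm1, hw2, hm2, hw3, hm3, hw4, hm4, a00, a01, a02, a03, a04, a11, a10, a12, a13, a14, a22, a20, a21, a23, a24, a33, a30, a31, a32, a34, a44, a40, a41, a42, a43, wN01, wN02, wN12, wN03, wN13, wN23, wN04, wN14, wN24, wN34, e0, e1, e2, e3, e4, d01, d02, d12, d03, d13, d23, d04, d14, d24, d34⟩ := d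
  obtain rfl : x01 = 0 := hx01.trans h01
  obtain rfl : x10 = 0 := hx10.trans h10
  obtain rfl : x02 = 0 := hx02.trans h02
  obtain rfl : x20 = 0 := hx20.trans h20
  obtain rfl : x12 = 0 := hx12.trans h12
  obtain rfl : x21 = 0 := hx21.trans h21
  obtain rfl : x03 = 1 := hx03.trans h03
  obtain rfl : x30 = 1 := hx30.trans h30
  obtain rfl : x13 = 1 := hx13.trans h13
  obtain rfl : x31 = 1 := hx31.trans h31
  rcases d23 with ⟨rfl, rfl⟩ | ⟨rfl, rfl⟩ | ⟨rfl, rfl⟩ | ⟨rfl, rfl⟩ | ⟨rfl, rfl⟩ | ⟨rfl, rfl⟩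
  · -- 23=(0,0)
    exact case54 T hall hd hx01.symm hx10.symm hx02.symm hx20.symm hx12.symm hx21.symm hx03.symm hx30.symm hx13.symm hx31.symm hx23.symm hx32.symm
  · -- 23=(1,1)
    exact case56 T hall hd hx01.symm hx10.symm hx02.symm hx20.symm hx12.symm hx21.symm hx03.symm hx30.symm hx13.symm hx31.symm hx23.symm hx32.symm
  · -- 23=(1,2)
    exact False.elim (cert_false T ((skipEmb 4).trans (Function.Embedding.refl _)) (by norm_num) (fun _ => hall _) (((((((LB_zero T ((skipEmb 4).trans (Function.Embedding.refl _))).upd 0 3 1 (le_of_eq hx03)).upd 1 3 1 (le_of_eq hx13)).upd 2 3 1 (le_of_eq hx23)).upd 3 0 1 (le_of_eq hx30)).upd 3 1 1 (le_of_eq hx31)).upd 3 2 2 (le_of_eq hx32)) ![1,1,1,2] (by decide) (by decide) 0 (by decide))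
  · -- 23=(2,1)
    exact False.elim (cert_false T ((skipEmb 4).trans (Function.Embedding.refl _)) (by norm_num) (fun _ => hall _) (((((((LB_zero T ((skipEmb 4).trans (Function.Embedding.refl _))).upd 0 3 1 (le_of_eq hx03)).upd 1 3 1 (le_of_eq hx13)).upd 2 3 2 (le_of_eq hx23)).upd 3 0 1 (le_of_eq hx30)).upd 3 1 1 (le_of_eq hx31)).upd 3 2 1 (le_of_eq hx32)) ![1,1,2,2] (by decide) (by decide) 0 (by decide))
  · -- 23=(1,3)
    exact False.elim (cert_false T ((skipEmb 4).trans (Function.Embedding.refl _)) (by norm_num) (fun _ => hall _) (((((LB_zero T ((skipEmb 4).trans (Function.Embedding.refl _))).upd 1 3 1 (le_of_eq hx13)).upd 2 3 1 (le_of_eq hx23)).upd 3 1 1 (le_of_eq hx31)).upd 3 2 3 (le_of_eq hx32)) ![0,1,1,2] (by decide) (by decide) 1 (by decide))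
  · -- 23=(3,1)
    exact False.elim (cert_false T ((skipEmb 4).trans (Function.Embedding.refl _)) (by norm_num) (fun _ => hall _) (((((((LB_zero T ((skipEmb 4).trans (Function.Embedding.refl _))).upd 0 3 1 (le_of_eq hx03)).upd 1 3 1 (le_of_eq hx13)).upd 2 3 3 (le_of_eq hx23)).upd 3 0 1 (le_of_eq hx30)).upd 3 1 1 (le_of_eq hx31)).upd 3 2 1 (le_of_eq hx32)) ![1,1,2,2] (by decide) (by decide) 0 (by decide))

theorem case106 (T : NumericalType 5) (hall : ∀ i, T.IsMinusTwo i) (d : SData T)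
    (h01 : N T (Function.Embedding.refl _) 0 1 = 0) (h10 : N T (Function.Embedding.refl _) 1 0 = 0)
    (h02 : N T (Function.Embedding.refl _) 0 2 = 0) (h20 : N T (Function.Embedding.refl _) 2 0 = 0)
    (h12 : N T (Function.Embedding.refl _) 1 2 = 1) (h21 : N T (Function.Embedding.refl _) 2 1 = 1)
    (h03 : N T (Function.Embedding.refl _) 0 3 = 0) (h30 : N T (Function.Embedding.refl _) 3 0 = 0)
    (h13 : N T (Function.Embedding.refl _) 1 3 = 2) (h31 : N T (Function.Embedding.refl _) 3 1 = 1)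
    (h23 : N T (Function.Embedding.refl _) 2 3 = 0) (h32 : N T (Function.Embedding.refl _) 3 2 = 0) :
    Goal T := by
  unfold Goal
  have hd := d
  obtain ⟨x01, x02, x03, x04, x10, x12, x13, x14, x20, x21, x23, x24, x30, x31, x32, x34, x40, x41, x42, x43, hx01, hx02, hx03, hx04, hx10, hx12, hx13, hx14, hx20, hx21, hx23, hx24, hx30, hx31, hx32, hx34, hx40, hx41, hx42, hx43, hw0, hm0, hw1, hm1, hw2, hm2, hw3, hm3, hw4, hm4, a00, a01, a02, a03, a04, a11, a10, a12, a13, a14, a22, a20, a21, a23, a24, a33, a30, a31, a32, a34, a44, a40, a41, a42, a43, wN01, wN02, wN12, wN03, wN13, wN23, wN04, wN14, wN24, wN34, e0, e1, e2, e3, e4, d01, d02, d12, d03, d13, d23, d04, d14, d24, d34⟩ := d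
  obtain rfl : x01 = 0 := hx01.trans h01
  obtain rfl : x10 = 0 := hx10.trans h10
  obtain rfl : x02 = 0 := hx02.trans h02
  obtain rfl : x20 = 0 := hx20.trans h20
  obtain rfl : x12 = 1 := hx12.trans h12
  obtain rfl : x21 = 1 := hx21.trans h21
  obtain rfl : x03 = 0 := hx03.trans h03
  obtain rfl : x30 = 0 := hx30.trans h30
  obtain rfl : x13 = 2 := hx13.trans h13
  obtain rfl : x31 = 1 := hx31.trans h31
  obtain rfl : x23 = 0 := hx23.trans h23
  obtain rfl : x32 = 0 := hx32.trans h32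
  rcases d04 with ⟨rfl, rfl⟩ | ⟨rfl, rfl⟩ | ⟨rfl, rfl⟩ | ⟨rfl, rfl⟩ | ⟨rfl, rfl⟩ | ⟨rfl, rfl⟩
  · -- 04=(0,0)
    rcases d14 with ⟨rfl, rfl⟩ | ⟨rfl, rfl⟩ | ⟨rfl, rfl⟩ | ⟨rfl, rfl⟩ | ⟨rfl, rfl⟩ | ⟨rfl, rfl⟩
    · -- 14=(0,0)
      rcases d24 with ⟨rfl, rfl⟩ | ⟨rfl, rfl⟩ | ⟨rfl, rfl⟩ | ⟨rfl, rfl⟩ | ⟨rfl, rfl⟩ | ⟨rfl, rfl⟩
      · -- 24=(0,0)
        rcases d34 with ⟨rfl, rfl⟩ | ⟨rfl, rfl⟩ | ⟨rfl, rfl⟩ | ⟨rfl, rfl⟩ | ⟨rfl, rfl⟩ | ⟨rfl, rfl⟩
        · -- 34=(0,0)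
          exfalso; omega
        · -- 34=(1,1)
          exfalso; omega
        · -- 34=(1,2)
          exact False.elim (cert_false T ((skipEmb 2).trans (Function.Embedding.refl _)) (by norm_num) (fun _ => hall _) (((((LB_zero T ((skipEmb 2).trans (Function.Embedding.refl _))).upd 1 2 2 (le_of_eq hx13)).upd 2 1 1 (le_of_eq hx31)).upd 2 3 1 (le_of_eq hx34)).upd 3 2 2 (le_of_eq hx43)) ![0,1,1,1] (by decide) (by decide) 1 (by decide))
        · -- 34=(2,1)
          exact False.elim (cert_false T ((skipEmb 2).trans (Function.Embedding.refl _)) (by norm_num) (fun _ => hall _) (((((LB_zero T ((skipEmb 2).trans (Function.Embedding.refl _))).upd 1 2 2 (le_of_eq hx13)).upd 2 1 1 (le_of_eq hx31)).upd 2 3 2 (le_of_eq hx34)).upd 3 2 1 (le_of_eq hx43)) ![0,2,2,1] (by decide) (by decide) 1 (by decide))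
        · -- 34=(1,3)
          exact False.elim (cert_false T ((skipEmb 2).trans (Function.Embedding.refl _)) (by norm_num) (fun _ => hall _) (((((LB_zero T ((skipEmb 2).trans (Function.Embedding.refl _))).upd 1 2 2 (le_of_eq hx13)).upd 2 1 1 (le_of_eq hx31)).upd 2 3 1 (le_of_eq hx34)).upd 3 2 3 (le_of_eq hx43)) ![0,1,1,1] (by decide) (by decide) 1 (by decide))
        · -- 34=(3,1)
          exact False.elim (cert_false T ((skipEmb 2).trans (Function.Embedding.refl _)) (by norm_num) (fun _ => hall _) (((((LB_zero T ((skipEmb 2).trans (Function.Embedding.refl _))).upd 1 2 2 (le_of_eq hx13)).upd 2 1 1 (le_of_eq hx31)).upd 2 3 3 (le_of_eq hx34)).upd 3 2 1 (le_of_eq hx43)) ![0,1,2,1] (by decide) (by decide) 1 (by decide))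
      · -- 24=(1,1)
        rcases d34 with ⟨rfl, rfl⟩ | ⟨rfl, rfl⟩ | ⟨rfl, rfl⟩ | ⟨rfl, rfl⟩ | ⟨rfl, rfl⟩ | ⟨rfl, rfl⟩
        · -- 34=(0,0)
          exfalso; omega
        · -- 34=(1,1)
          exact False.elim (cert_false T ((skipEmb 0).trans (Function.Embedding.refl _)) (by norm_num) (fun _ => hall _) (((((((((LB_zero T ((skipEmb 0).trans (Function.Embedding.refl _))).upd 0 1 1 (le_of_eq hx12)).upd 0 2 2 (le_of_eq hx13)).upd 1 0 1 (le_of_eq hx21)).upd 1 3 1 (le_of_eq hx24)).upd 2 0 1 (le_of_eq hx31)).upd 2 3 1 (le_of_eq hx34)).upd 3 1 1 (le_of_eq hx42)).upd 3 2 1 (le_of_eq hx43)) ![1,1,1,1] (by decide) (by decide) 0 (by decide))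
        · -- 34=(1,2)
          exact False.elim (cert_false T ((skipEmb 2).trans (Function.Embedding.refl _)) (by norm_num) (fun _ => hall _) (((((LB_zero T ((skipEmb 2).trans (Function.Embedding.refl _))).upd 1 2 2 (le_of_eq hx13)).upd 2 1 1 (le_of_eq hx31)).upd 2 3 1 (le_of_eq hx34)).upd 3 2 2 (le_of_eq hx43)) ![0,1,1,1] (by decide) (by decide) 1 (by decide))
        · -- 34=(2,1)
          exact False.elim (cert_false T ((skipEmb 2).trans (Function.Embedding.refl _)) (by norm_num) (fun _ => hall _) (((((LB_zero T ((skipEmb 2).trans (Function.Embedding.refl _))).upd 1 2 2 (le_of_eq hx13)).upd 2 1 1 (le_of_eq hx31)).upd 2 3 2 (le_of_eq hx34)).upd 3 2 1 (le_of_eq hx43)) ![0,2,2,1] (by decide) (by decide) 1 (by decide))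
        · -- 34=(1,3)
          exact False.elim (cert_false T ((skipEmb 2).trans (Function.Embedding.refl _)) (by norm_num) (fun _ => hall _) (((((LB_zero T ((skipEmb 2).trans (Function.Embedding.refl _))).upd 1 2 2 (le_of_eq hx13)).upd 2 1 1 (le_of_eq hx31)).upd 2 3 1 (le_of_eq hx34)).upd 3 2 3 (le_of_eq hx43)) ![0,1,1,1] (by decide) (by decide) 1 (by decide))
        · -- 34=(3,1)
          exact False.elim (cert_false T ((skipEmb 2).trans (Function.Embedding.refl _)) (by norm_num) (fun _ => hall _) (((((LB_zero T ((skipEmb 2).trans (Function.Embedding.refl _))).upd 1 2 2 (le_of_eq hx13)).upd 2 1 1 (le_of_eq hx31)).upd 2 3 3 (le_of_eq hx34)).upd 3 2 1 (le_of_eq hx43)) ![0,1,2,1] (by decide) (by decide) 1 (by decide))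
      · -- 24=(1,2)
        exact False.elim (cert_false T ((skipEmb 0).trans (Function.Embedding.refl _)) (by norm_num) (fun _ => hall _) (((((((LB_zero T ((skipEmb 0).trans (Function.Embedding.refl _))).upd 0 1 1 (le_of_eq hx12)).upd 0 2 2 (le_of_eq hx13)).upd 1 0 1 (le_of_eq hx21)).upd 1 3 1 (le_of_eq hx24)).upd 2 0 1 (le_of_eq hx31)).upd 3 1 2 (le_of_eq hx42)) ![2,2,1,2] (by decide) (by decide) 0 (by decide))
      · -- 24=(2,1)
        exact False.elim (cert_false T ((skipEmb 0).trans (Function.Embedding.refl _)) (by norm_num) (fun _ => hall _) (((((((LB_zero T ((skipEmb 0).trans (Function.Embedding.refl _))).upd 0 1 1 (le_of_eq hx12)).upd 0 2 2 (le_of_eq hx13)).upd 1 0 1 (le_of_eq hx21)).upd 1 3 2 (le_of_eq hx24)).upd 2 0 1 (le_of_eq hx31)).upd 3 1 1 (le_of_eq hx42)) ![2,2,1,1] (by decide) (by decide) 0 (by decide))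
      · -- 24=(1,3)
        exact False.elim (cert_false T ((skipEmb 3).trans (Function.Embedding.refl _)) (by norm_num) (fun _ => hall _) (((((LB_zero T ((skipEmb 3).trans (Function.Embedding.refl _))).upd 1 2 1 (le_of_eq hx12)).upd 2 1 1 (le_of_eq hx21)).upd 2 3 1 (le_of_eq hx24)).upd 3 2 3 (le_of_eq hx42)) ![0,1,2,3] (by decide) (by decide) 1 (by decide))
      · -- 24=(3,1)
        exact False.elim (cert_false T ((skipEmb 3).trans (Function.Embedding.refl _)) (by norm_num) (fun _ => hall _) (((((LB_zero T ((skipEmb 3).trans (Function.Embedding.refl _))).upd 1 2 1 (le_of_eq hx12)).upd 2 1 1 (le_of_eq hx21)).upd 2 3 3 (le_of_eq hx24)).upd 3 2 1 (le_of_eq hx42)) ![0,1,2,1] (by decide) (by decide) 1 (by decide))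
    · -- 14=(1,1)
      exact False.elim (cert_false T ((skipEmb 0).trans (Function.Embedding.refl _)) (by norm_num) (fun _ => hall _) (((((((LB_zero T ((skipEmb 0).trans (Function.Embedding.refl _))).upd 0 1 1 (le_of_eq hx12)).upd 0 2 2 (le_of_eq hx13)).upd 0 3 1 (le_of_eq hx14)).upd 1 0 1 (le_of_eq hx21)).upd 2 0 1 (le_of_eq hx31)).upd 3 0 1 (le_of_eq hx41)) ![2,1,1,1] (by decide) (by decide) 0 (by decide))
    · -- 14=(1,2)
      exact False.elim (cert_false T ((skipEmb 2).trans (Function.Embedding.refl _)) (by norm_num) (fun _ => hall _) (((((LB_zero T ((skipEmb 2).trans (Function.Embedding.refl _))).upd 1 2 2 (le_of_eq hx13)).upd 1 3 1 (le_of_eq hx14)).upd 2 1 1 (le_of_eq hx31)).upd 3 1 2 (le_of_eq hx41)) ![0,2,1,2] (by decide) (by decide) 1 (by decide))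
    · -- 14=(2,1)
      exact False.elim (cert_false T ((skipEmb 2).trans (Function.Embedding.refl _)) (by norm_num) (fun _ => hall _) (((((LB_zero T ((skipEmb 2).trans (Function.Embedding.refl _))).upd 1 2 2 (le_of_eq hx13)).upd 1 3 2 (le_of_eq hx14)).upd 2 1 1 (le_of_eq hx31)).upd 3 1 1 (le_of_eq hx41)) ![0,2,1,1] (by decide) (by decide) 1 (by decide))
    · -- 14=(1,3)
      exact False.elim (cert_false T ((skipEmb 3).trans (Function.Embedding.refl _)) (by norm_num) (fun _ => hall _) (((((LB_zero T ((skipEmb 3).trans (Function.Embedding.refl _))).upd 1 2 1 (le_of_eq hx12)).upd 1 3 1 (le_of_eq hx14)).upd 2 1 1 (le_of_eq hx21)).upd 3 1 3 (le_of_eq hx41)) ![0,2,1,3] (by decide) (by decide) 1 (by decide))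
    · -- 14=(3,1)
      exact False.elim (cert_false T ((skipEmb 3).trans (Function.Embedding.refl _)) (by norm_num) (fun _ => hall _) (((((LB_zero T ((skipEmb 3).trans (Function.Embedding.refl _))).upd 1 2 1 (le_of_eq hx12)).upd 1 3 3 (le_of_eq hx14)).upd 2 1 1 (le_of_eq hx21)).upd 3 1 1 (le_of_eq hx41)) ![0,2,1,1] (by decide) (by decide) 1 (by decide))
  · -- 04=(1,1)
    rcases d14 with ⟨rfl, rfl⟩ | ⟨rfl, rfl⟩ | ⟨rfl, rfl⟩ | ⟨rfl, rfl⟩ | ⟨rfl, rfl⟩ | ⟨rfl, rfl⟩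
    · -- 14=(0,0)
      rcases d24 with ⟨rfl, rfl⟩ | ⟨rfl, rfl⟩ | ⟨rfl, rfl⟩ | ⟨rfl, rfl⟩ | ⟨rfl, rfl⟩ | ⟨rfl, rfl⟩
      · -- 24=(0,0)
        rcases d34 with ⟨rfl, rfl⟩ | ⟨rfl, rfl⟩ | ⟨rfl, rfl⟩ | ⟨rfl, rfl⟩ | ⟨rfl, rfl⟩ | ⟨rfl, rfl⟩
        · -- 34=(0,0)
          exfalso; omega
        · -- 34=(1,1)
          refine ⟨(⟨![0, 4, 3, 1, 2], ![0, 3, 4, 2, 1], by decide, by decide⟩ : Equiv.Perm (Fin 5)), T.m 0, T.w 1, Or.inr (Or.inr (Or.inl ?_))⟩
          show T.m 0 = T.m 0 ∧ T.m 4 = 2 * T.m 0 ∧ T.m 3 = 3 * T.m 0 ∧ T.m 1 = 4 * T.m 0 ∧ T.m 2 = 2 * T.m 0 ∧ T.w 0 = 2 * T.w 1 ∧ T.w 4 = 2 * T.w 1 ∧ T.w 3 = 2 * T.w 1 ∧ T.w 1 = T.w 1 ∧ T.w 2 = T.w 1 ∧ T.a 0 0 = -4 * T.w 1 ∧ T.a 0 4 = 2 * T.w 1 ∧ T.a 0 3 = 0 ∧ T.a 0 1 = 0 ∧ T.a 0 2 = 0 ∧ T.a 4 4 = -4 * T.w 1 ∧ T.a 4 3 = 2 * T.w 1 ∧ T.a 4 1 = 0 ∧ T.a 4 2 = 0 ∧ T.a 3 3 = -4 * T.w 1 ∧ T.a 3 1 = 2 * T.w 1 ∧ T.a 3 2 = 0 ∧ T.a 1 1 = -2 * T.w 1 ∧ T.a 1 2 = T.w 1 ∧ T.a 2 2 = -2 * T.w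 1
          refine ⟨?_, ?_, ?_, ?_, ?_, ?_, ?_, ?_, ?_, ?_, ?_, ?_, ?_, ?_, ?_, ?_, ?_, ?_, ?_, ?_, ?_, ?_, ?_, ?_, ?_⟩ <;> omega
        · -- 34=(1,2)
          exact False.elim (cert_false T ((skipEmb 2).trans (Function.Embedding.refl _)) (by norm_num) (fun _ => hall _) (((((LB_zero T ((skipEmb 2).trans (Function.Embedding.refl _))).upd 1 2 2 (le_of_eq hx13)).upd 2 1 1 (le_of_eq hx31)).upd 2 3 1 (le_of_eq hx34)).upd 3 2 2 (le_of_eq hx43)) ![0,1,1,1] (by decide) (by decide) 1 (by decide))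
        · -- 34=(2,1)
          exact False.elim (cert_false T ((skipEmb 2).trans (Function.Embedding.refl _)) (by norm_num) (fun _ => hall _) (((((LB_zero T ((skipEmb 2).trans (Function.Embedding.refl _))).upd 1 2 2 (le_of_eq hx13)).upd 2 1 1 (le_of_eq hx31)).upd 2 3 2 (le_of_eq hx34)).upd 3 2 1 (le_of_eq hx43)) ![0,2,2,1] (by decide) (by decide) 1 (by decide))
        · -- 34=(1,3)
          exact False.elim (cert_false T ((skipEmb 2).trans (Function.Embedding.refl _)) (by norm_num) (fun _ => hall _) (((((LB_zero T ((skipEmb 2).trans (Function.Embedding.refl _))).upd 1 2 2 (le_of_eq hx13)).upd 2 1 1 (le_of_eq hx31)).upd 2 3 1 (le_of_eq hx34)).upd 3 2 3 (le_of_eq hx43)) ![0,1,1,1] (by decide) (by decide) 1 (by decide))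
        · -- 34=(3,1)
          exact False.elim (cert_false T ((skipEmb 2).trans (Function.Embedding.refl _)) (by norm_num) (fun _ => hall _) (((((LB_zero T ((skipEmb 2).trans (Function.Embedding.refl _))).upd 1 2 2 (le_of_eq hx13)).upd 2 1 1 (le_of_eq hx31)).upd 2 3 3 (le_of_eq hx34)).upd 3 2 1 (le_of_eq hx43)) ![0,1,2,1] (by decide) (by decide) 1 (by decide))
      · -- 24=(1,1)
        rcases d34 with ⟨rfl, rfl⟩ | ⟨rfl, rfl⟩ | ⟨rfl, rfl⟩ | ⟨rfl, rfl⟩ | ⟨rfl, rfl⟩ | ⟨rfl, rfl⟩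
        · -- 34=(0,0)
          exfalso; omega
        · -- 34=(1,1)
          exact False.elim (cert_false T ((skipEmb 0).trans (Function.Embedding.refl _)) (by norm_num) (fun _ => hall _) (((((((((LB_zero T ((skipEmb 0).trans (Function.Embedding.refl _))).upd 0 1 1 (le_of_eq hx12)).upd 0 2 2 (le_of_eq hx13)).upd 1 0 1 (le_of_eq hx21)).upd 1 3 1 (le_of_eq hx24)).upd 2 0 1 (le_of_eq hx31)).upd 2 3 1 (le_of_eq hx34)).upd 3 1 1 (le_of_eq hx42)).upd 3 2 1 (le_of_eq hx43)) ![1,1,1,1] (by decide) (by decide) 0 (by decide))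
        · -- 34=(1,2)
          exact False.elim (cert_false T ((skipEmb 2).trans (Function.Embedding.refl _)) (by norm_num) (fun _ => hall _) (((((LB_zero T ((skipEmb 2).trans (Function.Embedding.refl _))).upd 1 2 2 (le_of_eq hx13)).upd 2 1 1 (le_of_eq hx31)).upd 2 3 1 (le_of_eq hx34)).upd 3 2 2 (le_of_eq hx43)) ![0,1,1,1] (by decide) (by decide) 1 (by decide))
        · -- 34=(2,1)
          exact False.elim (cert_false T ((skipEmb 2).trans (Function.Embedding.refl _)) (by norm_num) (fun _ => hall _) (((((LB_zero T ((skipEmb 2).trans (Function.Embedding.refl _))).upd 1 2 2 (le_of_eq hx13)).upd 2 1 1 (le_of_eq hx31)).upd 2 3 2 (le_of_eq hx34)).upd 3 2 1 (le_of_eq hx43)) ![0,2,2,1] (by decide) (by decide) 1 (by decide))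
        · -- 34=(1,3)
          exact False.elim (cert_false T ((skipEmb 2).trans (Function.Embedding.refl _)) (by norm_num) (fun _ => hall _) (((((LB_zero T ((skipEmb 2).trans (Function.Embedding.refl _))).upd 1 2 2 (le_of_eq hx13)).upd 2 1 1 (le_of_eq hx31)).upd 2 3 1 (le_of_eq hx34)).upd 3 2 3 (le_of_eq hx43)) ![0,1,1,1] (by decide) (by decide) 1 (by decide))
        · -- 34=(3,1)
          exact False.elim (cert_false T ((skipEmb 2).trans (Function.Embedding.refl _)) (by norm_num) (fun _ => hall _) (((((LB_zero T ((skipEmb 2).trans (Function.Embedding.refl _))).upd 1 2 2 (le_of_eq hx13)).upd 2 1 1 (le_of_eq hx31)).upd 2 3 3 (le_of_eq hx34)).upd 3 2 1 (le_of_eq hx43)) ![0,1,2,1] (by decide) (by decide) 1 (by decide))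
      · -- 24=(1,2)
        exact False.elim (cert_false T ((skipEmb 0).trans (Function.Embedding.refl _)) (by norm_num) (fun _ => hall _) (((((((LB_zero T ((skipEmb 0).trans (Function.Embedding.refl _))).upd 0 1 1 (le_of_eq hx12)).upd 0 2 2 (le_of_eq hx13)).upd 1 0 1 (le_of_eq hx21)).upd 1 3 1 (le_of_eq hx24)).upd 2 0 1 (le_of_eq hx31)).upd 3 1 2 (le_of_eq hx42)) ![2,2,1,2] (by decide) (by decide) 0 (by decide))
      · -- 24=(2,1)
        exact False.elim (cert_false T ((skipEmb 0).trans (Function.Embedding.refl _)) (by norm_num) (fun _ => hall _) (((((((LB_zero T ((skipEmb 0).trans (Function.Embedding.refl _))).upd 0 1 1 (le_of_eq hx12)).upd 0 2 2 (le_of_eq hx13)).upd 1 0 1 (le_of_eq hx21)).upd 1 3 2 (le_of_eq hx24)).upd 2 0 1 (le_of_eq hx31)).upd 3 1 1 (le_of_eq hx42)) ![2,2,1,1] (by decide) (by decide) 0 (by decide))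
      · -- 24=(1,3)
        exact False.elim (cert_false T ((skipEmb 3).trans (Function.Embedding.refl _)) (by norm_num) (fun _ => hall _) (((((LB_zero T ((skipEmb 3).trans (Function.Embedding.refl _))).upd 0 3 1 (le_of_eq hx04)).upd 2 3 1 (le_of_eq hx24)).upd 3 0 1 (le_of_eq hx40)).upd 3 2 3 (le_of_eq hx42)) ![1,0,1,2] (by decide) (by decide) 0 (by decide))
      · -- 24=(3,1)
        exact False.elim (cert_false T ((skipEmb 3).trans (Function.Embedding.refl _)) (by norm_num) (fun _ => hall _) (((((LB_zero T ((skipEmb 3).trans (Function.Embedding.refl _))).upd 1 2 1 (le_of_eq hx12)).upd 2 1 1 (le_of_eq hx21)).upd 2 3 3 (le_of_eq hx24)).upd 3 2 1 (le_of_eq hx42)) ![0,1,2,1] (by decide) (by decide) 1 (by decide))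
    · -- 14=(1,1)
      exact False.elim (cert_false T ((skipEmb 0).trans (Function.Embedding.refl _)) (by norm_num) (fun _ => hall _) (((((((LB_zero T ((skipEmb 0).trans (Function.Embedding.refl _))).upd 0 1 1 (le_of_eq hx12)).upd 0 2 2 (le_of_eq hx13)).upd 0 3 1 (le_of_eq hx14)).upd 1 0 1 (le_of_eq hx21)).upd 2 0 1 (le_of_eq hx31)).upd 3 0 1 (le_of_eq hx41)) ![2,1,1,1] (by decide) (by decide) 0 (by decide))
    · -- 14=(1,2)
      exact False.elim (cert_false T ((skipEmb 2).trans (Function.Embedding.refl _)) (by norm_num) (fun _ => hall _) (((((LB_zero T ((skipEmb 2).trans (Function.Embedding.refl _))).upd 1 2 2 (le_of_eq hx13)).upd 1 3 1 (le_of_eq hx14)).upd 2 1 1 (le_of_eq hx31)).upd 3 1 2 (le_of_eq hx41)) ![0,2,1,2] (by decide) (by decide) 1 (by decide))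
    · -- 14=(2,1)
      exact False.elim (cert_false T ((skipEmb 2).trans (Function.Embedding.refl _)) (by norm_num) (fun _ => hall _) (((((LB_zero T ((skipEmb 2).trans (Function.Embedding.refl _))).upd 1 2 2 (le_of_eq hx13)).upd 1 3 2 (le_of_eq hx14)).upd 2 1 1 (le_of_eq hx31)).upd 3 1 1 (le_of_eq hx41)) ![0,2,1,1] (by decide) (by decide) 1 (by decide))
    · -- 14=(1,3)
      exact False.elim (cert_false T ((skipEmb 3).trans (Function.Embedding.refl _)) (by norm_num) (fun _ => hall _) (((((LB_zero T ((skipEmb 3).trans (Function.Embedding.refl _))).upd 0 3 1 (le_of_eq hx04)).upd 1 3 1 (le_of_eq hx14)).upd 3 0 1 (le_of_eq hx40)).upd 3 1 3 (le_of_eq hx41)) ![1,1,0,2] (by decide) (by decide) 0 (by decide))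
    · -- 14=(3,1)
      exact False.elim (cert_false T ((skipEmb 3).trans (Function.Embedding.refl _)) (by norm_num) (fun _ => hall _) (((((LB_zero T ((skipEmb 3).trans (Function.Embedding.refl _))).upd 1 2 1 (le_of_eq hx12)).upd 1 3 3 (le_of_eq hx14)).upd 2 1 1 (le_of_eq hx21)).upd 3 1 1 (le_of_eq hx41)) ![0,2,1,1] (by decide) (by decide) 1 (by decide))
  · -- 04=(1,2)
    rcases d14 with ⟨rfl, rfl⟩ | ⟨rfl, rfl⟩ | ⟨rfl, rfl⟩ | ⟨rfl, rfl⟩ | ⟨rfl, rfl⟩ | ⟨rfl, rfl⟩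
    · -- 14=(0,0)
      rcases d24 with ⟨rfl, rfl⟩ | ⟨rfl, rfl⟩ | ⟨rfl, rfl⟩ | ⟨rfl, rfl⟩ | ⟨rfl, rfl⟩ | ⟨rfl, rfl⟩
      · -- 24=(0,0)
        rcases d34 with ⟨rfl, rfl⟩ | ⟨rfl, rfl⟩ | ⟨rfl, rfl⟩ | ⟨rfl, rfl⟩ | ⟨rfl, rfl⟩ | ⟨rfl, rfl⟩
        · -- 34=(0,0)
          exfalso; omega
        · -- 34=(1,1)
          exact False.elim (cert_false T ((skipEmb 2).trans (Function.Embedding.refl _)) (by norm_num) (fun _ => hall _) (((((((LB_zero T ((skipEmb 2).trans (Function.Embedding.refl _))).upd 0 3 1 (le_of_eq hx04)).upd 1 2 2 (le_of_eq hx13)).upd 2 1 1 (le_of_eq hx31)).upd 2 3 1 (le_of_eq hx34)).upd 3 0 2 (le_of_eq hx40)).upd 3 2 1 (le_of_eq hx43)) ![1,2,2,2] (by decide) (by decide) 0 (by decide))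
        · -- 34=(1,2)
          exact False.elim (cert_false T ((skipEmb 2).trans (Function.Embedding.refl _)) (by norm_num) (fun _ => hall _) (((((LB_zero T ((skipEmb 2).trans (Function.Embedding.refl _))).upd 1 2 2 (le_of_eq hx13)).upd 2 1 1 (le_of_eq hx31)).upd 2 3 1 (le_of_eq hx34)).upd 3 2 2 (le_of_eq hx43)) ![0,1,1,1] (by decide) (by decide) 1 (by decide))
        · -- 34=(2,1)
          exact False.elim (cert_false T ((skipEmb 2).trans (Function.Embedding.refl _)) (by norm_num) (fun _ => hall _) (((((LB_zero T ((skipEmb 2).trans (Function.Embedding.refl _))).upd 0 3 1 (le_of_eq hx04)).upd 2 3 2 (le_of_eq hx34)).upd 3 0 2 (le_of_eq hx40)).upd 3 2 1 (le_of_eq hx43)) ![1,0,2,2] (by decide) (by decide) 0 (by decide))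
        · -- 34=(1,3)
          exact False.elim (cert_false T ((skipEmb 2).trans (Function.Embedding.refl _)) (by norm_num) (fun _ => hall _) (((((LB_zero T ((skipEmb 2).trans (Function.Embedding.refl _))).upd 1 2 2 (le_of_eq hx13)).upd 2 1 1 (le_of_eq hx31)).upd 2 3 1 (le_of_eq hx34)).upd 3 2 3 (le_of_eq hx43)) ![0,1,1,1] (by decide) (by decide) 1 (by decide))
        · -- 34=(3,1)
          exact False.elim (cert_false T ((skipEmb 2).trans (Function.Embedding.refl _)) (by norm_num) (fun _ => hall _) (((((LB_zero T ((skipEmb 2).trans (Function.Embedding.refl _))).upd 0 3 1 (le_of_eq hx04)).upd 2 3 3 (le_of_eq hx34)).upd 3 0 2 (le_of_eq hx40)).upd 3 2 1 (le_of_eq hx43)) ![1,0,2,2] (by decide) (by decide) 0 (by decide))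
      · -- 24=(1,1)
        rcases d34 with ⟨rfl, rfl⟩ | ⟨rfl, rfl⟩ | ⟨rfl, rfl⟩ | ⟨rfl, rfl⟩ | ⟨rfl, rfl⟩ | ⟨rfl, rfl⟩
        · -- 34=(0,0)
          refine ⟨(⟨![0, 4, 2, 1, 3], ![0, 3, 2, 4, 1], by decide, by decide⟩ : Equiv.Perm (Fin 5)), T.m 0, T.w 4, Or.inr (Or.inr (Or.inr (Or.inr (Or.inr (Or.inl ?_)))))⟩
          show T.m 0 = T.m 0 ∧ T.m 4 = 2 * T.m 0 ∧ T.m 2 = 2 * T.m 0 ∧ T.m 1 = 2 * T.m 0 ∧ T.m 3 = T.m 0 ∧ T.w 0 = 2 * T.w 4 ∧ T.w 4 = T.w 4 ∧ T.w 2 = T.w 4 ∧ T.w 1 = T.w 4 ∧ T.w 3 = 2 * T.w 4 ∧ T.a 0 0 = -4 * T.w 4 ∧ T.a 0 4 = 2 * T.w 4 ∧ T.a 0 2 = 0 ∧ T.a 0 1 = 0 ∧ T.a 0 3 = 0 ∧ T.a 4 4 = -2 * T.w 4 ∧ T.a 4 2 = T.w 4 ∧ T.a 4 1 = 0 ∧ T.a 4 3 = 0 ∧ T.a 2 2 = -2 * T.w 4 ∧ T.a 2 1 = T.w 4 ∧ T.a 2 3 = 0 ∧ T.a 1 1 = -2 * T.w 4 ∧ T.a 1 3 = 2 * T.w 4 ∧ T.a 3 3 = -4 * T.w 4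
          refine ⟨?_, ?_, ?_, ?_, ?_, ?_, ?_, ?_, ?_, ?_, ?_, ?_, ?_, ?_, ?_, ?_, ?_, ?_, ?_, ?_, ?_, ?_, ?_, ?_, ?_⟩ <;> omega
        · -- 34=(1,1)
          exact False.elim (cert_false T ((skipEmb 2).trans (Function.Embedding.refl _)) (by norm_num) (fun _ => hall _) (((((((LB_zero T ((skipEmb 2).trans (Function.Embedding.refl _))).upd 0 3 1 (le_of_eq hx04)).upd 1 2 2 (le_of_eq hx13)).upd 2 1 1 (le_of_eq hx31)).upd 2 3 1 (le_of_eq hx34)).upd 3 0 2 (le_of_eq hx40)).upd 3 2 1 (le_of_eq hx43)) ![1,2,2,2] (by decide) (by decide) 0 (by decide))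
        · -- 34=(1,2)
          exact False.elim (cert_false T ((skipEmb 2).trans (Function.Embedding.refl _)) (by norm_num) (fun _ => hall _) (((((LB_zero T ((skipEmb 2).trans (Function.Embedding.refl _))).upd 1 2 2 (le_of_eq hx13)).upd 2 1 1 (le_of_eq hx31)).upd 2 3 1 (le_of_eq hx34)).upd 3 2 2 (le_of_eq hx43)) ![0,1,1,1] (by decide) (by decide) 1 (by decide))
        · -- 34=(2,1)
          exact False.elim (cert_false T ((skipEmb 2).trans (Function.Embedding.refl _)) (by norm_num) (fun _ => hall _) (((((LB_zero T ((skipEmb 2).trans (Function.Embedding.refl _))).upd 0 3 1 (le_of_eq hx04)).upd 2 3 2 (le_of_eq hx34)).upd 3 0 2 (le_of_eq hx40)).upd 3 2 1 (le_of_eq hx43)) ![1,0,2,2] (by decide) (by decide) 0 (by decide))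
        · -- 34=(1,3)
          exact False.elim (cert_false T ((skipEmb 2).trans (Function.Embedding.refl _)) (by norm_num) (fun _ => hall _) (((((LB_zero T ((skipEmb 2).trans (Function.Embedding.refl _))).upd 1 2 2 (le_of_eq hx13)).upd 2 1 1 (le_of_eq hx31)).upd 2 3 1 (le_of_eq hx34)).upd 3 2 3 (le_of_eq hx43)) ![0,1,1,1] (by decide) (by decide) 1 (by decide))
        · -- 34=(3,1)
          exact False.elim (cert_false T ((skipEmb 2).trans (Function.Embedding.refl _)) (by norm_num) (fun _ => hall _) (((((LB_zero T ((skipEmb 2).trans (Function.Embedding.refl _))).upd 0 3 1 (le_of_eq hx04)).upd 2 3 3 (le_of_eq hx34)).upd 3 0 2 (le_of_eq hx40)).upd 3 2 1 (le_of_eq hx43)) ![1,0,2,2] (by decide) (by decide) 0 (by decide))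
      · -- 24=(1,2)
        exact False.elim (cert_false T ((skipEmb 3).trans (Function.Embedding.refl _)) (by norm_num) (fun _ => hall _) (((((LB_zero T ((skipEmb 3).trans (Function.Embedding.refl _))).upd 0 3 1 (le_of_eq hx04)).upd 2 3 1 (le_of_eq hx24)).upd 3 0 2 (le_of_eq hx40)).upd 3 2 2 (le_of_eq hx42)) ![1,0,1,2] (by decide) (by decide) 0 (by decide))
      · -- 24=(2,1)
        exact False.elim (cert_false T ((skipEmb 3).trans (Function.Embedding.refl _)) (by norm_num) (fun _ => hall _) (((((LB_zero T ((skipEmb 3).trans (Function.Embedding.refl _))).upd 0 3 1 (le_of_eq hx04)).upd 2 3 2 (le_of_eq hx24)).upd 3 0 2 (le_of_eq hx40)).upd 3 2 1 (le_of_eq hx42)) ![1,0,2,2] (by decide) (by decide) 0 (by decide))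
      · -- 24=(1,3)
        exact False.elim (cert_false T ((skipEmb 3).trans (Function.Embedding.refl _)) (by norm_num) (fun _ => hall _) (((((LB_zero T ((skipEmb 3).trans (Function.Embedding.refl _))).upd 0 3 1 (le_of_eq hx04)).upd 2 3 1 (le_of_eq hx24)).upd 3 0 2 (le_of_eq hx40)).upd 3 2 3 (le_of_eq hx42)) ![1,0,1,2] (by decide) (by decide) 0 (by decide))
      · -- 24=(3,1)
        exact False.elim (cert_false T ((skipEmb 3).trans (Function.Embedding.refl _)) (by norm_num) (fun _ => hall _) (((((LB_zero T ((skipEmb 3).trans (Function.Embedding.refl _))).upd 0 3 1 (le_of_eq hx04)).upd 2 3 3 (le_of_eq hx24)).upd 3 0 2 (le_of_eq hx40)).upd 3 2 1 (le_of_eq hx42)) ![1,0,2,2] (by decide) (by decide) 0 (by decide))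
    · -- 14=(1,1)
      exact False.elim (cert_false T ((skipEmb 2).trans (Function.Embedding.refl _)) (by norm_num) (fun _ => hall _) (((((((LB_zero T ((skipEmb 2).trans (Function.Embedding.refl _))).upd 0 3 1 (le_of_eq hx04)).upd 1 2 2 (le_of_eq hx13)).upd 1 3 1 (le_of_eq hx14)).upd 2 1 1 (le_of_eq hx31)).upd 3 0 2 (le_of_eq hx40)).upd 3 1 1 (le_of_eq hx41)) ![1,2,1,2] (by decide) (by decide) 0 (by decide))
    · -- 14=(1,2)
      exact False.elim (cert_false T ((skipEmb 3).trans (Function.Embedding.refl _)) (by norm_num) (fun _ => hall _) (((((LB_zero T ((skipEmb 3).trans (Function.Embedding.refl _))).upd 0 3 1 (le_of_eq hx04)).upd 1 3 1 (le_of_eq hx14)).upd 3 0 2 (le_of_eq hx40)).upd 3 1 2 (le_of_eq hx41)) ![1,1,0,2] (by decide) (by decide) 0 (by decide))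
    · -- 14=(2,1)
      exact False.elim (cert_false T ((skipEmb 3).trans (Function.Embedding.refl _)) (by norm_num) (fun _ => hall _) (((((LB_zero T ((skipEmb 3).trans (Function.Embedding.refl _))).upd 0 3 1 (le_of_eq hx04)).upd 1 3 2 (le_of_eq hx14)).upd 3 0 2 (le_of_eq hx40)).upd 3 1 1 (le_of_eq hx41)) ![1,2,0,2] (by decide) (by decide) 0 (by decide))
    · -- 14=(1,3)
      exact False.elim (cert_false T ((skipEmb 3).trans (Function.Embedding.refl _)) (by norm_num) (fun _ => hall _) (((((LB_zero T ((skipEmb 3).trans (Function.Embedding.refl _))).upd 0 3 1 (le_of_eq hx04)).upd 1 3 1 (le_of_eq hx14)).upd 3 0 2 (le_of_eq hx40)).upd 3 1 3 (le_of_eq hx41)) ![1,1,0,2] (by decide) (by decide) 0 (by decide))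
    · -- 14=(3,1)
      exact False.elim (cert_false T ((skipEmb 3).trans (Function.Embedding.refl _)) (by norm_num) (fun _ => hall _) (((((LB_zero T ((skipEmb 3).trans (Function.Embedding.refl _))).upd 0 3 1 (le_of_eq hx04)).upd 1 3 3 (le_of_eq hx14)).upd 3 0 2 (le_of_eq hx40)).upd 3 1 1 (le_of_eq hx41)) ![1,2,0,2] (by decide) (by decide) 0 (by decide))
  · -- 04=(2,1)
    rcases d14 with ⟨rfl, rfl⟩ | ⟨rfl, rfl⟩ | ⟨rfl, rfl⟩ | ⟨rfl, rfl⟩ | ⟨rfl, rfl⟩ | ⟨rfl, rfl⟩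
    · -- 14=(0,0)
      rcases d24 with ⟨rfl, rfl⟩ | ⟨rfl, rfl⟩ | ⟨rfl, rfl⟩ | ⟨rfl, rfl⟩ | ⟨rfl, rfl⟩ | ⟨rfl, rfl⟩
      · -- 24=(0,0)
        rcases d34 with ⟨rfl, rfl⟩ | ⟨rfl, rfl⟩ | ⟨rfl, rfl⟩ | ⟨rfl, rfl⟩ | ⟨rfl, rfl⟩ | ⟨rfl, rfl⟩
        · -- 34=(0,0)
          exfalso; omega
        · -- 34=(1,1)
          exact False.elim (cert_false T ((skipEmb 2).trans (Function.Embedding.refl _)) (by norm_num) (fun _ => hall _) (((((((LB_zero T ((skipEmb 2).trans (Function.Embedding.refl _))).upd 0 3 2 (le_of_eq hx04)).upd 1 2 2 (le_of_eq hx13)).upd 2 1 1 (le_of_eq hx31)).upd 2 3 1 (le_of_eq hx34)).upd 3 0 1 (le_of_eq hx40)).upd 3 2 1 (le_of_eq hx43)) ![1,1,1,1] (by decide) (by decide) 0 (by decide))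
        · -- 34=(1,2)
          exact False.elim (cert_false T ((skipEmb 2).trans (Function.Embedding.refl _)) (by norm_num) (fun _ => hall _) (((((LB_zero T ((skipEmb 2).trans (Function.Embedding.refl _))).upd 1 2 2 (le_of_eq hx13)).upd 2 1 1 (le_of_eq hx31)).upd 2 3 1 (le_of_eq hx34)).upd 3 2 2 (le_of_eq hx43)) ![0,1,1,1] (by decide) (by decide) 1 (by decide))
        · -- 34=(2,1)
          exact False.elim (cert_false T ((skipEmb 2).trans (Function.Embedding.refl _)) (by norm_num) (fun _ => hall _) (((((LB_zero T ((skipEmb 2).trans (Function.Embedding.refl _))).upd 0 3 2 (le_of_eq hx04)).upd 2 3 2 (le_of_eq hx34)).upd 3 0 1 (le_of_eq hx40)).upd 3 2 1 (le_of_eq hx43)) ![1,0,1,1] (by decide) (by decide) 0 (by decide))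
        · -- 34=(1,3)
          exact False.elim (cert_false T ((skipEmb 2).trans (Function.Embedding.refl _)) (by norm_num) (fun _ => hall _) (((((LB_zero T ((skipEmb 2).trans (Function.Embedding.refl _))).upd 1 2 2 (le_of_eq hx13)).upd 2 1 1 (le_of_eq hx31)).upd 2 3 1 (le_of_eq hx34)).upd 3 2 3 (le_of_eq hx43)) ![0,1,1,1] (by decide) (by decide) 1 (by decide))
        · -- 34=(3,1)
          exact False.elim (cert_false T ((skipEmb 2).trans (Function.Embedding.refl _)) (by norm_num) (fun _ => hall _) (((((LB_zero T ((skipEmb 2).trans (Function.Embedding.refl _))).upd 0 3 2 (le_of_eq hx04)).upd 2 3 3 (le_of_eq hx34)).upd 3 0 1 (le_of_eq hx40)).upd 3 2 1 (le_of_eq hx43)) ![1,0,1,1] (by decide) (by decide) 0 (by decide))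
      · -- 24=(1,1)
        rcases d34 with ⟨rfl, rfl⟩ | ⟨rfl, rfl⟩ | ⟨rfl, rfl⟩ | ⟨rfl, rfl⟩ | ⟨rfl, rfl⟩ | ⟨rfl, rfl⟩
        · -- 34=(0,0)
          refine ⟨(⟨![0, 4, 2, 1, 3], ![0, 3, 2, 4, 1], by decide, by decide⟩ : Equiv.Perm (Fin 5)), T.m 3, T.w 0, Or.inr (Or.inr (Or.inr (Or.inl ?_)))⟩
          show T.m 0 = 2 * T.m 3 ∧ T.m 4 = 2 * T.m 3 ∧ T.m 2 = 2 * T.m 3 ∧ T.m 1 = 2 * T.m 3 ∧ T.m 3 = T.m 3 ∧ T.w 0 = T.w 0 ∧ T.w 4 = 2 * T.w 0 ∧ T.w 2 = 2 * T.w 0 ∧ T.w 1 = 2 * T.w 0 ∧ T.w 3 = 4 * T.w 0 ∧ T.a 0 0 = -2 * T.w 0 ∧ T.a 0 4 = 2 * T.w 0 ∧ T.a 0 2 = 0 ∧ T.a 0 1 = 0 ∧ T.a 0 3 = 0 ∧ T.a 4 4 = -4 * T.w 0 ∧ T.a 4 2 = 2 * T.w 0 ∧ T.a 4 1 = 0 ∧ T.a 4 3 = 0 ∧ T.a 2 2 = -4 * T.w 0 ∧ T.a 2 1 = 2 * T.w 0 ∧ T.a 2 3 = 0 ∧ T.a 1 1 = -4 * T.w 0 ∧ T.a 1 3 = 4 * T.w 0 ∧ T.a 3 3 = -8 * T.w 0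
          refine ⟨?_, ?_, ?_, ?_, ?_, ?_, ?_, ?_, ?_, ?_, ?_, ?_, ?_, ?_, ?_, ?_, ?_, ?_, ?_, ?_, ?_, ?_, ?_, ?_, ?_⟩ <;> omega
        · -- 34=(1,1)
          exact False.elim (cert_false T ((skipEmb 2).trans (Function.Embedding.refl _)) (by norm_num) (fun _ => hall _) (((((((LB_zero T ((skipEmb 2).trans (Function.Embedding.refl _))).upd 0 3 2 (le_of_eq hx04)).upd 1 2 2 (le_of_eq hx13)).upd 2 1 1 (le_of_eq hx31)).upd 2 3 1 (le_of_eq hx34)).upd 3 0 1 (le_of_eq hx40)).upd 3 2 1 (le_of_eq hx43)) ![1,1,1,1] (by decide) (by decide) 0 (by decide))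
        · -- 34=(1,2)
          exact False.elim (cert_false T ((skipEmb 2).trans (Function.Embedding.refl _)) (by norm_num) (fun _ => hall _) (((((LB_zero T ((skipEmb 2).trans (Function.Embedding.refl _))).upd 1 2 2 (le_of_eq hx13)).upd 2 1 1 (le_of_eq hx31)).upd 2 3 1 (le_of_eq hx34)).upd 3 2 2 (le_of_eq hx43)) ![0,1,1,1] (by decide) (by decide) 1 (by decide))
        · -- 34=(2,1)
          exact False.elim (cert_false T ((skipEmb 2).trans (Function.Embedding.refl _)) (by norm_num) (fun _ => hall _) (((((LB_zero T ((skipEmb 2).trans (Function.Embedding.refl _))).upd 0 3 2 (le_of_eq hx04)).upd 2 3 2 (le_of_eq hx34)).upd 3 0 1 (le_of_eq hx40)).upd 3 2 1 (le_of_eq hx43)) ![1,0,1,1] (by decide) (by decide) 0 (by decide))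
        · -- 34=(1,3)
          exact False.elim (cert_false T ((skipEmb 2).trans (Function.Embedding.refl _)) (by norm_num) (fun _ => hall _) (((((LB_zero T ((skipEmb 2).trans (Function.Embedding.refl _))).upd 1 2 2 (le_of_eq hx13)).upd 2 1 1 (le_of_eq hx31)).upd 2 3 1 (le_of_eq hx34)).upd 3 2 3 (le_of_eq hx43)) ![0,1,1,1] (by decide) (by decide) 1 (by decide))
        · -- 34=(3,1)
          exact False.elim (cert_false T ((skipEmb 2).trans (Function.Embedding.refl _)) (by norm_num) (fun _ => hall _) (((((LB_zero T ((skipEmb 2).trans (Function.Embedding.refl _))).upd 0 3 2 (le_of_eq hx04)).upd 2 3 3 (le_of_eq hx34)).upd 3 0 1 (le_of_eq hx40)).upd 3 2 1 (le_of_eq hx43)) ![1,0,1,1] (by decide) (by decide) 0 (by decide))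
      · -- 24=(1,2)
        exact False.elim (cert_false T ((skipEmb 3).trans (Function.Embedding.refl _)) (by norm_num) (fun _ => hall _) (((((LB_zero T ((skipEmb 3).trans (Function.Embedding.refl _))).upd 0 3 2 (le_of_eq hx04)).upd 2 3 1 (le_of_eq hx24)).upd 3 0 1 (le_of_eq hx40)).upd 3 2 2 (le_of_eq hx42)) ![2,0,1,2] (by decide) (by decide) 0 (by decide))
      · -- 24=(2,1)
        exact False.elim (cert_false T ((skipEmb 3).trans (Function.Embedding.refl _)) (by norm_num) (fun _ => hall _) (((((LB_zero T ((skipEmb 3).trans (Function.Embedding.refl _))).upd 0 3 2 (le_of_eq hx04)).upd 2 3 2 (le_of_eq hx24)).upd 3 0 1 (le_of_eq hx40)).upd 3 2 1 (le_of_eq hx42)) ![1,0,1,1] (by decide) (by decide) 0 (by decide))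
      · -- 24=(1,3)
        exact False.elim (cert_false T ((skipEmb 3).trans (Function.Embedding.refl _)) (by norm_num) (fun _ => hall _) (((((LB_zero T ((skipEmb 3).trans (Function.Embedding.refl _))).upd 0 3 2 (le_of_eq hx04)).upd 2 3 1 (le_of_eq hx24)).upd 3 0 1 (le_of_eq hx40)).upd 3 2 3 (le_of_eq hx42)) ![1,0,1,2] (by decide) (by decide) 0 (by decide))
      · -- 24=(3,1)
        exact False.elim (cert_false T ((skipEmb 3).trans (Function.Embedding.refl _)) (by norm_num) (fun _ => hall _) (((((LB_zero T ((skipEmb 3).trans (Function.Embedding.refl _))).upd 0 3 2 (le_of_eq hx04)).upd 2 3 3 (le_of_eq hx24)).upd 3 0 1 (le_of_eq hx40)).upd 3 2 1 (le_of_eq hx42)) ![1,0,1,1] (by decide) (by decide) 0 (by decide))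
    · -- 14=(1,1)
      exact False.elim (cert_false T ((skipEmb 2).trans (Function.Embedding.refl _)) (by norm_num) (fun _ => hall _) (((((((LB_zero T ((skipEmb 2).trans (Function.Embedding.refl _))).upd 0 3 2 (le_of_eq hx04)).upd 1 2 2 (le_of_eq hx13)).upd 1 3 1 (le_of_eq hx14)).upd 2 1 1 (le_of_eq hx31)).upd 3 0 1 (le_of_eq hx40)).upd 3 1 1 (le_of_eq hx41)) ![2,2,1,2] (by decide) (by decide) 0 (by decide))
    · -- 14=(1,2)
      exact False.elim (cert_false T ((skipEmb 3).trans (Function.Embedding.refl _)) (by norm_num) (fun _ => hall _) (((((LB_zero T ((skipEmb 3).trans (Function.Embedding.refl _))).upd 0 3 2 (le_of_eq hx04)).upd 1 3 1 (le_of_eq hx14)).upd 3 0 1 (le_of_eq hx40)).upd 3 1 2 (le_of_eq hx41)) ![2,1,0,2] (by decide) (by decide) 0 (by decide))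
    · -- 14=(2,1)
      exact False.elim (cert_false T ((skipEmb 3).trans (Function.Embedding.refl _)) (by norm_num) (fun _ => hall _) (((((LB_zero T ((skipEmb 3).trans (Function.Embedding.refl _))).upd 0 3 2 (le_of_eq hx04)).upd 1 3 2 (le_of_eq hx14)).upd 3 0 1 (le_of_eq hx40)).upd 3 1 1 (le_of_eq hx41)) ![1,1,0,1] (by decide) (by decide) 0 (by decide))
    · -- 14=(1,3)
      exact False.elim (cert_false T ((skipEmb 3).trans (Function.Embedding.refl _)) (by norm_num) (fun _ => hall _) (((((LB_zero T ((skipEmb 3).trans (Function.Embedding.refl _))).upd 0 3 2 (le_of_eq hx04)).upd 1 3 1 (le_of_eq hx14)).upd 3 0 1 (le_of_eq hx40)).upd 3 1 3 (le_of_eq hx41)) ![1,1,0,2] (by decide) (by decide) 0 (by decide))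
    · -- 14=(3,1)
      exact False.elim (cert_false T ((skipEmb 3).trans (Function.Embedding.refl _)) (by norm_num) (fun _ => hall _) (((((LB_zero T ((skipEmb 3).trans (Function.Embedding.refl _))).upd 0 3 2 (le_of_eq hx04)).upd 1 3 3 (le_of_eq hx14)).upd 3 0 1 (le_of_eq hx40)).upd 3 1 1 (le_of_eq hx41)) ![1,1,0,1] (by decide) (by decide) 0 (by decide))
  · -- 04=(1,3)
    rcases d14 with ⟨rfl, rfl⟩ | ⟨rfl, rfl⟩ | ⟨rfl, rfl⟩ | ⟨rfl, rfl⟩ | ⟨rfl, rfl⟩ | ⟨rfl, rfl⟩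
    · -- 14=(0,0)
      rcases d24 with ⟨rfl, rfl⟩ | ⟨rfl, rfl⟩ | ⟨rfl, rfl⟩ | ⟨rfl, rfl⟩ | ⟨rfl, rfl⟩ | ⟨rfl, rfl⟩
      · -- 24=(0,0)
        rcases d34 with ⟨rfl, rfl⟩ | ⟨rfl, rfl⟩ | ⟨rfl, rfl⟩ | ⟨rfl, rfl⟩ | ⟨rfl, rfl⟩ | ⟨rfl, rfl⟩
        · -- 34=(0,0)
          exfalso; omega
        · -- 34=(1,1)
          exact False.elim (cert_false T ((skipEmb 2).trans (Function.Embedding.refl _)) (by norm_num) (fun _ => hall _) (((((LB_zero T ((skipEmb 2).trans (Function.Embedding.refl _))).upd 0 3 1 (le_of_eq hx04)).upd 2 3 1 (le_of_eq hx34)).upd 3 0 3 (le_of_eq hx40)).upd 3 2 1 (le_of_eq hx43)) ![1,0,1,2] (by decide) (by decide) 0 (by decide))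
        · -- 34=(1,2)
          exact False.elim (cert_false T ((skipEmb 2).trans (Function.Embedding.refl _)) (by norm_num) (fun _ => hall _) (((((LB_zero T ((skipEmb 2).trans (Function.Embedding.refl _))).upd 1 2 2 (le_of_eq hx13)).upd 2 1 1 (le_of_eq hx31)).upd 2 3 1 (le_of_eq hx34)).upd 3 2 2 (le_of_eq hx43)) ![0,1,1,1] (by decide) (by decide) 1 (by decide))
        · -- 34=(2,1)
          exact False.elim (cert_false T ((skipEmb 2).trans (Function.Embedding.refl _)) (by norm_num) (fun _ => hall _) (((((LB_zero T ((skipEmb 2).trans (Function.Embedding.refl _))).upd 1 2 2 (le_of_eq hx13)).upd 2 1 1 (le_of_eq hx31)).upd 2 3 2 (le_of_eq hx34)).upd 3 2 1 (le_of_eq hx43)) ![0,2,2,1] (by decide) (by decide) 1 (by decide))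
        · -- 34=(1,3)
          exact False.elim (cert_false T ((skipEmb 2).trans (Function.Embedding.refl _)) (by norm_num) (fun _ => hall _) (((((LB_zero T ((skipEmb 2).trans (Function.Embedding.refl _))).upd 1 2 2 (le_of_eq hx13)).upd 2 1 1 (le_of_eq hx31)).upd 2 3 1 (le_of_eq hx34)).upd 3 2 3 (le_of_eq hx43)) ![0,1,1,1] (by decide) (by decide) 1 (by decide))
        · -- 34=(3,1)
          exact False.elim (cert_false T ((skipEmb 2).trans (Function.Embedding.refl _)) (by norm_num) (fun _ => hall _) (((((LB_zero T ((skipEmb 2).trans (Function.Embedding.refl _))).upd 0 3 1 (le_of_eq hx04)).upd 2 3 3 (le_of_eq hx34)).upd 3 0 3 (le_of_eq hx40)).upd 3 2 1 (le_of_eq hx43)) ![1,0,1,2] (by decide) (by decide) 0 (by decide))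
      · -- 24=(1,1)
        exact False.elim (cert_false T ((skipEmb 3).trans (Function.Embedding.refl _)) (by norm_num) (fun _ => hall _) (((((LB_zero T ((skipEmb 3).trans (Function.Embedding.refl _))).upd 0 3 1 (le_of_eq hx04)).upd 2 3 1 (le_of_eq hx24)).upd 3 0 3 (le_of_eq hx40)).upd 3 2 1 (le_of_eq hx42)) ![1,0,1,2] (by decide) (by decide) 0 (by decide))
      · -- 24=(1,2)
        exact False.elim (cert_false T ((skipEmb 3).trans (Function.Embedding.refl _)) (by norm_num) (fun _ => hall _) (((((LB_zero T ((skipEmb 3).trans (Function.Embedding.refl _))).upd 0 3 1 (le_of_eq hx04)).upd 2 3 1 (le_of_eq hx24)).upd 3 0 3 (le_of_eq hx40)).upd 3 2 2 (le_of_eq hx42)) ![1,0,1,2] (by decide) (by decide) 0 (by decide))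
      · -- 24=(2,1)
        exact False.elim (cert_false T ((skipEmb 3).trans (Function.Embedding.refl _)) (by norm_num) (fun _ => hall _) (((((LB_zero T ((skipEmb 3).trans (Function.Embedding.refl _))).upd 0 3 1 (le_of_eq hx04)).upd 2 3 2 (le_of_eq hx24)).upd 3 0 3 (le_of_eq hx40)).upd 3 2 1 (le_of_eq hx42)) ![1,0,1,2] (by decide) (by decide) 0 (by decide))
      · -- 24=(1,3)
        exact False.elim (cert_false T ((skipEmb 3).trans (Function.Embedding.refl _)) (by norm_num) (fun _ => hall _) (((((LB_zero T ((skipEmb 3).trans (Function.Embedding.refl _))).upd 0 3 1 (le_of_eq hx04)).upd 2 3 1 (le_of_eq hx24)).upd 3 0 3 (le_of_eq hx40)).upd 3 2 3 (le_of_eq hx42)) ![1,0,1,2] (by decide) (by decide) 0 (by decide))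
      · -- 24=(3,1)
        exact False.elim (cert_false T ((skipEmb 3).trans (Function.Embedding.refl _)) (by norm_num) (fun _ => hall _) (((((LB_zero T ((skipEmb 3).trans (Function.Embedding.refl _))).upd 0 3 1 (le_of_eq hx04)).upd 2 3 3 (le_of_eq hx24)).upd 3 0 3 (le_of_eq hx40)).upd 3 2 1 (le_of_eq hx42)) ![1,0,1,2] (by decide) (by decide) 0 (by decide))
    · -- 14=(1,1)
      exact False.elim (cert_false T ((skipEmb 3).trans (Function.Embedding.refl _)) (by norm_num) (fun _ => hall _) (((((LB_zero T ((skipEmb 3).trans (Function.Embedding.refl _))).upd 0 3 1 (le_of_eq hx04)).upd 1 3 1 (le_of_eq hx14)).upd 3 0 3 (le_of_eq hx40)).upd 3 1 1 (le_of_eq hx41)) ![1,1,0,2] (by decide) (by decide) 0 (by decide))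
    · -- 14=(1,2)
      exact False.elim (cert_false T ((skipEmb 3).trans (Function.Embedding.refl _)) (by norm_num) (fun _ => hall _) (((((LB_zero T ((skipEmb 3).trans (Function.Embedding.refl _))).upd 0 3 1 (le_of_eq hx04)).upd 1 3 1 (le_of_eq hx14)).upd 3 0 3 (le_of_eq hx40)).upd 3 1 2 (le_of_eq hx41)) ![1,1,0,2] (by decide) (by decide) 0 (by decide))
    · -- 14=(2,1)
      exact False.elim (cert_false T ((skipEmb 3).trans (Function.Embedding.refl _)) (by norm_num) (fun _ => hall _) (((((LB_zero T ((skipEmb 3).trans (Function.Embedding.refl _))).upd 0 3 1 (le_of_eq hx04)).upd 1 3 2 (le_of_eq hx14)).upd 3 0 3 (le_of_eq hx40)).upd 3 1 1 (le_of_eq hx41)) ![1,1,0,2] (by decide) (by decide) 0 (by decide))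
    · -- 14=(1,3)
      exact False.elim (cert_false T ((skipEmb 3).trans (Function.Embedding.refl _)) (by norm_num) (fun _ => hall _) (((((LB_zero T ((skipEmb 3).trans (Function.Embedding.refl _))).upd 0 3 1 (le_of_eq hx04)).upd 1 3 1 (le_of_eq hx14)).upd 3 0 3 (le_of_eq hx40)).upd 3 1 3 (le_of_eq hx41)) ![1,1,0,2] (by decide) (by decide) 0 (by decide))
    · -- 14=(3,1)
      exact False.elim (cert_false T ((skipEmb 3).trans (Function.Embedding.refl _)) (by norm_num) (fun _ => hall _) (((((LB_zero T ((skipEmb 3).trans (Function.Embedding.refl _))).upd 0 3 1 (le_of_eq hx04)).upd 1 3 3 (le_of_eq hx14)).upd 3 0 3 (le_of_eq hx40)).upd 3 1 1 (le_of_eq hx41)) ![1,1,0,2] (by decide) (by decide) 0 (by decide))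
  · -- 04=(3,1)
    rcases d14 with ⟨rfl, rfl⟩ | ⟨rfl, rfl⟩ | ⟨rfl, rfl⟩ | ⟨rfl, rfl⟩ | ⟨rfl, rfl⟩ | ⟨rfl, rfl⟩
    · -- 14=(0,0)
      rcases d24 with ⟨rfl, rfl⟩ | ⟨rfl, rfl⟩ | ⟨rfl, rfl⟩ | ⟨rfl, rfl⟩ | ⟨rfl, rfl⟩ | ⟨rfl, rfl⟩
      · -- 24=(0,0)
        rcases d34 with ⟨rfl, rfl⟩ | ⟨rfl, rfl⟩ | ⟨rfl, rfl⟩ | ⟨rfl, rfl⟩ | ⟨rfl, rfl⟩ | ⟨rfl, rfl⟩
        · -- 34=(0,0)
          exfalso; omega
        · -- 34=(1,1)
          exact False.elim (cert_false T ((skipEmb 2).trans (Function.Embedding.refl _)) (by norm_num) (fun _ => hall _) (((((((LB_zero T ((skipEmb 2).trans (Function.Embedding.refl _))).upd 0 3 3 (le_of_eq hx04)).upd 1 2 2 (le_of_eq hx13)).upd 2 1 1 (le_of_eq hx31)).upd 2 3 1 (le_of_eq hx34)).upd 3 0 1 (le_of_eq hx40)).upd 3 2 1 (le_of_eq hx43)) ![1,1,1,1] (by decide) (by decide) 0 (by decide))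
        · -- 34=(1,2)
          exact False.elim (cert_false T ((skipEmb 2).trans (Function.Embedding.refl _)) (by norm_num) (fun _ => hall _) (((((LB_zero T ((skipEmb 2).trans (Function.Embedding.refl _))).upd 1 2 2 (le_of_eq hx13)).upd 2 1 1 (le_of_eq hx31)).upd 2 3 1 (le_of_eq hx34)).upd 3 2 2 (le_of_eq hx43)) ![0,1,1,1] (by decide) (by decide) 1 (by decide))
        · -- 34=(2,1)
          exact False.elim (cert_false T ((skipEmb 2).trans (Function.Embedding.refl _)) (by norm_num) (fun _ => hall _) (((((LB_zero T ((skipEmb 2).trans (Function.Embedding.refl _))).upd 0 3 3 (le_of_eq hx04)).upd 2 3 2 (le_of_eq hx34)).upd 3 0 1 (le_of_eq hx40)).upd 3 2 1 (le_of_eq hx43)) ![1,0,1,1] (by decide) (by decide) 0 (by decide))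
        · -- 34=(1,3)
          exact False.elim (cert_false T ((skipEmb 2).trans (Function.Embedding.refl _)) (by norm_num) (fun _ => hall _) (((((LB_zero T ((skipEmb 2).trans (Function.Embedding.refl _))).upd 1 2 2 (le_of_eq hx13)).upd 2 1 1 (le_of_eq hx31)).upd 2 3 1 (le_of_eq hx34)).upd 3 2 3 (le_of_eq hx43)) ![0,1,1,1] (by decide) (by decide) 1 (by decide))
        · -- 34=(3,1)
          exact False.elim (cert_false T ((skipEmb 2).trans (Function.Embedding.refl _)) (by norm_num) (fun _ => hall _) (((((LB_zero T ((skipEmb 2).trans (Function.Embedding.refl _))).upd 0 3 3 (le_of_eq hx04)).upd 2 3 3 (le_of_eq hx34)).upd 3 0 1 (le_of_eq hx40)).upd 3 2 1 (le_of_eq hx43)) ![1,0,1,1] (by decide) (by decide) 0 (by decide))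
      · -- 24=(1,1)
        exact False.elim (cert_false T ((skipEmb 3).trans (Function.Embedding.refl _)) (by norm_num) (fun _ => hall _) (((((LB_zero T ((skipEmb 3).trans (Function.Embedding.refl _))).upd 0 3 3 (le_of_eq hx04)).upd 2 3 1 (le_of_eq hx24)).upd 3 0 1 (le_of_eq hx40)).upd 3 2 1 (le_of_eq hx42)) ![3,0,1,2] (by decide) (by decide) 0 (by decide))
      · -- 24=(1,2)
        exact False.elim (cert_false T ((skipEmb 3).trans (Function.Embedding.refl _)) (by norm_num) (fun _ => hall _) (((((LB_zero T ((skipEmb 3).trans (Function.Embedding.refl _))).upd 0 3 3 (le_of_eq hx04)).upd 2 3 1 (le_of_eq hx24)).upd 3 0 1 (le_of_eq hx40)).upd 3 2 2 (le_of_eq hx42)) ![2,0,1,2] (by decide) (by decide) 0 (by decide))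
      · -- 24=(2,1)
        exact False.elim (cert_false T ((skipEmb 3).trans (Function.Embedding.refl _)) (by norm_num) (fun _ => hall _) (((((LB_zero T ((skipEmb 3).trans (Function.Embedding.refl _))).upd 0 3 3 (le_of_eq hx04)).upd 2 3 2 (le_of_eq hx24)).upd 3 0 1 (le_of_eq hx40)).upd 3 2 1 (le_of_eq hx42)) ![1,0,1,1] (by decide) (by decide) 0 (by decide))
      · -- 24=(1,3)
        exact False.elim (cert_false T ((skipEmb 3).trans (Function.Embedding.refl _)) (by norm_num) (fun _ => hall _) (((((LB_zero T ((skipEmb 3).trans (Function.Embedding.refl _))).upd 0 3 3 (le_of_eq hx04)).upd 2 3 1 (le_of_eq hx24)).upd 3 0 1 (le_of_eq hx40)).upd 3 2 3 (le_of_eq hx42)) ![1,0,1,2] (by decide) (by decide) 0 (by decide))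
      · -- 24=(3,1)
        exact False.elim (cert_false T ((skipEmb 3).trans (Function.Embedding.refl _)) (by norm_num) (fun _ => hall _) (((((LB_zero T ((skipEmb 3).trans (Function.Embedding.refl _))).upd 0 3 3 (le_of_eq hx04)).upd 2 3 3 (le_of_eq hx24)).upd 3 0 1 (le_of_eq hx40)).upd 3 2 1 (le_of_eq hx42)) ![1,0,1,1] (by decide) (by decide) 0 (by decide))
    · -- 14=(1,1)
      exact False.elim (cert_false T ((skipEmb 3).trans (Function.Embedding.refl _)) (by norm_num) (fun _ => hall _) (((((LB_zero T ((skipEmb 3).trans (Function.Embedding.refl _))).upd 0 3 3 (le_of_eq hx04)).upd 1 3 1 (le_of_eq hx14)).upd 3 0 1 (le_of_eq hx40)).upd 3 1 1 (le_of_eq hx41)) ![3,1,0,2] (by decide) (by decide) 0 (by decide))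
    · -- 14=(1,2)
      exact False.elim (cert_false T ((skipEmb 3).trans (Function.Embedding.refl _)) (by norm_num) (fun _ => hall _) (((((LB_zero T ((skipEmb 3).trans (Function.Embedding.refl _))).upd 0 3 3 (le_of_eq hx04)).upd 1 3 1 (le_of_eq hx14)).upd 3 0 1 (le_of_eq hx40)).upd 3 1 2 (le_of_eq hx41)) ![2,1,0,2] (by decide) (by decide) 0 (by decide))
    · -- 14=(2,1)
      exact False.elim (cert_false T ((skipEmb 3).trans (Function.Embedding.refl _)) (by norm_num) (fun _ => hall _) (((((LB_zero T ((skipEmb 3).trans (Function.Embedding.refl _))).upd 0 3 3 (le_of_eq hx04)).upd 1 3 2 (le_of_eq hx14)).upd 3 0 1 (le_of_eq hx40)).upd 3 1 1 (le_of_eq hx41)) ![1,1,0,1] (by decide) (by decide) 0 (by decide))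
    · -- 14=(1,3)
      exact False.elim (cert_false T ((skipEmb 3).trans (Function.Embedding.refl _)) (by norm_num) (fun _ => hall _) (((((LB_zero T ((skipEmb 3).trans (Function.Embedding.refl _))).upd 0 3 3 (le_of_eq hx04)).upd 1 3 1 (le_of_eq hx14)).upd 3 0 1 (le_of_eq hx40)).upd 3 1 3 (le_of_eq hx41)) ![1,1,0,2] (by decide) (by decide) 0 (by decide))
    · -- 14=(3,1)
      exact False.elim (cert_false T ((skipEmb 3).trans (Function.Embedding.refl _)) (by norm_num) (fun _ => hall _) (((((LB_zero T ((skipEmb 3).trans (Function.Embedding.refl _))).upd 0 3 3 (le_of_eq hx04)).upd 1 3 3 (le_of_eq hx14)).upd 3 0 1 (le_of_eq hx40)).upd 3 1 1 (le_of_eq hx41)) ![1,1,0,1] (by decide) (by decide) 0 (by decide))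

theorem case105 (T : NumericalType 5) (hall : ∀ i, T.IsMinusTwo i) (d : SData T)
    (h01 : N T (Function.Embedding.refl _) 0 1 = 0) (h10 : N T (Function.Embedding.refl _) 1 0 = 0)
    (h02 : N T (Function.Embedding.refl _) 0 2 = 0) (h20 : N T (Function.Embedding.refl _) 2 0 = 0)
    (h12 : N T (Function.Embedding.refl _) 1 2 = 1) (h21 : N T (Function.Embedding.refl _) 2 1 = 1)
    (h03 : N T (Function.Embedding.refl _) 0 3 = 0) (h30 : N T (Function.Embedding.refl _) 3 0 = 0)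
    (h13 : N T (Function.Embedding.refl _) 1 3 = 2) (h31 : N T (Function.Embedding.refl _) 3 1 = 1) :
    Goal T := by
  unfold Goal
  have hd := d
  obtain ⟨x01, x02, x03, x04, x10, x12, x13, x14, x20, x21, x23, x24, x30, x31, x32, x34, x40, x41, x42, x43, hx01, hx02, hx03, hx04, hx10, hx12, hx13, hx14, hx20, hx21, hx23, hx24, hx30, hx31, hx32, hx34, hx40, hx41, hx42, hx43, hw0, hm0, hw1, hm1, hw2, hm2, hw3, hm3, hw4, hm4, a00, a01, a02, a03, a04, a11, a10, a12, a13, a14, a22, a20, a21, a23, a24, a33, a30, a31, a32, a34, a44, a40, a41, a42, a43, wN01, wN02, wN12, wN03, wN13, wN23, wN04, wN14, wN24, wN34, e0, e1, e2, e3, e4, d01, d02, d12, d03, d13, d23, d04, d14, d24, d34⟩ := d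
  obtain rfl : x01 = 0 := hx01.trans h01
  obtain rfl : x10 = 0 := hx10.trans h10
  obtain rfl : x02 = 0 := hx02.trans h02
  obtain rfl : x20 = 0 := hx20.trans h20
  obtain rfl : x12 = 1 := hx12.trans h12
  obtain rfl : x21 = 1 := hx21.trans h21
  obtain rfl : x03 = 0 := hx03.trans h03
  obtain rfl : x30 = 0 := hx30.trans h30
  obtain rfl : x13 = 2 := hx13.trans h13
  obtain rfl : x31 = 1 := hx31.trans h31
  rcases d23 with ⟨rfl, rfl⟩ | ⟨rfl, rfl⟩ | ⟨rfl, rfl⟩ | ⟨rfl, rfl⟩ | ⟨rfl, rfl⟩ | ⟨rfl, rfl⟩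
  · -- 23=(0,0)
    exact case106 T hall hd hx01.symm hx10.symm hx02.symm hx20.symm hx12.symm hx21.symm hx03.symm hx30.symm hx13.symm hx31.symm hx23.symm hx32.symm
  · -- 23=(1,1)
    exact False.elim (cert_false T ((skipEmb 4).trans (Function.Embedding.refl _)) (by norm_num) (fun _ => hall _) (((((((LB_zero T ((skipEmb 4).trans (Function.Embedding.refl _))).upd 1 2 1 (le_of_eq hx12)).upd 1 3 2 (le_of_eq hx13)).upd 2 1 1 (le_of_eq hx21)).upd 2 3 1 (le_of_eq hx23)).upd 3 1 1 (le_of_eq hx31)).upd 3 2 1 (le_of_eq hx32)) ![0,1,1,1] (by decide) (by decide) 1 (by decide))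
  · -- 23=(1,2)
    exact False.elim (cert_false T ((skipEmb 4).trans (Function.Embedding.refl _)) (by norm_num) (fun _ => hall _) (((((((LB_zero T ((skipEmb 4).trans (Function.Embedding.refl _))).upd 1 2 1 (le_of_eq hx12)).upd 1 3 2 (le_of_eq hx13)).upd 2 1 1 (le_of_eq hx21)).upd 2 3 1 (le_of_eq hx23)).upd 3 1 1 (le_of_eq hx31)).upd 3 2 2 (le_of_eq hx32)) ![0,1,1,1] (by decide) (by decide) 1 (by decide))
  · -- 23=(2,1)
    exact False.elim (cert_false T ((skipEmb 4).trans (Function.Embedding.refl _)) (by norm_num) (fun _ => hall _) (((((((LB_zero T ((skipEmb 4).trans (Function.Embedding.refl _))).upd 1 2 1 (le_of_eq hx12)).upd 1 3 2 (le_of_eq hx13)).upd 2 1 1 (le_of_eq hx21)).upd 2 3 2 (le_of_eq hx23)).upd 3 1 1 (le_of_eq hx31)).upd 3 2 1 (le_of_eq hx32)) ![0,1,1,1] (by decide) (by decide) 1 (by decide))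
  · -- 23=(1,3)
    exact False.elim (cert_false T ((skipEmb 4).trans (Function.Embedding.refl _)) (by norm_num) (fun _ => hall _) (((((((LB_zero T ((skipEmb 4).trans (Function.Embedding.refl _))).upd 1 2 1 (le_of_eq hx12)).upd 1 3 2 (le_of_eq hx13)).upd 2 1 1 (le_of_eq hx21)).upd 2 3 1 (le_of_eq hx23)).upd 3 1 1 (le_of_eq hx31)).upd 3 2 3 (le_of_eq hx32)) ![0,1,1,1] (by decide) (by decide) 1 (by decide))
  · -- 23=(3,1)
    exact False.elim (cert_false T ((skipEmb 4).trans (Function.Embedding.refl _)) (by norm_num) (fun _ => hall _) (((((((LB_zero T ((skipEmb 4).trans (Function.Embedding.refl _))).upd 1 2 1 (le_of_eq hx12)).upd 1 3 2 (le_of_eq hx13)).upd 2 1 1 (le_of_eq hx21)).upd 2 3 3 (le_of_eq hx23)).upd 3 1 1 (le_of_eq hx31)).upd 3 2 1 (le_of_eq hx32)) ![0,1,1,1] (by decide) (by decide) 1 (by decide))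

theorem case143 (T : NumericalType 5) (hall : ∀ i, T.IsMinusTwo i) (d : SData T)
    (h01 : N T (Function.Embedding.refl _) 0 1 = 0) (h10 : N T (Function.Embedding.refl _) 1 0 = 0)
    (h02 : N T (Function.Embedding.refl _) 0 2 = 0) (h20 : N T (Function.Embedding.refl _) 2 0 = 0)
    (h12 : N T (Function.Embedding.refl _) 1 2 = 1) (h21 : N T (Function.Embedding.refl _) 2 1 = 1)
    (h03 : N T (Function.Embedding.refl _) 0 3 = 3) (h30 : N T (Function.Embedding.refl _) 3 0 = 1)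
    (h13 : N T (Function.Embedding.refl _) 1 3 = 0) (h31 : N T (Function.Embedding.refl _) 3 1 = 0)
    (h23 : N T (Function.Embedding.refl _) 2 3 = 0) (h32 : N T (Function.Embedding.refl _) 3 2 = 0)
    (h04 : N T (Function.Embedding.refl _) 0 4 = 0) (h40 : N T (Function.Embedding.refl _) 4 0 = 0) :
    Goal T := by
  unfold Goal
  have hd := d
  obtain ⟨x01, x02, x03, x04, x10, x12, x13, x14, x20, x21, x23, x24, x30, x31, x32, x34, x40, x41, x42, x43, hx01, hx02, hx03, hx04, hx10, hx12, hx13, hx14, hx20, hx21, hx23, hx24, hx30, hx31, hx32, hx34, hx40, hx41, hx42, hx43, hw0, hm0, hw1, hm1, hw2, hm2, hw3, hm3, hw4, hm4, a00, a01, a02, a03, a04, a11, a10, a12, a13, a14, a22, a20, a21, a23, a24, a33, a30, a31, a32, a34, a44, a40, a41, a42, a43, wN01, wN02, wN12, wN03, wN13, wN23, wN04, wN14, wN24, wN34, e0, e1, e2, e3, e4, d01, d02, d12, d03, d13, d23, d04, d14, d24, d34⟩ := d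
  obtain rfl : x01 = 0 := hx01.trans h01
  obtain rfl : x10 = 0 := hx10.trans h10
  obtain rfl : x02 = 0 := hx02.trans h02
  obtain rfl : x20 = 0 := hx20.trans h20
  obtain rfl : x12 = 1 := hx12.trans h12
  obtain rfl : x21 = 1 := hx21.trans h21
  obtain rfl : x03 = 3 := hx03.trans h03
  obtain rfl : x30 = 1 := hx30.trans h30
  obtain rfl : x13 = 0 := hx13.trans h13
  obtain rfl : x31 = 0 := hx31.trans h31
  obtain rfl : x23 = 0 := hx23.trans h23
  obtain rfl : x32 = 0 := hx32.trans h32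
  obtain rfl : x04 = 0 := hx04.trans h04
  obtain rfl : x40 = 0 := hx40.trans h40
  rcases d14 with ⟨rfl, rfl⟩ | ⟨rfl, rfl⟩ | ⟨rfl, rfl⟩ | ⟨rfl, rfl⟩ | ⟨rfl, rfl⟩ | ⟨rfl, rfl⟩
  · -- 14=(0,0)
    rcases d24 with ⟨rfl, rfl⟩ | ⟨rfl, rfl⟩ | ⟨rfl, rfl⟩ | ⟨rfl, rfl⟩ | ⟨rfl, rfl⟩ | ⟨rfl, rfl⟩
    · -- 24=(0,0)
      rcases d34 with ⟨rfl, rfl⟩ | ⟨rfl, rfl⟩ | ⟨rfl, rfl⟩ | ⟨rfl, rfl⟩ | ⟨rfl, rfl⟩ | ⟨rfl, rfl⟩
      · -- 34=(0,0)
        exfalso; omega
      · -- 34=(1,1)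
        exact False.elim (cert_false T ((skipEmb 2).trans (Function.Embedding.refl _)) (by norm_num) (fun _ => hall _) (((((LB_zero T ((skipEmb 2).trans (Function.Embedding.refl _))).upd 0 2 3 (le_of_eq hx03)).upd 2 0 1 (le_of_eq hx30)).upd 2 3 1 (le_of_eq hx34)).upd 3 2 1 (le_of_eq hx43)) ![3,0,2,1] (by decide) (by decide) 0 (by decide))
      · -- 34=(1,2)
        exact False.elim (cert_false T ((skipEmb 2).trans (Function.Embedding.refl _)) (by norm_num) (fun _ => hall _) (((((LB_zero T ((skipEmb 2).trans (Function.Embedding.refl _))).upd 0 2 3 (le_of_eq hx03)).upd 2 0 1 (le_of_eq hx30)).upd 2 3 1 (le_of_eq hx34)).upd 3 2 2 (le_of_eq hx43)) ![1,0,1,1] (by decide) (by decide) 0 (by decide))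
      · -- 34=(2,1)
        exact False.elim (cert_false T ((skipEmb 2).trans (Function.Embedding.refl _)) (by norm_num) (fun _ => hall _) (((((LB_zero T ((skipEmb 2).trans (Function.Embedding.refl _))).upd 0 2 3 (le_of_eq hx03)).upd 2 0 1 (le_of_eq hx30)).upd 2 3 2 (le_of_eq hx34)).upd 3 2 1 (le_of_eq hx43)) ![2,0,2,1] (by decide) (by decide) 0 (by decide))
      · -- 34=(1,3)
        exact False.elim (cert_false T ((skipEmb 2).trans (Function.Embedding.refl _)) (by norm_num) (fun _ => hall _) (((((LB_zero T ((skipEmb 2).trans (Function.Embedding.refl _))).upd 0 2 3 (le_of_eq hx03)).upd 2 0 1 (le_of_eq hx30)).upd 2 3 1 (le_of_eq hx34)).upd 3 2 3 (le_of_eq hx43)) ![1,0,1,1] (by decide) (by decide) 0 (by decide))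
      · -- 34=(3,1)
        exact False.elim (cert_false T ((skipEmb 2).trans (Function.Embedding.refl _)) (by norm_num) (fun _ => hall _) (((((LB_zero T ((skipEmb 2).trans (Function.Embedding.refl _))).upd 0 2 3 (le_of_eq hx03)).upd 2 0 1 (le_of_eq hx30)).upd 2 3 3 (le_of_eq hx34)).upd 3 2 1 (le_of_eq hx43)) ![1,0,2,1] (by decide) (by decide) 0 (by decide))
    · -- 24=(1,1)
      rcases d34 with ⟨rfl, rfl⟩ | ⟨rfl, rfl⟩ | ⟨rfl, rfl⟩ | ⟨rfl, rfl⟩ | ⟨rfl, rfl⟩ | ⟨rfl, rfl⟩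
      · -- 34=(0,0)
        exfalso; omega
      · -- 34=(1,1)
        exact False.elim (cert_false T ((skipEmb 2).trans (Function.Embedding.refl _)) (by norm_num) (fun _ => hall _) (((((LB_zero T ((skipEmb 2).trans (Function.Embedding.refl _))).upd 0 2 3 (le_of_eq hx03)).upd 2 0 1 (le_of_eq hx30)).upd 2 3 1 (le_of_eq hx34)).upd 3 2 1 (le_of_eq hx43)) ![3,0,2,1] (by decide) (by decide) 0 (by decide))
      · -- 34=(1,2)
        exact False.elim (cert_false T ((skipEmb 2).trans (Function.Embedding.refl _)) (by norm_num) (fun _ => hall _) (((((LB_zero T ((skipEmb 2).trans (Function.Embedding.refl _))).upd 0 2 3 (le_of_eq hx03)).upd 2 0 1 (le_of_eq hx30)).upd 2 3 1 (le_of_eq hx34)).upd 3 2 2 (le_of_eq hx43)) ![1,0,1,1] (by decide) (by decide) 0 (by decide))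
      · -- 34=(2,1)
        exact False.elim (cert_false T ((skipEmb 2).trans (Function.Embedding.refl _)) (by norm_num) (fun _ => hall _) (((((LB_zero T ((skipEmb 2).trans (Function.Embedding.refl _))).upd 0 2 3 (le_of_eq hx03)).upd 2 0 1 (le_of_eq hx30)).upd 2 3 2 (le_of_eq hx34)).upd 3 2 1 (le_of_eq hx43)) ![2,0,2,1] (by decide) (by decide) 0 (by decide))
      · -- 34=(1,3)
        exact False.elim (cert_false T ((skipEmb 2).trans (Function.Embedding.refl _)) (by norm_num) (fun _ => hall _) (((((LB_zero T ((skipEmb 2).trans (Function.Embedding.refl _))).upd 0 2 3 (le_of_eq hx03)).upd 2 0 1 (le_of_eq hx30)).upd 2 3 1 (le_of_eq hx34)).upd 3 2 3 (le_of_eq hx43)) ![1,0,1,1] (by decide) (by decide) 0 (by decide))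
      · -- 34=(3,1)
        exact False.elim (cert_false T ((skipEmb 2).trans (Function.Embedding.refl _)) (by norm_num) (fun _ => hall _) (((((LB_zero T ((skipEmb 2).trans (Function.Embedding.refl _))).upd 0 2 3 (le_of_eq hx03)).upd 2 0 1 (le_of_eq hx30)).upd 2 3 3 (le_of_eq hx34)).upd 3 2 1 (le_of_eq hx43)) ![1,0,2,1] (by decide) (by decide) 0 (by decide))
    · -- 24=(1,2)
      rcases d34 with ⟨rfl, rfl⟩ | ⟨rfl, rfl⟩ | ⟨rfl, rfl⟩ | ⟨rfl, rfl⟩ | ⟨rfl, rfl⟩ | ⟨rfl, rfl⟩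
      · -- 34=(0,0)
        exfalso; omega
      · -- 34=(1,1)
        exact False.elim (cert_false T ((skipEmb 2).trans (Function.Embedding.refl _)) (by norm_num) (fun _ => hall _) (((((LB_zero T ((skipEmb 2).trans (Function.Embedding.refl _))).upd 0 2 3 (le_of_eq hx03)).upd 2 0 1 (le_of_eq hx30)).upd 2 3 1 (le_of_eq hx34)).upd 3 2 1 (le_of_eq hx43)) ![3,0,2,1] (by decide) (by decide) 0 (by decide))
      · -- 34=(1,2)
        exact False.elim (cert_false T ((skipEmb 2).trans (Function.Embedding.refl _)) (by norm_num) (fun _ => hall _) (((((LB_zero T ((skipEmb 2).trans (Function.Embedding.refl _))).upd 0 2 3 (le_of_eq hx03)).upd 2 0 1 (le_of_eq hx30)).upd 2 3 1 (le_of_eq hx34)).upd 3 2 2 (le_of_eq hx43)) ![1,0,1,1] (by decide) (by decide) 0 (by decide))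
      · -- 34=(2,1)
        exact False.elim (cert_false T ((skipEmb 2).trans (Function.Embedding.refl _)) (by norm_num) (fun _ => hall _) (((((LB_zero T ((skipEmb 2).trans (Function.Embedding.refl _))).upd 0 2 3 (le_of_eq hx03)).upd 2 0 1 (le_of_eq hx30)).upd 2 3 2 (le_of_eq hx34)).upd 3 2 1 (le_of_eq hx43)) ![2,0,2,1] (by decide) (by decide) 0 (by decide))
      · -- 34=(1,3)
        exact False.elim (cert_false T ((skipEmb 2).trans (Function.Embedding.refl _)) (by norm_num) (fun _ => hall _) (((((LB_zero T ((skipEmb 2).trans (Function.Embedding.refl _))).upd 0 2 3 (le_of_eq hx03)).upd 2 0 1 (le_of_eq hx30)).upd 2 3 1 (le_of_eq hx34)).upd 3 2 3 (le_of_eq hx43)) ![1,0,1,1] (by decide) (by decide) 0 (by decide))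
      · -- 34=(3,1)
        exact False.elim (cert_false T ((skipEmb 2).trans (Function.Embedding.refl _)) (by norm_num) (fun _ => hall _) (((((LB_zero T ((skipEmb 2).trans (Function.Embedding.refl _))).upd 0 2 3 (le_of_eq hx03)).upd 2 0 1 (le_of_eq hx30)).upd 2 3 3 (le_of_eq hx34)).upd 3 2 1 (le_of_eq hx43)) ![1,0,2,1] (by decide) (by decide) 0 (by decide))
    · -- 24=(2,1)
      rcases d34 with ⟨rfl, rfl⟩ | ⟨rfl, rfl⟩ | ⟨rfl, rfl⟩ | ⟨rfl, rfl⟩ | ⟨rfl, rfl⟩ | ⟨rfl, rfl⟩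
      · -- 34=(0,0)
        exfalso; omega
      · -- 34=(1,1)
        exact False.elim (cert_false T ((skipEmb 2).trans (Function.Embedding.refl _)) (by norm_num) (fun _ => hall _) (((((LB_zero T ((skipEmb 2).trans (Function.Embedding.refl _))).upd 0 2 3 (le_of_eq hx03)).upd 2 0 1 (le_of_eq hx30)).upd 2 3 1 (le_of_eq hx34)).upd 3 2 1 (le_of_eq hx43)) ![3,0,2,1] (by decide) (by decide) 0 (by decide))
      · -- 34=(1,2)
        exact False.elim (cert_false T ((skipEmb 2).trans (Function.Embedding.refl _)) (by norm_num) (fun _ => hall _) (((((LB_zero T ((skipEmb 2).trans (Function.Embedding.refl _))).upd 0 2 3 (le_of_eq hx03)).upd 2 0 1 (le_of_eq hx30)).upd 2 3 1 (le_of_eq hx34)).upd 3 2 2 (le_of_eq hx43)) ![1,0,1,1] (by decide) (by decide) 0 (by decide))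
      · -- 34=(2,1)
        exact False.elim (cert_false T ((skipEmb 2).trans (Function.Embedding.refl _)) (by norm_num) (fun _ => hall _) (((((LB_zero T ((skipEmb 2).trans (Function.Embedding.refl _))).upd 0 2 3 (le_of_eq hx03)).upd 2 0 1 (le_of_eq hx30)).upd 2 3 2 (le_of_eq hx34)).upd 3 2 1 (le_of_eq hx43)) ![2,0,2,1] (by decide) (by decide) 0 (by decide))
      · -- 34=(1,3)
        exact False.elim (cert_false T ((skipEmb 2).trans (Function.Embedding.refl _)) (by norm_num) (fun _ => hall _) (((((LB_zero T ((skipEmb 2).trans (Function.Embedding.refl _))).upd 0 2 3 (le_of_eq hx03)).upd 2 0 1 (le_of_eq hx30)).upd 2 3 1 (le_of_eq hx34)).upd 3 2 3 (le_of_eq hx43)) ![1,0,1,1] (by decide) (by decide) 0 (by decide))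
      · -- 34=(3,1)
        exact False.elim (cert_false T ((skipEmb 2).trans (Function.Embedding.refl _)) (by norm_num) (fun _ => hall _) (((((LB_zero T ((skipEmb 2).trans (Function.Embedding.refl _))).upd 0 2 3 (le_of_eq hx03)).upd 2 0 1 (le_of_eq hx30)).upd 2 3 3 (le_of_eq hx34)).upd 3 2 1 (le_of_eq hx43)) ![1,0,2,1] (by decide) (by decide) 0 (by decide))
    · -- 24=(1,3)
      exact False.elim (cert_false T ((skipEmb 3).trans (Function.Embedding.refl _)) (by norm_num) (fun _ => hall _) (((((LB_zero T ((skipEmb 3).trans (Function.Embedding.refl _))).upd 1 2 1 (le_of_eq hx12)).upd 2 1 1 (le_of_eq hx21)).upd 2 3 1 (le_of_eq hx24)).upd 3 2 3 (le_of_eq hx42)) ![0,1,2,3] (by decide) (by decide) 1 (by decide))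
    · -- 24=(3,1)
      exact False.elim (cert_false T ((skipEmb 3).trans (Function.Embedding.refl _)) (by norm_num) (fun _ => hall _) (((((LB_zero T ((skipEmb 3).trans (Function.Embedding.refl _))).upd 1 2 1 (le_of_eq hx12)).upd 2 1 1 (le_of_eq hx21)).upd 2 3 3 (le_of_eq hx24)).upd 3 2 1 (le_of_eq hx42)) ![0,1,2,1] (by decide) (by decide) 1 (by decide))
  · -- 14=(1,1)
    rcases d24 with ⟨rfl, rfl⟩ | ⟨rfl, rfl⟩ | ⟨rfl, rfl⟩ | ⟨rfl, rfl⟩ | ⟨rfl, rfl⟩ | ⟨rfl, rfl⟩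
    · -- 24=(0,0)
      rcases d34 with ⟨rfl, rfl⟩ | ⟨rfl, rfl⟩ | ⟨rfl, rfl⟩ | ⟨rfl, rfl⟩ | ⟨rfl, rfl⟩ | ⟨rfl, rfl⟩
      · -- 34=(0,0)
        exfalso; omega
      · -- 34=(1,1)
        exact False.elim (cert_false T ((skipEmb 2).trans (Function.Embedding.refl _)) (by norm_num) (fun _ => hall _) (((((LB_zero T ((skipEmb 2).trans (Function.Embedding.refl _))).upd 0 2 3 (le_of_eq hx03)).upd 2 0 1 (le_of_eq hx30)).upd 2 3 1 (le_of_eq hx34)).upd 3 2 1 (le_of_eq hx43)) ![3,0,2,1] (by decide) (by decide) 0 (by decide))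
      · -- 34=(1,2)
        exact False.elim (cert_false T ((skipEmb 2).trans (Function.Embedding.refl _)) (by norm_num) (fun _ => hall _) (((((LB_zero T ((skipEmb 2).trans (Function.Embedding.refl _))).upd 0 2 3 (le_of_eq hx03)).upd 2 0 1 (le_of_eq hx30)).upd 2 3 1 (le_of_eq hx34)).upd 3 2 2 (le_of_eq hx43)) ![1,0,1,1] (by decide) (by decide) 0 (by decide))
      · -- 34=(2,1)
        exact False.elim (cert_false T ((skipEmb 2).trans (Function.Embedding.refl _)) (by norm_num) (fun _ => hall _) (((((LB_zero T ((skipEmb 2).trans (Function.Embedding.refl _))).upd 0 2 3 (le_of_eq hx03)).upd 2 0 1 (le_of_eq hx30)).upd 2 3 2 (le_of_eq hx34)).upd 3 2 1 (le_of_eq hx43)) ![2,0,2,1] (by decide) (by decide) 0 (by decide))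
      · -- 34=(1,3)
        exact False.elim (cert_false T ((skipEmb 2).trans (Function.Embedding.refl _)) (by norm_num) (fun _ => hall _) (((((LB_zero T ((skipEmb 2).trans (Function.Embedding.refl _))).upd 0 2 3 (le_of_eq hx03)).upd 2 0 1 (le_of_eq hx30)).upd 2 3 1 (le_of_eq hx34)).upd 3 2 3 (le_of_eq hx43)) ![1,0,1,1] (by decide) (by decide) 0 (by decide))
      · -- 34=(3,1)
        exact False.elim (cert_false T ((skipEmb 2).trans (Function.Embedding.refl _)) (by norm_num) (fun _ => hall _) (((((LB_zero T ((skipEmb 2).trans (Function.Embedding.refl _))).upd 0 2 3 (le_of_eq hx03)).upd 2 0 1 (le_of_eq hx30)).upd 2 3 3 (le_of_eq hx34)).upd 3 2 1 (le_of_eq hx43)) ![1,0,2,1] (by decide) (by decide) 0 (by decide))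
    · -- 24=(1,1)
      exact False.elim (cert_false T ((skipEmb 3).trans (Function.Embedding.refl _)) (by norm_num) (fun _ => hall _) (((((((LB_zero T ((skipEmb 3).trans (Function.Embedding.refl _))).upd 1 2 1 (le_of_eq hx12)).upd 1 3 1 (le_of_eq hx14)).upd 2 1 1 (le_of_eq hx21)).upd 2 3 1 (le_of_eq hx24)).upd 3 1 1 (le_of_eq hx41)).upd 3 2 1 (le_of_eq hx42)) ![0,1,1,1] (by decide) (by decide) 1 (by decide))
    · -- 24=(1,2)
      exact False.elim (cert_false T ((skipEmb 3).trans (Function.Embedding.refl _)) (by norm_num) (fun _ => hall _) (((((((LB_zero T ((skipEmb 3).trans (Function.Embedding.refl _))).upd 1 2 1 (le_of_eq hx12)).upd 1 3 1 (le_of_eq hx14)).upd 2 1 1 (le_of_eq hx21)).upd 2 3 1 (le_of_eq hx24)).upd 3 1 1 (le_of_eq hx41)).upd 3 2 2 (le_of_eq hx42)) ![0,1,1,1] (by decide) (by decide) 1 (by decide))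
    · -- 24=(2,1)
      exact False.elim (cert_false T ((skipEmb 3).trans (Function.Embedding.refl _)) (by norm_num) (fun _ => hall _) (((((((LB_zero T ((skipEmb 3).trans (Function.Embedding.refl _))).upd 1 2 1 (le_of_eq hx12)).upd 1 3 1 (le_of_eq hx14)).upd 2 1 1 (le_of_eq hx21)).upd 2 3 2 (le_of_eq hx24)).upd 3 1 1 (le_of_eq hx41)).upd 3 2 1 (le_of_eq hx42)) ![0,1,1,1] (by decide) (by decide) 1 (by decide))
    · -- 24=(1,3)
      exact False.elim (cert_false T ((skipEmb 3).trans (Function.Embedding.refl _)) (by norm_num) (fun _ => hall _) (((((((LB_zero T ((skipEmb 3).trans (Function.Embedding.refl _))).upd 1 2 1 (le_of_eq hx12)).upd 1 3 1 (le_of_eq hx14)).upd 2 1 1 (le_of_eq hx21)).upd 2 3 1 (le_of_eq hx24)).upd 3 1 1 (le_of_eq hx41)).upd 3 2 3 (le_of_eq hx42)) ![0,1,1,1] (by decide) (by decide) 1 (by decide))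
    · -- 24=(3,1)
      exact False.elim (cert_false T ((skipEmb 3).trans (Function.Embedding.refl _)) (by norm_num) (fun _ => hall _) (((((((LB_zero T ((skipEmb 3).trans (Function.Embedding.refl _))).upd 1 2 1 (le_of_eq hx12)).upd 1 3 1 (le_of_eq hx14)).upd 2 1 1 (le_of_eq hx21)).upd 2 3 3 (le_of_eq hx24)).upd 3 1 1 (le_of_eq hx41)).upd 3 2 1 (le_of_eq hx42)) ![0,1,1,1] (by decide) (by decide) 1 (by decide))
  · -- 14=(1,2)
    rcases d24 with ⟨rfl, rfl⟩ | ⟨rfl, rfl⟩ | ⟨rfl, rfl⟩ | ⟨rfl, rfl⟩ | ⟨rfl, rfl⟩ | ⟨rfl, rfl⟩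
    · -- 24=(0,0)
      rcases d34 with ⟨rfl, rfl⟩ | ⟨rfl, rfl⟩ | ⟨rfl, rfl⟩ | ⟨rfl, rfl⟩ | ⟨rfl, rfl⟩ | ⟨rfl, rfl⟩
      · -- 34=(0,0)
        exfalso; omega
      · -- 34=(1,1)
        exact False.elim (cert_false T ((skipEmb 2).trans (Function.Embedding.refl _)) (by norm_num) (fun _ => hall _) (((((((LB_zero T ((skipEmb 2).trans (Function.Embedding.refl _))).upd 0 2 3 (le_of_eq hx03)).upd 1 3 1 (le_of_eq hx14)).upd 2 0 1 (le_of_eq hx30)).upd 2 3 1 (le_of_eq hx34)).upd 3 1 2 (le_of_eq hx41)).upd 3 2 1 (le_of_eq hx43)) ![2,1,2,2] (by decide) (by decide) 0 (by decide))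
      · -- 34=(1,2)
        exact False.elim (cert_false T ((skipEmb 2).trans (Function.Embedding.refl _)) (by norm_num) (fun _ => hall _) (((((LB_zero T ((skipEmb 2).trans (Function.Embedding.refl _))).upd 0 2 3 (le_of_eq hx03)).upd 2 0 1 (le_of_eq hx30)).upd 2 3 1 (le_of_eq hx34)).upd 3 2 2 (le_of_eq hx43)) ![1,0,1,1] (by decide) (by decide) 0 (by decide))
      · -- 34=(2,1)
        exact False.elim (cert_false T ((skipEmb 2).trans (Function.Embedding.refl _)) (by norm_num) (fun _ => hall _) (((((LB_zero T ((skipEmb 2).trans (Function.Embedding.refl _))).upd 1 3 1 (le_of_eq hx14)).upd 2 3 2 (le_of_eq hx34)).upd 3 1 2 (le_of_eq hx41)).upd 3 2 1 (le_of_eq hx43)) ![0,1,2,2] (by decide) (by decide) 1 (by decide))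
      · -- 34=(1,3)
        exact False.elim (cert_false T ((skipEmb 2).trans (Function.Embedding.refl _)) (by norm_num) (fun _ => hall _) (((((LB_zero T ((skipEmb 2).trans (Function.Embedding.refl _))).upd 0 2 3 (le_of_eq hx03)).upd 2 0 1 (le_of_eq hx30)).upd 2 3 1 (le_of_eq hx34)).upd 3 2 3 (le_of_eq hx43)) ![1,0,1,1] (by decide) (by decide) 0 (by decide))
      · -- 34=(3,1)
        exact False.elim (cert_false T ((skipEmb 2).trans (Function.Embedding.refl _)) (by norm_num) (fun _ => hall _) (((((LB_zero T ((skipEmb 2).trans (Function.Embedding.refl _))).upd 1 3 1 (le_of_eq hx14)).upd 2 3 3 (le_of_eq hx34)).upd 3 1 2 (le_of_eq hx41)).upd 3 2 1 (le_of_eq hx43)) ![0,1,2,2] (by decide) (by decide) 1 (by decide))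
    · -- 24=(1,1)
      exact False.elim (cert_false T ((skipEmb 3).trans (Function.Embedding.refl _)) (by norm_num) (fun _ => hall _) (((((((LB_zero T ((skipEmb 3).trans (Function.Embedding.refl _))).upd 1 2 1 (le_of_eq hx12)).upd 1 3 1 (le_of_eq hx14)).upd 2 1 1 (le_of_eq hx21)).upd 2 3 1 (le_of_eq hx24)).upd 3 1 2 (le_of_eq hx41)).upd 3 2 1 (le_of_eq hx42)) ![0,1,1,1] (by decide) (by decide) 1 (by decide))
    · -- 24=(1,2)
      exact False.elim (cert_false T ((skipEmb 3).trans (Function.Embedding.refl _)) (by norm_num) (fun _ => hall _) (((((((LB_zero T ((skipEmb 3).trans (Function.Embedding.refl _))).upd 1 2 1 (le_of_eq hx12)).upd 1 3 1 (le_of_eq hx14)).upd 2 1 1 (le_of_eq hx21)).upd 2 3 1 (le_of_eq hx24)).upd 3 1 2 (le_of_eq hx41)).upd 3 2 2 (le_of_eq hx42)) ![0,1,1,1] (by decide) (by decide) 1 (by decide))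
    · -- 24=(2,1)
      exact False.elim (cert_false T ((skipEmb 3).trans (Function.Embedding.refl _)) (by norm_num) (fun _ => hall _) (((((((LB_zero T ((skipEmb 3).trans (Function.Embedding.refl _))).upd 1 2 1 (le_of_eq hx12)).upd 1 3 1 (le_of_eq hx14)).upd 2 1 1 (le_of_eq hx21)).upd 2 3 2 (le_of_eq hx24)).upd 3 1 2 (le_of_eq hx41)).upd 3 2 1 (le_of_eq hx42)) ![0,1,1,1] (by decide) (by decide) 1 (by decide))
    · -- 24=(1,3)
      exact False.elim (cert_false T ((skipEmb 3).trans (Function.Embedding.refl _)) (by norm_num) (fun _ => hall _) (((((((LB_zero T ((skipEmb 3).trans (Function.Embedding.refl _))).upd 1 2 1 (le_of_eq hx12)).upd 1 3 1 (le_of_eq hx14)).upd 2 1 1 (le_of_eq hx21)).upd 2 3 1 (le_of_eq hx24)).upd 3 1 2 (le_of_eq hx41)).upd 3 2 3 (le_of_eq hx42)) ![0,1,1,1] (by decide) (by decide) 1 (by decide))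
    · -- 24=(3,1)
      exact False.elim (cert_false T ((skipEmb 3).trans (Function.Embedding.refl _)) (by norm_num) (fun _ => hall _) (((((((LB_zero T ((skipEmb 3).trans (Function.Embedding.refl _))).upd 1 2 1 (le_of_eq hx12)).upd 1 3 1 (le_of_eq hx14)).upd 2 1 1 (le_of_eq hx21)).upd 2 3 3 (le_of_eq hx24)).upd 3 1 2 (le_of_eq hx41)).upd 3 2 1 (le_of_eq hx42)) ![0,1,1,1] (by decide) (by decide) 1 (by decide))
  · -- 14=(2,1)
    rcases d24 with ⟨rfl, rfl⟩ | ⟨rfl, rfl⟩ | ⟨rfl, rfl⟩ | ⟨rfl, rfl⟩ | ⟨rfl, rfl⟩ | ⟨rfl, rfl⟩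
    · -- 24=(0,0)
      rcases d34 with ⟨rfl, rfl⟩ | ⟨rfl, rfl⟩ | ⟨rfl, rfl⟩ | ⟨rfl, rfl⟩ | ⟨rfl, rfl⟩ | ⟨rfl, rfl⟩
      · -- 34=(0,0)
        exfalso; omega
      · -- 34=(1,1)
        exact False.elim (cert_false T ((skipEmb 2).trans (Function.Embedding.refl _)) (by norm_num) (fun _ => hall _) (((((((LB_zero T ((skipEmb 2).trans (Function.Embedding.refl _))).upd 0 2 3 (le_of_eq hx03)).upd 1 3 2 (le_of_eq hx14)).upd 2 0 1 (le_of_eq hx30)).upd 2 3 1 (le_of_eq hx34)).upd 3 1 1 (le_of_eq hx41)).upd 3 2 1 (le_of_eq hx43)) ![1,1,1,1] (by decide) (by decide) 0 (by decide))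
      · -- 34=(1,2)
        exact False.elim (cert_false T ((skipEmb 2).trans (Function.Embedding.refl _)) (by norm_num) (fun _ => hall _) (((((LB_zero T ((skipEmb 2).trans (Function.Embedding.refl _))).upd 0 2 3 (le_of_eq hx03)).upd 2 0 1 (le_of_eq hx30)).upd 2 3 1 (le_of_eq hx34)).upd 3 2 2 (le_of_eq hx43)) ![1,0,1,1] (by decide) (by decide) 0 (by decide))
      · -- 34=(2,1)
        exact False.elim (cert_false T ((skipEmb 2).trans (Function.Embedding.refl _)) (by norm_num) (fun _ => hall _) (((((LB_zero T ((skipEmb 2).trans (Function.Embedding.refl _))).upd 1 3 2 (le_of_eq hx14)).upd 2 3 2 (le_of_eq hx34)).upd 3 1 1 (le_of_eq hx41)).upd 3 2 1 (le_of_eq hx43)) ![0,1,1,1] (by decide) (by decide) 1 (by decide))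
      · -- 34=(1,3)
        exact False.elim (cert_false T ((skipEmb 2).trans (Function.Embedding.refl _)) (by norm_num) (fun _ => hall _) (((((LB_zero T ((skipEmb 2).trans (Function.Embedding.refl _))).upd 0 2 3 (le_of_eq hx03)).upd 2 0 1 (le_of_eq hx30)).upd 2 3 1 (le_of_eq hx34)).upd 3 2 3 (le_of_eq hx43)) ![1,0,1,1] (by decide) (by decide) 0 (by decide))
      · -- 34=(3,1)
        exact False.elim (cert_false T ((skipEmb 2).trans (Function.Embedding.refl _)) (by norm_num) (fun _ => hall _) (((((LB_zero T ((skipEmb 2).trans (Function.Embedding.refl _))).upd 1 3 2 (le_of_eq hx14)).upd 2 3 3 (le_of_eq hx34)).upd 3 1 1 (le_of_eq hx41)).upd 3 2 1 (le_of_eq hx43)) ![0,1,1,1] (by decide) (by decide) 1 (by decide))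
    · -- 24=(1,1)
      exact False.elim (cert_false T ((skipEmb 3).trans (Function.Embedding.refl _)) (by norm_num) (fun _ => hall _) (((((((LB_zero T ((skipEmb 3).trans (Function.Embedding.refl _))).upd 1 2 1 (le_of_eq hx12)).upd 1 3 2 (le_of_eq hx14)).upd 2 1 1 (le_of_eq hx21)).upd 2 3 1 (le_of_eq hx24)).upd 3 1 1 (le_of_eq hx41)).upd 3 2 1 (le_of_eq hx42)) ![0,1,1,1] (by decide) (by decide) 1 (by decide))
    · -- 24=(1,2)
      exact False.elim (cert_false T ((skipEmb 3).trans (Function.Embedding.refl _)) (by norm_num) (fun _ => hall _) (((((((LB_zero T ((skipEmb 3).trans (Function.Embedding.refl _))).upd 1 2 1 (le_of_eq hx12)).upd 1 3 2 (le_of_eq hx14)).upd 2 1 1 (le_of_eq hx21)).upd 2 3 1 (le_of_eq hx24)).upd 3 1 1 (le_of_eq hx41)).upd 3 2 2 (le_of_eq hx42)) ![0,1,1,1] (by decide) (by decide) 1 (by decide))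
    · -- 24=(2,1)
      exact False.elim (cert_false T ((skipEmb 3).trans (Function.Embedding.refl _)) (by norm_num) (fun _ => hall _) (((((((LB_zero T ((skipEmb 3).trans (Function.Embedding.refl _))).upd 1 2 1 (le_of_eq hx12)).upd 1 3 2 (le_of_eq hx14)).upd 2 1 1 (le_of_eq hx21)).upd 2 3 2 (le_of_eq hx24)).upd 3 1 1 (le_of_eq hx41)).upd 3 2 1 (le_of_eq hx42)) ![0,1,1,1] (by decide) (by decide) 1 (by decide))
    · -- 24=(1,3)
      exact False.elim (cert_false T ((skipEmb 3).trans (Function.Embedding.refl _)) (by norm_num) (fun _ => hall _) (((((((LB_zero T ((skipEmb 3).trans (Function.Embedding.refl _))).upd 1 2 1 (le_of_eq hx12)).upd 1 3 2 (le_of_eq hx14)).upd 2 1 1 (le_of_eq hx21)).upd 2 3 1 (le_of_eq hx24)).upd 3 1 1 (le_of_eq hx41)).upd 3 2 3 (le_of_eq hx42)) ![0,1,1,1] (by decide) (by decide) 1 (by decide))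
    · -- 24=(3,1)
      exact False.elim (cert_false T ((skipEmb 3).trans (Function.Embedding.refl _)) (by norm_num) (fun _ => hall _) (((((((LB_zero T ((skipEmb 3).trans (Function.Embedding.refl _))).upd 1 2 1 (le_of_eq hx12)).upd 1 3 2 (le_of_eq hx14)).upd 2 1 1 (le_of_eq hx21)).upd 2 3 3 (le_of_eq hx24)).upd 3 1 1 (le_of_eq hx41)).upd 3 2 1 (le_of_eq hx42)) ![0,1,1,1] (by decide) (by decide) 1 (by decide))
  · -- 14=(1,3)
    exact False.elim (cert_false T ((skipEmb 3).trans (Function.Embedding.refl _)) (by norm_num) (fun _ => hall _) (((((LB_zero T ((skipEmb 3).trans (Function.Embedding.refl _))).upd 1 2 1 (le_of_eq hx12)).upd 1 3 1 (le_of_eq hx14)).upd 2 1 1 (le_of_eq hx21)).upd 3 1 3 (le_of_eq hx41)) ![0,2,1,3] (by decide) (by decide) 1 (by decide))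
  · -- 14=(3,1)
    exact False.elim (cert_false T ((skipEmb 3).trans (Function.Embedding.refl _)) (by norm_num) (fun _ => hall _) (((((LB_zero T ((skipEmb 3).trans (Function.Embedding.refl _))).upd 1 2 1 (le_of_eq hx12)).upd 1 3 3 (le_of_eq hx14)).upd 2 1 1 (le_of_eq hx21)).upd 3 1 1 (le_of_eq hx41)) ![0,2,1,1] (by decide) (by decide) 1 (by decide))

theorem case142 (T : NumericalType 5) (hall : ∀ i, T.IsMinusTwo i) (d : SData T)
    (h01 : N T (Function.Embedding.refl _) 0 1 = 0) (h10 : N T (Function.Embedding.refl _) 1 0 = 0)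
    (h02 : N T (Function.Embedding.refl _) 0 2 = 0) (h20 : N T (Function.Embedding.refl _) 2 0 = 0)
    (h12 : N T (Function.Embedding.refl _) 1 2 = 1) (h21 : N T (Function.Embedding.refl _) 2 1 = 1)
    (h03 : N T (Function.Embedding.refl _) 0 3 = 3) (h30 : N T (Function.Embedding.refl _) 3 0 = 1)
    (h13 : N T (Function.Embedding.refl _) 1 3 = 0) (h31 : N T (Function.Embedding.refl _) 3 1 = 0)
    (h23 : N T (Function.Embedding.refl _) 2 3 = 0) (h32 : N T (Function.Embedding.refl _) 3 2 = 0) :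
    Goal T := by
  unfold Goal
  have hd := d
  obtain ⟨x01, x02, x03, x04, x10, x12, x13, x14, x20, x21, x23, x24, x30, x31, x32, x34, x40, x41, x42, x43, hx01, hx02, hx03, hx04, hx10, hx12, hx13, hx14, hx20, hx21, hx23, hx24, hx30, hx31, hx32, hx34, hx40, hx41, hx42, hx43, hw0, hm0, hw1, hm1, hw2, hm2, hw3, hm3, hw4, hm4, a00, a01, a02, a03, a04, a11, a10, a12, a13, a14, a22, a20, a21, a23, a24, a33, a30, a31, a32, a34, a44, a40, a41, a42, a43, wN01, wN02, wN12, wN03, wN13, wN23, wN04, wN14, wN24, wN34, e0, e1, e2, e3, e4, d01, d02, d12, d03, d13, d23, d04, d14, d24, d34⟩ := d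
  obtain rfl : x01 = 0 := hx01.trans h01
  obtain rfl : x10 = 0 := hx10.trans h10
  obtain rfl : x02 = 0 := hx02.trans h02
  obtain rfl : x20 = 0 := hx20.trans h20
  obtain rfl : x12 = 1 := hx12.trans h12
  obtain rfl : x21 = 1 := hx21.trans h21
  obtain rfl : x03 = 3 := hx03.trans h03
  obtain rfl : x30 = 1 := hx30.trans h30
  obtain rfl : x13 = 0 := hx13.trans h13
  obtain rfl : x31 = 0 := hx31.trans h31
  obtain rfl : x23 = 0 := hx23.trans h23
  obtain rfl : x32 = 0 := hx32.trans h32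
  rcases d04 with ⟨rfl, rfl⟩ | ⟨rfl, rfl⟩ | ⟨rfl, rfl⟩ | ⟨rfl, rfl⟩ | ⟨rfl, rfl⟩ | ⟨rfl, rfl⟩
  · -- 04=(0,0)
    exact case143 T hall hd hx01.symm hx10.symm hx02.symm hx20.symm hx12.symm hx21.symm hx03.symm hx30.symm hx13.symm hx31.symm hx23.symm hx32.symm hx04.symm hx40.symm
  · -- 04=(1,1)
    exact False.elim (cert_false T ((skipEmb 2).trans (Function.Embedding.refl _)) (by norm_num) (fun _ => hall _) (((((LB_zero T ((skipEmb 2).trans (Function.Embedding.refl _))).upd 0 2 3 (le_of_eq hx03)).upd 0 3 1 (le_of_eq hx04)).upd 2 0 1 (le_of_eq hx30)).upd 3 0 1 (le_of_eq hx40)) ![2,0,1,1] (by decide) (by decide) 0 (by decide))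
  · -- 04=(1,2)
    exact False.elim (cert_false T ((skipEmb 2).trans (Function.Embedding.refl _)) (by norm_num) (fun _ => hall _) (((((LB_zero T ((skipEmb 2).trans (Function.Embedding.refl _))).upd 0 2 3 (le_of_eq hx03)).upd 0 3 1 (le_of_eq hx04)).upd 2 0 1 (le_of_eq hx30)).upd 3 0 2 (le_of_eq hx40)) ![2,0,1,1] (by decide) (by decide) 0 (by decide))
  · -- 04=(2,1)
    exact False.elim (cert_false T ((skipEmb 2).trans (Function.Embedding.refl _)) (by norm_num) (fun _ => hall _) (((((LB_zero T ((skipEmb 2).trans (Function.Embedding.refl _))).upd 0 2 3 (le_of_eq hx03)).upd 0 3 2 (le_of_eq hx04)).upd 2 0 1 (le_of_eq hx30)).upd 3 0 1 (le_of_eq hx40)) ![2,0,1,1] (by decide) (by decide) 0 (by decide))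
  · -- 04=(1,3)
    exact False.elim (cert_false T ((skipEmb 2).trans (Function.Embedding.refl _)) (by norm_num) (fun _ => hall _) (((((LB_zero T ((skipEmb 2).trans (Function.Embedding.refl _))).upd 0 2 3 (le_of_eq hx03)).upd 0 3 1 (le_of_eq hx04)).upd 2 0 1 (le_of_eq hx30)).upd 3 0 3 (le_of_eq hx40)) ![2,0,1,1] (by decide) (by decide) 0 (by decide))
  · -- 04=(3,1)
    exact False.elim (cert_false T ((skipEmb 2).trans (Function.Embedding.refl _)) (by norm_num) (fun _ => hall _) (((((LB_zero T ((skipEmb 2).trans (Function.Embedding.refl _))).upd 0 2 3 (le_of_eq hx03)).upd 0 3 3 (le_of_eq hx04)).upd 2 0 1 (le_of_eq hx30)).upd 3 0 1 (le_of_eq hx40)) ![2,0,1,1] (by decide) (by decide) 0 (by decide))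

theorem case141 (T : NumericalType 5) (hall : ∀ i, T.IsMinusTwo i) (d : SData T)
    (h01 : N T (Function.Embedding.refl _) 0 1 = 0) (h10 : N T (Function.Embedding.refl _) 1 0 = 0)
    (h02 : N T (Function.Embedding.refl _) 0 2 = 0) (h20 : N T (Function.Embedding.refl _) 2 0 = 0)
    (h12 : N T (Function.Embedding.refl _) 1 2 = 1) (h21 : N T (Function.Embedding.refl _) 2 1 = 1)
    (h03 : N T (Function.Embedding.refl _) 0 3 = 3) (h30 : N T (Function.Embedding.refl _) 3 0 = 1)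
    (h13 : N T (Function.Embedding.refl _) 1 3 = 0) (h31 : N T (Function.Embedding.refl _) 3 1 = 0) :
    Goal T := by
  unfold Goal
  have hd := d
  obtain ⟨x01, x02, x03, x04, x10, x12, x13, x14, x20, x21, x23, x24, x30, x31, x32, x34, x40, x41, x42, x43, hx01, hx02, hx03, hx04, hx10, hx12, hx13, hx14, hx20, hx21, hx23, hx24, hx30, hx31, hx32, hx34, hx40, hx41, hx42, hx43, hw0, hm0, hw1, hm1, hw2, hm2, hw3, hm3, hw4, hm4, a00, a01, a02, a03, a04, a11, a10, a12, a13, a14, a22, a20, a21, a23, a24, a33, a30, a31, a32, a34, a44, a40, a41, a42, a43, wN01, wN02, wN12, wN03, wN13, wN23, wN04, wN14, wN24, wN34, e0, e1, e2, e3, e4, d01, d02, d12, d03, d13, d23, d04, d14, d24, d34⟩ := d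
  obtain rfl : x01 = 0 := hx01.trans h01
  obtain rfl : x10 = 0 := hx10.trans h10
  obtain rfl : x02 = 0 := hx02.trans h02
  obtain rfl : x20 = 0 := hx20.trans h20
  obtain rfl : x12 = 1 := hx12.trans h12
  obtain rfl : x21 = 1 := hx21.trans h21
  obtain rfl : x03 = 3 := hx03.trans h03
  obtain rfl : x30 = 1 := hx30.trans h30
  obtain rfl : x13 = 0 := hx13.trans h13
  obtain rfl : x31 = 0 := hx31.trans h31
  rcases d23 with ⟨rfl, rfl⟩ | ⟨rfl, rfl⟩ | ⟨rfl, rfl⟩ | ⟨rfl, rfl⟩ | ⟨rfl, rfl⟩ | ⟨rfl, rfl⟩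
  · -- 23=(0,0)
    exact case142 T hall hd hx01.symm hx10.symm hx02.symm hx20.symm hx12.symm hx21.symm hx03.symm hx30.symm hx13.symm hx31.symm hx23.symm hx32.symm
  · -- 23=(1,1)
    exact False.elim (cert_false T ((skipEmb 4).trans (Function.Embedding.refl _)) (by norm_num) (fun _ => hall _) (((((LB_zero T ((skipEmb 4).trans (Function.Embedding.refl _))).upd 0 3 3 (le_of_eq hx03)).upd 2 3 1 (le_of_eq hx23)).upd 3 0 1 (le_of_eq hx30)).upd 3 2 1 (le_of_eq hx32)) ![3,0,1,2] (by decide) (by decide) 0 (by decide))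
  · -- 23=(1,2)
    exact False.elim (cert_false T ((skipEmb 4).trans (Function.Embedding.refl _)) (by norm_num) (fun _ => hall _) (((((LB_zero T ((skipEmb 4).trans (Function.Embedding.refl _))).upd 0 3 3 (le_of_eq hx03)).upd 2 3 1 (le_of_eq hx23)).upd 3 0 1 (le_of_eq hx30)).upd 3 2 2 (le_of_eq hx32)) ![2,0,1,2] (by decide) (by decide) 0 (by decide))
  · -- 23=(2,1)
    exact False.elim (cert_false T ((skipEmb 4).trans (Function.Embedding.refl _)) (by norm_num) (fun _ => hall _) (((((LB_zero T ((skipEmb 4).trans (Function.Embedding.refl _))).upd 0 3 3 (le_of_eq hx03)).upd 2 3 2 (le_of_eq hx23)).upd 3 0 1 (le_of_eq hx30)).upd 3 2 1 (le_of_eq hx32)) ![1,0,1,1] (by decide) (by decide) 0 (by decide))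
  · -- 23=(1,3)
    exact False.elim (cert_false T ((skipEmb 4).trans (Function.Embedding.refl _)) (by norm_num) (fun _ => hall _) (((((LB_zero T ((skipEmb 4).trans (Function.Embedding.refl _))).upd 0 3 3 (le_of_eq hx03)).upd 2 3 1 (le_of_eq hx23)).upd 3 0 1 (le_of_eq hx30)).upd 3 2 3 (le_of_eq hx32)) ![1,0,1,2] (by decide) (by decide) 0 (by decide))
  · -- 23=(3,1)
    exact False.elim (cert_false T ((skipEmb 4).trans (Function.Embedding.refl _)) (by norm_num) (fun _ => hall _) (((((LB_zero T ((skipEmb 4).trans (Function.Embedding.refl _))).upd 0 3 3 (le_of_eq hx03)).upd 2 3 3 (le_of_eq hx23)).upd 3 0 1 (le_of_eq hx30)).upd 3 2 1 (le_of_eq hx32)) ![1,0,1,1] (by decide) (by decide) 0 (by decide))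

theorem case162 (T : NumericalType 5) (hall : ∀ i, T.IsMinusTwo i) (d : SData T)
    (h01 : N T (Function.Embedding.refl _) 0 1 = 0) (h10 : N T (Function.Embedding.refl _) 1 0 = 0)
    (h02 : N T (Function.Embedding.refl _) 0 2 = 0) (h20 : N T (Function.Embedding.refl _) 2 0 = 0)
    (h12 : N T (Function.Embedding.refl _) 1 2 = 1) (h21 : N T (Function.Embedding.refl _) 2 1 = 2)
    (h03 : N T (Function.Embedding.refl _) 0 3 = 2) (h30 : N T (Function.Embedding.refl _) 3 0 = 1)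
    (h13 : N T (Function.Embedding.refl _) 1 3 = 0) (h31 : N T (Function.Embedding.refl _) 3 1 = 0)
    (h23 : N T (Function.Embedding.refl _) 2 3 = 0) (h32 : N T (Function.Embedding.refl _) 3 2 = 0) :
    Goal T := by
  unfold Goal
  have hd := d
  obtain ⟨x01, x02, x03, x04, x10, x12, x13, x14, x20, x21, x23, x24, x30, x31, x32, x34, x40, x41, x42, x43, hx01, hx02, hx03, hx04, hx10, hx12, hx13, hx14, hx20, hx21, hx23, hx24, hx30, hx31, hx32, hx34, hx40, hx41, hx42, hx43, hw0, hm0, hw1, hm1, hw2, hm2, hw3, hm3, hw4, hm4, a00, a01, a02, a03, a04, a11, a10, a12, a13, a14, a22, a20, a21, a23, a24, a33, a30, a31, a32, a34, a44, a40, a41, a42, a43, wN01, wN02, wN12, wN03, wN13, wN23, wN04, wN14, wN24, wN34, e0, e1, e2, e3, e4, d01, d02, d12, d03, d13, d23, d04, d14, d24, d34⟩ := d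
  obtain rfl : x01 = 0 := hx01.trans h01
  obtain rfl : x10 = 0 := hx10.trans h10
  obtain rfl : x02 = 0 := hx02.trans h02
  obtain rfl : x20 = 0 := hx20.trans h20
  obtain rfl : x12 = 1 := hx12.trans h12
  obtain rfl : x21 = 2 := hx21.trans h21
  obtain rfl : x03 = 2 := hx03.trans h03
  obtain rfl : x30 = 1 := hx30.trans h30
  obtain rfl : x13 = 0 := hx13.trans h13
  obtain rfl : x31 = 0 := hx31.trans h31
  obtain rfl : x23 = 0 := hx23.trans h23
  obtain rfl : x32 = 0 := hx32.trans h32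
  rcases d04 with ⟨rfl, rfl⟩ | ⟨rfl, rfl⟩ | ⟨rfl, rfl⟩ | ⟨rfl, rfl⟩ | ⟨rfl, rfl⟩ | ⟨rfl, rfl⟩
  · -- 04=(0,0)
    rcases d14 with ⟨rfl, rfl⟩ | ⟨rfl, rfl⟩ | ⟨rfl, rfl⟩ | ⟨rfl, rfl⟩ | ⟨rfl, rfl⟩ | ⟨rfl, rfl⟩
    · -- 14=(0,0)
      rcases d24 with ⟨rfl, rfl⟩ | ⟨rfl, rfl⟩ | ⟨rfl, rfl⟩ | ⟨rfl, rfl⟩ | ⟨rfl, rfl⟩ | ⟨rfl, rfl⟩
      · -- 24=(0,0)
        rcases d34 with ⟨rfl, rfl⟩ | ⟨rfl, rfl⟩ | ⟨rfl, rfl⟩ | ⟨rfl, rfl⟩ | ⟨rfl, rfl⟩ | ⟨rfl, rfl⟩
        · -- 34=(0,0)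
          exfalso; omega
        · -- 34=(1,1)
          exfalso; omega
        · -- 34=(1,2)
          exact False.elim (cert_false T ((skipEmb 2).trans (Function.Embedding.refl _)) (by norm_num) (fun _ => hall _) (((((LB_zero T ((skipEmb 2).trans (Function.Embedding.refl _))).upd 0 2 2 (le_of_eq hx03)).upd 2 0 1 (le_of_eq hx30)).upd 2 3 1 (le_of_eq hx34)).upd 3 2 2 (le_of_eq hx43)) ![1,0,1,1] (by decide) (by decide) 0 (by decide))
        · -- 34=(2,1)
          exact False.elim (cert_false T ((skipEmb 2).trans (Function.Embedding.refl _)) (by norm_num) (fun _ => hall _) (((((LB_zero T ((skipEmb 2).trans (Function.Embedding.refl _))).upd 0 2 2 (le_of_eq hx03)).upd 2 0 1 (le_of_eq hx30)).upd 2 3 2 (le_of_eq hx34)).upd 3 2 1 (le_of_eq hx43)) ![2,0,2,1] (by decide) (by decide) 0 (by decide))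
        · -- 34=(1,3)
          exact False.elim (cert_false T ((skipEmb 2).trans (Function.Embedding.refl _)) (by norm_num) (fun _ => hall _) (((((LB_zero T ((skipEmb 2).trans (Function.Embedding.refl _))).upd 0 2 2 (le_of_eq hx03)).upd 2 0 1 (le_of_eq hx30)).upd 2 3 1 (le_of_eq hx34)).upd 3 2 3 (le_of_eq hx43)) ![1,0,1,1] (by decide) (by decide) 0 (by decide))
        · -- 34=(3,1)
          exact False.elim (cert_false T ((skipEmb 2).trans (Function.Embedding.refl _)) (by norm_num) (fun _ => hall _) (((((LB_zero T ((skipEmb 2).trans (Function.Embedding.refl _))).upd 0 2 2 (le_of_eq hx03)).upd 2 0 1 (le_of_eq hx30)).upd 2 3 3 (le_of_eq hx34)).upd 3 2 1 (le_of_eq hx43)) ![1,0,2,1] (by decide) (by decide) 0 (by decide))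
      · -- 24=(1,1)
        rcases d34 with ⟨rfl, rfl⟩ | ⟨rfl, rfl⟩ | ⟨rfl, rfl⟩ | ⟨rfl, rfl⟩ | ⟨rfl, rfl⟩ | ⟨rfl, rfl⟩
        · -- 34=(0,0)
          exfalso; omega
        · -- 34=(1,1)
          refine ⟨(⟨![0, 3, 4, 2, 1], ![0, 4, 3, 1, 2], by decide, by decide⟩ : Equiv.Perm (Fin 5)), T.m 1, T.w 0, Or.inr (Or.inr (Or.inr (Or.inl ?_)))⟩
          show T.m 0 = 2 * T.m 1 ∧ T.m 3 = 2 * T.m 1 ∧ T.m 4 = 2 * T.m 1 ∧ T.m 2 = 2 * T.m 1 ∧ T.m 1 = T.m 1 ∧ T.w 0 = T.w 0 ∧ T.w 3 = 2 * T.w 0 ∧ T.w 4 = 2 * T.w 0 ∧ T.w 2 = 2 * T.w 0 ∧ T.w 1 = 4 * T.w 0 ∧ T.a 0 0 = -2 * T.w 0 ∧ T.a 0 3 = 2 * T.w 0 ∧ T.a 0 4 = 0 ∧ T.a 0 2 = 0 ∧ T.a 0 1 = 0 ∧ T.a 3 3 = -4 * T.w 0 ∧ T.a 3 4 = 2 * T.w 0 ∧ T.a 3 2 = 0 ∧ T.a 3 1 = 0 ∧ T.a 4 4 = -4 * T.w 0 ∧ T.a 4 2 = 2 * T.w 0 ∧ T.a 4 1 = 0 ∧ T.a 2 2 = -4 * T.w 0 ∧ T.a 2 1 = 4 * T.w 0 ∧ T.a 1 1 = -8 * T.w 0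
          refine ⟨?_, ?_, ?_, ?_, ?_, ?_, ?_, ?_, ?_, ?_, ?_, ?_, ?_, ?_, ?_, ?_, ?_, ?_, ?_, ?_, ?_, ?_, ?_, ?_, ?_⟩ <;> omega
        · -- 34=(1,2)
          exact False.elim (cert_false T ((skipEmb 2).trans (Function.Embedding.refl _)) (by norm_num) (fun _ => hall _) (((((LB_zero T ((skipEmb 2).trans (Function.Embedding.refl _))).upd 0 2 2 (le_of_eq hx03)).upd 2 0 1 (le_of_eq hx30)).upd 2 3 1 (le_of_eq hx34)).upd 3 2 2 (le_of_eq hx43)) ![1,0,1,1] (by decide) (by decide) 0 (by decide))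
        · -- 34=(2,1)
          exact False.elim (cert_false T ((skipEmb 2).trans (Function.Embedding.refl _)) (by norm_num) (fun _ => hall _) (((((LB_zero T ((skipEmb 2).trans (Function.Embedding.refl _))).upd 0 2 2 (le_of_eq hx03)).upd 2 0 1 (le_of_eq hx30)).upd 2 3 2 (le_of_eq hx34)).upd 3 2 1 (le_of_eq hx43)) ![2,0,2,1] (by decide) (by decide) 0 (by decide))
        · -- 34=(1,3)
          exact False.elim (cert_false T ((skipEmb 2).trans (Function.Embedding.refl _)) (by norm_num) (fun _ => hall _) (((((LB_zero T ((skipEmb 2).trans (Function.Embedding.refl _))).upd 0 2 2 (le_of_eq hx03)).upd 2 0 1 (le_of_eq hx30)).upd 2 3 1 (le_of_eq hx34)).upd 3 2 3 (le_of_eq hx43)) ![1,0,1,1] (by decide) (by decide) 0 (by decide))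
        · -- 34=(3,1)
          exact False.elim (cert_false T ((skipEmb 2).trans (Function.Embedding.refl _)) (by norm_num) (fun _ => hall _) (((((LB_zero T ((skipEmb 2).trans (Function.Embedding.refl _))).upd 0 2 2 (le_of_eq hx03)).upd 2 0 1 (le_of_eq hx30)).upd 2 3 3 (le_of_eq hx34)).upd 3 2 1 (le_of_eq hx43)) ![1,0,2,1] (by decide) (by decide) 0 (by decide))
      · -- 24=(1,2)
        exact False.elim (cert_false T ((skipEmb 3).trans (Function.Embedding.refl _)) (by norm_num) (fun _ => hall _) (((((LB_zero T ((skipEmb 3).trans (Function.Embedding.refl _))).upd 1 2 1 (le_of_eq hx12)).upd 2 1 2 (le_of_eq hx21)).upd 2 3 1 (le_of_eq hx24)).upd 3 2 2 (le_of_eq hx42)) ![0,1,2,2] (by decide) (by decide) 1 (by decide))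
      · -- 24=(2,1)
        exact False.elim (cert_false T ((skipEmb 3).trans (Function.Embedding.refl _)) (by norm_num) (fun _ => hall _) (((((LB_zero T ((skipEmb 3).trans (Function.Embedding.refl _))).upd 1 2 1 (le_of_eq hx12)).upd 2 1 2 (le_of_eq hx21)).upd 2 3 2 (le_of_eq hx24)).upd 3 2 1 (le_of_eq hx42)) ![0,1,2,1] (by decide) (by decide) 1 (by decide))
      · -- 24=(1,3)
        exact False.elim (cert_false T ((skipEmb 3).trans (Function.Embedding.refl _)) (by norm_num) (fun _ => hall _) (((((LB_zero T ((skipEmb 3).trans (Function.Embedding.refl _))).upd 1 2 1 (le_of_eq hx12)).upd 2 1 2 (le_of_eq hx21)).upd 2 3 1 (le_of_eq hx24)).upd 3 2 3 (le_of_eq hx42)) ![0,1,2,2] (by decide) (by decide) 1 (by decide))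
      · -- 24=(3,1)
        exact False.elim (cert_false T ((skipEmb 3).trans (Function.Embedding.refl _)) (by norm_num) (fun _ => hall _) (((((LB_zero T ((skipEmb 3).trans (Function.Embedding.refl _))).upd 1 2 1 (le_of_eq hx12)).upd 2 1 2 (le_of_eq hx21)).upd 2 3 3 (le_of_eq hx24)).upd 3 2 1 (le_of_eq hx42)) ![0,1,2,1] (by decide) (by decide) 1 (by decide))
    · -- 14=(1,1)
      rcases d24 with ⟨rfl, rfl⟩ | ⟨rfl, rfl⟩ | ⟨rfl, rfl⟩ | ⟨rfl, rfl⟩ | ⟨rfl, rfl⟩ | ⟨rfl, rfl⟩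
      · -- 24=(0,0)
        rcases d34 with ⟨rfl, rfl⟩ | ⟨rfl, rfl⟩ | ⟨rfl, rfl⟩ | ⟨rfl, rfl⟩ | ⟨rfl, rfl⟩ | ⟨rfl, rfl⟩
        · -- 34=(0,0)
          exfalso; omega
        · -- 34=(1,1)
          refine ⟨(⟨![0, 3, 4, 1, 2], ![0, 3, 4, 1, 2], by decide, by decide⟩ : Equiv.Perm (Fin 5)), T.m 0, T.w 0, Or.inr (Or.inr (Or.inr (Or.inr (Or.inl ?_))))⟩
          show T.m 0 = T.m 0 ∧ T.m 3 = T.m 0 ∧ T.m 4 = T.m 0 ∧ T.m 1 = T.m 0 ∧ T.m 2 = T.m 0 ∧ T.w 0 = T.w 0 ∧ T.w 3 = 2 * T.w 0 ∧ T.w 4 = 2 * T.w 0 ∧ T.w 1 = 2 * T.w 0 ∧ T.w 2 = T.w 0 ∧ T.a 0 0 = -2 * T.w 0 ∧ T.a 0 3 = 2 * T.w 0 ∧ T.a 0 4 = 0 ∧ T.a 0 1 = 0 ∧ T.a 0 2 = 0 ∧ T.a 3 3 = -4 * T.w 0 ∧ T.a 3 4 = 2 * T.w 0 ∧ T.a 3 1 = 0 ∧ T.a 3 2 = 0 ∧ T.a 4 4 = -4 * T.w 0 ∧ T.a 4 1 = 2 * T.w 0 ∧ T.a 4 2 = 0 ∧ T.a 1 1 = -4 * T.w 0 ∧ T.a 1 2 = 2 * T.w 0 ∧ T.a 2 2 = -2 * T.w 0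
          refine ⟨?_, ?_, ?_, ?_, ?_, ?_, ?_, ?_, ?_, ?_, ?_, ?_, ?_, ?_, ?_, ?_, ?_, ?_, ?_, ?_, ?_, ?_, ?_, ?_, ?_⟩ <;> omega
        · -- 34=(1,2)
          exact False.elim (cert_false T ((skipEmb 2).trans (Function.Embedding.refl _)) (by norm_num) (fun _ => hall _) (((((LB_zero T ((skipEmb 2).trans (Function.Embedding.refl _))).upd 0 2 2 (le_of_eq hx03)).upd 2 0 1 (le_of_eq hx30)).upd 2 3 1 (le_of_eq hx34)).upd 3 2 2 (le_of_eq hx43)) ![1,0,1,1] (by decide) (by decide) 0 (by decide))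
        · -- 34=(2,1)
          exact False.elim (cert_false T ((skipEmb 2).trans (Function.Embedding.refl _)) (by norm_num) (fun _ => hall _) (((((LB_zero T ((skipEmb 2).trans (Function.Embedding.refl _))).upd 0 2 2 (le_of_eq hx03)).upd 2 0 1 (le_of_eq hx30)).upd 2 3 2 (le_of_eq hx34)).upd 3 2 1 (le_of_eq hx43)) ![2,0,2,1] (by decide) (by decide) 0 (by decide))
        · -- 34=(1,3)
          exact False.elim (cert_false T ((skipEmb 2).trans (Function.Embedding.refl _)) (by norm_num) (fun _ => hall _) (((((LB_zero T ((skipEmb 2).trans (Function.Embedding.refl _))).upd 0 2 2 (le_of_eq hx03)).upd 2 0 1 (le_of_eq hx30)).upd 2 3 1 (le_of_eq hx34)).upd 3 2 3 (le_of_eq hx43)) ![1,0,1,1] (by decide) (by decide) 0 (by decide))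
        · -- 34=(3,1)
          exact False.elim (cert_false T ((skipEmb 2).trans (Function.Embedding.refl _)) (by norm_num) (fun _ => hall _) (((((LB_zero T ((skipEmb 2).trans (Function.Embedding.refl _))).upd 0 2 2 (le_of_eq hx03)).upd 2 0 1 (le_of_eq hx30)).upd 2 3 3 (le_of_eq hx34)).upd 3 2 1 (le_of_eq hx43)) ![1,0,2,1] (by decide) (by decide) 0 (by decide))
      · -- 24=(1,1)
        exact False.elim (cert_false T ((skipEmb 3).trans (Function.Embedding.refl _)) (by norm_num) (fun _ => hall _) (((((((LB_zero T ((skipEmb 3).trans (Function.Embedding.refl _))).upd 1 2 1 (le_of_eq hx12)).upd 1 3 1 (le_of_eq hx14)).upd 2 1 2 (le_of_eq hx21)).upd 2 3 1 (le_of_eq hx24)).upd 3 1 1 (le_of_eq hx41)).upd 3 2 1 (le_of_eq hx42)) ![0,1,1,1] (by decide) (by decide) 1 (by decide))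
      · -- 24=(1,2)
        exact False.elim (cert_false T ((skipEmb 3).trans (Function.Embedding.refl _)) (by norm_num) (fun _ => hall _) (((((((LB_zero T ((skipEmb 3).trans (Function.Embedding.refl _))).upd 1 2 1 (le_of_eq hx12)).upd 1 3 1 (le_of_eq hx14)).upd 2 1 2 (le_of_eq hx21)).upd 2 3 1 (le_of_eq hx24)).upd 3 1 1 (le_of_eq hx41)).upd 3 2 2 (le_of_eq hx42)) ![0,1,1,1] (by decide) (by decide) 1 (by decide))
      · -- 24=(2,1)
        exact False.elim (cert_false T ((skipEmb 3).trans (Function.Embedding.refl _)) (by norm_num) (fun _ => hall _) (((((((LB_zero T ((skipEmb 3).trans (Function.Embedding.refl _))).upd 1 2 1 (le_of_eq hx12)).upd 1 3 1 (le_of_eq hx14)).upd 2 1 2 (le_of_eq hx21)).upd 2 3 2 (le_of_eq hx24)).upd 3 1 1 (le_of_eq hx41)).upd 3 2 1 (le_of_eq hx42)) ![0,1,1,1] (by decide) (by decide) 1 (by decide))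
      · -- 24=(1,3)
        exact False.elim (cert_false T ((skipEmb 3).trans (Function.Embedding.refl _)) (by norm_num) (fun _ => hall _) (((((((LB_zero T ((skipEmb 3).trans (Function.Embedding.refl _))).upd 1 2 1 (le_of_eq hx12)).upd 1 3 1 (le_of_eq hx14)).upd 2 1 2 (le_of_eq hx21)).upd 2 3 1 (le_of_eq hx24)).upd 3 1 1 (le_of_eq hx41)).upd 3 2 3 (le_of_eq hx42)) ![0,1,1,1] (by decide) (by decide) 1 (by decide))
      · -- 24=(3,1)
        exact False.elim (cert_false T ((skipEmb 3).trans (Function.Embedding.refl _)) (by norm_num) (fun _ => hall _) (((((((LB_zero T ((skipEmb 3).trans (Function.Embedding.refl _))).upd 1 2 1 (le_of_eq hx12)).upd 1 3 1 (le_of_eq hx14)).upd 2 1 2 (le_of_eq hx21)).upd 2 3 3 (le_of_eq hx24)).upd 3 1 1 (le_of_eq hx41)).upd 3 2 1 (le_of_eq hx42)) ![0,1,1,1] (by decide) (by decide) 1 (by decide))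
    · -- 14=(1,2)
      exact False.elim (cert_false T ((skipEmb 3).trans (Function.Embedding.refl _)) (by norm_num) (fun _ => hall _) (((((LB_zero T ((skipEmb 3).trans (Function.Embedding.refl _))).upd 1 2 1 (le_of_eq hx12)).upd 1 3 1 (le_of_eq hx14)).upd 2 1 2 (le_of_eq hx21)).upd 3 1 2 (le_of_eq hx41)) ![0,1,1,1] (by decide) (by decide) 1 (by decide))
    · -- 14=(2,1)
      exact False.elim (cert_false T ((skipEmb 3).trans (Function.Embedding.refl _)) (by norm_num) (fun _ => hall _) (((((LB_zero T ((skipEmb 3).trans (Function.Embedding.refl _))).upd 1 2 1 (le_of_eq hx12)).upd 1 3 2 (le_of_eq hx14)).upd 2 1 2 (le_of_eq hx21)).upd 3 1 1 (le_of_eq hx41)) ![0,2,2,1] (by decide) (by decide) 1 (by decide))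
    · -- 14=(1,3)
      exact False.elim (cert_false T ((skipEmb 3).trans (Function.Embedding.refl _)) (by norm_num) (fun _ => hall _) (((((LB_zero T ((skipEmb 3).trans (Function.Embedding.refl _))).upd 1 2 1 (le_of_eq hx12)).upd 1 3 1 (le_of_eq hx14)).upd 2 1 2 (le_of_eq hx21)).upd 3 1 3 (le_of_eq hx41)) ![0,1,1,1] (by decide) (by decide) 1 (by decide))
    · -- 14=(3,1)
      exact False.elim (cert_false T ((skipEmb 3).trans (Function.Embedding.refl _)) (by norm_num) (fun _ => hall _) (((((LB_zero T ((skipEmb 3).trans (Function.Embedding.refl _))).upd 1 2 1 (le_of_eq hx12)).upd 1 3 3 (le_of_eq hx14)).upd 2 1 2 (le_of_eq hx21)).upd 3 1 1 (le_of_eq hx41)) ![0,2,1,1] (by decide) (by decide) 1 (by decide))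
  · -- 04=(1,1)
    rcases d14 with ⟨rfl, rfl⟩ | ⟨rfl, rfl⟩ | ⟨rfl, rfl⟩ | ⟨rfl, rfl⟩ | ⟨rfl, rfl⟩ | ⟨rfl, rfl⟩
    · -- 14=(0,0)
      rcases d24 with ⟨rfl, rfl⟩ | ⟨rfl, rfl⟩ | ⟨rfl, rfl⟩ | ⟨rfl, rfl⟩ | ⟨rfl, rfl⟩ | ⟨rfl, rfl⟩
      · -- 24=(0,0)
        rcases d34 with ⟨rfl, rfl⟩ | ⟨rfl, rfl⟩ | ⟨rfl, rfl⟩ | ⟨rfl, rfl⟩ | ⟨rfl, rfl⟩ | ⟨rfl, rfl⟩
        · -- 34=(0,0)
          exfalso; omega
        · -- 34=(1,1)
          exact False.elim (cert_false T ((skipEmb 2).trans (Function.Embedding.refl _)) (by norm_num) (fun _ => hall _) (((((((LB_zero T ((skipEmb 2).trans (Function.Embedding.refl _))).upd 0 2 2 (le_of_eq hx03)).upd 0 3 1 (le_of_eq hx04)).upd 2 0 1 (le_of_eq hx30)).upd 2 3 1 (le_of_eq hx34)).upd 3 0 1 (le_of_eq hx40)).upd 3 2 1 (le_of_eq hx43)) ![1,0,1,1] (by decide) (by decide) 0 (by decide))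
        · -- 34=(1,2)
          exact False.elim (cert_false T ((skipEmb 2).trans (Function.Embedding.refl _)) (by norm_num) (fun _ => hall _) (((((((LB_zero T ((skipEmb 2).trans (Function.Embedding.refl _))).upd 0 2 2 (le_of_eq hx03)).upd 0 3 1 (le_of_eq hx04)).upd 2 0 1 (le_of_eq hx30)).upd 2 3 1 (le_of_eq hx34)).upd 3 0 1 (le_of_eq hx40)).upd 3 2 2 (le_of_eq hx43)) ![1,0,1,1] (by decide) (by decide) 0 (by decide))
        · -- 34=(2,1)
          exact False.elim (cert_false T ((skipEmb 2).trans (Function.Embedding.refl _)) (by norm_num) (fun _ => hall _) (((((((LB_zero T ((skipEmb 2).trans (Function.Embedding.refl _))).upd 0 2 2 (le_of_eq hx03)).upd 0 3 1 (le_of_eq hx04)).upd 2 0 1 (le_of_eq hx30)).upd 2 3 2 (le_of_eq hx34)).upd 3 0 1 (le_of_eq hx40)).upd 3 2 1 (le_of_eq hx43)) ![1,0,1,1] (by decide) (by decide) 0 (by decide))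
        · -- 34=(1,3)
          exact False.elim (cert_false T ((skipEmb 2).trans (Function.Embedding.refl _)) (by norm_num) (fun _ => hall _) (((((((LB_zero T ((skipEmb 2).trans (Function.Embedding.refl _))).upd 0 2 2 (le_of_eq hx03)).upd 0 3 1 (le_of_eq hx04)).upd 2 0 1 (le_of_eq hx30)).upd 2 3 1 (le_of_eq hx34)).upd 3 0 1 (le_of_eq hx40)).upd 3 2 3 (le_of_eq hx43)) ![1,0,1,1] (by decide) (by decide) 0 (by decide))
        · -- 34=(3,1)
          exact False.elim (cert_false T ((skipEmb 2).trans (Function.Embedding.refl _)) (by norm_num) (fun _ => hall _) (((((((LB_zero T ((skipEmb 2).trans (Function.Embedding.refl _))).upd 0 2 2 (le_of_eq hx03)).upd 0 3 1 (le_of_eq hx04)).upd 2 0 1 (le_of_eq hx30)).upd 2 3 3 (le_of_eq hx34)).upd 3 0 1 (le_of_eq hx40)).upd 3 2 1 (le_of_eq hx43)) ![1,0,1,1] (by decide) (by decide) 0 (by decide))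
      · -- 24=(1,1)
        rcases d34 with ⟨rfl, rfl⟩ | ⟨rfl, rfl⟩ | ⟨rfl, rfl⟩ | ⟨rfl, rfl⟩ | ⟨rfl, rfl⟩ | ⟨rfl, rfl⟩
        · -- 34=(0,0)
          refine ⟨(⟨![1, 2, 4, 0, 3], ![3, 0, 1, 4, 2], by decide, by decide⟩ : Equiv.Perm (Fin 5)), T.m 1, T.w 2, Or.inr (Or.inr (Or.inr (Or.inr (Or.inr (Or.inl ?_)))))⟩
          show T.m 1 = T.m 1 ∧ T.m 2 = 2 * T.m 1 ∧ T.m 4 = 2 * T.m 1 ∧ T.m 0 = 2 * T.m 1 ∧ T.m 3 = T.m 1 ∧ T.w 1 = 2 * T.w 2 ∧ T.w 2 = T.w 2 ∧ T.w 4 = T.w 2 ∧ T.w 0 = T.w 2 ∧ T.w 3 = 2 * T.w 2 ∧ T.a 1 1 = -4 * T.w 2 ∧ T.a 1 2 = 2 * T.w 2 ∧ T.a 1 4 = 0 ∧ T.a 1 0 = 0 ∧ T.a 1 3 = 0 ∧ T.a 2 2 = -2 * T.w 2 ∧ T.a 2 4 = T.w 2 ∧ T.a 2 0 = 0 ∧ T.a 2 3 = 0 ∧ T.a 4 4 = -2 * T.w 2 ∧ T.a 4 0 = T.w 2 ∧ T.a 4 3 = 0 ∧ T.a 0 0 = -2 * T.w 2 ∧ T.a 0 3 = 2 * T.w 2 ∧ T.a 3 3 = -4 * T.w 2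
          refine ⟨?_, ?_, ?_, ?_, ?_, ?_, ?_, ?_, ?_, ?_, ?_, ?_, ?_, ?_, ?_, ?_, ?_, ?_, ?_, ?_, ?_, ?_, ?_, ?_, ?_⟩ <;> omega
        · -- 34=(1,1)
          exact False.elim (cert_false T ((skipEmb 2).trans (Function.Embedding.refl _)) (by norm_num) (fun _ => hall _) (((((((LB_zero T ((skipEmb 2).trans (Function.Embedding.refl _))).upd 0 2 2 (le_of_eq hx03)).upd 0 3 1 (le_of_eq hx04)).upd 2 0 1 (le_of_eq hx30)).upd 2 3 1 (le_of_eq hx34)).upd 3 0 1 (le_of_eq hx40)).upd 3 2 1 (le_of_eq hx43)) ![1,0,1,1] (by decide) (by decide) 0 (by decide))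
        · -- 34=(1,2)
          exact False.elim (cert_false T ((skipEmb 2).trans (Function.Embedding.refl _)) (by norm_num) (fun _ => hall _) (((((((LB_zero T ((skipEmb 2).trans (Function.Embedding.refl _))).upd 0 2 2 (le_of_eq hx03)).upd 0 3 1 (le_of_eq hx04)).upd 2 0 1 (le_of_eq hx30)).upd 2 3 1 (le_of_eq hx34)).upd 3 0 1 (le_of_eq hx40)).upd 3 2 2 (le_of_eq hx43)) ![1,0,1,1] (by decide) (by decide) 0 (by decide))
        · -- 34=(2,1)
          exact False.elim (cert_false T ((skipEmb 2).trans (Function.Embedding.refl _)) (by norm_num) (fun _ => hall _) (((((((LB_zero T ((skipEmb 2).trans (Function.Embedding.refl _))).upd 0 2 2 (le_of_eq hx03)).upd 0 3 1 (le_of_eq hx04)).upd 2 0 1 (le_of_eq hx30)).upd 2 3 2 (le_of_eq hx34)).upd 3 0 1 (le_of_eq hx40)).upd 3 2 1 (le_of_eq hx43)) ![1,0,1,1] (by decide) (by decide) 0 (by decide))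
        · -- 34=(1,3)
          exact False.elim (cert_false T ((skipEmb 2).trans (Function.Embedding.refl _)) (by norm_num) (fun _ => hall _) (((((((LB_zero T ((skipEmb 2).trans (Function.Embedding.refl _))).upd 0 2 2 (le_of_eq hx03)).upd 0 3 1 (le_of_eq hx04)).upd 2 0 1 (le_of_eq hx30)).upd 2 3 1 (le_of_eq hx34)).upd 3 0 1 (le_of_eq hx40)).upd 3 2 3 (le_of_eq hx43)) ![1,0,1,1] (by decide) (by decide) 0 (by decide))
        · -- 34=(3,1)
          exact False.elim (cert_false T ((skipEmb 2).trans (Function.Embedding.refl _)) (by norm_num) (fun _ => hall _) (((((((LB_zero T ((skipEmb 2).trans (Function.Embedding.refl _))).upd 0 2 2 (le_of_eq hx03)).upd 0 3 1 (le_of_eq hx04)).upd 2 0 1 (le_of_eq hx30)).upd 2 3 3 (le_of_eq hx34)).upd 3 0 1 (le_of_eq hx40)).upd 3 2 1 (le_of_eq hx43)) ![1,0,1,1] (by decide) (by decide) 0 (by decide))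
      · -- 24=(1,2)
        exact False.elim (cert_false T ((skipEmb 3).trans (Function.Embedding.refl _)) (by norm_num) (fun _ => hall _) (((((LB_zero T ((skipEmb 3).trans (Function.Embedding.refl _))).upd 1 2 1 (le_of_eq hx12)).upd 2 1 2 (le_of_eq hx21)).upd 2 3 1 (le_of_eq hx24)).upd 3 2 2 (le_of_eq hx42)) ![0,1,2,2] (by decide) (by decide) 1 (by decide))
      · -- 24=(2,1)
        exact False.elim (cert_false T ((skipEmb 3).trans (Function.Embedding.refl _)) (by norm_num) (fun _ => hall _) (((((LB_zero T ((skipEmb 3).trans (Function.Embedding.refl _))).upd 1 2 1 (le_of_eq hx12)).upd 2 1 2 (le_of_eq hx21)).upd 2 3 2 (le_of_eq hx24)).upd 3 2 1 (le_of_eq hx42)) ![0,1,2,1] (by decide) (by decide) 1 (by decide))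
      · -- 24=(1,3)
        exact False.elim (cert_false T ((skipEmb 3).trans (Function.Embedding.refl _)) (by norm_num) (fun _ => hall _) (((((LB_zero T ((skipEmb 3).trans (Function.Embedding.refl _))).upd 1 2 1 (le_of_eq hx12)).upd 2 1 2 (le_of_eq hx21)).upd 2 3 1 (le_of_eq hx24)).upd 3 2 3 (le_of_eq hx42)) ![0,1,2,2] (by decide) (by decide) 1 (by decide))
      · -- 24=(3,1)
        exact False.elim (cert_false T ((skipEmb 3).trans (Function.Embedding.refl _)) (by norm_num) (fun _ => hall _) (((((LB_zero T ((skipEmb 3).trans (Function.Embedding.refl _))).upd 1 2 1 (le_of_eq hx12)).upd 2 1 2 (le_of_eq hx21)).upd 2 3 3 (le_of_eq hx24)).upd 3 2 1 (le_of_eq hx42)) ![0,1,2,1] (by decide) (by decide) 1 (by decide))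
    · -- 14=(1,1)
      rcases d24 with ⟨rfl, rfl⟩ | ⟨rfl, rfl⟩ | ⟨rfl, rfl⟩ | ⟨rfl, rfl⟩ | ⟨rfl, rfl⟩ | ⟨rfl, rfl⟩
      · -- 24=(0,0)
        rcases d34 with ⟨rfl, rfl⟩ | ⟨rfl, rfl⟩ | ⟨rfl, rfl⟩ | ⟨rfl, rfl⟩ | ⟨rfl, rfl⟩ | ⟨rfl, rfl⟩
        · -- 34=(0,0)
          refine ⟨(⟨![2, 1, 4, 0, 3], ![3, 1, 0, 4, 2], by decide, by decide⟩ : Equiv.Perm (Fin 5)), T.m 3, T.w 2, Or.inr (Or.inr (Or.inr (Or.inl ?_)))⟩
          show T.m 2 = 2 * T.m 3 ∧ T.m 1 = 2 * T.m 3 ∧ T.m 4 = 2 * T.m 3 ∧ T.m 0 = 2 * T.m 3 ∧ T.m 3 = T.m 3 ∧ T.w 2 = T.w 2 ∧ T.w 1 = 2 * T.w 2 ∧ T.w 4 = 2 * T.w 2 ∧ T.w 0 = 2 * T.w 2 ∧ T.w 3 = 4 * T.w 2 ∧ T.a 2 2 = -2 * T.w 2 ∧ T.a 2 1 = 2 * T.w 2 ∧ T.a 2 4 = 0 ∧ T.a 2 0 = 0 ∧ T.a 2 3 = 0 ∧ T.a 1 1 = -4 * T.w 2 ∧ T.a 1 4 = 2 * T.w 2 ∧ T.a 1 0 = 0 ∧ T.a 1 3 = 0 ∧ T.a 4 4 = -4 * T.w 2 ∧ T.a 4 0 = 2 * T.w 2 ∧ T.a 4 3 = 0 ∧ T.a 0 0 = -4 * T.w 2 ∧ T.a 0 3 = 4 * T.w 2 ∧ T.a 3 3 = -8 * T.w 2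
          refine ⟨?_, ?_, ?_, ?_, ?_, ?_, ?_, ?_, ?_, ?_, ?_, ?_, ?_, ?_, ?_, ?_, ?_, ?_, ?_, ?_, ?_, ?_, ?_, ?_, ?_⟩ <;> omega
        · -- 34=(1,1)
          exact False.elim (cert_false T ((skipEmb 2).trans (Function.Embedding.refl _)) (by norm_num) (fun _ => hall _) (((((((LB_zero T ((skipEmb 2).trans (Function.Embedding.refl _))).upd 0 2 2 (le_of_eq hx03)).upd 0 3 1 (le_of_eq hx04)).upd 2 0 1 (le_of_eq hx30)).upd 2 3 1 (le_of_eq hx34)).upd 3 0 1 (le_of_eq hx40)).upd 3 2 1 (le_of_eq hx43)) ![1,0,1,1] (by decide) (by decide) 0 (by decide))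
        · -- 34=(1,2)
          exact False.elim (cert_false T ((skipEmb 2).trans (Function.Embedding.refl _)) (by norm_num) (fun _ => hall _) (((((((LB_zero T ((skipEmb 2).trans (Function.Embedding.refl _))).upd 0 2 2 (le_of_eq hx03)).upd 0 3 1 (le_of_eq hx04)).upd 2 0 1 (le_of_eq hx30)).upd 2 3 1 (le_of_eq hx34)).upd 3 0 1 (le_of_eq hx40)).upd 3 2 2 (le_of_eq hx43)) ![1,0,1,1] (by decide) (by decide) 0 (by decide))
        · -- 34=(2,1)
          exact False.elim (cert_false T ((skipEmb 2).trans (Function.Embedding.refl _)) (by norm_num) (fun _ => hall _) (((((((LB_zero T ((skipEmb 2).trans (Function.Embedding.refl _))).upd 0 2 2 (le_of_eq hx03)).upd 0 3 1 (le_of_eq hx04)).upd 2 0 1 (le_of_eq hx30)).upd 2 3 2 (le_of_eq hx34)).upd 3 0 1 (le_of_eq hx40)).upd 3 2 1 (le_of_eq hx43)) ![1,0,1,1] (by decide) (by decide) 0 (by decide))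
        · -- 34=(1,3)
          exact False.elim (cert_false T ((skipEmb 2).trans (Function.Embedding.refl _)) (by norm_num) (fun _ => hall _) (((((((LB_zero T ((skipEmb 2).trans (Function.Embedding.refl _))).upd 0 2 2 (le_of_eq hx03)).upd 0 3 1 (le_of_eq hx04)).upd 2 0 1 (le_of_eq hx30)).upd 2 3 1 (le_of_eq hx34)).upd 3 0 1 (le_of_eq hx40)).upd 3 2 3 (le_of_eq hx43)) ![1,0,1,1] (by decide) (by decide) 0 (by decide))
        · -- 34=(3,1)
          exact False.elim (cert_false T ((skipEmb 2).trans (Function.Embedding.refl _)) (by norm_num) (fun _ => hall _) (((((((LB_zero T ((skipEmb 2).trans (Function.Embedding.refl _))).upd 0 2 2 (le_of_eq hx03)).upd 0 3 1 (le_of_eq hx04)).upd 2 0 1 (le_of_eq hx30)).upd 2 3 3 (le_of_eq hx34)).upd 3 0 1 (le_of_eq hx40)).upd 3 2 1 (le_of_eq hx43)) ![1,0,1,1] (by decide) (by decide) 0 (by decide))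
      · -- 24=(1,1)
        exact False.elim (cert_false T ((skipEmb 3).trans (Function.Embedding.refl _)) (by norm_num) (fun _ => hall _) (((((((LB_zero T ((skipEmb 3).trans (Function.Embedding.refl _))).upd 1 2 1 (le_of_eq hx12)).upd 1 3 1 (le_of_eq hx14)).upd 2 1 2 (le_of_eq hx21)).upd 2 3 1 (le_of_eq hx24)).upd 3 1 1 (le_of_eq hx41)).upd 3 2 1 (le_of_eq hx42)) ![0,1,1,1] (by decide) (by decide) 1 (by decide))
      · -- 24=(1,2)
        exact False.elim (cert_false T ((skipEmb 3).trans (Function.Embedding.refl _)) (by norm_num) (fun _ => hall _) (((((((LB_zero T ((skipEmb 3).trans (Function.Embedding.refl _))).upd 1 2 1 (le_of_eq hx12)).upd 1 3 1 (le_of_eq hx14)).upd 2 1 2 (le_of_eq hx21)).upd 2 3 1 (le_of_eq hx24)).upd 3 1 1 (le_of_eq hx41)).upd 3 2 2 (le_of_eq hx42)) ![0,1,1,1] (by decide) (by decide) 1 (by decide))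
      · -- 24=(2,1)
        exact False.elim (cert_false T ((skipEmb 3).trans (Function.Embedding.refl _)) (by norm_num) (fun _ => hall _) (((((((LB_zero T ((skipEmb 3).trans (Function.Embedding.refl _))).upd 1 2 1 (le_of_eq hx12)).upd 1 3 1 (le_of_eq hx14)).upd 2 1 2 (le_of_eq hx21)).upd 2 3 2 (le_of_eq hx24)).upd 3 1 1 (le_of_eq hx41)).upd 3 2 1 (le_of_eq hx42)) ![0,1,1,1] (by decide) (by decide) 1 (by decide))
      · -- 24=(1,3)
        exact False.elim (cert_false T ((skipEmb 3).trans (Function.Embedding.refl _)) (by norm_num) (fun _ => hall _) (((((((LB_zero T ((skipEmb 3).trans (Function.Embedding.refl _))).upd 1 2 1 (le_of_eq hx12)).upd 1 3 1 (le_of_eq hx14)).upd 2 1 2 (le_of_eq hx21)).upd 2 3 1 (le_of_eq hx24)).upd 3 1 1 (le_of_eq hx41)).upd 3 2 3 (le_of_eq hx42)) ![0,1,1,1] (by decide) (by decide) 1 (by decide))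
      · -- 24=(3,1)
        exact False.elim (cert_false T ((skipEmb 3).trans (Function.Embedding.refl _)) (by norm_num) (fun _ => hall _) (((((((LB_zero T ((skipEmb 3).trans (Function.Embedding.refl _))).upd 1 2 1 (le_of_eq hx12)).upd 1 3 1 (le_of_eq hx14)).upd 2 1 2 (le_of_eq hx21)).upd 2 3 3 (le_of_eq hx24)).upd 3 1 1 (le_of_eq hx41)).upd 3 2 1 (le_of_eq hx42)) ![0,1,1,1] (by decide) (by decide) 1 (by decide))
    · -- 14=(1,2)
      exact False.elim (cert_false T ((skipEmb 3).trans (Function.Embedding.refl _)) (by norm_num) (fun _ => hall _) (((((LB_zero T ((skipEmb 3).trans (Function.Embedding.refl _))).upd 1 2 1 (le_of_eq hx12)).upd 1 3 1 (le_of_eq hx14)).upd 2 1 2 (le_of_eq hx21)).upd 3 1 2 (le_of_eq hx41)) ![0,1,1,1] (by decide) (by decide) 1 (by decide))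
    · -- 14=(2,1)
      exact False.elim (cert_false T ((skipEmb 3).trans (Function.Embedding.refl _)) (by norm_num) (fun _ => hall _) (((((LB_zero T ((skipEmb 3).trans (Function.Embedding.refl _))).upd 1 2 1 (le_of_eq hx12)).upd 1 3 2 (le_of_eq hx14)).upd 2 1 2 (le_of_eq hx21)).upd 3 1 1 (le_of_eq hx41)) ![0,2,2,1] (by decide) (by decide) 1 (by decide))
    · -- 14=(1,3)
      exact False.elim (cert_false T ((skipEmb 3).trans (Function.Embedding.refl _)) (by norm_num) (fun _ => hall _) (((((LB_zero T ((skipEmb 3).trans (Function.Embedding.refl _))).upd 1 2 1 (le_of_eq hx12)).upd 1 3 1 (le_of_eq hx14)).upd 2 1 2 (le_of_eq hx21)).upd 3 1 3 (le_of_eq hx41)) ![0,1,1,1] (by decide) (by decide) 1 (by decide))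
    · -- 14=(3,1)
      exact False.elim (cert_false T ((skipEmb 3).trans (Function.Embedding.refl _)) (by norm_num) (fun _ => hall _) (((((LB_zero T ((skipEmb 3).trans (Function.Embedding.refl _))).upd 1 2 1 (le_of_eq hx12)).upd 1 3 3 (le_of_eq hx14)).upd 2 1 2 (le_of_eq hx21)).upd 3 1 1 (le_of_eq hx41)) ![0,2,1,1] (by decide) (by decide) 1 (by decide))
  · -- 04=(1,2)
    exact False.elim (cert_false T ((skipEmb 2).trans (Function.Embedding.refl _)) (by norm_num) (fun _ => hall _) (((((LB_zero T ((skipEmb 2).trans (Function.Embedding.refl _))).upd 0 2 2 (le_of_eq hx03)).upd 0 3 1 (le_of_eq hx04)).upd 2 0 1 (le_of_eq hx30)).upd 3 0 2 (le_of_eq hx40)) ![2,0,1,2] (by decide) (by decide) 0 (by decide))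
  · -- 04=(2,1)
    exact False.elim (cert_false T ((skipEmb 2).trans (Function.Embedding.refl _)) (by norm_num) (fun _ => hall _) (((((LB_zero T ((skipEmb 2).trans (Function.Embedding.refl _))).upd 0 2 2 (le_of_eq hx03)).upd 0 3 2 (le_of_eq hx04)).upd 2 0 1 (le_of_eq hx30)).upd 3 0 1 (le_of_eq hx40)) ![2,0,1,1] (by decide) (by decide) 0 (by decide))
  · -- 04=(1,3)
    exact False.elim (cert_false T ((skipEmb 2).trans (Function.Embedding.refl _)) (by norm_num) (fun _ => hall _) (((((LB_zero T ((skipEmb 2).trans (Function.Embedding.refl _))).upd 0 2 2 (le_of_eq hx03)).upd 0 3 1 (le_of_eq hx04)).upd 2 0 1 (le_of_eq hx30)).upd 3 0 3 (le_of_eq hx40)) ![2,0,1,2] (by decide) (by decide) 0 (by decide))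
  · -- 04=(3,1)
    exact False.elim (cert_false T ((skipEmb 2).trans (Function.Embedding.refl _)) (by norm_num) (fun _ => hall _) (((((LB_zero T ((skipEmb 2).trans (Function.Embedding.refl _))).upd 0 2 2 (le_of_eq hx03)).upd 0 3 3 (le_of_eq hx04)).upd 2 0 1 (le_of_eq hx30)).upd 3 0 1 (le_of_eq hx40)) ![2,0,1,1] (by decide) (by decide) 0 (by decide))

theorem case161 (T : NumericalType 5) (hall : ∀ i, T.IsMinusTwo i) (d : SData T)
    (h01 : N T (Function.Embedding.refl _) 0 1 = 0) (h10 : N T (Function.Embedding.refl _) 1 0 = 0)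
    (h02 : N T (Function.Embedding.refl _) 0 2 = 0) (h20 : N T (Function.Embedding.refl _) 2 0 = 0)
    (h12 : N T (Function.Embedding.refl _) 1 2 = 1) (h21 : N T (Function.Embedding.refl _) 2 1 = 2)
    (h03 : N T (Function.Embedding.refl _) 0 3 = 2) (h30 : N T (Function.Embedding.refl _) 3 0 = 1)
    (h13 : N T (Function.Embedding.refl _) 1 3 = 0) (h31 : N T (Function.Embedding.refl _) 3 1 = 0) :
    Goal T := by
  unfold Goal
  have hd := d
  obtain ⟨x01, x02, x03, x04, x10, x12, x13, x14, x20, x21, x23, x24, x30, x31, x32, x34, x40, x41, x42, x43, hx01, hx02, hx03, hx04, hx10, hx12, hx13, hx14, hx20, hx21, hx23, hx24, hx30, hx31, hx32, hx34, hx40, hx41, hx42, hx43, hw0, hm0, hw1, hm1, hw2, hm2, hw3, hm3, hw4, hm4, a00, a01, a02, a03, a04, a11, a10, a12, a13, a14, a22, a20, a21, a23, a24, a33, a30, a31, a32, a34, a44, a40, a41, a42, a43, wN01, wN02, wN12, wN03, wN13, wN23, wN04, wN14, wN24, wN34, e0, e1, e2, e3,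 e4, d01, d02, d12, d03, d13, d23, d04, d14, d24, d34⟩ := d
  obtain rfl : x01 = 0 := hx01.trans h01
  obtain rfl : x10 = 0 := hx10.trans h10
  obtain rfl : x02 = 0 := hx02.trans h02
  obtain rfl : x20 = 0 := hx20.trans h20
  obtain rfl : x12 = 1 := hx12.trans h12
  obtain rfl : x21 = 2 := hx21.trans h21
  obtain rfl : x03 = 2 := hx03.trans h03
  obtain rfl : x30 = 1 := hx30.trans h30
  obtain rfl : x13 = 0 := hx13.trans h13
  obtain rfl : x31 = 0 := hx31.trans h31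
  rcases d23 with ⟨rfl, rfl⟩ | ⟨rfl, rfl⟩ | ⟨rfl, rfl⟩ | ⟨rfl, rfl⟩ | ⟨rfl, rfl⟩ | ⟨rfl, rfl⟩
  · -- 23=(0,0)
    exact case162 T hall hd hx01.symm hx10.symm hx02.symm hx20.symm hx12.symm hx21.symm hx03.symm hx30.symm hx13.symm hx31.symm hx23.symm hx32.symm
  · -- 23=(1,1)
    exact False.elim (cert_false T ((skipEmb 4).trans (Function.Embedding.refl _)) (by norm_num) (fun _ => hall _) (((((((LB_zero T ((skipEmb 4).trans (Function.Embedding.refl _))).upd 0 3 2 (le_of_eq hx03)).upd 1 2 1 (le_of_eq hx12)).upd 2 1 2 (le_of_eq hx21)).upd 2 3 1 (le_of_eq hx23)).upd 3 0 1 (le_of_eq hx30)).upd 3 2 1 (le_of_eq hx32)) ![2,1,2,2] (by decide) (by decide) 0 (by decide))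
  · -- 23=(1,2)
    exact False.elim (cert_false T ((skipEmb 4).trans (Function.Embedding.refl _)) (by norm_num) (fun _ => hall _) (((((LB_zero T ((skipEmb 4).trans (Function.Embedding.refl _))).upd 0 3 2 (le_of_eq hx03)).upd 2 3 1 (le_of_eq hx23)).upd 3 0 1 (le_of_eq hx30)).upd 3 2 2 (le_of_eq hx32)) ![2,0,1,2] (by decide) (by decide) 0 (by decide))
  · -- 23=(2,1)
    exact False.elim (cert_false T ((skipEmb 4).trans (Function.Embedding.refl _)) (by norm_num) (fun _ => hall _) (((((LB_zero T ((skipEmb 4).trans (Function.Embedding.refl _))).upd 0 3 2 (le_of_eq hx03)).upd 2 3 2 (le_of_eq hx23)).upd 3 0 1 (le_of_eq hx30)).upd 3 2 1 (le_of_eq hx32)) ![1,0,1,1] (by decide) (by decide) 0 (by decide))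
  · -- 23=(1,3)
    exact False.elim (cert_false T ((skipEmb 4).trans (Function.Embedding.refl _)) (by norm_num) (fun _ => hall _) (((((LB_zero T ((skipEmb 4).trans (Function.Embedding.refl _))).upd 1 2 1 (le_of_eq hx12)).upd 2 1 2 (le_of_eq hx21)).upd 2 3 1 (le_of_eq hx23)).upd 3 2 3 (le_of_eq hx32)) ![0,1,2,2] (by decide) (by decide) 1 (by decide))
  · -- 23=(3,1)
    exact False.elim (cert_false T ((skipEmb 4).trans (Function.Embedding.refl _)) (by norm_num) (fun _ => hall _) (((((LB_zero T ((skipEmb 4).trans (Function.Embedding.refl _))).upd 0 3 2 (le_of_eq hx03)).upd 2 3 3 (le_of_eq hx23)).upd 3 0 1 (le_of_eq hx30)).upd 3 2 1 (le_of_eq hx32)) ![1,0,1,1] (by decide) (by decide) 0 (by decide))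

theorem case192 (T : NumericalType 5) (hall : ∀ i, T.IsMinusTwo i) (d : SData T)
    (h01 : N T (Function.Embedding.refl _) 0 1 = 0) (h10 : N T (Function.Embedding.refl _) 1 0 = 0)
    (h02 : N T (Function.Embedding.refl _) 0 2 = 0) (h20 : N T (Function.Embedding.refl _) 2 0 = 0)
    (h12 : N T (Function.Embedding.refl _) 1 2 = 3) (h21 : N T (Function.Embedding.refl _) 2 1 = 1)
    (h03 : N T (Function.Embedding.refl _) 0 3 = 0) (h30 : N T (Function.Embedding.refl _) 3 0 = 0)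
    (h13 : N T (Function.Embedding.refl _) 1 3 = 0) (h31 : N T (Function.Embedding.refl _) 3 1 = 0)
    (h23 : N T (Function.Embedding.refl _) 2 3 = 0) (h32 : N T (Function.Embedding.refl _) 3 2 = 0) :
    Goal T := by
  unfold Goal
  have hd := d
  obtain ⟨x01, x02, x03, x04, x10, x12, x13, x14, x20, x21, x23, x24, x30, x31, x32, x34, x40, x41, x42, x43, hx01, hx02, hx03, hx04, hx10, hx12, hx13, hx14, hx20, hx21, hx23, hx24, hx30, hx31, hx32, hx34, hx40, hx41, hx42, hx43, hw0, hm0, hw1, hm1, hw2, hm2, hw3, hm3, hw4, hm4, a00, a01, a02, a03, a04, a11, a10, a12, a13, a14, a22, a20, a21, a23, a24, a33, a30, a31, a32, a34, a44, a40, a41, a42, a43, wN01, wN02, wN12, wN03, wN13, wN23, wN04, wN14, wN24, wN34, e0, e1, e2, e3, e4, d01, d02, d12, d03, d13, d23, d04, d14, d24, d34⟩ := d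
  obtain rfl : x01 = 0 := hx01.trans h01
  obtain rfl : x10 = 0 := hx10.trans h10
  obtain rfl : x02 = 0 := hx02.trans h02
  obtain rfl : x20 = 0 := hx20.trans h20
  obtain rfl : x12 = 3 := hx12.trans h12
  obtain rfl : x21 = 1 := hx21.trans h21
  obtain rfl : x03 = 0 := hx03.trans h03
  obtain rfl : x30 = 0 := hx30.trans h30
  obtain rfl : x13 = 0 := hx13.trans h13
  obtain rfl : x31 = 0 := hx31.trans h31
  obtain rfl : x23 = 0 := hx23.trans h23
  obtain rfl : x32 = 0 := hx32.trans h32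
  rcases d04 with ⟨rfl, rfl⟩ | ⟨rfl, rfl⟩ | ⟨rfl, rfl⟩ | ⟨rfl, rfl⟩ | ⟨rfl, rfl⟩ | ⟨rfl, rfl⟩
  · -- 04=(0,0)
    rcases d14 with ⟨rfl, rfl⟩ | ⟨rfl, rfl⟩ | ⟨rfl, rfl⟩ | ⟨rfl, rfl⟩ | ⟨rfl, rfl⟩ | ⟨rfl, rfl⟩
    · -- 14=(0,0)
      rcases d24 with ⟨rfl, rfl⟩ | ⟨rfl, rfl⟩ | ⟨rfl, rfl⟩ | ⟨rfl, rfl⟩ | ⟨rfl, rfl⟩ | ⟨rfl, rfl⟩
      · -- 24=(0,0)
        rcases d34 with ⟨rfl, rfl⟩ | ⟨rfl, rfl⟩ | ⟨rfl, rfl⟩ | ⟨rfl, rfl⟩ | ⟨rfl, rfl⟩ | ⟨rfl, rfl⟩
        · -- 34=(0,0)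
          exfalso; omega
        · -- 34=(1,1)
          exfalso; omega
        · -- 34=(1,2)
          exfalso; omega
        · -- 34=(2,1)
          exfalso; omega
        · -- 34=(1,3)
          exfalso; omega
        · -- 34=(3,1)
          exfalso; omega
      · -- 24=(1,1)
        exact False.elim (cert_false T ((skipEmb 3).trans (Function.Embedding.refl _)) (by norm_num) (fun _ => hall _) (((((LB_zero T ((skipEmb 3).trans (Function.Embedding.refl _))).upd 1 2 3 (le_of_eq hx12)).upd 2 1 1 (le_of_eq hx21)).upd 2 3 1 (le_of_eq hx24)).upd 3 2 1 (le_of_eq hx42)) ![0,3,2,1] (by decide) (by decide) 1 (by decide))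
      · -- 24=(1,2)
        exact False.elim (cert_false T ((skipEmb 3).trans (Function.Embedding.refl _)) (by norm_num) (fun _ => hall _) (((((LB_zero T ((skipEmb 3).trans (Function.Embedding.refl _))).upd 1 2 3 (le_of_eq hx12)).upd 2 1 1 (le_of_eq hx21)).upd 2 3 1 (le_of_eq hx24)).upd 3 2 2 (le_of_eq hx42)) ![0,1,1,1] (by decide) (by decide) 1 (by decide))
      · -- 24=(2,1)
        exact False.elim (cert_false T ((skipEmb 3).trans (Function.Embedding.refl _)) (by norm_num) (fun _ => hall _) (((((LB_zero T ((skipEmb 3).trans (Function.Embedding.refl _))).upd 1 2 3 (le_of_eq hx12)).upd 2 1 1 (le_of_eq hx21)).upd 2 3 2 (le_of_eq hx24)).upd 3 2 1 (le_of_eq hx42)) ![0,2,2,1] (by decide) (by decide) 1 (by decide))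
      · -- 24=(1,3)
        exact False.elim (cert_false T ((skipEmb 3).trans (Function.Embedding.refl _)) (by norm_num) (fun _ => hall _) (((((LB_zero T ((skipEmb 3).trans (Function.Embedding.refl _))).upd 1 2 3 (le_of_eq hx12)).upd 2 1 1 (le_of_eq hx21)).upd 2 3 1 (le_of_eq hx24)).upd 3 2 3 (le_of_eq hx42)) ![0,1,1,1] (by decide) (by decide) 1 (by decide))
      · -- 24=(3,1)
        exact False.elim (cert_false T ((skipEmb 3).trans (Function.Embedding.refl _)) (by norm_num) (fun _ => hall _) (((((LB_zero T ((skipEmb 3).trans (Function.Embedding.refl _))).upd 1 2 3 (le_of_eq hx12)).upd 2 1 1 (le_of_eq hx21)).upd 2 3 3 (le_of_eq hx24)).upd 3 2 1 (le_of_eq hx42)) ![0,1,2,1] (by decide) (by decide) 1 (by decide))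
    · -- 14=(1,1)
      exact False.elim (cert_false T ((skipEmb 3).trans (Function.Embedding.refl _)) (by norm_num) (fun _ => hall _) (((((LB_zero T ((skipEmb 3).trans (Function.Embedding.refl _))).upd 1 2 3 (le_of_eq hx12)).upd 1 3 1 (le_of_eq hx14)).upd 2 1 1 (le_of_eq hx21)).upd 3 1 1 (le_of_eq hx41)) ![0,2,1,1] (by decide) (by decide) 1 (by decide))
    · -- 14=(1,2)
      exact False.elim (cert_false T ((skipEmb 3).trans (Function.Embedding.refl _)) (by norm_num) (fun _ => hall _) (((((LB_zero T ((skipEmb 3).trans (Function.Embedding.refl _))).upd 1 2 3 (le_of_eq hx12)).upd 1 3 1 (le_of_eq hx14)).upd 2 1 1 (le_of_eq hx21)).upd 3 1 2 (le_of_eq hx41)) ![0,2,1,1] (by decide) (by decide) 1 (by decide))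
    · -- 14=(2,1)
      exact False.elim (cert_false T ((skipEmb 3).trans (Function.Embedding.refl _)) (by norm_num) (fun _ => hall _) (((((LB_zero T ((skipEmb 3).trans (Function.Embedding.refl _))).upd 1 2 3 (le_of_eq hx12)).upd 1 3 2 (le_of_eq hx14)).upd 2 1 1 (le_of_eq hx21)).upd 3 1 1 (le_of_eq hx41)) ![0,2,1,1] (by decide) (by decide) 1 (by decide))
    · -- 14=(1,3)
      exact False.elim (cert_false T ((skipEmb 3).trans (Function.Embedding.refl _)) (by norm_num) (fun _ => hall _) (((((LB_zero T ((skipEmb 3).trans (Function.Embedding.refl _))).upd 1 2 3 (le_of_eq hx12)).upd 1 3 1 (le_of_eq hx14)).upd 2 1 1 (le_of_eq hx21)).upd 3 1 3 (le_of_eq hx41)) ![0,2,1,1] (by decide) (by decide) 1 (by decide))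
    · -- 14=(3,1)
      exact False.elim (cert_false T ((skipEmb 3).trans (Function.Embedding.refl _)) (by norm_num) (fun _ => hall _) (((((LB_zero T ((skipEmb 3).trans (Function.Embedding.refl _))).upd 1 2 3 (le_of_eq hx12)).upd 1 3 3 (le_of_eq hx14)).upd 2 1 1 (le_of_eq hx21)).upd 3 1 1 (le_of_eq hx41)) ![0,2,1,1] (by decide) (by decide) 1 (by decide))
  · -- 04=(1,1)
    rcases d14 with ⟨rfl, rfl⟩ | ⟨rfl, rfl⟩ | ⟨rfl, rfl⟩ | ⟨rfl, rfl⟩ | ⟨rfl, rfl⟩ | ⟨rfl, rfl⟩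
    · -- 14=(0,0)
      rcases d24 with ⟨rfl, rfl⟩ | ⟨rfl, rfl⟩ | ⟨rfl, rfl⟩ | ⟨rfl, rfl⟩ | ⟨rfl, rfl⟩ | ⟨rfl, rfl⟩
      · -- 24=(0,0)
        rcases d34 with ⟨rfl, rfl⟩ | ⟨rfl, rfl⟩ | ⟨rfl, rfl⟩ | ⟨rfl, rfl⟩ | ⟨rfl, rfl⟩ | ⟨rfl, rfl⟩
        · -- 34=(0,0)
          exfalso; omega
        · -- 34=(1,1)
          exfalso; omega
        · -- 34=(1,2)
          exfalso; omega
        · -- 34=(2,1)
          exfalso; omega
        · -- 34=(1,3)
          exact False.elim (cert_false T ((skipEmb 2).trans (Function.Embedding.refl _)) (by norm_num) (fun _ => hall _) (((((LB_zero T ((skipEmb 2).trans (Function.Embedding.refl _))).upd 0 3 1 (le_of_eq hx04)).upd 2 3 1 (le_of_eq hx34)).upd 3 0 1 (le_of_eq hx40)).upd 3 2 3 (le_of_eq hx43)) ![1,0,1,2] (by decide) (by decide) 0 (by decide))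
        · -- 34=(3,1)
          exact False.elim (cert_false T ((skipEmb 2).trans (Function.Embedding.refl _)) (by norm_num) (fun _ => hall _) (((((LB_zero T ((skipEmb 2).trans (Function.Embedding.refl _))).upd 0 3 1 (le_of_eq hx04)).upd 2 3 3 (le_of_eq hx34)).upd 3 0 1 (le_of_eq hx40)).upd 3 2 1 (le_of_eq hx43)) ![1,0,3,2] (by decide) (by decide) 0 (by decide))
      · -- 24=(1,1)
        exact False.elim (cert_false T ((skipEmb 3).trans (Function.Embedding.refl _)) (by norm_num) (fun _ => hall _) (((((LB_zero T ((skipEmb 3).trans (Function.Embedding.refl _))).upd 1 2 3 (le_of_eq hx12)).upd 2 1 1 (le_of_eq hx21)).upd 2 3 1 (le_of_eq hx24)).upd 3 2 1 (le_of_eq hx42)) ![0,3,2,1] (by decide) (by decide) 1 (by decide))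
      · -- 24=(1,2)
        exact False.elim (cert_false T ((skipEmb 3).trans (Function.Embedding.refl _)) (by norm_num) (fun _ => hall _) (((((LB_zero T ((skipEmb 3).trans (Function.Embedding.refl _))).upd 1 2 3 (le_of_eq hx12)).upd 2 1 1 (le_of_eq hx21)).upd 2 3 1 (le_of_eq hx24)).upd 3 2 2 (le_of_eq hx42)) ![0,1,1,1] (by decide) (by decide) 1 (by decide))
      · -- 24=(2,1)
        exact False.elim (cert_false T ((skipEmb 3).trans (Function.Embedding.refl _)) (by norm_num) (fun _ => hall _) (((((LB_zero T ((skipEmb 3).trans (Function.Embedding.refl _))).upd 1 2 3 (le_of_eq hx12)).upd 2 1 1 (le_of_eq hx21)).upd 2 3 2 (le_of_eq hx24)).upd 3 2 1 (le_of_eq hx42)) ![0,2,2,1] (by decide) (by decide) 1 (by decide))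
      · -- 24=(1,3)
        exact False.elim (cert_false T ((skipEmb 3).trans (Function.Embedding.refl _)) (by norm_num) (fun _ => hall _) (((((LB_zero T ((skipEmb 3).trans (Function.Embedding.refl _))).upd 1 2 3 (le_of_eq hx12)).upd 2 1 1 (le_of_eq hx21)).upd 2 3 1 (le_of_eq hx24)).upd 3 2 3 (le_of_eq hx42)) ![0,1,1,1] (by decide) (by decide) 1 (by decide))
      · -- 24=(3,1)
        exact False.elim (cert_false T ((skipEmb 3).trans (Function.Embedding.refl _)) (by norm_num) (fun _ => hall _) (((((LB_zero T ((skipEmb 3).trans (Function.Embedding.refl _))).upd 1 2 3 (le_of_eq hx12)).upd 2 1 1 (le_of_eq hx21)).upd 2 3 3 (le_of_eq hx24)).upd 3 2 1 (le_of_eq hx42)) ![0,1,2,1] (by decide) (by decide) 1 (by decide))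
    · -- 14=(1,1)
      exact False.elim (cert_false T ((skipEmb 3).trans (Function.Embedding.refl _)) (by norm_num) (fun _ => hall _) (((((LB_zero T ((skipEmb 3).trans (Function.Embedding.refl _))).upd 1 2 3 (le_of_eq hx12)).upd 1 3 1 (le_of_eq hx14)).upd 2 1 1 (le_of_eq hx21)).upd 3 1 1 (le_of_eq hx41)) ![0,2,1,1] (by decide) (by decide) 1 (by decide))
    · -- 14=(1,2)
      exact False.elim (cert_false T ((skipEmb 3).trans (Function.Embedding.refl _)) (by norm_num) (fun _ => hall _) (((((LB_zero T ((skipEmb 3).trans (Function.Embedding.refl _))).upd 1 2 3 (le_of_eq hx12)).upd 1 3 1 (le_of_eq hx14)).upd 2 1 1 (le_of_eq hx21)).upd 3 1 2 (le_of_eq hx41)) ![0,2,1,1] (by decide) (by decide) 1 (by decide))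
    · -- 14=(2,1)
      exact False.elim (cert_false T ((skipEmb 3).trans (Function.Embedding.refl _)) (by norm_num) (fun _ => hall _) (((((LB_zero T ((skipEmb 3).trans (Function.Embedding.refl _))).upd 1 2 3 (le_of_eq hx12)).upd 1 3 2 (le_of_eq hx14)).upd 2 1 1 (le_of_eq hx21)).upd 3 1 1 (le_of_eq hx41)) ![0,2,1,1] (by decide) (by decide) 1 (by decide))
    · -- 14=(1,3)
      exact False.elim (cert_false T ((skipEmb 3).trans (Function.Embedding.refl _)) (by norm_num) (fun _ => hall _) (((((LB_zero T ((skipEmb 3).trans (Function.Embedding.refl _))).upd 0 3 1 (le_of_eq hx04)).upd 1 3 1 (le_of_eq hx14)).upd 3 0 1 (le_of_eq hx40)).upd 3 1 3 (le_of_eq hx41)) ![1,1,0,2] (by decide) (by decide) 0 (by decide))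
    · -- 14=(3,1)
      exact False.elim (cert_false T ((skipEmb 3).trans (Function.Embedding.refl _)) (by norm_num) (fun _ => hall _) (((((LB_zero T ((skipEmb 3).trans (Function.Embedding.refl _))).upd 1 2 3 (le_of_eq hx12)).upd 1 3 3 (le_of_eq hx14)).upd 2 1 1 (le_of_eq hx21)).upd 3 1 1 (le_of_eq hx41)) ![0,2,1,1] (by decide) (by decide) 1 (by decide))
  · -- 04=(1,2)
    rcases d14 with ⟨rfl, rfl⟩ | ⟨rfl, rfl⟩ | ⟨rfl, rfl⟩ | ⟨rfl, rfl⟩ | ⟨rfl, rfl⟩ | ⟨rfl, rfl⟩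
    · -- 14=(0,0)
      rcases d24 with ⟨rfl, rfl⟩ | ⟨rfl, rfl⟩ | ⟨rfl, rfl⟩ | ⟨rfl, rfl⟩ | ⟨rfl, rfl⟩ | ⟨rfl, rfl⟩
      · -- 24=(0,0)
        rcases d34 with ⟨rfl, rfl⟩ | ⟨rfl, rfl⟩ | ⟨rfl, rfl⟩ | ⟨rfl, rfl⟩ | ⟨rfl, rfl⟩ | ⟨rfl, rfl⟩
        · -- 34=(0,0)
          exfalso; omega
        · -- 34=(1,1)
          exfalso; omega
        · -- 34=(1,2)
          exact False.elim (cert_false T ((skipEmb 2).trans (Function.Embedding.refl _)) (by norm_num) (fun _ => hall _) (((((LB_zero T ((skipEmb 2).trans (Function.Embedding.refl _))).upd 0 3 1 (le_of_eq hx04)).upd 2 3 1 (le_of_eq hx34)).upd 3 0 2 (le_of_eq hx40)).upd 3 2 2 (le_of_eq hx43)) ![1,0,1,2] (by decide) (by decide) 0 (by decide))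
        · -- 34=(2,1)
          exact False.elim (cert_false T ((skipEmb 2).trans (Function.Embedding.refl _)) (by norm_num) (fun _ => hall _) (((((LB_zero T ((skipEmb 2).trans (Function.Embedding.refl _))).upd 0 3 1 (le_of_eq hx04)).upd 2 3 2 (le_of_eq hx34)).upd 3 0 2 (le_of_eq hx40)).upd 3 2 1 (le_of_eq hx43)) ![1,0,2,2] (by decide) (by decide) 0 (by decide))
        · -- 34=(1,3)
          exact False.elim (cert_false T ((skipEmb 2).trans (Function.Embedding.refl _)) (by norm_num) (fun _ => hall _) (((((LB_zero T ((skipEmb 2).trans (Function.Embedding.refl _))).upd 0 3 1 (le_of_eq hx04)).upd 2 3 1 (le_of_eq hx34)).upd 3 0 2 (le_of_eq hx40)).upd 3 2 3 (le_of_eq hx43)) ![1,0,1,2] (by decide) (by decide) 0 (by decide))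
        · -- 34=(3,1)
          exact False.elim (cert_false T ((skipEmb 2).trans (Function.Embedding.refl _)) (by norm_num) (fun _ => hall _) (((((LB_zero T ((skipEmb 2).trans (Function.Embedding.refl _))).upd 0 3 1 (le_of_eq hx04)).upd 2 3 3 (le_of_eq hx34)).upd 3 0 2 (le_of_eq hx40)).upd 3 2 1 (le_of_eq hx43)) ![1,0,2,2] (by decide) (by decide) 0 (by decide))
      · -- 24=(1,1)
        exact False.elim (cert_false T ((skipEmb 3).trans (Function.Embedding.refl _)) (by norm_num) (fun _ => hall _) (((((((LB_zero T ((skipEmb 3).trans (Function.Embedding.refl _))).upd 0 3 1 (le_of_eq hx04)).upd 1 2 3 (le_of_eq hx12)).upd 2 1 1 (le_of_eq hx21)).upd 2 3 1 (le_of_eq hx24)).upd 3 0 2 (le_of_eq hx40)).upd 3 2 1 (le_of_eq hx42)) ![1,2,2,2] (by decide) (by decide) 0 (by decide))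
      · -- 24=(1,2)
        exact False.elim (cert_false T ((skipEmb 3).trans (Function.Embedding.refl _)) (by norm_num) (fun _ => hall _) (((((LB_zero T ((skipEmb 3).trans (Function.Embedding.refl _))).upd 1 2 3 (le_of_eq hx12)).upd 2 1 1 (le_of_eq hx21)).upd 2 3 1 (le_of_eq hx24)).upd 3 2 2 (le_of_eq hx42)) ![0,1,1,1] (by decide) (by decide) 1 (by decide))
      · -- 24=(2,1)
        exact False.elim (cert_false T ((skipEmb 3).trans (Function.Embedding.refl _)) (by norm_num) (fun _ => hall _) (((((LB_zero T ((skipEmb 3).trans (Function.Embedding.refl _))).upd 0 3 1 (le_of_eq hx04)).upd 2 3 2 (le_of_eq hx24)).upd 3 0 2 (le_of_eq hx40)).upd 3 2 1 (le_of_eq hx42)) ![1,0,2,2] (by decide) (by decide) 0 (by decide))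
      · -- 24=(1,3)
        exact False.elim (cert_false T ((skipEmb 3).trans (Function.Embedding.refl _)) (by norm_num) (fun _ => hall _) (((((LB_zero T ((skipEmb 3).trans (Function.Embedding.refl _))).upd 1 2 3 (le_of_eq hx12)).upd 2 1 1 (le_of_eq hx21)).upd 2 3 1 (le_of_eq hx24)).upd 3 2 3 (le_of_eq hx42)) ![0,1,1,1] (by decide) (by decide) 1 (by decide))
      · -- 24=(3,1)
        exact False.elim (cert_false T ((skipEmb 3).trans (Function.Embedding.refl _)) (by norm_num) (fun _ => hall _) (((((LB_zero T ((skipEmb 3).trans (Function.Embedding.refl _))).upd 0 3 1 (le_of_eq hx04)).upd 2 3 3 (le_of_eq hx24)).upd 3 0 2 (le_of_eq hx40)).upd 3 2 1 (le_of_eq hx42)) ![1,0,2,2] (by decide) (by decide) 0 (by decide))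
    · -- 14=(1,1)
      exact False.elim (cert_false T ((skipEmb 3).trans (Function.Embedding.refl _)) (by norm_num) (fun _ => hall _) (((((LB_zero T ((skipEmb 3).trans (Function.Embedding.refl _))).upd 1 2 3 (le_of_eq hx12)).upd 1 3 1 (le_of_eq hx14)).upd 2 1 1 (le_of_eq hx21)).upd 3 1 1 (le_of_eq hx41)) ![0,2,1,1] (by decide) (by decide) 1 (by decide))
    · -- 14=(1,2)
      exact False.elim (cert_false T ((skipEmb 3).trans (Function.Embedding.refl _)) (by norm_num) (fun _ => hall _) (((((LB_zero T ((skipEmb 3).trans (Function.Embedding.refl _))).upd 0 3 1 (le_of_eq hx04)).upd 1 3 1 (le_of_eq hx14)).upd 3 0 2 (le_of_eq hx40)).upd 3 1 2 (le_of_eq hx41)) ![1,1,0,2] (by decide) (by decide) 0 (by decide))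
    · -- 14=(2,1)
      exact False.elim (cert_false T ((skipEmb 3).trans (Function.Embedding.refl _)) (by norm_num) (fun _ => hall _) (((((LB_zero T ((skipEmb 3).trans (Function.Embedding.refl _))).upd 0 3 1 (le_of_eq hx04)).upd 1 3 2 (le_of_eq hx14)).upd 3 0 2 (le_of_eq hx40)).upd 3 1 1 (le_of_eq hx41)) ![1,2,0,2] (by decide) (by decide) 0 (by decide))
    · -- 14=(1,3)
      exact False.elim (cert_false T ((skipEmb 3).trans (Function.Embedding.refl _)) (by norm_num) (fun _ => hall _) (((((LB_zero T ((skipEmb 3).trans (Function.Embedding.refl _))).upd 1 2 3 (le_of_eq hx12)).upd 1 3 1 (le_of_eq hx14)).upd 2 1 1 (le_of_eq hx21)).upd 3 1 3 (le_of_eq hx41)) ![0,2,1,1] (by decide) (by decide) 1 (by decide))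
    · -- 14=(3,1)
      exact False.elim (cert_false T ((skipEmb 3).trans (Function.Embedding.refl _)) (by norm_num) (fun _ => hall _) (((((LB_zero T ((skipEmb 3).trans (Function.Embedding.refl _))).upd 0 3 1 (le_of_eq hx04)).upd 1 3 3 (le_of_eq hx14)).upd 3 0 2 (le_of_eq hx40)).upd 3 1 1 (le_of_eq hx41)) ![1,2,0,2] (by decide) (by decide) 0 (by decide))
  · -- 04=(2,1)
    rcases d14 with ⟨rfl, rfl⟩ | ⟨rfl, rfl⟩ | ⟨rfl, rfl⟩ | ⟨rfl, rfl⟩ | ⟨rfl, rfl⟩ | ⟨rfl, rfl⟩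
    · -- 14=(0,0)
      rcases d24 with ⟨rfl, rfl⟩ | ⟨rfl, rfl⟩ | ⟨rfl, rfl⟩ | ⟨rfl, rfl⟩ | ⟨rfl, rfl⟩ | ⟨rfl, rfl⟩
      · -- 24=(0,0)
        rcases d34 with ⟨rfl, rfl⟩ | ⟨rfl, rfl⟩ | ⟨rfl, rfl⟩ | ⟨rfl, rfl⟩ | ⟨rfl, rfl⟩ | ⟨rfl, rfl⟩
        · -- 34=(0,0)
          exfalso; omega
        · -- 34=(1,1)
          exfalso; omega
        · -- 34=(1,2)
          exact False.elim (cert_false T ((skipEmb 2).trans (Function.Embedding.refl _)) (by norm_num) (fun _ => hall _) (((((LB_zero T ((skipEmb 2).trans (Function.Embedding.refl _))).upd 0 3 2 (le_of_eq hx04)).upd 2 3 1 (le_of_eq hx34)).upd 3 0 1 (le_of_eq hx40)).upd 3 2 2 (le_of_eq hx43)) ![2,0,1,2] (by decide) (by decide) 0 (by decide))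
        · -- 34=(2,1)
          exact False.elim (cert_false T ((skipEmb 2).trans (Function.Embedding.refl _)) (by norm_num) (fun _ => hall _) (((((LB_zero T ((skipEmb 2).trans (Function.Embedding.refl _))).upd 0 3 2 (le_of_eq hx04)).upd 2 3 2 (le_of_eq hx34)).upd 3 0 1 (le_of_eq hx40)).upd 3 2 1 (le_of_eq hx43)) ![1,0,1,1] (by decide) (by decide) 0 (by decide))
        · -- 34=(1,3)
          exact False.elim (cert_false T ((skipEmb 2).trans (Function.Embedding.refl _)) (by norm_num) (fun _ => hall _) (((((LB_zero T ((skipEmb 2).trans (Function.Embedding.refl _))).upd 0 3 2 (le_of_eq hx04)).upd 2 3 1 (le_of_eq hx34)).upd 3 0 1 (le_of_eq hx40)).upd 3 2 3 (le_of_eq hx43)) ![1,0,1,2] (by decide) (by decide) 0 (by decide))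
        · -- 34=(3,1)
          exact False.elim (cert_false T ((skipEmb 2).trans (Function.Embedding.refl _)) (by norm_num) (fun _ => hall _) (((((LB_zero T ((skipEmb 2).trans (Function.Embedding.refl _))).upd 0 3 2 (le_of_eq hx04)).upd 2 3 3 (le_of_eq hx34)).upd 3 0 1 (le_of_eq hx40)).upd 3 2 1 (le_of_eq hx43)) ![1,0,1,1] (by decide) (by decide) 0 (by decide))
      · -- 24=(1,1)
        exact False.elim (cert_false T ((skipEmb 3).trans (Function.Embedding.refl _)) (by norm_num) (fun _ => hall _) (((((((LB_zero T ((skipEmb 3).trans (Function.Embedding.refl _))).upd 0 3 2 (le_of_eq hx04)).upd 1 2 3 (le_of_eq hx12)).upd 2 1 1 (le_of_eq hx21)).upd 2 3 1 (le_of_eq hx24)).upd 3 0 1 (le_of_eq hx40)).upd 3 2 1 (le_of_eq hx42)) ![1,1,1,1] (by decide) (by decide) 0 (by decide))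
      · -- 24=(1,2)
        exact False.elim (cert_false T ((skipEmb 3).trans (Function.Embedding.refl _)) (by norm_num) (fun _ => hall _) (((((LB_zero T ((skipEmb 3).trans (Function.Embedding.refl _))).upd 1 2 3 (le_of_eq hx12)).upd 2 1 1 (le_of_eq hx21)).upd 2 3 1 (le_of_eq hx24)).upd 3 2 2 (le_of_eq hx42)) ![0,1,1,1] (by decide) (by decide) 1 (by decide))
      · -- 24=(2,1)
        exact False.elim (cert_false T ((skipEmb 3).trans (Function.Embedding.refl _)) (by norm_num) (fun _ => hall _) (((((LB_zero T ((skipEmb 3).trans (Function.Embedding.refl _))).upd 0 3 2 (le_of_eq hx04)).upd 2 3 2 (le_of_eq hx24)).upd 3 0 1 (le_of_eq hx40)).upd 3 2 1 (le_of_eq hx42)) ![1,0,1,1] (by decide) (by decide) 0 (by decide))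
      · -- 24=(1,3)
        exact False.elim (cert_false T ((skipEmb 3).trans (Function.Embedding.refl _)) (by norm_num) (fun _ => hall _) (((((LB_zero T ((skipEmb 3).trans (Function.Embedding.refl _))).upd 1 2 3 (le_of_eq hx12)).upd 2 1 1 (le_of_eq hx21)).upd 2 3 1 (le_of_eq hx24)).upd 3 2 3 (le_of_eq hx42)) ![0,1,1,1] (by decide) (by decide) 1 (by decide))
      · -- 24=(3,1)
        exact False.elim (cert_false T ((skipEmb 3).trans (Function.Embedding.refl _)) (by norm_num) (fun _ => hall _) (((((LB_zero T ((skipEmb 3).trans (Function.Embedding.refl _))).upd 0 3 2 (le_of_eq hx04)).upd 2 3 3 (le_of_eq hx24)).upd 3 0 1 (le_of_eq hx40)).upd 3 2 1 (le_of_eq hx42)) ![1,0,1,1] (by decide) (by decide) 0 (by decide))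
    · -- 14=(1,1)
      exact False.elim (cert_false T ((skipEmb 3).trans (Function.Embedding.refl _)) (by norm_num) (fun _ => hall _) (((((LB_zero T ((skipEmb 3).trans (Function.Embedding.refl _))).upd 1 2 3 (le_of_eq hx12)).upd 1 3 1 (le_of_eq hx14)).upd 2 1 1 (le_of_eq hx21)).upd 3 1 1 (le_of_eq hx41)) ![0,2,1,1] (by decide) (by decide) 1 (by decide))
    · -- 14=(1,2)
      exact False.elim (cert_false T ((skipEmb 3).trans (Function.Embedding.refl _)) (by norm_num) (fun _ => hall _) (((((LB_zero T ((skipEmb 3).trans (Function.Embedding.refl _))).upd 0 3 2 (le_of_eq hx04)).upd 1 3 1 (le_of_eq hx14)).upd 3 0 1 (le_of_eq hx40)).upd 3 1 2 (le_of_eq hx41)) ![2,1,0,2] (by decide) (by decide) 0 (by decide))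
    · -- 14=(2,1)
      exact False.elim (cert_false T ((skipEmb 3).trans (Function.Embedding.refl _)) (by norm_num) (fun _ => hall _) (((((LB_zero T ((skipEmb 3).trans (Function.Embedding.refl _))).upd 0 3 2 (le_of_eq hx04)).upd 1 3 2 (le_of_eq hx14)).upd 3 0 1 (le_of_eq hx40)).upd 3 1 1 (le_of_eq hx41)) ![1,1,0,1] (by decide) (by decide) 0 (by decide))
    · -- 14=(1,3)
      exact False.elim (cert_false T ((skipEmb 3).trans (Function.Embedding.refl _)) (by norm_num) (fun _ => hall _) (((((LB_zero T ((skipEmb 3).trans (Function.Embedding.refl _))).upd 0 3 2 (le_of_eq hx04)).upd 1 3 1 (le_of_eq hx14)).upd 3 0 1 (le_of_eq hx40)).upd 3 1 3 (le_of_eq hx41)) ![1,1,0,2] (by decide) (by decide) 0 (by decide))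
    · -- 14=(3,1)
      exact False.elim (cert_false T ((skipEmb 3).trans (Function.Embedding.refl _)) (by norm_num) (fun _ => hall _) (((((LB_zero T ((skipEmb 3).trans (Function.Embedding.refl _))).upd 0 3 2 (le_of_eq hx04)).upd 1 3 3 (le_of_eq hx14)).upd 3 0 1 (le_of_eq hx40)).upd 3 1 1 (le_of_eq hx41)) ![1,1,0,1] (by decide) (by decide) 0 (by decide))
  · -- 04=(1,3)
    rcases d14 with ⟨rfl, rfl⟩ | ⟨rfl, rfl⟩ | ⟨rfl, rfl⟩ | ⟨rfl, rfl⟩ | ⟨rfl, rfl⟩ | ⟨rfl, rfl⟩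
    · -- 14=(0,0)
      rcases d24 with ⟨rfl, rfl⟩ | ⟨rfl, rfl⟩ | ⟨rfl, rfl⟩ | ⟨rfl, rfl⟩ | ⟨rfl, rfl⟩ | ⟨rfl, rfl⟩
      · -- 24=(0,0)
        rcases d34 with ⟨rfl, rfl⟩ | ⟨rfl, rfl⟩ | ⟨rfl, rfl⟩ | ⟨rfl, rfl⟩ | ⟨rfl, rfl⟩ | ⟨rfl, rfl⟩
        · -- 34=(0,0)
          exfalso; omega
        · -- 34=(1,1)
          exact False.elim (cert_false T ((skipEmb 2).trans (Function.Embedding.refl _)) (by norm_num) (fun _ => hall _) (((((LB_zero T ((skipEmb 2).trans (Function.Embedding.refl _))).upd 0 3 1 (le_of_eq hx04)).upd 2 3 1 (le_of_eq hx34)).upd 3 0 3 (le_of_eq hx40)).upd 3 2 1 (le_of_eq hx43)) ![1,0,1,2] (by decide) (by decide) 0 (by decide))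
        · -- 34=(1,2)
          exact False.elim (cert_false T ((skipEmb 2).trans (Function.Embedding.refl _)) (by norm_num) (fun _ => hall _) (((((LB_zero T ((skipEmb 2).trans (Function.Embedding.refl _))).upd 0 3 1 (le_of_eq hx04)).upd 2 3 1 (le_of_eq hx34)).upd 3 0 3 (le_of_eq hx40)).upd 3 2 2 (le_of_eq hx43)) ![1,0,1,2] (by decide) (by decide) 0 (by decide))
        · -- 34=(2,1)
          exact False.elim (cert_false T ((skipEmb 2).trans (Function.Embedding.refl _)) (by norm_num) (fun _ => hall _) (((((LB_zero T ((skipEmb 2).trans (Function.Embedding.refl _))).upd 0 3 1 (le_of_eq hx04)).upd 2 3 2 (le_of_eq hx34)).upd 3 0 3 (le_of_eq hx40)).upd 3 2 1 (le_of_eq hx43)) ![1,0,1,2] (by decide) (by decide) 0 (by decide))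
        · -- 34=(1,3)
          exact False.elim (cert_false T ((skipEmb 2).trans (Function.Embedding.refl _)) (by norm_num) (fun _ => hall _) (((((LB_zero T ((skipEmb 2).trans (Function.Embedding.refl _))).upd 0 3 1 (le_of_eq hx04)).upd 2 3 1 (le_of_eq hx34)).upd 3 0 3 (le_of_eq hx40)).upd 3 2 3 (le_of_eq hx43)) ![1,0,1,2] (by decide) (by decide) 0 (by decide))
        · -- 34=(3,1)
          exact False.elim (cert_false T ((skipEmb 2).trans (Function.Embedding.refl _)) (by norm_num) (fun _ => hall _) (((((LB_zero T ((skipEmb 2).trans (Function.Embedding.refl _))).upd 0 3 1 (le_of_eq hx04)).upd 2 3 3 (le_of_eq hx34)).upd 3 0 3 (le_of_eq hx40)).upd 3 2 1 (le_of_eq hx43)) ![1,0,1,2] (by decide) (by decide) 0 (by decide))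
      · -- 24=(1,1)
        exact False.elim (cert_false T ((skipEmb 3).trans (Function.Embedding.refl _)) (by norm_num) (fun _ => hall _) (((((LB_zero T ((skipEmb 3).trans (Function.Embedding.refl _))).upd 0 3 1 (le_of_eq hx04)).upd 2 3 1 (le_of_eq hx24)).upd 3 0 3 (le_of_eq hx40)).upd 3 2 1 (le_of_eq hx42)) ![1,0,1,2] (by decide) (by decide) 0 (by decide))
      · -- 24=(1,2)
        exact False.elim (cert_false T ((skipEmb 3).trans (Function.Embedding.refl _)) (by norm_num) (fun _ => hall _) (((((LB_zero T ((skipEmb 3).trans (Function.Embedding.refl _))).upd 1 2 3 (le_of_eq hx12)).upd 2 1 1 (le_of_eq hx21)).upd 2 3 1 (le_of_eq hx24)).upd 3 2 2 (le_of_eq hx42)) ![0,1,1,1] (by decide) (by decide) 1 (by decide))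
      · -- 24=(2,1)
        exact False.elim (cert_false T ((skipEmb 3).trans (Function.Embedding.refl _)) (by norm_num) (fun _ => hall _) (((((LB_zero T ((skipEmb 3).trans (Function.Embedding.refl _))).upd 1 2 3 (le_of_eq hx12)).upd 2 1 1 (le_of_eq hx21)).upd 2 3 2 (le_of_eq hx24)).upd 3 2 1 (le_of_eq hx42)) ![0,2,2,1] (by decide) (by decide) 1 (by decide))
      · -- 24=(1,3)
        exact False.elim (cert_false T ((skipEmb 3).trans (Function.Embedding.refl _)) (by norm_num) (fun _ => hall _) (((((LB_zero T ((skipEmb 3).trans (Function.Embedding.refl _))).upd 1 2 3 (le_of_eq hx12)).upd 2 1 1 (le_of_eq hx21)).upd 2 3 1 (le_of_eq hx24)).upd 3 2 3 (le_of_eq hx42)) ![0,1,1,1] (by decide) (by decide) 1 (by decide))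
      · -- 24=(3,1)
        exact False.elim (cert_false T ((skipEmb 3).trans (Function.Embedding.refl _)) (by norm_num) (fun _ => hall _) (((((LB_zero T ((skipEmb 3).trans (Function.Embedding.refl _))).upd 0 3 1 (le_of_eq hx04)).upd 2 3 3 (le_of_eq hx24)).upd 3 0 3 (le_of_eq hx40)).upd 3 2 1 (le_of_eq hx42)) ![1,0,1,2] (by decide) (by decide) 0 (by decide))
    · -- 14=(1,1)
      exact False.elim (cert_false T ((skipEmb 3).trans (Function.Embedding.refl _)) (by norm_num) (fun _ => hall _) (((((LB_zero T ((skipEmb 3).trans (Function.Embedding.refl _))).upd 0 3 1 (le_of_eq hx04)).upd 1 3 1 (le_of_eq hx14)).upd 3 0 3 (le_of_eq hx40)).upd 3 1 1 (le_of_eq hx41)) ![1,1,0,2] (by decide) (by decide) 0 (by decide))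
    · -- 14=(1,2)
      exact False.elim (cert_false T ((skipEmb 3).trans (Function.Embedding.refl _)) (by norm_num) (fun _ => hall _) (((((LB_zero T ((skipEmb 3).trans (Function.Embedding.refl _))).upd 1 2 3 (le_of_eq hx12)).upd 1 3 1 (le_of_eq hx14)).upd 2 1 1 (le_of_eq hx21)).upd 3 1 2 (le_of_eq hx41)) ![0,2,1,1] (by decide) (by decide) 1 (by decide))
    · -- 14=(2,1)
      exact False.elim (cert_false T ((skipEmb 3).trans (Function.Embedding.refl _)) (by norm_num) (fun _ => hall _) (((((LB_zero T ((skipEmb 3).trans (Function.Embedding.refl _))).upd 0 3 1 (le_of_eq hx04)).upd 1 3 2 (le_of_eq hx14)).upd 3 0 3 (le_of_eq hx40)).upd 3 1 1 (le_of_eq hx41)) ![1,1,0,2] (by decide) (by decide) 0 (by decide))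
    · -- 14=(1,3)
      exact False.elim (cert_false T ((skipEmb 3).trans (Function.Embedding.refl _)) (by norm_num) (fun _ => hall _) (((((LB_zero T ((skipEmb 3).trans (Function.Embedding.refl _))).upd 1 2 3 (le_of_eq hx12)).upd 1 3 1 (le_of_eq hx14)).upd 2 1 1 (le_of_eq hx21)).upd 3 1 3 (le_of_eq hx41)) ![0,2,1,1] (by decide) (by decide) 1 (by decide))
    · -- 14=(3,1)
      exact False.elim (cert_false T ((skipEmb 3).trans (Function.Embedding.refl _)) (by norm_num) (fun _ => hall _) (((((LB_zero T ((skipEmb 3).trans (Function.Embedding.refl _))).upd 0 3 1 (le_of_eq hx04)).upd 1 3 3 (le_of_eq hx14)).upd 3 0 3 (le_of_eq hx40)).upd 3 1 1 (le_of_eq hx41)) ![1,1,0,2] (by decide) (by decide) 0 (by decide))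
  · -- 04=(3,1)
    rcases d14 with ⟨rfl, rfl⟩ | ⟨rfl, rfl⟩ | ⟨rfl, rfl⟩ | ⟨rfl, rfl⟩ | ⟨rfl, rfl⟩ | ⟨rfl, rfl⟩
    · -- 14=(0,0)
      rcases d24 with ⟨rfl, rfl⟩ | ⟨rfl, rfl⟩ | ⟨rfl, rfl⟩ | ⟨rfl, rfl⟩ | ⟨rfl, rfl⟩ | ⟨rfl, rfl⟩
      · -- 24=(0,0)
        rcases d34 with ⟨rfl, rfl⟩ | ⟨rfl, rfl⟩ | ⟨rfl, rfl⟩ | ⟨rfl, rfl⟩ | ⟨rfl, rfl⟩ | ⟨rfl, rfl⟩
        · -- 34=(0,0)
          exfalso; omega
        · -- 34=(1,1)
          exact False.elim (cert_false T ((skipEmb 2).trans (Function.Embedding.refl _)) (by norm_num) (fun _ => hall _) (((((LB_zero T ((skipEmb 2).trans (Function.Embedding.refl _))).upd 0 3 3 (le_of_eq hx04)).upd 2 3 1 (le_of_eq hx34)).upd 3 0 1 (le_of_eq hx40)).upd 3 2 1 (le_of_eq hx43)) ![3,0,1,2] (by decide) (by decide) 0 (by decide))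
        · -- 34=(1,2)
          exact False.elim (cert_false T ((skipEmb 2).trans (Function.Embedding.refl _)) (by norm_num) (fun _ => hall _) (((((LB_zero T ((skipEmb 2).trans (Function.Embedding.refl _))).upd 0 3 3 (le_of_eq hx04)).upd 2 3 1 (le_of_eq hx34)).upd 3 0 1 (le_of_eq hx40)).upd 3 2 2 (le_of_eq hx43)) ![2,0,1,2] (by decide) (by decide) 0 (by decide))
        · -- 34=(2,1)
          exact False.elim (cert_false T ((skipEmb 2).trans (Function.Embedding.refl _)) (by norm_num) (fun _ => hall _) (((((LB_zero T ((skipEmb 2).trans (Function.Embedding.refl _))).upd 0 3 3 (le_of_eq hx04)).upd 2 3 2 (le_of_eq hx34)).upd 3 0 1 (le_of_eq hx40)).upd 3 2 1 (le_of_eq hx43)) ![1,0,1,1] (by decide) (by decide) 0 (by decide))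
        · -- 34=(1,3)
          exact False.elim (cert_false T ((skipEmb 2).trans (Function.Embedding.refl _)) (by norm_num) (fun _ => hall _) (((((LB_zero T ((skipEmb 2).trans (Function.Embedding.refl _))).upd 0 3 3 (le_of_eq hx04)).upd 2 3 1 (le_of_eq hx34)).upd 3 0 1 (le_of_eq hx40)).upd 3 2 3 (le_of_eq hx43)) ![1,0,1,2] (by decide) (by decide) 0 (by decide))
        · -- 34=(3,1)
          exact False.elim (cert_false T ((skipEmb 2).trans (Function.Embedding.refl _)) (by norm_num) (fun _ => hall _) (((((LB_zero T ((skipEmb 2).trans (Function.Embedding.refl _))).upd 0 3 3 (le_of_eq hx04)).upd 2 3 3 (le_of_eq hx34)).upd 3 0 1 (le_of_eq hx40)).upd 3 2 1 (le_of_eq hx43)) ![1,0,1,1] (by decide) (by decide) 0 (by decide))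
      · -- 24=(1,1)
        exact False.elim (cert_false T ((skipEmb 3).trans (Function.Embedding.refl _)) (by norm_num) (fun _ => hall _) (((((((LB_zero T ((skipEmb 3).trans (Function.Embedding.refl _))).upd 0 3 3 (le_of_eq hx04)).upd 1 2 3 (le_of_eq hx12)).upd 2 1 1 (le_of_eq hx21)).upd 2 3 1 (le_of_eq hx24)).upd 3 0 1 (le_of_eq hx40)).upd 3 2 1 (le_of_eq hx42)) ![1,1,1,1] (by decide) (by decide) 0 (by decide))
      · -- 24=(1,2)
        exact False.elim (cert_false T ((skipEmb 3).trans (Function.Embedding.refl _)) (by norm_num) (fun _ => hall _) (((((LB_zero T ((skipEmb 3).trans (Function.Embedding.refl _))).upd 1 2 3 (le_of_eq hx12)).upd 2 1 1 (le_of_eq hx21)).upd 2 3 1 (le_of_eq hx24)).upd 3 2 2 (le_of_eq hx42)) ![0,1,1,1] (by decide) (by decide) 1 (by decide))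
      · -- 24=(2,1)
        exact False.elim (cert_false T ((skipEmb 3).trans (Function.Embedding.refl _)) (by norm_num) (fun _ => hall _) (((((LB_zero T ((skipEmb 3).trans (Function.Embedding.refl _))).upd 0 3 3 (le_of_eq hx04)).upd 2 3 2 (le_of_eq hx24)).upd 3 0 1 (le_of_eq hx40)).upd 3 2 1 (le_of_eq hx42)) ![1,0,1,1] (by decide) (by decide) 0 (by decide))
      · -- 24=(1,3)
        exact False.elim (cert_false T ((skipEmb 3).trans (Function.Embedding.refl _)) (by norm_num) (fun _ => hall _) (((((LB_zero T ((skipEmb 3).trans (Function.Embedding.refl _))).upd 1 2 3 (le_of_eq hx12)).upd 2 1 1 (le_of_eq hx21)).upd 2 3 1 (le_of_eq hx24)).upd 3 2 3 (le_of_eq hx42)) ![0,1,1,1] (by decide) (by decide) 1 (by decide))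
      · -- 24=(3,1)
        exact False.elim (cert_false T ((skipEmb 3).trans (Function.Embedding.refl _)) (by norm_num) (fun _ => hall _) (((((LB_zero T ((skipEmb 3).trans (Function.Embedding.refl _))).upd 0 3 3 (le_of_eq hx04)).upd 2 3 3 (le_of_eq hx24)).upd 3 0 1 (le_of_eq hx40)).upd 3 2 1 (le_of_eq hx42)) ![1,0,1,1] (by decide) (by decide) 0 (by decide))
    · -- 14=(1,1)
      exact False.elim (cert_false T ((skipEmb 3).trans (Function.Embedding.refl _)) (by norm_num) (fun _ => hall _) (((((LB_zero T ((skipEmb 3).trans (Function.Embedding.refl _))).upd 1 2 3 (le_of_eq hx12)).upd 1 3 1 (le_of_eq hx14)).upd 2 1 1 (le_of_eq hx21)).upd 3 1 1 (le_of_eq hx41)) ![0,2,1,1] (by decide) (by decide) 1 (by decide))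
    · -- 14=(1,2)
      exact False.elim (cert_false T ((skipEmb 3).trans (Function.Embedding.refl _)) (by norm_num) (fun _ => hall _) (((((LB_zero T ((skipEmb 3).trans (Function.Embedding.refl _))).upd 0 3 3 (le_of_eq hx04)).upd 1 3 1 (le_of_eq hx14)).upd 3 0 1 (le_of_eq hx40)).upd 3 1 2 (le_of_eq hx41)) ![2,1,0,2] (by decide) (by decide) 0 (by decide))
    · -- 14=(2,1)
      exact False.elim (cert_false T ((skipEmb 3).trans (Function.Embedding.refl _)) (by norm_num) (fun _ => hall _) (((((LB_zero T ((skipEmb 3).trans (Function.Embedding.refl _))).upd 0 3 3 (le_of_eq hx04)).upd 1 3 2 (le_of_eq hx14)).upd 3 0 1 (le_of_eq hx40)).upd 3 1 1 (le_of_eq hx41)) ![1,1,0,1] (by decide) (by decide) 0 (by decide))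
    · -- 14=(1,3)
      exact False.elim (cert_false T ((skipEmb 3).trans (Function.Embedding.refl _)) (by norm_num) (fun _ => hall _) (((((LB_zero T ((skipEmb 3).trans (Function.Embedding.refl _))).upd 0 3 3 (le_of_eq hx04)).upd 1 3 1 (le_of_eq hx14)).upd 3 0 1 (le_of_eq hx40)).upd 3 1 3 (le_of_eq hx41)) ![1,1,0,2] (by decide) (by decide) 0 (by decide))
    · -- 14=(3,1)
      exact False.elim (cert_false T ((skipEmb 3).trans (Function.Embedding.refl _)) (by norm_num) (fun _ => hall _) (((((LB_zero T ((skipEmb 3).trans (Function.Embedding.refl _))).upd 0 3 3 (le_of_eq hx04)).upd 1 3 3 (le_of_eq hx14)).upd 3 0 1 (le_of_eq hx40)).upd 3 1 1 (le_of_eq hx41)) ![1,1,0,1] (by decide) (by decide) 0 (by decide))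

theorem case191 (T : NumericalType 5) (hall : ∀ i, T.IsMinusTwo i) (d : SData T)
    (h01 : N T (Function.Embedding.refl _) 0 1 = 0) (h10 : N T (Function.Embedding.refl _) 1 0 = 0)
    (h02 : N T (Function.Embedding.refl _) 0 2 = 0) (h20 : N T (Function.Embedding.refl _) 2 0 = 0)
    (h12 : N T (Function.Embedding.refl _) 1 2 = 3) (h21 : N T (Function.Embedding.refl _) 2 1 = 1)
    (h03 : N T (Function.Embedding.refl _) 0 3 = 0) (h30 : N T (Function.Embedding.refl _) 3 0 = 0)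
    (h13 : N T (Function.Embedding.refl _) 1 3 = 0) (h31 : N T (Function.Embedding.refl _) 3 1 = 0) :
    Goal T := by
  unfold Goal
  have hd := d
  obtain ⟨x01, x02, x03, x04, x10, x12, x13, x14, x20, x21, x23, x24, x30, x31, x32, x34, x40, x41, x42, x43, hx01, hx02, hx03, hx04, hx10, hx12, hx13, hx14, hx20, hx21, hx23, hx24, hx30, hx31, hx32, hx34, hx40, hx41, hx42, hx43, hw0, hm0, hw1, hm1, hw2, hm2, hw3, hm3, hw4, hm4, a00, a01, a02, a03, a04, a11, a10, a12, a13, a14, a22, a20, a21, a23, a24, a33, a30, a31, a32, a34, a44, a40, a41, a42, a43, wN01, wN02, wN12, wN03, wN13, wN23, wN04, wN14, wN24, wN34, e0, e1, e2, e3, e4, d01, d02, d12, d03, d13, d23, d04, d14, d24, d34⟩ := d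
  obtain rfl : x01 = 0 := hx01.trans h01
  obtain rfl : x10 = 0 := hx10.trans h10
  obtain rfl : x02 = 0 := hx02.trans h02
  obtain rfl : x20 = 0 := hx20.trans h20
  obtain rfl : x12 = 3 := hx12.trans h12
  obtain rfl : x21 = 1 := hx21.trans h21
  obtain rfl : x03 = 0 := hx03.trans h03
  obtain rfl : x30 = 0 := hx30.trans h30
  obtain rfl : x13 = 0 := hx13.trans h13
  obtain rfl : x31 = 0 := hx31.trans h31
  rcases d23 with ⟨rfl, rfl⟩ | ⟨rfl, rfl⟩ | ⟨rfl, rfl⟩ | ⟨rfl, rfl⟩ | ⟨rfl, rfl⟩ | ⟨rfl, rfl⟩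
  · -- 23=(0,0)
    exact case192 T hall hd hx01.symm hx10.symm hx02.symm hx20.symm hx12.symm hx21.symm hx03.symm hx30.symm hx13.symm hx31.symm hx23.symm hx32.symm
  · -- 23=(1,1)
    exact False.elim (cert_false T ((skipEmb 4).trans (Function.Embedding.refl _)) (by norm_num) (fun _ => hall _) (((((LB_zero T ((skipEmb 4).trans (Function.Embedding.refl _))).upd 1 2 3 (le_of_eq hx12)).upd 2 1 1 (le_of_eq hx21)).upd 2 3 1 (le_of_eq hx23)).upd 3 2 1 (le_of_eq hx32)) ![0,3,2,1] (by decide) (by decide) 1 (by decide))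
  · -- 23=(1,2)
    exact False.elim (cert_false T ((skipEmb 4).trans (Function.Embedding.refl _)) (by norm_num) (fun _ => hall _) (((((LB_zero T ((skipEmb 4).trans (Function.Embedding.refl _))).upd 1 2 3 (le_of_eq hx12)).upd 2 1 1 (le_of_eq hx21)).upd 2 3 1 (le_of_eq hx23)).upd 3 2 2 (le_of_eq hx32)) ![0,1,1,1] (by decide) (by decide) 1 (by decide))
  · -- 23=(2,1)
    exact False.elim (cert_false T ((skipEmb 4).trans (Function.Embedding.refl _)) (by norm_num) (fun _ => hall _) (((((LB_zero T ((skipEmb 4).trans (Function.Embedding.refl _))).upd 1 2 3 (le_of_eq hx12)).upd 2 1 1 (le_of_eq hx21)).upd 2 3 2 (le_of_eq hx23)).upd 3 2 1 (le_of_eq hx32)) ![0,2,2,1] (by decide) (by decide) 1 (by decide))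
  · -- 23=(1,3)
    exact False.elim (cert_false T ((skipEmb 4).trans (Function.Embedding.refl _)) (by norm_num) (fun _ => hall _) (((((LB_zero T ((skipEmb 4).trans (Function.Embedding.refl _))).upd 1 2 3 (le_of_eq hx12)).upd 2 1 1 (le_of_eq hx21)).upd 2 3 1 (le_of_eq hx23)).upd 3 2 3 (le_of_eq hx32)) ![0,1,1,1] (by decide) (by decide) 1 (by decide))
  · -- 23=(3,1)
    exact False.elim (cert_false T ((skipEmb 4).trans (Function.Embedding.refl _)) (by norm_num) (fun _ => hall _) (((((LB_zero T ((skipEmb 4).trans (Function.Embedding.refl _))).upd 1 2 3 (le_of_eq hx12)).upd 2 1 1 (le_of_eq hx21)).upd 2 3 3 (le_of_eq hx23)).upd 3 2 1 (le_of_eq hx32)) ![0,1,2,1] (by decide) (by decide) 1 (by decide))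

theorem case219 (T : NumericalType 5) (hall : ∀ i, T.IsMinusTwo i) (d : SData T)
    (h01 : N T (Function.Embedding.refl _) 0 1 = 0) (h10 : N T (Function.Embedding.refl _) 1 0 = 0)
    (h02 : N T (Function.Embedding.refl _) 0 2 = 1) (h20 : N T (Function.Embedding.refl _) 2 0 = 1)
    (h12 : N T (Function.Embedding.refl _) 1 2 = 0) (h21 : N T (Function.Embedding.refl _) 2 1 = 0)
    (h03 : N T (Function.Embedding.refl _) 0 3 = 0) (h30 : N T (Function.Embedding.refl _) 3 0 = 0)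
    (h13 : N T (Function.Embedding.refl _) 1 3 = 2) (h31 : N T (Function.Embedding.refl _) 3 1 = 1)
    (h23 : N T (Function.Embedding.refl _) 2 3 = 0) (h32 : N T (Function.Embedding.refl _) 3 2 = 0) :
    Goal T := by
  unfold Goal
  have hd := d
  obtain ⟨x01, x02, x03, x04, x10, x12, x13, x14, x20, x21, x23, x24, x30, x31, x32, x34, x40, x41, x42, x43, hx01, hx02, hx03, hx04, hx10, hx12, hx13, hx14, hx20, hx21, hx23, hx24, hx30, hx31, hx32, hx34, hx40, hx41, hx42, hx43, hw0, hm0, hw1, hm1, hw2, hm2, hw3, hm3, hw4, hm4, a00, a01, a02, a03, a04, a11, a10, a12, a13, a14, a22, a20, a21, a23, a24, a33, a30, a31, a32, a34, a44, a40, a41, a42, a43, wN01, wN02, wN12, wN03, wN13, wN23, wN04, wN14, wN24, wN34, e0, e1, e2, e3, e4, d01, d02, d12, d03, d13, d23, d04, d14, d24, d34⟩ := d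
  obtain rfl : x01 = 0 := hx01.trans h01
  obtain rfl : x10 = 0 := hx10.trans h10
  obtain rfl : x02 = 1 := hx02.trans h02
  obtain rfl : x20 = 1 := hx20.trans h20
  obtain rfl : x12 = 0 := hx12.trans h12
  obtain rfl : x21 = 0 := hx21.trans h21
  obtain rfl : x03 = 0 := hx03.trans h03
  obtain rfl : x30 = 0 := hx30.trans h30
  obtain rfl : x13 = 2 := hx13.trans h13
  obtain rfl : x31 = 1 := hx31.trans h31
  obtain rfl : x23 = 0 := hx23.trans h23
  obtain rfl : x32 = 0 := hx32.trans h32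
  rcases d04 with ⟨rfl, rfl⟩ | ⟨rfl, rfl⟩ | ⟨rfl, rfl⟩ | ⟨rfl, rfl⟩ | ⟨rfl, rfl⟩ | ⟨rfl, rfl⟩
  · -- 04=(0,0)
    rcases d14 with ⟨rfl, rfl⟩ | ⟨rfl, rfl⟩ | ⟨rfl, rfl⟩ | ⟨rfl, rfl⟩ | ⟨rfl, rfl⟩ | ⟨rfl, rfl⟩
    · -- 14=(0,0)
      rcases d24 with ⟨rfl, rfl⟩ | ⟨rfl, rfl⟩ | ⟨rfl, rfl⟩ | ⟨rfl, rfl⟩ | ⟨rfl, rfl⟩ | ⟨rfl, rfl⟩
      · -- 24=(0,0)
        rcases d34 with ⟨rfl, rfl⟩ | ⟨rfl, rfl⟩ | ⟨rfl, rfl⟩ | ⟨rfl, rfl⟩ | ⟨rfl, rfl⟩ | ⟨rfl, rfl⟩
        · -- 34=(0,0)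
          exfalso; omega
        · -- 34=(1,1)
          exfalso; omega
        · -- 34=(1,2)
          exact False.elim (cert_false T ((skipEmb 2).trans (Function.Embedding.refl _)) (by norm_num) (fun _ => hall _) (((((LB_zero T ((skipEmb 2).trans (Function.Embedding.refl _))).upd 1 2 2 (le_of_eq hx13)).upd 2 1 1 (le_of_eq hx31)).upd 2 3 1 (le_of_eq hx34)).upd 3 2 2 (le_of_eq hx43)) ![0,1,1,1] (by decide) (by decide) 1 (by decide))
        · -- 34=(2,1)
          exact False.elim (cert_false T ((skipEmb 2).trans (Function.Embedding.refl _)) (by norm_num) (fun _ => hall _) (((((LB_zero T ((skipEmb 2).trans (Function.Embedding.refl _))).upd 1 2 2 (le_of_eq hx13)).upd 2 1 1 (le_of_eq hx31)).upd 2 3 2 (le_of_eq hx34)).upd 3 2 1 (le_of_eq hx43)) ![0,2,2,1] (by decide) (by decide) 1 (by decide))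
        · -- 34=(1,3)
          exact False.elim (cert_false T ((skipEmb 2).trans (Function.Embedding.refl _)) (by norm_num) (fun _ => hall _) (((((LB_zero T ((skipEmb 2).trans (Function.Embedding.refl _))).upd 1 2 2 (le_of_eq hx13)).upd 2 1 1 (le_of_eq hx31)).upd 2 3 1 (le_of_eq hx34)).upd 3 2 3 (le_of_eq hx43)) ![0,1,1,1] (by decide) (by decide) 1 (by decide))
        · -- 34=(3,1)
          exact False.elim (cert_false T ((skipEmb 2).trans (Function.Embedding.refl _)) (by norm_num) (fun _ => hall _) (((((LB_zero T ((skipEmb 2).trans (Function.Embedding.refl _))).upd 1 2 2 (le_of_eq hx13)).upd 2 1 1 (le_of_eq hx31)).upd 2 3 3 (le_of_eq hx34)).upd 3 2 1 (le_of_eq hx43)) ![0,1,2,1] (by decide) (by decide) 1 (by decide))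
      · -- 24=(1,1)
        rcases d34 with ⟨rfl, rfl⟩ | ⟨rfl, rfl⟩ | ⟨rfl, rfl⟩ | ⟨rfl, rfl⟩ | ⟨rfl, rfl⟩ | ⟨rfl, rfl⟩
        · -- 34=(0,0)
          exfalso; omega
        · -- 34=(1,1)
          exfalso; omega
        · -- 34=(1,2)
          exact False.elim (cert_false T ((skipEmb 2).trans (Function.Embedding.refl _)) (by norm_num) (fun _ => hall _) (((((LB_zero T ((skipEmb 2).trans (Function.Embedding.refl _))).upd 1 2 2 (le_of_eq hx13)).upd 2 1 1 (le_of_eq hx31)).upd 2 3 1 (le_of_eq hx34)).upd 3 2 2 (le_of_eq hx43)) ![0,1,1,1] (by decide) (by decide) 1 (by decide))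
        · -- 34=(2,1)
          exact False.elim (cert_false T ((skipEmb 2).trans (Function.Embedding.refl _)) (by norm_num) (fun _ => hall _) (((((LB_zero T ((skipEmb 2).trans (Function.Embedding.refl _))).upd 1 2 2 (le_of_eq hx13)).upd 2 1 1 (le_of_eq hx31)).upd 2 3 2 (le_of_eq hx34)).upd 3 2 1 (le_of_eq hx43)) ![0,2,2,1] (by decide) (by decide) 1 (by decide))
        · -- 34=(1,3)
          exact False.elim (cert_false T ((skipEmb 2).trans (Function.Embedding.refl _)) (by norm_num) (fun _ => hall _) (((((LB_zero T ((skipEmb 2).trans (Function.Embedding.refl _))).upd 1 2 2 (le_of_eq hx13)).upd 2 1 1 (le_of_eq hx31)).upd 2 3 1 (le_of_eq hx34)).upd 3 2 3 (le_of_eq hx43)) ![0,1,1,1] (by decide) (by decide) 1 (by decide))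
        · -- 34=(3,1)
          exact False.elim (cert_false T ((skipEmb 2).trans (Function.Embedding.refl _)) (by norm_num) (fun _ => hall _) (((((LB_zero T ((skipEmb 2).trans (Function.Embedding.refl _))).upd 1 2 2 (le_of_eq hx13)).upd 2 1 1 (le_of_eq hx31)).upd 2 3 3 (le_of_eq hx34)).upd 3 2 1 (le_of_eq hx43)) ![0,1,2,1] (by decide) (by decide) 1 (by decide))
      · -- 24=(1,2)
        rcases d34 with ⟨rfl, rfl⟩ | ⟨rfl, rfl⟩ | ⟨rfl, rfl⟩ | ⟨rfl, rfl⟩ | ⟨rfl, rfl⟩ | ⟨rfl, rfl⟩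
        · -- 34=(0,0)
          exfalso; omega
        · -- 34=(1,1)
          exact False.elim (cert_false T ((skipEmb 0).trans (Function.Embedding.refl _)) (by norm_num) (fun _ => hall _) (((((((LB_zero T ((skipEmb 0).trans (Function.Embedding.refl _))).upd 0 2 2 (le_of_eq hx13)).upd 1 3 1 (le_of_eq hx24)).upd 2 0 1 (le_of_eq hx31)).upd 2 3 1 (le_of_eq hx34)).upd 3 1 2 (le_of_eq hx42)).upd 3 2 1 (le_of_eq hx43)) ![2,1,2,2] (by decide) (by decide) 0 (by decide))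
        · -- 34=(1,2)
          exact False.elim (cert_false T ((skipEmb 2).trans (Function.Embedding.refl _)) (by norm_num) (fun _ => hall _) (((((LB_zero T ((skipEmb 2).trans (Function.Embedding.refl _))).upd 1 2 2 (le_of_eq hx13)).upd 2 1 1 (le_of_eq hx31)).upd 2 3 1 (le_of_eq hx34)).upd 3 2 2 (le_of_eq hx43)) ![0,1,1,1] (by decide) (by decide) 1 (by decide))
        · -- 34=(2,1)
          exact False.elim (cert_false T ((skipEmb 2).trans (Function.Embedding.refl _)) (by norm_num) (fun _ => hall _) (((((LB_zero T ((skipEmb 2).trans (Function.Embedding.refl _))).upd 1 2 2 (le_of_eq hx13)).upd 2 1 1 (le_of_eq hx31)).upd 2 3 2 (le_of_eq hx34)).upd 3 2 1 (le_of_eq hx43)) ![0,2,2,1] (by decide) (by decide) 1 (by decide))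
        · -- 34=(1,3)
          exact False.elim (cert_false T ((skipEmb 2).trans (Function.Embedding.refl _)) (by norm_num) (fun _ => hall _) (((((LB_zero T ((skipEmb 2).trans (Function.Embedding.refl _))).upd 1 2 2 (le_of_eq hx13)).upd 2 1 1 (le_of_eq hx31)).upd 2 3 1 (le_of_eq hx34)).upd 3 2 3 (le_of_eq hx43)) ![0,1,1,1] (by decide) (by decide) 1 (by decide))
        · -- 34=(3,1)
          exact False.elim (cert_false T ((skipEmb 2).trans (Function.Embedding.refl _)) (by norm_num) (fun _ => hall _) (((((LB_zero T ((skipEmb 2).trans (Function.Embedding.refl _))).upd 1 2 2 (le_of_eq hx13)).upd 2 1 1 (le_of_eq hx31)).upd 2 3 3 (le_of_eq hx34)).upd 3 2 1 (le_of_eq hx43)) ![0,1,2,1] (by decide) (by decide) 1 (by decide))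
      · -- 24=(2,1)
        rcases d34 with ⟨rfl, rfl⟩ | ⟨rfl, rfl⟩ | ⟨rfl, rfl⟩ | ⟨rfl, rfl⟩ | ⟨rfl, rfl⟩ | ⟨rfl, rfl⟩
        · -- 34=(0,0)
          exfalso; omega
        · -- 34=(1,1)
          exact False.elim (cert_false T ((skipEmb 0).trans (Function.Embedding.refl _)) (by norm_num) (fun _ => hall _) (((((((LB_zero T ((skipEmb 0).trans (Function.Embedding.refl _))).upd 0 2 2 (le_of_eq hx13)).upd 1 3 2 (le_of_eq hx24)).upd 2 0 1 (le_of_eq hx31)).upd 2 3 1 (le_of_eq hx34)).upd 3 1 1 (le_of_eq hx42)).upd 3 2 1 (le_of_eq hx43)) ![1,1,1,1] (by decide) (by decide) 0 (by decide))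
        · -- 34=(1,2)
          exact False.elim (cert_false T ((skipEmb 2).trans (Function.Embedding.refl _)) (by norm_num) (fun _ => hall _) (((((LB_zero T ((skipEmb 2).trans (Function.Embedding.refl _))).upd 1 2 2 (le_of_eq hx13)).upd 2 1 1 (le_of_eq hx31)).upd 2 3 1 (le_of_eq hx34)).upd 3 2 2 (le_of_eq hx43)) ![0,1,1,1] (by decide) (by decide) 1 (by decide))
        · -- 34=(2,1)
          exact False.elim (cert_false T ((skipEmb 2).trans (Function.Embedding.refl _)) (by norm_num) (fun _ => hall _) (((((LB_zero T ((skipEmb 2).trans (Function.Embedding.refl _))).upd 1 2 2 (le_of_eq hx13)).upd 2 1 1 (le_of_eq hx31)).upd 2 3 2 (le_of_eq hx34)).upd 3 2 1 (le_of_eq hx43)) ![0,2,2,1] (by decide) (by decide) 1 (by decide))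
        · -- 34=(1,3)
          exact False.elim (cert_false T ((skipEmb 2).trans (Function.Embedding.refl _)) (by norm_num) (fun _ => hall _) (((((LB_zero T ((skipEmb 2).trans (Function.Embedding.refl _))).upd 1 2 2 (le_of_eq hx13)).upd 2 1 1 (le_of_eq hx31)).upd 2 3 1 (le_of_eq hx34)).upd 3 2 3 (le_of_eq hx43)) ![0,1,1,1] (by decide) (by decide) 1 (by decide))
        · -- 34=(3,1)
          exact False.elim (cert_false T ((skipEmb 2).trans (Function.Embedding.refl _)) (by norm_num) (fun _ => hall _) (((((LB_zero T ((skipEmb 2).trans (Function.Embedding.refl _))).upd 1 2 2 (le_of_eq hx13)).upd 2 1 1 (le_of_eq hx31)).upd 2 3 3 (le_of_eq hx34)).upd 3 2 1 (le_of_eq hx43)) ![0,1,2,1] (by decide) (by decide) 1 (by decide))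
      · -- 24=(1,3)
        exact False.elim (cert_false T ((skipEmb 3).trans (Function.Embedding.refl _)) (by norm_num) (fun _ => hall _) (((((LB_zero T ((skipEmb 3).trans (Function.Embedding.refl _))).upd 0 2 1 (le_of_eq hx02)).upd 2 0 1 (le_of_eq hx20)).upd 2 3 1 (le_of_eq hx24)).upd 3 2 3 (le_of_eq hx42)) ![1,0,2,3] (by decide) (by decide) 0 (by decide))
      · -- 24=(3,1)
        exact False.elim (cert_false T ((skipEmb 3).trans (Function.Embedding.refl _)) (by norm_num) (fun _ => hall _) (((((LB_zero T ((skipEmb 3).trans (Function.Embedding.refl _))).upd 0 2 1 (le_of_eq hx02)).upd 2 0 1 (le_of_eq hx20)).upd 2 3 3 (le_of_eq hx24)).upd 3 2 1 (le_of_eq hx42)) ![1,0,2,1] (by decide) (by decide) 0 (by decide))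
    · -- 14=(1,1)
      rcases d24 with ⟨rfl, rfl⟩ | ⟨rfl, rfl⟩ | ⟨rfl, rfl⟩ | ⟨rfl, rfl⟩ | ⟨rfl, rfl⟩ | ⟨rfl, rfl⟩
      · -- 24=(0,0)
        rcases d34 with ⟨rfl, rfl⟩ | ⟨rfl, rfl⟩ | ⟨rfl, rfl⟩ | ⟨rfl, rfl⟩ | ⟨rfl, rfl⟩ | ⟨rfl, rfl⟩
        · -- 34=(0,0)
          exfalso; omega
        · -- 34=(1,1)
          exact False.elim (cert_false T ((skipEmb 2).trans (Function.Embedding.refl _)) (by norm_num) (fun _ => hall _) (((((((LB_zero T ((skipEmb 2).trans (Function.Embedding.refl _))).upd 1 2 2 (le_of_eq hx13)).upd 1 3 1 (le_of_eq hx14)).upd 2 1 1 (le_of_eq hx31)).upd 2 3 1 (le_of_eq hx34)).upd 3 1 1 (le_of_eq hx41)).upd 3 2 1 (le_of_eq hx43)) ![0,1,1,1] (by decide) (by decide) 1 (by decide))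
        · -- 34=(1,2)
          exact False.elim (cert_false T ((skipEmb 2).trans (Function.Embedding.refl _)) (by norm_num) (fun _ => hall _) (((((((LB_zero T ((skipEmb 2).trans (Function.Embedding.refl _))).upd 1 2 2 (le_of_eq hx13)).upd 1 3 1 (le_of_eq hx14)).upd 2 1 1 (le_of_eq hx31)).upd 2 3 1 (le_of_eq hx34)).upd 3 1 1 (le_of_eq hx41)).upd 3 2 2 (le_of_eq hx43)) ![0,1,1,1] (by decide) (by decide) 1 (by decide))
        · -- 34=(2,1)
          exact False.elim (cert_false T ((skipEmb 2).trans (Function.Embedding.refl _)) (by norm_num) (fun _ => hall _) (((((((LB_zero T ((skipEmb 2).trans (Function.Embedding.refl _))).upd 1 2 2 (le_of_eq hx13)).upd 1 3 1 (le_of_eq hx14)).upd 2 1 1 (le_of_eq hx31)).upd 2 3 2 (le_of_eq hx34)).upd 3 1 1 (le_of_eq hx41)).upd 3 2 1 (le_of_eq hx43)) ![0,1,1,1] (by decide) (by decide) 1 (by decide))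
        · -- 34=(1,3)
          exact False.elim (cert_false T ((skipEmb 2).trans (Function.Embedding.refl _)) (by norm_num) (fun _ => hall _) (((((((LB_zero T ((skipEmb 2).trans (Function.Embedding.refl _))).upd 1 2 2 (le_of_eq hx13)).upd 1 3 1 (le_of_eq hx14)).upd 2 1 1 (le_of_eq hx31)).upd 2 3 1 (le_of_eq hx34)).upd 3 1 1 (le_of_eq hx41)).upd 3 2 3 (le_of_eq hx43)) ![0,1,1,1] (by decide) (by decide) 1 (by decide))
        · -- 34=(3,1)
          exact False.elim (cert_false T ((skipEmb 2).trans (Function.Embedding.refl _)) (by norm_num) (fun _ => hall _) (((((((LB_zero T ((skipEmb 2).trans (Function.Embedding.refl _))).upd 1 2 2 (le_of_eq hx13)).upd 1 3 1 (le_of_eq hx14)).upd 2 1 1 (le_of_eq hx31)).upd 2 3 3 (le_of_eq hx34)).upd 3 1 1 (le_of_eq hx41)).upd 3 2 1 (le_of_eq hx43)) ![0,1,1,1] (by decide) (by decide) 1 (by decide))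
      · -- 24=(1,1)
        rcases d34 with ⟨rfl, rfl⟩ | ⟨rfl, rfl⟩ | ⟨rfl, rfl⟩ | ⟨rfl, rfl⟩ | ⟨rfl, rfl⟩ | ⟨rfl, rfl⟩
        · -- 34=(0,0)
          exfalso; omega
        · -- 34=(1,1)
          exact False.elim (cert_false T ((skipEmb 2).trans (Function.Embedding.refl _)) (by norm_num) (fun _ => hall _) (((((((LB_zero T ((skipEmb 2).trans (Function.Embedding.refl _))).upd 1 2 2 (le_of_eq hx13)).upd 1 3 1 (le_of_eq hx14)).upd 2 1 1 (le_of_eq hx31)).upd 2 3 1 (le_of_eq hx34)).upd 3 1 1 (le_of_eq hx41)).upd 3 2 1 (le_of_eq hx43)) ![0,1,1,1] (by decide) (by decide) 1 (by decide))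
        · -- 34=(1,2)
          exact False.elim (cert_false T ((skipEmb 2).trans (Function.Embedding.refl _)) (by norm_num) (fun _ => hall _) (((((((LB_zero T ((skipEmb 2).trans (Function.Embedding.refl _))).upd 1 2 2 (le_of_eq hx13)).upd 1 3 1 (le_of_eq hx14)).upd 2 1 1 (le_of_eq hx31)).upd 2 3 1 (le_of_eq hx34)).upd 3 1 1 (le_of_eq hx41)).upd 3 2 2 (le_of_eq hx43)) ![0,1,1,1] (by decide) (by decide) 1 (by decide))
        · -- 34=(2,1)
          exact False.elim (cert_false T ((skipEmb 2).trans (Function.Embedding.refl _)) (by norm_num) (fun _ => hall _) (((((((LB_zero T ((skipEmb 2).trans (Function.Embedding.refl _))).upd 1 2 2 (le_of_eq hx13)).upd 1 3 1 (le_of_eq hx14)).upd 2 1 1 (le_of_eq hx31)).upd 2 3 2 (le_of_eq hx34)).upd 3 1 1 (le_of_eq hx41)).upd 3 2 1 (le_of_eq hx43)) ![0,1,1,1] (by decide) (by decide) 1 (by decide))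
        · -- 34=(1,3)
          exact False.elim (cert_false T ((skipEmb 2).trans (Function.Embedding.refl _)) (by norm_num) (fun _ => hall _) (((((((LB_zero T ((skipEmb 2).trans (Function.Embedding.refl _))).upd 1 2 2 (le_of_eq hx13)).upd 1 3 1 (le_of_eq hx14)).upd 2 1 1 (le_of_eq hx31)).upd 2 3 1 (le_of_eq hx34)).upd 3 1 1 (le_of_eq hx41)).upd 3 2 3 (le_of_eq hx43)) ![0,1,1,1] (by decide) (by decide) 1 (by decide))
        · -- 34=(3,1)
          exact False.elim (cert_false T ((skipEmb 2).trans (Function.Embedding.refl _)) (by norm_num) (fun _ => hall _) (((((((LB_zero T ((skipEmb 2).trans (Function.Embedding.refl _))).upd 1 2 2 (le_of_eq hx13)).upd 1 3 1 (le_of_eq hx14)).upd 2 1 1 (le_of_eq hx31)).upd 2 3 3 (le_of_eq hx34)).upd 3 1 1 (le_of_eq hx41)).upd 3 2 1 (le_of_eq hx43)) ![0,1,1,1] (by decide) (by decide) 1 (by decide))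
      · -- 24=(1,2)
        exact False.elim (cert_false T ((skipEmb 0).trans (Function.Embedding.refl _)) (by norm_num) (fun _ => hall _) (((((((LB_zero T ((skipEmb 0).trans (Function.Embedding.refl _))).upd 0 2 2 (le_of_eq hx13)).upd 0 3 1 (le_of_eq hx14)).upd 1 3 1 (le_of_eq hx24)).upd 2 0 1 (le_of_eq hx31)).upd 3 0 1 (le_of_eq hx41)).upd 3 1 2 (le_of_eq hx42)) ![2,1,1,2] (by decide) (by decide) 0 (by decide))
      · -- 24=(2,1)
        exact False.elim (cert_false T ((skipEmb 0).trans (Function.Embedding.refl _)) (by norm_num) (fun _ => hall _) (((((((LB_zero T ((skipEmb 0).trans (Function.Embedding.refl _))).upd 0 2 2 (le_of_eq hx13)).upd 0 3 1 (le_of_eq hx14)).upd 1 3 2 (le_of_eq hx24)).upd 2 0 1 (le_of_eq hx31)).upd 3 0 1 (le_of_eq hx41)).upd 3 1 1 (le_of_eq hx42)) ![2,2,1,2] (by decide) (by decide) 0 (by decide))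
      · -- 24=(1,3)
        exact False.elim (cert_false T ((skipEmb 3).trans (Function.Embedding.refl _)) (by norm_num) (fun _ => hall _) (((((LB_zero T ((skipEmb 3).trans (Function.Embedding.refl _))).upd 1 3 1 (le_of_eq hx14)).upd 2 3 1 (le_of_eq hx24)).upd 3 1 1 (le_of_eq hx41)).upd 3 2 3 (le_of_eq hx42)) ![0,1,1,2] (by decide) (by decide) 1 (by decide))
      · -- 24=(3,1)
        exact False.elim (cert_false T ((skipEmb 3).trans (Function.Embedding.refl _)) (by norm_num) (fun _ => hall _) (((((LB_zero T ((skipEmb 3).trans (Function.Embedding.refl _))).upd 0 2 1 (le_of_eq hx02)).upd 2 0 1 (le_of_eq hx20)).upd 2 3 3 (le_of_eq hx24)).upd 3 2 1 (le_of_eq hx42)) ![1,0,2,1] (by decide) (by decide) 0 (by decide))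
    · -- 14=(1,2)
      exact False.elim (cert_false T ((skipEmb 2).trans (Function.Embedding.refl _)) (by norm_num) (fun _ => hall _) (((((LB_zero T ((skipEmb 2).trans (Function.Embedding.refl _))).upd 1 2 2 (le_of_eq hx13)).upd 1 3 1 (le_of_eq hx14)).upd 2 1 1 (le_of_eq hx31)).upd 3 1 2 (le_of_eq hx41)) ![0,2,1,2] (by decide) (by decide) 1 (by decide))
    · -- 14=(2,1)
      exact False.elim (cert_false T ((skipEmb 2).trans (Function.Embedding.refl _)) (by norm_num) (fun _ => hall _) (((((LB_zero T ((skipEmb 2).trans (Function.Embedding.refl _))).upd 1 2 2 (le_of_eq hx13)).upd 1 3 2 (le_of_eq hx14)).upd 2 1 1 (le_of_eq hx31)).upd 3 1 1 (le_of_eq hx41)) ![0,2,1,1] (by decide) (by decide) 1 (by decide))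
    · -- 14=(1,3)
      exact False.elim (cert_false T ((skipEmb 2).trans (Function.Embedding.refl _)) (by norm_num) (fun _ => hall _) (((((LB_zero T ((skipEmb 2).trans (Function.Embedding.refl _))).upd 1 2 2 (le_of_eq hx13)).upd 1 3 1 (le_of_eq hx14)).upd 2 1 1 (le_of_eq hx31)).upd 3 1 3 (le_of_eq hx41)) ![0,2,1,2] (by decide) (by decide) 1 (by decide))
    · -- 14=(3,1)
      exact False.elim (cert_false T ((skipEmb 2).trans (Function.Embedding.refl _)) (by norm_num) (fun _ => hall _) (((((LB_zero T ((skipEmb 2).trans (Function.Embedding.refl _))).upd 1 2 2 (le_of_eq hx13)).upd 1 3 3 (le_of_eq hx14)).upd 2 1 1 (le_of_eq hx31)).upd 3 1 1 (le_of_eq hx41)) ![0,2,1,1] (by decide) (by decide) 1 (by decide))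
  · -- 04=(1,1)
    rcases d14 with ⟨rfl, rfl⟩ | ⟨rfl, rfl⟩ | ⟨rfl, rfl⟩ | ⟨rfl, rfl⟩ | ⟨rfl, rfl⟩ | ⟨rfl, rfl⟩
    · -- 14=(0,0)
      rcases d24 with ⟨rfl, rfl⟩ | ⟨rfl, rfl⟩ | ⟨rfl, rfl⟩ | ⟨rfl, rfl⟩ | ⟨rfl, rfl⟩ | ⟨rfl, rfl⟩
      · -- 24=(0,0)
        rcases d34 with ⟨rfl, rfl⟩ | ⟨rfl, rfl⟩ | ⟨rfl, rfl⟩ | ⟨rfl, rfl⟩ | ⟨rfl, rfl⟩ | ⟨rfl, rfl⟩
        · -- 34=(0,0)
          exfalso; omega
        · -- 34=(1,1)
          exfalso; omega
        · -- 34=(1,2)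
          exact False.elim (cert_false T ((skipEmb 2).trans (Function.Embedding.refl _)) (by norm_num) (fun _ => hall _) (((((LB_zero T ((skipEmb 2).trans (Function.Embedding.refl _))).upd 1 2 2 (le_of_eq hx13)).upd 2 1 1 (le_of_eq hx31)).upd 2 3 1 (le_of_eq hx34)).upd 3 2 2 (le_of_eq hx43)) ![0,1,1,1] (by decide) (by decide) 1 (by decide))
        · -- 34=(2,1)
          exact False.elim (cert_false T ((skipEmb 2).trans (Function.Embedding.refl _)) (by norm_num) (fun _ => hall _) (((((LB_zero T ((skipEmb 2).trans (Function.Embedding.refl _))).upd 1 2 2 (le_of_eq hx13)).upd 2 1 1 (le_of_eq hx31)).upd 2 3 2 (le_of_eq hx34)).upd 3 2 1 (le_of_eq hx43)) ![0,2,2,1] (by decide) (by decide) 1 (by decide))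
        · -- 34=(1,3)
          exact False.elim (cert_false T ((skipEmb 2).trans (Function.Embedding.refl _)) (by norm_num) (fun _ => hall _) (((((LB_zero T ((skipEmb 2).trans (Function.Embedding.refl _))).upd 1 2 2 (le_of_eq hx13)).upd 2 1 1 (le_of_eq hx31)).upd 2 3 1 (le_of_eq hx34)).upd 3 2 3 (le_of_eq hx43)) ![0,1,1,1] (by decide) (by decide) 1 (by decide))
        · -- 34=(3,1)
          exact False.elim (cert_false T ((skipEmb 2).trans (Function.Embedding.refl _)) (by norm_num) (fun _ => hall _) (((((LB_zero T ((skipEmb 2).trans (Function.Embedding.refl _))).upd 1 2 2 (le_of_eq hx13)).upd 2 1 1 (le_of_eq hx31)).upd 2 3 3 (le_of_eq hx34)).upd 3 2 1 (le_of_eq hx43)) ![0,1,2,1] (by decide) (by decide) 1 (by decide))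
      · -- 24=(1,1)
        exact False.elim (cert_false T ((skipEmb 3).trans (Function.Embedding.refl _)) (by norm_num) (fun _ => hall _) (((((((LB_zero T ((skipEmb 3).trans (Function.Embedding.refl _))).upd 0 2 1 (le_of_eq hx02)).upd 0 3 1 (le_of_eq hx04)).upd 2 0 1 (le_of_eq hx20)).upd 2 3 1 (le_of_eq hx24)).upd 3 0 1 (le_of_eq hx40)).upd 3 2 1 (le_of_eq hx42)) ![1,0,1,1] (by decide) (by decide) 0 (by decide))
      · -- 24=(1,2)
        exact False.elim (cert_false T ((skipEmb 3).trans (Function.Embedding.refl _)) (by norm_num) (fun _ => hall _) (((((((LB_zero T ((skipEmb 3).trans (Function.Embedding.refl _))).upd 0 2 1 (le_of_eq hx02)).upd 0 3 1 (le_of_eq hx04)).upd 2 0 1 (le_of_eq hx20)).upd 2 3 1 (le_of_eq hx24)).upd 3 0 1 (le_of_eq hx40)).upd 3 2 2 (le_of_eq hx42)) ![1,0,1,1] (by decide) (by decide) 0 (by decide))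
      · -- 24=(2,1)
        exact False.elim (cert_false T ((skipEmb 3).trans (Function.Embedding.refl _)) (by norm_num) (fun _ => hall _) (((((((LB_zero T ((skipEmb 3).trans (Function.Embedding.refl _))).upd 0 2 1 (le_of_eq hx02)).upd 0 3 1 (le_of_eq hx04)).upd 2 0 1 (le_of_eq hx20)).upd 2 3 2 (le_of_eq hx24)).upd 3 0 1 (le_of_eq hx40)).upd 3 2 1 (le_of_eq hx42)) ![1,0,1,1] (by decide) (by decide) 0 (by decide))
      · -- 24=(1,3)
        exact False.elim (cert_false T ((skipEmb 3).trans (Function.Embedding.refl _)) (by norm_num) (fun _ => hall _) (((((((LB_zero T ((skipEmb 3).trans (Function.Embedding.refl _))).upd 0 2 1 (le_of_eq hx02)).upd 0 3 1 (le_of_eq hx04)).upd 2 0 1 (le_of_eq hx20)).upd 2 3 1 (le_of_eq hx24)).upd 3 0 1 (le_of_eq hx40)).upd 3 2 3 (le_of_eq hx42)) ![1,0,1,1] (by decide) (by decide) 0 (by decide))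
      · -- 24=(3,1)
        exact False.elim (cert_false T ((skipEmb 3).trans (Function.Embedding.refl _)) (by norm_num) (fun _ => hall _) (((((((LB_zero T ((skipEmb 3).trans (Function.Embedding.refl _))).upd 0 2 1 (le_of_eq hx02)).upd 0 3 1 (le_of_eq hx04)).upd 2 0 1 (le_of_eq hx20)).upd 2 3 3 (le_of_eq hx24)).upd 3 0 1 (le_of_eq hx40)).upd 3 2 1 (le_of_eq hx42)) ![1,0,1,1] (by decide) (by decide) 0 (by decide))
    · -- 14=(1,1)
      rcases d24 with ⟨rfl, rfl⟩ | ⟨rfl, rfl⟩ | ⟨rfl, rfl⟩ | ⟨rfl, rfl⟩ | ⟨rfl, rfl⟩ | ⟨rfl, rfl⟩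
      · -- 24=(0,0)
        rcases d34 with ⟨rfl, rfl⟩ | ⟨rfl, rfl⟩ | ⟨rfl, rfl⟩ | ⟨rfl, rfl⟩ | ⟨rfl, rfl⟩ | ⟨rfl, rfl⟩
        · -- 34=(0,0)
          exfalso; omega
        · -- 34=(1,1)
          exact False.elim (cert_false T ((skipEmb 2).trans (Function.Embedding.refl _)) (by norm_num) (fun _ => hall _) (((((((LB_zero T ((skipEmb 2).trans (Function.Embedding.refl _))).upd 1 2 2 (le_of_eq hx13)).upd 1 3 1 (le_of_eq hx14)).upd 2 1 1 (le_of_eq hx31)).upd 2 3 1 (le_of_eq hx34)).upd 3 1 1 (le_of_eq hx41)).upd 3 2 1 (le_of_eq hx43)) ![0,1,1,1] (by decide) (by decide) 1 (by decide))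
        · -- 34=(1,2)
          exact False.elim (cert_false T ((skipEmb 2).trans (Function.Embedding.refl _)) (by norm_num) (fun _ => hall _) (((((((LB_zero T ((skipEmb 2).trans (Function.Embedding.refl _))).upd 1 2 2 (le_of_eq hx13)).upd 1 3 1 (le_of_eq hx14)).upd 2 1 1 (le_of_eq hx31)).upd 2 3 1 (le_of_eq hx34)).upd 3 1 1 (le_of_eq hx41)).upd 3 2 2 (le_of_eq hx43)) ![0,1,1,1] (by decide) (by decide) 1 (by decide))
        · -- 34=(2,1)
          exact False.elim (cert_false T ((skipEmb 2).trans (Function.Embedding.refl _)) (by norm_num) (fun _ => hall _) (((((((LB_zero T ((skipEmb 2).trans (Function.Embedding.refl _))).upd 1 2 2 (le_of_eq hx13)).upd 1 3 1 (le_of_eq hx14)).upd 2 1 1 (le_of_eq hx31)).upd 2 3 2 (le_of_eq hx34)).upd 3 1 1 (le_of_eq hx41)).upd 3 2 1 (le_of_eq hx43)) ![0,1,1,1] (by decide) (by decide) 1 (by decide))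
        · -- 34=(1,3)
          exact False.elim (cert_false T ((skipEmb 2).trans (Function.Embedding.refl _)) (by norm_num) (fun _ => hall _) (((((((LB_zero T ((skipEmb 2).trans (Function.Embedding.refl _))).upd 1 2 2 (le_of_eq hx13)).upd 1 3 1 (le_of_eq hx14)).upd 2 1 1 (le_of_eq hx31)).upd 2 3 1 (le_of_eq hx34)).upd 3 1 1 (le_of_eq hx41)).upd 3 2 3 (le_of_eq hx43)) ![0,1,1,1] (by decide) (by decide) 1 (by decide))
        · -- 34=(3,1)
          exact False.elim (cert_false T ((skipEmb 2).trans (Function.Embedding.refl _)) (by norm_num) (fun _ => hall _) (((((((LB_zero T ((skipEmb 2).trans (Function.Embedding.refl _))).upd 1 2 2 (le_of_eq hx13)).upd 1 3 1 (le_of_eq hx14)).upd 2 1 1 (le_of_eq hx31)).upd 2 3 3 (le_of_eq hx34)).upd 3 1 1 (le_of_eq hx41)).upd 3 2 1 (le_of_eq hx43)) ![0,1,1,1] (by decide) (by decide) 1 (by decide))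
      · -- 24=(1,1)
        exact False.elim (cert_false T ((skipEmb 3).trans (Function.Embedding.refl _)) (by norm_num) (fun _ => hall _) (((((((LB_zero T ((skipEmb 3).trans (Function.Embedding.refl _))).upd 0 2 1 (le_of_eq hx02)).upd 0 3 1 (le_of_eq hx04)).upd 2 0 1 (le_of_eq hx20)).upd 2 3 1 (le_of_eq hx24)).upd 3 0 1 (le_of_eq hx40)).upd 3 2 1 (le_of_eq hx42)) ![1,0,1,1] (by decide) (by decide) 0 (by decide))
      · -- 24=(1,2)
        exact False.elim (cert_false T ((skipEmb 3).trans (Function.Embedding.refl _)) (by norm_num) (fun _ => hall _) (((((((LB_zero T ((skipEmb 3).trans (Function.Embedding.refl _))).upd 0 2 1 (le_of_eq hx02)).upd 0 3 1 (le_of_eq hx04)).upd 2 0 1 (le_of_eq hx20)).upd 2 3 1 (le_of_eq hx24)).upd 3 0 1 (le_of_eq hx40)).upd 3 2 2 (le_of_eq hx42)) ![1,0,1,1] (by decide) (by decide) 0 (by decide))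
      · -- 24=(2,1)
        exact False.elim (cert_false T ((skipEmb 3).trans (Function.Embedding.refl _)) (by norm_num) (fun _ => hall _) (((((((LB_zero T ((skipEmb 3).trans (Function.Embedding.refl _))).upd 0 2 1 (le_of_eq hx02)).upd 0 3 1 (le_of_eq hx04)).upd 2 0 1 (le_of_eq hx20)).upd 2 3 2 (le_of_eq hx24)).upd 3 0 1 (le_of_eq hx40)).upd 3 2 1 (le_of_eq hx42)) ![1,0,1,1] (by decide) (by decide) 0 (by decide))
      · -- 24=(1,3)
        exact False.elim (cert_false T ((skipEmb 3).trans (Function.Embedding.refl _)) (by norm_num) (fun _ => hall _) (((((((LB_zero T ((skipEmb 3).trans (Function.Embedding.refl _))).upd 0 2 1 (le_of_eq hx02)).upd 0 3 1 (le_of_eq hx04)).upd 2 0 1 (le_of_eq hx20)).upd 2 3 1 (le_of_eq hx24)).upd 3 0 1 (le_of_eq hx40)).upd 3 2 3 (le_of_eq hx42)) ![1,0,1,1] (by decide) (by decide) 0 (by decide))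
      · -- 24=(3,1)
        exact False.elim (cert_false T ((skipEmb 3).trans (Function.Embedding.refl _)) (by norm_num) (fun _ => hall _) (((((((LB_zero T ((skipEmb 3).trans (Function.Embedding.refl _))).upd 0 2 1 (le_of_eq hx02)).upd 0 3 1 (le_of_eq hx04)).upd 2 0 1 (le_of_eq hx20)).upd 2 3 3 (le_of_eq hx24)).upd 3 0 1 (le_of_eq hx40)).upd 3 2 1 (le_of_eq hx42)) ![1,0,1,1] (by decide) (by decide) 0 (by decide))
    · -- 14=(1,2)
      exact False.elim (cert_false T ((skipEmb 2).trans (Function.Embedding.refl _)) (by norm_num) (fun _ => hall _) (((((LB_zero T ((skipEmb 2).trans (Function.Embedding.refl _))).upd 1 2 2 (le_of_eq hx13)).upd 1 3 1 (le_of_eq hx14)).upd 2 1 1 (le_of_eq hx31)).upd 3 1 2 (le_of_eq hx41)) ![0,2,1,2] (by decide) (by decide) 1 (by decide))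
    · -- 14=(2,1)
      exact False.elim (cert_false T ((skipEmb 2).trans (Function.Embedding.refl _)) (by norm_num) (fun _ => hall _) (((((LB_zero T ((skipEmb 2).trans (Function.Embedding.refl _))).upd 1 2 2 (le_of_eq hx13)).upd 1 3 2 (le_of_eq hx14)).upd 2 1 1 (le_of_eq hx31)).upd 3 1 1 (le_of_eq hx41)) ![0,2,1,1] (by decide) (by decide) 1 (by decide))
    · -- 14=(1,3)
      exact False.elim (cert_false T ((skipEmb 3).trans (Function.Embedding.refl _)) (by norm_num) (fun _ => hall _) (((((LB_zero T ((skipEmb 3).trans (Function.Embedding.refl _))).upd 0 3 1 (le_of_eq hx04)).upd 1 3 1 (le_of_eq hx14)).upd 3 0 1 (le_of_eq hx40)).upd 3 1 3 (le_of_eq hx41)) ![1,1,0,2] (by decide) (by decide) 0 (by decide))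
    · -- 14=(3,1)
      exact False.elim (cert_false T ((skipEmb 3).trans (Function.Embedding.refl _)) (by norm_num) (fun _ => hall _) (((((LB_zero T ((skipEmb 3).trans (Function.Embedding.refl _))).upd 0 3 1 (le_of_eq hx04)).upd 1 3 3 (le_of_eq hx14)).upd 3 0 1 (le_of_eq hx40)).upd 3 1 1 (le_of_eq hx41)) ![1,3,0,2] (by decide) (by decide) 0 (by decide))
  · -- 04=(1,2)
    rcases d14 with ⟨rfl, rfl⟩ | ⟨rfl, rfl⟩ | ⟨rfl, rfl⟩ | ⟨rfl, rfl⟩ | ⟨rfl, rfl⟩ | ⟨rfl, rfl⟩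
    · -- 14=(0,0)
      rcases d24 with ⟨rfl, rfl⟩ | ⟨rfl, rfl⟩ | ⟨rfl, rfl⟩ | ⟨rfl, rfl⟩ | ⟨rfl, rfl⟩ | ⟨rfl, rfl⟩
      · -- 24=(0,0)
        rcases d34 with ⟨rfl, rfl⟩ | ⟨rfl, rfl⟩ | ⟨rfl, rfl⟩ | ⟨rfl, rfl⟩ | ⟨rfl, rfl⟩ | ⟨rfl, rfl⟩
        · -- 34=(0,0)
          exfalso; omega
        · -- 34=(1,1)
          exact False.elim (cert_false T ((skipEmb 2).trans (Function.Embedding.refl _)) (by norm_num) (fun _ => hall _) (((((((LB_zero T ((skipEmb 2).trans (Function.Embedding.refl _))).upd 0 3 1 (le_of_eq hx04)).upd 1 2 2 (le_of_eq hx13)).upd 2 1 1 (le_of_eq hx31)).upd 2 3 1 (le_of_eq hx34)).upd 3 0 2 (le_of_eq hx40)).upd 3 2 1 (le_of_eq hx43)) ![1,2,2,2] (by decide) (by decide) 0 (by decide))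
        · -- 34=(1,2)
          exact False.elim (cert_false T ((skipEmb 2).trans (Function.Embedding.refl _)) (by norm_num) (fun _ => hall _) (((((LB_zero T ((skipEmb 2).trans (Function.Embedding.refl _))).upd 1 2 2 (le_of_eq hx13)).upd 2 1 1 (le_of_eq hx31)).upd 2 3 1 (le_of_eq hx34)).upd 3 2 2 (le_of_eq hx43)) ![0,1,1,1] (by decide) (by decide) 1 (by decide))
        · -- 34=(2,1)
          exact False.elim (cert_false T ((skipEmb 2).trans (Function.Embedding.refl _)) (by norm_num) (fun _ => hall _) (((((LB_zero T ((skipEmb 2).trans (Function.Embedding.refl _))).upd 0 3 1 (le_of_eq hx04)).upd 2 3 2 (le_of_eq hx34)).upd 3 0 2 (le_of_eq hx40)).upd 3 2 1 (le_of_eq hx43)) ![1,0,2,2] (by decide) (by decide) 0 (by decide))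
        · -- 34=(1,3)
          exact False.elim (cert_false T ((skipEmb 2).trans (Function.Embedding.refl _)) (by norm_num) (fun _ => hall _) (((((LB_zero T ((skipEmb 2).trans (Function.Embedding.refl _))).upd 1 2 2 (le_of_eq hx13)).upd 2 1 1 (le_of_eq hx31)).upd 2 3 1 (le_of_eq hx34)).upd 3 2 3 (le_of_eq hx43)) ![0,1,1,1] (by decide) (by decide) 1 (by decide))
        · -- 34=(3,1)
          exact False.elim (cert_false T ((skipEmb 2).trans (Function.Embedding.refl _)) (by norm_num) (fun _ => hall _) (((((LB_zero T ((skipEmb 2).trans (Function.Embedding.refl _))).upd 0 3 1 (le_of_eq hx04)).upd 2 3 3 (le_of_eq hx34)).upd 3 0 2 (le_of_eq hx40)).upd 3 2 1 (le_of_eq hx43)) ![1,0,2,2] (by decide) (by decide) 0 (by decide))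
      · -- 24=(1,1)
        exact False.elim (cert_false T ((skipEmb 3).trans (Function.Embedding.refl _)) (by norm_num) (fun _ => hall _) (((((((LB_zero T ((skipEmb 3).trans (Function.Embedding.refl _))).upd 0 2 1 (le_of_eq hx02)).upd 0 3 1 (le_of_eq hx04)).upd 2 0 1 (le_of_eq hx20)).upd 2 3 1 (le_of_eq hx24)).upd 3 0 2 (le_of_eq hx40)).upd 3 2 1 (le_of_eq hx42)) ![1,0,1,1] (by decide) (by decide) 0 (by decide))
      · -- 24=(1,2)
        exact False.elim (cert_false T ((skipEmb 3).trans (Function.Embedding.refl _)) (by norm_num) (fun _ => hall _) (((((((LB_zero T ((skipEmb 3).trans (Function.Embedding.refl _))).upd 0 2 1 (le_of_eq hx02)).upd 0 3 1 (le_of_eq hx04)).upd 2 0 1 (le_of_eq hx20)).upd 2 3 1 (le_of_eq hx24)).upd 3 0 2 (le_of_eq hx40)).upd 3 2 2 (le_of_eq hx42)) ![1,0,1,1] (by decide) (by decide) 0 (by decide))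
      · -- 24=(2,1)
        exact False.elim (cert_false T ((skipEmb 3).trans (Function.Embedding.refl _)) (by norm_num) (fun _ => hall _) (((((((LB_zero T ((skipEmb 3).trans (Function.Embedding.refl _))).upd 0 2 1 (le_of_eq hx02)).upd 0 3 1 (le_of_eq hx04)).upd 2 0 1 (le_of_eq hx20)).upd 2 3 2 (le_of_eq hx24)).upd 3 0 2 (le_of_eq hx40)).upd 3 2 1 (le_of_eq hx42)) ![1,0,1,1] (by decide) (by decide) 0 (by decide))
      · -- 24=(1,3)
        exact False.elim (cert_false T ((skipEmb 3).trans (Function.Embedding.refl _)) (by norm_num) (fun _ => hall _) (((((((LB_zero T ((skipEmb 3).trans (Function.Embedding.refl _))).upd 0 2 1 (le_of_eq hx02)).upd 0 3 1 (le_of_eq hx04)).upd 2 0 1 (le_of_eq hx20)).upd 2 3 1 (le_of_eq hx24)).upd 3 0 2 (le_of_eq hx40)).upd 3 2 3 (le_of_eq hx42)) ![1,0,1,1] (by decide) (by decide) 0 (by decide))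
      · -- 24=(3,1)
        exact False.elim (cert_false T ((skipEmb 3).trans (Function.Embedding.refl _)) (by norm_num) (fun _ => hall _) (((((((LB_zero T ((skipEmb 3).trans (Function.Embedding.refl _))).upd 0 2 1 (le_of_eq hx02)).upd 0 3 1 (le_of_eq hx04)).upd 2 0 1 (le_of_eq hx20)).upd 2 3 3 (le_of_eq hx24)).upd 3 0 2 (le_of_eq hx40)).upd 3 2 1 (le_of_eq hx42)) ![1,0,1,1] (by decide) (by decide) 0 (by decide))
    · -- 14=(1,1)
      exact False.elim (cert_false T ((skipEmb 2).trans (Function.Embedding.refl _)) (by norm_num) (fun _ => hall _) (((((((LB_zero T ((skipEmb 2).trans (Function.Embedding.refl _))).upd 0 3 1 (le_of_eq hx04)).upd 1 2 2 (le_of_eq hx13)).upd 1 3 1 (le_of_eq hx14)).upd 2 1 1 (le_of_eq hx31)).upd 3 0 2 (le_of_eq hx40)).upd 3 1 1 (le_of_eq hx41)) ![1,2,1,2] (by decide) (by decide) 0 (by decide))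
    · -- 14=(1,2)
      exact False.elim (cert_false T ((skipEmb 3).trans (Function.Embedding.refl _)) (by norm_num) (fun _ => hall _) (((((LB_zero T ((skipEmb 3).trans (Function.Embedding.refl _))).upd 0 3 1 (le_of_eq hx04)).upd 1 3 1 (le_of_eq hx14)).upd 3 0 2 (le_of_eq hx40)).upd 3 1 2 (le_of_eq hx41)) ![1,1,0,2] (by decide) (by decide) 0 (by decide))
    · -- 14=(2,1)
      exact False.elim (cert_false T ((skipEmb 3).trans (Function.Embedding.refl _)) (by norm_num) (fun _ => hall _) (((((LB_zero T ((skipEmb 3).trans (Function.Embedding.refl _))).upd 0 3 1 (le_of_eq hx04)).upd 1 3 2 (le_of_eq hx14)).upd 3 0 2 (le_of_eq hx40)).upd 3 1 1 (le_of_eq hx41)) ![1,2,0,2] (by decide) (by decide) 0 (by decide))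
    · -- 14=(1,3)
      exact False.elim (cert_false T ((skipEmb 3).trans (Function.Embedding.refl _)) (by norm_num) (fun _ => hall _) (((((LB_zero T ((skipEmb 3).trans (Function.Embedding.refl _))).upd 0 3 1 (le_of_eq hx04)).upd 1 3 1 (le_of_eq hx14)).upd 3 0 2 (le_of_eq hx40)).upd 3 1 3 (le_of_eq hx41)) ![1,1,0,2] (by decide) (by decide) 0 (by decide))
    · -- 14=(3,1)
      exact False.elim (cert_false T ((skipEmb 3).trans (Function.Embedding.refl _)) (by norm_num) (fun _ => hall _) (((((LB_zero T ((skipEmb 3).trans (Function.Embedding.refl _))).upd 0 3 1 (le_of_eq hx04)).upd 1 3 3 (le_of_eq hx14)).upd 3 0 2 (le_of_eq hx40)).upd 3 1 1 (le_of_eq hx41)) ![1,2,0,2] (by decide) (by decide) 0 (by decide))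
  · -- 04=(2,1)
    rcases d14 with ⟨rfl, rfl⟩ | ⟨rfl, rfl⟩ | ⟨rfl, rfl⟩ | ⟨rfl, rfl⟩ | ⟨rfl, rfl⟩ | ⟨rfl, rfl⟩
    · -- 14=(0,0)
      rcases d24 with ⟨rfl, rfl⟩ | ⟨rfl, rfl⟩ | ⟨rfl, rfl⟩ | ⟨rfl, rfl⟩ | ⟨rfl, rfl⟩ | ⟨rfl, rfl⟩
      · -- 24=(0,0)
        rcases d34 with ⟨rfl, rfl⟩ | ⟨rfl, rfl⟩ | ⟨rfl, rfl⟩ | ⟨rfl, rfl⟩ | ⟨rfl, rfl⟩ | ⟨rfl, rfl⟩
        · -- 34=(0,0)
          exfalso; omega
        · -- 34=(1,1)
          exact False.elim (cert_false T ((skipEmb 2).trans (Function.Embedding.refl _)) (by norm_num) (fun _ => hall _) (((((((LB_zero T ((skipEmb 2).trans (Function.Embedding.refl _))).upd 0 3 2 (le_of_eq hx04)).upd 1 2 2 (le_of_eq hx13)).upd 2 1 1 (le_of_eq hx31)).upd 2 3 1 (le_of_eq hx34)).upd 3 0 1 (le_of_eq hx40)).upd 3 2 1 (le_of_eq hx43)) ![1,1,1,1] (by decide) (by decide) 0 (by decide))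
        · -- 34=(1,2)
          exact False.elim (cert_false T ((skipEmb 2).trans (Function.Embedding.refl _)) (by norm_num) (fun _ => hall _) (((((LB_zero T ((skipEmb 2).trans (Function.Embedding.refl _))).upd 1 2 2 (le_of_eq hx13)).upd 2 1 1 (le_of_eq hx31)).upd 2 3 1 (le_of_eq hx34)).upd 3 2 2 (le_of_eq hx43)) ![0,1,1,1] (by decide) (by decide) 1 (by decide))
        · -- 34=(2,1)
          exact False.elim (cert_false T ((skipEmb 2).trans (Function.Embedding.refl _)) (by norm_num) (fun _ => hall _) (((((LB_zero T ((skipEmb 2).trans (Function.Embedding.refl _))).upd 0 3 2 (le_of_eq hx04)).upd 2 3 2 (le_of_eq hx34)).upd 3 0 1 (le_of_eq hx40)).upd 3 2 1 (le_of_eq hx43)) ![1,0,1,1] (by decide) (by decide) 0 (by decide))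
        · -- 34=(1,3)
          exact False.elim (cert_false T ((skipEmb 2).trans (Function.Embedding.refl _)) (by norm_num) (fun _ => hall _) (((((LB_zero T ((skipEmb 2).trans (Function.Embedding.refl _))).upd 1 2 2 (le_of_eq hx13)).upd 2 1 1 (le_of_eq hx31)).upd 2 3 1 (le_of_eq hx34)).upd 3 2 3 (le_of_eq hx43)) ![0,1,1,1] (by decide) (by decide) 1 (by decide))
        · -- 34=(3,1)
          exact False.elim (cert_false T ((skipEmb 2).trans (Function.Embedding.refl _)) (by norm_num) (fun _ => hall _) (((((LB_zero T ((skipEmb 2).trans (Function.Embedding.refl _))).upd 0 3 2 (le_of_eq hx04)).upd 2 3 3 (le_of_eq hx34)).upd 3 0 1 (le_of_eq hx40)).upd 3 2 1 (le_of_eq hx43)) ![1,0,1,1] (by decide) (by decide) 0 (by decide))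
      · -- 24=(1,1)
        exact False.elim (cert_false T ((skipEmb 3).trans (Function.Embedding.refl _)) (by norm_num) (fun _ => hall _) (((((((LB_zero T ((skipEmb 3).trans (Function.Embedding.refl _))).upd 0 2 1 (le_of_eq hx02)).upd 0 3 2 (le_of_eq hx04)).upd 2 0 1 (le_of_eq hx20)).upd 2 3 1 (le_of_eq hx24)).upd 3 0 1 (le_of_eq hx40)).upd 3 2 1 (le_of_eq hx42)) ![1,0,1,1] (by decide) (by decide) 0 (by decide))
      · -- 24=(1,2)
        exact False.elim (cert_false T ((skipEmb 3).trans (Function.Embedding.refl _)) (by norm_num) (fun _ => hall _) (((((((LB_zero T ((skipEmb 3).trans (Function.Embedding.refl _))).upd 0 2 1 (le_of_eq hx02)).upd 0 3 2 (le_of_eq hx04)).upd 2 0 1 (le_of_eq hx20)).upd 2 3 1 (le_of_eq hx24)).upd 3 0 1 (le_of_eq hx40)).upd 3 2 2 (le_of_eq hx42)) ![1,0,1,1] (by decide) (by decide) 0 (by decide))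
      · -- 24=(2,1)
        exact False.elim (cert_false T ((skipEmb 3).trans (Function.Embedding.refl _)) (by norm_num) (fun _ => hall _) (((((((LB_zero T ((skipEmb 3).trans (Function.Embedding.refl _))).upd 0 2 1 (le_of_eq hx02)).upd 0 3 2 (le_of_eq hx04)).upd 2 0 1 (le_of_eq hx20)).upd 2 3 2 (le_of_eq hx24)).upd 3 0 1 (le_of_eq hx40)).upd 3 2 1 (le_of_eq hx42)) ![1,0,1,1] (by decide) (by decide) 0 (by decide))
      · -- 24=(1,3)
        exact False.elim (cert_false T ((skipEmb 3).trans (Function.Embedding.refl _)) (by norm_num) (fun _ => hall _) (((((((LB_zero T ((skipEmb 3).trans (Function.Embedding.refl _))).upd 0 2 1 (le_of_eq hx02)).upd 0 3 2 (le_of_eq hx04)).upd 2 0 1 (le_of_eq hx20)).upd 2 3 1 (le_of_eq hx24)).upd 3 0 1 (le_of_eq hx40)).upd 3 2 3 (le_of_eq hx42)) ![1,0,1,1] (by decide) (by decide) 0 (by decide))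
      · -- 24=(3,1)
        exact False.elim (cert_false T ((skipEmb 3).trans (Function.Embedding.refl _)) (by norm_num) (fun _ => hall _) (((((((LB_zero T ((skipEmb 3).trans (Function.Embedding.refl _))).upd 0 2 1 (le_of_eq hx02)).upd 0 3 2 (le_of_eq hx04)).upd 2 0 1 (le_of_eq hx20)).upd 2 3 3 (le_of_eq hx24)).upd 3 0 1 (le_of_eq hx40)).upd 3 2 1 (le_of_eq hx42)) ![1,0,1,1] (by decide) (by decide) 0 (by decide))
    · -- 14=(1,1)
      exact False.elim (cert_false T ((skipEmb 2).trans (Function.Embedding.refl _)) (by norm_num) (fun _ => hall _) (((((((LB_zero T ((skipEmb 2).trans (Function.Embedding.refl _))).upd 0 3 2 (le_of_eq hx04)).upd 1 2 2 (le_of_eq hx13)).upd 1 3 1 (le_of_eq hx14)).upd 2 1 1 (le_of_eq hx31)).upd 3 0 1 (le_of_eq hx40)).upd 3 1 1 (le_of_eq hx41)) ![2,2,1,2] (by decide) (by decide) 0 (by decide))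
    · -- 14=(1,2)
      exact False.elim (cert_false T ((skipEmb 3).trans (Function.Embedding.refl _)) (by norm_num) (fun _ => hall _) (((((LB_zero T ((skipEmb 3).trans (Function.Embedding.refl _))).upd 0 3 2 (le_of_eq hx04)).upd 1 3 1 (le_of_eq hx14)).upd 3 0 1 (le_of_eq hx40)).upd 3 1 2 (le_of_eq hx41)) ![2,1,0,2] (by decide) (by decide) 0 (by decide))
    · -- 14=(2,1)
      exact False.elim (cert_false T ((skipEmb 3).trans (Function.Embedding.refl _)) (by norm_num) (fun _ => hall _) (((((LB_zero T ((skipEmb 3).trans (Function.Embedding.refl _))).upd 0 3 2 (le_of_eq hx04)).upd 1 3 2 (le_of_eq hx14)).upd 3 0 1 (le_of_eq hx40)).upd 3 1 1 (le_of_eq hx41)) ![1,1,0,1] (by decide) (by decide) 0 (by decide))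
    · -- 14=(1,3)
      exact False.elim (cert_false T ((skipEmb 3).trans (Function.Embedding.refl _)) (by norm_num) (fun _ => hall _) (((((LB_zero T ((skipEmb 3).trans (Function.Embedding.refl _))).upd 0 3 2 (le_of_eq hx04)).upd 1 3 1 (le_of_eq hx14)).upd 3 0 1 (le_of_eq hx40)).upd 3 1 3 (le_of_eq hx41)) ![1,1,0,2] (by decide) (by decide) 0 (by decide))
    · -- 14=(3,1)
      exact False.elim (cert_false T ((skipEmb 3).trans (Function.Embedding.refl _)) (by norm_num) (fun _ => hall _) (((((LB_zero T ((skipEmb 3).trans (Function.Embedding.refl _))).upd 0 3 2 (le_of_eq hx04)).upd 1 3 3 (le_of_eq hx14)).upd 3 0 1 (le_of_eq hx40)).upd 3 1 1 (le_of_eq hx41)) ![1,1,0,1] (by decide) (by decide) 0 (by decide))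
  · -- 04=(1,3)
    exact False.elim (cert_false T ((skipEmb 3).trans (Function.Embedding.refl _)) (by norm_num) (fun _ => hall _) (((((LB_zero T ((skipEmb 3).trans (Function.Embedding.refl _))).upd 0 2 1 (le_of_eq hx02)).upd 0 3 1 (le_of_eq hx04)).upd 2 0 1 (le_of_eq hx20)).upd 3 0 3 (le_of_eq hx40)) ![2,0,1,3] (by decide) (by decide) 0 (by decide))
  · -- 04=(3,1)
    exact False.elim (cert_false T ((skipEmb 3).trans (Function.Embedding.refl _)) (by norm_num) (fun _ => hall _) (((((LB_zero T ((skipEmb 3).trans (Function.Embedding.refl _))).upd 0 2 1 (le_of_eq hx02)).upd 0 3 3 (le_of_eq hx04)).upd 2 0 1 (le_of_eq hx20)).upd 3 0 1 (le_of_eq hx40)) ![2,0,1,1] (by decide) (by decide) 0 (by decide))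

theorem case220 (T : NumericalType 5) (hall : ∀ i, T.IsMinusTwo i) (d : SData T)
    (h01 : N T (Function.Embedding.refl _) 0 1 = 0) (h10 : N T (Function.Embedding.refl _) 1 0 = 0)
    (h02 : N T (Function.Embedding.refl _) 0 2 = 1) (h20 : N T (Function.Embedding.refl _) 2 0 = 1)
    (h12 : N T (Function.Embedding.refl _) 1 2 = 0) (h21 : N T (Function.Embedding.refl _) 2 1 = 0)
    (h03 : N T (Function.Embedding.refl _) 0 3 = 0) (h30 : N T (Function.Embedding.refl _) 3 0 = 0)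
    (h13 : N T (Function.Embedding.refl _) 1 3 = 2) (h31 : N T (Function.Embedding.refl _) 3 1 = 1)
    (h23 : N T (Function.Embedding.refl _) 2 3 = 1) (h32 : N T (Function.Embedding.refl _) 3 2 = 1) :
    Goal T := by
  unfold Goal
  have hd := d
  obtain ⟨x01, x02, x03, x04, x10, x12, x13, x14, x20, x21, x23, x24, x30, x31, x32, x34, x40, x41, x42, x43, hx01, hx02, hx03, hx04, hx10, hx12, hx13, hx14, hx20, hx21, hx23, hx24, hx30, hx31, hx32, hx34, hx40, hx41, hx42, hx43, hw0, hm0, hw1, hm1, hw2, hm2, hw3, hm3, hw4, hm4, a00, a01, a02, a03, a04, a11, a10, a12, a13, a14, a22, a20, a21, a23, a24, a33, a30, a31, a32, a34, a44, a40, a41, a42, a43, wN01, wN02, wN12, wN03, wN13, wN23, wN04, wN14, wN24, wN34, e0, e1, e2, e3, e4, d01, d02, d12, d03, d13, d23, d04, d14, d24, d34⟩ := d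
  obtain rfl : x01 = 0 := hx01.trans h01
  obtain rfl : x10 = 0 := hx10.trans h10
  obtain rfl : x02 = 1 := hx02.trans h02
  obtain rfl : x20 = 1 := hx20.trans h20
  obtain rfl : x12 = 0 := hx12.trans h12
  obtain rfl : x21 = 0 := hx21.trans h21
  obtain rfl : x03 = 0 := hx03.trans h03
  obtain rfl : x30 = 0 := hx30.trans h30
  obtain rfl : x13 = 2 := hx13.trans h13
  obtain rfl : x31 = 1 := hx31.trans h31
  obtain rfl : x23 = 1 := hx23.trans h23
  obtain rfl : x32 = 1 := hx32.trans h32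
  rcases d04 with ⟨rfl, rfl⟩ | ⟨rfl, rfl⟩ | ⟨rfl, rfl⟩ | ⟨rfl, rfl⟩ | ⟨rfl, rfl⟩ | ⟨rfl, rfl⟩
  · -- 04=(0,0)
    rcases d14 with ⟨rfl, rfl⟩ | ⟨rfl, rfl⟩ | ⟨rfl, rfl⟩ | ⟨rfl, rfl⟩ | ⟨rfl, rfl⟩ | ⟨rfl, rfl⟩
    · -- 14=(0,0)
      rcases d24 with ⟨rfl, rfl⟩ | ⟨rfl, rfl⟩ | ⟨rfl, rfl⟩ | ⟨rfl, rfl⟩ | ⟨rfl, rfl⟩ | ⟨rfl, rfl⟩
      · -- 24=(0,0)
        rcases d34 with ⟨rfl, rfl⟩ | ⟨rfl, rfl⟩ | ⟨rfl, rfl⟩ | ⟨rfl, rfl⟩ | ⟨rfl, rfl⟩ | ⟨rfl, rfl⟩
        · -- 34=(0,0)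
          exfalso; omega
        · -- 34=(1,1)
          exact False.elim (cert_false T ((skipEmb 0).trans (Function.Embedding.refl _)) (by norm_num) (fun _ => hall _) (((((((LB_zero T ((skipEmb 0).trans (Function.Embedding.refl _))).upd 0 2 2 (le_of_eq hx13)).upd 1 2 1 (le_of_eq hx23)).upd 2 0 1 (le_of_eq hx31)).upd 2 1 1 (le_of_eq hx32)).upd 2 3 1 (le_of_eq hx34)).upd 3 2 1 (le_of_eq hx43)) ![2,1,2,1] (by decide) (by decide) 0 (by decide))
        · -- 34=(1,2)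
          exact False.elim (cert_false T ((skipEmb 2).trans (Function.Embedding.refl _)) (by norm_num) (fun _ => hall _) (((((LB_zero T ((skipEmb 2).trans (Function.Embedding.refl _))).upd 1 2 2 (le_of_eq hx13)).upd 2 1 1 (le_of_eq hx31)).upd 2 3 1 (le_of_eq hx34)).upd 3 2 2 (le_of_eq hx43)) ![0,1,1,1] (by decide) (by decide) 1 (by decide))
        · -- 34=(2,1)
          exact False.elim (cert_false T ((skipEmb 2).trans (Function.Embedding.refl _)) (by norm_num) (fun _ => hall _) (((((LB_zero T ((skipEmb 2).trans (Function.Embedding.refl _))).upd 1 2 2 (le_of_eq hx13)).upd 2 1 1 (le_of_eq hx31)).upd 2 3 2 (le_of_eq hx34)).upd 3 2 1 (le_of_eq hx43)) ![0,2,2,1] (by decide) (by decide) 1 (by decide))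
        · -- 34=(1,3)
          exact False.elim (cert_false T ((skipEmb 2).trans (Function.Embedding.refl _)) (by norm_num) (fun _ => hall _) (((((LB_zero T ((skipEmb 2).trans (Function.Embedding.refl _))).upd 1 2 2 (le_of_eq hx13)).upd 2 1 1 (le_of_eq hx31)).upd 2 3 1 (le_of_eq hx34)).upd 3 2 3 (le_of_eq hx43)) ![0,1,1,1] (by decide) (by decide) 1 (by decide))
        · -- 34=(3,1)
          exact False.elim (cert_false T ((skipEmb 2).trans (Function.Embedding.refl _)) (by norm_num) (fun _ => hall _) (((((LB_zero T ((skipEmb 2).trans (Function.Embedding.refl _))).upd 1 2 2 (le_of_eq hx13)).upd 2 1 1 (le_of_eq hx31)).upd 2 3 3 (le_of_eq hx34)).upd 3 2 1 (le_of_eq hx43)) ![0,1,2,1] (by decide) (by decide) 1 (by decide))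
      · -- 24=(1,1)
        rcases d34 with ⟨rfl, rfl⟩ | ⟨rfl, rfl⟩ | ⟨rfl, rfl⟩ | ⟨rfl, rfl⟩ | ⟨rfl, rfl⟩ | ⟨rfl, rfl⟩
        · -- 34=(0,0)
          refine ⟨(⟨![1, 3, 2, 0, 4], ![3, 0, 2, 1, 4], by decide, by decide⟩ : Equiv.Perm (Fin 5)), T.m 0, T.w 1, Or.inr (Or.inr (Or.inr (Or.inr (Or.inr (Or.inr (Or.inr (Or.inr (?_))))))))⟩
          show T.m 1 = 2 * T.m 0 ∧ T.m 3 = 2 * T.m 0 ∧ T.m 2 = 2 * T.m 0 ∧ T.m 0 = T.m 0 ∧ T.m 4 = T.m 0 ∧ T.w 1 = T.w 1 ∧ T.w 3 = 2 * T.w 1 ∧ T.w 2 = 2 * T.w 1 ∧ T.w 0 = 2 * T.w 1 ∧ T.w 4 = 2 * T.w 1 ∧ T.a 1 1 = -2 * T.w 1 ∧ T.a 1 3 = 2 * T.w 1 ∧ T.a 1 2 = 0 ∧ T.a 1 0 = 0 ∧ T.a 1 4 = 0 ∧ T.a 3 3 = -4 * T.w 1 ∧ T.a 3 2 = 2 * T.w 1 ∧ T.a 3 0 = 0 ∧ T.a 3 4 = 0 ∧ T.a 2 2 = -4 * T.w 1 ∧ T.a 2 0 = 2 * T.w 1 ∧ T.a 2 4 = 2 * T.w 1 ∧ T.a 0 0 = -4 * T.w 1 ∧ T.a 0 4 = 0 ∧ T.a 4 4 = -4 * T.w 1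
          refine ⟨?_, ?_, ?_, ?_, ?_, ?_, ?_, ?_, ?_, ?_, ?_, ?_, ?_, ?_, ?_, ?_, ?_, ?_, ?_, ?_, ?_, ?_, ?_, ?_, ?_⟩ <;> omega
        · -- 34=(1,1)
          exact False.elim (cert_false T ((skipEmb 1).trans (Function.Embedding.refl _)) (by norm_num) (fun _ => hall _) (((((((LB_zero T ((skipEmb 1).trans (Function.Embedding.refl _))).upd 1 2 1 (le_of_eq hx23)).upd 1 3 1 (le_of_eq hx24)).upd 2 1 1 (le_of_eq hx32)).upd 2 3 1 (le_of_eq hx34)).upd 3 1 1 (le_of_eq hx42)).upd 3 2 1 (le_of_eq hx43)) ![0,1,1,1] (by decide) (by decide) 1 (by decide))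
        · -- 34=(1,2)
          exact False.elim (cert_false T ((skipEmb 2).trans (Function.Embedding.refl _)) (by norm_num) (fun _ => hall _) (((((LB_zero T ((skipEmb 2).trans (Function.Embedding.refl _))).upd 1 2 2 (le_of_eq hx13)).upd 2 1 1 (le_of_eq hx31)).upd 2 3 1 (le_of_eq hx34)).upd 3 2 2 (le_of_eq hx43)) ![0,1,1,1] (by decide) (by decide) 1 (by decide))
        · -- 34=(2,1)
          exact False.elim (cert_false T ((skipEmb 2).trans (Function.Embedding.refl _)) (by norm_num) (fun _ => hall _) (((((LB_zero T ((skipEmb 2).trans (Function.Embedding.refl _))).upd 1 2 2 (le_of_eq hx13)).upd 2 1 1 (le_of_eq hx31)).upd 2 3 2 (le_of_eq hx34)).upd 3 2 1 (le_of_eq hx43)) ![0,2,2,1] (by decide) (by decide) 1 (by decide))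
        · -- 34=(1,3)
          exact False.elim (cert_false T ((skipEmb 2).trans (Function.Embedding.refl _)) (by norm_num) (fun _ => hall _) (((((LB_zero T ((skipEmb 2).trans (Function.Embedding.refl _))).upd 1 2 2 (le_of_eq hx13)).upd 2 1 1 (le_of_eq hx31)).upd 2 3 1 (le_of_eq hx34)).upd 3 2 3 (le_of_eq hx43)) ![0,1,1,1] (by decide) (by decide) 1 (by decide))
        · -- 34=(3,1)
          exact False.elim (cert_false T ((skipEmb 2).trans (Function.Embedding.refl _)) (by norm_num) (fun _ => hall _) (((((LB_zero T ((skipEmb 2).trans (Function.Embedding.refl _))).upd 1 2 2 (le_of_eq hx13)).upd 2 1 1 (le_of_eq hx31)).upd 2 3 3 (le_of_eq hx34)).upd 3 2 1 (le_of_eq hx43)) ![0,1,2,1] (by decide) (by decide) 1 (by decide))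
      · -- 24=(1,2)
        exact False.elim (cert_false T ((skipEmb 1).trans (Function.Embedding.refl _)) (by norm_num) (fun _ => hall _) (((((((LB_zero T ((skipEmb 1).trans (Function.Embedding.refl _))).upd 0 1 1 (le_of_eq hx02)).upd 1 0 1 (le_of_eq hx20)).upd 1 2 1 (le_of_eq hx23)).upd 1 3 1 (le_of_eq hx24)).upd 2 1 1 (le_of_eq hx32)).upd 3 1 2 (le_of_eq hx42)) ![1,2,1,2] (by decide) (by decide) 0 (by decide))
      · -- 24=(2,1)
        exact False.elim (cert_false T ((skipEmb 1).trans (Function.Embedding.refl _)) (by norm_num) (fun _ => hall _) (((((((LB_zero T ((skipEmb 1).trans (Function.Embedding.refl _))).upd 0 1 1 (le_of_eq hx02)).upd 1 0 1 (le_of_eq hx20)).upd 1 2 1 (le_of_eq hx23)).upd 1 3 2 (le_of_eq hx24)).upd 2 1 1 (le_of_eq hx32)).upd 3 1 1 (le_of_eq hx42)) ![1,2,1,1] (by decide) (by decide) 0 (by decide))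
      · -- 24=(1,3)
        exact False.elim (cert_false T ((skipEmb 3).trans (Function.Embedding.refl _)) (by norm_num) (fun _ => hall _) (((((LB_zero T ((skipEmb 3).trans (Function.Embedding.refl _))).upd 0 2 1 (le_of_eq hx02)).upd 2 0 1 (le_of_eq hx20)).upd 2 3 1 (le_of_eq hx24)).upd 3 2 3 (le_of_eq hx42)) ![1,0,2,3] (by decide) (by decide) 0 (by decide))
      · -- 24=(3,1)
        exact False.elim (cert_false T ((skipEmb 3).trans (Function.Embedding.refl _)) (by norm_num) (fun _ => hall _) (((((LB_zero T ((skipEmb 3).trans (Function.Embedding.refl _))).upd 0 2 1 (le_of_eq hx02)).upd 2 0 1 (le_of_eq hx20)).upd 2 3 3 (le_of_eq hx24)).upd 3 2 1 (le_of_eq hx42)) ![1,0,2,1] (by decide) (by decide) 0 (by decide))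
    · -- 14=(1,1)
      rcases d24 with ⟨rfl, rfl⟩ | ⟨rfl, rfl⟩ | ⟨rfl, rfl⟩ | ⟨rfl, rfl⟩ | ⟨rfl, rfl⟩ | ⟨rfl, rfl⟩
      · -- 24=(0,0)
        rcases d34 with ⟨rfl, rfl⟩ | ⟨rfl, rfl⟩ | ⟨rfl, rfl⟩ | ⟨rfl, rfl⟩ | ⟨rfl, rfl⟩ | ⟨rfl, rfl⟩
        · -- 34=(0,0)
          refine ⟨(⟨![0, 2, 3, 1, 4], ![0, 3, 1, 2, 4], by decide, by decide⟩ : Equiv.Perm (Fin 5)), T.m 0, T.w 1, Or.inr (Or.inr (Or.inl ?_))⟩
          show T.m 0 = T.m 0 ∧ T.m 2 = 2 * T.m 0 ∧ T.m 3 = 3 * T.m 0 ∧ T.m 1 = 4 * T.m 0 ∧ T.m 4 = 2 * T.m 0 ∧ T.w 0 = 2 * T.w 1 ∧ T.w 2 = 2 * T.w 1 ∧ T.w 3 = 2 * T.w 1 ∧ T.w 1 = T.w 1 ∧ T.w 4 = T.w 1 ∧ T.a 0 0 = -4 * T.w 1 ∧ T.a 0 2 = 2 * T.w 1 ∧ T.a 0 3 = 0 ∧ T.a 0 1 = 0 ∧ T.a 0 4 = 0 ∧ T.a 2 2 = -4 * T.w 1 ∧ T.a 2 3 = 2 * T.w 1 ∧ T.a 2 1 = 0 ∧ T.a 2 4 = 0 ∧ T.a 3 3 = -4 * T.w 1 ∧ T.a 3 1 = 2 * T.w 1 ∧ T.a 3 4 = 0 ∧ T.a 1 1 = -2 * T.w 1 ∧ T.a 1 4 = T.w 1 ∧ T.a 4 4 = -2 * T.w 1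
          refine ⟨?_, ?_, ?_, ?_, ?_, ?_, ?_, ?_, ?_, ?_, ?_, ?_, ?_, ?_, ?_, ?_, ?_, ?_, ?_, ?_, ?_, ?_, ?_, ?_, ?_⟩ <;> omega
        · -- 34=(1,1)
          exact False.elim (cert_false T ((skipEmb 2).trans (Function.Embedding.refl _)) (by norm_num) (fun _ => hall _) (((((((LB_zero T ((skipEmb 2).trans (Function.Embedding.refl _))).upd 1 2 2 (le_of_eq hx13)).upd 1 3 1 (le_of_eq hx14)).upd 2 1 1 (le_of_eq hx31)).upd 2 3 1 (le_of_eq hx34)).upd 3 1 1 (le_of_eq hx41)).upd 3 2 1 (le_of_eq hx43)) ![0,1,1,1] (by decide) (by decide) 1 (by decide))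
        · -- 34=(1,2)
          exact False.elim (cert_false T ((skipEmb 2).trans (Function.Embedding.refl _)) (by norm_num) (fun _ => hall _) (((((((LB_zero T ((skipEmb 2).trans (Function.Embedding.refl _))).upd 1 2 2 (le_of_eq hx13)).upd 1 3 1 (le_of_eq hx14)).upd 2 1 1 (le_of_eq hx31)).upd 2 3 1 (le_of_eq hx34)).upd 3 1 1 (le_of_eq hx41)).upd 3 2 2 (le_of_eq hx43)) ![0,1,1,1] (by decide) (by decide) 1 (by decide))
        · -- 34=(2,1)
          exact False.elim (cert_false T ((skipEmb 2).trans (Function.Embedding.refl _)) (by norm_num) (fun _ => hall _) (((((((LB_zero T ((skipEmb 2).trans (Function.Embedding.refl _))).upd 1 2 2 (le_of_eq hx13)).upd 1 3 1 (le_of_eq hx14)).upd 2 1 1 (le_of_eq hx31)).upd 2 3 2 (le_of_eq hx34)).upd 3 1 1 (le_of_eq hx41)).upd 3 2 1 (le_of_eq hx43)) ![0,1,1,1] (by decide) (by decide) 1 (by decide))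
        · -- 34=(1,3)
          exact False.elim (cert_false T ((skipEmb 2).trans (Function.Embedding.refl _)) (by norm_num) (fun _ => hall _) (((((((LB_zero T ((skipEmb 2).trans (Function.Embedding.refl _))).upd 1 2 2 (le_of_eq hx13)).upd 1 3 1 (le_of_eq hx14)).upd 2 1 1 (le_of_eq hx31)).upd 2 3 1 (le_of_eq hx34)).upd 3 1 1 (le_of_eq hx41)).upd 3 2 3 (le_of_eq hx43)) ![0,1,1,1] (by decide) (by decide) 1 (by decide))
        · -- 34=(3,1)
          exact False.elim (cert_false T ((skipEmb 2).trans (Function.Embedding.refl _)) (by norm_num) (fun _ => hall _) (((((((LB_zero T ((skipEmb 2).trans (Function.Embedding.refl _))).upd 1 2 2 (le_of_eq hx13)).upd 1 3 1 (le_of_eq hx14)).upd 2 1 1 (le_of_eq hx31)).upd 2 3 3 (le_of_eq hx34)).upd 3 1 1 (le_of_eq hx41)).upd 3 2 1 (le_of_eq hx43)) ![0,1,1,1] (by decide) (by decide) 1 (by decide))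
      · -- 24=(1,1)
        exact False.elim (cert_false T ((skipEmb 0).trans (Function.Embedding.refl _)) (by norm_num) (fun _ => hall _) (((((((((LB_zero T ((skipEmb 0).trans (Function.Embedding.refl _))).upd 0 2 2 (le_of_eq hx13)).upd 0 3 1 (le_of_eq hx14)).upd 1 2 1 (le_of_eq hx23)).upd 1 3 1 (le_of_eq hx24)).upd 2 0 1 (le_of_eq hx31)).upd 2 1 1 (le_of_eq hx32)).upd 3 0 1 (le_of_eq hx41)).upd 3 1 1 (le_of_eq hx42)) ![1,1,1,1] (by decide) (by decide) 0 (by decide))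
      · -- 24=(1,2)
        exact False.elim (cert_false T ((skipEmb 1).trans (Function.Embedding.refl _)) (by norm_num) (fun _ => hall _) (((((((LB_zero T ((skipEmb 1).trans (Function.Embedding.refl _))).upd 0 1 1 (le_of_eq hx02)).upd 1 0 1 (le_of_eq hx20)).upd 1 2 1 (le_of_eq hx23)).upd 1 3 1 (le_of_eq hx24)).upd 2 1 1 (le_of_eq hx32)).upd 3 1 2 (le_of_eq hx42)) ![1,2,1,2] (by decide) (by decide) 0 (by decide))
      · -- 24=(2,1)
        exact False.elim (cert_false T ((skipEmb 1).trans (Function.Embedding.refl _)) (by norm_num) (fun _ => hall _) (((((((LB_zero T ((skipEmb 1).trans (Function.Embedding.refl _))).upd 0 1 1 (le_of_eq hx02)).upd 1 0 1 (le_of_eq hx20)).upd 1 2 1 (le_of_eq hx23)).upd 1 3 2 (le_of_eq hx24)).upd 2 1 1 (le_of_eq hx32)).upd 3 1 1 (le_of_eq hx42)) ![1,2,1,1] (by decide) (by decide) 0 (by decide))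
      · -- 24=(1,3)
        exact False.elim (cert_false T ((skipEmb 3).trans (Function.Embedding.refl _)) (by norm_num) (fun _ => hall _) (((((LB_zero T ((skipEmb 3).trans (Function.Embedding.refl _))).upd 1 3 1 (le_of_eq hx14)).upd 2 3 1 (le_of_eq hx24)).upd 3 1 1 (le_of_eq hx41)).upd 3 2 3 (le_of_eq hx42)) ![0,1,1,2] (by decide) (by decide) 1 (by decide))
      · -- 24=(3,1)
        exact False.elim (cert_false T ((skipEmb 3).trans (Function.Embedding.refl _)) (by norm_num) (fun _ => hall _) (((((LB_zero T ((skipEmb 3).trans (Function.Embedding.refl _))).upd 0 2 1 (le_of_eq hx02)).upd 2 0 1 (le_of_eq hx20)).upd 2 3 3 (le_of_eq hx24)).upd 3 2 1 (le_of_eq hx42)) ![1,0,2,1] (by decide) (by decide) 0 (by decide))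
    · -- 14=(1,2)
      exact False.elim (cert_false T ((skipEmb 2).trans (Function.Embedding.refl _)) (by norm_num) (fun _ => hall _) (((((LB_zero T ((skipEmb 2).trans (Function.Embedding.refl _))).upd 1 2 2 (le_of_eq hx13)).upd 1 3 1 (le_of_eq hx14)).upd 2 1 1 (le_of_eq hx31)).upd 3 1 2 (le_of_eq hx41)) ![0,2,1,2] (by decide) (by decide) 1 (by decide))
    · -- 14=(2,1)
      exact False.elim (cert_false T ((skipEmb 2).trans (Function.Embedding.refl _)) (by norm_num) (fun _ => hall _) (((((LB_zero T ((skipEmb 2).trans (Function.Embedding.refl _))).upd 1 2 2 (le_of_eq hx13)).upd 1 3 2 (le_of_eq hx14)).upd 2 1 1 (le_of_eq hx31)).upd 3 1 1 (le_of_eq hx41)) ![0,2,1,1] (by decide) (by decide) 1 (by decide))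
    · -- 14=(1,3)
      exact False.elim (cert_false T ((skipEmb 2).trans (Function.Embedding.refl _)) (by norm_num) (fun _ => hall _) (((((LB_zero T ((skipEmb 2).trans (Function.Embedding.refl _))).upd 1 2 2 (le_of_eq hx13)).upd 1 3 1 (le_of_eq hx14)).upd 2 1 1 (le_of_eq hx31)).upd 3 1 3 (le_of_eq hx41)) ![0,2,1,2] (by decide) (by decide) 1 (by decide))
    · -- 14=(3,1)
      exact False.elim (cert_false T ((skipEmb 2).trans (Function.Embedding.refl _)) (by norm_num) (fun _ => hall _) (((((LB_zero T ((skipEmb 2).trans (Function.Embedding.refl _))).upd 1 2 2 (le_of_eq hx13)).upd 1 3 3 (le_of_eq hx14)).upd 2 1 1 (le_of_eq hx31)).upd 3 1 1 (le_of_eq hx41)) ![0,2,1,1] (by decide) (by decide) 1 (by decide))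
  · -- 04=(1,1)
    rcases d14 with ⟨rfl, rfl⟩ | ⟨rfl, rfl⟩ | ⟨rfl, rfl⟩ | ⟨rfl, rfl⟩ | ⟨rfl, rfl⟩ | ⟨rfl, rfl⟩
    · -- 14=(0,0)
      rcases d24 with ⟨rfl, rfl⟩ | ⟨rfl, rfl⟩ | ⟨rfl, rfl⟩ | ⟨rfl, rfl⟩ | ⟨rfl, rfl⟩ | ⟨rfl, rfl⟩
      · -- 24=(0,0)
        rcases d34 with ⟨rfl, rfl⟩ | ⟨rfl, rfl⟩ | ⟨rfl, rfl⟩ | ⟨rfl, rfl⟩ | ⟨rfl, rfl⟩ | ⟨rfl, rfl⟩
        · -- 34=(0,0)
          exfalso; omega
        · -- 34=(1,1)
          exact False.elim (cert_false T ((skipEmb 1).trans (Function.Embedding.refl _)) (by norm_num) (fun _ => hall _) (((((((((LB_zero T ((skipEmb 1).trans (Function.Embedding.refl _))).upd 0 1 1 (le_of_eq hx02)).upd 0 3 1 (le_of_eq hx04)).upd 1 0 1 (le_of_eq hx20)).upd 1 2 1 (le_of_eq hx23)).upd 2 1 1 (le_of_eq hx32)).upd 2 3 1 (le_of_eq hx34)).upd 3 0 1 (le_of_eq hx40)).upd 3 2 1 (le_of_eq hx43)) ![1,1,1,1] (by decide) (by decide) 0 (by decide))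
        · -- 34=(1,2)
          exact False.elim (cert_false T ((skipEmb 2).trans (Function.Embedding.refl _)) (by norm_num) (fun _ => hall _) (((((LB_zero T ((skipEmb 2).trans (Function.Embedding.refl _))).upd 1 2 2 (le_of_eq hx13)).upd 2 1 1 (le_of_eq hx31)).upd 2 3 1 (le_of_eq hx34)).upd 3 2 2 (le_of_eq hx43)) ![0,1,1,1] (by decide) (by decide) 1 (by decide))
        · -- 34=(2,1)
          exact False.elim (cert_false T ((skipEmb 2).trans (Function.Embedding.refl _)) (by norm_num) (fun _ => hall _) (((((LB_zero T ((skipEmb 2).trans (Function.Embedding.refl _))).upd 1 2 2 (le_of_eq hx13)).upd 2 1 1 (le_of_eq hx31)).upd 2 3 2 (le_of_eq hx34)).upd 3 2 1 (le_of_eq hx43)) ![0,2,2,1] (by decide) (by decide) 1 (by decide))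
        · -- 34=(1,3)
          exact False.elim (cert_false T ((skipEmb 2).trans (Function.Embedding.refl _)) (by norm_num) (fun _ => hall _) (((((LB_zero T ((skipEmb 2).trans (Function.Embedding.refl _))).upd 1 2 2 (le_of_eq hx13)).upd 2 1 1 (le_of_eq hx31)).upd 2 3 1 (le_of_eq hx34)).upd 3 2 3 (le_of_eq hx43)) ![0,1,1,1] (by decide) (by decide) 1 (by decide))
        · -- 34=(3,1)
          exact False.elim (cert_false T ((skipEmb 2).trans (Function.Embedding.refl _)) (by norm_num) (fun _ => hall _) (((((LB_zero T ((skipEmb 2).trans (Function.Embedding.refl _))).upd 1 2 2 (le_of_eq hx13)).upd 2 1 1 (le_of_eq hx31)).upd 2 3 3 (le_of_eq hx34)).upd 3 2 1 (le_of_eq hx43)) ![0,1,2,1] (by decide) (by decide) 1 (by decide))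
      · -- 24=(1,1)
        exact False.elim (cert_false T ((skipEmb 3).trans (Function.Embedding.refl _)) (by norm_num) (fun _ => hall _) (((((((LB_zero T ((skipEmb 3).trans (Function.Embedding.refl _))).upd 0 2 1 (le_of_eq hx02)).upd 0 3 1 (le_of_eq hx04)).upd 2 0 1 (le_of_eq hx20)).upd 2 3 1 (le_of_eq hx24)).upd 3 0 1 (le_of_eq hx40)).upd 3 2 1 (le_of_eq hx42)) ![1,0,1,1] (by decide) (by decide) 0 (by decide))
      · -- 24=(1,2)
        exact False.elim (cert_false T ((skipEmb 3).trans (Function.Embedding.refl _)) (by norm_num) (fun _ => hall _) (((((((LB_zero T ((skipEmb 3).trans (Function.Embedding.refl _))).upd 0 2 1 (le_of_eq hx02)).upd 0 3 1 (le_of_eq hx04)).upd 2 0 1 (le_of_eq hx20)).upd 2 3 1 (le_of_eq hx24)).upd 3 0 1 (le_of_eq hx40)).upd 3 2 2 (le_of_eq hx42)) ![1,0,1,1] (by decide) (by decide) 0 (by decide))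
      · -- 24=(2,1)
        exact False.elim (cert_false T ((skipEmb 3).trans (Function.Embedding.refl _)) (by norm_num) (fun _ => hall _) (((((((LB_zero T ((skipEmb 3).trans (Function.Embedding.refl _))).upd 0 2 1 (le_of_eq hx02)).upd 0 3 1 (le_of_eq hx04)).upd 2 0 1 (le_of_eq hx20)).upd 2 3 2 (le_of_eq hx24)).upd 3 0 1 (le_of_eq hx40)).upd 3 2 1 (le_of_eq hx42)) ![1,0,1,1] (by decide) (by decide) 0 (by decide))
      · -- 24=(1,3)
        exact False.elim (cert_false T ((skipEmb 3).trans (Function.Embedding.refl _)) (by norm_num) (fun _ => hall _) (((((((LB_zero T ((skipEmb 3).trans (Function.Embedding.refl _))).upd 0 2 1 (le_of_eq hx02)).upd 0 3 1 (le_of_eq hx04)).upd 2 0 1 (le_of_eq hx20)).upd 2 3 1 (le_of_eq hx24)).upd 3 0 1 (le_of_eq hx40)).upd 3 2 3 (le_of_eq hx42)) ![1,0,1,1] (by decide) (by decide) 0 (by decide))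
      · -- 24=(3,1)
        exact False.elim (cert_false T ((skipEmb 3).trans (Function.Embedding.refl _)) (by norm_num) (fun _ => hall _) (((((((LB_zero T ((skipEmb 3).trans (Function.Embedding.refl _))).upd 0 2 1 (le_of_eq hx02)).upd 0 3 1 (le_of_eq hx04)).upd 2 0 1 (le_of_eq hx20)).upd 2 3 3 (le_of_eq hx24)).upd 3 0 1 (le_of_eq hx40)).upd 3 2 1 (le_of_eq hx42)) ![1,0,1,1] (by decide) (by decide) 0 (by decide))
    · -- 14=(1,1)
      rcases d24 with ⟨rfl, rfl⟩ | ⟨rfl, rfl⟩ | ⟨rfl, rfl⟩ | ⟨rfl, rfl⟩ | ⟨rfl, rfl⟩ | ⟨rfl, rfl⟩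
      · -- 24=(0,0)
        rcases d34 with ⟨rfl, rfl⟩ | ⟨rfl, rfl⟩ | ⟨rfl, rfl⟩ | ⟨rfl, rfl⟩ | ⟨rfl, rfl⟩ | ⟨rfl, rfl⟩
        · -- 34=(0,0)
          exfalso; omega
        · -- 34=(1,1)
          exact False.elim (cert_false T ((skipEmb 2).trans (Function.Embedding.refl _)) (by norm_num) (fun _ => hall _) (((((((LB_zero T ((skipEmb 2).trans (Function.Embedding.refl _))).upd 1 2 2 (le_of_eq hx13)).upd 1 3 1 (le_of_eq hx14)).upd 2 1 1 (le_of_eq hx31)).upd 2 3 1 (le_of_eq hx34)).upd 3 1 1 (le_of_eq hx41)).upd 3 2 1 (le_of_eq hx43)) ![0,1,1,1] (by decide) (by decide) 1 (by decide))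
        · -- 34=(1,2)
          exact False.elim (cert_false T ((skipEmb 2).trans (Function.Embedding.refl _)) (by norm_num) (fun _ => hall _) (((((((LB_zero T ((skipEmb 2).trans (Function.Embedding.refl _))).upd 1 2 2 (le_of_eq hx13)).upd 1 3 1 (le_of_eq hx14)).upd 2 1 1 (le_of_eq hx31)).upd 2 3 1 (le_of_eq hx34)).upd 3 1 1 (le_of_eq hx41)).upd 3 2 2 (le_of_eq hx43)) ![0,1,1,1] (by decide) (by decide) 1 (by decide))
        · -- 34=(2,1)
          exact False.elim (cert_false T ((skipEmb 2).trans (Function.Embedding.refl _)) (by norm_num) (fun _ => hall _) (((((((LB_zero T ((skipEmb 2).trans (Function.Embedding.refl _))).upd 1 2 2 (le_of_eq hx13)).upd 1 3 1 (le_of_eq hx14)).upd 2 1 1 (le_of_eq hx31)).upd 2 3 2 (le_of_eq hx34)).upd 3 1 1 (le_of_eq hx41)).upd 3 2 1 (le_of_eq hx43)) ![0,1,1,1] (by decide) (by decide) 1 (by decide))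
        · -- 34=(1,3)
          exact False.elim (cert_false T ((skipEmb 2).trans (Function.Embedding.refl _)) (by norm_num) (fun _ => hall _) (((((((LB_zero T ((skipEmb 2).trans (Function.Embedding.refl _))).upd 1 2 2 (le_of_eq hx13)).upd 1 3 1 (le_of_eq hx14)).upd 2 1 1 (le_of_eq hx31)).upd 2 3 1 (le_of_eq hx34)).upd 3 1 1 (le_of_eq hx41)).upd 3 2 3 (le_of_eq hx43)) ![0,1,1,1] (by decide) (by decide) 1 (by decide))
        · -- 34=(3,1)
          exact False.elim (cert_false T ((skipEmb 2).trans (Function.Embedding.refl _)) (by norm_num) (fun _ => hall _) (((((((LB_zero T ((skipEmb 2).trans (Function.Embedding.refl _))).upd 1 2 2 (le_of_eq hx13)).upd 1 3 1 (le_of_eq hx14)).upd 2 1 1 (le_of_eq hx31)).upd 2 3 3 (le_of_eq hx34)).upd 3 1 1 (le_of_eq hx41)).upd 3 2 1 (le_of_eq hx43)) ![0,1,1,1] (by decide) (by decide) 1 (by decide))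
      · -- 24=(1,1)
        exact False.elim (cert_false T ((skipEmb 3).trans (Function.Embedding.refl _)) (by norm_num) (fun _ => hall _) (((((((LB_zero T ((skipEmb 3).trans (Function.Embedding.refl _))).upd 0 2 1 (le_of_eq hx02)).upd 0 3 1 (le_of_eq hx04)).upd 2 0 1 (le_of_eq hx20)).upd 2 3 1 (le_of_eq hx24)).upd 3 0 1 (le_of_eq hx40)).upd 3 2 1 (le_of_eq hx42)) ![1,0,1,1] (by decide) (by decide) 0 (by decide))
      · -- 24=(1,2)
        exact False.elim (cert_false T ((skipEmb 3).trans (Function.Embedding.refl _)) (by norm_num) (fun _ => hall _) (((((((LB_zero T ((skipEmb 3).trans (Function.Embedding.refl _))).upd 0 2 1 (le_of_eq hx02)).upd 0 3 1 (le_of_eq hx04)).upd 2 0 1 (le_of_eq hx20)).upd 2 3 1 (le_of_eq hx24)).upd 3 0 1 (le_of_eq hx40)).upd 3 2 2 (le_of_eq hx42)) ![1,0,1,1] (by decide) (by decide) 0 (by decide))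
      · -- 24=(2,1)
        exact False.elim (cert_false T ((skipEmb 3).trans (Function.Embedding.refl _)) (by norm_num) (fun _ => hall _) (((((((LB_zero T ((skipEmb 3).trans (Function.Embedding.refl _))).upd 0 2 1 (le_of_eq hx02)).upd 0 3 1 (le_of_eq hx04)).upd 2 0 1 (le_of_eq hx20)).upd 2 3 2 (le_of_eq hx24)).upd 3 0 1 (le_of_eq hx40)).upd 3 2 1 (le_of_eq hx42)) ![1,0,1,1] (by decide) (by decide) 0 (by decide))
      · -- 24=(1,3)
        exact False.elim (cert_false T ((skipEmb 3).trans (Function.Embedding.refl _)) (by norm_num) (fun _ => hall _) (((((((LB_zero T ((skipEmb 3).trans (Function.Embedding.refl _))).upd 0 2 1 (le_of_eq hx02)).upd 0 3 1 (le_of_eq hx04)).upd 2 0 1 (le_of_eq hx20)).upd 2 3 1 (le_of_eq hx24)).upd 3 0 1 (le_of_eq hx40)).upd 3 2 3 (le_of_eq hx42)) ![1,0,1,1] (by decide) (by decide) 0 (by decide))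
      · -- 24=(3,1)
        exact False.elim (cert_false T ((skipEmb 3).trans (Function.Embedding.refl _)) (by norm_num) (fun _ => hall _) (((((((LB_zero T ((skipEmb 3).trans (Function.Embedding.refl _))).upd 0 2 1 (le_of_eq hx02)).upd 0 3 1 (le_of_eq hx04)).upd 2 0 1 (le_of_eq hx20)).upd 2 3 3 (le_of_eq hx24)).upd 3 0 1 (le_of_eq hx40)).upd 3 2 1 (le_of_eq hx42)) ![1,0,1,1] (by decide) (by decide) 0 (by decide))
    · -- 14=(1,2)
      exact False.elim (cert_false T ((skipEmb 2).trans (Function.Embedding.refl _)) (by norm_num) (fun _ => hall _) (((((LB_zero T ((skipEmb 2).trans (Function.Embedding.refl _))).upd 1 2 2 (le_of_eq hx13)).upd 1 3 1 (le_of_eq hx14)).upd 2 1 1 (le_of_eq hx31)).upd 3 1 2 (le_of_eq hx41)) ![0,2,1,2] (by decide) (by decide) 1 (by decide))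
    · -- 14=(2,1)
      exact False.elim (cert_false T ((skipEmb 2).trans (Function.Embedding.refl _)) (by norm_num) (fun _ => hall _) (((((LB_zero T ((skipEmb 2).trans (Function.Embedding.refl _))).upd 1 2 2 (le_of_eq hx13)).upd 1 3 2 (le_of_eq hx14)).upd 2 1 1 (le_of_eq hx31)).upd 3 1 1 (le_of_eq hx41)) ![0,2,1,1] (by decide) (by decide) 1 (by decide))
    · -- 14=(1,3)
      exact False.elim (cert_false T ((skipEmb 3).trans (Function.Embedding.refl _)) (by norm_num) (fun _ => hall _) (((((LB_zero T ((skipEmb 3).trans (Function.Embedding.refl _))).upd 0 3 1 (le_of_eq hx04)).upd 1 3 1 (le_of_eq hx14)).upd 3 0 1 (le_of_eq hx40)).upd 3 1 3 (le_of_eq hx41)) ![1,1,0,2] (by decide) (by decide) 0 (by decide))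
    · -- 14=(3,1)
      exact False.elim (cert_false T ((skipEmb 3).trans (Function.Embedding.refl _)) (by norm_num) (fun _ => hall _) (((((LB_zero T ((skipEmb 3).trans (Function.Embedding.refl _))).upd 0 3 1 (le_of_eq hx04)).upd 1 3 3 (le_of_eq hx14)).upd 3 0 1 (le_of_eq hx40)).upd 3 1 1 (le_of_eq hx41)) ![1,3,0,2] (by decide) (by decide) 0 (by decide))
  · -- 04=(1,2)
    rcases d14 with ⟨rfl, rfl⟩ | ⟨rfl, rfl⟩ | ⟨rfl, rfl⟩ | ⟨rfl, rfl⟩ | ⟨rfl, rfl⟩ | ⟨rfl, rfl⟩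
    · -- 14=(0,0)
      rcases d24 with ⟨rfl, rfl⟩ | ⟨rfl, rfl⟩ | ⟨rfl, rfl⟩ | ⟨rfl, rfl⟩ | ⟨rfl, rfl⟩ | ⟨rfl, rfl⟩
      · -- 24=(0,0)
        rcases d34 with ⟨rfl, rfl⟩ | ⟨rfl, rfl⟩ | ⟨rfl, rfl⟩ | ⟨rfl, rfl⟩ | ⟨rfl, rfl⟩ | ⟨rfl, rfl⟩
        · -- 34=(0,0)
          refine ⟨(⟨![1, 3, 2, 0, 4], ![3, 0, 2, 1, 4], by decide, by decide⟩ : Equiv.Perm (Fin 5)), T.m 1, T.w 1, Or.inr (Or.inr (Or.inr (Or.inr (Or.inl ?_))))⟩
          show T.m 1 = T.m 1 ∧ T.m 3 = T.m 1 ∧ T.m 2 = T.m 1 ∧ T.m 0 = T.m 1 ∧ T.m 4 = T.m 1 ∧ T.w 1 = T.w 1 ∧ T.w 3 = 2 * T.w 1 ∧ T.w 2 = 2 * T.w 1 ∧ T.w 0 = 2 * T.w 1 ∧ T.w 4 = T.w 1 ∧ T.a 1 1 = -2 * T.w 1 ∧ T.a 1 3 = 2 * T.w 1 ∧ T.a 1 2 = 0 ∧ T.a 1 0 = 0 ∧ T.a 1 4 = 0 ∧ T.a 3 3 = -4 * T.w 1 ∧ T.a 3 2 = 2 * T.w 1 ∧ T.a 3 0 = 0 ∧ T.a 3 4 = 0 ∧ T.a 2 2 = -4 * T.w 1 ∧ T.a 2 0 = 2 * T.w 1 ∧ T.a 2 4 = 0 ∧ T.a 0 0 = -4 * T.w 1 ∧ T.a 0 4 = 2 * T.w 1 ∧ T.a 4 4 = -2 * T.w 1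
          refine ⟨?_, ?_, ?_, ?_, ?_, ?_, ?_, ?_, ?_, ?_, ?_, ?_, ?_, ?_, ?_, ?_, ?_, ?_, ?_, ?_, ?_, ?_, ?_, ?_, ?_⟩ <;> omega
        · -- 34=(1,1)
          exact False.elim (cert_false T ((skipEmb 2).trans (Function.Embedding.refl _)) (by norm_num) (fun _ => hall _) (((((((LB_zero T ((skipEmb 2).trans (Function.Embedding.refl _))).upd 0 3 1 (le_of_eq hx04)).upd 1 2 2 (le_of_eq hx13)).upd 2 1 1 (le_of_eq hx31)).upd 2 3 1 (le_of_eq hx34)).upd 3 0 2 (le_of_eq hx40)).upd 3 2 1 (le_of_eq hx43)) ![1,2,2,2] (by decide) (by decide) 0 (by decide))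
        · -- 34=(1,2)
          exact False.elim (cert_false T ((skipEmb 2).trans (Function.Embedding.refl _)) (by norm_num) (fun _ => hall _) (((((LB_zero T ((skipEmb 2).trans (Function.Embedding.refl _))).upd 1 2 2 (le_of_eq hx13)).upd 2 1 1 (le_of_eq hx31)).upd 2 3 1 (le_of_eq hx34)).upd 3 2 2 (le_of_eq hx43)) ![0,1,1,1] (by decide) (by decide) 1 (by decide))
        · -- 34=(2,1)
          exact False.elim (cert_false T ((skipEmb 2).trans (Function.Embedding.refl _)) (by norm_num) (fun _ => hall _) (((((LB_zero T ((skipEmb 2).trans (Function.Embedding.refl _))).upd 0 3 1 (le_of_eq hx04)).upd 2 3 2 (le_of_eq hx34)).upd 3 0 2 (le_of_eq hx40)).upd 3 2 1 (le_of_eq hx43)) ![1,0,2,2] (by decide) (by decide) 0 (by decide))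
        · -- 34=(1,3)
          exact False.elim (cert_false T ((skipEmb 2).trans (Function.Embedding.refl _)) (by norm_num) (fun _ => hall _) (((((LB_zero T ((skipEmb 2).trans (Function.Embedding.refl _))).upd 1 2 2 (le_of_eq hx13)).upd 2 1 1 (le_of_eq hx31)).upd 2 3 1 (le_of_eq hx34)).upd 3 2 3 (le_of_eq hx43)) ![0,1,1,1] (by decide) (by decide) 1 (by decide))
        · -- 34=(3,1)
          exact False.elim (cert_false T ((skipEmb 2).trans (Function.Embedding.refl _)) (by norm_num) (fun _ => hall _) (((((LB_zero T ((skipEmb 2).trans (Function.Embedding.refl _))).upd 0 3 1 (le_of_eq hx04)).upd 2 3 3 (le_of_eq hx34)).upd 3 0 2 (le_of_eq hx40)).upd 3 2 1 (le_of_eq hx43)) ![1,0,2,2] (by decide) (by decide) 0 (by decide))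
      · -- 24=(1,1)
        exact False.elim (cert_false T ((skipEmb 3).trans (Function.Embedding.refl _)) (by norm_num) (fun _ => hall _) (((((((LB_zero T ((skipEmb 3).trans (Function.Embedding.refl _))).upd 0 2 1 (le_of_eq hx02)).upd 0 3 1 (le_of_eq hx04)).upd 2 0 1 (le_of_eq hx20)).upd 2 3 1 (le_of_eq hx24)).upd 3 0 2 (le_of_eq hx40)).upd 3 2 1 (le_of_eq hx42)) ![1,0,1,1] (by decide) (by decide) 0 (by decide))
      · -- 24=(1,2)
        exact False.elim (cert_false T ((skipEmb 3).trans (Function.Embedding.refl _)) (by norm_num) (fun _ => hall _) (((((((LB_zero T ((skipEmb 3).trans (Function.Embedding.refl _))).upd 0 2 1 (le_of_eq hx02)).upd 0 3 1 (le_of_eq hx04)).upd 2 0 1 (le_of_eq hx20)).upd 2 3 1 (le_of_eq hx24)).upd 3 0 2 (le_of_eq hx40)).upd 3 2 2 (le_of_eq hx42)) ![1,0,1,1] (by decide) (by decide) 0 (by decide))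
      · -- 24=(2,1)
        exact False.elim (cert_false T ((skipEmb 3).trans (Function.Embedding.refl _)) (by norm_num) (fun _ => hall _) (((((((LB_zero T ((skipEmb 3).trans (Function.Embedding.refl _))).upd 0 2 1 (le_of_eq hx02)).upd 0 3 1 (le_of_eq hx04)).upd 2 0 1 (le_of_eq hx20)).upd 2 3 2 (le_of_eq hx24)).upd 3 0 2 (le_of_eq hx40)).upd 3 2 1 (le_of_eq hx42)) ![1,0,1,1] (by decide) (by decide) 0 (by decide))
      · -- 24=(1,3)
        exact False.elim (cert_false T ((skipEmb 3).trans (Function.Embedding.refl _)) (by norm_num) (fun _ => hall _) (((((((LB_zero T ((skipEmb 3).trans (Function.Embedding.refl _))).upd 0 2 1 (le_of_eq hx02)).upd 0 3 1 (le_of_eq hx04)).upd 2 0 1 (le_of_eq hx20)).upd 2 3 1 (le_of_eq hx24)).upd 3 0 2 (le_of_eq hx40)).upd 3 2 3 (le_of_eq hx42)) ![1,0,1,1] (by decide) (by decide) 0 (by decide))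
      · -- 24=(3,1)
        exact False.elim (cert_false T ((skipEmb 3).trans (Function.Embedding.refl _)) (by norm_num) (fun _ => hall _) (((((((LB_zero T ((skipEmb 3).trans (Function.Embedding.refl _))).upd 0 2 1 (le_of_eq hx02)).upd 0 3 1 (le_of_eq hx04)).upd 2 0 1 (le_of_eq hx20)).upd 2 3 3 (le_of_eq hx24)).upd 3 0 2 (le_of_eq hx40)).upd 3 2 1 (le_of_eq hx42)) ![1,0,1,1] (by decide) (by decide) 0 (by decide))
    · -- 14=(1,1)
      exact False.elim (cert_false T ((skipEmb 2).trans (Function.Embedding.refl _)) (by norm_num) (fun _ => hall _) (((((((LB_zero T ((skipEmb 2).trans (Function.Embedding.refl _))).upd 0 3 1 (le_of_eq hx04)).upd 1 2 2 (le_of_eq hx13)).upd 1 3 1 (le_of_eq hx14)).upd 2 1 1 (le_of_eq hx31)).upd 3 0 2 (le_of_eq hx40)).upd 3 1 1 (le_of_eq hx41)) ![1,2,1,2] (by decide) (by decide) 0 (by decide))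
    · -- 14=(1,2)
      exact False.elim (cert_false T ((skipEmb 3).trans (Function.Embedding.refl _)) (by norm_num) (fun _ => hall _) (((((LB_zero T ((skipEmb 3).trans (Function.Embedding.refl _))).upd 0 3 1 (le_of_eq hx04)).upd 1 3 1 (le_of_eq hx14)).upd 3 0 2 (le_of_eq hx40)).upd 3 1 2 (le_of_eq hx41)) ![1,1,0,2] (by decide) (by decide) 0 (by decide))
    · -- 14=(2,1)
      exact False.elim (cert_false T ((skipEmb 3).trans (Function.Embedding.refl _)) (by norm_num) (fun _ => hall _) (((((LB_zero T ((skipEmb 3).trans (Function.Embedding.refl _))).upd 0 3 1 (le_of_eq hx04)).upd 1 3 2 (le_of_eq hx14)).upd 3 0 2 (le_of_eq hx40)).upd 3 1 1 (le_of_eq hx41)) ![1,2,0,2] (by decide) (by decide) 0 (by decide))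
    · -- 14=(1,3)
      exact False.elim (cert_false T ((skipEmb 3).trans (Function.Embedding.refl _)) (by norm_num) (fun _ => hall _) (((((LB_zero T ((skipEmb 3).trans (Function.Embedding.refl _))).upd 0 3 1 (le_of_eq hx04)).upd 1 3 1 (le_of_eq hx14)).upd 3 0 2 (le_of_eq hx40)).upd 3 1 3 (le_of_eq hx41)) ![1,1,0,2] (by decide) (by decide) 0 (by decide))
    · -- 14=(3,1)
      exact False.elim (cert_false T ((skipEmb 3).trans (Function.Embedding.refl _)) (by norm_num) (fun _ => hall _) (((((LB_zero T ((skipEmb 3).trans (Function.Embedding.refl _))).upd 0 3 1 (le_of_eq hx04)).upd 1 3 3 (le_of_eq hx14)).upd 3 0 2 (le_of_eq hx40)).upd 3 1 1 (le_of_eq hx41)) ![1,2,0,2] (by decide) (by decide) 0 (by decide))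
  · -- 04=(2,1)
    rcases d14 with ⟨rfl, rfl⟩ | ⟨rfl, rfl⟩ | ⟨rfl, rfl⟩ | ⟨rfl, rfl⟩ | ⟨rfl, rfl⟩ | ⟨rfl, rfl⟩
    · -- 14=(0,0)
      rcases d24 with ⟨rfl, rfl⟩ | ⟨rfl, rfl⟩ | ⟨rfl, rfl⟩ | ⟨rfl, rfl⟩ | ⟨rfl, rfl⟩ | ⟨rfl, rfl⟩
      · -- 24=(0,0)
        rcases d34 with ⟨rfl, rfl⟩ | ⟨rfl, rfl⟩ | ⟨rfl, rfl⟩ | ⟨rfl, rfl⟩ | ⟨rfl, rfl⟩ | ⟨rfl, rfl⟩
        · -- 34=(0,0)
          refine ⟨(⟨![1, 3, 2, 0, 4], ![3, 0, 2, 1, 4], by decide, by decide⟩ : Equiv.Perm (Fin 5)), T.m 4, T.w 1, Or.inr (Or.inr (Or.inr (Or.inl ?_)))⟩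
          show T.m 1 = 2 * T.m 4 ∧ T.m 3 = 2 * T.m 4 ∧ T.m 2 = 2 * T.m 4 ∧ T.m 0 = 2 * T.m 4 ∧ T.m 4 = T.m 4 ∧ T.w 1 = T.w 1 ∧ T.w 3 = 2 * T.w 1 ∧ T.w 2 = 2 * T.w 1 ∧ T.w 0 = 2 * T.w 1 ∧ T.w 4 = 4 * T.w 1 ∧ T.a 1 1 = -2 * T.w 1 ∧ T.a 1 3 = 2 * T.w 1 ∧ T.a 1 2 = 0 ∧ T.a 1 0 = 0 ∧ T.a 1 4 = 0 ∧ T.a 3 3 = -4 * T.w 1 ∧ T.a 3 2 = 2 * T.w 1 ∧ T.a 3 0 = 0 ∧ T.a 3 4 = 0 ∧ T.a 2 2 = -4 * T.w 1 ∧ T.a 2 0 = 2 * T.w 1 ∧ T.a 2 4 = 0 ∧ T.a 0 0 = -4 * T.w 1 ∧ T.a 0 4 = 4 * T.w 1 ∧ T.a 4 4 = -8 * T.w 1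
          refine ⟨?_, ?_, ?_, ?_, ?_, ?_, ?_, ?_, ?_, ?_, ?_, ?_, ?_, ?_, ?_, ?_, ?_, ?_, ?_, ?_, ?_, ?_, ?_, ?_, ?_⟩ <;> omega
        · -- 34=(1,1)
          exact False.elim (cert_false T ((skipEmb 2).trans (Function.Embedding.refl _)) (by norm_num) (fun _ => hall _) (((((((LB_zero T ((skipEmb 2).trans (Function.Embedding.refl _))).upd 0 3 2 (le_of_eq hx04)).upd 1 2 2 (le_of_eq hx13)).upd 2 1 1 (le_of_eq hx31)).upd 2 3 1 (le_of_eq hx34)).upd 3 0 1 (le_of_eq hx40)).upd 3 2 1 (le_of_eq hx43)) ![1,1,1,1] (by decide) (by decide) 0 (by decide))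
        · -- 34=(1,2)
          exact False.elim (cert_false T ((skipEmb 2).trans (Function.Embedding.refl _)) (by norm_num) (fun _ => hall _) (((((LB_zero T ((skipEmb 2).trans (Function.Embedding.refl _))).upd 1 2 2 (le_of_eq hx13)).upd 2 1 1 (le_of_eq hx31)).upd 2 3 1 (le_of_eq hx34)).upd 3 2 2 (le_of_eq hx43)) ![0,1,1,1] (by decide) (by decide) 1 (by decide))
        · -- 34=(2,1)
          exact False.elim (cert_false T ((skipEmb 2).trans (Function.Embedding.refl _)) (by norm_num) (fun _ => hall _) (((((LB_zero T ((skipEmb 2).trans (Function.Embedding.refl _))).upd 0 3 2 (le_of_eq hx04)).upd 2 3 2 (le_of_eq hx34)).upd 3 0 1 (le_of_eq hx40)).upd 3 2 1 (le_of_eq hx43)) ![1,0,1,1] (by decide) (by decide) 0 (by decide))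
        · -- 34=(1,3)
          exact False.elim (cert_false T ((skipEmb 2).trans (Function.Embedding.refl _)) (by norm_num) (fun _ => hall _) (((((LB_zero T ((skipEmb 2).trans (Function.Embedding.refl _))).upd 1 2 2 (le_of_eq hx13)).upd 2 1 1 (le_of_eq hx31)).upd 2 3 1 (le_of_eq hx34)).upd 3 2 3 (le_of_eq hx43)) ![0,1,1,1] (by decide) (by decide) 1 (by decide))
        · -- 34=(3,1)
          exact False.elim (cert_false T ((skipEmb 2).trans (Function.Embedding.refl _)) (by norm_num) (fun _ => hall _) (((((LB_zero T ((skipEmb 2).trans (Function.Embedding.refl _))).upd 0 3 2 (le_of_eq hx04)).upd 2 3 3 (le_of_eq hx34)).upd 3 0 1 (le_of_eq hx40)).upd 3 2 1 (le_of_eq hx43)) ![1,0,1,1] (by decide) (by decide) 0 (by decide))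
      · -- 24=(1,1)
        exact False.elim (cert_false T ((skipEmb 3).trans (Function.Embedding.refl _)) (by norm_num) (fun _ => hall _) (((((((LB_zero T ((skipEmb 3).trans (Function.Embedding.refl _))).upd 0 2 1 (le_of_eq hx02)).upd 0 3 2 (le_of_eq hx04)).upd 2 0 1 (le_of_eq hx20)).upd 2 3 1 (le_of_eq hx24)).upd 3 0 1 (le_of_eq hx40)).upd 3 2 1 (le_of_eq hx42)) ![1,0,1,1] (by decide) (by decide) 0 (by decide))
      · -- 24=(1,2)
        exact False.elim (cert_false T ((skipEmb 3).trans (Function.Embedding.refl _)) (by norm_num) (fun _ => hall _) (((((((LB_zero T ((skipEmb 3).trans (Function.Embedding.refl _))).upd 0 2 1 (le_of_eq hx02)).upd 0 3 2 (le_of_eq hx04)).upd 2 0 1 (le_of_eq hx20)).upd 2 3 1 (le_of_eq hx24)).upd 3 0 1 (le_of_eq hx40)).upd 3 2 2 (le_of_eq hx42)) ![1,0,1,1] (by decide) (by decide) 0 (by decide))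
      · -- 24=(2,1)
        exact False.elim (cert_false T ((skipEmb 3).trans (Function.Embedding.refl _)) (by norm_num) (fun _ => hall _) (((((((LB_zero T ((skipEmb 3).trans (Function.Embedding.refl _))).upd 0 2 1 (le_of_eq hx02)).upd 0 3 2 (le_of_eq hx04)).upd 2 0 1 (le_of_eq hx20)).upd 2 3 2 (le_of_eq hx24)).upd 3 0 1 (le_of_eq hx40)).upd 3 2 1 (le_of_eq hx42)) ![1,0,1,1] (by decide) (by decide) 0 (by decide))
      · -- 24=(1,3)
        exact False.elim (cert_false T ((skipEmb 3).trans (Function.Embedding.refl _)) (by norm_num) (fun _ => hall _) (((((((LB_zero T ((skipEmb 3).trans (Function.Embedding.refl _))).upd 0 2 1 (le_of_eq hx02)).upd 0 3 2 (le_of_eq hx04)).upd 2 0 1 (le_of_eq hx20)).upd 2 3 1 (le_of_eq hx24)).upd 3 0 1 (le_of_eq hx40)).upd 3 2 3 (le_of_eq hx42)) ![1,0,1,1] (by decide) (by decide) 0 (by decide))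
      · -- 24=(3,1)
        exact False.elim (cert_false T ((skipEmb 3).trans (Function.Embedding.refl _)) (by norm_num) (fun _ => hall _) (((((((LB_zero T ((skipEmb 3).trans (Function.Embedding.refl _))).upd 0 2 1 (le_of_eq hx02)).upd 0 3 2 (le_of_eq hx04)).upd 2 0 1 (le_of_eq hx20)).upd 2 3 3 (le_of_eq hx24)).upd 3 0 1 (le_of_eq hx40)).upd 3 2 1 (le_of_eq hx42)) ![1,0,1,1] (by decide) (by decide) 0 (by decide))
    · -- 14=(1,1)
      exact False.elim (cert_false T ((skipEmb 2).trans (Function.Embedding.refl _)) (by norm_num) (fun _ => hall _) (((((((LB_zero T ((skipEmb 2).trans (Function.Embedding.refl _))).upd 0 3 2 (le_of_eq hx04)).upd 1 2 2 (le_of_eq hx13)).upd 1 3 1 (le_of_eq hx14)).upd 2 1 1 (le_of_eq hx31)).upd 3 0 1 (le_of_eq hx40)).upd 3 1 1 (le_of_eq hx41)) ![2,2,1,2] (by decide) (by decide) 0 (by decide))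
    · -- 14=(1,2)
      exact False.elim (cert_false T ((skipEmb 3).trans (Function.Embedding.refl _)) (by norm_num) (fun _ => hall _) (((((LB_zero T ((skipEmb 3).trans (Function.Embedding.refl _))).upd 0 3 2 (le_of_eq hx04)).upd 1 3 1 (le_of_eq hx14)).upd 3 0 1 (le_of_eq hx40)).upd 3 1 2 (le_of_eq hx41)) ![2,1,0,2] (by decide) (by decide) 0 (by decide))
    · -- 14=(2,1)
      exact False.elim (cert_false T ((skipEmb 3).trans (Function.Embedding.refl _)) (by norm_num) (fun _ => hall _) (((((LB_zero T ((skipEmb 3).trans (Function.Embedding.refl _))).upd 0 3 2 (le_of_eq hx04)).upd 1 3 2 (le_of_eq hx14)).upd 3 0 1 (le_of_eq hx40)).upd 3 1 1 (le_of_eq hx41)) ![1,1,0,1] (by decide) (by decide) 0 (by decide))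
    · -- 14=(1,3)
      exact False.elim (cert_false T ((skipEmb 3).trans (Function.Embedding.refl _)) (by norm_num) (fun _ => hall _) (((((LB_zero T ((skipEmb 3).trans (Function.Embedding.refl _))).upd 0 3 2 (le_of_eq hx04)).upd 1 3 1 (le_of_eq hx14)).upd 3 0 1 (le_of_eq hx40)).upd 3 1 3 (le_of_eq hx41)) ![1,1,0,2] (by decide) (by decide) 0 (by decide))
    · -- 14=(3,1)
      exact False.elim (cert_false T ((skipEmb 3).trans (Function.Embedding.refl _)) (by norm_num) (fun _ => hall _) (((((LB_zero T ((skipEmb 3).trans (Function.Embedding.refl _))).upd 0 3 2 (le_of_eq hx04)).upd 1 3 3 (le_of_eq hx14)).upd 3 0 1 (le_of_eq hx40)).upd 3 1 1 (le_of_eq hx41)) ![1,1,0,1] (by decide) (by decide) 0 (by decide))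
  · -- 04=(1,3)
    exact False.elim (cert_false T ((skipEmb 3).trans (Function.Embedding.refl _)) (by norm_num) (fun _ => hall _) (((((LB_zero T ((skipEmb 3).trans (Function.Embedding.refl _))).upd 0 2 1 (le_of_eq hx02)).upd 0 3 1 (le_of_eq hx04)).upd 2 0 1 (le_of_eq hx20)).upd 3 0 3 (le_of_eq hx40)) ![2,0,1,3] (by decide) (by decide) 0 (by decide))
  · -- 04=(3,1)
    exact False.elim (cert_false T ((skipEmb 3).trans (Function.Embedding.refl _)) (by norm_num) (fun _ => hall _) (((((LB_zero T ((skipEmb 3).trans (Function.Embedding.refl _))).upd 0 2 1 (le_of_eq hx02)).upd 0 3 3 (le_of_eq hx04)).upd 2 0 1 (le_of_eq hx20)).upd 3 0 1 (le_of_eq hx40)) ![2,0,1,1] (by decide) (by decide) 0 (by decide))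

theorem case218 (T : NumericalType 5) (hall : ∀ i, T.IsMinusTwo i) (d : SData T)
    (h01 : N T (Function.Embedding.refl _) 0 1 = 0) (h10 : N T (Function.Embedding.refl _) 1 0 = 0)
    (h02 : N T (Function.Embedding.refl _) 0 2 = 1) (h20 : N T (Function.Embedding.refl _) 2 0 = 1)
    (h12 : N T (Function.Embedding.refl _) 1 2 = 0) (h21 : N T (Function.Embedding.refl _) 2 1 = 0)
    (h03 : N T (Function.Embedding.refl _) 0 3 = 0) (h30 : N T (Function.Embedding.refl _) 3 0 = 0)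
    (h13 : N T (Function.Embedding.refl _) 1 3 = 2) (h31 : N T (Function.Embedding.refl _) 3 1 = 1) :
    Goal T := by
  unfold Goal
  have hd := d
  obtain ⟨x01, x02, x03, x04, x10, x12, x13, x14, x20, x21, x23, x24, x30, x31, x32, x34, x40, x41, x42, x43, hx01, hx02, hx03, hx04, hx10, hx12, hx13, hx14, hx20, hx21, hx23, hx24, hx30, hx31, hx32, hx34, hx40, hx41, hx42, hx43, hw0, hm0, hw1, hm1, hw2, hm2, hw3, hm3, hw4, hm4, a00, a01, a02, a03, a04, a11, a10, a12, a13, a14, a22, a20, a21, a23, a24, a33, a30, a31, a32, a34, a44, a40, a41, a42, a43, wN01, wN02, wN12, wN03, wN13, wN23, wN04, wN14, wN24, wN34, e0, e1, e2, e3, e4, d01, d02, d12, d03, d13, d23, d04, d14, d24, d34⟩ := d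
  obtain rfl : x01 = 0 := hx01.trans h01
  obtain rfl : x10 = 0 := hx10.trans h10
  obtain rfl : x02 = 1 := hx02.trans h02
  obtain rfl : x20 = 1 := hx20.trans h20
  obtain rfl : x12 = 0 := hx12.trans h12
  obtain rfl : x21 = 0 := hx21.trans h21
  obtain rfl : x03 = 0 := hx03.trans h03
  obtain rfl : x30 = 0 := hx30.trans h30
  obtain rfl : x13 = 2 := hx13.trans h13
  obtain rfl : x31 = 1 := hx31.trans h31
  rcases d23 with ⟨rfl, rfl⟩ | ⟨rfl, rfl⟩ | ⟨rfl, rfl⟩ | ⟨rfl, rfl⟩ | ⟨rfl, rfl⟩ | ⟨rfl, rfl⟩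
  · -- 23=(0,0)
    exact case219 T hall hd hx01.symm hx10.symm hx02.symm hx20.symm hx12.symm hx21.symm hx03.symm hx30.symm hx13.symm hx31.symm hx23.symm hx32.symm
  · -- 23=(1,1)
    exact case220 T hall hd hx01.symm hx10.symm hx02.symm hx20.symm hx12.symm hx21.symm hx03.symm hx30.symm hx13.symm hx31.symm hx23.symm hx32.symm
  · -- 23=(1,2)
    exact False.elim (cert_false T ((skipEmb 4).trans (Function.Embedding.refl _)) (by norm_num) (fun _ => hall _) (((((LB_zero T ((skipEmb 4).trans (Function.Embedding.refl _))).upd 1 3 2 (le_of_eq hx13)).upd 2 3 1 (le_of_eq hx23)).upd 3 1 1 (le_of_eq hx31)).upd 3 2 2 (le_of_eq hx32)) ![0,2,1,2] (by decide) (by decide) 1 (by decide))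
  · -- 23=(2,1)
    exact False.elim (cert_false T ((skipEmb 4).trans (Function.Embedding.refl _)) (by norm_num) (fun _ => hall _) (((((LB_zero T ((skipEmb 4).trans (Function.Embedding.refl _))).upd 1 3 2 (le_of_eq hx13)).upd 2 3 2 (le_of_eq hx23)).upd 3 1 1 (le_of_eq hx31)).upd 3 2 1 (le_of_eq hx32)) ![0,1,1,1] (by decide) (by decide) 1 (by decide))
  · -- 23=(1,3)
    exact False.elim (cert_false T ((skipEmb 4).trans (Function.Embedding.refl _)) (by norm_num) (fun _ => hall _) (((((LB_zero T ((skipEmb 4).trans (Function.Embedding.refl _))).upd 1 3 2 (le_of_eq hx13)).upd 2 3 1 (le_of_eq hx23)).upd 3 1 1 (le_of_eq hx31)).upd 3 2 3 (le_of_eq hx32)) ![0,1,1,2] (by decide) (by decide) 1 (by decide))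
  · -- 23=(3,1)
    exact False.elim (cert_false T ((skipEmb 4).trans (Function.Embedding.refl _)) (by norm_num) (fun _ => hall _) (((((LB_zero T ((skipEmb 4).trans (Function.Embedding.refl _))).upd 1 3 2 (le_of_eq hx13)).upd 2 3 3 (le_of_eq hx23)).upd 3 1 1 (le_of_eq hx31)).upd 3 2 1 (le_of_eq hx32)) ![0,1,1,1] (by decide) (by decide) 1 (by decide))

theorem case298 (T : NumericalType 5) (hall : ∀ i, T.IsMinusTwo i) (d : SData T)
    (h01 : N T (Function.Embedding.refl _) 0 1 = 0) (h10 : N T (Function.Embedding.refl _) 1 0 = 0)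
    (h02 : N T (Function.Embedding.refl _) 0 2 = 1) (h20 : N T (Function.Embedding.refl _) 2 0 = 2)
    (h12 : N T (Function.Embedding.refl _) 1 2 = 0) (h21 : N T (Function.Embedding.refl _) 2 1 = 0)
    (h03 : N T (Function.Embedding.refl _) 0 3 = 1) (h30 : N T (Function.Embedding.refl _) 3 0 = 1)
    (h13 : N T (Function.Embedding.refl _) 1 3 = 0) (h31 : N T (Function.Embedding.refl _) 3 1 = 0)
    (h23 : N T (Function.Embedding.refl _) 2 3 = 0) (h32 : N T (Function.Embedding.refl _) 3 2 = 0)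
    (h04 : N T (Function.Embedding.refl _) 0 4 = 0) (h40 : N T (Function.Embedding.refl _) 4 0 = 0) :
    Goal T := by
  unfold Goal
  have hd := d
  obtain ⟨x01, x02, x03, x04, x10, x12, x13, x14, x20, x21, x23, x24, x30, x31, x32, x34, x40, x41, x42, x43, hx01, hx02, hx03, hx04, hx10, hx12, hx13, hx14, hx20, hx21, hx23, hx24, hx30, hx31, hx32, hx34, hx40, hx41, hx42, hx43, hw0, hm0, hw1, hm1, hw2, hm2, hw3, hm3, hw4, hm4, a00, a01, a02, a03, a04, a11, a10, a12, a13, a14, a22, a20, a21, a23, a24, a33, a30, a31, a32, a34, a44, a40, a41, a42, a43, wN01, wN02, wN12, wN03, wN13, wN23, wN04, wN14, wN24, wN34, e0, e1, e2, e3, e4, d01, d02, d12, d03, d13, d23, d04, d14, d24, d34⟩ := d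
  obtain rfl : x01 = 0 := hx01.trans h01
  obtain rfl : x10 = 0 := hx10.trans h10
  obtain rfl : x02 = 1 := hx02.trans h02
  obtain rfl : x20 = 2 := hx20.trans h20
  obtain rfl : x12 = 0 := hx12.trans h12
  obtain rfl : x21 = 0 := hx21.trans h21
  obtain rfl : x03 = 1 := hx03.trans h03
  obtain rfl : x30 = 1 := hx30.trans h30
  obtain rfl : x13 = 0 := hx13.trans h13
  obtain rfl : x31 = 0 := hx31.trans h31
  obtain rfl : x23 = 0 := hx23.trans h23
  obtain rfl : x32 = 0 := hx32.trans h32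
  obtain rfl : x04 = 0 := hx04.trans h04
  obtain rfl : x40 = 0 := hx40.trans h40
  rcases d14 with ⟨rfl, rfl⟩ | ⟨rfl, rfl⟩ | ⟨rfl, rfl⟩ | ⟨rfl, rfl⟩ | ⟨rfl, rfl⟩ | ⟨rfl, rfl⟩
  · -- 14=(0,0)
    rcases d24 with ⟨rfl, rfl⟩ | ⟨rfl, rfl⟩ | ⟨rfl, rfl⟩ | ⟨rfl, rfl⟩ | ⟨rfl, rfl⟩ | ⟨rfl, rfl⟩
    · -- 24=(0,0)
      rcases d34 with ⟨rfl, rfl⟩ | ⟨rfl, rfl⟩ | ⟨rfl, rfl⟩ | ⟨rfl, rfl⟩ | ⟨rfl, rfl⟩ | ⟨rfl, rfl⟩
      · -- 34=(0,0)
        exfalso; omega
      · -- 34=(1,1)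
        exfalso; omega
      · -- 34=(1,2)
        exact False.elim (cert_false T ((skipEmb 1).trans (Function.Embedding.refl _)) (by norm_num) (fun _ => hall _) (((((((LB_zero T ((skipEmb 1).trans (Function.Embedding.refl _))).upd 0 1 1 (le_of_eq hx02)).upd 0 2 1 (le_of_eq hx03)).upd 1 0 2 (le_of_eq hx20)).upd 2 0 1 (le_of_eq hx30)).upd 2 3 1 (le_of_eq hx34)).upd 3 2 2 (le_of_eq hx43)) ![1,1,1,1] (by decide) (by decide) 0 (by decide))
      · -- 34=(2,1)
        exact False.elim (cert_false T ((skipEmb 1).trans (Function.Embedding.refl _)) (by norm_num) (fun _ => hall _) (((((((LB_zero T ((skipEmb 1).trans (Function.Embedding.refl _))).upd 0 1 1 (le_of_eq hx02)).upd 0 2 1 (le_of_eq hx03)).upd 1 0 2 (le_of_eq hx20)).upd 2 0 1 (le_of_eq hx30)).upd 2 3 2 (le_of_eq hx34)).upd 3 2 1 (le_of_eq hx43)) ![2,2,2,1] (by decide) (by decide) 0 (by decide))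
      · -- 34=(1,3)
        exact False.elim (cert_false T ((skipEmb 2).trans (Function.Embedding.refl _)) (by norm_num) (fun _ => hall _) (((((LB_zero T ((skipEmb 2).trans (Function.Embedding.refl _))).upd 0 2 1 (le_of_eq hx03)).upd 2 0 1 (le_of_eq hx30)).upd 2 3 1 (le_of_eq hx34)).upd 3 2 3 (le_of_eq hx43)) ![1,0,2,3] (by decide) (by decide) 0 (by decide))
      · -- 34=(3,1)
        exact False.elim (cert_false T ((skipEmb 2).trans (Function.Embedding.refl _)) (by norm_num) (fun _ => hall _) (((((LB_zero T ((skipEmb 2).trans (Function.Embedding.refl _))).upd 0 2 1 (le_of_eq hx03)).upd 2 0 1 (le_of_eq hx30)).upd 2 3 3 (le_of_eq hx34)).upd 3 2 1 (le_of_eq hx43)) ![1,0,2,1] (by decide) (by decide) 0 (by decide))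
    · -- 24=(1,1)
      rcases d34 with ⟨rfl, rfl⟩ | ⟨rfl, rfl⟩ | ⟨rfl, rfl⟩ | ⟨rfl, rfl⟩ | ⟨rfl, rfl⟩ | ⟨rfl, rfl⟩
      · -- 34=(0,0)
        exfalso; omega
      · -- 34=(1,1)
        exact False.elim (cert_false T ((skipEmb 1).trans (Function.Embedding.refl _)) (by norm_num) (fun _ => hall _) (((((((((LB_zero T ((skipEmb 1).trans (Function.Embedding.refl _))).upd 0 1 1 (le_of_eq hx02)).upd 0 2 1 (le_of_eq hx03)).upd 1 0 2 (le_of_eq hx20)).upd 1 3 1 (le_of_eq hx24)).upd 2 0 1 (le_of_eq hx30)).upd 2 3 1 (le_of_eq hx34)).upd 3 1 1 (le_of_eq hx42)).upd 3 2 1 (le_of_eq hx43)) ![1,1,1,1] (by decide) (by decide) 0 (by decide))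
      · -- 34=(1,2)
        exact False.elim (cert_false T ((skipEmb 1).trans (Function.Embedding.refl _)) (by norm_num) (fun _ => hall _) (((((((((LB_zero T ((skipEmb 1).trans (Function.Embedding.refl _))).upd 0 1 1 (le_of_eq hx02)).upd 0 2 1 (le_of_eq hx03)).upd 1 0 2 (le_of_eq hx20)).upd 1 3 1 (le_of_eq hx24)).upd 2 0 1 (le_of_eq hx30)).upd 2 3 1 (le_of_eq hx34)).upd 3 1 1 (le_of_eq hx42)).upd 3 2 2 (le_of_eq hx43)) ![1,1,1,1] (by decide) (by decide) 0 (by decide))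
      · -- 34=(2,1)
        exact False.elim (cert_false T ((skipEmb 1).trans (Function.Embedding.refl _)) (by norm_num) (fun _ => hall _) (((((((((LB_zero T ((skipEmb 1).trans (Function.Embedding.refl _))).upd 0 1 1 (le_of_eq hx02)).upd 0 2 1 (le_of_eq hx03)).upd 1 0 2 (le_of_eq hx20)).upd 1 3 1 (le_of_eq hx24)).upd 2 0 1 (le_of_eq hx30)).upd 2 3 2 (le_of_eq hx34)).upd 3 1 1 (le_of_eq hx42)).upd 3 2 1 (le_of_eq hx43)) ![1,1,1,1] (by decide) (by decide) 0 (by decide))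
      · -- 34=(1,3)
        exact False.elim (cert_false T ((skipEmb 2).trans (Function.Embedding.refl _)) (by norm_num) (fun _ => hall _) (((((LB_zero T ((skipEmb 2).trans (Function.Embedding.refl _))).upd 0 2 1 (le_of_eq hx03)).upd 2 0 1 (le_of_eq hx30)).upd 2 3 1 (le_of_eq hx34)).upd 3 2 3 (le_of_eq hx43)) ![1,0,2,3] (by decide) (by decide) 0 (by decide))
      · -- 34=(3,1)
        exact False.elim (cert_false T ((skipEmb 2).trans (Function.Embedding.refl _)) (by norm_num) (fun _ => hall _) (((((LB_zero T ((skipEmb 2).trans (Function.Embedding.refl _))).upd 0 2 1 (le_of_eq hx03)).upd 2 0 1 (le_of_eq hx30)).upd 2 3 3 (le_of_eq hx34)).upd 3 2 1 (le_of_eq hx43)) ![1,0,2,1] (by decide) (by decide) 0 (by decide))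
    · -- 24=(1,2)
      exact False.elim (cert_false T ((skipEmb 3).trans (Function.Embedding.refl _)) (by norm_num) (fun _ => hall _) (((((LB_zero T ((skipEmb 3).trans (Function.Embedding.refl _))).upd 0 2 1 (le_of_eq hx02)).upd 2 0 2 (le_of_eq hx20)).upd 2 3 1 (le_of_eq hx24)).upd 3 2 2 (le_of_eq hx42)) ![1,0,2,2] (by decide) (by decide) 0 (by decide))
    · -- 24=(2,1)
      exact False.elim (cert_false T ((skipEmb 3).trans (Function.Embedding.refl _)) (by norm_num) (fun _ => hall _) (((((LB_zero T ((skipEmb 3).trans (Function.Embedding.refl _))).upd 0 2 1 (le_of_eq hx02)).upd 2 0 2 (le_of_eq hx20)).upd 2 3 2 (le_of_eq hx24)).upd 3 2 1 (le_of_eq hx42)) ![1,0,2,1] (by decide) (by decide) 0 (by decide))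
    · -- 24=(1,3)
      exact False.elim (cert_false T ((skipEmb 3).trans (Function.Embedding.refl _)) (by norm_num) (fun _ => hall _) (((((LB_zero T ((skipEmb 3).trans (Function.Embedding.refl _))).upd 0 2 1 (le_of_eq hx02)).upd 2 0 2 (le_of_eq hx20)).upd 2 3 1 (le_of_eq hx24)).upd 3 2 3 (le_of_eq hx42)) ![1,0,2,2] (by decide) (by decide) 0 (by decide))
    · -- 24=(3,1)
      exact False.elim (cert_false T ((skipEmb 3).trans (Function.Embedding.refl _)) (by norm_num) (fun _ => hall _) (((((LB_zero T ((skipEmb 3).trans (Function.Embedding.refl _))).upd 0 2 1 (le_of_eq hx02)).upd 2 0 2 (le_of_eq hx20)).upd 2 3 3 (le_of_eq hx24)).upd 3 2 1 (le_of_eq hx42)) ![1,0,2,1] (by decide) (by decide) 0 (by decide))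
  · -- 14=(1,1)
    rcases d24 with ⟨rfl, rfl⟩ | ⟨rfl, rfl⟩ | ⟨rfl, rfl⟩ | ⟨rfl, rfl⟩ | ⟨rfl, rfl⟩ | ⟨rfl, rfl⟩
    · -- 24=(0,0)
      rcases d34 with ⟨rfl, rfl⟩ | ⟨rfl, rfl⟩ | ⟨rfl, rfl⟩ | ⟨rfl, rfl⟩ | ⟨rfl, rfl⟩ | ⟨rfl, rfl⟩
      · -- 34=(0,0)
        exfalso; omega
      · -- 34=(1,1)
        exfalso; omega
      · -- 34=(1,2)
        exact False.elim (cert_false T ((skipEmb 1).trans (Function.Embedding.refl _)) (by norm_num) (fun _ => hall _) (((((((LB_zero T ((skipEmb 1).trans (Function.Embedding.refl _))).upd 0 1 1 (le_of_eq hx02)).upd 0 2 1 (le_of_eq hx03)).upd 1 0 2 (le_of_eq hx20)).upd 2 0 1 (le_of_eq hx30)).upd 2 3 1 (le_of_eq hx34)).upd 3 2 2 (le_of_eq hx43)) ![1,1,1,1] (by decide) (by decide) 0 (by decide))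
      · -- 34=(2,1)
        exact False.elim (cert_false T ((skipEmb 1).trans (Function.Embedding.refl _)) (by norm_num) (fun _ => hall _) (((((((LB_zero T ((skipEmb 1).trans (Function.Embedding.refl _))).upd 0 1 1 (le_of_eq hx02)).upd 0 2 1 (le_of_eq hx03)).upd 1 0 2 (le_of_eq hx20)).upd 2 0 1 (le_of_eq hx30)).upd 2 3 2 (le_of_eq hx34)).upd 3 2 1 (le_of_eq hx43)) ![2,2,2,1] (by decide) (by decide) 0 (by decide))
      · -- 34=(1,3)
        exact False.elim (cert_false T ((skipEmb 2).trans (Function.Embedding.refl _)) (by norm_num) (fun _ => hall _) (((((LB_zero T ((skipEmb 2).trans (Function.Embedding.refl _))).upd 1 3 1 (le_of_eq hx14)).upd 2 3 1 (le_of_eq hx34)).upd 3 1 1 (le_of_eq hx41)).upd 3 2 3 (le_of_eq hx43)) ![0,1,1,2] (by decide) (by decide) 1 (by decide))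
      · -- 34=(3,1)
        exact False.elim (cert_false T ((skipEmb 2).trans (Function.Embedding.refl _)) (by norm_num) (fun _ => hall _) (((((LB_zero T ((skipEmb 2).trans (Function.Embedding.refl _))).upd 0 2 1 (le_of_eq hx03)).upd 2 0 1 (le_of_eq hx30)).upd 2 3 3 (le_of_eq hx34)).upd 3 2 1 (le_of_eq hx43)) ![1,0,2,1] (by decide) (by decide) 0 (by decide))
    · -- 24=(1,1)
      rcases d34 with ⟨rfl, rfl⟩ | ⟨rfl, rfl⟩ | ⟨rfl, rfl⟩ | ⟨rfl, rfl⟩ | ⟨rfl, rfl⟩ | ⟨rfl, rfl⟩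
      · -- 34=(0,0)
        refine ⟨(⟨![1, 4, 2, 0, 3], ![3, 0, 2, 4, 1], by decide, by decide⟩ : Equiv.Perm (Fin 5)), T.m 1, T.w 1, Or.inr (Or.inl ?_)⟩
        show T.m 1 = T.m 1 ∧ T.m 4 = 2 * T.m 1 ∧ T.m 2 = 3 * T.m 1 ∧ T.m 0 = 2 * T.m 1 ∧ T.m 3 = T.m 1 ∧ T.w 1 = T.w 1 ∧ T.w 4 = T.w 1 ∧ T.w 2 = T.w 1 ∧ T.w 0 = 2 * T.w 1 ∧ T.w 3 = 2 * T.w 1 ∧ T.a 1 1 = -2 * T.w 1 ∧ T.a 1 4 = T.w 1 ∧ T.a 1 2 = 0 ∧ T.a 1 0 = 0 ∧ T.a 1 3 = 0 ∧ T.a 4 4 = -2 * T.w 1 ∧ T.a 4 2 = T.w 1 ∧ T.a 4 0 = 0 ∧ T.a 4 3 = 0 ∧ T.a 2 2 = -2 * T.w 1 ∧ T.a 2 0 = 2 * T.w 1 ∧ T.a 2 3 = 0 ∧ T.a 0 0 = -4 * T.w 1 ∧ T.a 0 3 = 2 * T.w 1 ∧ T.a 3 3 = -4 * T.w 1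
        refine ⟨?_, ?_, ?_, ?_, ?_, ?_, ?_, ?_, ?_, ?_, ?_, ?_, ?_, ?_, ?_, ?_, ?_, ?_, ?_, ?_, ?_, ?_, ?_, ?_, ?_⟩ <;> omega
      · -- 34=(1,1)
        exact False.elim (cert_false T ((skipEmb 1).trans (Function.Embedding.refl _)) (by norm_num) (fun _ => hall _) (((((((((LB_zero T ((skipEmb 1).trans (Function.Embedding.refl _))).upd 0 1 1 (le_of_eq hx02)).upd 0 2 1 (le_of_eq hx03)).upd 1 0 2 (le_of_eq hx20)).upd 1 3 1 (le_of_eq hx24)).upd 2 0 1 (le_of_eq hx30)).upd 2 3 1 (le_of_eq hx34)).upd 3 1 1 (le_of_eq hx42)).upd 3 2 1 (le_of_eq hx43)) ![1,1,1,1] (by decide) (by decide) 0 (by decide))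
      · -- 34=(1,2)
        exact False.elim (cert_false T ((skipEmb 1).trans (Function.Embedding.refl _)) (by norm_num) (fun _ => hall _) (((((((((LB_zero T ((skipEmb 1).trans (Function.Embedding.refl _))).upd 0 1 1 (le_of_eq hx02)).upd 0 2 1 (le_of_eq hx03)).upd 1 0 2 (le_of_eq hx20)).upd 1 3 1 (le_of_eq hx24)).upd 2 0 1 (le_of_eq hx30)).upd 2 3 1 (le_of_eq hx34)).upd 3 1 1 (le_of_eq hx42)).upd 3 2 2 (le_of_eq hx43)) ![1,1,1,1] (by decide) (by decide) 0 (by decide))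
      · -- 34=(2,1)
        exact False.elim (cert_false T ((skipEmb 1).trans (Function.Embedding.refl _)) (by norm_num) (fun _ => hall _) (((((((((LB_zero T ((skipEmb 1).trans (Function.Embedding.refl _))).upd 0 1 1 (le_of_eq hx02)).upd 0 2 1 (le_of_eq hx03)).upd 1 0 2 (le_of_eq hx20)).upd 1 3 1 (le_of_eq hx24)).upd 2 0 1 (le_of_eq hx30)).upd 2 3 2 (le_of_eq hx34)).upd 3 1 1 (le_of_eq hx42)).upd 3 2 1 (le_of_eq hx43)) ![1,1,1,1] (by decide) (by decide) 0 (by decide))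
      · -- 34=(1,3)
        exact False.elim (cert_false T ((skipEmb 2).trans (Function.Embedding.refl _)) (by norm_num) (fun _ => hall _) (((((LB_zero T ((skipEmb 2).trans (Function.Embedding.refl _))).upd 1 3 1 (le_of_eq hx14)).upd 2 3 1 (le_of_eq hx34)).upd 3 1 1 (le_of_eq hx41)).upd 3 2 3 (le_of_eq hx43)) ![0,1,1,2] (by decide) (by decide) 1 (by decide))
      · -- 34=(3,1)
        exact False.elim (cert_false T ((skipEmb 2).trans (Function.Embedding.refl _)) (by norm_num) (fun _ => hall _) (((((LB_zero T ((skipEmb 2).trans (Function.Embedding.refl _))).upd 0 2 1 (le_of_eq hx03)).upd 2 0 1 (le_of_eq hx30)).upd 2 3 3 (le_of_eq hx34)).upd 3 2 1 (le_of_eq hx43)) ![1,0,2,1] (by decide) (by decide) 0 (by decide))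
    · -- 24=(1,2)
      exact False.elim (cert_false T ((skipEmb 3).trans (Function.Embedding.refl _)) (by norm_num) (fun _ => hall _) (((((LB_zero T ((skipEmb 3).trans (Function.Embedding.refl _))).upd 0 2 1 (le_of_eq hx02)).upd 2 0 2 (le_of_eq hx20)).upd 2 3 1 (le_of_eq hx24)).upd 3 2 2 (le_of_eq hx42)) ![1,0,2,2] (by decide) (by decide) 0 (by decide))
    · -- 24=(2,1)
      exact False.elim (cert_false T ((skipEmb 3).trans (Function.Embedding.refl _)) (by norm_num) (fun _ => hall _) (((((LB_zero T ((skipEmb 3).trans (Function.Embedding.refl _))).upd 0 2 1 (le_of_eq hx02)).upd 2 0 2 (le_of_eq hx20)).upd 2 3 2 (le_of_eq hx24)).upd 3 2 1 (le_of_eq hx42)) ![1,0,2,1] (by decide) (by decide) 0 (by decide))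
    · -- 24=(1,3)
      exact False.elim (cert_false T ((skipEmb 3).trans (Function.Embedding.refl _)) (by norm_num) (fun _ => hall _) (((((LB_zero T ((skipEmb 3).trans (Function.Embedding.refl _))).upd 0 2 1 (le_of_eq hx02)).upd 2 0 2 (le_of_eq hx20)).upd 2 3 1 (le_of_eq hx24)).upd 3 2 3 (le_of_eq hx42)) ![1,0,2,2] (by decide) (by decide) 0 (by decide))
    · -- 24=(3,1)
      exact False.elim (cert_false T ((skipEmb 3).trans (Function.Embedding.refl _)) (by norm_num) (fun _ => hall _) (((((LB_zero T ((skipEmb 3).trans (Function.Embedding.refl _))).upd 0 2 1 (le_of_eq hx02)).upd 2 0 2 (le_of_eq hx20)).upd 2 3 3 (le_of_eq hx24)).upd 3 2 1 (le_of_eq hx42)) ![1,0,2,1] (by decide) (by decide) 0 (by decide))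
  · -- 14=(1,2)
    rcases d24 with ⟨rfl, rfl⟩ | ⟨rfl, rfl⟩ | ⟨rfl, rfl⟩ | ⟨rfl, rfl⟩ | ⟨rfl, rfl⟩ | ⟨rfl, rfl⟩
    · -- 24=(0,0)
      rcases d34 with ⟨rfl, rfl⟩ | ⟨rfl, rfl⟩ | ⟨rfl, rfl⟩ | ⟨rfl, rfl⟩ | ⟨rfl, rfl⟩ | ⟨rfl, rfl⟩
      · -- 34=(0,0)
        exfalso; omega
      · -- 34=(1,1)
        refine ⟨(⟨![2, 0, 3, 4, 1], ![1, 4, 0, 2, 3], by decide, by decide⟩ : Equiv.Perm (Fin 5)), T.m 1, T.w 2, Or.inr (Or.inr (Or.inr (Or.inl ?_)))⟩
        show T.m 2 = 2 * T.m 1 ∧ T.m 0 = 2 * T.m 1 ∧ T.m 3 = 2 * T.m 1 ∧ T.m 4 = 2 * T.m 1 ∧ T.m 1 = T.m 1 ∧ T.w 2 = T.w 2 ∧ T.w 0 = 2 * T.w 2 ∧ T.w 3 = 2 * T.w 2 ∧ T.w 4 = 2 * T.w 2 ∧ T.w 1 = 4 * T.w 2 ∧ T.a 2 2 = -2 * T.w 2 ∧ T.a 2 0 = 2 * T.w 2 ∧ T.a 2 3 = 0 ∧ T.a 2 4 = 0 ∧ T.a 2 1 = 0 ∧ T.a 0 0 = -4 * T.w 2 ∧ T.a 0 3 = 2 * T.w 2 ∧ T.a 0 4 = 0 ∧ T.a 0 1 = 0 ∧ T.a 3 3 = -4 * T.w 2 ∧ T.a 3 4 = 2 * T.w 2 ∧ T.a 3 1 = 0 ∧ T.a 4 4 = -4 * T.w 2 ∧ T.a 4 1 = 4 * T.w 2 ∧ T.a 1 1 = -8 * T.w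 2
        refine ⟨?_, ?_, ?_, ?_, ?_, ?_, ?_, ?_, ?_, ?_, ?_, ?_, ?_, ?_, ?_, ?_, ?_, ?_, ?_, ?_, ?_, ?_, ?_, ?_, ?_⟩ <;> omega
      · -- 34=(1,2)
        exact False.elim (cert_false T ((skipEmb 2).trans (Function.Embedding.refl _)) (by norm_num) (fun _ => hall _) (((((LB_zero T ((skipEmb 2).trans (Function.Embedding.refl _))).upd 1 3 1 (le_of_eq hx14)).upd 2 3 1 (le_of_eq hx34)).upd 3 1 2 (le_of_eq hx41)).upd 3 2 2 (le_of_eq hx43)) ![0,1,1,2] (by decide) (by decide) 1 (by decide))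
      · -- 34=(2,1)
        exact False.elim (cert_false T ((skipEmb 2).trans (Function.Embedding.refl _)) (by norm_num) (fun _ => hall _) (((((LB_zero T ((skipEmb 2).trans (Function.Embedding.refl _))).upd 1 3 1 (le_of_eq hx14)).upd 2 3 2 (le_of_eq hx34)).upd 3 1 2 (le_of_eq hx41)).upd 3 2 1 (le_of_eq hx43)) ![0,1,2,2] (by decide) (by decide) 1 (by decide))
      · -- 34=(1,3)
        exact False.elim (cert_false T ((skipEmb 2).trans (Function.Embedding.refl _)) (by norm_num) (fun _ => hall _) (((((LB_zero T ((skipEmb 2).trans (Function.Embedding.refl _))).upd 1 3 1 (le_of_eq hx14)).upd 2 3 1 (le_of_eq hx34)).upd 3 1 2 (le_of_eq hx41)).upd 3 2 3 (le_of_eq hx43)) ![0,1,1,2] (by decide) (by decide) 1 (by decide))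
      · -- 34=(3,1)
        exact False.elim (cert_false T ((skipEmb 2).trans (Function.Embedding.refl _)) (by norm_num) (fun _ => hall _) (((((LB_zero T ((skipEmb 2).trans (Function.Embedding.refl _))).upd 1 3 1 (le_of_eq hx14)).upd 2 3 3 (le_of_eq hx34)).upd 3 1 2 (le_of_eq hx41)).upd 3 2 1 (le_of_eq hx43)) ![0,1,2,2] (by decide) (by decide) 1 (by decide))
    · -- 24=(1,1)
      exact False.elim (cert_false T ((skipEmb 3).trans (Function.Embedding.refl _)) (by norm_num) (fun _ => hall _) (((((((LB_zero T ((skipEmb 3).trans (Function.Embedding.refl _))).upd 0 2 1 (le_of_eq hx02)).upd 1 3 1 (le_of_eq hx14)).upd 2 0 2 (le_of_eq hx20)).upd 2 3 1 (le_of_eq hx24)).upd 3 1 2 (le_of_eq hx41)).upd 3 2 1 (le_of_eq hx42)) ![1,1,2,2] (by decide) (by decide) 0 (by decide))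
    · -- 24=(1,2)
      exact False.elim (cert_false T ((skipEmb 3).trans (Function.Embedding.refl _)) (by norm_num) (fun _ => hall _) (((((LB_zero T ((skipEmb 3).trans (Function.Embedding.refl _))).upd 0 2 1 (le_of_eq hx02)).upd 2 0 2 (le_of_eq hx20)).upd 2 3 1 (le_of_eq hx24)).upd 3 2 2 (le_of_eq hx42)) ![1,0,2,2] (by decide) (by decide) 0 (by decide))
    · -- 24=(2,1)
      exact False.elim (cert_false T ((skipEmb 3).trans (Function.Embedding.refl _)) (by norm_num) (fun _ => hall _) (((((LB_zero T ((skipEmb 3).trans (Function.Embedding.refl _))).upd 1 3 1 (le_of_eq hx14)).upd 2 3 2 (le_of_eq hx24)).upd 3 1 2 (le_of_eq hx41)).upd 3 2 1 (le_of_eq hx42)) ![0,1,2,2] (by decide) (by decide) 1 (by decide))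
    · -- 24=(1,3)
      exact False.elim (cert_false T ((skipEmb 3).trans (Function.Embedding.refl _)) (by norm_num) (fun _ => hall _) (((((LB_zero T ((skipEmb 3).trans (Function.Embedding.refl _))).upd 0 2 1 (le_of_eq hx02)).upd 2 0 2 (le_of_eq hx20)).upd 2 3 1 (le_of_eq hx24)).upd 3 2 3 (le_of_eq hx42)) ![1,0,2,2] (by decide) (by decide) 0 (by decide))
    · -- 24=(3,1)
      exact False.elim (cert_false T ((skipEmb 3).trans (Function.Embedding.refl _)) (by norm_num) (fun _ => hall _) (((((LB_zero T ((skipEmb 3).trans (Function.Embedding.refl _))).upd 1 3 1 (le_of_eq hx14)).upd 2 3 3 (le_of_eq hx24)).upd 3 1 2 (le_of_eq hx41)).upd 3 2 1 (le_of_eq hx42)) ![0,1,2,2] (by decide) (by decide) 1 (by decide))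
  · -- 14=(2,1)
    rcases d24 with ⟨rfl, rfl⟩ | ⟨rfl, rfl⟩ | ⟨rfl, rfl⟩ | ⟨rfl, rfl⟩ | ⟨rfl, rfl⟩ | ⟨rfl, rfl⟩
    · -- 24=(0,0)
      rcases d34 with ⟨rfl, rfl⟩ | ⟨rfl, rfl⟩ | ⟨rfl, rfl⟩ | ⟨rfl, rfl⟩ | ⟨rfl, rfl⟩ | ⟨rfl, rfl⟩
      · -- 34=(0,0)
        exfalso; omega
      · -- 34=(1,1)
        refine ⟨(⟨![1, 4, 3, 0, 2], ![3, 0, 4, 2, 1], by decide, by decide⟩ : Equiv.Perm (Fin 5)), T.m 1, T.w 1, Or.inr (Or.inr (Or.inr (Or.inr (Or.inl ?_))))⟩
        show T.m 1 = T.m 1 ∧ T.m 4 = T.m 1 ∧ T.m 3 = T.m 1 ∧ T.m 0 = T.m 1 ∧ T.m 2 = T.m 1 ∧ T.w 1 = T.w 1 ∧ T.w 4 = 2 * T.w 1 ∧ T.w 3 = 2 * T.w 1 ∧ T.w 0 = 2 * T.w 1 ∧ T.w 2 = T.w 1 ∧ T.a 1 1 = -2 * T.w 1 ∧ T.a 1 4 = 2 * T.w 1 ∧ T.a 1 3 = 0 ∧ T.a 1 0 = 0 ∧ T.a 1 2 = 0 ∧ T.a 4 4 = -4 * T.w 1 ∧ T.a 4 3 = 2 * T.w 1 ∧ T.a 4 0 = 0 ∧ T.a 4 2 = 0 ∧ T.a 3 3 = -4 * T.w 1 ∧ T.a 3 0 = 2 * T.w 1 ∧ T.a 3 2 = 0 ∧ T.a 0 0 = -4 * T.w 1 ∧ T.a 0 2 = 2 * T.w 1 ∧ T.a 2 2 = -2 * T.w 1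
        refine ⟨?_, ?_, ?_, ?_, ?_, ?_, ?_, ?_, ?_, ?_, ?_, ?_, ?_, ?_, ?_, ?_, ?_, ?_, ?_, ?_, ?_, ?_, ?_, ?_, ?_⟩ <;> omega
      · -- 34=(1,2)
        exact False.elim (cert_false T ((skipEmb 2).trans (Function.Embedding.refl _)) (by norm_num) (fun _ => hall _) (((((LB_zero T ((skipEmb 2).trans (Function.Embedding.refl _))).upd 1 3 2 (le_of_eq hx14)).upd 2 3 1 (le_of_eq hx34)).upd 3 1 1 (le_of_eq hx41)).upd 3 2 2 (le_of_eq hx43)) ![0,2,1,2] (by decide) (by decide) 1 (by decide))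
      · -- 34=(2,1)
        exact False.elim (cert_false T ((skipEmb 2).trans (Function.Embedding.refl _)) (by norm_num) (fun _ => hall _) (((((LB_zero T ((skipEmb 2).trans (Function.Embedding.refl _))).upd 1 3 2 (le_of_eq hx14)).upd 2 3 2 (le_of_eq hx34)).upd 3 1 1 (le_of_eq hx41)).upd 3 2 1 (le_of_eq hx43)) ![0,1,1,1] (by decide) (by decide) 1 (by decide))
      · -- 34=(1,3)
        exact False.elim (cert_false T ((skipEmb 2).trans (Function.Embedding.refl _)) (by norm_num) (fun _ => hall _) (((((LB_zero T ((skipEmb 2).trans (Function.Embedding.refl _))).upd 1 3 2 (le_of_eq hx14)).upd 2 3 1 (le_of_eq hx34)).upd 3 1 1 (le_of_eq hx41)).upd 3 2 3 (le_of_eq hx43)) ![0,1,1,2] (by decide) (by decide) 1 (by decide))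
      · -- 34=(3,1)
        exact False.elim (cert_false T ((skipEmb 2).trans (Function.Embedding.refl _)) (by norm_num) (fun _ => hall _) (((((LB_zero T ((skipEmb 2).trans (Function.Embedding.refl _))).upd 1 3 2 (le_of_eq hx14)).upd 2 3 3 (le_of_eq hx34)).upd 3 1 1 (le_of_eq hx41)).upd 3 2 1 (le_of_eq hx43)) ![0,1,1,1] (by decide) (by decide) 1 (by decide))
    · -- 24=(1,1)
      exact False.elim (cert_false T ((skipEmb 3).trans (Function.Embedding.refl _)) (by norm_num) (fun _ => hall _) (((((((LB_zero T ((skipEmb 3).trans (Function.Embedding.refl _))).upd 0 2 1 (le_of_eq hx02)).upd 1 3 2 (le_of_eq hx14)).upd 2 0 2 (le_of_eq hx20)).upd 2 3 1 (le_of_eq hx24)).upd 3 1 1 (le_of_eq hx41)).upd 3 2 1 (le_of_eq hx42)) ![1,2,2,2] (by decide) (by decide) 0 (by decide))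
    · -- 24=(1,2)
      exact False.elim (cert_false T ((skipEmb 3).trans (Function.Embedding.refl _)) (by norm_num) (fun _ => hall _) (((((LB_zero T ((skipEmb 3).trans (Function.Embedding.refl _))).upd 1 3 2 (le_of_eq hx14)).upd 2 3 1 (le_of_eq hx24)).upd 3 1 1 (le_of_eq hx41)).upd 3 2 2 (le_of_eq hx42)) ![0,2,1,2] (by decide) (by decide) 1 (by decide))
    · -- 24=(2,1)
      exact False.elim (cert_false T ((skipEmb 3).trans (Function.Embedding.refl _)) (by norm_num) (fun _ => hall _) (((((LB_zero T ((skipEmb 3).trans (Function.Embedding.refl _))).upd 1 3 2 (le_of_eq hx14)).upd 2 3 2 (le_of_eq hx24)).upd 3 1 1 (le_of_eq hx41)).upd 3 2 1 (le_of_eq hx42)) ![0,1,1,1] (by decide) (by decide) 1 (by decide))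
    · -- 24=(1,3)
      exact False.elim (cert_false T ((skipEmb 3).trans (Function.Embedding.refl _)) (by norm_num) (fun _ => hall _) (((((LB_zero T ((skipEmb 3).trans (Function.Embedding.refl _))).upd 0 2 1 (le_of_eq hx02)).upd 2 0 2 (le_of_eq hx20)).upd 2 3 1 (le_of_eq hx24)).upd 3 2 3 (le_of_eq hx42)) ![1,0,2,2] (by decide) (by decide) 0 (by decide))
    · -- 24=(3,1)
      exact False.elim (cert_false T ((skipEmb 3).trans (Function.Embedding.refl _)) (by norm_num) (fun _ => hall _) (((((LB_zero T ((skipEmb 3).trans (Function.Embedding.refl _))).upd 1 3 2 (le_of_eq hx14)).upd 2 3 3 (le_of_eq hx24)).upd 3 1 1 (le_of_eq hx41)).upd 3 2 1 (le_of_eq hx42)) ![0,1,1,1] (by decide) (by decide) 1 (by decide))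
  · -- 14=(1,3)
    rcases d24 with ⟨rfl, rfl⟩ | ⟨rfl, rfl⟩ | ⟨rfl, rfl⟩ | ⟨rfl, rfl⟩ | ⟨rfl, rfl⟩ | ⟨rfl, rfl⟩
    · -- 24=(0,0)
      rcases d34 with ⟨rfl, rfl⟩ | ⟨rfl, rfl⟩ | ⟨rfl, rfl⟩ | ⟨rfl, rfl⟩ | ⟨rfl, rfl⟩ | ⟨rfl, rfl⟩
      · -- 34=(0,0)
        exfalso; omega
      · -- 34=(1,1)
        exact False.elim (cert_false T ((skipEmb 2).trans (Function.Embedding.refl _)) (by norm_num) (fun _ => hall _) (((((LB_zero T ((skipEmb 2).trans (Function.Embedding.refl _))).upd 1 3 1 (le_of_eq hx14)).upd 2 3 1 (le_of_eq hx34)).upd 3 1 3 (le_of_eq hx41)).upd 3 2 1 (le_of_eq hx43)) ![0,1,1,2] (by decide) (by decide) 1 (by decide))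
      · -- 34=(1,2)
        exact False.elim (cert_false T ((skipEmb 2).trans (Function.Embedding.refl _)) (by norm_num) (fun _ => hall _) (((((LB_zero T ((skipEmb 2).trans (Function.Embedding.refl _))).upd 1 3 1 (le_of_eq hx14)).upd 2 3 1 (le_of_eq hx34)).upd 3 1 3 (le_of_eq hx41)).upd 3 2 2 (le_of_eq hx43)) ![0,1,1,2] (by decide) (by decide) 1 (by decide))
      · -- 34=(2,1)
        exact False.elim (cert_false T ((skipEmb 2).trans (Function.Embedding.refl _)) (by norm_num) (fun _ => hall _) (((((LB_zero T ((skipEmb 2).trans (Function.Embedding.refl _))).upd 1 3 1 (le_of_eq hx14)).upd 2 3 2 (le_of_eq hx34)).upd 3 1 3 (le_of_eq hx41)).upd 3 2 1 (le_of_eq hx43)) ![0,1,1,2] (by decide) (by decide) 1 (by decide))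
      · -- 34=(1,3)
        exact False.elim (cert_false T ((skipEmb 2).trans (Function.Embedding.refl _)) (by norm_num) (fun _ => hall _) (((((LB_zero T ((skipEmb 2).trans (Function.Embedding.refl _))).upd 1 3 1 (le_of_eq hx14)).upd 2 3 1 (le_of_eq hx34)).upd 3 1 3 (le_of_eq hx41)).upd 3 2 3 (le_of_eq hx43)) ![0,1,1,2] (by decide) (by decide) 1 (by decide))
      · -- 34=(3,1)
        exact False.elim (cert_false T ((skipEmb 2).trans (Function.Embedding.refl _)) (by norm_num) (fun _ => hall _) (((((LB_zero T ((skipEmb 2).trans (Function.Embedding.refl _))).upd 1 3 1 (le_of_eq hx14)).upd 2 3 3 (le_of_eq hx34)).upd 3 1 3 (le_of_eq hx41)).upd 3 2 1 (le_of_eq hx43)) ![0,1,1,2] (by decide) (by decide) 1 (by decide))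
    · -- 24=(1,1)
      exact False.elim (cert_false T ((skipEmb 3).trans (Function.Embedding.refl _)) (by norm_num) (fun _ => hall _) (((((LB_zero T ((skipEmb 3).trans (Function.Embedding.refl _))).upd 1 3 1 (le_of_eq hx14)).upd 2 3 1 (le_of_eq hx24)).upd 3 1 3 (le_of_eq hx41)).upd 3 2 1 (le_of_eq hx42)) ![0,1,1,2] (by decide) (by decide) 1 (by decide))
    · -- 24=(1,2)
      exact False.elim (cert_false T ((skipEmb 3).trans (Function.Embedding.refl _)) (by norm_num) (fun _ => hall _) (((((LB_zero T ((skipEmb 3).trans (Function.Embedding.refl _))).upd 0 2 1 (le_of_eq hx02)).upd 2 0 2 (le_of_eq hx20)).upd 2 3 1 (le_of_eq hx24)).upd 3 2 2 (le_of_eq hx42)) ![1,0,2,2] (by decide) (by decide) 0 (by decide))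
    · -- 24=(2,1)
      exact False.elim (cert_false T ((skipEmb 3).trans (Function.Embedding.refl _)) (by norm_num) (fun _ => hall _) (((((LB_zero T ((skipEmb 3).trans (Function.Embedding.refl _))).upd 1 3 1 (le_of_eq hx14)).upd 2 3 2 (le_of_eq hx24)).upd 3 1 3 (le_of_eq hx41)).upd 3 2 1 (le_of_eq hx42)) ![0,1,1,2] (by decide) (by decide) 1 (by decide))
    · -- 24=(1,3)
      exact False.elim (cert_false T ((skipEmb 3).trans (Function.Embedding.refl _)) (by norm_num) (fun _ => hall _) (((((LB_zero T ((skipEmb 3).trans (Function.Embedding.refl _))).upd 0 2 1 (le_of_eq hx02)).upd 2 0 2 (le_of_eq hx20)).upd 2 3 1 (le_of_eq hx24)).upd 3 2 3 (le_of_eq hx42)) ![1,0,2,2] (by decide) (by decide) 0 (by decide))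
    · -- 24=(3,1)
      exact False.elim (cert_false T ((skipEmb 3).trans (Function.Embedding.refl _)) (by norm_num) (fun _ => hall _) (((((LB_zero T ((skipEmb 3).trans (Function.Embedding.refl _))).upd 1 3 1 (le_of_eq hx14)).upd 2 3 3 (le_of_eq hx24)).upd 3 1 3 (le_of_eq hx41)).upd 3 2 1 (le_of_eq hx42)) ![0,1,1,2] (by decide) (by decide) 1 (by decide))
  · -- 14=(3,1)
    rcases d24 with ⟨rfl, rfl⟩ | ⟨rfl, rfl⟩ | ⟨rfl, rfl⟩ | ⟨rfl, rfl⟩ | ⟨rfl, rfl⟩ | ⟨rfl, rfl⟩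
    · -- 24=(0,0)
      rcases d34 with ⟨rfl, rfl⟩ | ⟨rfl, rfl⟩ | ⟨rfl, rfl⟩ | ⟨rfl, rfl⟩ | ⟨rfl, rfl⟩ | ⟨rfl, rfl⟩
      · -- 34=(0,0)
        exfalso; omega
      · -- 34=(1,1)
        exact False.elim (cert_false T ((skipEmb 2).trans (Function.Embedding.refl _)) (by norm_num) (fun _ => hall _) (((((LB_zero T ((skipEmb 2).trans (Function.Embedding.refl _))).upd 1 3 3 (le_of_eq hx14)).upd 2 3 1 (le_of_eq hx34)).upd 3 1 1 (le_of_eq hx41)).upd 3 2 1 (le_of_eq hx43)) ![0,3,1,2] (by decide) (by decide) 1 (by decide))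
      · -- 34=(1,2)
        exact False.elim (cert_false T ((skipEmb 2).trans (Function.Embedding.refl _)) (by norm_num) (fun _ => hall _) (((((LB_zero T ((skipEmb 2).trans (Function.Embedding.refl _))).upd 1 3 3 (le_of_eq hx14)).upd 2 3 1 (le_of_eq hx34)).upd 3 1 1 (le_of_eq hx41)).upd 3 2 2 (le_of_eq hx43)) ![0,2,1,2] (by decide) (by decide) 1 (by decide))
      · -- 34=(2,1)
        exact False.elim (cert_false T ((skipEmb 2).trans (Function.Embedding.refl _)) (by norm_num) (fun _ => hall _) (((((LB_zero T ((skipEmb 2).trans (Function.Embedding.refl _))).upd 1 3 3 (le_of_eq hx14)).upd 2 3 2 (le_of_eq hx34)).upd 3 1 1 (le_of_eq hx41)).upd 3 2 1 (le_of_eq hx43)) ![0,1,1,1] (by decide) (by decide) 1 (by decide))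
      · -- 34=(1,3)
        exact False.elim (cert_false T ((skipEmb 2).trans (Function.Embedding.refl _)) (by norm_num) (fun _ => hall _) (((((LB_zero T ((skipEmb 2).trans (Function.Embedding.refl _))).upd 1 3 3 (le_of_eq hx14)).upd 2 3 1 (le_of_eq hx34)).upd 3 1 1 (le_of_eq hx41)).upd 3 2 3 (le_of_eq hx43)) ![0,1,1,2] (by decide) (by decide) 1 (by decide))
      · -- 34=(3,1)
        exact False.elim (cert_false T ((skipEmb 2).trans (Function.Embedding.refl _)) (by norm_num) (fun _ => hall _) (((((LB_zero T ((skipEmb 2).trans (Function.Embedding.refl _))).upd 1 3 3 (le_of_eq hx14)).upd 2 3 3 (le_of_eq hx34)).upd 3 1 1 (le_of_eq hx41)).upd 3 2 1 (le_of_eq hx43)) ![0,1,1,1] (by decide) (by decide) 1 (by decide))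
    · -- 24=(1,1)
      exact False.elim (cert_false T ((skipEmb 3).trans (Function.Embedding.refl _)) (by norm_num) (fun _ => hall _) (((((((LB_zero T ((skipEmb 3).trans (Function.Embedding.refl _))).upd 0 2 1 (le_of_eq hx02)).upd 1 3 3 (le_of_eq hx14)).upd 2 0 2 (le_of_eq hx20)).upd 2 3 1 (le_of_eq hx24)).upd 3 1 1 (le_of_eq hx41)).upd 3 2 1 (le_of_eq hx42)) ![1,2,2,2] (by decide) (by decide) 0 (by decide))
    · -- 24=(1,2)
      exact False.elim (cert_false T ((skipEmb 3).trans (Function.Embedding.refl _)) (by norm_num) (fun _ => hall _) (((((LB_zero T ((skipEmb 3).trans (Function.Embedding.refl _))).upd 0 2 1 (le_of_eq hx02)).upd 2 0 2 (le_of_eq hx20)).upd 2 3 1 (le_of_eq hx24)).upd 3 2 2 (le_of_eq hx42)) ![1,0,2,2] (by decide) (by decide) 0 (by decide))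
    · -- 24=(2,1)
      exact False.elim (cert_false T ((skipEmb 3).trans (Function.Embedding.refl _)) (by norm_num) (fun _ => hall _) (((((LB_zero T ((skipEmb 3).trans (Function.Embedding.refl _))).upd 1 3 3 (le_of_eq hx14)).upd 2 3 2 (le_of_eq hx24)).upd 3 1 1 (le_of_eq hx41)).upd 3 2 1 (le_of_eq hx42)) ![0,1,1,1] (by decide) (by decide) 1 (by decide))
    · -- 24=(1,3)
      exact False.elim (cert_false T ((skipEmb 3).trans (Function.Embedding.refl _)) (by norm_num) (fun _ => hall _) (((((LB_zero T ((skipEmb 3).trans (Function.Embedding.refl _))).upd 0 2 1 (le_of_eq hx02)).upd 2 0 2 (le_of_eq hx20)).upd 2 3 1 (le_of_eq hx24)).upd 3 2 3 (le_of_eq hx42)) ![1,0,2,2] (by decide) (by decide) 0 (by decide))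
    · -- 24=(3,1)
      exact False.elim (cert_false T ((skipEmb 3).trans (Function.Embedding.refl _)) (by norm_num) (fun _ => hall _) (((((LB_zero T ((skipEmb 3).trans (Function.Embedding.refl _))).upd 1 3 3 (le_of_eq hx14)).upd 2 3 3 (le_of_eq hx24)).upd 3 1 1 (le_of_eq hx41)).upd 3 2 1 (le_of_eq hx42)) ![0,1,1,1] (by decide) (by decide) 1 (by decide))

theorem case297 (T : NumericalType 5) (hall : ∀ i, T.IsMinusTwo i) (d : SData T)
    (h01 : N T (Function.Embedding.refl _) 0 1 = 0) (h10 : N T (Function.Embedding.refl _) 1 0 = 0)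
    (h02 : N T (Function.Embedding.refl _) 0 2 = 1) (h20 : N T (Function.Embedding.refl _) 2 0 = 2)
    (h12 : N T (Function.Embedding.refl _) 1 2 = 0) (h21 : N T (Function.Embedding.refl _) 2 1 = 0)
    (h03 : N T (Function.Embedding.refl _) 0 3 = 1) (h30 : N T (Function.Embedding.refl _) 3 0 = 1)
    (h13 : N T (Function.Embedding.refl _) 1 3 = 0) (h31 : N T (Function.Embedding.refl _) 3 1 = 0)
    (h23 : N T (Function.Embedding.refl _) 2 3 = 0) (h32 : N T (Function.Embedding.refl _) 3 2 = 0) :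
    Goal T := by
  unfold Goal
  have hd := d
  obtain ⟨x01, x02, x03, x04, x10, x12, x13, x14, x20, x21, x23, x24, x30, x31, x32, x34, x40, x41, x42, x43, hx01, hx02, hx03, hx04, hx10, hx12, hx13, hx14, hx20, hx21, hx23, hx24, hx30, hx31, hx32, hx34, hx40, hx41, hx42, hx43, hw0, hm0, hw1, hm1, hw2, hm2, hw3, hm3, hw4, hm4, a00, a01, a02, a03, a04, a11, a10, a12, a13, a14, a22, a20, a21, a23, a24, a33, a30, a31, a32, a34, a44, a40, a41, a42, a43, wN01, wN02, wN12, wN03, wN13, wN23, wN04, wN14, wN24, wN34, e0, e1, e2, e3, e4, d01, d02, d12, d03, d13, d23, d04, d14, d24, d34⟩ := d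
  obtain rfl : x01 = 0 := hx01.trans h01
  obtain rfl : x10 = 0 := hx10.trans h10
  obtain rfl : x02 = 1 := hx02.trans h02
  obtain rfl : x20 = 2 := hx20.trans h20
  obtain rfl : x12 = 0 := hx12.trans h12
  obtain rfl : x21 = 0 := hx21.trans h21
  obtain rfl : x03 = 1 := hx03.trans h03
  obtain rfl : x30 = 1 := hx30.trans h30
  obtain rfl : x13 = 0 := hx13.trans h13
  obtain rfl : x31 = 0 := hx31.trans h31
  obtain rfl : x23 = 0 := hx23.trans h23
  obtain rfl : x32 = 0 := hx32.trans h32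
  rcases d04 with ⟨rfl, rfl⟩ | ⟨rfl, rfl⟩ | ⟨rfl, rfl⟩ | ⟨rfl, rfl⟩ | ⟨rfl, rfl⟩ | ⟨rfl, rfl⟩
  · -- 04=(0,0)
    exact case298 T hall hd hx01.symm hx10.symm hx02.symm hx20.symm hx12.symm hx21.symm hx03.symm hx30.symm hx13.symm hx31.symm hx23.symm hx32.symm hx04.symm hx40.symm
  · -- 04=(1,1)
    exact False.elim (cert_false T ((skipEmb 1).trans (Function.Embedding.refl _)) (by norm_num) (fun _ => hall _) (((((((LB_zero T ((skipEmb 1).trans (Function.Embedding.refl _))).upd 0 1 1 (le_of_eq hx02)).upd 0 2 1 (le_of_eq hx03)).upd 0 3 1 (le_of_eq hx04)).upd 1 0 2 (le_of_eq hx20)).upd 2 0 1 (le_of_eq hx30)).upd 3 0 1 (le_of_eq hx40)) ![2,2,1,1] (by decide) (by decide) 0 (by decide))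
  · -- 04=(1,2)
    exact False.elim (cert_false T ((skipEmb 3).trans (Function.Embedding.refl _)) (by norm_num) (fun _ => hall _) (((((LB_zero T ((skipEmb 3).trans (Function.Embedding.refl _))).upd 0 2 1 (le_of_eq hx02)).upd 0 3 1 (le_of_eq hx04)).upd 2 0 2 (le_of_eq hx20)).upd 3 0 2 (le_of_eq hx40)) ![1,0,1,1] (by decide) (by decide) 0 (by decide))
  · -- 04=(2,1)
    exact False.elim (cert_false T ((skipEmb 3).trans (Function.Embedding.refl _)) (by norm_num) (fun _ => hall _) (((((LB_zero T ((skipEmb 3).trans (Function.Embedding.refl _))).upd 0 2 1 (le_of_eq hx02)).upd 0 3 2 (le_of_eq hx04)).upd 2 0 2 (le_of_eq hx20)).upd 3 0 1 (le_of_eq hx40)) ![2,0,2,1] (by decide) (by decide) 0 (by decide))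
  · -- 04=(1,3)
    exact False.elim (cert_false T ((skipEmb 3).trans (Function.Embedding.refl _)) (by norm_num) (fun _ => hall _) (((((LB_zero T ((skipEmb 3).trans (Function.Embedding.refl _))).upd 0 2 1 (le_of_eq hx02)).upd 0 3 1 (le_of_eq hx04)).upd 2 0 2 (le_of_eq hx20)).upd 3 0 3 (le_of_eq hx40)) ![1,0,1,1] (by decide) (by decide) 0 (by decide))
  · -- 04=(3,1)
    exact False.elim (cert_false T ((skipEmb 3).trans (Function.Embedding.refl _)) (by norm_num) (fun _ => hall _) (((((LB_zero T ((skipEmb 3).trans (Function.Embedding.refl _))).upd 0 2 1 (le_of_eq hx02)).upd 0 3 3 (le_of_eq hx04)).upd 2 0 2 (le_of_eq hx20)).upd 3 0 1 (le_of_eq hx40)) ![2,0,1,1] (by decide) (by decide) 0 (by decide))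

theorem case296 (T : NumericalType 5) (hall : ∀ i, T.IsMinusTwo i) (d : SData T)
    (h01 : N T (Function.Embedding.refl _) 0 1 = 0) (h10 : N T (Function.Embedding.refl _) 1 0 = 0)
    (h02 : N T (Function.Embedding.refl _) 0 2 = 1) (h20 : N T (Function.Embedding.refl _) 2 0 = 2)
    (h12 : N T (Function.Embedding.refl _) 1 2 = 0) (h21 : N T (Function.Embedding.refl _) 2 1 = 0)
    (h03 : N T (Function.Embedding.refl _) 0 3 = 1) (h30 : N T (Function.Embedding.refl _) 3 0 = 1)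
    (h13 : N T (Function.Embedding.refl _) 1 3 = 0) (h31 : N T (Function.Embedding.refl _) 3 1 = 0) :
    Goal T := by
  unfold Goal
  have hd := d
  obtain ⟨x01, x02, x03, x04, x10, x12, x13, x14, x20, x21, x23, x24, x30, x31, x32, x34, x40, x41, x42, x43, hx01, hx02, hx03, hx04, hx10, hx12, hx13, hx14, hx20, hx21, hx23, hx24, hx30, hx31, hx32, hx34, hx40, hx41, hx42, hx43, hw0, hm0, hw1, hm1, hw2, hm2, hw3, hm3, hw4, hm4, a00, a01, a02, a03, a04, a11, a10, a12, a13, a14, a22, a20, a21, a23, a24, a33, a30, a31, a32, a34, a44, a40, a41, a42, a43, wN01, wN02, wN12, wN03, wN13, wN23, wN04, wN14, wN24, wN34, e0, e1, e2, e3, e4, d01, d02, d12, d03, d13, d23, d04, d14, d24, d34⟩ := d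
  obtain rfl : x01 = 0 := hx01.trans h01
  obtain rfl : x10 = 0 := hx10.trans h10
  obtain rfl : x02 = 1 := hx02.trans h02
  obtain rfl : x20 = 2 := hx20.trans h20
  obtain rfl : x12 = 0 := hx12.trans h12
  obtain rfl : x21 = 0 := hx21.trans h21
  obtain rfl : x03 = 1 := hx03.trans h03
  obtain rfl : x30 = 1 := hx30.trans h30
  obtain rfl : x13 = 0 := hx13.trans h13
  obtain rfl : x31 = 0 := hx31.trans h31
  rcases d23 with ⟨rfl, rfl⟩ | ⟨rfl, rfl⟩ | ⟨rfl, rfl⟩ | ⟨rfl, rfl⟩ | ⟨rfl, rfl⟩ | ⟨rfl, rfl⟩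
  · -- 23=(0,0)
    exact case297 T hall hd hx01.symm hx10.symm hx02.symm hx20.symm hx12.symm hx21.symm hx03.symm hx30.symm hx13.symm hx31.symm hx23.symm hx32.symm
  · -- 23=(1,1)
    exact False.elim (cert_false T ((skipEmb 4).trans (Function.Embedding.refl _)) (by norm_num) (fun _ => hall _) (((((((LB_zero T ((skipEmb 4).trans (Function.Embedding.refl _))).upd 0 2 1 (le_of_eq hx02)).upd 0 3 1 (le_of_eq hx03)).upd 2 0 2 (le_of_eq hx20)).upd 2 3 1 (le_of_eq hx23)).upd 3 0 1 (le_of_eq hx30)).upd 3 2 1 (le_of_eq hx32)) ![1,0,1,1] (by decide) (by decide) 0 (by decide))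
  · -- 23=(1,2)
    exact False.elim (cert_false T ((skipEmb 4).trans (Function.Embedding.refl _)) (by norm_num) (fun _ => hall _) (((((((LB_zero T ((skipEmb 4).trans (Function.Embedding.refl _))).upd 0 2 1 (le_of_eq hx02)).upd 0 3 1 (le_of_eq hx03)).upd 2 0 2 (le_of_eq hx20)).upd 2 3 1 (le_of_eq hx23)).upd 3 0 1 (le_of_eq hx30)).upd 3 2 2 (le_of_eq hx32)) ![1,0,1,1] (by decide) (by decide) 0 (by decide))
  · -- 23=(2,1)
    exact False.elim (cert_false T ((skipEmb 4).trans (Function.Embedding.refl _)) (by norm_num) (fun _ => hall _) (((((((LB_zero T ((skipEmb 4).trans (Function.Embedding.refl _))).upd 0 2 1 (le_of_eq hx02)).upd 0 3 1 (le_of_eq hx03)).upd 2 0 2 (le_of_eq hx20)).upd 2 3 2 (le_of_eq hx23)).upd 3 0 1 (le_of_eq hx30)).upd 3 2 1 (le_of_eq hx32)) ![1,0,1,1] (by decide) (by decide) 0 (by decide))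
  · -- 23=(1,3)
    exact False.elim (cert_false T ((skipEmb 4).trans (Function.Embedding.refl _)) (by norm_num) (fun _ => hall _) (((((((LB_zero T ((skipEmb 4).trans (Function.Embedding.refl _))).upd 0 2 1 (le_of_eq hx02)).upd 0 3 1 (le_of_eq hx03)).upd 2 0 2 (le_of_eq hx20)).upd 2 3 1 (le_of_eq hx23)).upd 3 0 1 (le_of_eq hx30)).upd 3 2 3 (le_of_eq hx32)) ![1,0,1,1] (by decide) (by decide) 0 (by decide))
  · -- 23=(3,1)
    exact False.elim (cert_false T ((skipEmb 4).trans (Function.Embedding.refl _)) (by norm_num) (fun _ => hall _) (((((((LB_zero T ((skipEmb 4).trans (Function.Embedding.refl _))).upd 0 2 1 (le_of_eq hx02)).upd 0 3 1 (le_of_eq hx03)).upd 2 0 2 (le_of_eq hx20)).upd 2 3 3 (le_of_eq hx23)).upd 3 0 1 (le_of_eq hx30)).upd 3 2 1 (le_of_eq hx32)) ![1,0,1,1] (by decide) (by decide) 0 (by decide))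

theorem case331 (T : NumericalType 5) (hall : ∀ i, T.IsMinusTwo i) (d : SData T)
    (h01 : N T (Function.Embedding.refl _) 0 1 = 0) (h10 : N T (Function.Embedding.refl _) 1 0 = 0)
    (h02 : N T (Function.Embedding.refl _) 0 2 = 2) (h20 : N T (Function.Embedding.refl _) 2 0 = 1)
    (h12 : N T (Function.Embedding.refl _) 1 2 = 1) (h21 : N T (Function.Embedding.refl _) 2 1 = 1)
    (h03 : N T (Function.Embedding.refl _) 0 3 = 0) (h30 : N T (Function.Embedding.refl _) 3 0 = 0)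
    (h13 : N T (Function.Embedding.refl _) 1 3 = 0) (h31 : N T (Function.Embedding.refl _) 3 1 = 0) :
    Goal T := by
  unfold Goal
  have hd := d
  obtain ⟨x01, x02, x03, x04, x10, x12, x13, x14, x20, x21, x23, x24, x30, x31, x32, x34, x40, x41, x42, x43, hx01, hx02, hx03, hx04, hx10, hx12, hx13, hx14, hx20, hx21, hx23, hx24, hx30, hx31, hx32, hx34, hx40, hx41, hx42, hx43, hw0, hm0, hw1, hm1, hw2, hm2, hw3, hm3, hw4, hm4, a00, a01, a02, a03, a04, a11, a10, a12, a13, a14, a22, a20, a21, a23, a24, a33, a30, a31, a32, a34, a44, a40, a41, a42, a43, wN01, wN02, wN12, wN03, wN13, wN23, wN04, wN14, wN24, wN34, e0, e1, e2, e3, e4, d01, d02, d12, d03, d13, d23, d04, d14, d24, d34⟩ := d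
  obtain rfl : x01 = 0 := hx01.trans h01
  obtain rfl : x10 = 0 := hx10.trans h10
  obtain rfl : x02 = 2 := hx02.trans h02
  obtain rfl : x20 = 1 := hx20.trans h20
  obtain rfl : x12 = 1 := hx12.trans h12
  obtain rfl : x21 = 1 := hx21.trans h21
  obtain rfl : x03 = 0 := hx03.trans h03
  obtain rfl : x30 = 0 := hx30.trans h30
  obtain rfl : x13 = 0 := hx13.trans h13
  obtain rfl : x31 = 0 := hx31.trans h31
  rcases d23 with ⟨rfl, rfl⟩ | ⟨rfl, rfl⟩ | ⟨rfl, rfl⟩ | ⟨rfl, rfl⟩ | ⟨rfl, rfl⟩ | ⟨rfl, rfl⟩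
  · -- 23=(0,0)
    rcases d04 with ⟨rfl, rfl⟩ | ⟨rfl, rfl⟩ | ⟨rfl, rfl⟩ | ⟨rfl, rfl⟩ | ⟨rfl, rfl⟩ | ⟨rfl, rfl⟩
    · -- 04=(0,0)
      rcases d14 with ⟨rfl, rfl⟩ | ⟨rfl, rfl⟩ | ⟨rfl, rfl⟩ | ⟨rfl, rfl⟩ | ⟨rfl, rfl⟩ | ⟨rfl, rfl⟩
      · -- 14=(0,0)
        rcases d24 with ⟨rfl, rfl⟩ | ⟨rfl, rfl⟩ | ⟨rfl, rfl⟩ | ⟨rfl, rfl⟩ | ⟨rfl, rfl⟩ | ⟨rfl, rfl⟩
        · -- 24=(0,0)
          rcases d34 with ⟨rfl, rfl⟩ | ⟨rfl, rfl⟩ | ⟨rfl, rfl⟩ | ⟨rfl, rfl⟩ | ⟨rfl, rfl⟩ | ⟨rfl, rfl⟩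
          · -- 34=(0,0)
            exfalso; omega
          · -- 34=(1,1)
            exfalso; omega
          · -- 34=(1,2)
            exfalso; omega
          · -- 34=(2,1)
            exfalso; omega
          · -- 34=(1,3)
            exfalso; omega
          · -- 34=(3,1)
            exfalso; omega
        · -- 24=(1,1)
          exact False.elim (cert_false T ((skipEmb 3).trans (Function.Embedding.refl _)) (by norm_num) (fun _ => hall _) (((((((LB_zero T ((skipEmb 3).trans (Function.Embedding.refl _))).upd 0 2 2 (le_of_eq hx02)).upd 1 2 1 (le_of_eq hx12)).upd 2 0 1 (le_of_eq hx20)).upd 2 1 1 (le_of_eq hx21)).upd 2 3 1 (le_of_eq hx24)).upd 3 2 1 (le_of_eq hx42)) ![2,1,2,1] (by decide) (by decide) 0 (by decide))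
        · -- 24=(1,2)
          exact False.elim (cert_false T ((skipEmb 3).trans (Function.Embedding.refl _)) (by norm_num) (fun _ => hall _) (((((LB_zero T ((skipEmb 3).trans (Function.Embedding.refl _))).upd 0 2 2 (le_of_eq hx02)).upd 2 0 1 (le_of_eq hx20)).upd 2 3 1 (le_of_eq hx24)).upd 3 2 2 (le_of_eq hx42)) ![1,0,1,1] (by decide) (by decide) 0 (by decide))
        · -- 24=(2,1)
          exact False.elim (cert_false T ((skipEmb 3).trans (Function.Embedding.refl _)) (by norm_num) (fun _ => hall _) (((((((LB_zero T ((skipEmb 3).trans (Function.Embedding.refl _))).upd 0 2 2 (le_of_eq hx02)).upd 1 2 1 (le_of_eq hx12)).upd 2 0 1 (le_of_eq hx20)).upd 2 1 1 (le_of_eq hx21)).upd 2 3 2 (le_of_eq hx24)).upd 3 2 1 (le_of_eq hx42)) ![1,1,2,1] (by decide) (by decide) 0 (by decide))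
        · -- 24=(1,3)
          exact False.elim (cert_false T ((skipEmb 3).trans (Function.Embedding.refl _)) (by norm_num) (fun _ => hall _) (((((LB_zero T ((skipEmb 3).trans (Function.Embedding.refl _))).upd 0 2 2 (le_of_eq hx02)).upd 2 0 1 (le_of_eq hx20)).upd 2 3 1 (le_of_eq hx24)).upd 3 2 3 (le_of_eq hx42)) ![1,0,1,1] (by decide) (by decide) 0 (by decide))
        · -- 24=(3,1)
          exact False.elim (cert_false T ((skipEmb 3).trans (Function.Embedding.refl _)) (by norm_num) (fun _ => hall _) (((((LB_zero T ((skipEmb 3).trans (Function.Embedding.refl _))).upd 1 2 1 (le_of_eq hx12)).upd 2 1 1 (le_of_eq hx21)).upd 2 3 3 (le_of_eq hx24)).upd 3 2 1 (le_of_eq hx42)) ![0,1,2,1] (by decide) (by decide) 1 (by decide))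
      · -- 14=(1,1)
        rcases d24 with ⟨rfl, rfl⟩ | ⟨rfl, rfl⟩ | ⟨rfl, rfl⟩ | ⟨rfl, rfl⟩ | ⟨rfl, rfl⟩ | ⟨rfl, rfl⟩
        · -- 24=(0,0)
          rcases d34 with ⟨rfl, rfl⟩ | ⟨rfl, rfl⟩ | ⟨rfl, rfl⟩ | ⟨rfl, rfl⟩ | ⟨rfl, rfl⟩ | ⟨rfl, rfl⟩
          · -- 34=(0,0)
            exfalso; omega
          · -- 34=(1,1)
            exfalso; omega
          · -- 34=(1,2)
            refine ⟨(⟨![0, 2, 1, 4, 3], ![0, 2, 1, 4, 3], by decide, by decide⟩ : Equiv.Perm (Fin 5)), T.m 3, T.w 0, Or.inr (Or.inr (Or.inr (Or.inl ?_)))⟩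
            show T.m 0 = 2 * T.m 3 ∧ T.m 2 = 2 * T.m 3 ∧ T.m 1 = 2 * T.m 3 ∧ T.m 4 = 2 * T.m 3 ∧ T.m 3 = T.m 3 ∧ T.w 0 = T.w 0 ∧ T.w 2 = 2 * T.w 0 ∧ T.w 1 = 2 * T.w 0 ∧ T.w 4 = 2 * T.w 0 ∧ T.w 3 = 4 * T.w 0 ∧ T.a 0 0 = -2 * T.w 0 ∧ T.a 0 2 = 2 * T.w 0 ∧ T.a 0 1 = 0 ∧ T.a 0 4 = 0 ∧ T.a 0 3 = 0 ∧ T.a 2 2 = -4 * T.w 0 ∧ T.a 2 1 = 2 * T.w 0 ∧ T.a 2 4 = 0 ∧ T.a 2 3 = 0 ∧ T.a 1 1 = -4 * T.w 0 ∧ T.a 1 4 = 2 * T.w 0 ∧ T.a 1 3 = 0 ∧ T.a 4 4 = -4 * T.w 0 ∧ T.a 4 3 = 4 * T.w 0 ∧ T.a 3 3 = -8 * T.w 0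
            refine ⟨?_, ?_, ?_, ?_, ?_, ?_, ?_, ?_, ?_, ?_, ?_, ?_, ?_, ?_, ?_, ?_, ?_, ?_, ?_, ?_, ?_, ?_, ?_, ?_, ?_⟩ <;> omega
          · -- 34=(2,1)
            refine ⟨(⟨![0, 2, 1, 4, 3], ![0, 2, 1, 4, 3], by decide, by decide⟩ : Equiv.Perm (Fin 5)), T.m 0, T.w 0, Or.inr (Or.inr (Or.inr (Or.inr (Or.inl ?_))))⟩
            show T.m 0 = T.m 0 ∧ T.m 2 = T.m 0 ∧ T.m 1 = T.m 0 ∧ T.m 4 = T.m 0 ∧ T.m 3 = T.m 0 ∧ T.w 0 = T.w 0 ∧ T.w 2 = 2 * T.w 0 ∧ T.w 1 = 2 * T.w 0 ∧ T.w 4 = 2 * T.w 0 ∧ T.w 3 = T.w 0 ∧ T.a 0 0 = -2 * T.w 0 ∧ T.a 0 2 = 2 * T.w 0 ∧ T.a 0 1 = 0 ∧ T.a 0 4 = 0 ∧ T.a 0 3 = 0 ∧ T.a 2 2 = -4 * T.w 0 ∧ T.a 2 1 = 2 * T.w 0 ∧ T.a 2 4 = 0 ∧ T.a 2 3 = 0 ∧ T.a 1 1 = -4 * T.w 0 ∧ T.a 1 4 = 2 * T.w 0 ∧ T.a 1 3 = 0 ∧ T.a 4 4 = -4 * T.w 0 ∧ T.a 4 3 = 2 * T.w 0 ∧ T.a 3 3 = -2 * T.w 0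
            refine ⟨?_, ?_, ?_, ?_, ?_, ?_, ?_, ?_, ?_, ?_, ?_, ?_, ?_, ?_, ?_, ?_, ?_, ?_, ?_, ?_, ?_, ?_, ?_, ?_, ?_⟩ <;> omega
          · -- 34=(1,3)
            exact False.elim (cert_false T ((skipEmb 2).trans (Function.Embedding.refl _)) (by norm_num) (fun _ => hall _) (((((LB_zero T ((skipEmb 2).trans (Function.Embedding.refl _))).upd 1 3 1 (le_of_eq hx14)).upd 2 3 1 (le_of_eq hx34)).upd 3 1 1 (le_of_eq hx41)).upd 3 2 3 (le_of_eq hx43)) ![0,1,1,2] (by decide) (by decide) 1 (by decide))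
          · -- 34=(3,1)
            exact False.elim (cert_false T ((skipEmb 2).trans (Function.Embedding.refl _)) (by norm_num) (fun _ => hall _) (((((LB_zero T ((skipEmb 2).trans (Function.Embedding.refl _))).upd 1 3 1 (le_of_eq hx14)).upd 2 3 3 (le_of_eq hx34)).upd 3 1 1 (le_of_eq hx41)).upd 3 2 1 (le_of_eq hx43)) ![0,1,3,2] (by decide) (by decide) 1 (by decide))
        · -- 24=(1,1)
          exact False.elim (cert_false T ((skipEmb 3).trans (Function.Embedding.refl _)) (by norm_num) (fun _ => hall _) (((((((LB_zero T ((skipEmb 3).trans (Function.Embedding.refl _))).upd 1 2 1 (le_of_eq hx12)).upd 1 3 1 (le_of_eq hx14)).upd 2 1 1 (le_of_eq hx21)).upd 2 3 1 (le_of_eq hx24)).upd 3 1 1 (le_of_eq hx41)).upd 3 2 1 (le_of_eq hx42)) ![0,1,1,1] (by decide) (by decide) 1 (by decide))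
        · -- 24=(1,2)
          exact False.elim (cert_false T ((skipEmb 3).trans (Function.Embedding.refl _)) (by norm_num) (fun _ => hall _) (((((((LB_zero T ((skipEmb 3).trans (Function.Embedding.refl _))).upd 1 2 1 (le_of_eq hx12)).upd 1 3 1 (le_of_eq hx14)).upd 2 1 1 (le_of_eq hx21)).upd 2 3 1 (le_of_eq hx24)).upd 3 1 1 (le_of_eq hx41)).upd 3 2 2 (le_of_eq hx42)) ![0,1,1,1] (by decide) (by decide) 1 (by decide))
        · -- 24=(2,1)
          exact False.elim (cert_false T ((skipEmb 3).trans (Function.Embedding.refl _)) (by norm_num) (fun _ => hall _) (((((((LB_zero T ((skipEmb 3).trans (Function.Embedding.refl _))).upd 1 2 1 (le_of_eq hx12)).upd 1 3 1 (le_of_eq hx14)).upd 2 1 1 (le_of_eq hx21)).upd 2 3 2 (le_of_eq hx24)).upd 3 1 1 (le_of_eq hx41)).upd 3 2 1 (le_of_eq hx42)) ![0,1,1,1] (by decide) (by decide) 1 (by decide))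
        · -- 24=(1,3)
          exact False.elim (cert_false T ((skipEmb 3).trans (Function.Embedding.refl _)) (by norm_num) (fun _ => hall _) (((((LB_zero T ((skipEmb 3).trans (Function.Embedding.refl _))).upd 0 2 2 (le_of_eq hx02)).upd 2 0 1 (le_of_eq hx20)).upd 2 3 1 (le_of_eq hx24)).upd 3 2 3 (le_of_eq hx42)) ![1,0,1,1] (by decide) (by decide) 0 (by decide))
        · -- 24=(3,1)
          exact False.elim (cert_false T ((skipEmb 3).trans (Function.Embedding.refl _)) (by norm_num) (fun _ => hall _) (((((((LB_zero T ((skipEmb 3).trans (Function.Embedding.refl _))).upd 1 2 1 (le_of_eq hx12)).upd 1 3 1 (le_of_eq hx14)).upd 2 1 1 (le_of_eq hx21)).upd 2 3 3 (le_of_eq hx24)).upd 3 1 1 (le_of_eq hx41)).upd 3 2 1 (le_of_eq hx42)) ![0,1,1,1] (by decide) (by decide) 1 (by decide))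
      · -- 14=(1,2)
        exact False.elim (cert_false T ((skipEmb 3).trans (Function.Embedding.refl _)) (by norm_num) (fun _ => hall _) (((((((LB_zero T ((skipEmb 3).trans (Function.Embedding.refl _))).upd 0 2 2 (le_of_eq hx02)).upd 1 2 1 (le_of_eq hx12)).upd 1 3 1 (le_of_eq hx14)).upd 2 0 1 (le_of_eq hx20)).upd 2 1 1 (le_of_eq hx21)).upd 3 1 2 (le_of_eq hx41)) ![1,1,1,1] (by decide) (by decide) 0 (by decide))
      · -- 14=(2,1)
        exact False.elim (cert_false T ((skipEmb 3).trans (Function.Embedding.refl _)) (by norm_num) (fun _ => hall _) (((((((LB_zero T ((skipEmb 3).trans (Function.Embedding.refl _))).upd 0 2 2 (le_of_eq hx02)).upd 1 2 1 (le_of_eq hx12)).upd 1 3 2 (le_of_eq hx14)).upd 2 0 1 (le_of_eq hx20)).upd 2 1 1 (le_of_eq hx21)).upd 3 1 1 (le_of_eq hx41)) ![2,2,2,1] (by decide) (by decide) 0 (by decide))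
      · -- 14=(1,3)
        exact False.elim (cert_false T ((skipEmb 3).trans (Function.Embedding.refl _)) (by norm_num) (fun _ => hall _) (((((((LB_zero T ((skipEmb 3).trans (Function.Embedding.refl _))).upd 0 2 2 (le_of_eq hx02)).upd 1 2 1 (le_of_eq hx12)).upd 1 3 1 (le_of_eq hx14)).upd 2 0 1 (le_of_eq hx20)).upd 2 1 1 (le_of_eq hx21)).upd 3 1 3 (le_of_eq hx41)) ![1,1,1,1] (by decide) (by decide) 0 (by decide))
      · -- 14=(3,1)
        exact False.elim (cert_false T ((skipEmb 3).trans (Function.Embedding.refl _)) (by norm_num) (fun _ => hall _) (((((LB_zero T ((skipEmb 3).trans (Function.Embedding.refl _))).upd 1 2 1 (le_of_eq hx12)).upd 1 3 3 (le_of_eq hx14)).upd 2 1 1 (le_of_eq hx21)).upd 3 1 1 (le_of_eq hx41)) ![0,2,1,1] (by decide) (by decide) 1 (by decide))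
    · -- 04=(1,1)
      rcases d14 with ⟨rfl, rfl⟩ | ⟨rfl, rfl⟩ | ⟨rfl, rfl⟩ | ⟨rfl, rfl⟩ | ⟨rfl, rfl⟩ | ⟨rfl, rfl⟩
      · -- 14=(0,0)
        rcases d24 with ⟨rfl, rfl⟩ | ⟨rfl, rfl⟩ | ⟨rfl, rfl⟩ | ⟨rfl, rfl⟩ | ⟨rfl, rfl⟩ | ⟨rfl, rfl⟩
        · -- 24=(0,0)
          rcases d34 with ⟨rfl, rfl⟩ | ⟨rfl, rfl⟩ | ⟨rfl, rfl⟩ | ⟨rfl, rfl⟩ | ⟨rfl, rfl⟩ | ⟨rfl, rfl⟩
          · -- 34=(0,0)
            exfalso; omega
          · -- 34=(1,1)
            refine ⟨(⟨![3, 4, 0, 2, 1], ![2, 4, 3, 0, 1], by decide, by decide⟩ : Equiv.Perm (Fin 5)), T.m 3, T.w 3, Or.inr (Or.inl ?_)⟩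
            show T.m 3 = T.m 3 ∧ T.m 4 = 2 * T.m 3 ∧ T.m 0 = 3 * T.m 3 ∧ T.m 2 = 2 * T.m 3 ∧ T.m 1 = T.m 3 ∧ T.w 3 = T.w 3 ∧ T.w 4 = T.w 3 ∧ T.w 0 = T.w 3 ∧ T.w 2 = 2 * T.w 3 ∧ T.w 1 = 2 * T.w 3 ∧ T.a 3 3 = -2 * T.w 3 ∧ T.a 3 4 = T.w 3 ∧ T.a 3 0 = 0 ∧ T.a 3 2 = 0 ∧ T.a 3 1 = 0 ∧ T.a 4 4 = -2 * T.w 3 ∧ T.a 4 0 = T.w 3 ∧ T.a 4 2 = 0 ∧ T.a 4 1 = 0 ∧ T.a 0 0 = -2 * T.w 3 ∧ T.a 0 2 = 2 * T.w 3 ∧ T.a 0 1 = 0 ∧ T.a 2 2 = -4 * T.w 3 ∧ T.a 2 1 = 2 * T.w 3 ∧ T.a 1 1 = -4 * T.w 3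
            refine ⟨?_, ?_, ?_, ?_, ?_, ?_, ?_, ?_, ?_, ?_, ?_, ?_, ?_, ?_, ?_, ?_, ?_, ?_, ?_, ?_, ?_, ?_, ?_, ?_, ?_⟩ <;> omega
          · -- 34=(1,2)
            exact False.elim (cert_false T ((skipEmb 1).trans (Function.Embedding.refl _)) (by norm_num) (fun _ => hall _) (((((((LB_zero T ((skipEmb 1).trans (Function.Embedding.refl _))).upd 0 1 2 (le_of_eq hx02)).upd 0 3 1 (le_of_eq hx04)).upd 1 0 1 (le_of_eq hx20)).upd 2 3 1 (le_of_eq hx34)).upd 3 0 1 (le_of_eq hx40)).upd 3 2 2 (le_of_eq hx43)) ![2,1,1,2] (by decide) (by decide) 0 (by decide))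
          · -- 34=(2,1)
            exact False.elim (cert_false T ((skipEmb 1).trans (Function.Embedding.refl _)) (by norm_num) (fun _ => hall _) (((((((LB_zero T ((skipEmb 1).trans (Function.Embedding.refl _))).upd 0 1 2 (le_of_eq hx02)).upd 0 3 1 (le_of_eq hx04)).upd 1 0 1 (le_of_eq hx20)).upd 2 3 2 (le_of_eq hx34)).upd 3 0 1 (le_of_eq hx40)).upd 3 2 1 (le_of_eq hx43)) ![2,1,2,2] (by decide) (by decide) 0 (by decide))
          · -- 34=(1,3)
            exact False.elim (cert_false T ((skipEmb 2).trans (Function.Embedding.refl _)) (by norm_num) (fun _ => hall _) (((((LB_zero T ((skipEmb 2).trans (Function.Embedding.refl _))).upd 0 3 1 (le_of_eq hx04)).upd 2 3 1 (le_of_eq hx34)).upd 3 0 1 (le_of_eq hx40)).upd 3 2 3 (le_of_eq hx43)) ![1,0,1,2] (by decide) (by decide) 0 (by decide))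
          · -- 34=(3,1)
            exact False.elim (cert_false T ((skipEmb 2).trans (Function.Embedding.refl _)) (by norm_num) (fun _ => hall _) (((((LB_zero T ((skipEmb 2).trans (Function.Embedding.refl _))).upd 0 3 1 (le_of_eq hx04)).upd 2 3 3 (le_of_eq hx34)).upd 3 0 1 (le_of_eq hx40)).upd 3 2 1 (le_of_eq hx43)) ![1,0,3,2] (by decide) (by decide) 0 (by decide))
        · -- 24=(1,1)
          exact False.elim (cert_false T ((skipEmb 3).trans (Function.Embedding.refl _)) (by norm_num) (fun _ => hall _) (((((((LB_zero T ((skipEmb 3).trans (Function.Embedding.refl _))).upd 0 2 2 (le_of_eq hx02)).upd 0 3 1 (le_of_eq hx04)).upd 2 0 1 (le_of_eq hx20)).upd 2 3 1 (le_of_eq hx24)).upd 3 0 1 (le_of_eq hx40)).upd 3 2 1 (le_of_eq hx42)) ![1,0,1,1] (by decide) (by decide) 0 (by decide))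
        · -- 24=(1,2)
          exact False.elim (cert_false T ((skipEmb 3).trans (Function.Embedding.refl _)) (by norm_num) (fun _ => hall _) (((((((LB_zero T ((skipEmb 3).trans (Function.Embedding.refl _))).upd 0 2 2 (le_of_eq hx02)).upd 0 3 1 (le_of_eq hx04)).upd 2 0 1 (le_of_eq hx20)).upd 2 3 1 (le_of_eq hx24)).upd 3 0 1 (le_of_eq hx40)).upd 3 2 2 (le_of_eq hx42)) ![1,0,1,1] (by decide) (by decide) 0 (by decide))
        · -- 24=(2,1)
          exact False.elim (cert_false T ((skipEmb 3).trans (Function.Embedding.refl _)) (by norm_num) (fun _ => hall _) (((((((LB_zero T ((skipEmb 3).trans (Function.Embedding.refl _))).upd 0 2 2 (le_of_eq hx02)).upd 0 3 1 (le_of_eq hx04)).upd 2 0 1 (le_of_eq hx20)).upd 2 3 2 (le_of_eq hx24)).upd 3 0 1 (le_of_eq hx40)).upd 3 2 1 (le_of_eq hx42)) ![1,0,1,1] (by decide) (by decide) 0 (by decide))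
        · -- 24=(1,3)
          exact False.elim (cert_false T ((skipEmb 3).trans (Function.Embedding.refl _)) (by norm_num) (fun _ => hall _) (((((((LB_zero T ((skipEmb 3).trans (Function.Embedding.refl _))).upd 0 2 2 (le_of_eq hx02)).upd 0 3 1 (le_of_eq hx04)).upd 2 0 1 (le_of_eq hx20)).upd 2 3 1 (le_of_eq hx24)).upd 3 0 1 (le_of_eq hx40)).upd 3 2 3 (le_of_eq hx42)) ![1,0,1,1] (by decide) (by decide) 0 (by decide))
        · -- 24=(3,1)
          exact False.elim (cert_false T ((skipEmb 3).trans (Function.Embedding.refl _)) (by norm_num) (fun _ => hall _) (((((((LB_zero T ((skipEmb 3).trans (Function.Embedding.refl _))).upd 0 2 2 (le_of_eq hx02)).upd 0 3 1 (le_of_eq hx04)).upd 2 0 1 (le_of_eq hx20)).upd 2 3 3 (le_of_eq hx24)).upd 3 0 1 (le_of_eq hx40)).upd 3 2 1 (le_of_eq hx42)) ![1,0,1,1] (by decide) (by decide) 0 (by decide))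
      · -- 14=(1,1)
        exact False.elim (cert_false T ((skipEmb 3).trans (Function.Embedding.refl _)) (by norm_num) (fun _ => hall _) (((((((((LB_zero T ((skipEmb 3).trans (Function.Embedding.refl _))).upd 0 2 2 (le_of_eq hx02)).upd 0 3 1 (le_of_eq hx04)).upd 1 2 1 (le_of_eq hx12)).upd 1 3 1 (le_of_eq hx14)).upd 2 0 1 (le_of_eq hx20)).upd 2 1 1 (le_of_eq hx21)).upd 3 0 1 (le_of_eq hx40)).upd 3 1 1 (le_of_eq hx41)) ![1,1,1,1] (by decide) (by decide) 0 (by decide))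
      · -- 14=(1,2)
        exact False.elim (cert_false T ((skipEmb 3).trans (Function.Embedding.refl _)) (by norm_num) (fun _ => hall _) (((((((((LB_zero T ((skipEmb 3).trans (Function.Embedding.refl _))).upd 0 2 2 (le_of_eq hx02)).upd 0 3 1 (le_of_eq hx04)).upd 1 2 1 (le_of_eq hx12)).upd 1 3 1 (le_of_eq hx14)).upd 2 0 1 (le_of_eq hx20)).upd 2 1 1 (le_of_eq hx21)).upd 3 0 1 (le_of_eq hx40)).upd 3 1 2 (le_of_eq hx41)) ![1,1,1,1] (by decide) (by decide) 0 (by decide))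
      · -- 14=(2,1)
        exact False.elim (cert_false T ((skipEmb 3).trans (Function.Embedding.refl _)) (by norm_num) (fun _ => hall _) (((((((((LB_zero T ((skipEmb 3).trans (Function.Embedding.refl _))).upd 0 2 2 (le_of_eq hx02)).upd 0 3 1 (le_of_eq hx04)).upd 1 2 1 (le_of_eq hx12)).upd 1 3 2 (le_of_eq hx14)).upd 2 0 1 (le_of_eq hx20)).upd 2 1 1 (le_of_eq hx21)).upd 3 0 1 (le_of_eq hx40)).upd 3 1 1 (le_of_eq hx41)) ![1,1,1,1] (by decide) (by decide) 0 (by decide))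
      · -- 14=(1,3)
        exact False.elim (cert_false T ((skipEmb 3).trans (Function.Embedding.refl _)) (by norm_num) (fun _ => hall _) (((((((((LB_zero T ((skipEmb 3).trans (Function.Embedding.refl _))).upd 0 2 2 (le_of_eq hx02)).upd 0 3 1 (le_of_eq hx04)).upd 1 2 1 (le_of_eq hx12)).upd 1 3 1 (le_of_eq hx14)).upd 2 0 1 (le_of_eq hx20)).upd 2 1 1 (le_of_eq hx21)).upd 3 0 1 (le_of_eq hx40)).upd 3 1 3 (le_of_eq hx41)) ![1,1,1,1] (by decide) (by decide) 0 (by decide))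
      · -- 14=(3,1)
        exact False.elim (cert_false T ((skipEmb 3).trans (Function.Embedding.refl _)) (by norm_num) (fun _ => hall _) (((((((((LB_zero T ((skipEmb 3).trans (Function.Embedding.refl _))).upd 0 2 2 (le_of_eq hx02)).upd 0 3 1 (le_of_eq hx04)).upd 1 2 1 (le_of_eq hx12)).upd 1 3 3 (le_of_eq hx14)).upd 2 0 1 (le_of_eq hx20)).upd 2 1 1 (le_of_eq hx21)).upd 3 0 1 (le_of_eq hx40)).upd 3 1 1 (le_of_eq hx41)) ![1,1,1,1] (by decide) (by decide) 0 (by decide))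
    · -- 04=(1,2)
      exact False.elim (cert_false T ((skipEmb 3).trans (Function.Embedding.refl _)) (by norm_num) (fun _ => hall _) (((((LB_zero T ((skipEmb 3).trans (Function.Embedding.refl _))).upd 0 2 2 (le_of_eq hx02)).upd 0 3 1 (le_of_eq hx04)).upd 2 0 1 (le_of_eq hx20)).upd 3 0 2 (le_of_eq hx40)) ![2,0,1,2] (by decide) (by decide) 0 (by decide))
    · -- 04=(2,1)
      exact False.elim (cert_false T ((skipEmb 3).trans (Function.Embedding.refl _)) (by norm_num) (fun _ => hall _) (((((LB_zero T ((skipEmb 3).trans (Function.Embedding.refl _))).upd 0 2 2 (le_of_eq hx02)).upd 0 3 2 (le_of_eq hx04)).upd 2 0 1 (le_of_eq hx20)).upd 3 0 1 (le_of_eq hx40)) ![2,0,1,1] (by decide) (by decide) 0 (by decide))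
    · -- 04=(1,3)
      exact False.elim (cert_false T ((skipEmb 3).trans (Function.Embedding.refl _)) (by norm_num) (fun _ => hall _) (((((LB_zero T ((skipEmb 3).trans (Function.Embedding.refl _))).upd 0 2 2 (le_of_eq hx02)).upd 0 3 1 (le_of_eq hx04)).upd 2 0 1 (le_of_eq hx20)).upd 3 0 3 (le_of_eq hx40)) ![2,0,1,2] (by decide) (by decide) 0 (by decide))
    · -- 04=(3,1)
      exact False.elim (cert_false T ((skipEmb 3).trans (Function.Embedding.refl _)) (by norm_num) (fun _ => hall _) (((((LB_zero T ((skipEmb 3).trans (Function.Embedding.refl _))).upd 0 2 2 (le_of_eq hx02)).upd 0 3 3 (le_of_eq hx04)).upd 2 0 1 (le_of_eq hx20)).upd 3 0 1 (le_of_eq hx40)) ![2,0,1,1] (by decide) (by decide) 0 (by decide))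
  · -- 23=(1,1)
    exact False.elim (cert_false T ((skipEmb 4).trans (Function.Embedding.refl _)) (by norm_num) (fun _ => hall _) (((((((LB_zero T ((skipEmb 4).trans (Function.Embedding.refl _))).upd 0 2 2 (le_of_eq hx02)).upd 1 2 1 (le_of_eq hx12)).upd 2 0 1 (le_of_eq hx20)).upd 2 1 1 (le_of_eq hx21)).upd 2 3 1 (le_of_eq hx23)).upd 3 2 1 (le_of_eq hx32)) ![2,1,2,1] (by decide) (by decide) 0 (by decide))
  · -- 23=(1,2)
    exact False.elim (cert_false T ((skipEmb 4).trans (Function.Embedding.refl _)) (by norm_num) (fun _ => hall _) (((((LB_zero T ((skipEmb 4).trans (Function.Embedding.refl _))).upd 0 2 2 (le_of_eq hx02)).upd 2 0 1 (le_of_eq hx20)).upd 2 3 1 (le_of_eq hx23)).upd 3 2 2 (le_of_eq hx32)) ![1,0,1,1] (by decide) (by decide) 0 (by decide))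
  · -- 23=(2,1)
    exact False.elim (cert_false T ((skipEmb 4).trans (Function.Embedding.refl _)) (by norm_num) (fun _ => hall _) (((((((LB_zero T ((skipEmb 4).trans (Function.Embedding.refl _))).upd 0 2 2 (le_of_eq hx02)).upd 1 2 1 (le_of_eq hx12)).upd 2 0 1 (le_of_eq hx20)).upd 2 1 1 (le_of_eq hx21)).upd 2 3 2 (le_of_eq hx23)).upd 3 2 1 (le_of_eq hx32)) ![1,1,2,1] (by decide) (by decide) 0 (by decide))
  · -- 23=(1,3)
    exact False.elim (cert_false T ((skipEmb 4).trans (Function.Embedding.refl _)) (by norm_num) (fun _ => hall _) (((((LB_zero T ((skipEmb 4).trans (Function.Embedding.refl _))).upd 0 2 2 (le_of_eq hx02)).upd 2 0 1 (le_of_eq hx20)).upd 2 3 1 (le_of_eq hx23)).upd 3 2 3 (le_of_eq hx32)) ![1,0,1,1] (by decide) (by decide) 0 (by decide))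
  · -- 23=(3,1)
    exact False.elim (cert_false T ((skipEmb 4).trans (Function.Embedding.refl _)) (by norm_num) (fun _ => hall _) (((((LB_zero T ((skipEmb 4).trans (Function.Embedding.refl _))).upd 1 2 1 (le_of_eq hx12)).upd 2 1 1 (le_of_eq hx21)).upd 2 3 3 (le_of_eq hx23)).upd 3 2 1 (le_of_eq hx32)) ![0,1,2,1] (by decide) (by decide) 1 (by decide))

theorem case410 (T : NumericalType 5) (hall : ∀ i, T.IsMinusTwo i) (d : SData T)
    (h01 : N T (Function.Embedding.refl _) 0 1 = 1) (h10 : N T (Function.Embedding.refl _) 1 0 = 1)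
    (h02 : N T (Function.Embedding.refl _) 0 2 = 0) (h20 : N T (Function.Embedding.refl _) 2 0 = 0)
    (h12 : N T (Function.Embedding.refl _) 1 2 = 1) (h21 : N T (Function.Embedding.refl _) 2 1 = 2)
    (h03 : N T (Function.Embedding.refl _) 0 3 = 0) (h30 : N T (Function.Embedding.refl _) 3 0 = 0)
    (h13 : N T (Function.Embedding.refl _) 1 3 = 0) (h31 : N T (Function.Embedding.refl _) 3 1 = 0) :
    Goal T := by
  unfold Goal
  have hd := d
  obtain ⟨x01, x02, x03, x04, x10, x12, x13, x14, x20, x21, x23, x24, x30, x31, x32, x34, x40, x41, x42, x43, hx01, hx02, hx03, hx04, hx10, hx12, hx13, hx14, hx20, hx21, hx23, hx24, hx30, hx31, hx32, hx34, hx40, hx41, hx42, hx43, hw0, hm0, hw1, hm1, hw2, hm2, hw3, hm3, hw4, hm4, a00, a01, a02, a03, a04, a11, a10, a12, a13, a14, a22, a20, a21, a23, a24, a33, a30, a31, a32, a34, a44, a40, a41, a42, a43, wN01, wN02, wN12, wN03, wN13, wN23, wN04, wN14, wN24, wN34, e0, e1, e2, e3,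 e4, d01, d02, d12, d03, d13, d23, d04, d14, d24, d34⟩ := d
  obtain rfl : x01 = 1 := hx01.trans h01
  obtain rfl : x10 = 1 := hx10.trans h10
  obtain rfl : x02 = 0 := hx02.trans h02
  obtain rfl : x20 = 0 := hx20.trans h20
  obtain rfl : x12 = 1 := hx12.trans h12
  obtain rfl : x21 = 2 := hx21.trans h21
  obtain rfl : x03 = 0 := hx03.trans h03
  obtain rfl : x30 = 0 := hx30.trans h30
  obtain rfl : x13 = 0 := hx13.trans h13
  obtain rfl : x31 = 0 := hx31.trans h31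
  rcases d23 with ⟨rfl, rfl⟩ | ⟨rfl, rfl⟩ | ⟨rfl, rfl⟩ | ⟨rfl, rfl⟩ | ⟨rfl, rfl⟩ | ⟨rfl, rfl⟩
  · -- 23=(0,0)
    rcases d04 with ⟨rfl, rfl⟩ | ⟨rfl, rfl⟩ | ⟨rfl, rfl⟩ | ⟨rfl, rfl⟩ | ⟨rfl, rfl⟩ | ⟨rfl, rfl⟩
    · -- 04=(0,0)
      rcases d14 with ⟨rfl, rfl⟩ | ⟨rfl, rfl⟩ | ⟨rfl, rfl⟩ | ⟨rfl, rfl⟩ | ⟨rfl, rfl⟩ | ⟨rfl, rfl⟩
      · -- 14=(0,0)
        rcases d24 with ⟨rfl, rfl⟩ | ⟨rfl, rfl⟩ | ⟨rfl, rfl⟩ | ⟨rfl, rfl⟩ | ⟨rfl, rfl⟩ | ⟨rfl, rfl⟩
        · -- 24=(0,0)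
          rcases d34 with ⟨rfl, rfl⟩ | ⟨rfl, rfl⟩ | ⟨rfl, rfl⟩ | ⟨rfl, rfl⟩ | ⟨rfl, rfl⟩ | ⟨rfl, rfl⟩
          · -- 34=(0,0)
            exfalso; omega
          · -- 34=(1,1)
            exfalso; omega
          · -- 34=(1,2)
            exfalso; omega
          · -- 34=(2,1)
            exfalso; omega
          · -- 34=(1,3)
            exfalso; omega
          · -- 34=(3,1)
            exfalso; omega
        · -- 24=(1,1)
          rcases d34 with ⟨rfl, rfl⟩ | ⟨rfl, rfl⟩ | ⟨rfl, rfl⟩ | ⟨rfl, rfl⟩ | ⟨rfl, rfl⟩ | ⟨rfl, rfl⟩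
          · -- 34=(0,0)
            exfalso; omega
          · -- 34=(1,1)
            refine ⟨(⟨![3, 4, 2, 1, 0], ![4, 3, 2, 0, 1], by decide, by decide⟩ : Equiv.Perm (Fin 5)), T.m 3, T.w 3, Or.inr (Or.inl ?_)⟩
            show T.m 3 = T.m 3 ∧ T.m 4 = 2 * T.m 3 ∧ T.m 2 = 3 * T.m 3 ∧ T.m 1 = 2 * T.m 3 ∧ T.m 0 = T.m 3 ∧ T.w 3 = T.w 3 ∧ T.w 4 = T.w 3 ∧ T.w 2 = T.w 3 ∧ T.w 1 = 2 * T.w 3 ∧ T.w 0 = 2 * T.w 3 ∧ T.a 3 3 = -2 * T.w 3 ∧ T.a 3 4 = T.w 3 ∧ T.a 3 2 = 0 ∧ T.a 3 1 = 0 ∧ T.a 3 0 = 0 ∧ T.a 4 4 = -2 * T.w 3 ∧ T.a 4 2 = T.w 3 ∧ T.a 4 1 = 0 ∧ T.a 4 0 = 0 ∧ T.a 2 2 = -2 * T.w 3 ∧ T.a 2 1 = 2 * T.w 3 ∧ T.a 2 0 = 0 ∧ T.a 1 1 = -4 * T.w 3 ∧ T.a 1 0 = 2 * T.w 3 ∧ T.a 0 0 = -4 * T.w 3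
            refine ⟨?_, ?_, ?_, ?_, ?_, ?_, ?_, ?_, ?_, ?_, ?_, ?_, ?_, ?_, ?_, ?_, ?_, ?_, ?_, ?_, ?_, ?_, ?_, ?_, ?_⟩ <;> omega
          · -- 34=(1,2)
            exact False.elim (cert_false T ((skipEmb 0).trans (Function.Embedding.refl _)) (by norm_num) (fun _ => hall _) (((((((LB_zero T ((skipEmb 0).trans (Function.Embedding.refl _))).upd 0 1 1 (le_of_eq hx12)).upd 1 0 2 (le_of_eq hx21)).upd 1 3 1 (le_of_eq hx24)).upd 2 3 1 (le_of_eq hx34)).upd 3 1 1 (le_of_eq hx42)).upd 3 2 2 (le_of_eq hx43)) ![1,2,1,2] (by decide) (by decide) 0 (by decide))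
          · -- 34=(2,1)
            exact False.elim (cert_false T ((skipEmb 0).trans (Function.Embedding.refl _)) (by norm_num) (fun _ => hall _) (((((((LB_zero T ((skipEmb 0).trans (Function.Embedding.refl _))).upd 0 1 1 (le_of_eq hx12)).upd 1 0 2 (le_of_eq hx21)).upd 1 3 1 (le_of_eq hx24)).upd 2 3 2 (le_of_eq hx34)).upd 3 1 1 (le_of_eq hx42)).upd 3 2 1 (le_of_eq hx43)) ![1,2,2,2] (by decide) (by decide) 0 (by decide))
          · -- 34=(1,3)
            exact False.elim (cert_false T ((skipEmb 1).trans (Function.Embedding.refl _)) (by norm_num) (fun _ => hall _) (((((LB_zero T ((skipEmb 1).trans (Function.Embedding.refl _))).upd 1 3 1 (le_of_eq hx24)).upd 2 3 1 (le_of_eq hx34)).upd 3 1 1 (le_of_eq hx42)).upd 3 2 3 (le_of_eq hx43)) ![0,1,1,2] (by decide) (by decide) 1 (by decide))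
          · -- 34=(3,1)
            exact False.elim (cert_false T ((skipEmb 1).trans (Function.Embedding.refl _)) (by norm_num) (fun _ => hall _) (((((LB_zero T ((skipEmb 1).trans (Function.Embedding.refl _))).upd 1 3 1 (le_of_eq hx24)).upd 2 3 3 (le_of_eq hx34)).upd 3 1 1 (le_of_eq hx42)).upd 3 2 1 (le_of_eq hx43)) ![0,1,3,2] (by decide) (by decide) 1 (by decide))
        · -- 24=(1,2)
          exact False.elim (cert_false T ((skipEmb 3).trans (Function.Embedding.refl _)) (by norm_num) (fun _ => hall _) (((((LB_zero T ((skipEmb 3).trans (Function.Embedding.refl _))).upd 1 2 1 (le_of_eq hx12)).upd 2 1 2 (le_of_eq hx21)).upd 2 3 1 (le_of_eq hx24)).upd 3 2 2 (le_of_eq hx42)) ![0,1,2,2] (by decide) (by decide) 1 (by decide))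
        · -- 24=(2,1)
          exact False.elim (cert_false T ((skipEmb 3).trans (Function.Embedding.refl _)) (by norm_num) (fun _ => hall _) (((((LB_zero T ((skipEmb 3).trans (Function.Embedding.refl _))).upd 1 2 1 (le_of_eq hx12)).upd 2 1 2 (le_of_eq hx21)).upd 2 3 2 (le_of_eq hx24)).upd 3 2 1 (le_of_eq hx42)) ![0,1,2,1] (by decide) (by decide) 1 (by decide))
        · -- 24=(1,3)
          exact False.elim (cert_false T ((skipEmb 3).trans (Function.Embedding.refl _)) (by norm_num) (fun _ => hall _) (((((LB_zero T ((skipEmb 3).trans (Function.Embedding.refl _))).upd 1 2 1 (le_of_eq hx12)).upd 2 1 2 (le_of_eq hx21)).upd 2 3 1 (le_of_eq hx24)).upd 3 2 3 (le_of_eq hx42)) ![0,1,2,2] (by decide) (by decide) 1 (by decide))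
        · -- 24=(3,1)
          exact False.elim (cert_false T ((skipEmb 3).trans (Function.Embedding.refl _)) (by norm_num) (fun _ => hall _) (((((LB_zero T ((skipEmb 3).trans (Function.Embedding.refl _))).upd 1 2 1 (le_of_eq hx12)).upd 2 1 2 (le_of_eq hx21)).upd 2 3 3 (le_of_eq hx24)).upd 3 2 1 (le_of_eq hx42)) ![0,1,2,1] (by decide) (by decide) 1 (by decide))
      · -- 14=(1,1)
        exact False.elim (cert_false T ((skipEmb 3).trans (Function.Embedding.refl _)) (by norm_num) (fun _ => hall _) (((((((LB_zero T ((skipEmb 3).trans (Function.Embedding.refl _))).upd 0 1 1 (le_of_eq hx01)).upd 1 0 1 (le_of_eq hx10)).upd 1 2 1 (le_of_eq hx12)).upd 1 3 1 (le_of_eq hx14)).upd 2 1 2 (le_of_eq hx21)).upd 3 1 1 (le_of_eq hx41)) ![1,2,2,1] (by decide) (by decide) 0 (by decide))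
      · -- 14=(1,2)
        exact False.elim (cert_false T ((skipEmb 3).trans (Function.Embedding.refl _)) (by norm_num) (fun _ => hall _) (((((LB_zero T ((skipEmb 3).trans (Function.Embedding.refl _))).upd 1 2 1 (le_of_eq hx12)).upd 1 3 1 (le_of_eq hx14)).upd 2 1 2 (le_of_eq hx21)).upd 3 1 2 (le_of_eq hx41)) ![0,1,1,1] (by decide) (by decide) 1 (by decide))
      · -- 14=(2,1)
        exact False.elim (cert_false T ((skipEmb 3).trans (Function.Embedding.refl _)) (by norm_num) (fun _ => hall _) (((((LB_zero T ((skipEmb 3).trans (Function.Embedding.refl _))).upd 1 2 1 (le_of_eq hx12)).upd 1 3 2 (le_of_eq hx14)).upd 2 1 2 (le_of_eq hx21)).upd 3 1 1 (le_of_eq hx41)) ![0,2,2,1] (by decide) (by decide) 1 (by decide))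
      · -- 14=(1,3)
        exact False.elim (cert_false T ((skipEmb 3).trans (Function.Embedding.refl _)) (by norm_num) (fun _ => hall _) (((((LB_zero T ((skipEmb 3).trans (Function.Embedding.refl _))).upd 1 2 1 (le_of_eq hx12)).upd 1 3 1 (le_of_eq hx14)).upd 2 1 2 (le_of_eq hx21)).upd 3 1 3 (le_of_eq hx41)) ![0,1,1,1] (by decide) (by decide) 1 (by decide))
      · -- 14=(3,1)
        exact False.elim (cert_false T ((skipEmb 3).trans (Function.Embedding.refl _)) (by norm_num) (fun _ => hall _) (((((LB_zero T ((skipEmb 3).trans (Function.Embedding.refl _))).upd 1 2 1 (le_of_eq hx12)).upd 1 3 3 (le_of_eq hx14)).upd 2 1 2 (le_of_eq hx21)).upd 3 1 1 (le_of_eq hx41)) ![0,2,1,1] (by decide) (by decide) 1 (by decide))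
    · -- 04=(1,1)
      rcases d14 with ⟨rfl, rfl⟩ | ⟨rfl, rfl⟩ | ⟨rfl, rfl⟩ | ⟨rfl, rfl⟩ | ⟨rfl, rfl⟩ | ⟨rfl, rfl⟩
      · -- 14=(0,0)
        rcases d24 with ⟨rfl, rfl⟩ | ⟨rfl, rfl⟩ | ⟨rfl, rfl⟩ | ⟨rfl, rfl⟩ | ⟨rfl, rfl⟩ | ⟨rfl, rfl⟩
        · -- 24=(0,0)
          rcases d34 with ⟨rfl, rfl⟩ | ⟨rfl, rfl⟩ | ⟨rfl, rfl⟩ | ⟨rfl, rfl⟩ | ⟨rfl, rfl⟩ | ⟨rfl, rfl⟩
          · -- 34=(0,0)
            exfalso; omega
          · -- 34=(1,1)
            exfalso; omega
          · -- 34=(1,2)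
            refine ⟨(⟨![2, 1, 0, 4, 3], ![2, 1, 0, 4, 3], by decide, by decide⟩ : Equiv.Perm (Fin 5)), T.m 3, T.w 2, Or.inr (Or.inr (Or.inr (Or.inl ?_)))⟩
            show T.m 2 = 2 * T.m 3 ∧ T.m 1 = 2 * T.m 3 ∧ T.m 0 = 2 * T.m 3 ∧ T.m 4 = 2 * T.m 3 ∧ T.m 3 = T.m 3 ∧ T.w 2 = T.w 2 ∧ T.w 1 = 2 * T.w 2 ∧ T.w 0 = 2 * T.w 2 ∧ T.w 4 = 2 * T.w 2 ∧ T.w 3 = 4 * T.w 2 ∧ T.a 2 2 = -2 * T.w 2 ∧ T.a 2 1 = 2 * T.w 2 ∧ T.a 2 0 = 0 ∧ T.a 2 4 = 0 ∧ T.a 2 3 = 0 ∧ T.a 1 1 = -4 * T.w 2 ∧ T.a 1 0 = 2 * T.w 2 ∧ T.a 1 4 = 0 ∧ T.a 1 3 = 0 ∧ T.a 0 0 = -4 * T.w 2 ∧ T.a 0 4 = 2 * T.w 2 ∧ T.a 0 3 = 0 ∧ T.a 4 4 = -4 * T.w 2 ∧ T.a 4 3 = 4 * T.w 2 ∧ T.a 3 3 = -8 * T.w 2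
            refine ⟨?_, ?_, ?_, ?_, ?_, ?_, ?_, ?_, ?_, ?_, ?_, ?_, ?_, ?_, ?_, ?_, ?_, ?_, ?_, ?_, ?_, ?_, ?_, ?_, ?_⟩ <;> omega
          · -- 34=(2,1)
            refine ⟨(⟨![2, 1, 0, 4, 3], ![2, 1, 0, 4, 3], by decide, by decide⟩ : Equiv.Perm (Fin 5)), T.m 2, T.w 2, Or.inr (Or.inr (Or.inr (Or.inr (Or.inl ?_))))⟩
            show T.m 2 = T.m 2 ∧ T.m 1 = T.m 2 ∧ T.m 0 = T.m 2 ∧ T.m 4 = T.m 2 ∧ T.m 3 = T.m 2 ∧ T.w 2 = T.w 2 ∧ T.w 1 = 2 * T.w 2 ∧ T.w 0 = 2 * T.w 2 ∧ T.w 4 = 2 * T.w 2 ∧ T.w 3 = T.w 2 ∧ T.a 2 2 = -2 * T.w 2 ∧ T.a 2 1 = 2 * T.w 2 ∧ T.a 2 0 = 0 ∧ T.a 2 4 = 0 ∧ T.a 2 3 = 0 ∧ T.a 1 1 = -4 * T.w 2 ∧ T.a 1 0 = 2 * T.w 2 ∧ T.a 1 4 = 0 ∧ T.a 1 3 = 0 ∧ T.a 0 0 = -4 * T.w 2 ∧ T.a 0 4 = 2 * T.w 2 ∧ T.a 0 3 = 0 ∧ T.a 4 4 = -4 * T.w 2 ∧ T.a 4 3 = 2 * T.w 2 ∧ T.a 3 3 = -2 * T.w 2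
            refine ⟨?_, ?_, ?_, ?_, ?_, ?_, ?_, ?_, ?_, ?_, ?_, ?_, ?_, ?_, ?_, ?_, ?_, ?_, ?_, ?_, ?_, ?_, ?_, ?_, ?_⟩ <;> omega
          · -- 34=(1,3)
            exact False.elim (cert_false T ((skipEmb 2).trans (Function.Embedding.refl _)) (by norm_num) (fun _ => hall _) (((((LB_zero T ((skipEmb 2).trans (Function.Embedding.refl _))).upd 0 3 1 (le_of_eq hx04)).upd 2 3 1 (le_of_eq hx34)).upd 3 0 1 (le_of_eq hx40)).upd 3 2 3 (le_of_eq hx43)) ![1,0,1,2] (by decide) (by decide) 0 (by decide))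
          · -- 34=(3,1)
            exact False.elim (cert_false T ((skipEmb 2).trans (Function.Embedding.refl _)) (by norm_num) (fun _ => hall _) (((((LB_zero T ((skipEmb 2).trans (Function.Embedding.refl _))).upd 0 3 1 (le_of_eq hx04)).upd 2 3 3 (le_of_eq hx34)).upd 3 0 1 (le_of_eq hx40)).upd 3 2 1 (le_of_eq hx43)) ![1,0,3,2] (by decide) (by decide) 0 (by decide))
        · -- 24=(1,1)
          exact False.elim (cert_false T ((skipEmb 3).trans (Function.Embedding.refl _)) (by norm_num) (fun _ => hall _) (((((((((LB_zero T ((skipEmb 3).trans (Function.Embedding.refl _))).upd 0 1 1 (le_of_eq hx01)).upd 0 3 1 (le_of_eq hx04)).upd 1 0 1 (le_of_eq hx10)).upd 1 2 1 (le_of_eq hx12)).upd 2 1 2 (le_of_eq hx21)).upd 2 3 1 (le_of_eq hx24)).upd 3 0 1 (le_of_eq hx40)).upd 3 2 1 (le_of_eq hx42)) ![1,1,1,1] (by decide) (by decide) 0 (by decide))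
        · -- 24=(1,2)
          exact False.elim (cert_false T ((skipEmb 3).trans (Function.Embedding.refl _)) (by norm_num) (fun _ => hall _) (((((((((LB_zero T ((skipEmb 3).trans (Function.Embedding.refl _))).upd 0 1 1 (le_of_eq hx01)).upd 0 3 1 (le_of_eq hx04)).upd 1 0 1 (le_of_eq hx10)).upd 1 2 1 (le_of_eq hx12)).upd 2 1 2 (le_of_eq hx21)).upd 2 3 1 (le_of_eq hx24)).upd 3 0 1 (le_of_eq hx40)).upd 3 2 2 (le_of_eq hx42)) ![1,1,1,1] (by decide) (by decide) 0 (by decide))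
        · -- 24=(2,1)
          exact False.elim (cert_false T ((skipEmb 3).trans (Function.Embedding.refl _)) (by norm_num) (fun _ => hall _) (((((((((LB_zero T ((skipEmb 3).trans (Function.Embedding.refl _))).upd 0 1 1 (le_of_eq hx01)).upd 0 3 1 (le_of_eq hx04)).upd 1 0 1 (le_of_eq hx10)).upd 1 2 1 (le_of_eq hx12)).upd 2 1 2 (le_of_eq hx21)).upd 2 3 2 (le_of_eq hx24)).upd 3 0 1 (le_of_eq hx40)).upd 3 2 1 (le_of_eq hx42)) ![1,1,1,1] (by decide) (by decide) 0 (by decide))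
        · -- 24=(1,3)
          exact False.elim (cert_false T ((skipEmb 3).trans (Function.Embedding.refl _)) (by norm_num) (fun _ => hall _) (((((((((LB_zero T ((skipEmb 3).trans (Function.Embedding.refl _))).upd 0 1 1 (le_of_eq hx01)).upd 0 3 1 (le_of_eq hx04)).upd 1 0 1 (le_of_eq hx10)).upd 1 2 1 (le_of_eq hx12)).upd 2 1 2 (le_of_eq hx21)).upd 2 3 1 (le_of_eq hx24)).upd 3 0 1 (le_of_eq hx40)).upd 3 2 3 (le_of_eq hx42)) ![1,1,1,1] (by decide) (by decide) 0 (by decide))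
        · -- 24=(3,1)
          exact False.elim (cert_false T ((skipEmb 3).trans (Function.Embedding.refl _)) (by norm_num) (fun _ => hall _) (((((((((LB_zero T ((skipEmb 3).trans (Function.Embedding.refl _))).upd 0 1 1 (le_of_eq hx01)).upd 0 3 1 (le_of_eq hx04)).upd 1 0 1 (le_of_eq hx10)).upd 1 2 1 (le_of_eq hx12)).upd 2 1 2 (le_of_eq hx21)).upd 2 3 3 (le_of_eq hx24)).upd 3 0 1 (le_of_eq hx40)).upd 3 2 1 (le_of_eq hx42)) ![1,1,1,1] (by decide) (by decide) 0 (by decide))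
      · -- 14=(1,1)
        exact False.elim (cert_false T ((skipEmb 3).trans (Function.Embedding.refl _)) (by norm_num) (fun _ => hall _) (((((((LB_zero T ((skipEmb 3).trans (Function.Embedding.refl _))).upd 0 1 1 (le_of_eq hx01)).upd 0 3 1 (le_of_eq hx04)).upd 1 0 1 (le_of_eq hx10)).upd 1 3 1 (le_of_eq hx14)).upd 3 0 1 (le_of_eq hx40)).upd 3 1 1 (le_of_eq hx41)) ![1,1,0,1] (by decide) (by decide) 0 (by decide))
      · -- 14=(1,2)
        exact False.elim (cert_false T ((skipEmb 3).trans (Function.Embedding.refl _)) (by norm_num) (fun _ => hall _) (((((LB_zero T ((skipEmb 3).trans (Function.Embedding.refl _))).upd 1 2 1 (le_of_eq hx12)).upd 1 3 1 (le_of_eq hx14)).upd 2 1 2 (le_of_eq hx21)).upd 3 1 2 (le_of_eq hx41)) ![0,1,1,1] (by decide) (by decide) 1 (by decide))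
      · -- 14=(2,1)
        exact False.elim (cert_false T ((skipEmb 3).trans (Function.Embedding.refl _)) (by norm_num) (fun _ => hall _) (((((((LB_zero T ((skipEmb 3).trans (Function.Embedding.refl _))).upd 0 1 1 (le_of_eq hx01)).upd 0 3 1 (le_of_eq hx04)).upd 1 0 1 (le_of_eq hx10)).upd 1 3 2 (le_of_eq hx14)).upd 3 0 1 (le_of_eq hx40)).upd 3 1 1 (le_of_eq hx41)) ![1,1,0,1] (by decide) (by decide) 0 (by decide))
      · -- 14=(1,3)
        exact False.elim (cert_false T ((skipEmb 3).trans (Function.Embedding.refl _)) (by norm_num) (fun _ => hall _) (((((LB_zero T ((skipEmb 3).trans (Function.Embedding.refl _))).upd 1 2 1 (le_of_eq hx12)).upd 1 3 1 (le_of_eq hx14)).upd 2 1 2 (le_of_eq hx21)).upd 3 1 3 (le_of_eq hx41)) ![0,1,1,1] (by decide) (by decide) 1 (by decide))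
      · -- 14=(3,1)
        exact False.elim (cert_false T ((skipEmb 3).trans (Function.Embedding.refl _)) (by norm_num) (fun _ => hall _) (((((((LB_zero T ((skipEmb 3).trans (Function.Embedding.refl _))).upd 0 1 1 (le_of_eq hx01)).upd 0 3 1 (le_of_eq hx04)).upd 1 0 1 (le_of_eq hx10)).upd 1 3 3 (le_of_eq hx14)).upd 3 0 1 (le_of_eq hx40)).upd 3 1 1 (le_of_eq hx41)) ![1,1,0,1] (by decide) (by decide) 0 (by decide))
    · -- 04=(1,2)
      exact False.elim (cert_false T ((skipEmb 3).trans (Function.Embedding.refl _)) (by norm_num) (fun _ => hall _) (((((((LB_zero T ((skipEmb 3).trans (Function.Embedding.refl _))).upd 0 1 1 (le_of_eq hx01)).upd 0 3 1 (le_of_eq hx04)).upd 1 0 1 (le_of_eq hx10)).upd 1 2 1 (le_of_eq hx12)).upd 2 1 2 (le_of_eq hx21)).upd 3 0 2 (le_of_eq hx40)) ![1,1,1,1] (by decide) (by decide) 0 (by decide))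
    · -- 04=(2,1)
      exact False.elim (cert_false T ((skipEmb 3).trans (Function.Embedding.refl _)) (by norm_num) (fun _ => hall _) (((((((LB_zero T ((skipEmb 3).trans (Function.Embedding.refl _))).upd 0 1 1 (le_of_eq hx01)).upd 0 3 2 (le_of_eq hx04)).upd 1 0 1 (le_of_eq hx10)).upd 1 2 1 (le_of_eq hx12)).upd 2 1 2 (le_of_eq hx21)).upd 3 0 1 (le_of_eq hx40)) ![2,2,2,1] (by decide) (by decide) 0 (by decide))
    · -- 04=(1,3)
      exact False.elim (cert_false T ((skipEmb 3).trans (Function.Embedding.refl _)) (by norm_num) (fun _ => hall _) (((((((LB_zero T ((skipEmb 3).trans (Function.Embedding.refl _))).upd 0 1 1 (le_of_eq hx01)).upd 0 3 1 (le_of_eq hx04)).upd 1 0 1 (le_of_eq hx10)).upd 1 2 1 (le_of_eq hx12)).upd 2 1 2 (le_of_eq hx21)).upd 3 0 3 (le_of_eq hx40)) ![1,1,1,1] (by decide) (by decide) 0 (by decide))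
    · -- 04=(3,1)
      exact False.elim (cert_false T ((skipEmb 3).trans (Function.Embedding.refl _)) (by norm_num) (fun _ => hall _) (((((LB_zero T ((skipEmb 3).trans (Function.Embedding.refl _))).upd 0 1 1 (le_of_eq hx01)).upd 0 3 3 (le_of_eq hx04)).upd 1 0 1 (le_of_eq hx10)).upd 3 0 1 (le_of_eq hx40)) ![2,1,0,1] (by decide) (by decide) 0 (by decide))
  · -- 23=(1,1)
    rcases d04 with ⟨rfl, rfl⟩ | ⟨rfl, rfl⟩ | ⟨rfl, rfl⟩ | ⟨rfl, rfl⟩ | ⟨rfl, rfl⟩ | ⟨rfl, rfl⟩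
    · -- 04=(0,0)
      rcases d14 with ⟨rfl, rfl⟩ | ⟨rfl, rfl⟩ | ⟨rfl, rfl⟩ | ⟨rfl, rfl⟩ | ⟨rfl, rfl⟩ | ⟨rfl, rfl⟩
      · -- 14=(0,0)
        rcases d24 with ⟨rfl, rfl⟩ | ⟨rfl, rfl⟩ | ⟨rfl, rfl⟩ | ⟨rfl, rfl⟩ | ⟨rfl, rfl⟩ | ⟨rfl, rfl⟩
        · -- 24=(0,0)
          rcases d34 with ⟨rfl, rfl⟩ | ⟨rfl, rfl⟩ | ⟨rfl, rfl⟩ | ⟨rfl, rfl⟩ | ⟨rfl, rfl⟩ | ⟨rfl, rfl⟩
          · -- 34=(0,0)
            exfalso; omega
          · -- 34=(1,1)
            refine ⟨(⟨![4, 3, 2, 1, 0], ![4, 3, 2, 1, 0], by decide, by decide⟩ : Equiv.Perm (Fin 5)), T.m 4, T.w 4, Or.inr (Or.inl ?_)⟩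
            show T.m 4 = T.m 4 ∧ T.m 3 = 2 * T.m 4 ∧ T.m 2 = 3 * T.m 4 ∧ T.m 1 = 2 * T.m 4 ∧ T.m 0 = T.m 4 ∧ T.w 4 = T.w 4 ∧ T.w 3 = T.w 4 ∧ T.w 2 = T.w 4 ∧ T.w 1 = 2 * T.w 4 ∧ T.w 0 = 2 * T.w 4 ∧ T.a 4 4 = -2 * T.w 4 ∧ T.a 4 3 = T.w 4 ∧ T.a 4 2 = 0 ∧ T.a 4 1 = 0 ∧ T.a 4 0 = 0 ∧ T.a 3 3 = -2 * T.w 4 ∧ T.a 3 2 = T.w 4 ∧ T.a 3 1 = 0 ∧ T.a 3 0 = 0 ∧ T.a 2 2 = -2 * T.w 4 ∧ T.a 2 1 = 2 * T.w 4 ∧ T.a 2 0 = 0 ∧ T.a 1 1 = -4 * T.w 4 ∧ T.a 1 0 = 2 * T.w 4 ∧ T.a 0 0 = -4 * T.w 4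
            refine ⟨?_, ?_, ?_, ?_, ?_, ?_, ?_, ?_, ?_, ?_, ?_, ?_, ?_, ?_, ?_, ?_, ?_, ?_, ?_, ?_, ?_, ?_, ?_, ?_, ?_⟩ <;> omega
          · -- 34=(1,2)
            exact False.elim (cert_false T ((skipEmb 0).trans (Function.Embedding.refl _)) (by norm_num) (fun _ => hall _) (((((((LB_zero T ((skipEmb 0).trans (Function.Embedding.refl _))).upd 0 1 1 (le_of_eq hx12)).upd 1 0 2 (le_of_eq hx21)).upd 1 2 1 (le_of_eq hx23)).upd 2 1 1 (le_of_eq hx32)).upd 2 3 1 (le_of_eq hx34)).upd 3 2 2 (le_of_eq hx43)) ![1,2,2,2] (by decide) (by decide) 0 (by decide))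
          · -- 34=(2,1)
            exact False.elim (cert_false T ((skipEmb 0).trans (Function.Embedding.refl _)) (by norm_num) (fun _ => hall _) (((((((LB_zero T ((skipEmb 0).trans (Function.Embedding.refl _))).upd 0 1 1 (le_of_eq hx12)).upd 1 0 2 (le_of_eq hx21)).upd 1 2 1 (le_of_eq hx23)).upd 2 1 1 (le_of_eq hx32)).upd 2 3 2 (le_of_eq hx34)).upd 3 2 1 (le_of_eq hx43)) ![1,2,2,1] (by decide) (by decide) 0 (by decide))
          · -- 34=(1,3)
            exact False.elim (cert_false T ((skipEmb 1).trans (Function.Embedding.refl _)) (by norm_num) (fun _ => hall _) (((((LB_zero T ((skipEmb 1).trans (Function.Embedding.refl _))).upd 1 2 1 (le_of_eq hx23)).upd 2 1 1 (le_of_eq hx32)).upd 2 3 1 (le_of_eq hx34)).upd 3 2 3 (le_of_eq hx43)) ![0,1,2,3] (by decide) (by decide) 1 (by decide))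
          · -- 34=(3,1)
            exact False.elim (cert_false T ((skipEmb 1).trans (Function.Embedding.refl _)) (by norm_num) (fun _ => hall _) (((((LB_zero T ((skipEmb 1).trans (Function.Embedding.refl _))).upd 1 2 1 (le_of_eq hx23)).upd 2 1 1 (le_of_eq hx32)).upd 2 3 3 (le_of_eq hx34)).upd 3 2 1 (le_of_eq hx43)) ![0,1,2,1] (by decide) (by decide) 1 (by decide))
        · -- 24=(1,1)
          exact False.elim (cert_false T ((skipEmb 0).trans (Function.Embedding.refl _)) (by norm_num) (fun _ => hall _) (((((((LB_zero T ((skipEmb 0).trans (Function.Embedding.refl _))).upd 0 1 1 (le_of_eq hx12)).upd 1 0 2 (le_of_eq hx21)).upd 1 2 1 (le_of_eq hx23)).upd 1 3 1 (le_of_eq hx24)).upd 2 1 1 (le_of_eq hx32)).upd 3 1 1 (le_of_eq hx42)) ![1,2,1,1] (by decide) (by decide) 0 (by decide))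
        · -- 24=(1,2)
          exact False.elim (cert_false T ((skipEmb 3).trans (Function.Embedding.refl _)) (by norm_num) (fun _ => hall _) (((((LB_zero T ((skipEmb 3).trans (Function.Embedding.refl _))).upd 1 2 1 (le_of_eq hx12)).upd 2 1 2 (le_of_eq hx21)).upd 2 3 1 (le_of_eq hx24)).upd 3 2 2 (le_of_eq hx42)) ![0,1,2,2] (by decide) (by decide) 1 (by decide))
        · -- 24=(2,1)
          exact False.elim (cert_false T ((skipEmb 3).trans (Function.Embedding.refl _)) (by norm_num) (fun _ => hall _) (((((LB_zero T ((skipEmb 3).trans (Function.Embedding.refl _))).upd 1 2 1 (le_of_eq hx12)).upd 2 1 2 (le_of_eq hx21)).upd 2 3 2 (le_of_eq hx24)).upd 3 2 1 (le_of_eq hx42)) ![0,1,2,1] (by decide) (by decide) 1 (by decide))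
        · -- 24=(1,3)
          exact False.elim (cert_false T ((skipEmb 3).trans (Function.Embedding.refl _)) (by norm_num) (fun _ => hall _) (((((LB_zero T ((skipEmb 3).trans (Function.Embedding.refl _))).upd 1 2 1 (le_of_eq hx12)).upd 2 1 2 (le_of_eq hx21)).upd 2 3 1 (le_of_eq hx24)).upd 3 2 3 (le_of_eq hx42)) ![0,1,2,2] (by decide) (by decide) 1 (by decide))
        · -- 24=(3,1)
          exact False.elim (cert_false T ((skipEmb 3).trans (Function.Embedding.refl _)) (by norm_num) (fun _ => hall _) (((((LB_zero T ((skipEmb 3).trans (Function.Embedding.refl _))).upd 1 2 1 (le_of_eq hx12)).upd 2 1 2 (le_of_eq hx21)).upd 2 3 3 (le_of_eq hx24)).upd 3 2 1 (le_of_eq hx42)) ![0,1,2,1] (by decide) (by decide) 1 (by decide))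
      · -- 14=(1,1)
        exact False.elim (cert_false T ((skipEmb 3).trans (Function.Embedding.refl _)) (by norm_num) (fun _ => hall _) (((((((LB_zero T ((skipEmb 3).trans (Function.Embedding.refl _))).upd 0 1 1 (le_of_eq hx01)).upd 1 0 1 (le_of_eq hx10)).upd 1 2 1 (le_of_eq hx12)).upd 1 3 1 (le_of_eq hx14)).upd 2 1 2 (le_of_eq hx21)).upd 3 1 1 (le_of_eq hx41)) ![1,2,2,1] (by decide) (by decide) 0 (by decide))
      · -- 14=(1,2)
        exact False.elim (cert_false T ((skipEmb 3).trans (Function.Embedding.refl _)) (by norm_num) (fun _ => hall _) (((((LB_zero T ((skipEmb 3).trans (Function.Embedding.refl _))).upd 1 2 1 (le_of_eq hx12)).upd 1 3 1 (le_of_eq hx14)).upd 2 1 2 (le_of_eq hx21)).upd 3 1 2 (le_of_eq hx41)) ![0,1,1,1] (by decide) (by decide) 1 (by decide))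
      · -- 14=(2,1)
        exact False.elim (cert_false T ((skipEmb 3).trans (Function.Embedding.refl _)) (by norm_num) (fun _ => hall _) (((((LB_zero T ((skipEmb 3).trans (Function.Embedding.refl _))).upd 1 2 1 (le_of_eq hx12)).upd 1 3 2 (le_of_eq hx14)).upd 2 1 2 (le_of_eq hx21)).upd 3 1 1 (le_of_eq hx41)) ![0,2,2,1] (by decide) (by decide) 1 (by decide))
      · -- 14=(1,3)
        exact False.elim (cert_false T ((skipEmb 3).trans (Function.Embedding.refl _)) (by norm_num) (fun _ => hall _) (((((LB_zero T ((skipEmb 3).trans (Function.Embedding.refl _))).upd 1 2 1 (le_of_eq hx12)).upd 1 3 1 (le_of_eq hx14)).upd 2 1 2 (le_of_eq hx21)).upd 3 1 3 (le_of_eq hx41)) ![0,1,1,1] (by decide) (by decide) 1 (by decide))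
      · -- 14=(3,1)
        exact False.elim (cert_false T ((skipEmb 3).trans (Function.Embedding.refl _)) (by norm_num) (fun _ => hall _) (((((LB_zero T ((skipEmb 3).trans (Function.Embedding.refl _))).upd 1 2 1 (le_of_eq hx12)).upd 1 3 3 (le_of_eq hx14)).upd 2 1 2 (le_of_eq hx21)).upd 3 1 1 (le_of_eq hx41)) ![0,2,1,1] (by decide) (by decide) 1 (by decide))
    · -- 04=(1,1)
      rcases d14 with ⟨rfl, rfl⟩ | ⟨rfl, rfl⟩ | ⟨rfl, rfl⟩ | ⟨rfl, rfl⟩ | ⟨rfl, rfl⟩ | ⟨rfl, rfl⟩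
      · -- 14=(0,0)
        rcases d24 with ⟨rfl, rfl⟩ | ⟨rfl, rfl⟩ | ⟨rfl, rfl⟩ | ⟨rfl, rfl⟩ | ⟨rfl, rfl⟩ | ⟨rfl, rfl⟩
        · -- 24=(0,0)
          rcases d34 with ⟨rfl, rfl⟩ | ⟨rfl, rfl⟩ | ⟨rfl, rfl⟩ | ⟨rfl, rfl⟩ | ⟨rfl, rfl⟩ | ⟨rfl, rfl⟩
          · -- 34=(0,0)
            refine ⟨(⟨![4, 0, 1, 2, 3], ![1, 2, 3, 4, 0], by decide, by decide⟩ : Equiv.Perm (Fin 5)), T.m 4, T.w 2, Or.inr (Or.inr (Or.inl ?_))⟩
            show T.m 4 = T.m 4 ∧ T.m 0 = 2 * T.m 4 ∧ T.m 1 = 3 * T.m 4 ∧ T.m 2 = 4 * T.m 4 ∧ T.m 3 = 2 * T.m 4 ∧ T.w 4 = 2 * T.w 2 ∧ T.w 0 = 2 * T.w 2 ∧ T.w 1 = 2 * T.w 2 ∧ T.w 2 = T.w 2 ∧ T.w 3 = T.w 2 ∧ T.a 4 4 = -4 * T.w 2 ∧ T.a 4 0 = 2 * T.w 2 ∧ T.a 4 1 = 0 ∧ T.a 4 2 = 0 ∧ T.a 4 3 = 0 ∧ T.a 0 0 = -4 * T.w 2 ∧ T.a 0 1 = 2 * T.w 2 ∧ T.a 0 2 = 0 ∧ T.a 0 3 = 0 ∧ T.a 1 1 = -4 * T.w 2 ∧ T.a 1 2 = 2 * T.w 2 ∧ T.a 1 3 = 0 ∧ T.a 2 2 = -2 * T.w 2 ∧ T.a 2 3 = T.w 2 ∧ T.a 3 3 = -2 * T.w 2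
            refine ⟨?_, ?_, ?_, ?_, ?_, ?_, ?_, ?_, ?_, ?_, ?_, ?_, ?_, ?_, ?_, ?_, ?_, ?_, ?_, ?_, ?_, ?_, ?_, ?_, ?_⟩ <;> omega
          · -- 34=(1,1)
            exfalso; omega
          · -- 34=(1,2)
            exact False.elim (cert_false T ((skipEmb 0).trans (Function.Embedding.refl _)) (by norm_num) (fun _ => hall _) (((((((LB_zero T ((skipEmb 0).trans (Function.Embedding.refl _))).upd 0 1 1 (le_of_eq hx12)).upd 1 0 2 (le_of_eq hx21)).upd 1 2 1 (le_of_eq hx23)).upd 2 1 1 (le_of_eq hx32)).upd 2 3 1 (le_of_eq hx34)).upd 3 2 2 (le_of_eq hx43)) ![1,2,2,2] (by decide) (by decide) 0 (by decide))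
          · -- 34=(2,1)
            exact False.elim (cert_false T ((skipEmb 0).trans (Function.Embedding.refl _)) (by norm_num) (fun _ => hall _) (((((((LB_zero T ((skipEmb 0).trans (Function.Embedding.refl _))).upd 0 1 1 (le_of_eq hx12)).upd 1 0 2 (le_of_eq hx21)).upd 1 2 1 (le_of_eq hx23)).upd 2 1 1 (le_of_eq hx32)).upd 2 3 2 (le_of_eq hx34)).upd 3 2 1 (le_of_eq hx43)) ![1,2,2,1] (by decide) (by decide) 0 (by decide))
          · -- 34=(1,3)
            exact False.elim (cert_false T ((skipEmb 2).trans (Function.Embedding.refl _)) (by norm_num) (fun _ => hall _) (((((LB_zero T ((skipEmb 2).trans (Function.Embedding.refl _))).upd 0 3 1 (le_of_eq hx04)).upd 2 3 1 (le_of_eq hx34)).upd 3 0 1 (le_of_eq hx40)).upd 3 2 3 (le_of_eq hx43)) ![1,0,1,2] (by decide) (by decide) 0 (by decide))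
          · -- 34=(3,1)
            exact False.elim (cert_false T ((skipEmb 2).trans (Function.Embedding.refl _)) (by norm_num) (fun _ => hall _) (((((LB_zero T ((skipEmb 2).trans (Function.Embedding.refl _))).upd 0 3 1 (le_of_eq hx04)).upd 2 3 3 (le_of_eq hx34)).upd 3 0 1 (le_of_eq hx40)).upd 3 2 1 (le_of_eq hx43)) ![1,0,3,2] (by decide) (by decide) 0 (by decide))
        · -- 24=(1,1)
          exact False.elim (cert_false T ((skipEmb 3).trans (Function.Embedding.refl _)) (by norm_num) (fun _ => hall _) (((((((((LB_zero T ((skipEmb 3).trans (Function.Embedding.refl _))).upd 0 1 1 (le_of_eq hx01)).upd 0 3 1 (le_of_eq hx04)).upd 1 0 1 (le_of_eq hx10)).upd 1 2 1 (le_of_eq hx12)).upd 2 1 2 (le_of_eq hx21)).upd 2 3 1 (le_of_eq hx24)).upd 3 0 1 (le_of_eq hx40)).upd 3 2 1 (le_of_eq hx42)) ![1,1,1,1] (by decide) (by decide) 0 (by decide))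
        · -- 24=(1,2)
          exact False.elim (cert_false T ((skipEmb 3).trans (Function.Embedding.refl _)) (by norm_num) (fun _ => hall _) (((((((((LB_zero T ((skipEmb 3).trans (Function.Embedding.refl _))).upd 0 1 1 (le_of_eq hx01)).upd 0 3 1 (le_of_eq hx04)).upd 1 0 1 (le_of_eq hx10)).upd 1 2 1 (le_of_eq hx12)).upd 2 1 2 (le_of_eq hx21)).upd 2 3 1 (le_of_eq hx24)).upd 3 0 1 (le_of_eq hx40)).upd 3 2 2 (le_of_eq hx42)) ![1,1,1,1] (by decide) (by decide) 0 (by decide))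
        · -- 24=(2,1)
          exact False.elim (cert_false T ((skipEmb 3).trans (Function.Embedding.refl _)) (by norm_num) (fun _ => hall _) (((((((((LB_zero T ((skipEmb 3).trans (Function.Embedding.refl _))).upd 0 1 1 (le_of_eq hx01)).upd 0 3 1 (le_of_eq hx04)).upd 1 0 1 (le_of_eq hx10)).upd 1 2 1 (le_of_eq hx12)).upd 2 1 2 (le_of_eq hx21)).upd 2 3 2 (le_of_eq hx24)).upd 3 0 1 (le_of_eq hx40)).upd 3 2 1 (le_of_eq hx42)) ![1,1,1,1] (by decide) (by decide) 0 (by decide))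
        · -- 24=(1,3)
          exact False.elim (cert_false T ((skipEmb 3).trans (Function.Embedding.refl _)) (by norm_num) (fun _ => hall _) (((((((((LB_zero T ((skipEmb 3).trans (Function.Embedding.refl _))).upd 0 1 1 (le_of_eq hx01)).upd 0 3 1 (le_of_eq hx04)).upd 1 0 1 (le_of_eq hx10)).upd 1 2 1 (le_of_eq hx12)).upd 2 1 2 (le_of_eq hx21)).upd 2 3 1 (le_of_eq hx24)).upd 3 0 1 (le_of_eq hx40)).upd 3 2 3 (le_of_eq hx42)) ![1,1,1,1] (by decide) (by decide) 0 (by decide))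
        · -- 24=(3,1)
          exact False.elim (cert_false T ((skipEmb 3).trans (Function.Embedding.refl _)) (by norm_num) (fun _ => hall _) (((((((((LB_zero T ((skipEmb 3).trans (Function.Embedding.refl _))).upd 0 1 1 (le_of_eq hx01)).upd 0 3 1 (le_of_eq hx04)).upd 1 0 1 (le_of_eq hx10)).upd 1 2 1 (le_of_eq hx12)).upd 2 1 2 (le_of_eq hx21)).upd 2 3 3 (le_of_eq hx24)).upd 3 0 1 (le_of_eq hx40)).upd 3 2 1 (le_of_eq hx42)) ![1,1,1,1] (by decide) (by decide) 0 (by decide))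
      · -- 14=(1,1)
        exact False.elim (cert_false T ((skipEmb 3).trans (Function.Embedding.refl _)) (by norm_num) (fun _ => hall _) (((((((LB_zero T ((skipEmb 3).trans (Function.Embedding.refl _))).upd 0 1 1 (le_of_eq hx01)).upd 0 3 1 (le_of_eq hx04)).upd 1 0 1 (le_of_eq hx10)).upd 1 3 1 (le_of_eq hx14)).upd 3 0 1 (le_of_eq hx40)).upd 3 1 1 (le_of_eq hx41)) ![1,1,0,1] (by decide) (by decide) 0 (by decide))
      · -- 14=(1,2)
        exact False.elim (cert_false T ((skipEmb 3).trans (Function.Embedding.refl _)) (by norm_num) (fun _ => hall _) (((((LB_zero T ((skipEmb 3).trans (Function.Embedding.refl _))).upd 1 2 1 (le_of_eq hx12)).upd 1 3 1 (le_of_eq hx14)).upd 2 1 2 (le_of_eq hx21)).upd 3 1 2 (le_of_eq hx41)) ![0,1,1,1] (by decide) (by decide) 1 (by decide))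
      · -- 14=(2,1)
        exact False.elim (cert_false T ((skipEmb 3).trans (Function.Embedding.refl _)) (by norm_num) (fun _ => hall _) (((((((LB_zero T ((skipEmb 3).trans (Function.Embedding.refl _))).upd 0 1 1 (le_of_eq hx01)).upd 0 3 1 (le_of_eq hx04)).upd 1 0 1 (le_of_eq hx10)).upd 1 3 2 (le_of_eq hx14)).upd 3 0 1 (le_of_eq hx40)).upd 3 1 1 (le_of_eq hx41)) ![1,1,0,1] (by decide) (by decide) 0 (by decide))
      · -- 14=(1,3)
        exact False.elim (cert_false T ((skipEmb 3).trans (Function.Embedding.refl _)) (by norm_num) (fun _ => hall _) (((((LB_zero T ((skipEmb 3).trans (Function.Embedding.refl _))).upd 1 2 1 (le_of_eq hx12)).upd 1 3 1 (le_of_eq hx14)).upd 2 1 2 (le_of_eq hx21)).upd 3 1 3 (le_of_eq hx41)) ![0,1,1,1] (by decide) (by decide) 1 (by decide))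
      · -- 14=(3,1)
        exact False.elim (cert_false T ((skipEmb 3).trans (Function.Embedding.refl _)) (by norm_num) (fun _ => hall _) (((((((LB_zero T ((skipEmb 3).trans (Function.Embedding.refl _))).upd 0 1 1 (le_of_eq hx01)).upd 0 3 1 (le_of_eq hx04)).upd 1 0 1 (le_of_eq hx10)).upd 1 3 3 (le_of_eq hx14)).upd 3 0 1 (le_of_eq hx40)).upd 3 1 1 (le_of_eq hx41)) ![1,1,0,1] (by decide) (by decide) 0 (by decide))
    · -- 04=(1,2)
      exact False.elim (cert_false T ((skipEmb 3).trans (Function.Embedding.refl _)) (by norm_num) (fun _ => hall _) (((((((LB_zero T ((skipEmb 3).trans (Function.Embedding.refl _))).upd 0 1 1 (le_of_eq hx01)).upd 0 3 1 (le_of_eq hx04)).upd 1 0 1 (le_of_eq hx10)).upd 1 2 1 (le_of_eq hx12)).upd 2 1 2 (le_of_eq hx21)).upd 3 0 2 (le_of_eq hx40)) ![1,1,1,1] (by decide) (by decide) 0 (by decide))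
    · -- 04=(2,1)
      exact False.elim (cert_false T ((skipEmb 3).trans (Function.Embedding.refl _)) (by norm_num) (fun _ => hall _) (((((((LB_zero T ((skipEmb 3).trans (Function.Embedding.refl _))).upd 0 1 1 (le_of_eq hx01)).upd 0 3 2 (le_of_eq hx04)).upd 1 0 1 (le_of_eq hx10)).upd 1 2 1 (le_of_eq hx12)).upd 2 1 2 (le_of_eq hx21)).upd 3 0 1 (le_of_eq hx40)) ![2,2,2,1] (by decide) (by decide) 0 (by decide))
    · -- 04=(1,3)
      exact False.elim (cert_false T ((skipEmb 3).trans (Function.Embedding.refl _)) (by norm_num) (fun _ => hall _) (((((((LB_zero T ((skipEmb 3).trans (Function.Embedding.refl _))).upd 0 1 1 (le_of_eq hx01)).upd 0 3 1 (le_of_eq hx04)).upd 1 0 1 (le_of_eq hx10)).upd 1 2 1 (le_of_eq hx12)).upd 2 1 2 (le_of_eq hx21)).upd 3 0 3 (le_of_eq hx40)) ![1,1,1,1] (by decide) (by decide) 0 (by decide))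
    · -- 04=(3,1)
      exact False.elim (cert_false T ((skipEmb 3).trans (Function.Embedding.refl _)) (by norm_num) (fun _ => hall _) (((((LB_zero T ((skipEmb 3).trans (Function.Embedding.refl _))).upd 0 1 1 (le_of_eq hx01)).upd 0 3 3 (le_of_eq hx04)).upd 1 0 1 (le_of_eq hx10)).upd 3 0 1 (le_of_eq hx40)) ![2,1,0,1] (by decide) (by decide) 0 (by decide))
  · -- 23=(1,2)
    exact False.elim (cert_false T ((skipEmb 4).trans (Function.Embedding.refl _)) (by norm_num) (fun _ => hall _) (((((LB_zero T ((skipEmb 4).trans (Function.Embedding.refl _))).upd 1 2 1 (le_of_eq hx12)).upd 2 1 2 (le_of_eq hx21)).upd 2 3 1 (le_of_eq hx23)).upd 3 2 2 (le_of_eq hx32)) ![0,1,2,2] (by decide) (by decide) 1 (by decide))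
  · -- 23=(2,1)
    exact False.elim (cert_false T ((skipEmb 4).trans (Function.Embedding.refl _)) (by norm_num) (fun _ => hall _) (((((LB_zero T ((skipEmb 4).trans (Function.Embedding.refl _))).upd 1 2 1 (le_of_eq hx12)).upd 2 1 2 (le_of_eq hx21)).upd 2 3 2 (le_of_eq hx23)).upd 3 2 1 (le_of_eq hx32)) ![0,1,2,1] (by decide) (by decide) 1 (by decide))
  · -- 23=(1,3)
    exact False.elim (cert_false T ((skipEmb 4).trans (Function.Embedding.refl _)) (by norm_num) (fun _ => hall _) (((((LB_zero T ((skipEmb 4).trans (Function.Embedding.refl _))).upd 1 2 1 (le_of_eq hx12)).upd 2 1 2 (le_of_eq hx21)).upd 2 3 1 (le_of_eq hx23)).upd 3 2 3 (le_of_eq hx32)) ![0,1,2,2] (by decide) (by decide) 1 (by decide))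
  · -- 23=(3,1)
    exact False.elim (cert_false T ((skipEmb 4).trans (Function.Embedding.refl _)) (by norm_num) (fun _ => hall _) (((((LB_zero T ((skipEmb 4).trans (Function.Embedding.refl _))).upd 1 2 1 (le_of_eq hx12)).upd 2 1 2 (le_of_eq hx21)).upd 2 3 3 (le_of_eq hx23)).upd 3 2 1 (le_of_eq hx32)) ![0,1,2,1] (by decide) (by decide) 1 (by decide))

theorem case427 (T : NumericalType 5) (hall : ∀ i, T.IsMinusTwo i) (d : SData T)
    (h01 : N T (Function.Embedding.refl _) 0 1 = 1) (h10 : N T (Function.Embedding.refl _) 1 0 = 1)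
    (h02 : N T (Function.Embedding.refl _) 0 2 = 1) (h20 : N T (Function.Embedding.refl _) 2 0 = 1)
    (h12 : N T (Function.Embedding.refl _) 1 2 = 0) (h21 : N T (Function.Embedding.refl _) 2 1 = 0)
    (h03 : N T (Function.Embedding.refl _) 0 3 = 0) (h30 : N T (Function.Embedding.refl _) 3 0 = 0)
    (h13 : N T (Function.Embedding.refl _) 1 3 = 1) (h31 : N T (Function.Embedding.refl _) 3 1 = 1)
    (h23 : N T (Function.Embedding.refl _) 2 3 = 0) (h32 : N T (Function.Embedding.refl _) 3 2 = 0) :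
    Goal T := by
  unfold Goal
  have hd := d
  obtain ⟨x01, x02, x03, x04, x10, x12, x13, x14, x20, x21, x23, x24, x30, x31, x32, x34, x40, x41, x42, x43, hx01, hx02, hx03, hx04, hx10, hx12, hx13, hx14, hx20, hx21, hx23, hx24, hx30, hx31, hx32, hx34, hx40, hx41, hx42, hx43, hw0, hm0, hw1, hm1, hw2, hm2, hw3, hm3, hw4, hm4, a00, a01, a02, a03, a04, a11, a10, a12, a13, a14, a22, a20, a21, a23, a24, a33, a30, a31, a32, a34, a44, a40, a41, a42, a43, wN01, wN02, wN12, wN03, wN13, wN23, wN04, wN14, wN24, wN34, e0, e1, e2, e3, e4, d01, d02, d12, d03, d13, d23, d04, d14, d24, d34⟩ := d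
  obtain rfl : x01 = 1 := hx01.trans h01
  obtain rfl : x10 = 1 := hx10.trans h10
  obtain rfl : x02 = 1 := hx02.trans h02
  obtain rfl : x20 = 1 := hx20.trans h20
  obtain rfl : x12 = 0 := hx12.trans h12
  obtain rfl : x21 = 0 := hx21.trans h21
  obtain rfl : x03 = 0 := hx03.trans h03
  obtain rfl : x30 = 0 := hx30.trans h30
  obtain rfl : x13 = 1 := hx13.trans h13
  obtain rfl : x31 = 1 := hx31.trans h31
  obtain rfl : x23 = 0 := hx23.trans h23
  obtain rfl : x32 = 0 := hx32.trans h32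
  rcases d04 with ⟨rfl, rfl⟩ | ⟨rfl, rfl⟩ | ⟨rfl, rfl⟩ | ⟨rfl, rfl⟩ | ⟨rfl, rfl⟩ | ⟨rfl, rfl⟩
  · -- 04=(0,0)
    rcases d14 with ⟨rfl, rfl⟩ | ⟨rfl, rfl⟩ | ⟨rfl, rfl⟩ | ⟨rfl, rfl⟩ | ⟨rfl, rfl⟩ | ⟨rfl, rfl⟩
    · -- 14=(0,0)
      rcases d24 with ⟨rfl, rfl⟩ | ⟨rfl, rfl⟩ | ⟨rfl, rfl⟩ | ⟨rfl, rfl⟩ | ⟨rfl, rfl⟩ | ⟨rfl, rfl⟩
      · -- 24=(0,0)
        rcases d34 with ⟨rfl, rfl⟩ | ⟨rfl, rfl⟩ | ⟨rfl, rfl⟩ | ⟨rfl, rfl⟩ | ⟨rfl, rfl⟩ | ⟨rfl, rfl⟩
        · -- 34=(0,0)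
          exfalso; omega
        · -- 34=(1,1)
          exfalso; omega
        · -- 34=(1,2)
          exfalso; omega
        · -- 34=(2,1)
          exfalso; omega
        · -- 34=(1,3)
          exact False.elim (cert_false T ((skipEmb 2).trans (Function.Embedding.refl _)) (by norm_num) (fun _ => hall _) (((((LB_zero T ((skipEmb 2).trans (Function.Embedding.refl _))).upd 1 2 1 (le_of_eq hx13)).upd 2 1 1 (le_of_eq hx31)).upd 2 3 1 (le_of_eq hx34)).upd 3 2 3 (le_of_eq hx43)) ![0,1,2,3] (by decide) (by decide) 1 (by decide))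
        · -- 34=(3,1)
          exact False.elim (cert_false T ((skipEmb 2).trans (Function.Embedding.refl _)) (by norm_num) (fun _ => hall _) (((((LB_zero T ((skipEmb 2).trans (Function.Embedding.refl _))).upd 1 2 1 (le_of_eq hx13)).upd 2 1 1 (le_of_eq hx31)).upd 2 3 3 (le_of_eq hx34)).upd 3 2 1 (le_of_eq hx43)) ![0,1,2,1] (by decide) (by decide) 1 (by decide))
      · -- 24=(1,1)
        rcases d34 with ⟨rfl, rfl⟩ | ⟨rfl, rfl⟩ | ⟨rfl, rfl⟩ | ⟨rfl, rfl⟩ | ⟨rfl, rfl⟩ | ⟨rfl, rfl⟩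
        · -- 34=(0,0)
          exfalso; omega
        · -- 34=(1,1)
          refine ⟨(⟨![0, 1, 3, 4, 2], ![0, 1, 4, 2, 3], by decide, by decide⟩ : Equiv.Perm (Fin 5)), T.m 0, T.w 0, Or.inl ?_⟩
          show T.m 0 = T.m 0 ∧ T.m 1 = T.m 0 ∧ T.m 3 = T.m 0 ∧ T.m 4 = T.m 0 ∧ T.m 2 = T.m 0 ∧ T.w 0 = T.w 0 ∧ T.w 1 = T.w 0 ∧ T.w 3 = T.w 0 ∧ T.w 4 = T.w 0 ∧ T.w 2 = T.w 0 ∧ T.a 0 0 = -2 * T.w 0 ∧ T.a 0 1 = T.w 0 ∧ T.a 0 3 = 0 ∧ T.a 0 4 = 0 ∧ T.a 0 2 = T.w 0 ∧ T.a 1 1 = -2 * T.w 0 ∧ T.a 1 3 = T.w 0 ∧ T.a 1 4 = 0 ∧ T.a 1 2 = 0 ∧ T.a 3 3 = -2 * T.w 0 ∧ T.a 3 4 = T.w 0 ∧ T.a 3 2 = 0 ∧ T.a 4 4 = -2 * T.w 0 ∧ T.a 4 2 = T.w 0 ∧ T.a 2 2 = -2 * T.w 0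
          refine ⟨?_, ?_, ?_, ?_, ?_, ?_, ?_, ?_, ?_, ?_, ?_, ?_, ?_, ?_, ?_, ?_, ?_, ?_, ?_, ?_, ?_, ?_, ?_, ?_, ?_⟩ <;> omega
        · -- 34=(1,2)
          exfalso; omega
        · -- 34=(2,1)
          exfalso; omega
        · -- 34=(1,3)
          exact False.elim (cert_false T ((skipEmb 2).trans (Function.Embedding.refl _)) (by norm_num) (fun _ => hall _) (((((LB_zero T ((skipEmb 2).trans (Function.Embedding.refl _))).upd 1 2 1 (le_of_eq hx13)).upd 2 1 1 (le_of_eq hx31)).upd 2 3 1 (le_of_eq hx34)).upd 3 2 3 (le_of_eq hx43)) ![0,1,2,3] (by decide) (by decide) 1 (by decide))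
        · -- 34=(3,1)
          exact False.elim (cert_false T ((skipEmb 2).trans (Function.Embedding.refl _)) (by norm_num) (fun _ => hall _) (((((LB_zero T ((skipEmb 2).trans (Function.Embedding.refl _))).upd 1 2 1 (le_of_eq hx13)).upd 2 1 1 (le_of_eq hx31)).upd 2 3 3 (le_of_eq hx34)).upd 3 2 1 (le_of_eq hx43)) ![0,1,2,1] (by decide) (by decide) 1 (by decide))
      · -- 24=(1,2)
        rcases d34 with ⟨rfl, rfl⟩ | ⟨rfl, rfl⟩ | ⟨rfl, rfl⟩ | ⟨rfl, rfl⟩ | ⟨rfl, rfl⟩ | ⟨rfl, rfl⟩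
        · -- 34=(0,0)
          exfalso; omega
        · -- 34=(1,1)
          exfalso; omega
        · -- 34=(1,2)
          exact False.elim (cert_false T ((skipEmb 1).trans (Function.Embedding.refl _)) (by norm_num) (fun _ => hall _) (((((LB_zero T ((skipEmb 1).trans (Function.Embedding.refl _))).upd 1 3 1 (le_of_eq hx24)).upd 2 3 1 (le_of_eq hx34)).upd 3 1 2 (le_of_eq hx42)).upd 3 2 2 (le_of_eq hx43)) ![0,1,1,2] (by decide) (by decide) 1 (by decide))
        · -- 34=(2,1)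
          exact False.elim (cert_false T ((skipEmb 1).trans (Function.Embedding.refl _)) (by norm_num) (fun _ => hall _) (((((LB_zero T ((skipEmb 1).trans (Function.Embedding.refl _))).upd 1 3 1 (le_of_eq hx24)).upd 2 3 2 (le_of_eq hx34)).upd 3 1 2 (le_of_eq hx42)).upd 3 2 1 (le_of_eq hx43)) ![0,1,2,2] (by decide) (by decide) 1 (by decide))
        · -- 34=(1,3)
          exact False.elim (cert_false T ((skipEmb 2).trans (Function.Embedding.refl _)) (by norm_num) (fun _ => hall _) (((((LB_zero T ((skipEmb 2).trans (Function.Embedding.refl _))).upd 1 2 1 (le_of_eq hx13)).upd 2 1 1 (le_of_eq hx31)).upd 2 3 1 (le_of_eq hx34)).upd 3 2 3 (le_of_eq hx43)) ![0,1,2,3] (by decide) (by decide) 1 (by decide))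
        · -- 34=(3,1)
          exact False.elim (cert_false T ((skipEmb 2).trans (Function.Embedding.refl _)) (by norm_num) (fun _ => hall _) (((((LB_zero T ((skipEmb 2).trans (Function.Embedding.refl _))).upd 1 2 1 (le_of_eq hx13)).upd 2 1 1 (le_of_eq hx31)).upd 2 3 3 (le_of_eq hx34)).upd 3 2 1 (le_of_eq hx43)) ![0,1,2,1] (by decide) (by decide) 1 (by decide))
      · -- 24=(2,1)
        rcases d34 with ⟨rfl, rfl⟩ | ⟨rfl, rfl⟩ | ⟨rfl, rfl⟩ | ⟨rfl, rfl⟩ | ⟨rfl, rfl⟩ | ⟨rfl, rfl⟩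
        · -- 34=(0,0)
          exfalso; omega
        · -- 34=(1,1)
          exfalso; omega
        · -- 34=(1,2)
          exact False.elim (cert_false T ((skipEmb 1).trans (Function.Embedding.refl _)) (by norm_num) (fun _ => hall _) (((((LB_zero T ((skipEmb 1).trans (Function.Embedding.refl _))).upd 1 3 2 (le_of_eq hx24)).upd 2 3 1 (le_of_eq hx34)).upd 3 1 1 (le_of_eq hx42)).upd 3 2 2 (le_of_eq hx43)) ![0,2,1,2] (by decide) (by decide) 1 (by decide))
        · -- 34=(2,1)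
          exact False.elim (cert_false T ((skipEmb 1).trans (Function.Embedding.refl _)) (by norm_num) (fun _ => hall _) (((((LB_zero T ((skipEmb 1).trans (Function.Embedding.refl _))).upd 1 3 2 (le_of_eq hx24)).upd 2 3 2 (le_of_eq hx34)).upd 3 1 1 (le_of_eq hx42)).upd 3 2 1 (le_of_eq hx43)) ![0,1,1,1] (by decide) (by decide) 1 (by decide))
        · -- 34=(1,3)
          exact False.elim (cert_false T ((skipEmb 2).trans (Function.Embedding.refl _)) (by norm_num) (fun _ => hall _) (((((LB_zero T ((skipEmb 2).trans (Function.Embedding.refl _))).upd 1 2 1 (le_of_eq hx13)).upd 2 1 1 (le_of_eq hx31)).upd 2 3 1 (le_of_eq hx34)).upd 3 2 3 (le_of_eq hx43)) ![0,1,2,3] (by decide) (by decide) 1 (by decide))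
        · -- 34=(3,1)
          exact False.elim (cert_false T ((skipEmb 2).trans (Function.Embedding.refl _)) (by norm_num) (fun _ => hall _) (((((LB_zero T ((skipEmb 2).trans (Function.Embedding.refl _))).upd 1 2 1 (le_of_eq hx13)).upd 2 1 1 (le_of_eq hx31)).upd 2 3 3 (le_of_eq hx34)).upd 3 2 1 (le_of_eq hx43)) ![0,1,2,1] (by decide) (by decide) 1 (by decide))
      · -- 24=(1,3)
        exact False.elim (cert_false T ((skipEmb 3).trans (Function.Embedding.refl _)) (by norm_num) (fun _ => hall _) (((((LB_zero T ((skipEmb 3).trans (Function.Embedding.refl _))).upd 0 2 1 (le_of_eq hx02)).upd 2 0 1 (le_of_eq hx20)).upd 2 3 1 (le_of_eq hx24)).upd 3 2 3 (le_of_eq hx42)) ![1,0,2,3] (by decide) (by decide) 0 (by decide))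
      · -- 24=(3,1)
        exact False.elim (cert_false T ((skipEmb 3).trans (Function.Embedding.refl _)) (by norm_num) (fun _ => hall _) (((((LB_zero T ((skipEmb 3).trans (Function.Embedding.refl _))).upd 0 2 1 (le_of_eq hx02)).upd 2 0 1 (le_of_eq hx20)).upd 2 3 3 (le_of_eq hx24)).upd 3 2 1 (le_of_eq hx42)) ![1,0,2,1] (by decide) (by decide) 0 (by decide))
    · -- 14=(1,1)
      rcases d24 with ⟨rfl, rfl⟩ | ⟨rfl, rfl⟩ | ⟨rfl, rfl⟩ | ⟨rfl, rfl⟩ | ⟨rfl, rfl⟩ | ⟨rfl, rfl⟩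
      · -- 24=(0,0)
        rcases d34 with ⟨rfl, rfl⟩ | ⟨rfl, rfl⟩ | ⟨rfl, rfl⟩ | ⟨rfl, rfl⟩ | ⟨rfl, rfl⟩ | ⟨rfl, rfl⟩
        · -- 34=(0,0)
          exfalso; omega
        · -- 34=(1,1)
          exact False.elim (cert_false T ((skipEmb 2).trans (Function.Embedding.refl _)) (by norm_num) (fun _ => hall _) (((((((LB_zero T ((skipEmb 2).trans (Function.Embedding.refl _))).upd 1 2 1 (le_of_eq hx13)).upd 1 3 1 (le_of_eq hx14)).upd 2 1 1 (le_of_eq hx31)).upd 2 3 1 (le_of_eq hx34)).upd 3 1 1 (le_of_eq hx41)).upd 3 2 1 (le_of_eq hx43)) ![0,1,1,1] (by decide) (by decide) 1 (by decide))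
        · -- 34=(1,2)
          exact False.elim (cert_false T ((skipEmb 2).trans (Function.Embedding.refl _)) (by norm_num) (fun _ => hall _) (((((((LB_zero T ((skipEmb 2).trans (Function.Embedding.refl _))).upd 1 2 1 (le_of_eq hx13)).upd 1 3 1 (le_of_eq hx14)).upd 2 1 1 (le_of_eq hx31)).upd 2 3 1 (le_of_eq hx34)).upd 3 1 1 (le_of_eq hx41)).upd 3 2 2 (le_of_eq hx43)) ![0,1,1,1] (by decide) (by decide) 1 (by decide))
        · -- 34=(2,1)
          exact False.elim (cert_false T ((skipEmb 2).trans (Function.Embedding.refl _)) (by norm_num) (fun _ => hall _) (((((((LB_zero T ((skipEmb 2).trans (Function.Embedding.refl _))).upd 1 2 1 (le_of_eq hx13)).upd 1 3 1 (le_of_eq hx14)).upd 2 1 1 (le_of_eq hx31)).upd 2 3 2 (le_of_eq hx34)).upd 3 1 1 (le_of_eq hx41)).upd 3 2 1 (le_of_eq hx43)) ![0,1,1,1] (by decide) (by decide) 1 (by decide))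
        · -- 34=(1,3)
          exact False.elim (cert_false T ((skipEmb 2).trans (Function.Embedding.refl _)) (by norm_num) (fun _ => hall _) (((((((LB_zero T ((skipEmb 2).trans (Function.Embedding.refl _))).upd 1 2 1 (le_of_eq hx13)).upd 1 3 1 (le_of_eq hx14)).upd 2 1 1 (le_of_eq hx31)).upd 2 3 1 (le_of_eq hx34)).upd 3 1 1 (le_of_eq hx41)).upd 3 2 3 (le_of_eq hx43)) ![0,1,1,1] (by decide) (by decide) 1 (by decide))
        · -- 34=(3,1)
          exact False.elim (cert_false T ((skipEmb 2).trans (Function.Embedding.refl _)) (by norm_num) (fun _ => hall _) (((((((LB_zero T ((skipEmb 2).trans (Function.Embedding.refl _))).upd 1 2 1 (le_of_eq hx13)).upd 1 3 1 (le_of_eq hx14)).upd 2 1 1 (le_of_eq hx31)).upd 2 3 3 (le_of_eq hx34)).upd 3 1 1 (le_of_eq hx41)).upd 3 2 1 (le_of_eq hx43)) ![0,1,1,1] (by decide) (by decide) 1 (by decide))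
      · -- 24=(1,1)
        exact False.elim (cert_false T ((skipEmb 3).trans (Function.Embedding.refl _)) (by norm_num) (fun _ => hall _) (((((((((LB_zero T ((skipEmb 3).trans (Function.Embedding.refl _))).upd 0 1 1 (le_of_eq hx01)).upd 0 2 1 (le_of_eq hx02)).upd 1 0 1 (le_of_eq hx10)).upd 1 3 1 (le_of_eq hx14)).upd 2 0 1 (le_of_eq hx20)).upd 2 3 1 (le_of_eq hx24)).upd 3 1 1 (le_of_eq hx41)).upd 3 2 1 (le_of_eq hx42)) ![1,1,1,1] (by decide) (by decide) 0 (by decide))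
      · -- 24=(1,2)
        exact False.elim (cert_false T ((skipEmb 3).trans (Function.Embedding.refl _)) (by norm_num) (fun _ => hall _) (((((((((LB_zero T ((skipEmb 3).trans (Function.Embedding.refl _))).upd 0 1 1 (le_of_eq hx01)).upd 0 2 1 (le_of_eq hx02)).upd 1 0 1 (le_of_eq hx10)).upd 1 3 1 (le_of_eq hx14)).upd 2 0 1 (le_of_eq hx20)).upd 2 3 1 (le_of_eq hx24)).upd 3 1 1 (le_of_eq hx41)).upd 3 2 2 (le_of_eq hx42)) ![1,1,1,1] (by decide) (by decide) 0 (by decide))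
      · -- 24=(2,1)
        exact False.elim (cert_false T ((skipEmb 3).trans (Function.Embedding.refl _)) (by norm_num) (fun _ => hall _) (((((((((LB_zero T ((skipEmb 3).trans (Function.Embedding.refl _))).upd 0 1 1 (le_of_eq hx01)).upd 0 2 1 (le_of_eq hx02)).upd 1 0 1 (le_of_eq hx10)).upd 1 3 1 (le_of_eq hx14)).upd 2 0 1 (le_of_eq hx20)).upd 2 3 2 (le_of_eq hx24)).upd 3 1 1 (le_of_eq hx41)).upd 3 2 1 (le_of_eq hx42)) ![1,1,1,1] (by decide) (by decide) 0 (by decide))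
      · -- 24=(1,3)
        exact False.elim (cert_false T ((skipEmb 3).trans (Function.Embedding.refl _)) (by norm_num) (fun _ => hall _) (((((((((LB_zero T ((skipEmb 3).trans (Function.Embedding.refl _))).upd 0 1 1 (le_of_eq hx01)).upd 0 2 1 (le_of_eq hx02)).upd 1 0 1 (le_of_eq hx10)).upd 1 3 1 (le_of_eq hx14)).upd 2 0 1 (le_of_eq hx20)).upd 2 3 1 (le_of_eq hx24)).upd 3 1 1 (le_of_eq hx41)).upd 3 2 3 (le_of_eq hx42)) ![1,1,1,1] (by decide) (by decide) 0 (by decide))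
      · -- 24=(3,1)
        exact False.elim (cert_false T ((skipEmb 3).trans (Function.Embedding.refl _)) (by norm_num) (fun _ => hall _) (((((((((LB_zero T ((skipEmb 3).trans (Function.Embedding.refl _))).upd 0 1 1 (le_of_eq hx01)).upd 0 2 1 (le_of_eq hx02)).upd 1 0 1 (le_of_eq hx10)).upd 1 3 1 (le_of_eq hx14)).upd 2 0 1 (le_of_eq hx20)).upd 2 3 3 (le_of_eq hx24)).upd 3 1 1 (le_of_eq hx41)).upd 3 2 1 (le_of_eq hx42)) ![1,1,1,1] (by decide) (by decide) 0 (by decide))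
    · -- 14=(1,2)
      exact False.elim (cert_false T ((skipEmb 2).trans (Function.Embedding.refl _)) (by norm_num) (fun _ => hall _) (((((((LB_zero T ((skipEmb 2).trans (Function.Embedding.refl _))).upd 0 1 1 (le_of_eq hx01)).upd 1 0 1 (le_of_eq hx10)).upd 1 2 1 (le_of_eq hx13)).upd 1 3 1 (le_of_eq hx14)).upd 2 1 1 (le_of_eq hx31)).upd 3 1 2 (le_of_eq hx41)) ![1,2,1,2] (by decide) (by decide) 0 (by decide))
    · -- 14=(2,1)
      exact False.elim (cert_false T ((skipEmb 2).trans (Function.Embedding.refl _)) (by norm_num) (fun _ => hall _) (((((((LB_zero T ((skipEmb 2).trans (Function.Embedding.refl _))).upd 0 1 1 (le_of_eq hx01)).upd 1 0 1 (le_of_eq hx10)).upd 1 2 1 (le_of_eq hx13)).upd 1 3 2 (le_of_eq hx14)).upd 2 1 1 (le_of_eq hx31)).upd 3 1 1 (le_of_eq hx41)) ![1,2,1,1] (by decide) (by decide) 0 (by decide))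
    · -- 14=(1,3)
      exact False.elim (cert_false T ((skipEmb 3).trans (Function.Embedding.refl _)) (by norm_num) (fun _ => hall _) (((((LB_zero T ((skipEmb 3).trans (Function.Embedding.refl _))).upd 0 1 1 (le_of_eq hx01)).upd 1 0 1 (le_of_eq hx10)).upd 1 3 1 (le_of_eq hx14)).upd 3 1 3 (le_of_eq hx41)) ![1,2,0,3] (by decide) (by decide) 0 (by decide))
    · -- 14=(3,1)
      exact False.elim (cert_false T ((skipEmb 3).trans (Function.Embedding.refl _)) (by norm_num) (fun _ => hall _) (((((LB_zero T ((skipEmb 3).trans (Function.Embedding.refl _))).upd 0 1 1 (le_of_eq hx01)).upd 1 0 1 (le_of_eq hx10)).upd 1 3 3 (le_of_eq hx14)).upd 3 1 1 (le_of_eq hx41)) ![1,2,0,1] (by decide) (by decide) 0 (by decide))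
  · -- 04=(1,1)
    rcases d14 with ⟨rfl, rfl⟩ | ⟨rfl, rfl⟩ | ⟨rfl, rfl⟩ | ⟨rfl, rfl⟩ | ⟨rfl, rfl⟩ | ⟨rfl, rfl⟩
    · -- 14=(0,0)
      rcases d24 with ⟨rfl, rfl⟩ | ⟨rfl, rfl⟩ | ⟨rfl, rfl⟩ | ⟨rfl, rfl⟩ | ⟨rfl, rfl⟩ | ⟨rfl, rfl⟩
      · -- 24=(0,0)
        rcases d34 with ⟨rfl, rfl⟩ | ⟨rfl, rfl⟩ | ⟨rfl, rfl⟩ | ⟨rfl, rfl⟩ | ⟨rfl, rfl⟩ | ⟨rfl, rfl⟩
        · -- 34=(0,0)
          exfalso; omega
        · -- 34=(1,1)
          exact False.elim (cert_false T ((skipEmb 2).trans (Function.Embedding.refl _)) (by norm_num) (fun _ => hall _) (((((((((LB_zero T ((skipEmb 2).trans (Function.Embedding.refl _))).upd 0 1 1 (le_of_eq hx01)).upd 0 3 1 (le_of_eq hx04)).upd 1 0 1 (le_of_eq hx10)).upd 1 2 1 (le_of_eq hx13)).upd 2 1 1 (le_of_eq hx31)).upd 2 3 1 (le_of_eq hx34)).upd 3 0 1 (le_of_eq hx40)).upd 3 2 1 (le_of_eq hx43)) ![1,1,1,1] (by decide) (by decide) 0 (by decide))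
        · -- 34=(1,2)
          exact False.elim (cert_false T ((skipEmb 2).trans (Function.Embedding.refl _)) (by norm_num) (fun _ => hall _) (((((((((LB_zero T ((skipEmb 2).trans (Function.Embedding.refl _))).upd 0 1 1 (le_of_eq hx01)).upd 0 3 1 (le_of_eq hx04)).upd 1 0 1 (le_of_eq hx10)).upd 1 2 1 (le_of_eq hx13)).upd 2 1 1 (le_of_eq hx31)).upd 2 3 1 (le_of_eq hx34)).upd 3 0 1 (le_of_eq hx40)).upd 3 2 2 (le_of_eq hx43)) ![1,1,1,1] (by decide) (by decide) 0 (by decide))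
        · -- 34=(2,1)
          exact False.elim (cert_false T ((skipEmb 2).trans (Function.Embedding.refl _)) (by norm_num) (fun _ => hall _) (((((((((LB_zero T ((skipEmb 2).trans (Function.Embedding.refl _))).upd 0 1 1 (le_of_eq hx01)).upd 0 3 1 (le_of_eq hx04)).upd 1 0 1 (le_of_eq hx10)).upd 1 2 1 (le_of_eq hx13)).upd 2 1 1 (le_of_eq hx31)).upd 2 3 2 (le_of_eq hx34)).upd 3 0 1 (le_of_eq hx40)).upd 3 2 1 (le_of_eq hx43)) ![1,1,1,1] (by decide) (by decide) 0 (by decide))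
        · -- 34=(1,3)
          exact False.elim (cert_false T ((skipEmb 2).trans (Function.Embedding.refl _)) (by norm_num) (fun _ => hall _) (((((((((LB_zero T ((skipEmb 2).trans (Function.Embedding.refl _))).upd 0 1 1 (le_of_eq hx01)).upd 0 3 1 (le_of_eq hx04)).upd 1 0 1 (le_of_eq hx10)).upd 1 2 1 (le_of_eq hx13)).upd 2 1 1 (le_of_eq hx31)).upd 2 3 1 (le_of_eq hx34)).upd 3 0 1 (le_of_eq hx40)).upd 3 2 3 (le_of_eq hx43)) ![1,1,1,1] (by decide) (by decide) 0 (by decide))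
        · -- 34=(3,1)
          exact False.elim (cert_false T ((skipEmb 2).trans (Function.Embedding.refl _)) (by norm_num) (fun _ => hall _) (((((((((LB_zero T ((skipEmb 2).trans (Function.Embedding.refl _))).upd 0 1 1 (le_of_eq hx01)).upd 0 3 1 (le_of_eq hx04)).upd 1 0 1 (le_of_eq hx10)).upd 1 2 1 (le_of_eq hx13)).upd 2 1 1 (le_of_eq hx31)).upd 2 3 3 (le_of_eq hx34)).upd 3 0 1 (le_of_eq hx40)).upd 3 2 1 (le_of_eq hx43)) ![1,1,1,1] (by decide) (by decide) 0 (by decide))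
      · -- 24=(1,1)
        exact False.elim (cert_false T ((skipEmb 3).trans (Function.Embedding.refl _)) (by norm_num) (fun _ => hall _) (((((((LB_zero T ((skipEmb 3).trans (Function.Embedding.refl _))).upd 0 2 1 (le_of_eq hx02)).upd 0 3 1 (le_of_eq hx04)).upd 2 0 1 (le_of_eq hx20)).upd 2 3 1 (le_of_eq hx24)).upd 3 0 1 (le_of_eq hx40)).upd 3 2 1 (le_of_eq hx42)) ![1,0,1,1] (by decide) (by decide) 0 (by decide))
      · -- 24=(1,2)
        exact False.elim (cert_false T ((skipEmb 3).trans (Function.Embedding.refl _)) (by norm_num) (fun _ => hall _) (((((((LB_zero T ((skipEmb 3).trans (Function.Embedding.refl _))).upd 0 2 1 (le_of_eq hx02)).upd 0 3 1 (le_of_eq hx04)).upd 2 0 1 (le_of_eq hx20)).upd 2 3 1 (le_of_eq hx24)).upd 3 0 1 (le_of_eq hx40)).upd 3 2 2 (le_of_eq hx42)) ![1,0,1,1] (by decide) (by decide) 0 (by decide))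
      · -- 24=(2,1)
        exact False.elim (cert_false T ((skipEmb 3).trans (Function.Embedding.refl _)) (by norm_num) (fun _ => hall _) (((((((LB_zero T ((skipEmb 3).trans (Function.Embedding.refl _))).upd 0 2 1 (le_of_eq hx02)).upd 0 3 1 (le_of_eq hx04)).upd 2 0 1 (le_of_eq hx20)).upd 2 3 2 (le_of_eq hx24)).upd 3 0 1 (le_of_eq hx40)).upd 3 2 1 (le_of_eq hx42)) ![1,0,1,1] (by decide) (by decide) 0 (by decide))
      · -- 24=(1,3)
        exact False.elim (cert_false T ((skipEmb 3).trans (Function.Embedding.refl _)) (by norm_num) (fun _ => hall _) (((((((LB_zero T ((skipEmb 3).trans (Function.Embedding.refl _))).upd 0 2 1 (le_of_eq hx02)).upd 0 3 1 (le_of_eq hx04)).upd 2 0 1 (le_of_eq hx20)).upd 2 3 1 (le_of_eq hx24)).upd 3 0 1 (le_of_eq hx40)).upd 3 2 3 (le_of_eq hx42)) ![1,0,1,1] (by decide) (by decide) 0 (by decide))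
      · -- 24=(3,1)
        exact False.elim (cert_false T ((skipEmb 3).trans (Function.Embedding.refl _)) (by norm_num) (fun _ => hall _) (((((((LB_zero T ((skipEmb 3).trans (Function.Embedding.refl _))).upd 0 2 1 (le_of_eq hx02)).upd 0 3 1 (le_of_eq hx04)).upd 2 0 1 (le_of_eq hx20)).upd 2 3 3 (le_of_eq hx24)).upd 3 0 1 (le_of_eq hx40)).upd 3 2 1 (le_of_eq hx42)) ![1,0,1,1] (by decide) (by decide) 0 (by decide))
    · -- 14=(1,1)
      exact False.elim (cert_false T ((skipEmb 3).trans (Function.Embedding.refl _)) (by norm_num) (fun _ => hall _) (((((((LB_zero T ((skipEmb 3).trans (Function.Embedding.refl _))).upd 0 1 1 (le_of_eq hx01)).upd 0 3 1 (le_of_eq hx04)).upd 1 0 1 (le_of_eq hx10)).upd 1 3 1 (le_of_eq hx14)).upd 3 0 1 (le_of_eq hx40)).upd 3 1 1 (le_of_eq hx41)) ![1,1,0,1] (by decide) (by decide) 0 (by decide))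
    · -- 14=(1,2)
      exact False.elim (cert_false T ((skipEmb 3).trans (Function.Embedding.refl _)) (by norm_num) (fun _ => hall _) (((((((LB_zero T ((skipEmb 3).trans (Function.Embedding.refl _))).upd 0 1 1 (le_of_eq hx01)).upd 0 3 1 (le_of_eq hx04)).upd 1 0 1 (le_of_eq hx10)).upd 1 3 1 (le_of_eq hx14)).upd 3 0 1 (le_of_eq hx40)).upd 3 1 2 (le_of_eq hx41)) ![1,1,0,1] (by decide) (by decide) 0 (by decide))
    · -- 14=(2,1)
      exact False.elim (cert_false T ((skipEmb 3).trans (Function.Embedding.refl _)) (by norm_num) (fun _ => hall _) (((((((LB_zero T ((skipEmb 3).trans (Function.Embedding.refl _))).upd 0 1 1 (le_of_eq hx01)).upd 0 3 1 (le_of_eq hx04)).upd 1 0 1 (le_of_eq hx10)).upd 1 3 2 (le_of_eq hx14)).upd 3 0 1 (le_of_eq hx40)).upd 3 1 1 (le_of_eq hx41)) ![1,1,0,1] (by decide) (by decide) 0 (by decide))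
    · -- 14=(1,3)
      exact False.elim (cert_false T ((skipEmb 3).trans (Function.Embedding.refl _)) (by norm_num) (fun _ => hall _) (((((((LB_zero T ((skipEmb 3).trans (Function.Embedding.refl _))).upd 0 1 1 (le_of_eq hx01)).upd 0 3 1 (le_of_eq hx04)).upd 1 0 1 (le_of_eq hx10)).upd 1 3 1 (le_of_eq hx14)).upd 3 0 1 (le_of_eq hx40)).upd 3 1 3 (le_of_eq hx41)) ![1,1,0,1] (by decide) (by decide) 0 (by decide))
    · -- 14=(3,1)
      exact False.elim (cert_false T ((skipEmb 3).trans (Function.Embedding.refl _)) (by norm_num) (fun _ => hall _) (((((((LB_zero T ((skipEmb 3).trans (Function.Embedding.refl _))).upd 0 1 1 (le_of_eq hx01)).upd 0 3 1 (le_of_eq hx04)).upd 1 0 1 (le_of_eq hx10)).upd 1 3 3 (le_of_eq hx14)).upd 3 0 1 (le_of_eq hx40)).upd 3 1 1 (le_of_eq hx41)) ![1,1,0,1] (by decide) (by decide) 0 (by decide))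
  · -- 04=(1,2)
    exact False.elim (cert_false T ((skipEmb 3).trans (Function.Embedding.refl _)) (by norm_num) (fun _ => hall _) (((((((LB_zero T ((skipEmb 3).trans (Function.Embedding.refl _))).upd 0 1 1 (le_of_eq hx01)).upd 0 2 1 (le_of_eq hx02)).upd 0 3 1 (le_of_eq hx04)).upd 1 0 1 (le_of_eq hx10)).upd 2 0 1 (le_of_eq hx20)).upd 3 0 2 (le_of_eq hx40)) ![2,1,1,2] (by decide) (by decide) 0 (by decide))
  · -- 04=(2,1)
    exact False.elim (cert_false T ((skipEmb 3).trans (Function.Embedding.refl _)) (by norm_num) (fun _ => hall _) (((((((LB_zero T ((skipEmb 3).trans (Function.Embedding.refl _))).upd 0 1 1 (le_of_eq hx01)).upd 0 2 1 (le_of_eq hx02)).upd 0 3 2 (le_of_eq hx04)).upd 1 0 1 (le_of_eq hx10)).upd 2 0 1 (le_of_eq hx20)).upd 3 0 1 (le_of_eq hx40)) ![2,1,1,1] (by decide) (by decide) 0 (by decide))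
  · -- 04=(1,3)
    exact False.elim (cert_false T ((skipEmb 3).trans (Function.Embedding.refl _)) (by norm_num) (fun _ => hall _) (((((((LB_zero T ((skipEmb 3).trans (Function.Embedding.refl _))).upd 0 1 1 (le_of_eq hx01)).upd 0 2 1 (le_of_eq hx02)).upd 0 3 1 (le_of_eq hx04)).upd 1 0 1 (le_of_eq hx10)).upd 2 0 1 (le_of_eq hx20)).upd 3 0 3 (le_of_eq hx40)) ![2,1,1,2] (by decide) (by decide) 0 (by decide))
  · -- 04=(3,1)
    exact False.elim (cert_false T ((skipEmb 3).trans (Function.Embedding.refl _)) (by norm_num) (fun _ => hall _) (((((LB_zero T ((skipEmb 3).trans (Function.Embedding.refl _))).upd 0 2 1 (le_of_eq hx02)).upd 0 3 3 (le_of_eq hx04)).upd 2 0 1 (le_of_eq hx20)).upd 3 0 1 (le_of_eq hx40)) ![2,0,1,1] (by decide) (by decide) 0 (by decide))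

theorem case426 (T : NumericalType 5) (hall : ∀ i, T.IsMinusTwo i) (d : SData T)
    (h01 : N T (Function.Embedding.refl _) 0 1 = 1) (h10 : N T (Function.Embedding.refl _) 1 0 = 1)
    (h02 : N T (Function.Embedding.refl _) 0 2 = 1) (h20 : N T (Function.Embedding.refl _) 2 0 = 1)
    (h12 : N T (Function.Embedding.refl _) 1 2 = 0) (h21 : N T (Function.Embedding.refl _) 2 1 = 0)
    (h03 : N T (Function.Embedding.refl _) 0 3 = 0) (h30 : N T (Function.Embedding.refl _) 3 0 = 0)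
    (h13 : N T (Function.Embedding.refl _) 1 3 = 1) (h31 : N T (Function.Embedding.refl _) 3 1 = 1) :
    Goal T := by
  unfold Goal
  have hd := d
  obtain ⟨x01, x02, x03, x04, x10, x12, x13, x14, x20, x21, x23, x24, x30, x31, x32, x34, x40, x41, x42, x43, hx01, hx02, hx03, hx04, hx10, hx12, hx13, hx14, hx20, hx21, hx23, hx24, hx30, hx31, hx32, hx34, hx40, hx41, hx42, hx43, hw0, hm0, hw1, hm1, hw2, hm2, hw3, hm3, hw4, hm4, a00, a01, a02, a03, a04, a11, a10, a12, a13, a14, a22, a20, a21, a23, a24, a33, a30, a31, a32, a34, a44, a40, a41, a42, a43, wN01, wN02, wN12, wN03, wN13, wN23, wN04, wN14, wN24, wN34, e0, e1, e2, e3, e4, d01, d02, d12, d03, d13, d23, d04, d14, d24, d34⟩ := d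
  obtain rfl : x01 = 1 := hx01.trans h01
  obtain rfl : x10 = 1 := hx10.trans h10
  obtain rfl : x02 = 1 := hx02.trans h02
  obtain rfl : x20 = 1 := hx20.trans h20
  obtain rfl : x12 = 0 := hx12.trans h12
  obtain rfl : x21 = 0 := hx21.trans h21
  obtain rfl : x03 = 0 := hx03.trans h03
  obtain rfl : x30 = 0 := hx30.trans h30
  obtain rfl : x13 = 1 := hx13.trans h13
  obtain rfl : x31 = 1 := hx31.trans h31
  rcases d23 with ⟨rfl, rfl⟩ | ⟨rfl, rfl⟩ | ⟨rfl, rfl⟩ | ⟨rfl, rfl⟩ | ⟨rfl, rfl⟩ | ⟨rfl, rfl⟩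
  · -- 23=(0,0)
    exact case427 T hall hd hx01.symm hx10.symm hx02.symm hx20.symm hx12.symm hx21.symm hx03.symm hx30.symm hx13.symm hx31.symm hx23.symm hx32.symm
  · -- 23=(1,1)
    exact False.elim (cert_false T ((skipEmb 4).trans (Function.Embedding.refl _)) (by norm_num) (fun _ => hall _) (((((((((LB_zero T ((skipEmb 4).trans (Function.Embedding.refl _))).upd 0 1 1 (le_of_eq hx01)).upd 0 2 1 (le_of_eq hx02)).upd 1 0 1 (le_of_eq hx10)).upd 1 3 1 (le_of_eq hx13)).upd 2 0 1 (le_of_eq hx20)).upd 2 3 1 (le_of_eq hx23)).upd 3 1 1 (le_of_eq hx31)).upd 3 2 1 (le_of_eq hx32)) ![1,1,1,1] (by decide) (by decide) 0 (by decide))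
  · -- 23=(1,2)
    exact False.elim (cert_false T ((skipEmb 4).trans (Function.Embedding.refl _)) (by norm_num) (fun _ => hall _) (((((((((LB_zero T ((skipEmb 4).trans (Function.Embedding.refl _))).upd 0 1 1 (le_of_eq hx01)).upd 0 2 1 (le_of_eq hx02)).upd 1 0 1 (le_of_eq hx10)).upd 1 3 1 (le_of_eq hx13)).upd 2 0 1 (le_of_eq hx20)).upd 2 3 1 (le_of_eq hx23)).upd 3 1 1 (le_of_eq hx31)).upd 3 2 2 (le_of_eq hx32)) ![1,1,1,1] (by decide) (by decide) 0 (by decide))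
  · -- 23=(2,1)
    exact False.elim (cert_false T ((skipEmb 4).trans (Function.Embedding.refl _)) (by norm_num) (fun _ => hall _) (((((((((LB_zero T ((skipEmb 4).trans (Function.Embedding.refl _))).upd 0 1 1 (le_of_eq hx01)).upd 0 2 1 (le_of_eq hx02)).upd 1 0 1 (le_of_eq hx10)).upd 1 3 1 (le_of_eq hx13)).upd 2 0 1 (le_of_eq hx20)).upd 2 3 2 (le_of_eq hx23)).upd 3 1 1 (le_of_eq hx31)).upd 3 2 1 (le_of_eq hx32)) ![1,1,1,1] (by decide) (by decide) 0 (by decide))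
  · -- 23=(1,3)
    exact False.elim (cert_false T ((skipEmb 4).trans (Function.Embedding.refl _)) (by norm_num) (fun _ => hall _) (((((((((LB_zero T ((skipEmb 4).trans (Function.Embedding.refl _))).upd 0 1 1 (le_of_eq hx01)).upd 0 2 1 (le_of_eq hx02)).upd 1 0 1 (le_of_eq hx10)).upd 1 3 1 (le_of_eq hx13)).upd 2 0 1 (le_of_eq hx20)).upd 2 3 1 (le_of_eq hx23)).upd 3 1 1 (le_of_eq hx31)).upd 3 2 3 (le_of_eq hx32)) ![1,1,1,1] (by decide) (by decide) 0 (by decide))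
  · -- 23=(3,1)
    exact False.elim (cert_false T ((skipEmb 4).trans (Function.Embedding.refl _)) (by norm_num) (fun _ => hall _) (((((((((LB_zero T ((skipEmb 4).trans (Function.Embedding.refl _))).upd 0 1 1 (le_of_eq hx01)).upd 0 2 1 (le_of_eq hx02)).upd 1 0 1 (le_of_eq hx10)).upd 1 3 1 (le_of_eq hx13)).upd 2 0 1 (le_of_eq hx20)).upd 2 3 3 (le_of_eq hx23)).upd 3 1 1 (le_of_eq hx31)).upd 3 2 1 (le_of_eq hx32)) ![1,1,1,1] (by decide) (by decide) 0 (by decide))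

end Groth.Agent.Lib.helper11.G5
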