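import Groth.Agent.Lib.helper11.G5.Setup

set_option autoImplicit false
set_option maxRecDepth 4000

namespace Groth.Agent.Lib.helper11.G5

open Models Groth.Agent.Lib.helper11.NumType

theorem case60 (T : NumericalType 5) (hall : ∀ i, T.IsMinusTwo i) (d : SData T)
    (h01 : N T (Function.Embedding.refl _) 0 1 = 0) (h10 : N T (Function.Embedding.refl _) 1 0 = 0)
    (h02 : N T (Function.Embedding.refl _) 0 2 = 0) (h20 : N T (Function.Embedding.refl _) 2 0 = 0)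
    (h12 : N T (Function.Embedding.refl _) 1 2 = 0) (h21 : N T (Function.Embedding.refl _) 2 1 = 0)
    (h03 : N T (Function.Embedding.refl _) 0 3 = 1) (h30 : N T (Function.Embedding.refl _) 3 0 = 1)
    (h13 : N T (Function.Embedding.refl _) 1 3 = 1) (h31 : N T (Function.Embedding.refl _) 3 1 = 2)
    (h23 : N T (Function.Embedding.refl _) 2 3 = 0) (h32 : N T (Function.Embedding.refl _) 3 2 = 0)
    (h04 : N T (Function.Embedding.refl _) 0 4 = 0) (h40 : N T (Function.Embedding.refl _) 4 0 = 0) :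
    Goal T := by
  unfold Goal
  have hd := d
  obtain ⟨x01, x02, x03, x04, x10, x12, x13, x14, x20, x21, x23, x24, x30, x31, x32, x34, x40, x41, x42, x43, hx01, hx02, hx03, hx04, hx10, hx12, hx13, hx14, hx20, hx21, hx23, hx24, hx30, hx31, hx32, hx34, hx40, hx41, hx42, hx43, hw0, hm0, hw1, hm1, hw2, hm2, hw3, hm3, hw4, hm4, a00, a01, a02, a03, a04, a11, a10, a12, a13, a14, a22, a20, a21, a23, a24, a33, a30, a31, a32, a34, a44, a40, a41, a42, a43, wN01, wN02, wN12, wN03, wN13, wN23, wN04, wN14, wN24, wN34, e0, e1, e2, e3, e4, d01, d02, d12, d03, d13, d23, d04, d14, d24, d34⟩ := d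
  obtain rfl : x01 = 0 := hx01.trans h01
  obtain rfl : x10 = 0 := hx10.trans h10
  obtain rfl : x02 = 0 := hx02.trans h02
  obtain rfl : x20 = 0 := hx20.trans h20
  obtain rfl : x12 = 0 := hx12.trans h12
  obtain rfl : x21 = 0 := hx21.trans h21
  obtain rfl : x03 = 1 := hx03.trans h03
  obtain rfl : x30 = 1 := hx30.trans h30
  obtain rfl : x13 = 1 := hx13.trans h13
  obtain rfl : x31 = 2 := hx31.trans h31
  obtain rfl : x23 = 0 := hx23.trans h23
  obtain rfl : x32 = 0 := hx32.trans h32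
  obtain rfl : x04 = 0 := hx04.trans h04
  obtain rfl : x40 = 0 := hx40.trans h40
  rcases d14 with ⟨rfl, rfl⟩ | ⟨rfl, rfl⟩ | ⟨rfl, rfl⟩ | ⟨rfl, rfl⟩ | ⟨rfl, rfl⟩ | ⟨rfl, rfl⟩
  · -- 14=(0,0)
    rcases d24 with ⟨rfl, rfl⟩ | ⟨rfl, rfl⟩ | ⟨rfl, rfl⟩ | ⟨rfl, rfl⟩ | ⟨rfl, rfl⟩ | ⟨rfl, rfl⟩
    · -- 24=(0,0)
      rcases d34 with ⟨rfl, rfl⟩ | ⟨rfl, rfl⟩ | ⟨rfl, rfl⟩ | ⟨rfl, rfl⟩ | ⟨rfl, rfl⟩ | ⟨rfl, rfl⟩
      · -- 34=(0,0)
        exfalso; omega
      · -- 34=(1,1)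
        exact False.elim (cert_false T ((skipEmb 2).trans (Function.Embedding.refl _)) (by norm_num) (fun _ => hall _) (((((((LB_zero T ((skipEmb 2).trans (Function.Embedding.refl _))).upd 0 2 1 (le_of_eq hx03)).upd 1 2 1 (le_of_eq hx13)).upd 2 0 1 (le_of_eq hx30)).upd 2 1 2 (le_of_eq hx31)).upd 2 3 1 (le_of_eq hx34)).upd 3 2 1 (le_of_eq hx43)) ![1,1,2,1] (by decide) (by decide) 0 (by decide))
      · -- 34=(1,2)
        exact False.elim (cert_false T ((skipEmb 2).trans (Function.Embedding.refl _)) (by norm_num) (fun _ => hall _) (((((LB_zero T ((skipEmb 2).trans (Function.Embedding.refl _))).upd 1 2 1 (le_of_eq hx13)).upd 2 1 2 (le_of_eq hx31)).upd 2 3 1 (le_of_eq hx34)).upd 3 2 2 (le_of_eq hx43)) ![0,1,2,2] (by decide) (by decide) 1 (by decide))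
      · -- 34=(2,1)
        exact False.elim (cert_false T ((skipEmb 2).trans (Function.Embedding.refl _)) (by norm_num) (fun _ => hall _) (((((LB_zero T ((skipEmb 2).trans (Function.Embedding.refl _))).upd 1 2 1 (le_of_eq hx13)).upd 2 1 2 (le_of_eq hx31)).upd 2 3 2 (le_of_eq hx34)).upd 3 2 1 (le_of_eq hx43)) ![0,1,2,1] (by decide) (by decide) 1 (by decide))
      · -- 34=(1,3)
        exact False.elim (cert_false T ((skipEmb 2).trans (Function.Embedding.refl _)) (by norm_num) (fun _ => hall _) (((((LB_zero T ((skipEmb 2).trans (Function.Embedding.refl _))).upd 1 2 1 (le_of_eq hx13)).upd 2 1 2 (le_of_eq hx31)).upd 2 3 1 (le_of_eq hx34)).upd 3 2 3 (le_of_eq hx43)) ![0,1,2,2] (by decide) (by decide) 1 (by decide))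
      · -- 34=(3,1)
        exact False.elim (cert_false T ((skipEmb 2).trans (Function.Embedding.refl _)) (by norm_num) (fun _ => hall _) (((((LB_zero T ((skipEmb 2).trans (Function.Embedding.refl _))).upd 1 2 1 (le_of_eq hx13)).upd 2 1 2 (le_of_eq hx31)).upd 2 3 3 (le_of_eq hx34)).upd 3 2 1 (le_of_eq hx43)) ![0,1,2,1] (by decide) (by decide) 1 (by decide))
    · -- 24=(1,1)
      rcases d34 with ⟨rfl, rfl⟩ | ⟨rfl, rfl⟩ | ⟨rfl, rfl⟩ | ⟨rfl, rfl⟩ | ⟨rfl, rfl⟩ | ⟨rfl, rfl⟩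
      · -- 34=(0,0)
        exfalso; omega
      · -- 34=(1,1)
        exact False.elim (cert_false T ((skipEmb 2).trans (Function.Embedding.refl _)) (by norm_num) (fun _ => hall _) (((((((LB_zero T ((skipEmb 2).trans (Function.Embedding.refl _))).upd 0 2 1 (le_of_eq hx03)).upd 1 2 1 (le_of_eq hx13)).upd 2 0 1 (le_of_eq hx30)).upd 2 1 2 (le_of_eq hx31)).upd 2 3 1 (le_of_eq hx34)).upd 3 2 1 (le_of_eq hx43)) ![1,1,2,1] (by decide) (by decide) 0 (by decide))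
      · -- 34=(1,2)
        exact False.elim (cert_false T ((skipEmb 2).trans (Function.Embedding.refl _)) (by norm_num) (fun _ => hall _) (((((LB_zero T ((skipEmb 2).trans (Function.Embedding.refl _))).upd 1 2 1 (le_of_eq hx13)).upd 2 1 2 (le_of_eq hx31)).upd 2 3 1 (le_of_eq hx34)).upd 3 2 2 (le_of_eq hx43)) ![0,1,2,2] (by decide) (by decide) 1 (by decide))
      · -- 34=(2,1)
        exact False.elim (cert_false T ((skipEmb 2).trans (Function.Embedding.refl _)) (by norm_num) (fun _ => hall _) (((((LB_zero T ((skipEmb 2).trans (Function.Embedding.refl _))).upd 1 2 1 (le_of_eq hx13)).upd 2 1 2 (le_of_eq hx31)).upd 2 3 2 (le_of_eq hx34)).upd 3 2 1 (le_of_eq hx43)) ![0,1,2,1] (by decide) (by decide) 1 (by decide))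
      · -- 34=(1,3)
        exact False.elim (cert_false T ((skipEmb 2).trans (Function.Embedding.refl _)) (by norm_num) (fun _ => hall _) (((((LB_zero T ((skipEmb 2).trans (Function.Embedding.refl _))).upd 1 2 1 (le_of_eq hx13)).upd 2 1 2 (le_of_eq hx31)).upd 2 3 1 (le_of_eq hx34)).upd 3 2 3 (le_of_eq hx43)) ![0,1,2,2] (by decide) (by decide) 1 (by decide))
      · -- 34=(3,1)
        exact False.elim (cert_false T ((skipEmb 2).trans (Function.Embedding.refl _)) (by norm_num) (fun _ => hall _) (((((LB_zero T ((skipEmb 2).trans (Function.Embedding.refl _))).upd 1 2 1 (le_of_eq hx13)).upd 2 1 2 (le_of_eq hx31)).upd 2 3 3 (le_of_eq hx34)).upd 3 2 1 (le_of_eq hx43)) ![0,1,2,1] (by decide) (by decide) 1 (by decide))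
    · -- 24=(1,2)
      rcases d34 with ⟨rfl, rfl⟩ | ⟨rfl, rfl⟩ | ⟨rfl, rfl⟩ | ⟨rfl, rfl⟩ | ⟨rfl, rfl⟩ | ⟨rfl, rfl⟩
      · -- 34=(0,0)
        exfalso; omega
      · -- 34=(1,1)
        exact False.elim (cert_false T ((skipEmb 2).trans (Function.Embedding.refl _)) (by norm_num) (fun _ => hall _) (((((((LB_zero T ((skipEmb 2).trans (Function.Embedding.refl _))).upd 0 2 1 (le_of_eq hx03)).upd 1 2 1 (le_of_eq hx13)).upd 2 0 1 (le_of_eq hx30)).upd 2 1 2 (le_of_eq hx31)).upd 2 3 1 (le_of_eq hx34)).upd 3 2 1 (le_of_eq hx43)) ![1,1,2,1] (by decide) (by decide) 0 (by decide))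
      · -- 34=(1,2)
        exact False.elim (cert_false T ((skipEmb 2).trans (Function.Embedding.refl _)) (by norm_num) (fun _ => hall _) (((((LB_zero T ((skipEmb 2).trans (Function.Embedding.refl _))).upd 1 2 1 (le_of_eq hx13)).upd 2 1 2 (le_of_eq hx31)).upd 2 3 1 (le_of_eq hx34)).upd 3 2 2 (le_of_eq hx43)) ![0,1,2,2] (by decide) (by decide) 1 (by decide))
      · -- 34=(2,1)
        exact False.elim (cert_false T ((skipEmb 2).trans (Function.Embedding.refl _)) (by norm_num) (fun _ => hall _) (((((LB_zero T ((skipEmb 2).trans (Function.Embedding.refl _))).upd 1 2 1 (le_of_eq hx13)).upd 2 1 2 (le_of_eq hx31)).upd 2 3 2 (le_of_eq hx34)).upd 3 2 1 (le_of_eq hx43)) ![0,1,2,1] (by decide) (by decide) 1 (by decide))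
      · -- 34=(1,3)
        exact False.elim (cert_false T ((skipEmb 2).trans (Function.Embedding.refl _)) (by norm_num) (fun _ => hall _) (((((LB_zero T ((skipEmb 2).trans (Function.Embedding.refl _))).upd 1 2 1 (le_of_eq hx13)).upd 2 1 2 (le_of_eq hx31)).upd 2 3 1 (le_of_eq hx34)).upd 3 2 3 (le_of_eq hx43)) ![0,1,2,2] (by decide) (by decide) 1 (by decide))
      · -- 34=(3,1)
        exact False.elim (cert_false T ((skipEmb 2).trans (Function.Embedding.refl _)) (by norm_num) (fun _ => hall _) (((((LB_zero T ((skipEmb 2).trans (Function.Embedding.refl _))).upd 1 2 1 (le_of_eq hx13)).upd 2 1 2 (le_of_eq hx31)).upd 2 3 3 (le_of_eq hx34)).upd 3 2 1 (le_of_eq hx43)) ![0,1,2,1] (by decide) (by decide) 1 (by decide))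
    · -- 24=(2,1)
      rcases d34 with ⟨rfl, rfl⟩ | ⟨rfl, rfl⟩ | ⟨rfl, rfl⟩ | ⟨rfl, rfl⟩ | ⟨rfl, rfl⟩ | ⟨rfl, rfl⟩
      · -- 34=(0,0)
        exfalso; omega
      · -- 34=(1,1)
        exact False.elim (cert_false T ((skipEmb 2).trans (Function.Embedding.refl _)) (by norm_num) (fun _ => hall _) (((((((LB_zero T ((skipEmb 2).trans (Function.Embedding.refl _))).upd 0 2 1 (le_of_eq hx03)).upd 1 2 1 (le_of_eq hx13)).upd 2 0 1 (le_of_eq hx30)).upd 2 1 2 (le_of_eq hx31)).upd 2 3 1 (le_of_eq hx34)).upd 3 2 1 (le_of_eq hx43)) ![1,1,2,1] (by decide) (by decide) 0 (by decide))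
      · -- 34=(1,2)
        exact False.elim (cert_false T ((skipEmb 2).trans (Function.Embedding.refl _)) (by norm_num) (fun _ => hall _) (((((LB_zero T ((skipEmb 2).trans (Function.Embedding.refl _))).upd 1 2 1 (le_of_eq hx13)).upd 2 1 2 (le_of_eq hx31)).upd 2 3 1 (le_of_eq hx34)).upd 3 2 2 (le_of_eq hx43)) ![0,1,2,2] (by decide) (by decide) 1 (by decide))
      · -- 34=(2,1)
        exact False.elim (cert_false T ((skipEmb 2).trans (Function.Embedding.refl _)) (by norm_num) (fun _ => hall _) (((((LB_zero T ((skipEmb 2).trans (Function.Embedding.refl _))).upd 1 2 1 (le_of_eq hx13)).upd 2 1 2 (le_of_eq hx31)).upd 2 3 2 (le_of_eq hx34)).upd 3 2 1 (le_of_eq hx43)) ![0,1,2,1] (by decide) (by decide) 1 (by decide))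
      · -- 34=(1,3)
        exact False.elim (cert_false T ((skipEmb 2).trans (Function.Embedding.refl _)) (by norm_num) (fun _ => hall _) (((((LB_zero T ((skipEmb 2).trans (Function.Embedding.refl _))).upd 1 2 1 (le_of_eq hx13)).upd 2 1 2 (le_of_eq hx31)).upd 2 3 1 (le_of_eq hx34)).upd 3 2 3 (le_of_eq hx43)) ![0,1,2,2] (by decide) (by decide) 1 (by decide))
      · -- 34=(3,1)
        exact False.elim (cert_false T ((skipEmb 2).trans (Function.Embedding.refl _)) (by norm_num) (fun _ => hall _) (((((LB_zero T ((skipEmb 2).trans (Function.Embedding.refl _))).upd 1 2 1 (le_of_eq hx13)).upd 2 1 2 (le_of_eq hx31)).upd 2 3 3 (le_of_eq hx34)).upd 3 2 1 (le_of_eq hx43)) ![0,1,2,1] (by decide) (by decide) 1 (by decide))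
    · -- 24=(1,3)
      rcases d34 with ⟨rfl, rfl⟩ | ⟨rfl, rfl⟩ | ⟨rfl, rfl⟩ | ⟨rfl, rfl⟩ | ⟨rfl, rfl⟩ | ⟨rfl, rfl⟩
      · -- 34=(0,0)
        exfalso; omega
      · -- 34=(1,1)
        exact False.elim (cert_false T ((skipEmb 2).trans (Function.Embedding.refl _)) (by norm_num) (fun _ => hall _) (((((((LB_zero T ((skipEmb 2).trans (Function.Embedding.refl _))).upd 0 2 1 (le_of_eq hx03)).upd 1 2 1 (le_of_eq hx13)).upd 2 0 1 (le_of_eq hx30)).upd 2 1 2 (le_of_eq hx31)).upd 2 3 1 (le_of_eq hx34)).upd 3 2 1 (le_of_eq hx43)) ![1,1,2,1] (by decide) (by decide) 0 (by decide))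
      · -- 34=(1,2)
        exact False.elim (cert_false T ((skipEmb 2).trans (Function.Embedding.refl _)) (by norm_num) (fun _ => hall _) (((((LB_zero T ((skipEmb 2).trans (Function.Embedding.refl _))).upd 1 2 1 (le_of_eq hx13)).upd 2 1 2 (le_of_eq hx31)).upd 2 3 1 (le_of_eq hx34)).upd 3 2 2 (le_of_eq hx43)) ![0,1,2,2] (by decide) (by decide) 1 (by decide))
      · -- 34=(2,1)
        exact False.elim (cert_false T ((skipEmb 2).trans (Function.Embedding.refl _)) (by norm_num) (fun _ => hall _) (((((LB_zero T ((skipEmb 2).trans (Function.Embedding.refl _))).upd 1 2 1 (le_of_eq hx13)).upd 2 1 2 (le_of_eq hx31)).upd 2 3 2 (le_of_eq hx34)).upd 3 2 1 (le_of_eq hx43)) ![0,1,2,1] (by decide) (by decide) 1 (by decide))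
      · -- 34=(1,3)
        exact False.elim (cert_false T ((skipEmb 2).trans (Function.Embedding.refl _)) (by norm_num) (fun _ => hall _) (((((LB_zero T ((skipEmb 2).trans (Function.Embedding.refl _))).upd 1 2 1 (le_of_eq hx13)).upd 2 1 2 (le_of_eq hx31)).upd 2 3 1 (le_of_eq hx34)).upd 3 2 3 (le_of_eq hx43)) ![0,1,2,2] (by decide) (by decide) 1 (by decide))
      · -- 34=(3,1)
        exact False.elim (cert_false T ((skipEmb 2).trans (Function.Embedding.refl _)) (by norm_num) (fun _ => hall _) (((((LB_zero T ((skipEmb 2).trans (Function.Embedding.refl _))).upd 1 2 1 (le_of_eq hx13)).upd 2 1 2 (le_of_eq hx31)).upd 2 3 3 (le_of_eq hx34)).upd 3 2 1 (le_of_eq hx43)) ![0,1,2,1] (by decide) (by decide) 1 (by decide))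
    · -- 24=(3,1)
      rcases d34 with ⟨rfl, rfl⟩ | ⟨rfl, rfl⟩ | ⟨rfl, rfl⟩ | ⟨rfl, rfl⟩ | ⟨rfl, rfl⟩ | ⟨rfl, rfl⟩
      · -- 34=(0,0)
        exfalso; omega
      · -- 34=(1,1)
        exact False.elim (cert_false T ((skipEmb 2).trans (Function.Embedding.refl _)) (by norm_num) (fun _ => hall _) (((((((LB_zero T ((skipEmb 2).trans (Function.Embedding.refl _))).upd 0 2 1 (le_of_eq hx03)).upd 1 2 1 (le_of_eq hx13)).upd 2 0 1 (le_of_eq hx30)).upd 2 1 2 (le_of_eq hx31)).upd 2 3 1 (le_of_eq hx34)).upd 3 2 1 (le_of_eq hx43)) ![1,1,2,1] (by decide) (by decide) 0 (by decide))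
      · -- 34=(1,2)
        exact False.elim (cert_false T ((skipEmb 2).trans (Function.Embedding.refl _)) (by norm_num) (fun _ => hall _) (((((LB_zero T ((skipEmb 2).trans (Function.Embedding.refl _))).upd 1 2 1 (le_of_eq hx13)).upd 2 1 2 (le_of_eq hx31)).upd 2 3 1 (le_of_eq hx34)).upd 3 2 2 (le_of_eq hx43)) ![0,1,2,2] (by decide) (by decide) 1 (by decide))
      · -- 34=(2,1)
        exact False.elim (cert_false T ((skipEmb 2).trans (Function.Embedding.refl _)) (by norm_num) (fun _ => hall _) (((((LB_zero T ((skipEmb 2).trans (Function.Embedding.refl _))).upd 1 2 1 (le_of_eq hx13)).upd 2 1 2 (le_of_eq hx31)).upd 2 3 2 (le_of_eq hx34)).upd 3 2 1 (le_of_eq hx43)) ![0,1,2,1] (by decide) (by decide) 1 (by decide))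
      · -- 34=(1,3)
        exact False.elim (cert_false T ((skipEmb 2).trans (Function.Embedding.refl _)) (by norm_num) (fun _ => hall _) (((((LB_zero T ((skipEmb 2).trans (Function.Embedding.refl _))).upd 1 2 1 (le_of_eq hx13)).upd 2 1 2 (le_of_eq hx31)).upd 2 3 1 (le_of_eq hx34)).upd 3 2 3 (le_of_eq hx43)) ![0,1,2,2] (by decide) (by decide) 1 (by decide))
      · -- 34=(3,1)
        exact False.elim (cert_false T ((skipEmb 2).trans (Function.Embedding.refl _)) (by norm_num) (fun _ => hall _) (((((LB_zero T ((skipEmb 2).trans (Function.Embedding.refl _))).upd 1 2 1 (le_of_eq hx13)).upd 2 1 2 (le_of_eq hx31)).upd 2 3 3 (le_of_eq hx34)).upd 3 2 1 (le_of_eq hx43)) ![0,1,2,1] (by decide) (by decide) 1 (by decide))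
  · -- 14=(1,1)
    rcases d24 with ⟨rfl, rfl⟩ | ⟨rfl, rfl⟩ | ⟨rfl, rfl⟩ | ⟨rfl, rfl⟩ | ⟨rfl, rfl⟩ | ⟨rfl, rfl⟩
    · -- 24=(0,0)
      rcases d34 with ⟨rfl, rfl⟩ | ⟨rfl, rfl⟩ | ⟨rfl, rfl⟩ | ⟨rfl, rfl⟩ | ⟨rfl, rfl⟩ | ⟨rfl, rfl⟩
      · -- 34=(0,0)
        exfalso; omega
      · -- 34=(1,1)
        exact False.elim (cert_false T ((skipEmb 2).trans (Function.Embedding.refl _)) (by norm_num) (fun _ => hall _) (((((((LB_zero T ((skipEmb 2).trans (Function.Embedding.refl _))).upd 1 2 1 (le_of_eq hx13)).upd 1 3 1 (le_of_eq hx14)).upd 2 1 2 (le_of_eq hx31)).upd 2 3 1 (le_of_eq hx34)).upd 3 1 1 (le_of_eq hx41)).upd 3 2 1 (le_of_eq hx43)) ![0,1,1,1] (by decide) (by decide) 1 (by decide))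
      · -- 34=(1,2)
        exact False.elim (cert_false T ((skipEmb 2).trans (Function.Embedding.refl _)) (by norm_num) (fun _ => hall _) (((((((LB_zero T ((skipEmb 2).trans (Function.Embedding.refl _))).upd 1 2 1 (le_of_eq hx13)).upd 1 3 1 (le_of_eq hx14)).upd 2 1 2 (le_of_eq hx31)).upd 2 3 1 (le_of_eq hx34)).upd 3 1 1 (le_of_eq hx41)).upd 3 2 2 (le_of_eq hx43)) ![0,1,1,1] (by decide) (by decide) 1 (by decide))
      · -- 34=(2,1)
        exact False.elim (cert_false T ((skipEmb 2).trans (Function.Embedding.refl _)) (by norm_num) (fun _ => hall _) (((((((LB_zero T ((skipEmb 2).trans (Function.Embedding.refl _))).upd 1 2 1 (le_of_eq hx13)).upd 1 3 1 (le_of_eq hx14)).upd 2 1 2 (le_of_eq hx31)).upd 2 3 2 (le_of_eq hx34)).upd 3 1 1 (le_of_eq hx41)).upd 3 2 1 (le_of_eq hx43)) ![0,1,1,1] (by decide) (by decide) 1 (by decide))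
      · -- 34=(1,3)
        exact False.elim (cert_false T ((skipEmb 2).trans (Function.Embedding.refl _)) (by norm_num) (fun _ => hall _) (((((((LB_zero T ((skipEmb 2).trans (Function.Embedding.refl _))).upd 1 2 1 (le_of_eq hx13)).upd 1 3 1 (le_of_eq hx14)).upd 2 1 2 (le_of_eq hx31)).upd 2 3 1 (le_of_eq hx34)).upd 3 1 1 (le_of_eq hx41)).upd 3 2 3 (le_of_eq hx43)) ![0,1,1,1] (by decide) (by decide) 1 (by decide))
      · -- 34=(3,1)
        exact False.elim (cert_false T ((skipEmb 2).trans (Function.Embedding.refl _)) (by norm_num) (fun _ => hall _) (((((((LB_zero T ((skipEmb 2).trans (Function.Embedding.refl _))).upd 1 2 1 (le_of_eq hx13)).upd 1 3 1 (le_of_eq hx14)).upd 2 1 2 (le_of_eq hx31)).upd 2 3 3 (le_of_eq hx34)).upd 3 1 1 (le_of_eq hx41)).upd 3 2 1 (le_of_eq hx43)) ![0,1,1,1] (by decide) (by decide) 1 (by decide))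
    · -- 24=(1,1)
      rcases d34 with ⟨rfl, rfl⟩ | ⟨rfl, rfl⟩ | ⟨rfl, rfl⟩ | ⟨rfl, rfl⟩ | ⟨rfl, rfl⟩ | ⟨rfl, rfl⟩
      · -- 34=(0,0)
        refine ⟨(⟨![2, 4, 1, 3, 0], ![4, 2, 0, 3, 1], by decide, by decide⟩ : Equiv.Perm (Fin 5)), T.m 2, T.w 3, Or.inr (Or.inr (Or.inl ?_))⟩
        show T.m 2 = T.m 2 ∧ T.m 4 = 2 * T.m 2 ∧ T.m 1 = 3 * T.m 2 ∧ T.m 3 = 4 * T.m 2 ∧ T.m 0 = 2 * T.m 2 ∧ T.w 2 = 2 * T.w 3 ∧ T.w 4 = 2 * T.w 3 ∧ T.w 1 = 2 * T.w 3 ∧ T.w 3 = T.w 3 ∧ T.w 0 = T.w 3 ∧ T.a 2 2 = -4 * T.w 3 ∧ T.a 2 4 = 2 * T.w 3 ∧ T.a 2 1 = 0 ∧ T.a 2 3 = 0 ∧ T.a 2 0 = 0 ∧ T.a 4 4 = -4 * T.w 3 ∧ T.a 4 1 = 2 * T.w 3 ∧ T.a 4 3 = 0 ∧ T.a 4 0 = 0 ∧ T.a 1 1 = -4 * T.w 3 ∧ T.a 1 3 = 2 * T.w 3 ∧ T.a 1 0 = 0 ∧ T.a 3 3 = -2 * T.w 3 ∧ T.a 3 0 = T.w 3 ∧ T.a 0 0 = -2 * T.w 3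
        refine ⟨?_, ?_, ?_, ?_, ?_, ?_, ?_, ?_, ?_, ?_, ?_, ?_, ?_, ?_, ?_, ?_, ?_, ?_, ?_, ?_, ?_, ?_, ?_, ?_, ?_⟩ <;> omega
      · -- 34=(1,1)
        exact False.elim (cert_false T ((skipEmb 2).trans (Function.Embedding.refl _)) (by norm_num) (fun _ => hall _) (((((((LB_zero T ((skipEmb 2).trans (Function.Embedding.refl _))).upd 1 2 1 (le_of_eq hx13)).upd 1 3 1 (le_of_eq hx14)).upd 2 1 2 (le_of_eq hx31)).upd 2 3 1 (le_of_eq hx34)).upd 3 1 1 (le_of_eq hx41)).upd 3 2 1 (le_of_eq hx43)) ![0,1,1,1] (by decide) (by decide) 1 (by decide))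
      · -- 34=(1,2)
        exact False.elim (cert_false T ((skipEmb 2).trans (Function.Embedding.refl _)) (by norm_num) (fun _ => hall _) (((((((LB_zero T ((skipEmb 2).trans (Function.Embedding.refl _))).upd 1 2 1 (le_of_eq hx13)).upd 1 3 1 (le_of_eq hx14)).upd 2 1 2 (le_of_eq hx31)).upd 2 3 1 (le_of_eq hx34)).upd 3 1 1 (le_of_eq hx41)).upd 3 2 2 (le_of_eq hx43)) ![0,1,1,1] (by decide) (by decide) 1 (by decide))
      · -- 34=(2,1)
        exact False.elim (cert_false T ((skipEmb 2).trans (Function.Embedding.refl _)) (by norm_num) (fun _ => hall _) (((((((LB_zero T ((skipEmb 2).trans (Function.Embedding.refl _))).upd 1 2 1 (le_of_eq hx13)).upd 1 3 1 (le_of_eq hx14)).upd 2 1 2 (le_of_eq hx31)).upd 2 3 2 (le_of_eq hx34)).upd 3 1 1 (le_of_eq hx41)).upd 3 2 1 (le_of_eq hx43)) ![0,1,1,1] (by decide) (by decide) 1 (by decide))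
      · -- 34=(1,3)
        exact False.elim (cert_false T ((skipEmb 2).trans (Function.Embedding.refl _)) (by norm_num) (fun _ => hall _) (((((((LB_zero T ((skipEmb 2).trans (Function.Embedding.refl _))).upd 1 2 1 (le_of_eq hx13)).upd 1 3 1 (le_of_eq hx14)).upd 2 1 2 (le_of_eq hx31)).upd 2 3 1 (le_of_eq hx34)).upd 3 1 1 (le_of_eq hx41)).upd 3 2 3 (le_of_eq hx43)) ![0,1,1,1] (by decide) (by decide) 1 (by decide))
      · -- 34=(3,1)
        exact False.elim (cert_false T ((skipEmb 2).trans (Function.Embedding.refl _)) (by norm_num) (fun _ => hall _) (((((((LB_zero T ((skipEmb 2).trans (Function.Embedding.refl _))).upd 1 2 1 (le_of_eq hx13)).upd 1 3 1 (le_of_eq hx14)).upd 2 1 2 (le_of_eq hx31)).upd 2 3 3 (le_of_eq hx34)).upd 3 1 1 (le_of_eq hx41)).upd 3 2 1 (le_of_eq hx43)) ![0,1,1,1] (by decide) (by decide) 1 (by decide))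
    · -- 24=(1,2)
      exact False.elim (cert_false T ((skipEmb 0).trans (Function.Embedding.refl _)) (by norm_num) (fun _ => hall _) (((((((LB_zero T ((skipEmb 0).trans (Function.Embedding.refl _))).upd 0 2 1 (le_of_eq hx13)).upd 0 3 1 (le_of_eq hx14)).upd 1 3 1 (le_of_eq hx24)).upd 2 0 2 (le_of_eq hx31)).upd 3 0 1 (le_of_eq hx41)).upd 3 1 2 (le_of_eq hx42)) ![2,1,2,2] (by decide) (by decide) 0 (by decide))
    · -- 24=(2,1)
      exact False.elim (cert_false T ((skipEmb 0).trans (Function.Embedding.refl _)) (by norm_num) (fun _ => hall _) (((((((LB_zero T ((skipEmb 0).trans (Function.Embedding.refl _))).upd 0 2 1 (le_of_eq hx13)).upd 0 3 1 (le_of_eq hx14)).upd 1 3 2 (le_of_eq hx24)).upd 2 0 2 (le_of_eq hx31)).upd 3 0 1 (le_of_eq hx41)).upd 3 1 1 (le_of_eq hx42)) ![1,1,1,1] (by decide) (by decide) 0 (by decide))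
    · -- 24=(1,3)
      exact False.elim (cert_false T ((skipEmb 3).trans (Function.Embedding.refl _)) (by norm_num) (fun _ => hall _) (((((LB_zero T ((skipEmb 3).trans (Function.Embedding.refl _))).upd 1 3 1 (le_of_eq hx14)).upd 2 3 1 (le_of_eq hx24)).upd 3 1 1 (le_of_eq hx41)).upd 3 2 3 (le_of_eq hx42)) ![0,1,1,2] (by decide) (by decide) 1 (by decide))
    · -- 24=(3,1)
      exact False.elim (cert_false T ((skipEmb 3).trans (Function.Embedding.refl _)) (by norm_num) (fun _ => hall _) (((((LB_zero T ((skipEmb 3).trans (Function.Embedding.refl _))).upd 1 3 1 (le_of_eq hx14)).upd 2 3 3 (le_of_eq hx24)).upd 3 1 1 (le_of_eq hx41)).upd 3 2 1 (le_of_eq hx42)) ![0,1,3,2] (by decide) (by decide) 1 (by decide))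
  · -- 14=(1,2)
    exact False.elim (cert_false T ((skipEmb 2).trans (Function.Embedding.refl _)) (by norm_num) (fun _ => hall _) (((((LB_zero T ((skipEmb 2).trans (Function.Embedding.refl _))).upd 1 2 1 (le_of_eq hx13)).upd 1 3 1 (le_of_eq hx14)).upd 2 1 2 (le_of_eq hx31)).upd 3 1 2 (le_of_eq hx41)) ![0,1,1,1] (by decide) (by decide) 1 (by decide))
  · -- 14=(2,1)
    exact False.elim (cert_false T ((skipEmb 2).trans (Function.Embedding.refl _)) (by norm_num) (fun _ => hall _) (((((LB_zero T ((skipEmb 2).trans (Function.Embedding.refl _))).upd 1 2 1 (le_of_eq hx13)).upd 1 3 2 (le_of_eq hx14)).upd 2 1 2 (le_of_eq hx31)).upd 3 1 1 (le_of_eq hx41)) ![0,2,2,1] (by decide) (by decide) 1 (by decide))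
  · -- 14=(1,3)
    exact False.elim (cert_false T ((skipEmb 2).trans (Function.Embedding.refl _)) (by norm_num) (fun _ => hall _) (((((LB_zero T ((skipEmb 2).trans (Function.Embedding.refl _))).upd 1 2 1 (le_of_eq hx13)).upd 1 3 1 (le_of_eq hx14)).upd 2 1 2 (le_of_eq hx31)).upd 3 1 3 (le_of_eq hx41)) ![0,1,1,1] (by decide) (by decide) 1 (by decide))
  · -- 14=(3,1)
    exact False.elim (cert_false T ((skipEmb 2).trans (Function.Embedding.refl _)) (by norm_num) (fun _ => hall _) (((((LB_zero T ((skipEmb 2).trans (Function.Embedding.refl _))).upd 1 2 1 (le_of_eq hx13)).upd 1 3 3 (le_of_eq hx14)).upd 2 1 2 (le_of_eq hx31)).upd 3 1 1 (le_of_eq hx41)) ![0,2,1,1] (by decide) (by decide) 1 (by decide))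

theorem case59 (T : NumericalType 5) (hall : ∀ i, T.IsMinusTwo i) (d : SData T)
    (h01 : N T (Function.Embedding.refl _) 0 1 = 0) (h10 : N T (Function.Embedding.refl _) 1 0 = 0)
    (h02 : N T (Function.Embedding.refl _) 0 2 = 0) (h20 : N T (Function.Embedding.refl _) 2 0 = 0)
    (h12 : N T (Function.Embedding.refl _) 1 2 = 0) (h21 : N T (Function.Embedding.refl _) 2 1 = 0)
    (h03 : N T (Function.Embedding.refl _) 0 3 = 1) (h30 : N T (Function.Embedding.refl _) 3 0 = 1)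
    (h13 : N T (Function.Embedding.refl _) 1 3 = 1) (h31 : N T (Function.Embedding.refl _) 3 1 = 2)
    (h23 : N T (Function.Embedding.refl _) 2 3 = 0) (h32 : N T (Function.Embedding.refl _) 3 2 = 0) :
    Goal T := by
  unfold Goal
  have hd := d
  obtain ⟨x01, x02, x03, x04, x10, x12, x13, x14, x20, x21, x23, x24, x30, x31, x32, x34, x40, x41, x42, x43, hx01, hx02, hx03, hx04, hx10, hx12, hx13, hx14, hx20, hx21, hx23, hx24, hx30, hx31, hx32, hx34, hx40, hx41, hx42, hx43, hw0, hm0, hw1, hm1, hw2, hm2, hw3, hm3, hw4, hm4, a00, a01, a02, a03, a04, a11, a10, a12, a13, a14, a22, a20, a21, a23, a24, a33, a30, a31, a32, a34, a44, a40, a41, a42, a43, wN01, wN02, wN12, wN03, wN13, wN23, wN04, wN14, wN24, wN34, e0, e1, e2, e3, e4, d01, d02, d12, d03, d13, d23, d04, d14, d24, d34⟩ := d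
  obtain rfl : x01 = 0 := hx01.trans h01
  obtain rfl : x10 = 0 := hx10.trans h10
  obtain rfl : x02 = 0 := hx02.trans h02
  obtain rfl : x20 = 0 := hx20.trans h20
  obtain rfl : x12 = 0 := hx12.trans h12
  obtain rfl : x21 = 0 := hx21.trans h21
  obtain rfl : x03 = 1 := hx03.trans h03
  obtain rfl : x30 = 1 := hx30.trans h30
  obtain rfl : x13 = 1 := hx13.trans h13
  obtain rfl : x31 = 2 := hx31.trans h31
  obtain rfl : x23 = 0 := hx23.trans h23
  obtain rfl : x32 = 0 := hx32.trans h32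
  rcases d04 with ⟨rfl, rfl⟩ | ⟨rfl, rfl⟩ | ⟨rfl, rfl⟩ | ⟨rfl, rfl⟩ | ⟨rfl, rfl⟩ | ⟨rfl, rfl⟩
  · -- 04=(0,0)
    exact case60 T hall hd hx01.symm hx10.symm hx02.symm hx20.symm hx12.symm hx21.symm hx03.symm hx30.symm hx13.symm hx31.symm hx23.symm hx32.symm hx04.symm hx40.symm
  · -- 04=(1,1)
    rcases d14 with ⟨rfl, rfl⟩ | ⟨rfl, rfl⟩ | ⟨rfl, rfl⟩ | ⟨rfl, rfl⟩ | ⟨rfl, rfl⟩ | ⟨rfl, rfl⟩
    · -- 14=(0,0)
      rcases d24 with ⟨rfl, rfl⟩ | ⟨rfl, rfl⟩ | ⟨rfl, rfl⟩ | ⟨rfl, rfl⟩ | ⟨rfl, rfl⟩ | ⟨rfl, rfl⟩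
      · -- 24=(0,0)
        rcases d34 with ⟨rfl, rfl⟩ | ⟨rfl, rfl⟩ | ⟨rfl, rfl⟩ | ⟨rfl, rfl⟩ | ⟨rfl, rfl⟩ | ⟨rfl, rfl⟩
        · -- 34=(0,0)
          exfalso; omega
        · -- 34=(1,1)
          exact False.elim (cert_false T ((skipEmb 2).trans (Function.Embedding.refl _)) (by norm_num) (fun _ => hall _) (((((((LB_zero T ((skipEmb 2).trans (Function.Embedding.refl _))).upd 0 2 1 (le_of_eq hx03)).upd 0 3 1 (le_of_eq hx04)).upd 2 0 1 (le_of_eq hx30)).upd 2 3 1 (le_of_eq hx34)).upd 3 0 1 (le_of_eq hx40)).upd 3 2 1 (le_of_eq hx43)) ![1,0,1,1] (by decide) (by decide) 0 (by decide))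
        · -- 34=(1,2)
          exact False.elim (cert_false T ((skipEmb 2).trans (Function.Embedding.refl _)) (by norm_num) (fun _ => hall _) (((((((LB_zero T ((skipEmb 2).trans (Function.Embedding.refl _))).upd 0 2 1 (le_of_eq hx03)).upd 0 3 1 (le_of_eq hx04)).upd 2 0 1 (le_of_eq hx30)).upd 2 3 1 (le_of_eq hx34)).upd 3 0 1 (le_of_eq hx40)).upd 3 2 2 (le_of_eq hx43)) ![1,0,1,1] (by decide) (by decide) 0 (by decide))
        · -- 34=(2,1)
          exact False.elim (cert_false T ((skipEmb 2).trans (Function.Embedding.refl _)) (by norm_num) (fun _ => hall _) (((((((LB_zero T ((skipEmb 2).trans (Function.Embedding.refl _))).upd 0 2 1 (le_of_eq hx03)).upd 0 3 1 (le_of_eq hx04)).upd 2 0 1 (le_of_eq hx30)).upd 2 3 2 (le_of_eq hx34)).upd 3 0 1 (le_of_eq hx40)).upd 3 2 1 (le_of_eq hx43)) ![1,0,1,1] (by decide) (by decide) 0 (by decide))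
        · -- 34=(1,3)
          exact False.elim (cert_false T ((skipEmb 2).trans (Function.Embedding.refl _)) (by norm_num) (fun _ => hall _) (((((((LB_zero T ((skipEmb 2).trans (Function.Embedding.refl _))).upd 0 2 1 (le_of_eq hx03)).upd 0 3 1 (le_of_eq hx04)).upd 2 0 1 (le_of_eq hx30)).upd 2 3 1 (le_of_eq hx34)).upd 3 0 1 (le_of_eq hx40)).upd 3 2 3 (le_of_eq hx43)) ![1,0,1,1] (by decide) (by decide) 0 (by decide))
        · -- 34=(3,1)
          exact False.elim (cert_false T ((skipEmb 2).trans (Function.Embedding.refl _)) (by norm_num) (fun _ => hall _) (((((((LB_zero T ((skipEmb 2).trans (Function.Embedding.refl _))).upd 0 2 1 (le_of_eq hx03)).upd 0 3 1 (le_of_eq hx04)).upd 2 0 1 (le_of_eq hx30)).upd 2 3 3 (le_of_eq hx34)).upd 3 0 1 (le_of_eq hx40)).upd 3 2 1 (le_of_eq hx43)) ![1,0,1,1] (by decide) (by decide) 0 (by decide))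
      · -- 24=(1,1)
        rcases d34 with ⟨rfl, rfl⟩ | ⟨rfl, rfl⟩ | ⟨rfl, rfl⟩ | ⟨rfl, rfl⟩ | ⟨rfl, rfl⟩ | ⟨rfl, rfl⟩
        · -- 34=(0,0)
          exfalso; omega
        · -- 34=(1,1)
          exact False.elim (cert_false T ((skipEmb 2).trans (Function.Embedding.refl _)) (by norm_num) (fun _ => hall _) (((((((LB_zero T ((skipEmb 2).trans (Function.Embedding.refl _))).upd 0 2 1 (le_of_eq hx03)).upd 0 3 1 (le_of_eq hx04)).upd 2 0 1 (le_of_eq hx30)).upd 2 3 1 (le_of_eq hx34)).upd 3 0 1 (le_of_eq hx40)).upd 3 2 1 (le_of_eq hx43)) ![1,0,1,1] (by decide) (by decide) 0 (by decide))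
        · -- 34=(1,2)
          exact False.elim (cert_false T ((skipEmb 2).trans (Function.Embedding.refl _)) (by norm_num) (fun _ => hall _) (((((((LB_zero T ((skipEmb 2).trans (Function.Embedding.refl _))).upd 0 2 1 (le_of_eq hx03)).upd 0 3 1 (le_of_eq hx04)).upd 2 0 1 (le_of_eq hx30)).upd 2 3 1 (le_of_eq hx34)).upd 3 0 1 (le_of_eq hx40)).upd 3 2 2 (le_of_eq hx43)) ![1,0,1,1] (by decide) (by decide) 0 (by decide))
        · -- 34=(2,1)
          exact False.elim (cert_false T ((skipEmb 2).trans (Function.Embedding.refl _)) (by norm_num) (fun _ => hall _) (((((((LB_zero T ((skipEmb 2).trans (Function.Embedding.refl _))).upd 0 2 1 (le_of_eq hx03)).upd 0 3 1 (le_of_eq hx04)).upd 2 0 1 (le_of_eq hx30)).upd 2 3 2 (le_of_eq hx34)).upd 3 0 1 (le_of_eq hx40)).upd 3 2 1 (le_of_eq hx43)) ![1,0,1,1] (by decide) (by decide) 0 (by decide))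
        · -- 34=(1,3)
          exact False.elim (cert_false T ((skipEmb 2).trans (Function.Embedding.refl _)) (by norm_num) (fun _ => hall _) (((((((LB_zero T ((skipEmb 2).trans (Function.Embedding.refl _))).upd 0 2 1 (le_of_eq hx03)).upd 0 3 1 (le_of_eq hx04)).upd 2 0 1 (le_of_eq hx30)).upd 2 3 1 (le_of_eq hx34)).upd 3 0 1 (le_of_eq hx40)).upd 3 2 3 (le_of_eq hx43)) ![1,0,1,1] (by decide) (by decide) 0 (by decide))
        · -- 34=(3,1)
          exact False.elim (cert_false T ((skipEmb 2).trans (Function.Embedding.refl _)) (by norm_num) (fun _ => hall _) (((((((LB_zero T ((skipEmb 2).trans (Function.Embedding.refl _))).upd 0 2 1 (le_of_eq hx03)).upd 0 3 1 (le_of_eq hx04)).upd 2 0 1 (le_of_eq hx30)).upd 2 3 3 (le_of_eq hx34)).upd 3 0 1 (le_of_eq hx40)).upd 3 2 1 (le_of_eq hx43)) ![1,0,1,1] (by decide) (by decide) 0 (by decide))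
      · -- 24=(1,2)
        rcases d34 with ⟨rfl, rfl⟩ | ⟨rfl, rfl⟩ | ⟨rfl, rfl⟩ | ⟨rfl, rfl⟩ | ⟨rfl, rfl⟩ | ⟨rfl, rfl⟩
        · -- 34=(0,0)
          refine ⟨(⟨![1, 3, 0, 4, 2], ![2, 0, 4, 1, 3], by decide, by decide⟩ : Equiv.Perm (Fin 5)), T.m 1, T.w 3, Or.inr (Or.inr (Or.inr (Or.inr (Or.inr (Or.inl ?_)))))⟩
          show T.m 1 = T.m 1 ∧ T.m 3 = 2 * T.m 1 ∧ T.m 0 = 2 * T.m 1 ∧ T.m 4 = 2 * T.m 1 ∧ T.m 2 = T.m 1 ∧ T.w 1 = 2 * T.w 3 ∧ T.w 3 = T.w 3 ∧ T.w 0 = T.w 3 ∧ T.w 4 = T.w 3 ∧ T.w 2 = 2 * T.w 3 ∧ T.a 1 1 = -4 * T.w 3 ∧ T.a 1 3 = 2 * T.w 3 ∧ T.a 1 0 = 0 ∧ T.a 1 4 = 0 ∧ T.a 1 2 = 0 ∧ T.a 3 3 = -2 * T.w 3 ∧ T.a 3 0 = T.w 3 ∧ T.a 3 4 = 0 ∧ T.a 3 2 = 0 ∧ T.a 0 0 = -2 * T.w 3 ∧ T.a 0 4 = T.w 3 ∧ T.a 0 2 = 0 ∧ T.a 4 4 = -2 * T.w 3 ∧ T.a 4 2 = 2 * T.w 3 ∧ T.a 2 2 = -4 * T.w 3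
          refine ⟨?_, ?_, ?_, ?_, ?_, ?_, ?_, ?_, ?_, ?_, ?_, ?_, ?_, ?_, ?_, ?_, ?_, ?_, ?_, ?_, ?_, ?_, ?_, ?_, ?_⟩ <;> omega
        · -- 34=(1,1)
          exact False.elim (cert_false T ((skipEmb 2).trans (Function.Embedding.refl _)) (by norm_num) (fun _ => hall _) (((((((LB_zero T ((skipEmb 2).trans (Function.Embedding.refl _))).upd 0 2 1 (le_of_eq hx03)).upd 0 3 1 (le_of_eq hx04)).upd 2 0 1 (le_of_eq hx30)).upd 2 3 1 (le_of_eq hx34)).upd 3 0 1 (le_of_eq hx40)).upd 3 2 1 (le_of_eq hx43)) ![1,0,1,1] (by decide) (by decide) 0 (by decide))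
        · -- 34=(1,2)
          exact False.elim (cert_false T ((skipEmb 2).trans (Function.Embedding.refl _)) (by norm_num) (fun _ => hall _) (((((((LB_zero T ((skipEmb 2).trans (Function.Embedding.refl _))).upd 0 2 1 (le_of_eq hx03)).upd 0 3 1 (le_of_eq hx04)).upd 2 0 1 (le_of_eq hx30)).upd 2 3 1 (le_of_eq hx34)).upd 3 0 1 (le_of_eq hx40)).upd 3 2 2 (le_of_eq hx43)) ![1,0,1,1] (by decide) (by decide) 0 (by decide))
        · -- 34=(2,1)
          exact False.elim (cert_false T ((skipEmb 2).trans (Function.Embedding.refl _)) (by norm_num) (fun _ => hall _) (((((((LB_zero T ((skipEmb 2).trans (Function.Embedding.refl _))).upd 0 2 1 (le_of_eq hx03)).upd 0 3 1 (le_of_eq hx04)).upd 2 0 1 (le_of_eq hx30)).upd 2 3 2 (le_of_eq hx34)).upd 3 0 1 (le_of_eq hx40)).upd 3 2 1 (le_of_eq hx43)) ![1,0,1,1] (by decide) (by decide) 0 (by decide))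
        · -- 34=(1,3)
          exact False.elim (cert_false T ((skipEmb 2).trans (Function.Embedding.refl _)) (by norm_num) (fun _ => hall _) (((((((LB_zero T ((skipEmb 2).trans (Function.Embedding.refl _))).upd 0 2 1 (le_of_eq hx03)).upd 0 3 1 (le_of_eq hx04)).upd 2 0 1 (le_of_eq hx30)).upd 2 3 1 (le_of_eq hx34)).upd 3 0 1 (le_of_eq hx40)).upd 3 2 3 (le_of_eq hx43)) ![1,0,1,1] (by decide) (by decide) 0 (by decide))
        · -- 34=(3,1)
          exact False.elim (cert_false T ((skipEmb 2).trans (Function.Embedding.refl _)) (by norm_num) (fun _ => hall _) (((((((LB_zero T ((skipEmb 2).trans (Function.Embedding.refl _))).upd 0 2 1 (le_of_eq hx03)).upd 0 3 1 (le_of_eq hx04)).upd 2 0 1 (le_of_eq hx30)).upd 2 3 3 (le_of_eq hx34)).upd 3 0 1 (le_of_eq hx40)).upd 3 2 1 (le_of_eq hx43)) ![1,0,1,1] (by decide) (by decide) 0 (by decide))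
      · -- 24=(2,1)
        rcases d34 with ⟨rfl, rfl⟩ | ⟨rfl, rfl⟩ | ⟨rfl, rfl⟩ | ⟨rfl, rfl⟩ | ⟨rfl, rfl⟩ | ⟨rfl, rfl⟩
        · -- 34=(0,0)
          refine ⟨(⟨![2, 4, 0, 3, 1], ![2, 4, 0, 3, 1], by decide, by decide⟩ : Equiv.Perm (Fin 5)), T.m 1, T.w 2, Or.inr (Or.inr (Or.inr (Or.inl ?_)))⟩
          show T.m 2 = 2 * T.m 1 ∧ T.m 4 = 2 * T.m 1 ∧ T.m 0 = 2 * T.m 1 ∧ T.m 3 = 2 * T.m 1 ∧ T.m 1 = T.m 1 ∧ T.w 2 = T.w 2 ∧ T.w 4 = 2 * T.w 2 ∧ T.w 0 = 2 * T.w 2 ∧ T.w 3 = 2 * T.w 2 ∧ T.w 1 = 4 * T.w 2 ∧ T.a 2 2 = -2 * T.w 2 ∧ T.a 2 4 = 2 * T.w 2 ∧ T.a 2 0 = 0 ∧ T.a 2 3 = 0 ∧ T.a 2 1 = 0 ∧ T.a 4 4 = -4 * T.w 2 ∧ T.a 4 0 = 2 * T.w 2 ∧ T.a 4 3 = 0 ∧ T.a 4 1 = 0 ∧ T.a 0 0 = -4 * T.w 2 ∧ T.a 0 3 = 2 * T.w 2 ∧ T.a 0 1 = 0 ∧ T.a 3 3 = -4 * T.w 2 ∧ T.a 3 1 = 4 * T.w 2 ∧ T.a 1 1 = -8 * T.w 2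
          refine ⟨?_, ?_, ?_, ?_, ?_, ?_, ?_, ?_, ?_, ?_, ?_, ?_, ?_, ?_, ?_, ?_, ?_, ?_, ?_, ?_, ?_, ?_, ?_, ?_, ?_⟩ <;> omega
        · -- 34=(1,1)
          exact False.elim (cert_false T ((skipEmb 2).trans (Function.Embedding.refl _)) (by norm_num) (fun _ => hall _) (((((((LB_zero T ((skipEmb 2).trans (Function.Embedding.refl _))).upd 0 2 1 (le_of_eq hx03)).upd 0 3 1 (le_of_eq hx04)).upd 2 0 1 (le_of_eq hx30)).upd 2 3 1 (le_of_eq hx34)).upd 3 0 1 (le_of_eq hx40)).upd 3 2 1 (le_of_eq hx43)) ![1,0,1,1] (by decide) (by decide) 0 (by decide))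
        · -- 34=(1,2)
          exact False.elim (cert_false T ((skipEmb 2).trans (Function.Embedding.refl _)) (by norm_num) (fun _ => hall _) (((((((LB_zero T ((skipEmb 2).trans (Function.Embedding.refl _))).upd 0 2 1 (le_of_eq hx03)).upd 0 3 1 (le_of_eq hx04)).upd 2 0 1 (le_of_eq hx30)).upd 2 3 1 (le_of_eq hx34)).upd 3 0 1 (le_of_eq hx40)).upd 3 2 2 (le_of_eq hx43)) ![1,0,1,1] (by decide) (by decide) 0 (by decide))
        · -- 34=(2,1)
          exact False.elim (cert_false T ((skipEmb 2).trans (Function.Embedding.refl _)) (by norm_num) (fun _ => hall _) (((((((LB_zero T ((skipEmb 2).trans (Function.Embedding.refl _))).upd 0 2 1 (le_of_eq hx03)).upd 0 3 1 (le_of_eq hx04)).upd 2 0 1 (le_of_eq hx30)).upd 2 3 2 (le_of_eq hx34)).upd 3 0 1 (le_of_eq hx40)).upd 3 2 1 (le_of_eq hx43)) ![1,0,1,1] (by decide) (by decide) 0 (by decide))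
        · -- 34=(1,3)
          exact False.elim (cert_false T ((skipEmb 2).trans (Function.Embedding.refl _)) (by norm_num) (fun _ => hall _) (((((((LB_zero T ((skipEmb 2).trans (Function.Embedding.refl _))).upd 0 2 1 (le_of_eq hx03)).upd 0 3 1 (le_of_eq hx04)).upd 2 0 1 (le_of_eq hx30)).upd 2 3 1 (le_of_eq hx34)).upd 3 0 1 (le_of_eq hx40)).upd 3 2 3 (le_of_eq hx43)) ![1,0,1,1] (by decide) (by decide) 0 (by decide))
        · -- 34=(3,1)
          exact False.elim (cert_false T ((skipEmb 2).trans (Function.Embedding.refl _)) (by norm_num) (fun _ => hall _) (((((((LB_zero T ((skipEmb 2).trans (Function.Embedding.refl _))).upd 0 2 1 (le_of_eq hx03)).upd 0 3 1 (le_of_eq hx04)).upd 2 0 1 (le_of_eq hx30)).upd 2 3 3 (le_of_eq hx34)).upd 3 0 1 (le_of_eq hx40)).upd 3 2 1 (le_of_eq hx43)) ![1,0,1,1] (by decide) (by decide) 0 (by decide))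
      · -- 24=(1,3)
        exact False.elim (cert_false T ((skipEmb 3).trans (Function.Embedding.refl _)) (by norm_num) (fun _ => hall _) (((((LB_zero T ((skipEmb 3).trans (Function.Embedding.refl _))).upd 0 3 1 (le_of_eq hx04)).upd 2 3 1 (le_of_eq hx24)).upd 3 0 1 (le_of_eq hx40)).upd 3 2 3 (le_of_eq hx42)) ![1,0,1,2] (by decide) (by decide) 0 (by decide))
      · -- 24=(3,1)
        exact False.elim (cert_false T ((skipEmb 3).trans (Function.Embedding.refl _)) (by norm_num) (fun _ => hall _) (((((LB_zero T ((skipEmb 3).trans (Function.Embedding.refl _))).upd 0 3 1 (le_of_eq hx04)).upd 2 3 3 (le_of_eq hx24)).upd 3 0 1 (le_of_eq hx40)).upd 3 2 1 (le_of_eq hx42)) ![1,0,3,2] (by decide) (by decide) 0 (by decide))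
    · -- 14=(1,1)
      exact False.elim (cert_false T ((skipEmb 2).trans (Function.Embedding.refl _)) (by norm_num) (fun _ => hall _) (((((((((LB_zero T ((skipEmb 2).trans (Function.Embedding.refl _))).upd 0 2 1 (le_of_eq hx03)).upd 0 3 1 (le_of_eq hx04)).upd 1 2 1 (le_of_eq hx13)).upd 1 3 1 (le_of_eq hx14)).upd 2 0 1 (le_of_eq hx30)).upd 2 1 2 (le_of_eq hx31)).upd 3 0 1 (le_of_eq hx40)).upd 3 1 1 (le_of_eq hx41)) ![1,1,1,1] (by decide) (by decide) 0 (by decide))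
    · -- 14=(1,2)
      exact False.elim (cert_false T ((skipEmb 2).trans (Function.Embedding.refl _)) (by norm_num) (fun _ => hall _) (((((LB_zero T ((skipEmb 2).trans (Function.Embedding.refl _))).upd 1 2 1 (le_of_eq hx13)).upd 1 3 1 (le_of_eq hx14)).upd 2 1 2 (le_of_eq hx31)).upd 3 1 2 (le_of_eq hx41)) ![0,1,1,1] (by decide) (by decide) 1 (by decide))
    · -- 14=(2,1)
      exact False.elim (cert_false T ((skipEmb 2).trans (Function.Embedding.refl _)) (by norm_num) (fun _ => hall _) (((((((((LB_zero T ((skipEmb 2).trans (Function.Embedding.refl _))).upd 0 2 1 (le_of_eq hx03)).upd 0 3 1 (le_of_eq hx04)).upd 1 2 1 (le_of_eq hx13)).upd 1 3 2 (le_of_eq hx14)).upd 2 0 1 (le_of_eq hx30)).upd 2 1 2 (le_of_eq hx31)).upd 3 0 1 (le_of_eq hx40)).upd 3 1 1 (le_of_eq hx41)) ![1,1,1,1] (by decide) (by decide) 0 (by decide))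
    · -- 14=(1,3)
      exact False.elim (cert_false T ((skipEmb 3).trans (Function.Embedding.refl _)) (by norm_num) (fun _ => hall _) (((((LB_zero T ((skipEmb 3).trans (Function.Embedding.refl _))).upd 0 3 1 (le_of_eq hx04)).upd 1 3 1 (le_of_eq hx14)).upd 3 0 1 (le_of_eq hx40)).upd 3 1 3 (le_of_eq hx41)) ![1,1,0,2] (by decide) (by decide) 0 (by decide))
    · -- 14=(3,1)
      exact False.elim (cert_false T ((skipEmb 3).trans (Function.Embedding.refl _)) (by norm_num) (fun _ => hall _) (((((LB_zero T ((skipEmb 3).trans (Function.Embedding.refl _))).upd 0 3 1 (le_of_eq hx04)).upd 1 3 3 (le_of_eq hx14)).upd 3 0 1 (le_of_eq hx40)).upd 3 1 1 (le_of_eq hx41)) ![1,3,0,2] (by decide) (by decide) 0 (by decide))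
  · -- 04=(1,2)
    exact False.elim (cert_false T ((skipEmb 2).trans (Function.Embedding.refl _)) (by norm_num) (fun _ => hall _) (((((((LB_zero T ((skipEmb 2).trans (Function.Embedding.refl _))).upd 0 2 1 (le_of_eq hx03)).upd 0 3 1 (le_of_eq hx04)).upd 1 2 1 (le_of_eq hx13)).upd 2 0 1 (le_of_eq hx30)).upd 2 1 2 (le_of_eq hx31)).upd 3 0 2 (le_of_eq hx40)) ![2,1,2,2] (by decide) (by decide) 0 (by decide))
  · -- 04=(2,1)
    exact False.elim (cert_false T ((skipEmb 2).trans (Function.Embedding.refl _)) (by norm_num) (fun _ => hall _) (((((((LB_zero T ((skipEmb 2).trans (Function.Embedding.refl _))).upd 0 2 1 (le_of_eq hx03)).upd 0 3 2 (le_of_eq hx04)).upd 1 2 1 (le_of_eq hx13)).upd 2 0 1 (le_of_eq hx30)).upd 2 1 2 (le_of_eq hx31)).upd 3 0 1 (le_of_eq hx40)) ![2,1,2,1] (by decide) (by decide) 0 (by decide))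
  · -- 04=(1,3)
    exact False.elim (cert_false T ((skipEmb 2).trans (Function.Embedding.refl _)) (by norm_num) (fun _ => hall _) (((((((LB_zero T ((skipEmb 2).trans (Function.Embedding.refl _))).upd 0 2 1 (le_of_eq hx03)).upd 0 3 1 (le_of_eq hx04)).upd 1 2 1 (le_of_eq hx13)).upd 2 0 1 (le_of_eq hx30)).upd 2 1 2 (le_of_eq hx31)).upd 3 0 3 (le_of_eq hx40)) ![2,1,2,2] (by decide) (by decide) 0 (by decide))
  · -- 04=(3,1)
    exact False.elim (cert_false T ((skipEmb 2).trans (Function.Embedding.refl _)) (by norm_num) (fun _ => hall _) (((((LB_zero T ((skipEmb 2).trans (Function.Embedding.refl _))).upd 0 2 1 (le_of_eq hx03)).upd 0 3 3 (le_of_eq hx04)).upd 2 0 1 (le_of_eq hx30)).upd 3 0 1 (le_of_eq hx40)) ![2,0,1,1] (by decide) (by decide) 0 (by decide))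

theorem case58 (T : NumericalType 5) (hall : ∀ i, T.IsMinusTwo i) (d : SData T)
    (h01 : N T (Function.Embedding.refl _) 0 1 = 0) (h10 : N T (Function.Embedding.refl _) 1 0 = 0)
    (h02 : N T (Function.Embedding.refl _) 0 2 = 0) (h20 : N T (Function.Embedding.refl _) 2 0 = 0)
    (h12 : N T (Function.Embedding.refl _) 1 2 = 0) (h21 : N T (Function.Embedding.refl _) 2 1 = 0)
    (h03 : N T (Function.Embedding.refl _) 0 3 = 1) (h30 : N T (Function.Embedding.refl _) 3 0 = 1)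
    (h13 : N T (Function.Embedding.refl _) 1 3 = 1) (h31 : N T (Function.Embedding.refl _) 3 1 = 2) :
    Goal T := by
  unfold Goal
  have hd := d
  obtain ⟨x01, x02, x03, x04, x10, x12, x13, x14, x20, x21, x23, x24, x30, x31, x32, x34, x40, x41, x42, x43, hx01, hx02, hx03, hx04, hx10, hx12, hx13, hx14, hx20, hx21, hx23, hx24, hx30, hx31, hx32, hx34, hx40, hx41, hx42, hx43, hw0, hm0, hw1, hm1, hw2, hm2, hw3, hm3, hw4, hm4, a00, a01, a02, a03, a04, a11, a10, a12, a13, a14, a22, a20, a21, a23, a24, a33, a30, a31, a32, a34, a44, a40, a41, a42, a43, wN01, wN02, wN12, wN03, wN13, wN23, wN04, wN14, wN24, wN34, e0, e1, e2, e3, e4, d01, d02, d12, d03, d13, d23, d04, d14, d24, d34⟩ := d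
  obtain rfl : x01 = 0 := hx01.trans h01
  obtain rfl : x10 = 0 := hx10.trans h10
  obtain rfl : x02 = 0 := hx02.trans h02
  obtain rfl : x20 = 0 := hx20.trans h20
  obtain rfl : x12 = 0 := hx12.trans h12
  obtain rfl : x21 = 0 := hx21.trans h21
  obtain rfl : x03 = 1 := hx03.trans h03
  obtain rfl : x30 = 1 := hx30.trans h30
  obtain rfl : x13 = 1 := hx13.trans h13
  obtain rfl : x31 = 2 := hx31.trans h31
  rcases d23 with ⟨rfl, rfl⟩ | ⟨rfl, rfl⟩ | ⟨rfl, rfl⟩ | ⟨rfl, rfl⟩ | ⟨rfl, rfl⟩ | ⟨rfl, rfl⟩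
  · -- 23=(0,0)
    exact case59 T hall hd hx01.symm hx10.symm hx02.symm hx20.symm hx12.symm hx21.symm hx03.symm hx30.symm hx13.symm hx31.symm hx23.symm hx32.symm
  · -- 23=(1,1)
    exact False.elim (cert_false T ((skipEmb 4).trans (Function.Embedding.refl _)) (by norm_num) (fun _ => hall _) (((((((LB_zero T ((skipEmb 4).trans (Function.Embedding.refl _))).upd 0 3 1 (le_of_eq hx03)).upd 1 3 1 (le_of_eq hx13)).upd 2 3 1 (le_of_eq hx23)).upd 3 0 1 (le_of_eq hx30)).upd 3 1 2 (le_of_eq hx31)).upd 3 2 1 (le_of_eq hx32)) ![1,1,1,2] (by decide) (by decide) 0 (by decide))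
  · -- 23=(1,2)
    exact False.elim (cert_false T ((skipEmb 4).trans (Function.Embedding.refl _)) (by norm_num) (fun _ => hall _) (((((LB_zero T ((skipEmb 4).trans (Function.Embedding.refl _))).upd 1 3 1 (le_of_eq hx13)).upd 2 3 1 (le_of_eq hx23)).upd 3 1 2 (le_of_eq hx31)).upd 3 2 2 (le_of_eq hx32)) ![0,1,1,2] (by decide) (by decide) 1 (by decide))
  · -- 23=(2,1)
    exact False.elim (cert_false T ((skipEmb 4).trans (Function.Embedding.refl _)) (by norm_num) (fun _ => hall _) (((((LB_zero T ((skipEmb 4).trans (Function.Embedding.refl _))).upd 1 3 1 (le_of_eq hx13)).upd 2 3 2 (le_of_eq hx23)).upd 3 1 2 (le_of_eq hx31)).upd 3 2 1 (le_of_eq hx32)) ![0,1,2,2] (by decide) (by decide) 1 (by decide))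
  · -- 23=(1,3)
    exact False.elim (cert_false T ((skipEmb 4).trans (Function.Embedding.refl _)) (by norm_num) (fun _ => hall _) (((((LB_zero T ((skipEmb 4).trans (Function.Embedding.refl _))).upd 1 3 1 (le_of_eq hx13)).upd 2 3 1 (le_of_eq hx23)).upd 3 1 2 (le_of_eq hx31)).upd 3 2 3 (le_of_eq hx32)) ![0,1,1,2] (by decide) (by decide) 1 (by decide))
  · -- 23=(3,1)
    exact False.elim (cert_false T ((skipEmb 4).trans (Function.Embedding.refl _)) (by norm_num) (fun _ => hall _) (((((LB_zero T ((skipEmb 4).trans (Function.Embedding.refl _))).upd 1 3 1 (le_of_eq hx13)).upd 2 3 3 (le_of_eq hx23)).upd 3 1 2 (le_of_eq hx31)).upd 3 2 1 (le_of_eq hx32)) ![0,1,2,2] (by decide) (by decide) 1 (by decide))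

theorem case94 (T : NumericalType 5) (hall : ∀ i, T.IsMinusTwo i) (d : SData T)
    (h01 : N T (Function.Embedding.refl _) 0 1 = 0) (h10 : N T (Function.Embedding.refl _) 1 0 = 0)
    (h02 : N T (Function.Embedding.refl _) 0 2 = 0) (h20 : N T (Function.Embedding.refl _) 2 0 = 0)
    (h12 : N T (Function.Embedding.refl _) 1 2 = 1) (h21 : N T (Function.Embedding.refl _) 2 1 = 1)
    (h03 : N T (Function.Embedding.refl _) 0 3 = 0) (h30 : N T (Function.Embedding.refl _) 3 0 = 0)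
    (h13 : N T (Function.Embedding.refl _) 1 3 = 0) (h31 : N T (Function.Embedding.refl _) 3 1 = 0)
    (h23 : N T (Function.Embedding.refl _) 2 3 = 0) (h32 : N T (Function.Embedding.refl _) 3 2 = 0)
    (h04 : N T (Function.Embedding.refl _) 0 4 = 0) (h40 : N T (Function.Embedding.refl _) 4 0 = 0) :
    Goal T := by
  unfold Goal
  have hd := d
  obtain ⟨x01, x02, x03, x04, x10, x12, x13, x14, x20, x21, x23, x24, x30, x31, x32, x34, x40, x41, x42, x43, hx01, hx02, hx03, hx04, hx10, hx12, hx13, hx14, hx20, hx21, hx23, hx24, hx30, hx31, hx32, hx34, hx40, hx41, hx42, hx43, hw0, hm0, hw1, hm1, hw2, hm2, hw3, hm3, hw4, hm4, a00, a01, a02, a03, a04, a11, a10, a12, a13, a14, a22, a20, a21, a23, a24, a33, a30, a31, a32, a34, a44, a40, a41, a42, a43, wN01, wN02, wN12, wN03, wN13, wN23, wN04, wN14, wN24, wN34, e0, e1, e2, e3, e4, d01, d02, d12, d03, d13, d23, d04, d14, d24, d34⟩ := d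
  obtain rfl : x01 = 0 := hx01.trans h01
  obtain rfl : x10 = 0 := hx10.trans h10
  obtain rfl : x02 = 0 := hx02.trans h02
  obtain rfl : x20 = 0 := hx20.trans h20
  obtain rfl : x12 = 1 := hx12.trans h12
  obtain rfl : x21 = 1 := hx21.trans h21
  obtain rfl : x03 = 0 := hx03.trans h03
  obtain rfl : x30 = 0 := hx30.trans h30
  obtain rfl : x13 = 0 := hx13.trans h13
  obtain rfl : x31 = 0 := hx31.trans h31
  obtain rfl : x23 = 0 := hx23.trans h23
  obtain rfl : x32 = 0 := hx32.trans h32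
  obtain rfl : x04 = 0 := hx04.trans h04
  obtain rfl : x40 = 0 := hx40.trans h40
  rcases d14 with ⟨rfl, rfl⟩ | ⟨rfl, rfl⟩ | ⟨rfl, rfl⟩ | ⟨rfl, rfl⟩ | ⟨rfl, rfl⟩ | ⟨rfl, rfl⟩
  · -- 14=(0,0)
    rcases d24 with ⟨rfl, rfl⟩ | ⟨rfl, rfl⟩ | ⟨rfl, rfl⟩ | ⟨rfl, rfl⟩ | ⟨rfl, rfl⟩ | ⟨rfl, rfl⟩
    · -- 24=(0,0)
      rcases d34 with ⟨rfl, rfl⟩ | ⟨rfl, rfl⟩ | ⟨rfl, rfl⟩ | ⟨rfl, rfl⟩ | ⟨rfl, rfl⟩ | ⟨rfl, rfl⟩
      · -- 34=(0,0)
        exfalso; omega
      · -- 34=(1,1)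
        exfalso; omega
      · -- 34=(1,2)
        exfalso; omega
      · -- 34=(2,1)
        exfalso; omega
      · -- 34=(1,3)
        exfalso; omega
      · -- 34=(3,1)
        exfalso; omega
    · -- 24=(1,1)
      rcases d34 with ⟨rfl, rfl⟩ | ⟨rfl, rfl⟩ | ⟨rfl, rfl⟩ | ⟨rfl, rfl⟩ | ⟨rfl, rfl⟩ | ⟨rfl, rfl⟩
      · -- 34=(0,0)
        exfalso; omega
      · -- 34=(1,1)
        exfalso; omega
      · -- 34=(1,2)
        exfalso; omega
      · -- 34=(2,1)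
        exfalso; omega
      · -- 34=(1,3)
        exact False.elim (cert_false T ((skipEmb 1).trans (Function.Embedding.refl _)) (by norm_num) (fun _ => hall _) (((((LB_zero T ((skipEmb 1).trans (Function.Embedding.refl _))).upd 1 3 1 (le_of_eq hx24)).upd 2 3 1 (le_of_eq hx34)).upd 3 1 1 (le_of_eq hx42)).upd 3 2 3 (le_of_eq hx43)) ![0,1,1,2] (by decide) (by decide) 1 (by decide))
      · -- 34=(3,1)
        exact False.elim (cert_false T ((skipEmb 1).trans (Function.Embedding.refl _)) (by norm_num) (fun _ => hall _) (((((LB_zero T ((skipEmb 1).trans (Function.Embedding.refl _))).upd 1 3 1 (le_of_eq hx24)).upd 2 3 3 (le_of_eq hx34)).upd 3 1 1 (le_of_eq hx42)).upd 3 2 1 (le_of_eq hx43)) ![0,1,3,2] (by decide) (by decide) 1 (by decide))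
    · -- 24=(1,2)
      rcases d34 with ⟨rfl, rfl⟩ | ⟨rfl, rfl⟩ | ⟨rfl, rfl⟩ | ⟨rfl, rfl⟩ | ⟨rfl, rfl⟩ | ⟨rfl, rfl⟩
      · -- 34=(0,0)
        exfalso; omega
      · -- 34=(1,1)
        exfalso; omega
      · -- 34=(1,2)
        exact False.elim (cert_false T ((skipEmb 1).trans (Function.Embedding.refl _)) (by norm_num) (fun _ => hall _) (((((LB_zero T ((skipEmb 1).trans (Function.Embedding.refl _))).upd 1 3 1 (le_of_eq hx24)).upd 2 3 1 (le_of_eq hx34)).upd 3 1 2 (le_of_eq hx42)).upd 3 2 2 (le_of_eq hx43)) ![0,1,1,2] (by decide) (by decide) 1 (by decide))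
      · -- 34=(2,1)
        exact False.elim (cert_false T ((skipEmb 1).trans (Function.Embedding.refl _)) (by norm_num) (fun _ => hall _) (((((LB_zero T ((skipEmb 1).trans (Function.Embedding.refl _))).upd 1 3 1 (le_of_eq hx24)).upd 2 3 2 (le_of_eq hx34)).upd 3 1 2 (le_of_eq hx42)).upd 3 2 1 (le_of_eq hx43)) ![0,1,2,2] (by decide) (by decide) 1 (by decide))
      · -- 34=(1,3)
        exact False.elim (cert_false T ((skipEmb 1).trans (Function.Embedding.refl _)) (by norm_num) (fun _ => hall _) (((((LB_zero T ((skipEmb 1).trans (Function.Embedding.refl _))).upd 1 3 1 (le_of_eq hx24)).upd 2 3 1 (le_of_eq hx34)).upd 3 1 2 (le_of_eq hx42)).upd 3 2 3 (le_of_eq hx43)) ![0,1,1,2] (by decide) (by decide) 1 (by decide))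
      · -- 34=(3,1)
        exact False.elim (cert_false T ((skipEmb 1).trans (Function.Embedding.refl _)) (by norm_num) (fun _ => hall _) (((((LB_zero T ((skipEmb 1).trans (Function.Embedding.refl _))).upd 1 3 1 (le_of_eq hx24)).upd 2 3 3 (le_of_eq hx34)).upd 3 1 2 (le_of_eq hx42)).upd 3 2 1 (le_of_eq hx43)) ![0,1,2,2] (by decide) (by decide) 1 (by decide))
    · -- 24=(2,1)
      rcases d34 with ⟨rfl, rfl⟩ | ⟨rfl, rfl⟩ | ⟨rfl, rfl⟩ | ⟨rfl, rfl⟩ | ⟨rfl, rfl⟩ | ⟨rfl, rfl⟩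
      · -- 34=(0,0)
        exfalso; omega
      · -- 34=(1,1)
        exfalso; omega
      · -- 34=(1,2)
        exact False.elim (cert_false T ((skipEmb 1).trans (Function.Embedding.refl _)) (by norm_num) (fun _ => hall _) (((((LB_zero T ((skipEmb 1).trans (Function.Embedding.refl _))).upd 1 3 2 (le_of_eq hx24)).upd 2 3 1 (le_of_eq hx34)).upd 3 1 1 (le_of_eq hx42)).upd 3 2 2 (le_of_eq hx43)) ![0,2,1,2] (by decide) (by decide) 1 (by decide))
      · -- 34=(2,1)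
        exact False.elim (cert_false T ((skipEmb 1).trans (Function.Embedding.refl _)) (by norm_num) (fun _ => hall _) (((((LB_zero T ((skipEmb 1).trans (Function.Embedding.refl _))).upd 1 3 2 (le_of_eq hx24)).upd 2 3 2 (le_of_eq hx34)).upd 3 1 1 (le_of_eq hx42)).upd 3 2 1 (le_of_eq hx43)) ![0,1,1,1] (by decide) (by decide) 1 (by decide))
      · -- 34=(1,3)
        exact False.elim (cert_false T ((skipEmb 1).trans (Function.Embedding.refl _)) (by norm_num) (fun _ => hall _) (((((LB_zero T ((skipEmb 1).trans (Function.Embedding.refl _))).upd 1 3 2 (le_of_eq hx24)).upd 2 3 1 (le_of_eq hx34)).upd 3 1 1 (le_of_eq hx42)).upd 3 2 3 (le_of_eq hx43)) ![0,1,1,2] (by decide) (by decide) 1 (by decide))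
      · -- 34=(3,1)
        exact False.elim (cert_false T ((skipEmb 1).trans (Function.Embedding.refl _)) (by norm_num) (fun _ => hall _) (((((LB_zero T ((skipEmb 1).trans (Function.Embedding.refl _))).upd 1 3 2 (le_of_eq hx24)).upd 2 3 3 (le_of_eq hx34)).upd 3 1 1 (le_of_eq hx42)).upd 3 2 1 (le_of_eq hx43)) ![0,1,1,1] (by decide) (by decide) 1 (by decide))
    · -- 24=(1,3)
      exact False.elim (cert_false T ((skipEmb 3).trans (Function.Embedding.refl _)) (by norm_num) (fun _ => hall _) (((((LB_zero T ((skipEmb 3).trans (Function.Embedding.refl _))).upd 1 2 1 (le_of_eq hx12)).upd 2 1 1 (le_of_eq hx21)).upd 2 3 1 (le_of_eq hx24)).upd 3 2 3 (le_of_eq hx42)) ![0,1,2,3] (by decide) (by decide) 1 (by decide))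
    · -- 24=(3,1)
      exact False.elim (cert_false T ((skipEmb 3).trans (Function.Embedding.refl _)) (by norm_num) (fun _ => hall _) (((((LB_zero T ((skipEmb 3).trans (Function.Embedding.refl _))).upd 1 2 1 (le_of_eq hx12)).upd 2 1 1 (le_of_eq hx21)).upd 2 3 3 (le_of_eq hx24)).upd 3 2 1 (le_of_eq hx42)) ![0,1,2,1] (by decide) (by decide) 1 (by decide))
  · -- 14=(1,1)
    rcases d24 with ⟨rfl, rfl⟩ | ⟨rfl, rfl⟩ | ⟨rfl, rfl⟩ | ⟨rfl, rfl⟩ | ⟨rfl, rfl⟩ | ⟨rfl, rfl⟩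
    · -- 24=(0,0)
      rcases d34 with ⟨rfl, rfl⟩ | ⟨rfl, rfl⟩ | ⟨rfl, rfl⟩ | ⟨rfl, rfl⟩ | ⟨rfl, rfl⟩ | ⟨rfl, rfl⟩
      · -- 34=(0,0)
        exfalso; omega
      · -- 34=(1,1)
        exfalso; omega
      · -- 34=(1,2)
        exfalso; omega
      · -- 34=(2,1)
        exfalso; omega
      · -- 34=(1,3)
        exact False.elim (cert_false T ((skipEmb 2).trans (Function.Embedding.refl _)) (by norm_num) (fun _ => hall _) (((((LB_zero T ((skipEmb 2).trans (Function.Embedding.refl _))).upd 1 3 1 (le_of_eq hx14)).upd 2 3 1 (le_of_eq hx34)).upd 3 1 1 (le_of_eq hx41)).upd 3 2 3 (le_of_eq hx43)) ![0,1,1,2] (by decide) (by decide) 1 (by decide))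
      · -- 34=(3,1)
        exact False.elim (cert_false T ((skipEmb 2).trans (Function.Embedding.refl _)) (by norm_num) (fun _ => hall _) (((((LB_zero T ((skipEmb 2).trans (Function.Embedding.refl _))).upd 1 3 1 (le_of_eq hx14)).upd 2 3 3 (le_of_eq hx34)).upd 3 1 1 (le_of_eq hx41)).upd 3 2 1 (le_of_eq hx43)) ![0,1,3,2] (by decide) (by decide) 1 (by decide))
    · -- 24=(1,1)
      exact False.elim (cert_false T ((skipEmb 3).trans (Function.Embedding.refl _)) (by norm_num) (fun _ => hall _) (((((((LB_zero T ((skipEmb 3).trans (Function.Embedding.refl _))).upd 1 2 1 (le_of_eq hx12)).upd 1 3 1 (le_of_eq hx14)).upd 2 1 1 (le_of_eq hx21)).upd 2 3 1 (le_of_eq hx24)).upd 3 1 1 (le_of_eq hx41)).upd 3 2 1 (le_of_eq hx42)) ![0,1,1,1] (by decide) (by decide) 1 (by decide))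
    · -- 24=(1,2)
      exact False.elim (cert_false T ((skipEmb 3).trans (Function.Embedding.refl _)) (by norm_num) (fun _ => hall _) (((((((LB_zero T ((skipEmb 3).trans (Function.Embedding.refl _))).upd 1 2 1 (le_of_eq hx12)).upd 1 3 1 (le_of_eq hx14)).upd 2 1 1 (le_of_eq hx21)).upd 2 3 1 (le_of_eq hx24)).upd 3 1 1 (le_of_eq hx41)).upd 3 2 2 (le_of_eq hx42)) ![0,1,1,1] (by decide) (by decide) 1 (by decide))
    · -- 24=(2,1)
      exact False.elim (cert_false T ((skipEmb 3).trans (Function.Embedding.refl _)) (by norm_num) (fun _ => hall _) (((((((LB_zero T ((skipEmb 3).trans (Function.Embedding.refl _))).upd 1 2 1 (le_of_eq hx12)).upd 1 3 1 (le_of_eq hx14)).upd 2 1 1 (le_of_eq hx21)).upd 2 3 2 (le_of_eq hx24)).upd 3 1 1 (le_of_eq hx41)).upd 3 2 1 (le_of_eq hx42)) ![0,1,1,1] (by decide) (by decide) 1 (by decide))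
    · -- 24=(1,3)
      exact False.elim (cert_false T ((skipEmb 3).trans (Function.Embedding.refl _)) (by norm_num) (fun _ => hall _) (((((((LB_zero T ((skipEmb 3).trans (Function.Embedding.refl _))).upd 1 2 1 (le_of_eq hx12)).upd 1 3 1 (le_of_eq hx14)).upd 2 1 1 (le_of_eq hx21)).upd 2 3 1 (le_of_eq hx24)).upd 3 1 1 (le_of_eq hx41)).upd 3 2 3 (le_of_eq hx42)) ![0,1,1,1] (by decide) (by decide) 1 (by decide))
    · -- 24=(3,1)
      exact False.elim (cert_false T ((skipEmb 3).trans (Function.Embedding.refl _)) (by norm_num) (fun _ => hall _) (((((((LB_zero T ((skipEmb 3).trans (Function.Embedding.refl _))).upd 1 2 1 (le_of_eq hx12)).upd 1 3 1 (le_of_eq hx14)).upd 2 1 1 (le_of_eq hx21)).upd 2 3 3 (le_of_eq hx24)).upd 3 1 1 (le_of_eq hx41)).upd 3 2 1 (le_of_eq hx42)) ![0,1,1,1] (by decide) (by decide) 1 (by decide))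
  · -- 14=(1,2)
    rcases d24 with ⟨rfl, rfl⟩ | ⟨rfl, rfl⟩ | ⟨rfl, rfl⟩ | ⟨rfl, rfl⟩ | ⟨rfl, rfl⟩ | ⟨rfl, rfl⟩
    · -- 24=(0,0)
      rcases d34 with ⟨rfl, rfl⟩ | ⟨rfl, rfl⟩ | ⟨rfl, rfl⟩ | ⟨rfl, rfl⟩ | ⟨rfl, rfl⟩ | ⟨rfl, rfl⟩
      · -- 34=(0,0)
        exfalso; omega
      · -- 34=(1,1)
        exfalso; omega
      · -- 34=(1,2)
        exact False.elim (cert_false T ((skipEmb 2).trans (Function.Embedding.refl _)) (by norm_num) (fun _ => hall _) (((((LB_zero T ((skipEmb 2).trans (Function.Embedding.refl _))).upd 1 3 1 (le_of_eq hx14)).upd 2 3 1 (le_of_eq hx34)).upd 3 1 2 (le_of_eq hx41)).upd 3 2 2 (le_of_eq hx43)) ![0,1,1,2] (by decide) (by decide) 1 (by decide))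
      · -- 34=(2,1)
        exact False.elim (cert_false T ((skipEmb 2).trans (Function.Embedding.refl _)) (by norm_num) (fun _ => hall _) (((((LB_zero T ((skipEmb 2).trans (Function.Embedding.refl _))).upd 1 3 1 (le_of_eq hx14)).upd 2 3 2 (le_of_eq hx34)).upd 3 1 2 (le_of_eq hx41)).upd 3 2 1 (le_of_eq hx43)) ![0,1,2,2] (by decide) (by decide) 1 (by decide))
      · -- 34=(1,3)
        exact False.elim (cert_false T ((skipEmb 2).trans (Function.Embedding.refl _)) (by norm_num) (fun _ => hall _) (((((LB_zero T ((skipEmb 2).trans (Function.Embedding.refl _))).upd 1 3 1 (le_of_eq hx14)).upd 2 3 1 (le_of_eq hx34)).upd 3 1 2 (le_of_eq hx41)).upd 3 2 3 (le_of_eq hx43)) ![0,1,1,2] (by decide) (by decide) 1 (by decide))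
      · -- 34=(3,1)
        exact False.elim (cert_false T ((skipEmb 2).trans (Function.Embedding.refl _)) (by norm_num) (fun _ => hall _) (((((LB_zero T ((skipEmb 2).trans (Function.Embedding.refl _))).upd 1 3 1 (le_of_eq hx14)).upd 2 3 3 (le_of_eq hx34)).upd 3 1 2 (le_of_eq hx41)).upd 3 2 1 (le_of_eq hx43)) ![0,1,2,2] (by decide) (by decide) 1 (by decide))
    · -- 24=(1,1)
      exact False.elim (cert_false T ((skipEmb 3).trans (Function.Embedding.refl _)) (by norm_num) (fun _ => hall _) (((((((LB_zero T ((skipEmb 3).trans (Function.Embedding.refl _))).upd 1 2 1 (le_of_eq hx12)).upd 1 3 1 (le_of_eq hx14)).upd 2 1 1 (le_of_eq hx21)).upd 2 3 1 (le_of_eq hx24)).upd 3 1 2 (le_of_eq hx41)).upd 3 2 1 (le_of_eq hx42)) ![0,1,1,1] (by decide) (by decide) 1 (by decide))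
    · -- 24=(1,2)
      exact False.elim (cert_false T ((skipEmb 3).trans (Function.Embedding.refl _)) (by norm_num) (fun _ => hall _) (((((((LB_zero T ((skipEmb 3).trans (Function.Embedding.refl _))).upd 1 2 1 (le_of_eq hx12)).upd 1 3 1 (le_of_eq hx14)).upd 2 1 1 (le_of_eq hx21)).upd 2 3 1 (le_of_eq hx24)).upd 3 1 2 (le_of_eq hx41)).upd 3 2 2 (le_of_eq hx42)) ![0,1,1,1] (by decide) (by decide) 1 (by decide))
    · -- 24=(2,1)
      exact False.elim (cert_false T ((skipEmb 3).trans (Function.Embedding.refl _)) (by norm_num) (fun _ => hall _) (((((((LB_zero T ((skipEmb 3).trans (Function.Embedding.refl _))).upd 1 2 1 (le_of_eq hx12)).upd 1 3 1 (le_of_eq hx14)).upd 2 1 1 (le_of_eq hx21)).upd 2 3 2 (le_of_eq hx24)).upd 3 1 2 (le_of_eq hx41)).upd 3 2 1 (le_of_eq hx42)) ![0,1,1,1] (by decide) (by decide) 1 (by decide))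
    · -- 24=(1,3)
      exact False.elim (cert_false T ((skipEmb 3).trans (Function.Embedding.refl _)) (by norm_num) (fun _ => hall _) (((((((LB_zero T ((skipEmb 3).trans (Function.Embedding.refl _))).upd 1 2 1 (le_of_eq hx12)).upd 1 3 1 (le_of_eq hx14)).upd 2 1 1 (le_of_eq hx21)).upd 2 3 1 (le_of_eq hx24)).upd 3 1 2 (le_of_eq hx41)).upd 3 2 3 (le_of_eq hx42)) ![0,1,1,1] (by decide) (by decide) 1 (by decide))
    · -- 24=(3,1)
      exact False.elim (cert_false T ((skipEmb 3).trans (Function.Embedding.refl _)) (by norm_num) (fun _ => hall _) (((((((LB_zero T ((skipEmb 3).trans (Function.Embedding.refl _))).upd 1 2 1 (le_of_eq hx12)).upd 1 3 1 (le_of_eq hx14)).upd 2 1 1 (le_of_eq hx21)).upd 2 3 3 (le_of_eq hx24)).upd 3 1 2 (le_of_eq hx41)).upd 3 2 1 (le_of_eq hx42)) ![0,1,1,1] (by decide) (by decide) 1 (by decide))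
  · -- 14=(2,1)
    rcases d24 with ⟨rfl, rfl⟩ | ⟨rfl, rfl⟩ | ⟨rfl, rfl⟩ | ⟨rfl, rfl⟩ | ⟨rfl, rfl⟩ | ⟨rfl, rfl⟩
    · -- 24=(0,0)
      rcases d34 with ⟨rfl, rfl⟩ | ⟨rfl, rfl⟩ | ⟨rfl, rfl⟩ | ⟨rfl, rfl⟩ | ⟨rfl, rfl⟩ | ⟨rfl, rfl⟩
      · -- 34=(0,0)
        exfalso; omega
      · -- 34=(1,1)
        exfalso; omega
      · -- 34=(1,2)
        exact False.elim (cert_false T ((skipEmb 2).trans (Function.Embedding.refl _)) (by norm_num) (fun _ => hall _) (((((LB_zero T ((skipEmb 2).trans (Function.Embedding.refl _))).upd 1 3 2 (le_of_eq hx14)).upd 2 3 1 (le_of_eq hx34)).upd 3 1 1 (le_of_eq hx41)).upd 3 2 2 (le_of_eq hx43)) ![0,2,1,2] (by decide) (by decide) 1 (by decide))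
      · -- 34=(2,1)
        exact False.elim (cert_false T ((skipEmb 2).trans (Function.Embedding.refl _)) (by norm_num) (fun _ => hall _) (((((LB_zero T ((skipEmb 2).trans (Function.Embedding.refl _))).upd 1 3 2 (le_of_eq hx14)).upd 2 3 2 (le_of_eq hx34)).upd 3 1 1 (le_of_eq hx41)).upd 3 2 1 (le_of_eq hx43)) ![0,1,1,1] (by decide) (by decide) 1 (by decide))
      · -- 34=(1,3)
        exact False.elim (cert_false T ((skipEmb 2).trans (Function.Embedding.refl _)) (by norm_num) (fun _ => hall _) (((((LB_zero T ((skipEmb 2).trans (Function.Embedding.refl _))).upd 1 3 2 (le_of_eq hx14)).upd 2 3 1 (le_of_eq hx34)).upd 3 1 1 (le_of_eq hx41)).upd 3 2 3 (le_of_eq hx43)) ![0,1,1,2] (by decide) (by decide) 1 (by decide))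
      · -- 34=(3,1)
        exact False.elim (cert_false T ((skipEmb 2).trans (Function.Embedding.refl _)) (by norm_num) (fun _ => hall _) (((((LB_zero T ((skipEmb 2).trans (Function.Embedding.refl _))).upd 1 3 2 (le_of_eq hx14)).upd 2 3 3 (le_of_eq hx34)).upd 3 1 1 (le_of_eq hx41)).upd 3 2 1 (le_of_eq hx43)) ![0,1,1,1] (by decide) (by decide) 1 (by decide))
    · -- 24=(1,1)
      exact False.elim (cert_false T ((skipEmb 3).trans (Function.Embedding.refl _)) (by norm_num) (fun _ => hall _) (((((((LB_zero T ((skipEmb 3).trans (Function.Embedding.refl _))).upd 1 2 1 (le_of_eq hx12)).upd 1 3 2 (le_of_eq hx14)).upd 2 1 1 (le_of_eq hx21)).upd 2 3 1 (le_of_eq hx24)).upd 3 1 1 (le_of_eq hx41)).upd 3 2 1 (le_of_eq hx42)) ![0,1,1,1] (by decide) (by decide) 1 (by decide))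
    · -- 24=(1,2)
      exact False.elim (cert_false T ((skipEmb 3).trans (Function.Embedding.refl _)) (by norm_num) (fun _ => hall _) (((((((LB_zero T ((skipEmb 3).trans (Function.Embedding.refl _))).upd 1 2 1 (le_of_eq hx12)).upd 1 3 2 (le_of_eq hx14)).upd 2 1 1 (le_of_eq hx21)).upd 2 3 1 (le_of_eq hx24)).upd 3 1 1 (le_of_eq hx41)).upd 3 2 2 (le_of_eq hx42)) ![0,1,1,1] (by decide) (by decide) 1 (by decide))
    · -- 24=(2,1)
      exact False.elim (cert_false T ((skipEmb 3).trans (Function.Embedding.refl _)) (by norm_num) (fun _ => hall _) (((((((LB_zero T ((skipEmb 3).trans (Function.Embedding.refl _))).upd 1 2 1 (le_of_eq hx12)).upd 1 3 2 (le_of_eq hx14)).upd 2 1 1 (le_of_eq hx21)).upd 2 3 2 (le_of_eq hx24)).upd 3 1 1 (le_of_eq hx41)).upd 3 2 1 (le_of_eq hx42)) ![0,1,1,1] (by decide) (by decide) 1 (by decide))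
    · -- 24=(1,3)
      exact False.elim (cert_false T ((skipEmb 3).trans (Function.Embedding.refl _)) (by norm_num) (fun _ => hall _) (((((((LB_zero T ((skipEmb 3).trans (Function.Embedding.refl _))).upd 1 2 1 (le_of_eq hx12)).upd 1 3 2 (le_of_eq hx14)).upd 2 1 1 (le_of_eq hx21)).upd 2 3 1 (le_of_eq hx24)).upd 3 1 1 (le_of_eq hx41)).upd 3 2 3 (le_of_eq hx42)) ![0,1,1,1] (by decide) (by decide) 1 (by decide))
    · -- 24=(3,1)
      exact False.elim (cert_false T ((skipEmb 3).trans (Function.Embedding.refl _)) (by norm_num) (fun _ => hall _) (((((((LB_zero T ((skipEmb 3).trans (Function.Embedding.refl _))).upd 1 2 1 (le_of_eq hx12)).upd 1 3 2 (le_of_eq hx14)).upd 2 1 1 (le_of_eq hx21)).upd 2 3 3 (le_of_eq hx24)).upd 3 1 1 (le_of_eq hx41)).upd 3 2 1 (le_of_eq hx42)) ![0,1,1,1] (by decide) (by decide) 1 (by decide))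
  · -- 14=(1,3)
    exact False.elim (cert_false T ((skipEmb 3).trans (Function.Embedding.refl _)) (by norm_num) (fun _ => hall _) (((((LB_zero T ((skipEmb 3).trans (Function.Embedding.refl _))).upd 1 2 1 (le_of_eq hx12)).upd 1 3 1 (le_of_eq hx14)).upd 2 1 1 (le_of_eq hx21)).upd 3 1 3 (le_of_eq hx41)) ![0,2,1,3] (by decide) (by decide) 1 (by decide))
  · -- 14=(3,1)
    exact False.elim (cert_false T ((skipEmb 3).trans (Function.Embedding.refl _)) (by norm_num) (fun _ => hall _) (((((LB_zero T ((skipEmb 3).trans (Function.Embedding.refl _))).upd 1 2 1 (le_of_eq hx12)).upd 1 3 3 (le_of_eq hx14)).upd 2 1 1 (le_of_eq hx21)).upd 3 1 1 (le_of_eq hx41)) ![0,2,1,1] (by decide) (by decide) 1 (by decide))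

theorem case95 (T : NumericalType 5) (hall : ∀ i, T.IsMinusTwo i) (d : SData T)
    (h01 : N T (Function.Embedding.refl _) 0 1 = 0) (h10 : N T (Function.Embedding.refl _) 1 0 = 0)
    (h02 : N T (Function.Embedding.refl _) 0 2 = 0) (h20 : N T (Function.Embedding.refl _) 2 0 = 0)
    (h12 : N T (Function.Embedding.refl _) 1 2 = 1) (h21 : N T (Function.Embedding.refl _) 2 1 = 1)
    (h03 : N T (Function.Embedding.refl _) 0 3 = 0) (h30 : N T (Function.Embedding.refl _) 3 0 = 0)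
    (h13 : N T (Function.Embedding.refl _) 1 3 = 0) (h31 : N T (Function.Embedding.refl _) 3 1 = 0)
    (h23 : N T (Function.Embedding.refl _) 2 3 = 0) (h32 : N T (Function.Embedding.refl _) 3 2 = 0)
    (h04 : N T (Function.Embedding.refl _) 0 4 = 1) (h40 : N T (Function.Embedding.refl _) 4 0 = 1) :
    Goal T := by
  unfold Goal
  have hd := d
  obtain ⟨x01, x02, x03, x04, x10, x12, x13, x14, x20, x21, x23, x24, x30, x31, x32, x34, x40, x41, x42, x43, hx01, hx02, hx03, hx04, hx10, hx12, hx13, hx14, hx20, hx21, hx23, hx24, hx30, hx31, hx32, hx34, hx40, hx41, hx42, hx43, hw0, hm0, hw1, hm1, hw2, hm2, hw3, hm3, hw4, hm4, a00, a01, a02, a03, a04, a11, a10, a12, a13, a14, a22, a20, a21, a23, a24, a33, a30, a31, a32, a34, a44, a40, a41, a42, a43, wN01, wN02, wN12, wN03, wN13, wN23, wN04, wN14, wN24, wN34, e0, e1, e2, e3, e4, d01, d02, d12, d03, d13, d23, d04, d14, d24, d34⟩ := d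
  obtain rfl : x01 = 0 := hx01.trans h01
  obtain rfl : x10 = 0 := hx10.trans h10
  obtain rfl : x02 = 0 := hx02.trans h02
  obtain rfl : x20 = 0 := hx20.trans h20
  obtain rfl : x12 = 1 := hx12.trans h12
  obtain rfl : x21 = 1 := hx21.trans h21
  obtain rfl : x03 = 0 := hx03.trans h03
  obtain rfl : x30 = 0 := hx30.trans h30
  obtain rfl : x13 = 0 := hx13.trans h13
  obtain rfl : x31 = 0 := hx31.trans h31
  obtain rfl : x23 = 0 := hx23.trans h23
  obtain rfl : x32 = 0 := hx32.trans h32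
  obtain rfl : x04 = 1 := hx04.trans h04
  obtain rfl : x40 = 1 := hx40.trans h40
  rcases d14 with ⟨rfl, rfl⟩ | ⟨rfl, rfl⟩ | ⟨rfl, rfl⟩ | ⟨rfl, rfl⟩ | ⟨rfl, rfl⟩ | ⟨rfl, rfl⟩
  · -- 14=(0,0)
    rcases d24 with ⟨rfl, rfl⟩ | ⟨rfl, rfl⟩ | ⟨rfl, rfl⟩ | ⟨rfl, rfl⟩ | ⟨rfl, rfl⟩ | ⟨rfl, rfl⟩
    · -- 24=(0,0)
      rcases d34 with ⟨rfl, rfl⟩ | ⟨rfl, rfl⟩ | ⟨rfl, rfl⟩ | ⟨rfl, rfl⟩ | ⟨rfl, rfl⟩ | ⟨rfl, rfl⟩
      · -- 34=(0,0)
        exfalso; omega
      · -- 34=(1,1)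
        exfalso; omega
      · -- 34=(1,2)
        exfalso; omega
      · -- 34=(2,1)
        exfalso; omega
      · -- 34=(1,3)
        exact False.elim (cert_false T ((skipEmb 2).trans (Function.Embedding.refl _)) (by norm_num) (fun _ => hall _) (((((LB_zero T ((skipEmb 2).trans (Function.Embedding.refl _))).upd 0 3 1 (le_of_eq hx04)).upd 2 3 1 (le_of_eq hx34)).upd 3 0 1 (le_of_eq hx40)).upd 3 2 3 (le_of_eq hx43)) ![1,0,1,2] (by decide) (by decide) 0 (by decide))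
      · -- 34=(3,1)
        exact False.elim (cert_false T ((skipEmb 2).trans (Function.Embedding.refl _)) (by norm_num) (fun _ => hall _) (((((LB_zero T ((skipEmb 2).trans (Function.Embedding.refl _))).upd 0 3 1 (le_of_eq hx04)).upd 2 3 3 (le_of_eq hx34)).upd 3 0 1 (le_of_eq hx40)).upd 3 2 1 (le_of_eq hx43)) ![1,0,3,2] (by decide) (by decide) 0 (by decide))
    · -- 24=(1,1)
      rcases d34 with ⟨rfl, rfl⟩ | ⟨rfl, rfl⟩ | ⟨rfl, rfl⟩ | ⟨rfl, rfl⟩ | ⟨rfl, rfl⟩ | ⟨rfl, rfl⟩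
      · -- 34=(0,0)
        exfalso; omega
      · -- 34=(1,1)
        exfalso; omega
      · -- 34=(1,2)
        exact False.elim (cert_false T ((skipEmb 1).trans (Function.Embedding.refl _)) (by norm_num) (fun _ => hall _) (((((((LB_zero T ((skipEmb 1).trans (Function.Embedding.refl _))).upd 0 3 1 (le_of_eq hx04)).upd 1 3 1 (le_of_eq hx24)).upd 2 3 1 (le_of_eq hx34)).upd 3 0 1 (le_of_eq hx40)).upd 3 1 1 (le_of_eq hx42)).upd 3 2 2 (le_of_eq hx43)) ![1,1,1,2] (by decide) (by decide) 0 (by decide))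
      · -- 34=(2,1)
        exact False.elim (cert_false T ((skipEmb 1).trans (Function.Embedding.refl _)) (by norm_num) (fun _ => hall _) (((((((LB_zero T ((skipEmb 1).trans (Function.Embedding.refl _))).upd 0 3 1 (le_of_eq hx04)).upd 1 3 1 (le_of_eq hx24)).upd 2 3 2 (le_of_eq hx34)).upd 3 0 1 (le_of_eq hx40)).upd 3 1 1 (le_of_eq hx42)).upd 3 2 1 (le_of_eq hx43)) ![1,1,2,2] (by decide) (by decide) 0 (by decide))
      · -- 34=(1,3)
        exact False.elim (cert_false T ((skipEmb 2).trans (Function.Embedding.refl _)) (by norm_num) (fun _ => hall _) (((((LB_zero T ((skipEmb 2).trans (Function.Embedding.refl _))).upd 0 3 1 (le_of_eq hx04)).upd 2 3 1 (le_of_eq hx34)).upd 3 0 1 (le_of_eq hx40)).upd 3 2 3 (le_of_eq hx43)) ![1,0,1,2] (by decide) (by decide) 0 (by decide))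
      · -- 34=(3,1)
        exact False.elim (cert_false T ((skipEmb 2).trans (Function.Embedding.refl _)) (by norm_num) (fun _ => hall _) (((((LB_zero T ((skipEmb 2).trans (Function.Embedding.refl _))).upd 0 3 1 (le_of_eq hx04)).upd 2 3 3 (le_of_eq hx34)).upd 3 0 1 (le_of_eq hx40)).upd 3 2 1 (le_of_eq hx43)) ![1,0,3,2] (by decide) (by decide) 0 (by decide))
    · -- 24=(1,2)
      rcases d34 with ⟨rfl, rfl⟩ | ⟨rfl, rfl⟩ | ⟨rfl, rfl⟩ | ⟨rfl, rfl⟩ | ⟨rfl, rfl⟩ | ⟨rfl, rfl⟩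
      · -- 34=(0,0)
        exfalso; omega
      · -- 34=(1,1)
        exact False.elim (cert_false T ((skipEmb 1).trans (Function.Embedding.refl _)) (by norm_num) (fun _ => hall _) (((((((LB_zero T ((skipEmb 1).trans (Function.Embedding.refl _))).upd 0 3 1 (le_of_eq hx04)).upd 1 3 1 (le_of_eq hx24)).upd 2 3 1 (le_of_eq hx34)).upd 3 0 1 (le_of_eq hx40)).upd 3 1 2 (le_of_eq hx42)).upd 3 2 1 (le_of_eq hx43)) ![1,1,1,2] (by decide) (by decide) 0 (by decide))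
      · -- 34=(1,2)
        exact False.elim (cert_false T ((skipEmb 1).trans (Function.Embedding.refl _)) (by norm_num) (fun _ => hall _) (((((LB_zero T ((skipEmb 1).trans (Function.Embedding.refl _))).upd 1 3 1 (le_of_eq hx24)).upd 2 3 1 (le_of_eq hx34)).upd 3 1 2 (le_of_eq hx42)).upd 3 2 2 (le_of_eq hx43)) ![0,1,1,2] (by decide) (by decide) 1 (by decide))
      · -- 34=(2,1)
        exact False.elim (cert_false T ((skipEmb 1).trans (Function.Embedding.refl _)) (by norm_num) (fun _ => hall _) (((((LB_zero T ((skipEmb 1).trans (Function.Embedding.refl _))).upd 1 3 1 (le_of_eq hx24)).upd 2 3 2 (le_of_eq hx34)).upd 3 1 2 (le_of_eq hx42)).upd 3 2 1 (le_of_eq hx43)) ![0,1,2,2] (by decide) (by decide) 1 (by decide))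
      · -- 34=(1,3)
        exact False.elim (cert_false T ((skipEmb 2).trans (Function.Embedding.refl _)) (by norm_num) (fun _ => hall _) (((((LB_zero T ((skipEmb 2).trans (Function.Embedding.refl _))).upd 0 3 1 (le_of_eq hx04)).upd 2 3 1 (le_of_eq hx34)).upd 3 0 1 (le_of_eq hx40)).upd 3 2 3 (le_of_eq hx43)) ![1,0,1,2] (by decide) (by decide) 0 (by decide))
      · -- 34=(3,1)
        exact False.elim (cert_false T ((skipEmb 2).trans (Function.Embedding.refl _)) (by norm_num) (fun _ => hall _) (((((LB_zero T ((skipEmb 2).trans (Function.Embedding.refl _))).upd 0 3 1 (le_of_eq hx04)).upd 2 3 3 (le_of_eq hx34)).upd 3 0 1 (le_of_eq hx40)).upd 3 2 1 (le_of_eq hx43)) ![1,0,3,2] (by decide) (by decide) 0 (by decide))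
    · -- 24=(2,1)
      rcases d34 with ⟨rfl, rfl⟩ | ⟨rfl, rfl⟩ | ⟨rfl, rfl⟩ | ⟨rfl, rfl⟩ | ⟨rfl, rfl⟩ | ⟨rfl, rfl⟩
      · -- 34=(0,0)
        exfalso; omega
      · -- 34=(1,1)
        exact False.elim (cert_false T ((skipEmb 1).trans (Function.Embedding.refl _)) (by norm_num) (fun _ => hall _) (((((((LB_zero T ((skipEmb 1).trans (Function.Embedding.refl _))).upd 0 3 1 (le_of_eq hx04)).upd 1 3 2 (le_of_eq hx24)).upd 2 3 1 (le_of_eq hx34)).upd 3 0 1 (le_of_eq hx40)).upd 3 1 1 (le_of_eq hx42)).upd 3 2 1 (le_of_eq hx43)) ![1,2,1,2] (by decide) (by decide) 0 (by decide))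
      · -- 34=(1,2)
        exact False.elim (cert_false T ((skipEmb 1).trans (Function.Embedding.refl _)) (by norm_num) (fun _ => hall _) (((((LB_zero T ((skipEmb 1).trans (Function.Embedding.refl _))).upd 1 3 2 (le_of_eq hx24)).upd 2 3 1 (le_of_eq hx34)).upd 3 1 1 (le_of_eq hx42)).upd 3 2 2 (le_of_eq hx43)) ![0,2,1,2] (by decide) (by decide) 1 (by decide))
      · -- 34=(2,1)
        exact False.elim (cert_false T ((skipEmb 1).trans (Function.Embedding.refl _)) (by norm_num) (fun _ => hall _) (((((LB_zero T ((skipEmb 1).trans (Function.Embedding.refl _))).upd 1 3 2 (le_of_eq hx24)).upd 2 3 2 (le_of_eq hx34)).upd 3 1 1 (le_of_eq hx42)).upd 3 2 1 (le_of_eq hx43)) ![0,1,1,1] (by decide) (by decide) 1 (by decide))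
      · -- 34=(1,3)
        exact False.elim (cert_false T ((skipEmb 2).trans (Function.Embedding.refl _)) (by norm_num) (fun _ => hall _) (((((LB_zero T ((skipEmb 2).trans (Function.Embedding.refl _))).upd 0 3 1 (le_of_eq hx04)).upd 2 3 1 (le_of_eq hx34)).upd 3 0 1 (le_of_eq hx40)).upd 3 2 3 (le_of_eq hx43)) ![1,0,1,2] (by decide) (by decide) 0 (by decide))
      · -- 34=(3,1)
        exact False.elim (cert_false T ((skipEmb 2).trans (Function.Embedding.refl _)) (by norm_num) (fun _ => hall _) (((((LB_zero T ((skipEmb 2).trans (Function.Embedding.refl _))).upd 0 3 1 (le_of_eq hx04)).upd 2 3 3 (le_of_eq hx34)).upd 3 0 1 (le_of_eq hx40)).upd 3 2 1 (le_of_eq hx43)) ![1,0,3,2] (by decide) (by decide) 0 (by decide))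
    · -- 24=(1,3)
      exact False.elim (cert_false T ((skipEmb 3).trans (Function.Embedding.refl _)) (by norm_num) (fun _ => hall _) (((((LB_zero T ((skipEmb 3).trans (Function.Embedding.refl _))).upd 0 3 1 (le_of_eq hx04)).upd 2 3 1 (le_of_eq hx24)).upd 3 0 1 (le_of_eq hx40)).upd 3 2 3 (le_of_eq hx42)) ![1,0,1,2] (by decide) (by decide) 0 (by decide))
    · -- 24=(3,1)
      exact False.elim (cert_false T ((skipEmb 3).trans (Function.Embedding.refl _)) (by norm_num) (fun _ => hall _) (((((LB_zero T ((skipEmb 3).trans (Function.Embedding.refl _))).upd 1 2 1 (le_of_eq hx12)).upd 2 1 1 (le_of_eq hx21)).upd 2 3 3 (le_of_eq hx24)).upd 3 2 1 (le_of_eq hx42)) ![0,1,2,1] (by decide) (by decide) 1 (by decide))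
  · -- 14=(1,1)
    rcases d24 with ⟨rfl, rfl⟩ | ⟨rfl, rfl⟩ | ⟨rfl, rfl⟩ | ⟨rfl, rfl⟩ | ⟨rfl, rfl⟩ | ⟨rfl, rfl⟩
    · -- 24=(0,0)
      rcases d34 with ⟨rfl, rfl⟩ | ⟨rfl, rfl⟩ | ⟨rfl, rfl⟩ | ⟨rfl, rfl⟩ | ⟨rfl, rfl⟩ | ⟨rfl, rfl⟩
      · -- 34=(0,0)
        exfalso; omega
      · -- 34=(1,1)
        exfalso; omega
      · -- 34=(1,2)
        exact False.elim (cert_false T ((skipEmb 2).trans (Function.Embedding.refl _)) (by norm_num) (fun _ => hall _) (((((((LB_zero T ((skipEmb 2).trans (Function.Embedding.refl _))).upd 0 3 1 (le_of_eq hx04)).upd 1 3 1 (le_of_eq hx14)).upd 2 3 1 (le_of_eq hx34)).upd 3 0 1 (le_of_eq hx40)).upd 3 1 1 (le_of_eq hx41)).upd 3 2 2 (le_of_eq hx43)) ![1,1,1,2] (by decide) (by decide) 0 (by decide))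
      · -- 34=(2,1)
        exact False.elim (cert_false T ((skipEmb 2).trans (Function.Embedding.refl _)) (by norm_num) (fun _ => hall _) (((((((LB_zero T ((skipEmb 2).trans (Function.Embedding.refl _))).upd 0 3 1 (le_of_eq hx04)).upd 1 3 1 (le_of_eq hx14)).upd 2 3 2 (le_of_eq hx34)).upd 3 0 1 (le_of_eq hx40)).upd 3 1 1 (le_of_eq hx41)).upd 3 2 1 (le_of_eq hx43)) ![1,1,2,2] (by decide) (by decide) 0 (by decide))
      · -- 34=(1,3)
        exact False.elim (cert_false T ((skipEmb 2).trans (Function.Embedding.refl _)) (by norm_num) (fun _ => hall _) (((((LB_zero T ((skipEmb 2).trans (Function.Embedding.refl _))).upd 1 3 1 (le_of_eq hx14)).upd 2 3 1 (le_of_eq hx34)).upd 3 1 1 (le_of_eq hx41)).upd 3 2 3 (le_of_eq hx43)) ![0,1,1,2] (by decide) (by decide) 1 (by decide))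
      · -- 34=(3,1)
        exact False.elim (cert_false T ((skipEmb 2).trans (Function.Embedding.refl _)) (by norm_num) (fun _ => hall _) (((((((LB_zero T ((skipEmb 2).trans (Function.Embedding.refl _))).upd 0 3 1 (le_of_eq hx04)).upd 1 3 1 (le_of_eq hx14)).upd 2 3 3 (le_of_eq hx34)).upd 3 0 1 (le_of_eq hx40)).upd 3 1 1 (le_of_eq hx41)).upd 3 2 1 (le_of_eq hx43)) ![1,1,2,2] (by decide) (by decide) 0 (by decide))
    · -- 24=(1,1)
      exact False.elim (cert_false T ((skipEmb 3).trans (Function.Embedding.refl _)) (by norm_num) (fun _ => hall _) (((((((LB_zero T ((skipEmb 3).trans (Function.Embedding.refl _))).upd 1 2 1 (le_of_eq hx12)).upd 1 3 1 (le_of_eq hx14)).upd 2 1 1 (le_of_eq hx21)).upd 2 3 1 (le_of_eq hx24)).upd 3 1 1 (le_of_eq hx41)).upd 3 2 1 (le_of_eq hx42)) ![0,1,1,1] (by decide) (by decide) 1 (by decide))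
    · -- 24=(1,2)
      exact False.elim (cert_false T ((skipEmb 3).trans (Function.Embedding.refl _)) (by norm_num) (fun _ => hall _) (((((((LB_zero T ((skipEmb 3).trans (Function.Embedding.refl _))).upd 1 2 1 (le_of_eq hx12)).upd 1 3 1 (le_of_eq hx14)).upd 2 1 1 (le_of_eq hx21)).upd 2 3 1 (le_of_eq hx24)).upd 3 1 1 (le_of_eq hx41)).upd 3 2 2 (le_of_eq hx42)) ![0,1,1,1] (by decide) (by decide) 1 (by decide))
    · -- 24=(2,1)
      exact False.elim (cert_false T ((skipEmb 3).trans (Function.Embedding.refl _)) (by norm_num) (fun _ => hall _) (((((((LB_zero T ((skipEmb 3).trans (Function.Embedding.refl _))).upd 1 2 1 (le_of_eq hx12)).upd 1 3 1 (le_of_eq hx14)).upd 2 1 1 (le_of_eq hx21)).upd 2 3 2 (le_of_eq hx24)).upd 3 1 1 (le_of_eq hx41)).upd 3 2 1 (le_of_eq hx42)) ![0,1,1,1] (by decide) (by decide) 1 (by decide))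
    · -- 24=(1,3)
      exact False.elim (cert_false T ((skipEmb 3).trans (Function.Embedding.refl _)) (by norm_num) (fun _ => hall _) (((((((LB_zero T ((skipEmb 3).trans (Function.Embedding.refl _))).upd 1 2 1 (le_of_eq hx12)).upd 1 3 1 (le_of_eq hx14)).upd 2 1 1 (le_of_eq hx21)).upd 2 3 1 (le_of_eq hx24)).upd 3 1 1 (le_of_eq hx41)).upd 3 2 3 (le_of_eq hx42)) ![0,1,1,1] (by decide) (by decide) 1 (by decide))
    · -- 24=(3,1)
      exact False.elim (cert_false T ((skipEmb 3).trans (Function.Embedding.refl _)) (by norm_num) (fun _ => hall _) (((((((LB_zero T ((skipEmb 3).trans (Function.Embedding.refl _))).upd 1 2 1 (le_of_eq hx12)).upd 1 3 1 (le_of_eq hx14)).upd 2 1 1 (le_of_eq hx21)).upd 2 3 3 (le_of_eq hx24)).upd 3 1 1 (le_of_eq hx41)).upd 3 2 1 (le_of_eq hx42)) ![0,1,1,1] (by decide) (by decide) 1 (by decide))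
  · -- 14=(1,2)
    rcases d24 with ⟨rfl, rfl⟩ | ⟨rfl, rfl⟩ | ⟨rfl, rfl⟩ | ⟨rfl, rfl⟩ | ⟨rfl, rfl⟩ | ⟨rfl, rfl⟩
    · -- 24=(0,0)
      rcases d34 with ⟨rfl, rfl⟩ | ⟨rfl, rfl⟩ | ⟨rfl, rfl⟩ | ⟨rfl, rfl⟩ | ⟨rfl, rfl⟩ | ⟨rfl, rfl⟩
      · -- 34=(0,0)
        exfalso; omega
      · -- 34=(1,1)
        exact False.elim (cert_false T ((skipEmb 2).trans (Function.Embedding.refl _)) (by norm_num) (fun _ => hall _) (((((((LB_zero T ((skipEmb 2).trans (Function.Embedding.refl _))).upd 0 3 1 (le_of_eq hx04)).upd 1 3 1 (le_of_eq hx14)).upd 2 3 1 (le_of_eq hx34)).upd 3 0 1 (le_of_eq hx40)).upd 3 1 2 (le_of_eq hx41)).upd 3 2 1 (le_of_eq hx43)) ![1,1,1,2] (by decide) (by decide) 0 (by decide))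
      · -- 34=(1,2)
        exact False.elim (cert_false T ((skipEmb 2).trans (Function.Embedding.refl _)) (by norm_num) (fun _ => hall _) (((((LB_zero T ((skipEmb 2).trans (Function.Embedding.refl _))).upd 1 3 1 (le_of_eq hx14)).upd 2 3 1 (le_of_eq hx34)).upd 3 1 2 (le_of_eq hx41)).upd 3 2 2 (le_of_eq hx43)) ![0,1,1,2] (by decide) (by decide) 1 (by decide))
      · -- 34=(2,1)
        exact False.elim (cert_false T ((skipEmb 2).trans (Function.Embedding.refl _)) (by norm_num) (fun _ => hall _) (((((LB_zero T ((skipEmb 2).trans (Function.Embedding.refl _))).upd 1 3 1 (le_of_eq hx14)).upd 2 3 2 (le_of_eq hx34)).upd 3 1 2 (le_of_eq hx41)).upd 3 2 1 (le_of_eq hx43)) ![0,1,2,2] (by decide) (by decide) 1 (by decide))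
      · -- 34=(1,3)
        exact False.elim (cert_false T ((skipEmb 2).trans (Function.Embedding.refl _)) (by norm_num) (fun _ => hall _) (((((LB_zero T ((skipEmb 2).trans (Function.Embedding.refl _))).upd 1 3 1 (le_of_eq hx14)).upd 2 3 1 (le_of_eq hx34)).upd 3 1 2 (le_of_eq hx41)).upd 3 2 3 (le_of_eq hx43)) ![0,1,1,2] (by decide) (by decide) 1 (by decide))
      · -- 34=(3,1)
        exact False.elim (cert_false T ((skipEmb 2).trans (Function.Embedding.refl _)) (by norm_num) (fun _ => hall _) (((((LB_zero T ((skipEmb 2).trans (Function.Embedding.refl _))).upd 1 3 1 (le_of_eq hx14)).upd 2 3 3 (le_of_eq hx34)).upd 3 1 2 (le_of_eq hx41)).upd 3 2 1 (le_of_eq hx43)) ![0,1,2,2] (by decide) (by decide) 1 (by decide))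
    · -- 24=(1,1)
      exact False.elim (cert_false T ((skipEmb 3).trans (Function.Embedding.refl _)) (by norm_num) (fun _ => hall _) (((((((LB_zero T ((skipEmb 3).trans (Function.Embedding.refl _))).upd 1 2 1 (le_of_eq hx12)).upd 1 3 1 (le_of_eq hx14)).upd 2 1 1 (le_of_eq hx21)).upd 2 3 1 (le_of_eq hx24)).upd 3 1 2 (le_of_eq hx41)).upd 3 2 1 (le_of_eq hx42)) ![0,1,1,1] (by decide) (by decide) 1 (by decide))
    · -- 24=(1,2)
      exact False.elim (cert_false T ((skipEmb 3).trans (Function.Embedding.refl _)) (by norm_num) (fun _ => hall _) (((((((LB_zero T ((skipEmb 3).trans (Function.Embedding.refl _))).upd 1 2 1 (le_of_eq hx12)).upd 1 3 1 (le_of_eq hx14)).upd 2 1 1 (le_of_eq hx21)).upd 2 3 1 (le_of_eq hx24)).upd 3 1 2 (le_of_eq hx41)).upd 3 2 2 (le_of_eq hx42)) ![0,1,1,1] (by decide) (by decide) 1 (by decide))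
    · -- 24=(2,1)
      exact False.elim (cert_false T ((skipEmb 3).trans (Function.Embedding.refl _)) (by norm_num) (fun _ => hall _) (((((((LB_zero T ((skipEmb 3).trans (Function.Embedding.refl _))).upd 1 2 1 (le_of_eq hx12)).upd 1 3 1 (le_of_eq hx14)).upd 2 1 1 (le_of_eq hx21)).upd 2 3 2 (le_of_eq hx24)).upd 3 1 2 (le_of_eq hx41)).upd 3 2 1 (le_of_eq hx42)) ![0,1,1,1] (by decide) (by decide) 1 (by decide))
    · -- 24=(1,3)
      exact False.elim (cert_false T ((skipEmb 3).trans (Function.Embedding.refl _)) (by norm_num) (fun _ => hall _) (((((((LB_zero T ((skipEmb 3).trans (Function.Embedding.refl _))).upd 1 2 1 (le_of_eq hx12)).upd 1 3 1 (le_of_eq hx14)).upd 2 1 1 (le_of_eq hx21)).upd 2 3 1 (le_of_eq hx24)).upd 3 1 2 (le_of_eq hx41)).upd 3 2 3 (le_of_eq hx42)) ![0,1,1,1] (by decide) (by decide) 1 (by decide))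
    · -- 24=(3,1)
      exact False.elim (cert_false T ((skipEmb 3).trans (Function.Embedding.refl _)) (by norm_num) (fun _ => hall _) (((((((LB_zero T ((skipEmb 3).trans (Function.Embedding.refl _))).upd 1 2 1 (le_of_eq hx12)).upd 1 3 1 (le_of_eq hx14)).upd 2 1 1 (le_of_eq hx21)).upd 2 3 3 (le_of_eq hx24)).upd 3 1 2 (le_of_eq hx41)).upd 3 2 1 (le_of_eq hx42)) ![0,1,1,1] (by decide) (by decide) 1 (by decide))
  · -- 14=(2,1)
    rcases d24 with ⟨rfl, rfl⟩ | ⟨rfl, rfl⟩ | ⟨rfl, rfl⟩ | ⟨rfl, rfl⟩ | ⟨rfl, rfl⟩ | ⟨rfl, rfl⟩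
    · -- 24=(0,0)
      rcases d34 with ⟨rfl, rfl⟩ | ⟨rfl, rfl⟩ | ⟨rfl, rfl⟩ | ⟨rfl, rfl⟩ | ⟨rfl, rfl⟩ | ⟨rfl, rfl⟩
      · -- 34=(0,0)
        exfalso; omega
      · -- 34=(1,1)
        exact False.elim (cert_false T ((skipEmb 2).trans (Function.Embedding.refl _)) (by norm_num) (fun _ => hall _) (((((((LB_zero T ((skipEmb 2).trans (Function.Embedding.refl _))).upd 0 3 1 (le_of_eq hx04)).upd 1 3 2 (le_of_eq hx14)).upd 2 3 1 (le_of_eq hx34)).upd 3 0 1 (le_of_eq hx40)).upd 3 1 1 (le_of_eq hx41)).upd 3 2 1 (le_of_eq hx43)) ![1,2,1,2] (by decide) (by decide) 0 (by decide))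
      · -- 34=(1,2)
        exact False.elim (cert_false T ((skipEmb 2).trans (Function.Embedding.refl _)) (by norm_num) (fun _ => hall _) (((((LB_zero T ((skipEmb 2).trans (Function.Embedding.refl _))).upd 1 3 2 (le_of_eq hx14)).upd 2 3 1 (le_of_eq hx34)).upd 3 1 1 (le_of_eq hx41)).upd 3 2 2 (le_of_eq hx43)) ![0,2,1,2] (by decide) (by decide) 1 (by decide))
      · -- 34=(2,1)
        exact False.elim (cert_false T ((skipEmb 2).trans (Function.Embedding.refl _)) (by norm_num) (fun _ => hall _) (((((LB_zero T ((skipEmb 2).trans (Function.Embedding.refl _))).upd 1 3 2 (le_of_eq hx14)).upd 2 3 2 (le_of_eq hx34)).upd 3 1 1 (le_of_eq hx41)).upd 3 2 1 (le_of_eq hx43)) ![0,1,1,1] (by decide) (by decide) 1 (by decide))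
      · -- 34=(1,3)
        exact False.elim (cert_false T ((skipEmb 2).trans (Function.Embedding.refl _)) (by norm_num) (fun _ => hall _) (((((LB_zero T ((skipEmb 2).trans (Function.Embedding.refl _))).upd 1 3 2 (le_of_eq hx14)).upd 2 3 1 (le_of_eq hx34)).upd 3 1 1 (le_of_eq hx41)).upd 3 2 3 (le_of_eq hx43)) ![0,1,1,2] (by decide) (by decide) 1 (by decide))
      · -- 34=(3,1)
        exact False.elim (cert_false T ((skipEmb 2).trans (Function.Embedding.refl _)) (by norm_num) (fun _ => hall _) (((((LB_zero T ((skipEmb 2).trans (Function.Embedding.refl _))).upd 1 3 2 (le_of_eq hx14)).upd 2 3 3 (le_of_eq hx34)).upd 3 1 1 (le_of_eq hx41)).upd 3 2 1 (le_of_eq hx43)) ![0,1,1,1] (by decide) (by decide) 1 (by decide))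
    · -- 24=(1,1)
      exact False.elim (cert_false T ((skipEmb 3).trans (Function.Embedding.refl _)) (by norm_num) (fun _ => hall _) (((((((LB_zero T ((skipEmb 3).trans (Function.Embedding.refl _))).upd 1 2 1 (le_of_eq hx12)).upd 1 3 2 (le_of_eq hx14)).upd 2 1 1 (le_of_eq hx21)).upd 2 3 1 (le_of_eq hx24)).upd 3 1 1 (le_of_eq hx41)).upd 3 2 1 (le_of_eq hx42)) ![0,1,1,1] (by decide) (by decide) 1 (by decide))
    · -- 24=(1,2)
      exact False.elim (cert_false T ((skipEmb 3).trans (Function.Embedding.refl _)) (by norm_num) (fun _ => hall _) (((((((LB_zero T ((skipEmb 3).trans (Function.Embedding.refl _))).upd 1 2 1 (le_of_eq hx12)).upd 1 3 2 (le_of_eq hx14)).upd 2 1 1 (le_of_eq hx21)).upd 2 3 1 (le_of_eq hx24)).upd 3 1 1 (le_of_eq hx41)).upd 3 2 2 (le_of_eq hx42)) ![0,1,1,1] (by decide) (by decide) 1 (by decide))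
    · -- 24=(2,1)
      exact False.elim (cert_false T ((skipEmb 3).trans (Function.Embedding.refl _)) (by norm_num) (fun _ => hall _) (((((((LB_zero T ((skipEmb 3).trans (Function.Embedding.refl _))).upd 1 2 1 (le_of_eq hx12)).upd 1 3 2 (le_of_eq hx14)).upd 2 1 1 (le_of_eq hx21)).upd 2 3 2 (le_of_eq hx24)).upd 3 1 1 (le_of_eq hx41)).upd 3 2 1 (le_of_eq hx42)) ![0,1,1,1] (by decide) (by decide) 1 (by decide))
    · -- 24=(1,3)
      exact False.elim (cert_false T ((skipEmb 3).trans (Function.Embedding.refl _)) (by norm_num) (fun _ => hall _) (((((((LB_zero T ((skipEmb 3).trans (Function.Embedding.refl _))).upd 1 2 1 (le_of_eq hx12)).upd 1 3 2 (le_of_eq hx14)).upd 2 1 1 (le_of_eq hx21)).upd 2 3 1 (le_of_eq hx24)).upd 3 1 1 (le_of_eq hx41)).upd 3 2 3 (le_of_eq hx42)) ![0,1,1,1] (by decide) (by decide) 1 (by decide))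
    · -- 24=(3,1)
      exact False.elim (cert_false T ((skipEmb 3).trans (Function.Embedding.refl _)) (by norm_num) (fun _ => hall _) (((((((LB_zero T ((skipEmb 3).trans (Function.Embedding.refl _))).upd 1 2 1 (le_of_eq hx12)).upd 1 3 2 (le_of_eq hx14)).upd 2 1 1 (le_of_eq hx21)).upd 2 3 3 (le_of_eq hx24)).upd 3 1 1 (le_of_eq hx41)).upd 3 2 1 (le_of_eq hx42)) ![0,1,1,1] (by decide) (by decide) 1 (by decide))
  · -- 14=(1,3)
    exact False.elim (cert_false T ((skipEmb 3).trans (Function.Embedding.refl _)) (by norm_num) (fun _ => hall _) (((((LB_zero T ((skipEmb 3).trans (Function.Embedding.refl _))).upd 0 3 1 (le_of_eq hx04)).upd 1 3 1 (le_of_eq hx14)).upd 3 0 1 (le_of_eq hx40)).upd 3 1 3 (le_of_eq hx41)) ![1,1,0,2] (by decide) (by decide) 0 (by decide))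
  · -- 14=(3,1)
    exact False.elim (cert_false T ((skipEmb 3).trans (Function.Embedding.refl _)) (by norm_num) (fun _ => hall _) (((((LB_zero T ((skipEmb 3).trans (Function.Embedding.refl _))).upd 1 2 1 (le_of_eq hx12)).upd 1 3 3 (le_of_eq hx14)).upd 2 1 1 (le_of_eq hx21)).upd 3 1 1 (le_of_eq hx41)) ![0,2,1,1] (by decide) (by decide) 1 (by decide))

theorem case93 (T : NumericalType 5) (hall : ∀ i, T.IsMinusTwo i) (d : SData T)
    (h01 : N T (Function.Embedding.refl _) 0 1 = 0) (h10 : N T (Function.Embedding.refl _) 1 0 = 0)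
    (h02 : N T (Function.Embedding.refl _) 0 2 = 0) (h20 : N T (Function.Embedding.refl _) 2 0 = 0)
    (h12 : N T (Function.Embedding.refl _) 1 2 = 1) (h21 : N T (Function.Embedding.refl _) 2 1 = 1)
    (h03 : N T (Function.Embedding.refl _) 0 3 = 0) (h30 : N T (Function.Embedding.refl _) 3 0 = 0)
    (h13 : N T (Function.Embedding.refl _) 1 3 = 0) (h31 : N T (Function.Embedding.refl _) 3 1 = 0)
    (h23 : N T (Function.Embedding.refl _) 2 3 = 0) (h32 : N T (Function.Embedding.refl _) 3 2 = 0) :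
    Goal T := by
  unfold Goal
  have hd := d
  obtain ⟨x01, x02, x03, x04, x10, x12, x13, x14, x20, x21, x23, x24, x30, x31, x32, x34, x40, x41, x42, x43, hx01, hx02, hx03, hx04, hx10, hx12, hx13, hx14, hx20, hx21, hx23, hx24, hx30, hx31, hx32, hx34, hx40, hx41, hx42, hx43, hw0, hm0, hw1, hm1, hw2, hm2, hw3, hm3, hw4, hm4, a00, a01, a02, a03, a04, a11, a10, a12, a13, a14, a22, a20, a21, a23, a24, a33, a30, a31, a32, a34, a44, a40, a41, a42, a43, wN01, wN02, wN12, wN03, wN13, wN23, wN04, wN14, wN24, wN34, e0, e1, e2, e3, e4, d01, d02, d12, d03, d13, d23, d04, d14, d24, d34⟩ := d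
  obtain rfl : x01 = 0 := hx01.trans h01
  obtain rfl : x10 = 0 := hx10.trans h10
  obtain rfl : x02 = 0 := hx02.trans h02
  obtain rfl : x20 = 0 := hx20.trans h20
  obtain rfl : x12 = 1 := hx12.trans h12
  obtain rfl : x21 = 1 := hx21.trans h21
  obtain rfl : x03 = 0 := hx03.trans h03
  obtain rfl : x30 = 0 := hx30.trans h30
  obtain rfl : x13 = 0 := hx13.trans h13
  obtain rfl : x31 = 0 := hx31.trans h31
  obtain rfl : x23 = 0 := hx23.trans h23
  obtain rfl : x32 = 0 := hx32.trans h32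
  rcases d04 with ⟨rfl, rfl⟩ | ⟨rfl, rfl⟩ | ⟨rfl, rfl⟩ | ⟨rfl, rfl⟩ | ⟨rfl, rfl⟩ | ⟨rfl, rfl⟩
  · -- 04=(0,0)
    exact case94 T hall hd hx01.symm hx10.symm hx02.symm hx20.symm hx12.symm hx21.symm hx03.symm hx30.symm hx13.symm hx31.symm hx23.symm hx32.symm hx04.symm hx40.symm
  · -- 04=(1,1)
    exact case95 T hall hd hx01.symm hx10.symm hx02.symm hx20.symm hx12.symm hx21.symm hx03.symm hx30.symm hx13.symm hx31.symm hx23.symm hx32.symm hx04.symm hx40.symm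
  · -- 04=(1,2)
    rcases d14 with ⟨rfl, rfl⟩ | ⟨rfl, rfl⟩ | ⟨rfl, rfl⟩ | ⟨rfl, rfl⟩ | ⟨rfl, rfl⟩ | ⟨rfl, rfl⟩
    · -- 14=(0,0)
      rcases d24 with ⟨rfl, rfl⟩ | ⟨rfl, rfl⟩ | ⟨rfl, rfl⟩ | ⟨rfl, rfl⟩ | ⟨rfl, rfl⟩ | ⟨rfl, rfl⟩
      · -- 24=(0,0)
        rcases d34 with ⟨rfl, rfl⟩ | ⟨rfl, rfl⟩ | ⟨rfl, rfl⟩ | ⟨rfl, rfl⟩ | ⟨rfl, rfl⟩ | ⟨rfl, rfl⟩
        · -- 34=(0,0)
          exfalso; omega
        · -- 34=(1,1)
          exfalso; omega
        · -- 34=(1,2)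
          exact False.elim (cert_false T ((skipEmb 2).trans (Function.Embedding.refl _)) (by norm_num) (fun _ => hall _) (((((LB_zero T ((skipEmb 2).trans (Function.Embedding.refl _))).upd 0 3 1 (le_of_eq hx04)).upd 2 3 1 (le_of_eq hx34)).upd 3 0 2 (le_of_eq hx40)).upd 3 2 2 (le_of_eq hx43)) ![1,0,1,2] (by decide) (by decide) 0 (by decide))
        · -- 34=(2,1)
          exact False.elim (cert_false T ((skipEmb 2).trans (Function.Embedding.refl _)) (by norm_num) (fun _ => hall _) (((((LB_zero T ((skipEmb 2).trans (Function.Embedding.refl _))).upd 0 3 1 (le_of_eq hx04)).upd 2 3 2 (le_of_eq hx34)).upd 3 0 2 (le_of_eq hx40)).upd 3 2 1 (le_of_eq hx43)) ![1,0,2,2] (by decide) (by decide) 0 (by decide))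
        · -- 34=(1,3)
          exact False.elim (cert_false T ((skipEmb 2).trans (Function.Embedding.refl _)) (by norm_num) (fun _ => hall _) (((((LB_zero T ((skipEmb 2).trans (Function.Embedding.refl _))).upd 0 3 1 (le_of_eq hx04)).upd 2 3 1 (le_of_eq hx34)).upd 3 0 2 (le_of_eq hx40)).upd 3 2 3 (le_of_eq hx43)) ![1,0,1,2] (by decide) (by decide) 0 (by decide))
        · -- 34=(3,1)
          exact False.elim (cert_false T ((skipEmb 2).trans (Function.Embedding.refl _)) (by norm_num) (fun _ => hall _) (((((LB_zero T ((skipEmb 2).trans (Function.Embedding.refl _))).upd 0 3 1 (le_of_eq hx04)).upd 2 3 3 (le_of_eq hx34)).upd 3 0 2 (le_of_eq hx40)).upd 3 2 1 (le_of_eq hx43)) ![1,0,2,2] (by decide) (by decide) 0 (by decide))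
      · -- 24=(1,1)
        rcases d34 with ⟨rfl, rfl⟩ | ⟨rfl, rfl⟩ | ⟨rfl, rfl⟩ | ⟨rfl, rfl⟩ | ⟨rfl, rfl⟩ | ⟨rfl, rfl⟩
        · -- 34=(0,0)
          exfalso; omega
        · -- 34=(1,1)
          exact False.elim (cert_false T ((skipEmb 1).trans (Function.Embedding.refl _)) (by norm_num) (fun _ => hall _) (((((((LB_zero T ((skipEmb 1).trans (Function.Embedding.refl _))).upd 0 3 1 (le_of_eq hx04)).upd 1 3 1 (le_of_eq hx24)).upd 2 3 1 (le_of_eq hx34)).upd 3 0 2 (le_of_eq hx40)).upd 3 1 1 (le_of_eq hx42)).upd 3 2 1 (le_of_eq hx43)) ![1,1,1,2] (by decide) (by decide) 0 (by decide))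
        · -- 34=(1,2)
          exact False.elim (cert_false T ((skipEmb 2).trans (Function.Embedding.refl _)) (by norm_num) (fun _ => hall _) (((((LB_zero T ((skipEmb 2).trans (Function.Embedding.refl _))).upd 0 3 1 (le_of_eq hx04)).upd 2 3 1 (le_of_eq hx34)).upd 3 0 2 (le_of_eq hx40)).upd 3 2 2 (le_of_eq hx43)) ![1,0,1,2] (by decide) (by decide) 0 (by decide))
        · -- 34=(2,1)
          exact False.elim (cert_false T ((skipEmb 2).trans (Function.Embedding.refl _)) (by norm_num) (fun _ => hall _) (((((LB_zero T ((skipEmb 2).trans (Function.Embedding.refl _))).upd 0 3 1 (le_of_eq hx04)).upd 2 3 2 (le_of_eq hx34)).upd 3 0 2 (le_of_eq hx40)).upd 3 2 1 (le_of_eq hx43)) ![1,0,2,2] (by decide) (by decide) 0 (by decide))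
        · -- 34=(1,3)
          exact False.elim (cert_false T ((skipEmb 2).trans (Function.Embedding.refl _)) (by norm_num) (fun _ => hall _) (((((LB_zero T ((skipEmb 2).trans (Function.Embedding.refl _))).upd 0 3 1 (le_of_eq hx04)).upd 2 3 1 (le_of_eq hx34)).upd 3 0 2 (le_of_eq hx40)).upd 3 2 3 (le_of_eq hx43)) ![1,0,1,2] (by decide) (by decide) 0 (by decide))
        · -- 34=(3,1)
          exact False.elim (cert_false T ((skipEmb 2).trans (Function.Embedding.refl _)) (by norm_num) (fun _ => hall _) (((((LB_zero T ((skipEmb 2).trans (Function.Embedding.refl _))).upd 0 3 1 (le_of_eq hx04)).upd 2 3 3 (le_of_eq hx34)).upd 3 0 2 (le_of_eq hx40)).upd 3 2 1 (le_of_eq hx43)) ![1,0,2,2] (by decide) (by decide) 0 (by decide))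
      · -- 24=(1,2)
        exact False.elim (cert_false T ((skipEmb 3).trans (Function.Embedding.refl _)) (by norm_num) (fun _ => hall _) (((((LB_zero T ((skipEmb 3).trans (Function.Embedding.refl _))).upd 0 3 1 (le_of_eq hx04)).upd 2 3 1 (le_of_eq hx24)).upd 3 0 2 (le_of_eq hx40)).upd 3 2 2 (le_of_eq hx42)) ![1,0,1,2] (by decide) (by decide) 0 (by decide))
      · -- 24=(2,1)
        exact False.elim (cert_false T ((skipEmb 3).trans (Function.Embedding.refl _)) (by norm_num) (fun _ => hall _) (((((LB_zero T ((skipEmb 3).trans (Function.Embedding.refl _))).upd 0 3 1 (le_of_eq hx04)).upd 2 3 2 (le_of_eq hx24)).upd 3 0 2 (le_of_eq hx40)).upd 3 2 1 (le_of_eq hx42)) ![1,0,2,2] (by decide) (by decide) 0 (by decide))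
      · -- 24=(1,3)
        exact False.elim (cert_false T ((skipEmb 3).trans (Function.Embedding.refl _)) (by norm_num) (fun _ => hall _) (((((LB_zero T ((skipEmb 3).trans (Function.Embedding.refl _))).upd 0 3 1 (le_of_eq hx04)).upd 2 3 1 (le_of_eq hx24)).upd 3 0 2 (le_of_eq hx40)).upd 3 2 3 (le_of_eq hx42)) ![1,0,1,2] (by decide) (by decide) 0 (by decide))
      · -- 24=(3,1)
        exact False.elim (cert_false T ((skipEmb 3).trans (Function.Embedding.refl _)) (by norm_num) (fun _ => hall _) (((((LB_zero T ((skipEmb 3).trans (Function.Embedding.refl _))).upd 0 3 1 (le_of_eq hx04)).upd 2 3 3 (le_of_eq hx24)).upd 3 0 2 (le_of_eq hx40)).upd 3 2 1 (le_of_eq hx42)) ![1,0,2,2] (by decide) (by decide) 0 (by decide))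
    · -- 14=(1,1)
      rcases d24 with ⟨rfl, rfl⟩ | ⟨rfl, rfl⟩ | ⟨rfl, rfl⟩ | ⟨rfl, rfl⟩ | ⟨rfl, rfl⟩ | ⟨rfl, rfl⟩
      · -- 24=(0,0)
        rcases d34 with ⟨rfl, rfl⟩ | ⟨rfl, rfl⟩ | ⟨rfl, rfl⟩ | ⟨rfl, rfl⟩ | ⟨rfl, rfl⟩ | ⟨rfl, rfl⟩
        · -- 34=(0,0)
          exfalso; omega
        · -- 34=(1,1)
          exact False.elim (cert_false T ((skipEmb 2).trans (Function.Embedding.refl _)) (by norm_num) (fun _ => hall _) (((((((LB_zero T ((skipEmb 2).trans (Function.Embedding.refl _))).upd 0 3 1 (le_of_eq hx04)).upd 1 3 1 (le_of_eq hx14)).upd 2 3 1 (le_of_eq hx34)).upd 3 0 2 (le_of_eq hx40)).upd 3 1 1 (le_of_eq hx41)).upd 3 2 1 (le_of_eq hx43)) ![1,1,1,2] (by decide) (by decide) 0 (by decide))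
        · -- 34=(1,2)
          exact False.elim (cert_false T ((skipEmb 2).trans (Function.Embedding.refl _)) (by norm_num) (fun _ => hall _) (((((LB_zero T ((skipEmb 2).trans (Function.Embedding.refl _))).upd 0 3 1 (le_of_eq hx04)).upd 2 3 1 (le_of_eq hx34)).upd 3 0 2 (le_of_eq hx40)).upd 3 2 2 (le_of_eq hx43)) ![1,0,1,2] (by decide) (by decide) 0 (by decide))
        · -- 34=(2,1)
          exact False.elim (cert_false T ((skipEmb 2).trans (Function.Embedding.refl _)) (by norm_num) (fun _ => hall _) (((((LB_zero T ((skipEmb 2).trans (Function.Embedding.refl _))).upd 0 3 1 (le_of_eq hx04)).upd 2 3 2 (le_of_eq hx34)).upd 3 0 2 (le_of_eq hx40)).upd 3 2 1 (le_of_eq hx43)) ![1,0,2,2] (by decide) (by decide) 0 (by decide))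
        · -- 34=(1,3)
          exact False.elim (cert_false T ((skipEmb 2).trans (Function.Embedding.refl _)) (by norm_num) (fun _ => hall _) (((((LB_zero T ((skipEmb 2).trans (Function.Embedding.refl _))).upd 1 3 1 (le_of_eq hx14)).upd 2 3 1 (le_of_eq hx34)).upd 3 1 1 (le_of_eq hx41)).upd 3 2 3 (le_of_eq hx43)) ![0,1,1,2] (by decide) (by decide) 1 (by decide))
        · -- 34=(3,1)
          exact False.elim (cert_false T ((skipEmb 2).trans (Function.Embedding.refl _)) (by norm_num) (fun _ => hall _) (((((LB_zero T ((skipEmb 2).trans (Function.Embedding.refl _))).upd 0 3 1 (le_of_eq hx04)).upd 2 3 3 (le_of_eq hx34)).upd 3 0 2 (le_of_eq hx40)).upd 3 2 1 (le_of_eq hx43)) ![1,0,2,2] (by decide) (by decide) 0 (by decide))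
      · -- 24=(1,1)
        exact False.elim (cert_false T ((skipEmb 3).trans (Function.Embedding.refl _)) (by norm_num) (fun _ => hall _) (((((((LB_zero T ((skipEmb 3).trans (Function.Embedding.refl _))).upd 1 2 1 (le_of_eq hx12)).upd 1 3 1 (le_of_eq hx14)).upd 2 1 1 (le_of_eq hx21)).upd 2 3 1 (le_of_eq hx24)).upd 3 1 1 (le_of_eq hx41)).upd 3 2 1 (le_of_eq hx42)) ![0,1,1,1] (by decide) (by decide) 1 (by decide))
      · -- 24=(1,2)
        exact False.elim (cert_false T ((skipEmb 3).trans (Function.Embedding.refl _)) (by norm_num) (fun _ => hall _) (((((((LB_zero T ((skipEmb 3).trans (Function.Embedding.refl _))).upd 1 2 1 (le_of_eq hx12)).upd 1 3 1 (le_of_eq hx14)).upd 2 1 1 (le_of_eq hx21)).upd 2 3 1 (le_of_eq hx24)).upd 3 1 1 (le_of_eq hx41)).upd 3 2 2 (le_of_eq hx42)) ![0,1,1,1] (by decide) (by decide) 1 (by decide))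
      · -- 24=(2,1)
        exact False.elim (cert_false T ((skipEmb 3).trans (Function.Embedding.refl _)) (by norm_num) (fun _ => hall _) (((((((LB_zero T ((skipEmb 3).trans (Function.Embedding.refl _))).upd 1 2 1 (le_of_eq hx12)).upd 1 3 1 (le_of_eq hx14)).upd 2 1 1 (le_of_eq hx21)).upd 2 3 2 (le_of_eq hx24)).upd 3 1 1 (le_of_eq hx41)).upd 3 2 1 (le_of_eq hx42)) ![0,1,1,1] (by decide) (by decide) 1 (by decide))
      · -- 24=(1,3)
        exact False.elim (cert_false T ((skipEmb 3).trans (Function.Embedding.refl _)) (by norm_num) (fun _ => hall _) (((((((LB_zero T ((skipEmb 3).trans (Function.Embedding.refl _))).upd 1 2 1 (le_of_eq hx12)).upd 1 3 1 (le_of_eq hx14)).upd 2 1 1 (le_of_eq hx21)).upd 2 3 1 (le_of_eq hx24)).upd 3 1 1 (le_of_eq hx41)).upd 3 2 3 (le_of_eq hx42)) ![0,1,1,1] (by decide) (by decide) 1 (by decide))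
      · -- 24=(3,1)
        exact False.elim (cert_false T ((skipEmb 3).trans (Function.Embedding.refl _)) (by norm_num) (fun _ => hall _) (((((((LB_zero T ((skipEmb 3).trans (Function.Embedding.refl _))).upd 1 2 1 (le_of_eq hx12)).upd 1 3 1 (le_of_eq hx14)).upd 2 1 1 (le_of_eq hx21)).upd 2 3 3 (le_of_eq hx24)).upd 3 1 1 (le_of_eq hx41)).upd 3 2 1 (le_of_eq hx42)) ![0,1,1,1] (by decide) (by decide) 1 (by decide))
    · -- 14=(1,2)
      exact False.elim (cert_false T ((skipEmb 3).trans (Function.Embedding.refl _)) (by norm_num) (fun _ => hall _) (((((LB_zero T ((skipEmb 3).trans (Function.Embedding.refl _))).upd 0 3 1 (le_of_eq hx04)).upd 1 3 1 (le_of_eq hx14)).upd 3 0 2 (le_of_eq hx40)).upd 3 1 2 (le_of_eq hx41)) ![1,1,0,2] (by decide) (by decide) 0 (by decide))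
    · -- 14=(2,1)
      exact False.elim (cert_false T ((skipEmb 3).trans (Function.Embedding.refl _)) (by norm_num) (fun _ => hall _) (((((LB_zero T ((skipEmb 3).trans (Function.Embedding.refl _))).upd 0 3 1 (le_of_eq hx04)).upd 1 3 2 (le_of_eq hx14)).upd 3 0 2 (le_of_eq hx40)).upd 3 1 1 (le_of_eq hx41)) ![1,2,0,2] (by decide) (by decide) 0 (by decide))
    · -- 14=(1,3)
      exact False.elim (cert_false T ((skipEmb 3).trans (Function.Embedding.refl _)) (by norm_num) (fun _ => hall _) (((((LB_zero T ((skipEmb 3).trans (Function.Embedding.refl _))).upd 0 3 1 (le_of_eq hx04)).upd 1 3 1 (le_of_eq hx14)).upd 3 0 2 (le_of_eq hx40)).upd 3 1 3 (le_of_eq hx41)) ![1,1,0,2] (by decide) (by decide) 0 (by decide))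
    · -- 14=(3,1)
      exact False.elim (cert_false T ((skipEmb 3).trans (Function.Embedding.refl _)) (by norm_num) (fun _ => hall _) (((((LB_zero T ((skipEmb 3).trans (Function.Embedding.refl _))).upd 0 3 1 (le_of_eq hx04)).upd 1 3 3 (le_of_eq hx14)).upd 3 0 2 (le_of_eq hx40)).upd 3 1 1 (le_of_eq hx41)) ![1,2,0,2] (by decide) (by decide) 0 (by decide))
  · -- 04=(2,1)
    rcases d14 with ⟨rfl, rfl⟩ | ⟨rfl, rfl⟩ | ⟨rfl, rfl⟩ | ⟨rfl, rfl⟩ | ⟨rfl, rfl⟩ | ⟨rfl, rfl⟩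
    · -- 14=(0,0)
      rcases d24 with ⟨rfl, rfl⟩ | ⟨rfl, rfl⟩ | ⟨rfl, rfl⟩ | ⟨rfl, rfl⟩ | ⟨rfl, rfl⟩ | ⟨rfl, rfl⟩
      · -- 24=(0,0)
        rcases d34 with ⟨rfl, rfl⟩ | ⟨rfl, rfl⟩ | ⟨rfl, rfl⟩ | ⟨rfl, rfl⟩ | ⟨rfl, rfl⟩ | ⟨rfl, rfl⟩
        · -- 34=(0,0)
          exfalso; omega
        · -- 34=(1,1)
          exfalso; omega
        · -- 34=(1,2)
          exact False.elim (cert_false T ((skipEmb 2).trans (Function.Embedding.refl _)) (by norm_num) (fun _ => hall _) (((((LB_zero T ((skipEmb 2).trans (Function.Embedding.refl _))).upd 0 3 2 (le_of_eq hx04)).upd 2 3 1 (le_of_eq hx34)).upd 3 0 1 (le_of_eq hx40)).upd 3 2 2 (le_of_eq hx43)) ![2,0,1,2] (by decide) (by decide) 0 (by decide))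
        · -- 34=(2,1)
          exact False.elim (cert_false T ((skipEmb 2).trans (Function.Embedding.refl _)) (by norm_num) (fun _ => hall _) (((((LB_zero T ((skipEmb 2).trans (Function.Embedding.refl _))).upd 0 3 2 (le_of_eq hx04)).upd 2 3 2 (le_of_eq hx34)).upd 3 0 1 (le_of_eq hx40)).upd 3 2 1 (le_of_eq hx43)) ![1,0,1,1] (by decide) (by decide) 0 (by decide))
        · -- 34=(1,3)
          exact False.elim (cert_false T ((skipEmb 2).trans (Function.Embedding.refl _)) (by norm_num) (fun _ => hall _) (((((LB_zero T ((skipEmb 2).trans (Function.Embedding.refl _))).upd 0 3 2 (le_of_eq hx04)).upd 2 3 1 (le_of_eq hx34)).upd 3 0 1 (le_of_eq hx40)).upd 3 2 3 (le_of_eq hx43)) ![1,0,1,2] (by decide) (by decide) 0 (by decide))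
        · -- 34=(3,1)
          exact False.elim (cert_false T ((skipEmb 2).trans (Function.Embedding.refl _)) (by norm_num) (fun _ => hall _) (((((LB_zero T ((skipEmb 2).trans (Function.Embedding.refl _))).upd 0 3 2 (le_of_eq hx04)).upd 2 3 3 (le_of_eq hx34)).upd 3 0 1 (le_of_eq hx40)).upd 3 2 1 (le_of_eq hx43)) ![1,0,1,1] (by decide) (by decide) 0 (by decide))
      · -- 24=(1,1)
        rcases d34 with ⟨rfl, rfl⟩ | ⟨rfl, rfl⟩ | ⟨rfl, rfl⟩ | ⟨rfl, rfl⟩ | ⟨rfl, rfl⟩ | ⟨rfl, rfl⟩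
        · -- 34=(0,0)
          exfalso; omega
        · -- 34=(1,1)
          exact False.elim (cert_false T ((skipEmb 1).trans (Function.Embedding.refl _)) (by norm_num) (fun _ => hall _) (((((((LB_zero T ((skipEmb 1).trans (Function.Embedding.refl _))).upd 0 3 2 (le_of_eq hx04)).upd 1 3 1 (le_of_eq hx24)).upd 2 3 1 (le_of_eq hx34)).upd 3 0 1 (le_of_eq hx40)).upd 3 1 1 (le_of_eq hx42)).upd 3 2 1 (le_of_eq hx43)) ![2,1,1,2] (by decide) (by decide) 0 (by decide))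
        · -- 34=(1,2)
          exact False.elim (cert_false T ((skipEmb 2).trans (Function.Embedding.refl _)) (by norm_num) (fun _ => hall _) (((((LB_zero T ((skipEmb 2).trans (Function.Embedding.refl _))).upd 0 3 2 (le_of_eq hx04)).upd 2 3 1 (le_of_eq hx34)).upd 3 0 1 (le_of_eq hx40)).upd 3 2 2 (le_of_eq hx43)) ![2,0,1,2] (by decide) (by decide) 0 (by decide))
        · -- 34=(2,1)
          exact False.elim (cert_false T ((skipEmb 2).trans (Function.Embedding.refl _)) (by norm_num) (fun _ => hall _) (((((LB_zero T ((skipEmb 2).trans (Function.Embedding.refl _))).upd 0 3 2 (le_of_eq hx04)).upd 2 3 2 (le_of_eq hx34)).upd 3 0 1 (le_of_eq hx40)).upd 3 2 1 (le_of_eq hx43)) ![1,0,1,1] (by decide) (by decide) 0 (by decide))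
        · -- 34=(1,3)
          exact False.elim (cert_false T ((skipEmb 2).trans (Function.Embedding.refl _)) (by norm_num) (fun _ => hall _) (((((LB_zero T ((skipEmb 2).trans (Function.Embedding.refl _))).upd 0 3 2 (le_of_eq hx04)).upd 2 3 1 (le_of_eq hx34)).upd 3 0 1 (le_of_eq hx40)).upd 3 2 3 (le_of_eq hx43)) ![1,0,1,2] (by decide) (by decide) 0 (by decide))
        · -- 34=(3,1)
          exact False.elim (cert_false T ((skipEmb 2).trans (Function.Embedding.refl _)) (by norm_num) (fun _ => hall _) (((((LB_zero T ((skipEmb 2).trans (Function.Embedding.refl _))).upd 0 3 2 (le_of_eq hx04)).upd 2 3 3 (le_of_eq hx34)).upd 3 0 1 (le_of_eq hx40)).upd 3 2 1 (le_of_eq hx43)) ![1,0,1,1] (by decide) (by decide) 0 (by decide))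
      · -- 24=(1,2)
        exact False.elim (cert_false T ((skipEmb 3).trans (Function.Embedding.refl _)) (by norm_num) (fun _ => hall _) (((((LB_zero T ((skipEmb 3).trans (Function.Embedding.refl _))).upd 0 3 2 (le_of_eq hx04)).upd 2 3 1 (le_of_eq hx24)).upd 3 0 1 (le_of_eq hx40)).upd 3 2 2 (le_of_eq hx42)) ![2,0,1,2] (by decide) (by decide) 0 (by decide))
      · -- 24=(2,1)
        exact False.elim (cert_false T ((skipEmb 3).trans (Function.Embedding.refl _)) (by norm_num) (fun _ => hall _) (((((LB_zero T ((skipEmb 3).trans (Function.Embedding.refl _))).upd 0 3 2 (le_of_eq hx04)).upd 2 3 2 (le_of_eq hx24)).upd 3 0 1 (le_of_eq hx40)).upd 3 2 1 (le_of_eq hx42)) ![1,0,1,1] (by decide) (by decide) 0 (by decide))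
      · -- 24=(1,3)
        exact False.elim (cert_false T ((skipEmb 3).trans (Function.Embedding.refl _)) (by norm_num) (fun _ => hall _) (((((LB_zero T ((skipEmb 3).trans (Function.Embedding.refl _))).upd 0 3 2 (le_of_eq hx04)).upd 2 3 1 (le_of_eq hx24)).upd 3 0 1 (le_of_eq hx40)).upd 3 2 3 (le_of_eq hx42)) ![1,0,1,2] (by decide) (by decide) 0 (by decide))
      · -- 24=(3,1)
        exact False.elim (cert_false T ((skipEmb 3).trans (Function.Embedding.refl _)) (by norm_num) (fun _ => hall _) (((((LB_zero T ((skipEmb 3).trans (Function.Embedding.refl _))).upd 0 3 2 (le_of_eq hx04)).upd 2 3 3 (le_of_eq hx24)).upd 3 0 1 (le_of_eq hx40)).upd 3 2 1 (le_of_eq hx42)) ![1,0,1,1] (by decide) (by decide) 0 (by decide))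
    · -- 14=(1,1)
      rcases d24 with ⟨rfl, rfl⟩ | ⟨rfl, rfl⟩ | ⟨rfl, rfl⟩ | ⟨rfl, rfl⟩ | ⟨rfl, rfl⟩ | ⟨rfl, rfl⟩
      · -- 24=(0,0)
        rcases d34 with ⟨rfl, rfl⟩ | ⟨rfl, rfl⟩ | ⟨rfl, rfl⟩ | ⟨rfl, rfl⟩ | ⟨rfl, rfl⟩ | ⟨rfl, rfl⟩
        · -- 34=(0,0)
          exfalso; omega
        · -- 34=(1,1)
          exact False.elim (cert_false T ((skipEmb 2).trans (Function.Embedding.refl _)) (by norm_num) (fun _ => hall _) (((((((LB_zero T ((skipEmb 2).trans (Function.Embedding.refl _))).upd 0 3 2 (le_of_eq hx04)).upd 1 3 1 (le_of_eq hx14)).upd 2 3 1 (le_of_eq hx34)).upd 3 0 1 (le_of_eq hx40)).upd 3 1 1 (le_of_eq hx41)).upd 3 2 1 (le_of_eq hx43)) ![2,1,1,2] (by decide) (by decide) 0 (by decide))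
        · -- 34=(1,2)
          exact False.elim (cert_false T ((skipEmb 2).trans (Function.Embedding.refl _)) (by norm_num) (fun _ => hall _) (((((((LB_zero T ((skipEmb 2).trans (Function.Embedding.refl _))).upd 0 3 2 (le_of_eq hx04)).upd 1 3 1 (le_of_eq hx14)).upd 2 3 1 (le_of_eq hx34)).upd 3 0 1 (le_of_eq hx40)).upd 3 1 1 (le_of_eq hx41)).upd 3 2 2 (le_of_eq hx43)) ![1,1,1,2] (by decide) (by decide) 0 (by decide))
        · -- 34=(2,1)
          exact False.elim (cert_false T ((skipEmb 2).trans (Function.Embedding.refl _)) (by norm_num) (fun _ => hall _) (((((LB_zero T ((skipEmb 2).trans (Function.Embedding.refl _))).upd 0 3 2 (le_of_eq hx04)).upd 2 3 2 (le_of_eq hx34)).upd 3 0 1 (le_of_eq hx40)).upd 3 2 1 (le_of_eq hx43)) ![1,0,1,1] (by decide) (by decide) 0 (by decide))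
        · -- 34=(1,3)
          exact False.elim (cert_false T ((skipEmb 2).trans (Function.Embedding.refl _)) (by norm_num) (fun _ => hall _) (((((LB_zero T ((skipEmb 2).trans (Function.Embedding.refl _))).upd 1 3 1 (le_of_eq hx14)).upd 2 3 1 (le_of_eq hx34)).upd 3 1 1 (le_of_eq hx41)).upd 3 2 3 (le_of_eq hx43)) ![0,1,1,2] (by decide) (by decide) 1 (by decide))
        · -- 34=(3,1)
          exact False.elim (cert_false T ((skipEmb 2).trans (Function.Embedding.refl _)) (by norm_num) (fun _ => hall _) (((((LB_zero T ((skipEmb 2).trans (Function.Embedding.refl _))).upd 0 3 2 (le_of_eq hx04)).upd 2 3 3 (le_of_eq hx34)).upd 3 0 1 (le_of_eq hx40)).upd 3 2 1 (le_of_eq hx43)) ![1,0,1,1] (by decide) (by decide) 0 (by decide))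
      · -- 24=(1,1)
        exact False.elim (cert_false T ((skipEmb 3).trans (Function.Embedding.refl _)) (by norm_num) (fun _ => hall _) (((((((LB_zero T ((skipEmb 3).trans (Function.Embedding.refl _))).upd 1 2 1 (le_of_eq hx12)).upd 1 3 1 (le_of_eq hx14)).upd 2 1 1 (le_of_eq hx21)).upd 2 3 1 (le_of_eq hx24)).upd 3 1 1 (le_of_eq hx41)).upd 3 2 1 (le_of_eq hx42)) ![0,1,1,1] (by decide) (by decide) 1 (by decide))
      · -- 24=(1,2)
        exact False.elim (cert_false T ((skipEmb 3).trans (Function.Embedding.refl _)) (by norm_num) (fun _ => hall _) (((((((LB_zero T ((skipEmb 3).trans (Function.Embedding.refl _))).upd 1 2 1 (le_of_eq hx12)).upd 1 3 1 (le_of_eq hx14)).upd 2 1 1 (le_of_eq hx21)).upd 2 3 1 (le_of_eq hx24)).upd 3 1 1 (le_of_eq hx41)).upd 3 2 2 (le_of_eq hx42)) ![0,1,1,1] (by decide) (by decide) 1 (by decide))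
      · -- 24=(2,1)
        exact False.elim (cert_false T ((skipEmb 3).trans (Function.Embedding.refl _)) (by norm_num) (fun _ => hall _) (((((LB_zero T ((skipEmb 3).trans (Function.Embedding.refl _))).upd 0 3 2 (le_of_eq hx04)).upd 2 3 2 (le_of_eq hx24)).upd 3 0 1 (le_of_eq hx40)).upd 3 2 1 (le_of_eq hx42)) ![1,0,1,1] (by decide) (by decide) 0 (by decide))
      · -- 24=(1,3)
        exact False.elim (cert_false T ((skipEmb 3).trans (Function.Embedding.refl _)) (by norm_num) (fun _ => hall _) (((((((LB_zero T ((skipEmb 3).trans (Function.Embedding.refl _))).upd 1 2 1 (le_of_eq hx12)).upd 1 3 1 (le_of_eq hx14)).upd 2 1 1 (le_of_eq hx21)).upd 2 3 1 (le_of_eq hx24)).upd 3 1 1 (le_of_eq hx41)).upd 3 2 3 (le_of_eq hx42)) ![0,1,1,1] (by decide) (by decide) 1 (by decide))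
      · -- 24=(3,1)
        exact False.elim (cert_false T ((skipEmb 3).trans (Function.Embedding.refl _)) (by norm_num) (fun _ => hall _) (((((LB_zero T ((skipEmb 3).trans (Function.Embedding.refl _))).upd 0 3 2 (le_of_eq hx04)).upd 2 3 3 (le_of_eq hx24)).upd 3 0 1 (le_of_eq hx40)).upd 3 2 1 (le_of_eq hx42)) ![1,0,1,1] (by decide) (by decide) 0 (by decide))
    · -- 14=(1,2)
      exact False.elim (cert_false T ((skipEmb 3).trans (Function.Embedding.refl _)) (by norm_num) (fun _ => hall _) (((((LB_zero T ((skipEmb 3).trans (Function.Embedding.refl _))).upd 0 3 2 (le_of_eq hx04)).upd 1 3 1 (le_of_eq hx14)).upd 3 0 1 (le_of_eq hx40)).upd 3 1 2 (le_of_eq hx41)) ![2,1,0,2] (by decide) (by decide) 0 (by decide))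
    · -- 14=(2,1)
      exact False.elim (cert_false T ((skipEmb 3).trans (Function.Embedding.refl _)) (by norm_num) (fun _ => hall _) (((((LB_zero T ((skipEmb 3).trans (Function.Embedding.refl _))).upd 0 3 2 (le_of_eq hx04)).upd 1 3 2 (le_of_eq hx14)).upd 3 0 1 (le_of_eq hx40)).upd 3 1 1 (le_of_eq hx41)) ![1,1,0,1] (by decide) (by decide) 0 (by decide))
    · -- 14=(1,3)
      exact False.elim (cert_false T ((skipEmb 3).trans (Function.Embedding.refl _)) (by norm_num) (fun _ => hall _) (((((LB_zero T ((skipEmb 3).trans (Function.Embedding.refl _))).upd 0 3 2 (le_of_eq hx04)).upd 1 3 1 (le_of_eq hx14)).upd 3 0 1 (le_of_eq hx40)).upd 3 1 3 (le_of_eq hx41)) ![1,1,0,2] (by decide) (by decide) 0 (by decide))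
    · -- 14=(3,1)
      exact False.elim (cert_false T ((skipEmb 3).trans (Function.Embedding.refl _)) (by norm_num) (fun _ => hall _) (((((LB_zero T ((skipEmb 3).trans (Function.Embedding.refl _))).upd 0 3 2 (le_of_eq hx04)).upd 1 3 3 (le_of_eq hx14)).upd 3 0 1 (le_of_eq hx40)).upd 3 1 1 (le_of_eq hx41)) ![1,1,0,1] (by decide) (by decide) 0 (by decide))
  · -- 04=(1,3)
    rcases d14 with ⟨rfl, rfl⟩ | ⟨rfl, rfl⟩ | ⟨rfl, rfl⟩ | ⟨rfl, rfl⟩ | ⟨rfl, rfl⟩ | ⟨rfl, rfl⟩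
    · -- 14=(0,0)
      rcases d24 with ⟨rfl, rfl⟩ | ⟨rfl, rfl⟩ | ⟨rfl, rfl⟩ | ⟨rfl, rfl⟩ | ⟨rfl, rfl⟩ | ⟨rfl, rfl⟩
      · -- 24=(0,0)
        rcases d34 with ⟨rfl, rfl⟩ | ⟨rfl, rfl⟩ | ⟨rfl, rfl⟩ | ⟨rfl, rfl⟩ | ⟨rfl, rfl⟩ | ⟨rfl, rfl⟩
        · -- 34=(0,0)
          exfalso; omega
        · -- 34=(1,1)
          exact False.elim (cert_false T ((skipEmb 2).trans (Function.Embedding.refl _)) (by norm_num) (fun _ => hall _) (((((LB_zero T ((skipEmb 2).trans (Function.Embedding.refl _))).upd 0 3 1 (le_of_eq hx04)).upd 2 3 1 (le_of_eq hx34)).upd 3 0 3 (le_of_eq hx40)).upd 3 2 1 (le_of_eq hx43)) ![1,0,1,2] (by decide) (by decide) 0 (by decide))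
        · -- 34=(1,2)
          exact False.elim (cert_false T ((skipEmb 2).trans (Function.Embedding.refl _)) (by norm_num) (fun _ => hall _) (((((LB_zero T ((skipEmb 2).trans (Function.Embedding.refl _))).upd 0 3 1 (le_of_eq hx04)).upd 2 3 1 (le_of_eq hx34)).upd 3 0 3 (le_of_eq hx40)).upd 3 2 2 (le_of_eq hx43)) ![1,0,1,2] (by decide) (by decide) 0 (by decide))
        · -- 34=(2,1)
          exact False.elim (cert_false T ((skipEmb 2).trans (Function.Embedding.refl _)) (by norm_num) (fun _ => hall _) (((((LB_zero T ((skipEmb 2).trans (Function.Embedding.refl _))).upd 0 3 1 (le_of_eq hx04)).upd 2 3 2 (le_of_eq hx34)).upd 3 0 3 (le_of_eq hx40)).upd 3 2 1 (le_of_eq hx43)) ![1,0,1,2] (by decide) (by decide) 0 (by decide))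
        · -- 34=(1,3)
          exact False.elim (cert_false T ((skipEmb 2).trans (Function.Embedding.refl _)) (by norm_num) (fun _ => hall _) (((((LB_zero T ((skipEmb 2).trans (Function.Embedding.refl _))).upd 0 3 1 (le_of_eq hx04)).upd 2 3 1 (le_of_eq hx34)).upd 3 0 3 (le_of_eq hx40)).upd 3 2 3 (le_of_eq hx43)) ![1,0,1,2] (by decide) (by decide) 0 (by decide))
        · -- 34=(3,1)
          exact False.elim (cert_false T ((skipEmb 2).trans (Function.Embedding.refl _)) (by norm_num) (fun _ => hall _) (((((LB_zero T ((skipEmb 2).trans (Function.Embedding.refl _))).upd 0 3 1 (le_of_eq hx04)).upd 2 3 3 (le_of_eq hx34)).upd 3 0 3 (le_of_eq hx40)).upd 3 2 1 (le_of_eq hx43)) ![1,0,1,2] (by decide) (by decide) 0 (by decide))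
      · -- 24=(1,1)
        exact False.elim (cert_false T ((skipEmb 3).trans (Function.Embedding.refl _)) (by norm_num) (fun _ => hall _) (((((LB_zero T ((skipEmb 3).trans (Function.Embedding.refl _))).upd 0 3 1 (le_of_eq hx04)).upd 2 3 1 (le_of_eq hx24)).upd 3 0 3 (le_of_eq hx40)).upd 3 2 1 (le_of_eq hx42)) ![1,0,1,2] (by decide) (by decide) 0 (by decide))
      · -- 24=(1,2)
        exact False.elim (cert_false T ((skipEmb 3).trans (Function.Embedding.refl _)) (by norm_num) (fun _ => hall _) (((((LB_zero T ((skipEmb 3).trans (Function.Embedding.refl _))).upd 0 3 1 (le_of_eq hx04)).upd 2 3 1 (le_of_eq hx24)).upd 3 0 3 (le_of_eq hx40)).upd 3 2 2 (le_of_eq hx42)) ![1,0,1,2] (by decide) (by decide) 0 (by decide))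
      · -- 24=(2,1)
        exact False.elim (cert_false T ((skipEmb 3).trans (Function.Embedding.refl _)) (by norm_num) (fun _ => hall _) (((((LB_zero T ((skipEmb 3).trans (Function.Embedding.refl _))).upd 0 3 1 (le_of_eq hx04)).upd 2 3 2 (le_of_eq hx24)).upd 3 0 3 (le_of_eq hx40)).upd 3 2 1 (le_of_eq hx42)) ![1,0,1,2] (by decide) (by decide) 0 (by decide))
      · -- 24=(1,3)
        exact False.elim (cert_false T ((skipEmb 3).trans (Function.Embedding.refl _)) (by norm_num) (fun _ => hall _) (((((LB_zero T ((skipEmb 3).trans (Function.Embedding.refl _))).upd 0 3 1 (le_of_eq hx04)).upd 2 3 1 (le_of_eq hx24)).upd 3 0 3 (le_of_eq hx40)).upd 3 2 3 (le_of_eq hx42)) ![1,0,1,2] (by decide) (by decide) 0 (by decide))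
      · -- 24=(3,1)
        exact False.elim (cert_false T ((skipEmb 3).trans (Function.Embedding.refl _)) (by norm_num) (fun _ => hall _) (((((LB_zero T ((skipEmb 3).trans (Function.Embedding.refl _))).upd 0 3 1 (le_of_eq hx04)).upd 2 3 3 (le_of_eq hx24)).upd 3 0 3 (le_of_eq hx40)).upd 3 2 1 (le_of_eq hx42)) ![1,0,1,2] (by decide) (by decide) 0 (by decide))
    · -- 14=(1,1)
      exact False.elim (cert_false T ((skipEmb 3).trans (Function.Embedding.refl _)) (by norm_num) (fun _ => hall _) (((((LB_zero T ((skipEmb 3).trans (Function.Embedding.refl _))).upd 0 3 1 (le_of_eq hx04)).upd 1 3 1 (le_of_eq hx14)).upd 3 0 3 (le_of_eq hx40)).upd 3 1 1 (le_of_eq hx41)) ![1,1,0,2] (by decide) (by decide) 0 (by decide))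
    · -- 14=(1,2)
      exact False.elim (cert_false T ((skipEmb 3).trans (Function.Embedding.refl _)) (by norm_num) (fun _ => hall _) (((((LB_zero T ((skipEmb 3).trans (Function.Embedding.refl _))).upd 0 3 1 (le_of_eq hx04)).upd 1 3 1 (le_of_eq hx14)).upd 3 0 3 (le_of_eq hx40)).upd 3 1 2 (le_of_eq hx41)) ![1,1,0,2] (by decide) (by decide) 0 (by decide))
    · -- 14=(2,1)
      exact False.elim (cert_false T ((skipEmb 3).trans (Function.Embedding.refl _)) (by norm_num) (fun _ => hall _) (((((LB_zero T ((skipEmb 3).trans (Function.Embedding.refl _))).upd 0 3 1 (le_of_eq hx04)).upd 1 3 2 (le_of_eq hx14)).upd 3 0 3 (le_of_eq hx40)).upd 3 1 1 (le_of_eq hx41)) ![1,1,0,2] (by decide) (by decide) 0 (by decide))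
    · -- 14=(1,3)
      exact False.elim (cert_false T ((skipEmb 3).trans (Function.Embedding.refl _)) (by norm_num) (fun _ => hall _) (((((LB_zero T ((skipEmb 3).trans (Function.Embedding.refl _))).upd 0 3 1 (le_of_eq hx04)).upd 1 3 1 (le_of_eq hx14)).upd 3 0 3 (le_of_eq hx40)).upd 3 1 3 (le_of_eq hx41)) ![1,1,0,2] (by decide) (by decide) 0 (by decide))
    · -- 14=(3,1)
      exact False.elim (cert_false T ((skipEmb 3).trans (Function.Embedding.refl _)) (by norm_num) (fun _ => hall _) (((((LB_zero T ((skipEmb 3).trans (Function.Embedding.refl _))).upd 0 3 1 (le_of_eq hx04)).upd 1 3 3 (le_of_eq hx14)).upd 3 0 3 (le_of_eq hx40)).upd 3 1 1 (le_of_eq hx41)) ![1,1,0,2] (by decide) (by decide) 0 (by decide))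
  · -- 04=(3,1)
    rcases d14 with ⟨rfl, rfl⟩ | ⟨rfl, rfl⟩ | ⟨rfl, rfl⟩ | ⟨rfl, rfl⟩ | ⟨rfl, rfl⟩ | ⟨rfl, rfl⟩
    · -- 14=(0,0)
      rcases d24 with ⟨rfl, rfl⟩ | ⟨rfl, rfl⟩ | ⟨rfl, rfl⟩ | ⟨rfl, rfl⟩ | ⟨rfl, rfl⟩ | ⟨rfl, rfl⟩
      · -- 24=(0,0)
        rcases d34 with ⟨rfl, rfl⟩ | ⟨rfl, rfl⟩ | ⟨rfl, rfl⟩ | ⟨rfl, rfl⟩ | ⟨rfl, rfl⟩ | ⟨rfl, rfl⟩
        · -- 34=(0,0)
          exfalso; omega
        · -- 34=(1,1)
          exact False.elim (cert_false T ((skipEmb 2).trans (Function.Embedding.refl _)) (by norm_num) (fun _ => hall _) (((((LB_zero T ((skipEmb 2).trans (Function.Embedding.refl _))).upd 0 3 3 (le_of_eq hx04)).upd 2 3 1 (le_of_eq hx34)).upd 3 0 1 (le_of_eq hx40)).upd 3 2 1 (le_of_eq hx43)) ![3,0,1,2] (by decide) (by decide) 0 (by decide))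
        · -- 34=(1,2)
          exact False.elim (cert_false T ((skipEmb 2).trans (Function.Embedding.refl _)) (by norm_num) (fun _ => hall _) (((((LB_zero T ((skipEmb 2).trans (Function.Embedding.refl _))).upd 0 3 3 (le_of_eq hx04)).upd 2 3 1 (le_of_eq hx34)).upd 3 0 1 (le_of_eq hx40)).upd 3 2 2 (le_of_eq hx43)) ![2,0,1,2] (by decide) (by decide) 0 (by decide))
        · -- 34=(2,1)
          exact False.elim (cert_false T ((skipEmb 2).trans (Function.Embedding.refl _)) (by norm_num) (fun _ => hall _) (((((LB_zero T ((skipEmb 2).trans (Function.Embedding.refl _))).upd 0 3 3 (le_of_eq hx04)).upd 2 3 2 (le_of_eq hx34)).upd 3 0 1 (le_of_eq hx40)).upd 3 2 1 (le_of_eq hx43)) ![1,0,1,1] (by decide) (by decide) 0 (by decide))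
        · -- 34=(1,3)
          exact False.elim (cert_false T ((skipEmb 2).trans (Function.Embedding.refl _)) (by norm_num) (fun _ => hall _) (((((LB_zero T ((skipEmb 2).trans (Function.Embedding.refl _))).upd 0 3 3 (le_of_eq hx04)).upd 2 3 1 (le_of_eq hx34)).upd 3 0 1 (le_of_eq hx40)).upd 3 2 3 (le_of_eq hx43)) ![1,0,1,2] (by decide) (by decide) 0 (by decide))
        · -- 34=(3,1)
          exact False.elim (cert_false T ((skipEmb 2).trans (Function.Embedding.refl _)) (by norm_num) (fun _ => hall _) (((((LB_zero T ((skipEmb 2).trans (Function.Embedding.refl _))).upd 0 3 3 (le_of_eq hx04)).upd 2 3 3 (le_of_eq hx34)).upd 3 0 1 (le_of_eq hx40)).upd 3 2 1 (le_of_eq hx43)) ![1,0,1,1] (by decide) (by decide) 0 (by decide))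
      · -- 24=(1,1)
        exact False.elim (cert_false T ((skipEmb 3).trans (Function.Embedding.refl _)) (by norm_num) (fun _ => hall _) (((((LB_zero T ((skipEmb 3).trans (Function.Embedding.refl _))).upd 0 3 3 (le_of_eq hx04)).upd 2 3 1 (le_of_eq hx24)).upd 3 0 1 (le_of_eq hx40)).upd 3 2 1 (le_of_eq hx42)) ![3,0,1,2] (by decide) (by decide) 0 (by decide))
      · -- 24=(1,2)
        exact False.elim (cert_false T ((skipEmb 3).trans (Function.Embedding.refl _)) (by norm_num) (fun _ => hall _) (((((LB_zero T ((skipEmb 3).trans (Function.Embedding.refl _))).upd 0 3 3 (le_of_eq hx04)).upd 2 3 1 (le_of_eq hx24)).upd 3 0 1 (le_of_eq hx40)).upd 3 2 2 (le_of_eq hx42)) ![2,0,1,2] (by decide) (by decide) 0 (by decide))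
      · -- 24=(2,1)
        exact False.elim (cert_false T ((skipEmb 3).trans (Function.Embedding.refl _)) (by norm_num) (fun _ => hall _) (((((LB_zero T ((skipEmb 3).trans (Function.Embedding.refl _))).upd 0 3 3 (le_of_eq hx04)).upd 2 3 2 (le_of_eq hx24)).upd 3 0 1 (le_of_eq hx40)).upd 3 2 1 (le_of_eq hx42)) ![1,0,1,1] (by decide) (by decide) 0 (by decide))
      · -- 24=(1,3)
        exact False.elim (cert_false T ((skipEmb 3).trans (Function.Embedding.refl _)) (by norm_num) (fun _ => hall _) (((((LB_zero T ((skipEmb 3).trans (Function.Embedding.refl _))).upd 0 3 3 (le_of_eq hx04)).upd 2 3 1 (le_of_eq hx24)).upd 3 0 1 (le_of_eq hx40)).upd 3 2 3 (le_of_eq hx42)) ![1,0,1,2] (by decide) (by decide) 0 (by decide))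
      · -- 24=(3,1)
        exact False.elim (cert_false T ((skipEmb 3).trans (Function.Embedding.refl _)) (by norm_num) (fun _ => hall _) (((((LB_zero T ((skipEmb 3).trans (Function.Embedding.refl _))).upd 0 3 3 (le_of_eq hx04)).upd 2 3 3 (le_of_eq hx24)).upd 3 0 1 (le_of_eq hx40)).upd 3 2 1 (le_of_eq hx42)) ![1,0,1,1] (by decide) (by decide) 0 (by decide))
    · -- 14=(1,1)
      exact False.elim (cert_false T ((skipEmb 3).trans (Function.Embedding.refl _)) (by norm_num) (fun _ => hall _) (((((LB_zero T ((skipEmb 3).trans (Function.Embedding.refl _))).upd 0 3 3 (le_of_eq hx04)).upd 1 3 1 (le_of_eq hx14)).upd 3 0 1 (le_of_eq hx40)).upd 3 1 1 (le_of_eq hx41)) ![3,1,0,2] (by decide) (by decide) 0 (by decide))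
    · -- 14=(1,2)
      exact False.elim (cert_false T ((skipEmb 3).trans (Function.Embedding.refl _)) (by norm_num) (fun _ => hall _) (((((LB_zero T ((skipEmb 3).trans (Function.Embedding.refl _))).upd 0 3 3 (le_of_eq hx04)).upd 1 3 1 (le_of_eq hx14)).upd 3 0 1 (le_of_eq hx40)).upd 3 1 2 (le_of_eq hx41)) ![2,1,0,2] (by decide) (by decide) 0 (by decide))
    · -- 14=(2,1)
      exact False.elim (cert_false T ((skipEmb 3).trans (Function.Embedding.refl _)) (by norm_num) (fun _ => hall _) (((((LB_zero T ((skipEmb 3).trans (Function.Embedding.refl _))).upd 0 3 3 (le_of_eq hx04)).upd 1 3 2 (le_of_eq hx14)).upd 3 0 1 (le_of_eq hx40)).upd 3 1 1 (le_of_eq hx41)) ![1,1,0,1] (by decide) (by decide) 0 (by decide))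
    · -- 14=(1,3)
      exact False.elim (cert_false T ((skipEmb 3).trans (Function.Embedding.refl _)) (by norm_num) (fun _ => hall _) (((((LB_zero T ((skipEmb 3).trans (Function.Embedding.refl _))).upd 0 3 3 (le_of_eq hx04)).upd 1 3 1 (le_of_eq hx14)).upd 3 0 1 (le_of_eq hx40)).upd 3 1 3 (le_of_eq hx41)) ![1,1,0,2] (by decide) (by decide) 0 (by decide))
    · -- 14=(3,1)
      exact False.elim (cert_false T ((skipEmb 3).trans (Function.Embedding.refl _)) (by norm_num) (fun _ => hall _) (((((LB_zero T ((skipEmb 3).trans (Function.Embedding.refl _))).upd 0 3 3 (le_of_eq hx04)).upd 1 3 3 (le_of_eq hx14)).upd 3 0 1 (le_of_eq hx40)).upd 3 1 1 (le_of_eq hx41)) ![1,1,0,1] (by decide) (by decide) 0 (by decide))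

theorem case97 (T : NumericalType 5) (hall : ∀ i, T.IsMinusTwo i) (d : SData T)
    (h01 : N T (Function.Embedding.refl _) 0 1 = 0) (h10 : N T (Function.Embedding.refl _) 1 0 = 0)
    (h02 : N T (Function.Embedding.refl _) 0 2 = 0) (h20 : N T (Function.Embedding.refl _) 2 0 = 0)
    (h12 : N T (Function.Embedding.refl _) 1 2 = 1) (h21 : N T (Function.Embedding.refl _) 2 1 = 1)
    (h03 : N T (Function.Embedding.refl _) 0 3 = 0) (h30 : N T (Function.Embedding.refl _) 3 0 = 0)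
    (h13 : N T (Function.Embedding.refl _) 1 3 = 0) (h31 : N T (Function.Embedding.refl _) 3 1 = 0)
    (h23 : N T (Function.Embedding.refl _) 2 3 = 1) (h32 : N T (Function.Embedding.refl _) 3 2 = 1)
    (h04 : N T (Function.Embedding.refl _) 0 4 = 0) (h40 : N T (Function.Embedding.refl _) 4 0 = 0) :
    Goal T := by
  unfold Goal
  have hd := d
  obtain ⟨x01, x02, x03, x04, x10, x12, x13, x14, x20, x21, x23, x24, x30, x31, x32, x34, x40, x41, x42, x43, hx01, hx02, hx03, hx04, hx10, hx12, hx13, hx14, hx20, hx21, hx23, hx24, hx30, hx31, hx32, hx34, hx40, hx41, hx42, hx43, hw0, hm0, hw1, hm1, hw2, hm2, hw3, hm3, hw4, hm4, a00, a01, a02, a03, a04, a11, a10, a12, a13, a14, a22, a20, a21, a23, a24, a33, a30, a31, a32, a34, a44, a40, a41, a42, a43, wN01, wN02, wN12, wN03, wN13, wN23, wN04, wN14, wN24, wN34, e0, e1, e2, e3, e4, d01, d02, d12, d03, d13, d23, d04, d14, d24, d34⟩ := d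
  obtain rfl : x01 = 0 := hx01.trans h01
  obtain rfl : x10 = 0 := hx10.trans h10
  obtain rfl : x02 = 0 := hx02.trans h02
  obtain rfl : x20 = 0 := hx20.trans h20
  obtain rfl : x12 = 1 := hx12.trans h12
  obtain rfl : x21 = 1 := hx21.trans h21
  obtain rfl : x03 = 0 := hx03.trans h03
  obtain rfl : x30 = 0 := hx30.trans h30
  obtain rfl : x13 = 0 := hx13.trans h13
  obtain rfl : x31 = 0 := hx31.trans h31
  obtain rfl : x23 = 1 := hx23.trans h23
  obtain rfl : x32 = 1 := hx32.trans h32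
  obtain rfl : x04 = 0 := hx04.trans h04
  obtain rfl : x40 = 0 := hx40.trans h40
  rcases d14 with ⟨rfl, rfl⟩ | ⟨rfl, rfl⟩ | ⟨rfl, rfl⟩ | ⟨rfl, rfl⟩ | ⟨rfl, rfl⟩ | ⟨rfl, rfl⟩
  · -- 14=(0,0)
    rcases d24 with ⟨rfl, rfl⟩ | ⟨rfl, rfl⟩ | ⟨rfl, rfl⟩ | ⟨rfl, rfl⟩ | ⟨rfl, rfl⟩ | ⟨rfl, rfl⟩
    · -- 24=(0,0)
      rcases d34 with ⟨rfl, rfl⟩ | ⟨rfl, rfl⟩ | ⟨rfl, rfl⟩ | ⟨rfl, rfl⟩ | ⟨rfl, rfl⟩ | ⟨rfl, rfl⟩
      · -- 34=(0,0)
        exfalso; omega
      · -- 34=(1,1)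
        exfalso; omega
      · -- 34=(1,2)
        exfalso; omega
      · -- 34=(2,1)
        exfalso; omega
      · -- 34=(1,3)
        exact False.elim (cert_false T ((skipEmb 1).trans (Function.Embedding.refl _)) (by norm_num) (fun _ => hall _) (((((LB_zero T ((skipEmb 1).trans (Function.Embedding.refl _))).upd 1 2 1 (le_of_eq hx23)).upd 2 1 1 (le_of_eq hx32)).upd 2 3 1 (le_of_eq hx34)).upd 3 2 3 (le_of_eq hx43)) ![0,1,2,3] (by decide) (by decide) 1 (by decide))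
      · -- 34=(3,1)
        exact False.elim (cert_false T ((skipEmb 1).trans (Function.Embedding.refl _)) (by norm_num) (fun _ => hall _) (((((LB_zero T ((skipEmb 1).trans (Function.Embedding.refl _))).upd 1 2 1 (le_of_eq hx23)).upd 2 1 1 (le_of_eq hx32)).upd 2 3 3 (le_of_eq hx34)).upd 3 2 1 (le_of_eq hx43)) ![0,1,2,1] (by decide) (by decide) 1 (by decide))
    · -- 24=(1,1)
      rcases d34 with ⟨rfl, rfl⟩ | ⟨rfl, rfl⟩ | ⟨rfl, rfl⟩ | ⟨rfl, rfl⟩ | ⟨rfl, rfl⟩ | ⟨rfl, rfl⟩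
      · -- 34=(0,0)
        exfalso; omega
      · -- 34=(1,1)
        exact False.elim (cert_false T ((skipEmb 1).trans (Function.Embedding.refl _)) (by norm_num) (fun _ => hall _) (((((((LB_zero T ((skipEmb 1).trans (Function.Embedding.refl _))).upd 1 2 1 (le_of_eq hx23)).upd 1 3 1 (le_of_eq hx24)).upd 2 1 1 (le_of_eq hx32)).upd 2 3 1 (le_of_eq hx34)).upd 3 1 1 (le_of_eq hx42)).upd 3 2 1 (le_of_eq hx43)) ![0,1,1,1] (by decide) (by decide) 1 (by decide))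
      · -- 34=(1,2)
        exact False.elim (cert_false T ((skipEmb 1).trans (Function.Embedding.refl _)) (by norm_num) (fun _ => hall _) (((((((LB_zero T ((skipEmb 1).trans (Function.Embedding.refl _))).upd 1 2 1 (le_of_eq hx23)).upd 1 3 1 (le_of_eq hx24)).upd 2 1 1 (le_of_eq hx32)).upd 2 3 1 (le_of_eq hx34)).upd 3 1 1 (le_of_eq hx42)).upd 3 2 2 (le_of_eq hx43)) ![0,1,1,1] (by decide) (by decide) 1 (by decide))
      · -- 34=(2,1)
        exact False.elim (cert_false T ((skipEmb 1).trans (Function.Embedding.refl _)) (by norm_num) (fun _ => hall _) (((((((LB_zero T ((skipEmb 1).trans (Function.Embedding.refl _))).upd 1 2 1 (le_of_eq hx23)).upd 1 3 1 (le_of_eq hx24)).upd 2 1 1 (le_of_eq hx32)).upd 2 3 2 (le_of_eq hx34)).upd 3 1 1 (le_of_eq hx42)).upd 3 2 1 (le_of_eq hx43)) ![0,1,1,1] (by decide) (by decide) 1 (by decide))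
      · -- 34=(1,3)
        exact False.elim (cert_false T ((skipEmb 1).trans (Function.Embedding.refl _)) (by norm_num) (fun _ => hall _) (((((((LB_zero T ((skipEmb 1).trans (Function.Embedding.refl _))).upd 1 2 1 (le_of_eq hx23)).upd 1 3 1 (le_of_eq hx24)).upd 2 1 1 (le_of_eq hx32)).upd 2 3 1 (le_of_eq hx34)).upd 3 1 1 (le_of_eq hx42)).upd 3 2 3 (le_of_eq hx43)) ![0,1,1,1] (by decide) (by decide) 1 (by decide))
      · -- 34=(3,1)
        exact False.elim (cert_false T ((skipEmb 1).trans (Function.Embedding.refl _)) (by norm_num) (fun _ => hall _) (((((((LB_zero T ((skipEmb 1).trans (Function.Embedding.refl _))).upd 1 2 1 (le_of_eq hx23)).upd 1 3 1 (le_of_eq hx24)).upd 2 1 1 (le_of_eq hx32)).upd 2 3 3 (le_of_eq hx34)).upd 3 1 1 (le_of_eq hx42)).upd 3 2 1 (le_of_eq hx43)) ![0,1,1,1] (by decide) (by decide) 1 (by decide))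
    · -- 24=(1,2)
      exact False.elim (cert_false T ((skipEmb 0).trans (Function.Embedding.refl _)) (by norm_num) (fun _ => hall _) (((((((LB_zero T ((skipEmb 0).trans (Function.Embedding.refl _))).upd 0 1 1 (le_of_eq hx12)).upd 1 0 1 (le_of_eq hx21)).upd 1 2 1 (le_of_eq hx23)).upd 1 3 1 (le_of_eq hx24)).upd 2 1 1 (le_of_eq hx32)).upd 3 1 2 (le_of_eq hx42)) ![1,2,1,2] (by decide) (by decide) 0 (by decide))
    · -- 24=(2,1)
      exact False.elim (cert_false T ((skipEmb 0).trans (Function.Embedding.refl _)) (by norm_num) (fun _ => hall _) (((((((LB_zero T ((skipEmb 0).trans (Function.Embedding.refl _))).upd 0 1 1 (le_of_eq hx12)).upd 1 0 1 (le_of_eq hx21)).upd 1 2 1 (le_of_eq hx23)).upd 1 3 2 (le_of_eq hx24)).upd 2 1 1 (le_of_eq hx32)).upd 3 1 1 (le_of_eq hx42)) ![1,2,1,1] (by decide) (by decide) 0 (by decide))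
    · -- 24=(1,3)
      exact False.elim (cert_false T ((skipEmb 3).trans (Function.Embedding.refl _)) (by norm_num) (fun _ => hall _) (((((LB_zero T ((skipEmb 3).trans (Function.Embedding.refl _))).upd 1 2 1 (le_of_eq hx12)).upd 2 1 1 (le_of_eq hx21)).upd 2 3 1 (le_of_eq hx24)).upd 3 2 3 (le_of_eq hx42)) ![0,1,2,3] (by decide) (by decide) 1 (by decide))
    · -- 24=(3,1)
      exact False.elim (cert_false T ((skipEmb 3).trans (Function.Embedding.refl _)) (by norm_num) (fun _ => hall _) (((((LB_zero T ((skipEmb 3).trans (Function.Embedding.refl _))).upd 1 2 1 (le_of_eq hx12)).upd 2 1 1 (le_of_eq hx21)).upd 2 3 3 (le_of_eq hx24)).upd 3 2 1 (le_of_eq hx42)) ![0,1,2,1] (by decide) (by decide) 1 (by decide))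
  · -- 14=(1,1)
    rcases d24 with ⟨rfl, rfl⟩ | ⟨rfl, rfl⟩ | ⟨rfl, rfl⟩ | ⟨rfl, rfl⟩ | ⟨rfl, rfl⟩ | ⟨rfl, rfl⟩
    · -- 24=(0,0)
      rcases d34 with ⟨rfl, rfl⟩ | ⟨rfl, rfl⟩ | ⟨rfl, rfl⟩ | ⟨rfl, rfl⟩ | ⟨rfl, rfl⟩ | ⟨rfl, rfl⟩
      · -- 34=(0,0)
        exfalso; omega
      · -- 34=(1,1)
        exact False.elim (cert_false T ((skipEmb 0).trans (Function.Embedding.refl _)) (by norm_num) (fun _ => hall _) (((((((((LB_zero T ((skipEmb 0).trans (Function.Embedding.refl _))).upd 0 1 1 (le_of_eq hx12)).upd 0 3 1 (le_of_eq hx14)).upd 1 0 1 (le_of_eq hx21)).upd 1 2 1 (le_of_eq hx23)).upd 2 1 1 (le_of_eq hx32)).upd 2 3 1 (le_of_eq hx34)).upd 3 0 1 (le_of_eq hx41)).upd 3 2 1 (le_of_eq hx43)) ![1,1,1,1] (by decide) (by decide) 0 (by decide))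
      · -- 34=(1,2)
        exact False.elim (cert_false T ((skipEmb 0).trans (Function.Embedding.refl _)) (by norm_num) (fun _ => hall _) (((((((((LB_zero T ((skipEmb 0).trans (Function.Embedding.refl _))).upd 0 1 1 (le_of_eq hx12)).upd 0 3 1 (le_of_eq hx14)).upd 1 0 1 (le_of_eq hx21)).upd 1 2 1 (le_of_eq hx23)).upd 2 1 1 (le_of_eq hx32)).upd 2 3 1 (le_of_eq hx34)).upd 3 0 1 (le_of_eq hx41)).upd 3 2 2 (le_of_eq hx43)) ![1,1,1,1] (by decide) (by decide) 0 (by decide))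
      · -- 34=(2,1)
        exact False.elim (cert_false T ((skipEmb 0).trans (Function.Embedding.refl _)) (by norm_num) (fun _ => hall _) (((((((((LB_zero T ((skipEmb 0).trans (Function.Embedding.refl _))).upd 0 1 1 (le_of_eq hx12)).upd 0 3 1 (le_of_eq hx14)).upd 1 0 1 (le_of_eq hx21)).upd 1 2 1 (le_of_eq hx23)).upd 2 1 1 (le_of_eq hx32)).upd 2 3 2 (le_of_eq hx34)).upd 3 0 1 (le_of_eq hx41)).upd 3 2 1 (le_of_eq hx43)) ![1,1,1,1] (by decide) (by decide) 0 (by decide))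
      · -- 34=(1,3)
        exact False.elim (cert_false T ((skipEmb 2).trans (Function.Embedding.refl _)) (by norm_num) (fun _ => hall _) (((((LB_zero T ((skipEmb 2).trans (Function.Embedding.refl _))).upd 1 3 1 (le_of_eq hx14)).upd 2 3 1 (le_of_eq hx34)).upd 3 1 1 (le_of_eq hx41)).upd 3 2 3 (le_of_eq hx43)) ![0,1,1,2] (by decide) (by decide) 1 (by decide))
      · -- 34=(3,1)
        exact False.elim (cert_false T ((skipEmb 2).trans (Function.Embedding.refl _)) (by norm_num) (fun _ => hall _) (((((LB_zero T ((skipEmb 2).trans (Function.Embedding.refl _))).upd 1 3 1 (le_of_eq hx14)).upd 2 3 3 (le_of_eq hx34)).upd 3 1 1 (le_of_eq hx41)).upd 3 2 1 (le_of_eq hx43)) ![0,1,3,2] (by decide) (by decide) 1 (by decide))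
    · -- 24=(1,1)
      exact False.elim (cert_false T ((skipEmb 3).trans (Function.Embedding.refl _)) (by norm_num) (fun _ => hall _) (((((((LB_zero T ((skipEmb 3).trans (Function.Embedding.refl _))).upd 1 2 1 (le_of_eq hx12)).upd 1 3 1 (le_of_eq hx14)).upd 2 1 1 (le_of_eq hx21)).upd 2 3 1 (le_of_eq hx24)).upd 3 1 1 (le_of_eq hx41)).upd 3 2 1 (le_of_eq hx42)) ![0,1,1,1] (by decide) (by decide) 1 (by decide))
    · -- 24=(1,2)
      exact False.elim (cert_false T ((skipEmb 3).trans (Function.Embedding.refl _)) (by norm_num) (fun _ => hall _) (((((((LB_zero T ((skipEmb 3).trans (Function.Embedding.refl _))).upd 1 2 1 (le_of_eq hx12)).upd 1 3 1 (le_of_eq hx14)).upd 2 1 1 (le_of_eq hx21)).upd 2 3 1 (le_of_eq hx24)).upd 3 1 1 (le_of_eq hx41)).upd 3 2 2 (le_of_eq hx42)) ![0,1,1,1] (by decide) (by decide) 1 (by decide))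
    · -- 24=(2,1)
      exact False.elim (cert_false T ((skipEmb 3).trans (Function.Embedding.refl _)) (by norm_num) (fun _ => hall _) (((((((LB_zero T ((skipEmb 3).trans (Function.Embedding.refl _))).upd 1 2 1 (le_of_eq hx12)).upd 1 3 1 (le_of_eq hx14)).upd 2 1 1 (le_of_eq hx21)).upd 2 3 2 (le_of_eq hx24)).upd 3 1 1 (le_of_eq hx41)).upd 3 2 1 (le_of_eq hx42)) ![0,1,1,1] (by decide) (by decide) 1 (by decide))
    · -- 24=(1,3)
      exact False.elim (cert_false T ((skipEmb 3).trans (Function.Embedding.refl _)) (by norm_num) (fun _ => hall _) (((((((LB_zero T ((skipEmb 3).trans (Function.Embedding.refl _))).upd 1 2 1 (le_of_eq hx12)).upd 1 3 1 (le_of_eq hx14)).upd 2 1 1 (le_of_eq hx21)).upd 2 3 1 (le_of_eq hx24)).upd 3 1 1 (le_of_eq hx41)).upd 3 2 3 (le_of_eq hx42)) ![0,1,1,1] (by decide) (by decide) 1 (by decide))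
    · -- 24=(3,1)
      exact False.elim (cert_false T ((skipEmb 3).trans (Function.Embedding.refl _)) (by norm_num) (fun _ => hall _) (((((((LB_zero T ((skipEmb 3).trans (Function.Embedding.refl _))).upd 1 2 1 (le_of_eq hx12)).upd 1 3 1 (le_of_eq hx14)).upd 2 1 1 (le_of_eq hx21)).upd 2 3 3 (le_of_eq hx24)).upd 3 1 1 (le_of_eq hx41)).upd 3 2 1 (le_of_eq hx42)) ![0,1,1,1] (by decide) (by decide) 1 (by decide))
  · -- 14=(1,2)
    rcases d24 with ⟨rfl, rfl⟩ | ⟨rfl, rfl⟩ | ⟨rfl, rfl⟩ | ⟨rfl, rfl⟩ | ⟨rfl, rfl⟩ | ⟨rfl, rfl⟩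
    · -- 24=(0,0)
      rcases d34 with ⟨rfl, rfl⟩ | ⟨rfl, rfl⟩ | ⟨rfl, rfl⟩ | ⟨rfl, rfl⟩ | ⟨rfl, rfl⟩ | ⟨rfl, rfl⟩
      · -- 34=(0,0)
        exfalso; omega
      · -- 34=(1,1)
        exact False.elim (cert_false T ((skipEmb 0).trans (Function.Embedding.refl _)) (by norm_num) (fun _ => hall _) (((((((((LB_zero T ((skipEmb 0).trans (Function.Embedding.refl _))).upd 0 1 1 (le_of_eq hx12)).upd 0 3 1 (le_of_eq hx14)).upd 1 0 1 (le_of_eq hx21)).upd 1 2 1 (le_of_eq hx23)).upd 2 1 1 (le_of_eq hx32)).upd 2 3 1 (le_of_eq hx34)).upd 3 0 2 (le_of_eq hx41)).upd 3 2 1 (le_of_eq hx43)) ![1,1,1,1] (by decide) (by decide) 0 (by decide))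
      · -- 34=(1,2)
        exact False.elim (cert_false T ((skipEmb 2).trans (Function.Embedding.refl _)) (by norm_num) (fun _ => hall _) (((((LB_zero T ((skipEmb 2).trans (Function.Embedding.refl _))).upd 1 3 1 (le_of_eq hx14)).upd 2 3 1 (le_of_eq hx34)).upd 3 1 2 (le_of_eq hx41)).upd 3 2 2 (le_of_eq hx43)) ![0,1,1,2] (by decide) (by decide) 1 (by decide))
      · -- 34=(2,1)
        exact False.elim (cert_false T ((skipEmb 2).trans (Function.Embedding.refl _)) (by norm_num) (fun _ => hall _) (((((LB_zero T ((skipEmb 2).trans (Function.Embedding.refl _))).upd 1 3 1 (le_of_eq hx14)).upd 2 3 2 (le_of_eq hx34)).upd 3 1 2 (le_of_eq hx41)).upd 3 2 1 (le_of_eq hx43)) ![0,1,2,2] (by decide) (by decide) 1 (by decide))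
      · -- 34=(1,3)
        exact False.elim (cert_false T ((skipEmb 2).trans (Function.Embedding.refl _)) (by norm_num) (fun _ => hall _) (((((LB_zero T ((skipEmb 2).trans (Function.Embedding.refl _))).upd 1 3 1 (le_of_eq hx14)).upd 2 3 1 (le_of_eq hx34)).upd 3 1 2 (le_of_eq hx41)).upd 3 2 3 (le_of_eq hx43)) ![0,1,1,2] (by decide) (by decide) 1 (by decide))
      · -- 34=(3,1)
        exact False.elim (cert_false T ((skipEmb 2).trans (Function.Embedding.refl _)) (by norm_num) (fun _ => hall _) (((((LB_zero T ((skipEmb 2).trans (Function.Embedding.refl _))).upd 1 3 1 (le_of_eq hx14)).upd 2 3 3 (le_of_eq hx34)).upd 3 1 2 (le_of_eq hx41)).upd 3 2 1 (le_of_eq hx43)) ![0,1,2,2] (by decide) (by decide) 1 (by decide))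
    · -- 24=(1,1)
      exact False.elim (cert_false T ((skipEmb 3).trans (Function.Embedding.refl _)) (by norm_num) (fun _ => hall _) (((((((LB_zero T ((skipEmb 3).trans (Function.Embedding.refl _))).upd 1 2 1 (le_of_eq hx12)).upd 1 3 1 (le_of_eq hx14)).upd 2 1 1 (le_of_eq hx21)).upd 2 3 1 (le_of_eq hx24)).upd 3 1 2 (le_of_eq hx41)).upd 3 2 1 (le_of_eq hx42)) ![0,1,1,1] (by decide) (by decide) 1 (by decide))
    · -- 24=(1,2)
      exact False.elim (cert_false T ((skipEmb 3).trans (Function.Embedding.refl _)) (by norm_num) (fun _ => hall _) (((((((LB_zero T ((skipEmb 3).trans (Function.Embedding.refl _))).upd 1 2 1 (le_of_eq hx12)).upd 1 3 1 (le_of_eq hx14)).upd 2 1 1 (le_of_eq hx21)).upd 2 3 1 (le_of_eq hx24)).upd 3 1 2 (le_of_eq hx41)).upd 3 2 2 (le_of_eq hx42)) ![0,1,1,1] (by decide) (by decide) 1 (by decide))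
    · -- 24=(2,1)
      exact False.elim (cert_false T ((skipEmb 3).trans (Function.Embedding.refl _)) (by norm_num) (fun _ => hall _) (((((((LB_zero T ((skipEmb 3).trans (Function.Embedding.refl _))).upd 1 2 1 (le_of_eq hx12)).upd 1 3 1 (le_of_eq hx14)).upd 2 1 1 (le_of_eq hx21)).upd 2 3 2 (le_of_eq hx24)).upd 3 1 2 (le_of_eq hx41)).upd 3 2 1 (le_of_eq hx42)) ![0,1,1,1] (by decide) (by decide) 1 (by decide))
    · -- 24=(1,3)
      exact False.elim (cert_false T ((skipEmb 3).trans (Function.Embedding.refl _)) (by norm_num) (fun _ => hall _) (((((((LB_zero T ((skipEmb 3).trans (Function.Embedding.refl _))).upd 1 2 1 (le_of_eq hx12)).upd 1 3 1 (le_of_eq hx14)).upd 2 1 1 (le_of_eq hx21)).upd 2 3 1 (le_of_eq hx24)).upd 3 1 2 (le_of_eq hx41)).upd 3 2 3 (le_of_eq hx42)) ![0,1,1,1] (by decide) (by decide) 1 (by decide))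
    · -- 24=(3,1)
      exact False.elim (cert_false T ((skipEmb 3).trans (Function.Embedding.refl _)) (by norm_num) (fun _ => hall _) (((((((LB_zero T ((skipEmb 3).trans (Function.Embedding.refl _))).upd 1 2 1 (le_of_eq hx12)).upd 1 3 1 (le_of_eq hx14)).upd 2 1 1 (le_of_eq hx21)).upd 2 3 3 (le_of_eq hx24)).upd 3 1 2 (le_of_eq hx41)).upd 3 2 1 (le_of_eq hx42)) ![0,1,1,1] (by decide) (by decide) 1 (by decide))
  · -- 14=(2,1)
    rcases d24 with ⟨rfl, rfl⟩ | ⟨rfl, rfl⟩ | ⟨rfl, rfl⟩ | ⟨rfl, rfl⟩ | ⟨rfl, rfl⟩ | ⟨rfl, rfl⟩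
    · -- 24=(0,0)
      rcases d34 with ⟨rfl, rfl⟩ | ⟨rfl, rfl⟩ | ⟨rfl, rfl⟩ | ⟨rfl, rfl⟩ | ⟨rfl, rfl⟩ | ⟨rfl, rfl⟩
      · -- 34=(0,0)
        exfalso; omega
      · -- 34=(1,1)
        exact False.elim (cert_false T ((skipEmb 0).trans (Function.Embedding.refl _)) (by norm_num) (fun _ => hall _) (((((((((LB_zero T ((skipEmb 0).trans (Function.Embedding.refl _))).upd 0 1 1 (le_of_eq hx12)).upd 0 3 2 (le_of_eq hx14)).upd 1 0 1 (le_of_eq hx21)).upd 1 2 1 (le_of_eq hx23)).upd 2 1 1 (le_of_eq hx32)).upd 2 3 1 (le_of_eq hx34)).upd 3 0 1 (le_of_eq hx41)).upd 3 2 1 (le_of_eq hx43)) ![1,1,1,1] (by decide) (by decide) 0 (by decide))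
      · -- 34=(1,2)
        exact False.elim (cert_false T ((skipEmb 2).trans (Function.Embedding.refl _)) (by norm_num) (fun _ => hall _) (((((LB_zero T ((skipEmb 2).trans (Function.Embedding.refl _))).upd 1 3 2 (le_of_eq hx14)).upd 2 3 1 (le_of_eq hx34)).upd 3 1 1 (le_of_eq hx41)).upd 3 2 2 (le_of_eq hx43)) ![0,2,1,2] (by decide) (by decide) 1 (by decide))
      · -- 34=(2,1)
        exact False.elim (cert_false T ((skipEmb 2).trans (Function.Embedding.refl _)) (by norm_num) (fun _ => hall _) (((((LB_zero T ((skipEmb 2).trans (Function.Embedding.refl _))).upd 1 3 2 (le_of_eq hx14)).upd 2 3 2 (le_of_eq hx34)).upd 3 1 1 (le_of_eq hx41)).upd 3 2 1 (le_of_eq hx43)) ![0,1,1,1] (by decide) (by decide) 1 (by decide))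
      · -- 34=(1,3)
        exact False.elim (cert_false T ((skipEmb 2).trans (Function.Embedding.refl _)) (by norm_num) (fun _ => hall _) (((((LB_zero T ((skipEmb 2).trans (Function.Embedding.refl _))).upd 1 3 2 (le_of_eq hx14)).upd 2 3 1 (le_of_eq hx34)).upd 3 1 1 (le_of_eq hx41)).upd 3 2 3 (le_of_eq hx43)) ![0,1,1,2] (by decide) (by decide) 1 (by decide))
      · -- 34=(3,1)
        exact False.elim (cert_false T ((skipEmb 2).trans (Function.Embedding.refl _)) (by norm_num) (fun _ => hall _) (((((LB_zero T ((skipEmb 2).trans (Function.Embedding.refl _))).upd 1 3 2 (le_of_eq hx14)).upd 2 3 3 (le_of_eq hx34)).upd 3 1 1 (le_of_eq hx41)).upd 3 2 1 (le_of_eq hx43)) ![0,1,1,1] (by decide) (by decide) 1 (by decide))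
    · -- 24=(1,1)
      exact False.elim (cert_false T ((skipEmb 3).trans (Function.Embedding.refl _)) (by norm_num) (fun _ => hall _) (((((((LB_zero T ((skipEmb 3).trans (Function.Embedding.refl _))).upd 1 2 1 (le_of_eq hx12)).upd 1 3 2 (le_of_eq hx14)).upd 2 1 1 (le_of_eq hx21)).upd 2 3 1 (le_of_eq hx24)).upd 3 1 1 (le_of_eq hx41)).upd 3 2 1 (le_of_eq hx42)) ![0,1,1,1] (by decide) (by decide) 1 (by decide))
    · -- 24=(1,2)
      exact False.elim (cert_false T ((skipEmb 3).trans (Function.Embedding.refl _)) (by norm_num) (fun _ => hall _) (((((((LB_zero T ((skipEmb 3).trans (Function.Embedding.refl _))).upd 1 2 1 (le_of_eq hx12)).upd 1 3 2 (le_of_eq hx14)).upd 2 1 1 (le_of_eq hx21)).upd 2 3 1 (le_of_eq hx24)).upd 3 1 1 (le_of_eq hx41)).upd 3 2 2 (le_of_eq hx42)) ![0,1,1,1] (by decide) (by decide) 1 (by decide))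
    · -- 24=(2,1)
      exact False.elim (cert_false T ((skipEmb 3).trans (Function.Embedding.refl _)) (by norm_num) (fun _ => hall _) (((((((LB_zero T ((skipEmb 3).trans (Function.Embedding.refl _))).upd 1 2 1 (le_of_eq hx12)).upd 1 3 2 (le_of_eq hx14)).upd 2 1 1 (le_of_eq hx21)).upd 2 3 2 (le_of_eq hx24)).upd 3 1 1 (le_of_eq hx41)).upd 3 2 1 (le_of_eq hx42)) ![0,1,1,1] (by decide) (by decide) 1 (by decide))
    · -- 24=(1,3)
      exact False.elim (cert_false T ((skipEmb 3).trans (Function.Embedding.refl _)) (by norm_num) (fun _ => hall _) (((((((LB_zero T ((skipEmb 3).trans (Function.Embedding.refl _))).upd 1 2 1 (le_of_eq hx12)).upd 1 3 2 (le_of_eq hx14)).upd 2 1 1 (le_of_eq hx21)).upd 2 3 1 (le_of_eq hx24)).upd 3 1 1 (le_of_eq hx41)).upd 3 2 3 (le_of_eq hx42)) ![0,1,1,1] (by decide) (by decide) 1 (by decide))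
    · -- 24=(3,1)
      exact False.elim (cert_false T ((skipEmb 3).trans (Function.Embedding.refl _)) (by norm_num) (fun _ => hall _) (((((((LB_zero T ((skipEmb 3).trans (Function.Embedding.refl _))).upd 1 2 1 (le_of_eq hx12)).upd 1 3 2 (le_of_eq hx14)).upd 2 1 1 (le_of_eq hx21)).upd 2 3 3 (le_of_eq hx24)).upd 3 1 1 (le_of_eq hx41)).upd 3 2 1 (le_of_eq hx42)) ![0,1,1,1] (by decide) (by decide) 1 (by decide))
  · -- 14=(1,3)
    exact False.elim (cert_false T ((skipEmb 3).trans (Function.Embedding.refl _)) (by norm_num) (fun _ => hall _) (((((LB_zero T ((skipEmb 3).trans (Function.Embedding.refl _))).upd 1 2 1 (le_of_eq hx12)).upd 1 3 1 (le_of_eq hx14)).upd 2 1 1 (le_of_eq hx21)).upd 3 1 3 (le_of_eq hx41)) ![0,2,1,3] (by decide) (by decide) 1 (by decide))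
  · -- 14=(3,1)
    exact False.elim (cert_false T ((skipEmb 3).trans (Function.Embedding.refl _)) (by norm_num) (fun _ => hall _) (((((LB_zero T ((skipEmb 3).trans (Function.Embedding.refl _))).upd 1 2 1 (le_of_eq hx12)).upd 1 3 3 (le_of_eq hx14)).upd 2 1 1 (le_of_eq hx21)).upd 3 1 1 (le_of_eq hx41)) ![0,2,1,1] (by decide) (by decide) 1 (by decide))

theorem case98 (T : NumericalType 5) (hall : ∀ i, T.IsMinusTwo i) (d : SData T)
    (h01 : N T (Function.Embedding.refl _) 0 1 = 0) (h10 : N T (Function.Embedding.refl _) 1 0 = 0)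
    (h02 : N T (Function.Embedding.refl _) 0 2 = 0) (h20 : N T (Function.Embedding.refl _) 2 0 = 0)
    (h12 : N T (Function.Embedding.refl _) 1 2 = 1) (h21 : N T (Function.Embedding.refl _) 2 1 = 1)
    (h03 : N T (Function.Embedding.refl _) 0 3 = 0) (h30 : N T (Function.Embedding.refl _) 3 0 = 0)
    (h13 : N T (Function.Embedding.refl _) 1 3 = 0) (h31 : N T (Function.Embedding.refl _) 3 1 = 0)
    (h23 : N T (Function.Embedding.refl _) 2 3 = 1) (h32 : N T (Function.Embedding.refl _) 3 2 = 1)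
    (h04 : N T (Function.Embedding.refl _) 0 4 = 1) (h40 : N T (Function.Embedding.refl _) 4 0 = 1) :
    Goal T := by
  unfold Goal
  have hd := d
  obtain ⟨x01, x02, x03, x04, x10, x12, x13, x14, x20, x21, x23, x24, x30, x31, x32, x34, x40, x41, x42, x43, hx01, hx02, hx03, hx04, hx10, hx12, hx13, hx14, hx20, hx21, hx23, hx24, hx30, hx31, hx32, hx34, hx40, hx41, hx42, hx43, hw0, hm0, hw1, hm1, hw2, hm2, hw3, hm3, hw4, hm4, a00, a01, a02, a03, a04, a11, a10, a12, a13, a14, a22, a20, a21, a23, a24, a33, a30, a31, a32, a34, a44, a40, a41, a42, a43, wN01, wN02, wN12, wN03, wN13, wN23, wN04, wN14, wN24, wN34, e0, e1, e2, e3, e4, d01, d02, d12, d03, d13, d23, d04, d14, d24, d34⟩ := d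
  obtain rfl : x01 = 0 := hx01.trans h01
  obtain rfl : x10 = 0 := hx10.trans h10
  obtain rfl : x02 = 0 := hx02.trans h02
  obtain rfl : x20 = 0 := hx20.trans h20
  obtain rfl : x12 = 1 := hx12.trans h12
  obtain rfl : x21 = 1 := hx21.trans h21
  obtain rfl : x03 = 0 := hx03.trans h03
  obtain rfl : x30 = 0 := hx30.trans h30
  obtain rfl : x13 = 0 := hx13.trans h13
  obtain rfl : x31 = 0 := hx31.trans h31
  obtain rfl : x23 = 1 := hx23.trans h23
  obtain rfl : x32 = 1 := hx32.trans h32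
  obtain rfl : x04 = 1 := hx04.trans h04
  obtain rfl : x40 = 1 := hx40.trans h40
  rcases d14 with ⟨rfl, rfl⟩ | ⟨rfl, rfl⟩ | ⟨rfl, rfl⟩ | ⟨rfl, rfl⟩ | ⟨rfl, rfl⟩ | ⟨rfl, rfl⟩
  · -- 14=(0,0)
    rcases d24 with ⟨rfl, rfl⟩ | ⟨rfl, rfl⟩ | ⟨rfl, rfl⟩ | ⟨rfl, rfl⟩ | ⟨rfl, rfl⟩ | ⟨rfl, rfl⟩
    · -- 24=(0,0)
      rcases d34 with ⟨rfl, rfl⟩ | ⟨rfl, rfl⟩ | ⟨rfl, rfl⟩ | ⟨rfl, rfl⟩ | ⟨rfl, rfl⟩ | ⟨rfl, rfl⟩
      · -- 34=(0,0)
        exfalso; omega
      · -- 34=(1,1)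
        exfalso; omega
      · -- 34=(1,2)
        refine ⟨(⟨![1, 2, 3, 4, 0], ![4, 0, 1, 2, 3], by decide, by decide⟩ : Equiv.Perm (Fin 5)), T.m 1, T.w 4, Or.inr (Or.inr (Or.inl ?_))⟩
        show T.m 1 = T.m 1 ∧ T.m 2 = 2 * T.m 1 ∧ T.m 3 = 3 * T.m 1 ∧ T.m 4 = 4 * T.m 1 ∧ T.m 0 = 2 * T.m 1 ∧ T.w 1 = 2 * T.w 4 ∧ T.w 2 = 2 * T.w 4 ∧ T.w 3 = 2 * T.w 4 ∧ T.w 4 = T.w 4 ∧ T.w 0 = T.w 4 ∧ T.a 1 1 = -4 * T.w 4 ∧ T.a 1 2 = 2 * T.w 4 ∧ T.a 1 3 = 0 ∧ T.a 1 4 = 0 ∧ T.a 1 0 = 0 ∧ T.a 2 2 = -4 * T.w 4 ∧ T.a 2 3 = 2 * T.w 4 ∧ T.a 2 4 = 0 ∧ T.a 2 0 = 0 ∧ T.a 3 3 = -4 * T.w 4 ∧ T.a 3 4 = 2 * T.w 4 ∧ T.a 3 0 = 0 ∧ T.a 4 4 = -2 * T.w 4 ∧ T.a 4 0 = T.w 4 ∧ T.a 0 0 = -2 * T.w 4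
        refine ⟨?_, ?_, ?_, ?_, ?_, ?_, ?_, ?_, ?_, ?_, ?_, ?_, ?_, ?_, ?_, ?_, ?_, ?_, ?_, ?_, ?_, ?_, ?_, ?_, ?_⟩ <;> omega
      · -- 34=(2,1)
        refine ⟨(⟨![1, 2, 3, 4, 0], ![4, 0, 1, 2, 3], by decide, by decide⟩ : Equiv.Perm (Fin 5)), T.m 1, T.w 1, Or.inr (Or.inl ?_)⟩
        show T.m 1 = T.m 1 ∧ T.m 2 = 2 * T.m 1 ∧ T.m 3 = 3 * T.m 1 ∧ T.m 4 = 2 * T.m 1 ∧ T.m 0 = T.m 1 ∧ T.w 1 = T.w 1 ∧ T.w 2 = T.w 1 ∧ T.w 3 = T.w 1 ∧ T.w 4 = 2 * T.w 1 ∧ T.w 0 = 2 * T.w 1 ∧ T.a 1 1 = -2 * T.w 1 ∧ T.a 1 2 = T.w 1 ∧ T.a 1 3 = 0 ∧ T.a 1 4 = 0 ∧ T.a 1 0 = 0 ∧ T.a 2 2 = -2 * T.w 1 ∧ T.a 2 3 = T.w 1 ∧ T.a 2 4 = 0 ∧ T.a 2 0 = 0 ∧ T.a 3 3 = -2 * T.w 1 ∧ T.a 3 4 = 2 * T.w 1 ∧ T.a 3 0 = 0 ∧ T.a 4 4 = -4 * T.w 1 ∧ T.a 4 0 = 2 * T.w 1 ∧ T.a 0 0 = -4 * T.w 1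
        refine ⟨?_, ?_, ?_, ?_, ?_, ?_, ?_, ?_, ?_, ?_, ?_, ?_, ?_, ?_, ?_, ?_, ?_, ?_, ?_, ?_, ?_, ?_, ?_, ?_, ?_⟩ <;> omega
      · -- 34=(1,3)
        exact False.elim (cert_false T ((skipEmb 2).trans (Function.Embedding.refl _)) (by norm_num) (fun _ => hall _) (((((LB_zero T ((skipEmb 2).trans (Function.Embedding.refl _))).upd 0 3 1 (le_of_eq hx04)).upd 2 3 1 (le_of_eq hx34)).upd 3 0 1 (le_of_eq hx40)).upd 3 2 3 (le_of_eq hx43)) ![1,0,1,2] (by decide) (by decide) 0 (by decide))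
      · -- 34=(3,1)
        exact False.elim (cert_false T ((skipEmb 2).trans (Function.Embedding.refl _)) (by norm_num) (fun _ => hall _) (((((LB_zero T ((skipEmb 2).trans (Function.Embedding.refl _))).upd 0 3 1 (le_of_eq hx04)).upd 2 3 3 (le_of_eq hx34)).upd 3 0 1 (le_of_eq hx40)).upd 3 2 1 (le_of_eq hx43)) ![1,0,3,2] (by decide) (by decide) 0 (by decide))
    · -- 24=(1,1)
      rcases d34 with ⟨rfl, rfl⟩ | ⟨rfl, rfl⟩ | ⟨rfl, rfl⟩ | ⟨rfl, rfl⟩ | ⟨rfl, rfl⟩ | ⟨rfl, rfl⟩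
      · -- 34=(0,0)
        exfalso; omega
      · -- 34=(1,1)
        exact False.elim (cert_false T ((skipEmb 1).trans (Function.Embedding.refl _)) (by norm_num) (fun _ => hall _) (((((((LB_zero T ((skipEmb 1).trans (Function.Embedding.refl _))).upd 1 2 1 (le_of_eq hx23)).upd 1 3 1 (le_of_eq hx24)).upd 2 1 1 (le_of_eq hx32)).upd 2 3 1 (le_of_eq hx34)).upd 3 1 1 (le_of_eq hx42)).upd 3 2 1 (le_of_eq hx43)) ![0,1,1,1] (by decide) (by decide) 1 (by decide))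
      · -- 34=(1,2)
        exact False.elim (cert_false T ((skipEmb 1).trans (Function.Embedding.refl _)) (by norm_num) (fun _ => hall _) (((((((LB_zero T ((skipEmb 1).trans (Function.Embedding.refl _))).upd 1 2 1 (le_of_eq hx23)).upd 1 3 1 (le_of_eq hx24)).upd 2 1 1 (le_of_eq hx32)).upd 2 3 1 (le_of_eq hx34)).upd 3 1 1 (le_of_eq hx42)).upd 3 2 2 (le_of_eq hx43)) ![0,1,1,1] (by decide) (by decide) 1 (by decide))
      · -- 34=(2,1)
        exact False.elim (cert_false T ((skipEmb 1).trans (Function.Embedding.refl _)) (by norm_num) (fun _ => hall _) (((((((LB_zero T ((skipEmb 1).trans (Function.Embedding.refl _))).upd 1 2 1 (le_of_eq hx23)).upd 1 3 1 (le_of_eq hx24)).upd 2 1 1 (le_of_eq hx32)).upd 2 3 2 (le_of_eq hx34)).upd 3 1 1 (le_of_eq hx42)).upd 3 2 1 (le_of_eq hx43)) ![0,1,1,1] (by decide) (by decide) 1 (by decide))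
      · -- 34=(1,3)
        exact False.elim (cert_false T ((skipEmb 2).trans (Function.Embedding.refl _)) (by norm_num) (fun _ => hall _) (((((LB_zero T ((skipEmb 2).trans (Function.Embedding.refl _))).upd 0 3 1 (le_of_eq hx04)).upd 2 3 1 (le_of_eq hx34)).upd 3 0 1 (le_of_eq hx40)).upd 3 2 3 (le_of_eq hx43)) ![1,0,1,2] (by decide) (by decide) 0 (by decide))
      · -- 34=(3,1)
        exact False.elim (cert_false T ((skipEmb 2).trans (Function.Embedding.refl _)) (by norm_num) (fun _ => hall _) (((((LB_zero T ((skipEmb 2).trans (Function.Embedding.refl _))).upd 0 3 1 (le_of_eq hx04)).upd 2 3 3 (le_of_eq hx34)).upd 3 0 1 (le_of_eq hx40)).upd 3 2 1 (le_of_eq hx43)) ![1,0,3,2] (by decide) (by decide) 0 (by decide))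
    · -- 24=(1,2)
      exact False.elim (cert_false T ((skipEmb 0).trans (Function.Embedding.refl _)) (by norm_num) (fun _ => hall _) (((((((LB_zero T ((skipEmb 0).trans (Function.Embedding.refl _))).upd 0 1 1 (le_of_eq hx12)).upd 1 0 1 (le_of_eq hx21)).upd 1 2 1 (le_of_eq hx23)).upd 1 3 1 (le_of_eq hx24)).upd 2 1 1 (le_of_eq hx32)).upd 3 1 2 (le_of_eq hx42)) ![1,2,1,2] (by decide) (by decide) 0 (by decide))
    · -- 24=(2,1)
      exact False.elim (cert_false T ((skipEmb 0).trans (Function.Embedding.refl _)) (by norm_num) (fun _ => hall _) (((((((LB_zero T ((skipEmb 0).trans (Function.Embedding.refl _))).upd 0 1 1 (le_of_eq hx12)).upd 1 0 1 (le_of_eq hx21)).upd 1 2 1 (le_of_eq hx23)).upd 1 3 2 (le_of_eq hx24)).upd 2 1 1 (le_of_eq hx32)).upd 3 1 1 (le_of_eq hx42)) ![1,2,1,1] (by decide) (by decide) 0 (by decide))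
    · -- 24=(1,3)
      exact False.elim (cert_false T ((skipEmb 3).trans (Function.Embedding.refl _)) (by norm_num) (fun _ => hall _) (((((LB_zero T ((skipEmb 3).trans (Function.Embedding.refl _))).upd 0 3 1 (le_of_eq hx04)).upd 2 3 1 (le_of_eq hx24)).upd 3 0 1 (le_of_eq hx40)).upd 3 2 3 (le_of_eq hx42)) ![1,0,1,2] (by decide) (by decide) 0 (by decide))
    · -- 24=(3,1)
      exact False.elim (cert_false T ((skipEmb 3).trans (Function.Embedding.refl _)) (by norm_num) (fun _ => hall _) (((((LB_zero T ((skipEmb 3).trans (Function.Embedding.refl _))).upd 1 2 1 (le_of_eq hx12)).upd 2 1 1 (le_of_eq hx21)).upd 2 3 3 (le_of_eq hx24)).upd 3 2 1 (le_of_eq hx42)) ![0,1,2,1] (by decide) (by decide) 1 (by decide))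
  · -- 14=(1,1)
    rcases d24 with ⟨rfl, rfl⟩ | ⟨rfl, rfl⟩ | ⟨rfl, rfl⟩ | ⟨rfl, rfl⟩ | ⟨rfl, rfl⟩ | ⟨rfl, rfl⟩
    · -- 24=(0,0)
      rcases d34 with ⟨rfl, rfl⟩ | ⟨rfl, rfl⟩ | ⟨rfl, rfl⟩ | ⟨rfl, rfl⟩ | ⟨rfl, rfl⟩ | ⟨rfl, rfl⟩
      · -- 34=(0,0)
        exfalso; omega
      · -- 34=(1,1)
        exact False.elim (cert_false T ((skipEmb 0).trans (Function.Embedding.refl _)) (by norm_num) (fun _ => hall _) (((((((((LB_zero T ((skipEmb 0).trans (Function.Embedding.refl _))).upd 0 1 1 (le_of_eq hx12)).upd 0 3 1 (le_of_eq hx14)).upd 1 0 1 (le_of_eq hx21)).upd 1 2 1 (le_of_eq hx23)).upd 2 1 1 (le_of_eq hx32)).upd 2 3 1 (le_of_eq hx34)).upd 3 0 1 (le_of_eq hx41)).upd 3 2 1 (le_of_eq hx43)) ![1,1,1,1] (by decide) (by decide) 0 (by decide))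
      · -- 34=(1,2)
        exact False.elim (cert_false T ((skipEmb 2).trans (Function.Embedding.refl _)) (by norm_num) (fun _ => hall _) (((((((LB_zero T ((skipEmb 2).trans (Function.Embedding.refl _))).upd 0 3 1 (le_of_eq hx04)).upd 1 3 1 (le_of_eq hx14)).upd 2 3 1 (le_of_eq hx34)).upd 3 0 1 (le_of_eq hx40)).upd 3 1 1 (le_of_eq hx41)).upd 3 2 2 (le_of_eq hx43)) ![1,1,1,2] (by decide) (by decide) 0 (by decide))
      · -- 34=(2,1)
        exact False.elim (cert_false T ((skipEmb 2).trans (Function.Embedding.refl _)) (by norm_num) (fun _ => hall _) (((((((LB_zero T ((skipEmb 2).trans (Function.Embedding.refl _))).upd 0 3 1 (le_of_eq hx04)).upd 1 3 1 (le_of_eq hx14)).upd 2 3 2 (le_of_eq hx34)).upd 3 0 1 (le_of_eq hx40)).upd 3 1 1 (le_of_eq hx41)).upd 3 2 1 (le_of_eq hx43)) ![1,1,2,2] (by decide) (by decide) 0 (by decide))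
      · -- 34=(1,3)
        exact False.elim (cert_false T ((skipEmb 2).trans (Function.Embedding.refl _)) (by norm_num) (fun _ => hall _) (((((LB_zero T ((skipEmb 2).trans (Function.Embedding.refl _))).upd 1 3 1 (le_of_eq hx14)).upd 2 3 1 (le_of_eq hx34)).upd 3 1 1 (le_of_eq hx41)).upd 3 2 3 (le_of_eq hx43)) ![0,1,1,2] (by decide) (by decide) 1 (by decide))
      · -- 34=(3,1)
        exact False.elim (cert_false T ((skipEmb 2).trans (Function.Embedding.refl _)) (by norm_num) (fun _ => hall _) (((((((LB_zero T ((skipEmb 2).trans (Function.Embedding.refl _))).upd 0 3 1 (le_of_eq hx04)).upd 1 3 1 (le_of_eq hx14)).upd 2 3 3 (le_of_eq hx34)).upd 3 0 1 (le_of_eq hx40)).upd 3 1 1 (le_of_eq hx41)).upd 3 2 1 (le_of_eq hx43)) ![1,1,2,2] (by decide) (by decide) 0 (by decide))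
    · -- 24=(1,1)
      exact False.elim (cert_false T ((skipEmb 3).trans (Function.Embedding.refl _)) (by norm_num) (fun _ => hall _) (((((((LB_zero T ((skipEmb 3).trans (Function.Embedding.refl _))).upd 1 2 1 (le_of_eq hx12)).upd 1 3 1 (le_of_eq hx14)).upd 2 1 1 (le_of_eq hx21)).upd 2 3 1 (le_of_eq hx24)).upd 3 1 1 (le_of_eq hx41)).upd 3 2 1 (le_of_eq hx42)) ![0,1,1,1] (by decide) (by decide) 1 (by decide))
    · -- 24=(1,2)
      exact False.elim (cert_false T ((skipEmb 3).trans (Function.Embedding.refl _)) (by norm_num) (fun _ => hall _) (((((((LB_zero T ((skipEmb 3).trans (Function.Embedding.refl _))).upd 1 2 1 (le_of_eq hx12)).upd 1 3 1 (le_of_eq hx14)).upd 2 1 1 (le_of_eq hx21)).upd 2 3 1 (le_of_eq hx24)).upd 3 1 1 (le_of_eq hx41)).upd 3 2 2 (le_of_eq hx42)) ![0,1,1,1] (by decide) (by decide) 1 (by decide))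
    · -- 24=(2,1)
      exact False.elim (cert_false T ((skipEmb 3).trans (Function.Embedding.refl _)) (by norm_num) (fun _ => hall _) (((((((LB_zero T ((skipEmb 3).trans (Function.Embedding.refl _))).upd 1 2 1 (le_of_eq hx12)).upd 1 3 1 (le_of_eq hx14)).upd 2 1 1 (le_of_eq hx21)).upd 2 3 2 (le_of_eq hx24)).upd 3 1 1 (le_of_eq hx41)).upd 3 2 1 (le_of_eq hx42)) ![0,1,1,1] (by decide) (by decide) 1 (by decide))
    · -- 24=(1,3)
      exact False.elim (cert_false T ((skipEmb 3).trans (Function.Embedding.refl _)) (by norm_num) (fun _ => hall _) (((((((LB_zero T ((skipEmb 3).trans (Function.Embedding.refl _))).upd 1 2 1 (le_of_eq hx12)).upd 1 3 1 (le_of_eq hx14)).upd 2 1 1 (le_of_eq hx21)).upd 2 3 1 (le_of_eq hx24)).upd 3 1 1 (le_of_eq hx41)).upd 3 2 3 (le_of_eq hx42)) ![0,1,1,1] (by decide) (by decide) 1 (by decide))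
    · -- 24=(3,1)
      exact False.elim (cert_false T ((skipEmb 3).trans (Function.Embedding.refl _)) (by norm_num) (fun _ => hall _) (((((((LB_zero T ((skipEmb 3).trans (Function.Embedding.refl _))).upd 1 2 1 (le_of_eq hx12)).upd 1 3 1 (le_of_eq hx14)).upd 2 1 1 (le_of_eq hx21)).upd 2 3 3 (le_of_eq hx24)).upd 3 1 1 (le_of_eq hx41)).upd 3 2 1 (le_of_eq hx42)) ![0,1,1,1] (by decide) (by decide) 1 (by decide))
  · -- 14=(1,2)
    rcases d24 with ⟨rfl, rfl⟩ | ⟨rfl, rfl⟩ | ⟨rfl, rfl⟩ | ⟨rfl, rfl⟩ | ⟨rfl, rfl⟩ | ⟨rfl, rfl⟩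
    · -- 24=(0,0)
      rcases d34 with ⟨rfl, rfl⟩ | ⟨rfl, rfl⟩ | ⟨rfl, rfl⟩ | ⟨rfl, rfl⟩ | ⟨rfl, rfl⟩ | ⟨rfl, rfl⟩
      · -- 34=(0,0)
        refine ⟨(⟨![3, 2, 1, 4, 0], ![4, 2, 1, 0, 3], by decide, by decide⟩ : Equiv.Perm (Fin 5)), T.m 3, T.w 4, Or.inr (Or.inr (Or.inl ?_))⟩
        show T.m 3 = T.m 3 ∧ T.m 2 = 2 * T.m 3 ∧ T.m 1 = 3 * T.m 3 ∧ T.m 4 = 4 * T.m 3 ∧ T.m 0 = 2 * T.m 3 ∧ T.w 3 = 2 * T.w 4 ∧ T.w 2 = 2 * T.w 4 ∧ T.w 1 = 2 * T.w 4 ∧ T.w 4 = T.w 4 ∧ T.w 0 = T.w 4 ∧ T.a 3 3 = -4 * T.w 4 ∧ T.a 3 2 = 2 * T.w 4 ∧ T.a 3 1 = 0 ∧ T.a 3 4 = 0 ∧ T.a 3 0 = 0 ∧ T.a 2 2 = -4 * T.w 4 ∧ T.a 2 1 = 2 * T.w 4 ∧ T.a 2 4 = 0 ∧ T.a 2 0 = 0 ∧ T.a 1 1 = -4 * T.w 4 ∧ T.a 1 4 = 2 * T.w 4 ∧ T.a 1 0 = 0 ∧ T.a 4 4 = -2 * T.w 4 ∧ T.a 4 0 = T.w 4 ∧ T.a 0 0 = -2 * T.w 4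
        refine ⟨?_, ?_, ?_, ?_, ?_, ?_, ?_, ?_, ?_, ?_, ?_, ?_, ?_, ?_, ?_, ?_, ?_, ?_, ?_, ?_, ?_, ?_, ?_, ?_, ?_⟩ <;> omega
      · -- 34=(1,1)
        exact False.elim (cert_false T ((skipEmb 2).trans (Function.Embedding.refl _)) (by norm_num) (fun _ => hall _) (((((((LB_zero T ((skipEmb 2).trans (Function.Embedding.refl _))).upd 0 3 1 (le_of_eq hx04)).upd 1 3 1 (le_of_eq hx14)).upd 2 3 1 (le_of_eq hx34)).upd 3 0 1 (le_of_eq hx40)).upd 3 1 2 (le_of_eq hx41)).upd 3 2 1 (le_of_eq hx43)) ![1,1,1,2] (by decide) (by decide) 0 (by decide))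
      · -- 34=(1,2)
        exact False.elim (cert_false T ((skipEmb 2).trans (Function.Embedding.refl _)) (by norm_num) (fun _ => hall _) (((((LB_zero T ((skipEmb 2).trans (Function.Embedding.refl _))).upd 1 3 1 (le_of_eq hx14)).upd 2 3 1 (le_of_eq hx34)).upd 3 1 2 (le_of_eq hx41)).upd 3 2 2 (le_of_eq hx43)) ![0,1,1,2] (by decide) (by decide) 1 (by decide))
      · -- 34=(2,1)
        exact False.elim (cert_false T ((skipEmb 2).trans (Function.Embedding.refl _)) (by norm_num) (fun _ => hall _) (((((LB_zero T ((skipEmb 2).trans (Function.Embedding.refl _))).upd 1 3 1 (le_of_eq hx14)).upd 2 3 2 (le_of_eq hx34)).upd 3 1 2 (le_of_eq hx41)).upd 3 2 1 (le_of_eq hx43)) ![0,1,2,2] (by decide) (by decide) 1 (by decide))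
      · -- 34=(1,3)
        exact False.elim (cert_false T ((skipEmb 2).trans (Function.Embedding.refl _)) (by norm_num) (fun _ => hall _) (((((LB_zero T ((skipEmb 2).trans (Function.Embedding.refl _))).upd 1 3 1 (le_of_eq hx14)).upd 2 3 1 (le_of_eq hx34)).upd 3 1 2 (le_of_eq hx41)).upd 3 2 3 (le_of_eq hx43)) ![0,1,1,2] (by decide) (by decide) 1 (by decide))
      · -- 34=(3,1)
        exact False.elim (cert_false T ((skipEmb 2).trans (Function.Embedding.refl _)) (by norm_num) (fun _ => hall _) (((((LB_zero T ((skipEmb 2).trans (Function.Embedding.refl _))).upd 1 3 1 (le_of_eq hx14)).upd 2 3 3 (le_of_eq hx34)).upd 3 1 2 (le_of_eq hx41)).upd 3 2 1 (le_of_eq hx43)) ![0,1,2,2] (by decide) (by decide) 1 (by decide))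
    · -- 24=(1,1)
      exact False.elim (cert_false T ((skipEmb 3).trans (Function.Embedding.refl _)) (by norm_num) (fun _ => hall _) (((((((LB_zero T ((skipEmb 3).trans (Function.Embedding.refl _))).upd 1 2 1 (le_of_eq hx12)).upd 1 3 1 (le_of_eq hx14)).upd 2 1 1 (le_of_eq hx21)).upd 2 3 1 (le_of_eq hx24)).upd 3 1 2 (le_of_eq hx41)).upd 3 2 1 (le_of_eq hx42)) ![0,1,1,1] (by decide) (by decide) 1 (by decide))
    · -- 24=(1,2)
      exact False.elim (cert_false T ((skipEmb 3).trans (Function.Embedding.refl _)) (by norm_num) (fun _ => hall _) (((((((LB_zero T ((skipEmb 3).trans (Function.Embedding.refl _))).upd 1 2 1 (le_of_eq hx12)).upd 1 3 1 (le_of_eq hx14)).upd 2 1 1 (le_of_eq hx21)).upd 2 3 1 (le_of_eq hx24)).upd 3 1 2 (le_of_eq hx41)).upd 3 2 2 (le_of_eq hx42)) ![0,1,1,1] (by decide) (by decide) 1 (by decide))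
    · -- 24=(2,1)
      exact False.elim (cert_false T ((skipEmb 3).trans (Function.Embedding.refl _)) (by norm_num) (fun _ => hall _) (((((((LB_zero T ((skipEmb 3).trans (Function.Embedding.refl _))).upd 1 2 1 (le_of_eq hx12)).upd 1 3 1 (le_of_eq hx14)).upd 2 1 1 (le_of_eq hx21)).upd 2 3 2 (le_of_eq hx24)).upd 3 1 2 (le_of_eq hx41)).upd 3 2 1 (le_of_eq hx42)) ![0,1,1,1] (by decide) (by decide) 1 (by decide))
    · -- 24=(1,3)
      exact False.elim (cert_false T ((skipEmb 3).trans (Function.Embedding.refl _)) (by norm_num) (fun _ => hall _) (((((((LB_zero T ((skipEmb 3).trans (Function.Embedding.refl _))).upd 1 2 1 (le_of_eq hx12)).upd 1 3 1 (le_of_eq hx14)).upd 2 1 1 (le_of_eq hx21)).upd 2 3 1 (le_of_eq hx24)).upd 3 1 2 (le_of_eq hx41)).upd 3 2 3 (le_of_eq hx42)) ![0,1,1,1] (by decide) (by decide) 1 (by decide))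
    · -- 24=(3,1)
      exact False.elim (cert_false T ((skipEmb 3).trans (Function.Embedding.refl _)) (by norm_num) (fun _ => hall _) (((((((LB_zero T ((skipEmb 3).trans (Function.Embedding.refl _))).upd 1 2 1 (le_of_eq hx12)).upd 1 3 1 (le_of_eq hx14)).upd 2 1 1 (le_of_eq hx21)).upd 2 3 3 (le_of_eq hx24)).upd 3 1 2 (le_of_eq hx41)).upd 3 2 1 (le_of_eq hx42)) ![0,1,1,1] (by decide) (by decide) 1 (by decide))
  · -- 14=(2,1)
    rcases d24 with ⟨rfl, rfl⟩ | ⟨rfl, rfl⟩ | ⟨rfl, rfl⟩ | ⟨rfl, rfl⟩ | ⟨rfl, rfl⟩ | ⟨rfl, rfl⟩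
    · -- 24=(0,0)
      rcases d34 with ⟨rfl, rfl⟩ | ⟨rfl, rfl⟩ | ⟨rfl, rfl⟩ | ⟨rfl, rfl⟩ | ⟨rfl, rfl⟩ | ⟨rfl, rfl⟩
      · -- 34=(0,0)
        refine ⟨(⟨![3, 2, 1, 4, 0], ![4, 2, 1, 0, 3], by decide, by decide⟩ : Equiv.Perm (Fin 5)), T.m 3, T.w 3, Or.inr (Or.inl ?_)⟩
        show T.m 3 = T.m 3 ∧ T.m 2 = 2 * T.m 3 ∧ T.m 1 = 3 * T.m 3 ∧ T.m 4 = 2 * T.m 3 ∧ T.m 0 = T.m 3 ∧ T.w 3 = T.w 3 ∧ T.w 2 = T.w 3 ∧ T.w 1 = T.w 3 ∧ T.w 4 = 2 * T.w 3 ∧ T.w 0 = 2 * T.w 3 ∧ T.a 3 3 = -2 * T.w 3 ∧ T.a 3 2 = T.w 3 ∧ T.a 3 1 = 0 ∧ T.a 3 4 = 0 ∧ T.a 3 0 = 0 ∧ T.a 2 2 = -2 * T.w 3 ∧ T.a 2 1 = T.w 3 ∧ T.a 2 4 = 0 ∧ T.a 2 0 = 0 ∧ T.a 1 1 = -2 * T.w 3 ∧ T.a 1 4 = 2 * T.w 3 ∧ T.a 1 0 = 0 ∧ T.a 4 4 = -4 * T.w 3 ∧ T.a 4 0 = 2 * T.w 3 ∧ T.a 0 0 = -4 * T.w 3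
        refine ⟨?_, ?_, ?_, ?_, ?_, ?_, ?_, ?_, ?_, ?_, ?_, ?_, ?_, ?_, ?_, ?_, ?_, ?_, ?_, ?_, ?_, ?_, ?_, ?_, ?_⟩ <;> omega
      · -- 34=(1,1)
        exact False.elim (cert_false T ((skipEmb 2).trans (Function.Embedding.refl _)) (by norm_num) (fun _ => hall _) (((((((LB_zero T ((skipEmb 2).trans (Function.Embedding.refl _))).upd 0 3 1 (le_of_eq hx04)).upd 1 3 2 (le_of_eq hx14)).upd 2 3 1 (le_of_eq hx34)).upd 3 0 1 (le_of_eq hx40)).upd 3 1 1 (le_of_eq hx41)).upd 3 2 1 (le_of_eq hx43)) ![1,2,1,2] (by decide) (by decide) 0 (by decide))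
      · -- 34=(1,2)
        exact False.elim (cert_false T ((skipEmb 2).trans (Function.Embedding.refl _)) (by norm_num) (fun _ => hall _) (((((LB_zero T ((skipEmb 2).trans (Function.Embedding.refl _))).upd 1 3 2 (le_of_eq hx14)).upd 2 3 1 (le_of_eq hx34)).upd 3 1 1 (le_of_eq hx41)).upd 3 2 2 (le_of_eq hx43)) ![0,2,1,2] (by decide) (by decide) 1 (by decide))
      · -- 34=(2,1)
        exact False.elim (cert_false T ((skipEmb 2).trans (Function.Embedding.refl _)) (by norm_num) (fun _ => hall _) (((((LB_zero T ((skipEmb 2).trans (Function.Embedding.refl _))).upd 1 3 2 (le_of_eq hx14)).upd 2 3 2 (le_of_eq hx34)).upd 3 1 1 (le_of_eq hx41)).upd 3 2 1 (le_of_eq hx43)) ![0,1,1,1] (by decide) (by decide) 1 (by decide))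
      · -- 34=(1,3)
        exact False.elim (cert_false T ((skipEmb 2).trans (Function.Embedding.refl _)) (by norm_num) (fun _ => hall _) (((((LB_zero T ((skipEmb 2).trans (Function.Embedding.refl _))).upd 1 3 2 (le_of_eq hx14)).upd 2 3 1 (le_of_eq hx34)).upd 3 1 1 (le_of_eq hx41)).upd 3 2 3 (le_of_eq hx43)) ![0,1,1,2] (by decide) (by decide) 1 (by decide))
      · -- 34=(3,1)
        exact False.elim (cert_false T ((skipEmb 2).trans (Function.Embedding.refl _)) (by norm_num) (fun _ => hall _) (((((LB_zero T ((skipEmb 2).trans (Function.Embedding.refl _))).upd 1 3 2 (le_of_eq hx14)).upd 2 3 3 (le_of_eq hx34)).upd 3 1 1 (le_of_eq hx41)).upd 3 2 1 (le_of_eq hx43)) ![0,1,1,1] (by decide) (by decide) 1 (by decide))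
    · -- 24=(1,1)
      exact False.elim (cert_false T ((skipEmb 3).trans (Function.Embedding.refl _)) (by norm_num) (fun _ => hall _) (((((((LB_zero T ((skipEmb 3).trans (Function.Embedding.refl _))).upd 1 2 1 (le_of_eq hx12)).upd 1 3 2 (le_of_eq hx14)).upd 2 1 1 (le_of_eq hx21)).upd 2 3 1 (le_of_eq hx24)).upd 3 1 1 (le_of_eq hx41)).upd 3 2 1 (le_of_eq hx42)) ![0,1,1,1] (by decide) (by decide) 1 (by decide))
    · -- 24=(1,2)
      exact False.elim (cert_false T ((skipEmb 3).trans (Function.Embedding.refl _)) (by norm_num) (fun _ => hall _) (((((((LB_zero T ((skipEmb 3).trans (Function.Embedding.refl _))).upd 1 2 1 (le_of_eq hx12)).upd 1 3 2 (le_of_eq hx14)).upd 2 1 1 (le_of_eq hx21)).upd 2 3 1 (le_of_eq hx24)).upd 3 1 1 (le_of_eq hx41)).upd 3 2 2 (le_of_eq hx42)) ![0,1,1,1] (by decide) (by decide) 1 (by decide))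
    · -- 24=(2,1)
      exact False.elim (cert_false T ((skipEmb 3).trans (Function.Embedding.refl _)) (by norm_num) (fun _ => hall _) (((((((LB_zero T ((skipEmb 3).trans (Function.Embedding.refl _))).upd 1 2 1 (le_of_eq hx12)).upd 1 3 2 (le_of_eq hx14)).upd 2 1 1 (le_of_eq hx21)).upd 2 3 2 (le_of_eq hx24)).upd 3 1 1 (le_of_eq hx41)).upd 3 2 1 (le_of_eq hx42)) ![0,1,1,1] (by decide) (by decide) 1 (by decide))
    · -- 24=(1,3)
      exact False.elim (cert_false T ((skipEmb 3).trans (Function.Embedding.refl _)) (by norm_num) (fun _ => hall _) (((((((LB_zero T ((skipEmb 3).trans (Function.Embedding.refl _))).upd 1 2 1 (le_of_eq hx12)).upd 1 3 2 (le_of_eq hx14)).upd 2 1 1 (le_of_eq hx21)).upd 2 3 1 (le_of_eq hx24)).upd 3 1 1 (le_of_eq hx41)).upd 3 2 3 (le_of_eq hx42)) ![0,1,1,1] (by decide) (by decide) 1 (by decide))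
    · -- 24=(3,1)
      exact False.elim (cert_false T ((skipEmb 3).trans (Function.Embedding.refl _)) (by norm_num) (fun _ => hall _) (((((((LB_zero T ((skipEmb 3).trans (Function.Embedding.refl _))).upd 1 2 1 (le_of_eq hx12)).upd 1 3 2 (le_of_eq hx14)).upd 2 1 1 (le_of_eq hx21)).upd 2 3 3 (le_of_eq hx24)).upd 3 1 1 (le_of_eq hx41)).upd 3 2 1 (le_of_eq hx42)) ![0,1,1,1] (by decide) (by decide) 1 (by decide))
  · -- 14=(1,3)
    exact False.elim (cert_false T ((skipEmb 3).trans (Function.Embedding.refl _)) (by norm_num) (fun _ => hall _) (((((LB_zero T ((skipEmb 3).trans (Function.Embedding.refl _))).upd 0 3 1 (le_of_eq hx04)).upd 1 3 1 (le_of_eq hx14)).upd 3 0 1 (le_of_eq hx40)).upd 3 1 3 (le_of_eq hx41)) ![1,1,0,2] (by decide) (by decide) 0 (by decide))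
  · -- 14=(3,1)
    exact False.elim (cert_false T ((skipEmb 3).trans (Function.Embedding.refl _)) (by norm_num) (fun _ => hall _) (((((LB_zero T ((skipEmb 3).trans (Function.Embedding.refl _))).upd 1 2 1 (le_of_eq hx12)).upd 1 3 3 (le_of_eq hx14)).upd 2 1 1 (le_of_eq hx21)).upd 3 1 1 (le_of_eq hx41)) ![0,2,1,1] (by decide) (by decide) 1 (by decide))

theorem case96 (T : NumericalType 5) (hall : ∀ i, T.IsMinusTwo i) (d : SData T)
    (h01 : N T (Function.Embedding.refl _) 0 1 = 0) (h10 : N T (Function.Embedding.refl _) 1 0 = 0)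
    (h02 : N T (Function.Embedding.refl _) 0 2 = 0) (h20 : N T (Function.Embedding.refl _) 2 0 = 0)
    (h12 : N T (Function.Embedding.refl _) 1 2 = 1) (h21 : N T (Function.Embedding.refl _) 2 1 = 1)
    (h03 : N T (Function.Embedding.refl _) 0 3 = 0) (h30 : N T (Function.Embedding.refl _) 3 0 = 0)
    (h13 : N T (Function.Embedding.refl _) 1 3 = 0) (h31 : N T (Function.Embedding.refl _) 3 1 = 0)
    (h23 : N T (Function.Embedding.refl _) 2 3 = 1) (h32 : N T (Function.Embedding.refl _) 3 2 = 1) :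
    Goal T := by
  unfold Goal
  have hd := d
  obtain ⟨x01, x02, x03, x04, x10, x12, x13, x14, x20, x21, x23, x24, x30, x31, x32, x34, x40, x41, x42, x43, hx01, hx02, hx03, hx04, hx10, hx12, hx13, hx14, hx20, hx21, hx23, hx24, hx30, hx31, hx32, hx34, hx40, hx41, hx42, hx43, hw0, hm0, hw1, hm1, hw2, hm2, hw3, hm3, hw4, hm4, a00, a01, a02, a03, a04, a11, a10, a12, a13, a14, a22, a20, a21, a23, a24, a33, a30, a31, a32, a34, a44, a40, a41, a42, a43, wN01, wN02, wN12, wN03, wN13, wN23, wN04, wN14, wN24, wN34, e0, e1, e2, e3, e4, d01, d02, d12, d03, d13, d23, d04, d14, d24, d34⟩ := d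
  obtain rfl : x01 = 0 := hx01.trans h01
  obtain rfl : x10 = 0 := hx10.trans h10
  obtain rfl : x02 = 0 := hx02.trans h02
  obtain rfl : x20 = 0 := hx20.trans h20
  obtain rfl : x12 = 1 := hx12.trans h12
  obtain rfl : x21 = 1 := hx21.trans h21
  obtain rfl : x03 = 0 := hx03.trans h03
  obtain rfl : x30 = 0 := hx30.trans h30
  obtain rfl : x13 = 0 := hx13.trans h13
  obtain rfl : x31 = 0 := hx31.trans h31
  obtain rfl : x23 = 1 := hx23.trans h23
  obtain rfl : x32 = 1 := hx32.trans h32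
  rcases d04 with ⟨rfl, rfl⟩ | ⟨rfl, rfl⟩ | ⟨rfl, rfl⟩ | ⟨rfl, rfl⟩ | ⟨rfl, rfl⟩ | ⟨rfl, rfl⟩
  · -- 04=(0,0)
    exact case97 T hall hd hx01.symm hx10.symm hx02.symm hx20.symm hx12.symm hx21.symm hx03.symm hx30.symm hx13.symm hx31.symm hx23.symm hx32.symm hx04.symm hx40.symm
  · -- 04=(1,1)
    exact case98 T hall hd hx01.symm hx10.symm hx02.symm hx20.symm hx12.symm hx21.symm hx03.symm hx30.symm hx13.symm hx31.symm hx23.symm hx32.symm hx04.symm hx40.symm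
  · -- 04=(1,2)
    rcases d14 with ⟨rfl, rfl⟩ | ⟨rfl, rfl⟩ | ⟨rfl, rfl⟩ | ⟨rfl, rfl⟩ | ⟨rfl, rfl⟩ | ⟨rfl, rfl⟩
    · -- 14=(0,0)
      rcases d24 with ⟨rfl, rfl⟩ | ⟨rfl, rfl⟩ | ⟨rfl, rfl⟩ | ⟨rfl, rfl⟩ | ⟨rfl, rfl⟩ | ⟨rfl, rfl⟩
      · -- 24=(0,0)
        rcases d34 with ⟨rfl, rfl⟩ | ⟨rfl, rfl⟩ | ⟨rfl, rfl⟩ | ⟨rfl, rfl⟩ | ⟨rfl, rfl⟩ | ⟨rfl, rfl⟩
        · -- 34=(0,0)
          exfalso; omega
        · -- 34=(1,1)
          exfalso; omega
        · -- 34=(1,2)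
          exact False.elim (cert_false T ((skipEmb 2).trans (Function.Embedding.refl _)) (by norm_num) (fun _ => hall _) (((((LB_zero T ((skipEmb 2).trans (Function.Embedding.refl _))).upd 0 3 1 (le_of_eq hx04)).upd 2 3 1 (le_of_eq hx34)).upd 3 0 2 (le_of_eq hx40)).upd 3 2 2 (le_of_eq hx43)) ![1,0,1,2] (by decide) (by decide) 0 (by decide))
        · -- 34=(2,1)
          exact False.elim (cert_false T ((skipEmb 2).trans (Function.Embedding.refl _)) (by norm_num) (fun _ => hall _) (((((LB_zero T ((skipEmb 2).trans (Function.Embedding.refl _))).upd 0 3 1 (le_of_eq hx04)).upd 2 3 2 (le_of_eq hx34)).upd 3 0 2 (le_of_eq hx40)).upd 3 2 1 (le_of_eq hx43)) ![1,0,2,2] (by decide) (by decide) 0 (by decide))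
        · -- 34=(1,3)
          exact False.elim (cert_false T ((skipEmb 2).trans (Function.Embedding.refl _)) (by norm_num) (fun _ => hall _) (((((LB_zero T ((skipEmb 2).trans (Function.Embedding.refl _))).upd 0 3 1 (le_of_eq hx04)).upd 2 3 1 (le_of_eq hx34)).upd 3 0 2 (le_of_eq hx40)).upd 3 2 3 (le_of_eq hx43)) ![1,0,1,2] (by decide) (by decide) 0 (by decide))
        · -- 34=(3,1)
          exact False.elim (cert_false T ((skipEmb 2).trans (Function.Embedding.refl _)) (by norm_num) (fun _ => hall _) (((((LB_zero T ((skipEmb 2).trans (Function.Embedding.refl _))).upd 0 3 1 (le_of_eq hx04)).upd 2 3 3 (le_of_eq hx34)).upd 3 0 2 (le_of_eq hx40)).upd 3 2 1 (le_of_eq hx43)) ![1,0,2,2] (by decide) (by decide) 0 (by decide))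
      · -- 24=(1,1)
        rcases d34 with ⟨rfl, rfl⟩ | ⟨rfl, rfl⟩ | ⟨rfl, rfl⟩ | ⟨rfl, rfl⟩ | ⟨rfl, rfl⟩ | ⟨rfl, rfl⟩
        · -- 34=(0,0)
          refine ⟨(⟨![0, 4, 2, 1, 3], ![0, 3, 2, 4, 1], by decide, by decide⟩ : Equiv.Perm (Fin 5)), T.m 0, T.w 4, Or.inr (Or.inr (Or.inr (Or.inr (Or.inr (Or.inr (Or.inr (Or.inl ?_)))))))⟩
          show T.m 0 = T.m 0 ∧ T.m 4 = 2 * T.m 0 ∧ T.m 2 = 2 * T.m 0 ∧ T.m 1 = T.m 0 ∧ T.m 3 = T.m 0 ∧ T.w 0 = 2 * T.w 4 ∧ T.w 4 = T.w 4 ∧ T.w 2 = T.w 4 ∧ T.w 1 = T.w 4 ∧ T.w 3 = T.w 4 ∧ T.a 0 0 = -4 * T.w 4 ∧ T.a 0 4 = 2 * T.w 4 ∧ T.a 0 2 = 0 ∧ T.a 0 1 = 0 ∧ T.a 0 3 = 0 ∧ T.a 4 4 = -2 * T.w 4 ∧ T.a 4 2 = T.w 4 ∧ T.a 4 1 = 0 ∧ T.a 4 3 = 0 ∧ T.a 2 2 = -2 * T.w 4 ∧ T.a 2 1 = T.w 4 ∧ T.a 2 3 = T.w 4 ∧ T.a 1 1 = -2 * T.w 4 ∧ T.a 1 3 = 0 ∧ T.a 3 3 = -2 * T.w 4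
          refine ⟨?_, ?_, ?_, ?_, ?_, ?_, ?_, ?_, ?_, ?_, ?_, ?_, ?_, ?_, ?_, ?_, ?_, ?_, ?_, ?_, ?_, ?_, ?_, ?_, ?_⟩ <;> omega
        · -- 34=(1,1)
          exact False.elim (cert_false T ((skipEmb 1).trans (Function.Embedding.refl _)) (by norm_num) (fun _ => hall _) (((((((LB_zero T ((skipEmb 1).trans (Function.Embedding.refl _))).upd 1 2 1 (le_of_eq hx23)).upd 1 3 1 (le_of_eq hx24)).upd 2 1 1 (le_of_eq hx32)).upd 2 3 1 (le_of_eq hx34)).upd 3 1 1 (le_of_eq hx42)).upd 3 2 1 (le_of_eq hx43)) ![0,1,1,1] (by decide) (by decide) 1 (by decide))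
        · -- 34=(1,2)
          exact False.elim (cert_false T ((skipEmb 2).trans (Function.Embedding.refl _)) (by norm_num) (fun _ => hall _) (((((LB_zero T ((skipEmb 2).trans (Function.Embedding.refl _))).upd 0 3 1 (le_of_eq hx04)).upd 2 3 1 (le_of_eq hx34)).upd 3 0 2 (le_of_eq hx40)).upd 3 2 2 (le_of_eq hx43)) ![1,0,1,2] (by decide) (by decide) 0 (by decide))
        · -- 34=(2,1)
          exact False.elim (cert_false T ((skipEmb 2).trans (Function.Embedding.refl _)) (by norm_num) (fun _ => hall _) (((((LB_zero T ((skipEmb 2).trans (Function.Embedding.refl _))).upd 0 3 1 (le_of_eq hx04)).upd 2 3 2 (le_of_eq hx34)).upd 3 0 2 (le_of_eq hx40)).upd 3 2 1 (le_of_eq hx43)) ![1,0,2,2] (by decide) (by decide) 0 (by decide))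
        · -- 34=(1,3)
          exact False.elim (cert_false T ((skipEmb 2).trans (Function.Embedding.refl _)) (by norm_num) (fun _ => hall _) (((((LB_zero T ((skipEmb 2).trans (Function.Embedding.refl _))).upd 0 3 1 (le_of_eq hx04)).upd 2 3 1 (le_of_eq hx34)).upd 3 0 2 (le_of_eq hx40)).upd 3 2 3 (le_of_eq hx43)) ![1,0,1,2] (by decide) (by decide) 0 (by decide))
        · -- 34=(3,1)
          exact False.elim (cert_false T ((skipEmb 2).trans (Function.Embedding.refl _)) (by norm_num) (fun _ => hall _) (((((LB_zero T ((skipEmb 2).trans (Function.Embedding.refl _))).upd 0 3 1 (le_of_eq hx04)).upd 2 3 3 (le_of_eq hx34)).upd 3 0 2 (le_of_eq hx40)).upd 3 2 1 (le_of_eq hx43)) ![1,0,2,2] (by decide) (by decide) 0 (by decide))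
      · -- 24=(1,2)
        exact False.elim (cert_false T ((skipEmb 3).trans (Function.Embedding.refl _)) (by norm_num) (fun _ => hall _) (((((LB_zero T ((skipEmb 3).trans (Function.Embedding.refl _))).upd 0 3 1 (le_of_eq hx04)).upd 2 3 1 (le_of_eq hx24)).upd 3 0 2 (le_of_eq hx40)).upd 3 2 2 (le_of_eq hx42)) ![1,0,1,2] (by decide) (by decide) 0 (by decide))
      · -- 24=(2,1)
        exact False.elim (cert_false T ((skipEmb 3).trans (Function.Embedding.refl _)) (by norm_num) (fun _ => hall _) (((((LB_zero T ((skipEmb 3).trans (Function.Embedding.refl _))).upd 0 3 1 (le_of_eq hx04)).upd 2 3 2 (le_of_eq hx24)).upd 3 0 2 (le_of_eq hx40)).upd 3 2 1 (le_of_eq hx42)) ![1,0,2,2] (by decide) (by decide) 0 (by decide))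
      · -- 24=(1,3)
        exact False.elim (cert_false T ((skipEmb 3).trans (Function.Embedding.refl _)) (by norm_num) (fun _ => hall _) (((((LB_zero T ((skipEmb 3).trans (Function.Embedding.refl _))).upd 0 3 1 (le_of_eq hx04)).upd 2 3 1 (le_of_eq hx24)).upd 3 0 2 (le_of_eq hx40)).upd 3 2 3 (le_of_eq hx42)) ![1,0,1,2] (by decide) (by decide) 0 (by decide))
      · -- 24=(3,1)
        exact False.elim (cert_false T ((skipEmb 3).trans (Function.Embedding.refl _)) (by norm_num) (fun _ => hall _) (((((LB_zero T ((skipEmb 3).trans (Function.Embedding.refl _))).upd 0 3 1 (le_of_eq hx04)).upd 2 3 3 (le_of_eq hx24)).upd 3 0 2 (le_of_eq hx40)).upd 3 2 1 (le_of_eq hx42)) ![1,0,2,2] (by decide) (by decide) 0 (by decide))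
    · -- 14=(1,1)
      rcases d24 with ⟨rfl, rfl⟩ | ⟨rfl, rfl⟩ | ⟨rfl, rfl⟩ | ⟨rfl, rfl⟩ | ⟨rfl, rfl⟩ | ⟨rfl, rfl⟩
      · -- 24=(0,0)
        rcases d34 with ⟨rfl, rfl⟩ | ⟨rfl, rfl⟩ | ⟨rfl, rfl⟩ | ⟨rfl, rfl⟩ | ⟨rfl, rfl⟩ | ⟨rfl, rfl⟩
        · -- 34=(0,0)
          exfalso; omega
        · -- 34=(1,1)
          exact False.elim (cert_false T ((skipEmb 2).trans (Function.Embedding.refl _)) (by norm_num) (fun _ => hall _) (((((((LB_zero T ((skipEmb 2).trans (Function.Embedding.refl _))).upd 0 3 1 (le_of_eq hx04)).upd 1 3 1 (le_of_eq hx14)).upd 2 3 1 (le_of_eq hx34)).upd 3 0 2 (le_of_eq hx40)).upd 3 1 1 (le_of_eq hx41)).upd 3 2 1 (le_of_eq hx43)) ![1,1,1,2] (by decide) (by decide) 0 (by decide))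
        · -- 34=(1,2)
          exact False.elim (cert_false T ((skipEmb 2).trans (Function.Embedding.refl _)) (by norm_num) (fun _ => hall _) (((((LB_zero T ((skipEmb 2).trans (Function.Embedding.refl _))).upd 0 3 1 (le_of_eq hx04)).upd 2 3 1 (le_of_eq hx34)).upd 3 0 2 (le_of_eq hx40)).upd 3 2 2 (le_of_eq hx43)) ![1,0,1,2] (by decide) (by decide) 0 (by decide))
        · -- 34=(2,1)
          exact False.elim (cert_false T ((skipEmb 2).trans (Function.Embedding.refl _)) (by norm_num) (fun _ => hall _) (((((LB_zero T ((skipEmb 2).trans (Function.Embedding.refl _))).upd 0 3 1 (le_of_eq hx04)).upd 2 3 2 (le_of_eq hx34)).upd 3 0 2 (le_of_eq hx40)).upd 3 2 1 (le_of_eq hx43)) ![1,0,2,2] (by decide) (by decide) 0 (by decide))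
        · -- 34=(1,3)
          exact False.elim (cert_false T ((skipEmb 2).trans (Function.Embedding.refl _)) (by norm_num) (fun _ => hall _) (((((LB_zero T ((skipEmb 2).trans (Function.Embedding.refl _))).upd 1 3 1 (le_of_eq hx14)).upd 2 3 1 (le_of_eq hx34)).upd 3 1 1 (le_of_eq hx41)).upd 3 2 3 (le_of_eq hx43)) ![0,1,1,2] (by decide) (by decide) 1 (by decide))
        · -- 34=(3,1)
          exact False.elim (cert_false T ((skipEmb 2).trans (Function.Embedding.refl _)) (by norm_num) (fun _ => hall _) (((((LB_zero T ((skipEmb 2).trans (Function.Embedding.refl _))).upd 0 3 1 (le_of_eq hx04)).upd 2 3 3 (le_of_eq hx34)).upd 3 0 2 (le_of_eq hx40)).upd 3 2 1 (le_of_eq hx43)) ![1,0,2,2] (by decide) (by decide) 0 (by decide))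
      · -- 24=(1,1)
        exact False.elim (cert_false T ((skipEmb 3).trans (Function.Embedding.refl _)) (by norm_num) (fun _ => hall _) (((((((LB_zero T ((skipEmb 3).trans (Function.Embedding.refl _))).upd 1 2 1 (le_of_eq hx12)).upd 1 3 1 (le_of_eq hx14)).upd 2 1 1 (le_of_eq hx21)).upd 2 3 1 (le_of_eq hx24)).upd 3 1 1 (le_of_eq hx41)).upd 3 2 1 (le_of_eq hx42)) ![0,1,1,1] (by decide) (by decide) 1 (by decide))
      · -- 24=(1,2)
        exact False.elim (cert_false T ((skipEmb 3).trans (Function.Embedding.refl _)) (by norm_num) (fun _ => hall _) (((((((LB_zero T ((skipEmb 3).trans (Function.Embedding.refl _))).upd 1 2 1 (le_of_eq hx12)).upd 1 3 1 (le_of_eq hx14)).upd 2 1 1 (le_of_eq hx21)).upd 2 3 1 (le_of_eq hx24)).upd 3 1 1 (le_of_eq hx41)).upd 3 2 2 (le_of_eq hx42)) ![0,1,1,1] (by decide) (by decide) 1 (by decide))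
      · -- 24=(2,1)
        exact False.elim (cert_false T ((skipEmb 3).trans (Function.Embedding.refl _)) (by norm_num) (fun _ => hall _) (((((((LB_zero T ((skipEmb 3).trans (Function.Embedding.refl _))).upd 1 2 1 (le_of_eq hx12)).upd 1 3 1 (le_of_eq hx14)).upd 2 1 1 (le_of_eq hx21)).upd 2 3 2 (le_of_eq hx24)).upd 3 1 1 (le_of_eq hx41)).upd 3 2 1 (le_of_eq hx42)) ![0,1,1,1] (by decide) (by decide) 1 (by decide))
      · -- 24=(1,3)
        exact False.elim (cert_false T ((skipEmb 3).trans (Function.Embedding.refl _)) (by norm_num) (fun _ => hall _) (((((((LB_zero T ((skipEmb 3).trans (Function.Embedding.refl _))).upd 1 2 1 (le_of_eq hx12)).upd 1 3 1 (le_of_eq hx14)).upd 2 1 1 (le_of_eq hx21)).upd 2 3 1 (le_of_eq hx24)).upd 3 1 1 (le_of_eq hx41)).upd 3 2 3 (le_of_eq hx42)) ![0,1,1,1] (by decide) (by decide) 1 (by decide))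
      · -- 24=(3,1)
        exact False.elim (cert_false T ((skipEmb 3).trans (Function.Embedding.refl _)) (by norm_num) (fun _ => hall _) (((((((LB_zero T ((skipEmb 3).trans (Function.Embedding.refl _))).upd 1 2 1 (le_of_eq hx12)).upd 1 3 1 (le_of_eq hx14)).upd 2 1 1 (le_of_eq hx21)).upd 2 3 3 (le_of_eq hx24)).upd 3 1 1 (le_of_eq hx41)).upd 3 2 1 (le_of_eq hx42)) ![0,1,1,1] (by decide) (by decide) 1 (by decide))
    · -- 14=(1,2)
      exact False.elim (cert_false T ((skipEmb 3).trans (Function.Embedding.refl _)) (by norm_num) (fun _ => hall _) (((((LB_zero T ((skipEmb 3).trans (Function.Embedding.refl _))).upd 0 3 1 (le_of_eq hx04)).upd 1 3 1 (le_of_eq hx14)).upd 3 0 2 (le_of_eq hx40)).upd 3 1 2 (le_of_eq hx41)) ![1,1,0,2] (by decide) (by decide) 0 (by decide))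
    · -- 14=(2,1)
      exact False.elim (cert_false T ((skipEmb 3).trans (Function.Embedding.refl _)) (by norm_num) (fun _ => hall _) (((((LB_zero T ((skipEmb 3).trans (Function.Embedding.refl _))).upd 0 3 1 (le_of_eq hx04)).upd 1 3 2 (le_of_eq hx14)).upd 3 0 2 (le_of_eq hx40)).upd 3 1 1 (le_of_eq hx41)) ![1,2,0,2] (by decide) (by decide) 0 (by decide))
    · -- 14=(1,3)
      exact False.elim (cert_false T ((skipEmb 3).trans (Function.Embedding.refl _)) (by norm_num) (fun _ => hall _) (((((LB_zero T ((skipEmb 3).trans (Function.Embedding.refl _))).upd 0 3 1 (le_of_eq hx04)).upd 1 3 1 (le_of_eq hx14)).upd 3 0 2 (le_of_eq hx40)).upd 3 1 3 (le_of_eq hx41)) ![1,1,0,2] (by decide) (by decide) 0 (by decide))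
    · -- 14=(3,1)
      exact False.elim (cert_false T ((skipEmb 3).trans (Function.Embedding.refl _)) (by norm_num) (fun _ => hall _) (((((LB_zero T ((skipEmb 3).trans (Function.Embedding.refl _))).upd 0 3 1 (le_of_eq hx04)).upd 1 3 3 (le_of_eq hx14)).upd 3 0 2 (le_of_eq hx40)).upd 3 1 1 (le_of_eq hx41)) ![1,2,0,2] (by decide) (by decide) 0 (by decide))
  · -- 04=(2,1)
    rcases d14 with ⟨rfl, rfl⟩ | ⟨rfl, rfl⟩ | ⟨rfl, rfl⟩ | ⟨rfl, rfl⟩ | ⟨rfl, rfl⟩ | ⟨rfl, rfl⟩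
    · -- 14=(0,0)
      rcases d24 with ⟨rfl, rfl⟩ | ⟨rfl, rfl⟩ | ⟨rfl, rfl⟩ | ⟨rfl, rfl⟩ | ⟨rfl, rfl⟩ | ⟨rfl, rfl⟩
      · -- 24=(0,0)
        rcases d34 with ⟨rfl, rfl⟩ | ⟨rfl, rfl⟩ | ⟨rfl, rfl⟩ | ⟨rfl, rfl⟩ | ⟨rfl, rfl⟩ | ⟨rfl, rfl⟩
        · -- 34=(0,0)
          exfalso; omega
        · -- 34=(1,1)
          exfalso; omega
        · -- 34=(1,2)
          exact False.elim (cert_false T ((skipEmb 2).trans (Function.Embedding.refl _)) (by norm_num) (fun _ => hall _) (((((LB_zero T ((skipEmb 2).trans (Function.Embedding.refl _))).upd 0 3 2 (le_of_eq hx04)).upd 2 3 1 (le_of_eq hx34)).upd 3 0 1 (le_of_eq hx40)).upd 3 2 2 (le_of_eq hx43)) ![2,0,1,2] (by decide) (by decide) 0 (by decide))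
        · -- 34=(2,1)
          exact False.elim (cert_false T ((skipEmb 2).trans (Function.Embedding.refl _)) (by norm_num) (fun _ => hall _) (((((LB_zero T ((skipEmb 2).trans (Function.Embedding.refl _))).upd 0 3 2 (le_of_eq hx04)).upd 2 3 2 (le_of_eq hx34)).upd 3 0 1 (le_of_eq hx40)).upd 3 2 1 (le_of_eq hx43)) ![1,0,1,1] (by decide) (by decide) 0 (by decide))
        · -- 34=(1,3)
          exact False.elim (cert_false T ((skipEmb 2).trans (Function.Embedding.refl _)) (by norm_num) (fun _ => hall _) (((((LB_zero T ((skipEmb 2).trans (Function.Embedding.refl _))).upd 0 3 2 (le_of_eq hx04)).upd 2 3 1 (le_of_eq hx34)).upd 3 0 1 (le_of_eq hx40)).upd 3 2 3 (le_of_eq hx43)) ![1,0,1,2] (by decide) (by decide) 0 (by decide))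
        · -- 34=(3,1)
          exact False.elim (cert_false T ((skipEmb 2).trans (Function.Embedding.refl _)) (by norm_num) (fun _ => hall _) (((((LB_zero T ((skipEmb 2).trans (Function.Embedding.refl _))).upd 0 3 2 (le_of_eq hx04)).upd 2 3 3 (le_of_eq hx34)).upd 3 0 1 (le_of_eq hx40)).upd 3 2 1 (le_of_eq hx43)) ![1,0,1,1] (by decide) (by decide) 0 (by decide))
      · -- 24=(1,1)
        rcases d34 with ⟨rfl, rfl⟩ | ⟨rfl, rfl⟩ | ⟨rfl, rfl⟩ | ⟨rfl, rfl⟩ | ⟨rfl, rfl⟩ | ⟨rfl, rfl⟩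
        · -- 34=(0,0)
          refine ⟨(⟨![0, 4, 2, 1, 3], ![0, 3, 2, 4, 1], by decide, by decide⟩ : Equiv.Perm (Fin 5)), T.m 1, T.w 0, Or.inr (Or.inr (Or.inr (Or.inr (Or.inr (Or.inr (Or.inr (Or.inr (?_))))))))⟩
          show T.m 0 = 2 * T.m 1 ∧ T.m 4 = 2 * T.m 1 ∧ T.m 2 = 2 * T.m 1 ∧ T.m 1 = T.m 1 ∧ T.m 3 = T.m 1 ∧ T.w 0 = T.w 0 ∧ T.w 4 = 2 * T.w 0 ∧ T.w 2 = 2 * T.w 0 ∧ T.w 1 = 2 * T.w 0 ∧ T.w 3 = 2 * T.w 0 ∧ T.a 0 0 = -2 * T.w 0 ∧ T.a 0 4 = 2 * T.w 0 ∧ T.a 0 2 = 0 ∧ T.a 0 1 = 0 ∧ T.a 0 3 = 0 ∧ T.a 4 4 = -4 * T.w 0 ∧ T.a 4 2 = 2 * T.w 0 ∧ T.a 4 1 = 0 ∧ T.a 4 3 = 0 ∧ T.a 2 2 = -4 * T.w 0 ∧ T.a 2 1 = 2 * T.w 0 ∧ T.a 2 3 = 2 * T.w 0 ∧ T.a 1 1 = -4 * T.w 0 ∧ T.a 1 3 = 0 ∧ T.a 3 3 = -4 * T.w 0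
          refine ⟨?_, ?_, ?_, ?_, ?_, ?_, ?_, ?_, ?_, ?_, ?_, ?_, ?_, ?_, ?_, ?_, ?_, ?_, ?_, ?_, ?_, ?_, ?_, ?_, ?_⟩ <;> omega
        · -- 34=(1,1)
          exact False.elim (cert_false T ((skipEmb 1).trans (Function.Embedding.refl _)) (by norm_num) (fun _ => hall _) (((((((LB_zero T ((skipEmb 1).trans (Function.Embedding.refl _))).upd 1 2 1 (le_of_eq hx23)).upd 1 3 1 (le_of_eq hx24)).upd 2 1 1 (le_of_eq hx32)).upd 2 3 1 (le_of_eq hx34)).upd 3 1 1 (le_of_eq hx42)).upd 3 2 1 (le_of_eq hx43)) ![0,1,1,1] (by decide) (by decide) 1 (by decide))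
        · -- 34=(1,2)
          exact False.elim (cert_false T ((skipEmb 2).trans (Function.Embedding.refl _)) (by norm_num) (fun _ => hall _) (((((LB_zero T ((skipEmb 2).trans (Function.Embedding.refl _))).upd 0 3 2 (le_of_eq hx04)).upd 2 3 1 (le_of_eq hx34)).upd 3 0 1 (le_of_eq hx40)).upd 3 2 2 (le_of_eq hx43)) ![2,0,1,2] (by decide) (by decide) 0 (by decide))
        · -- 34=(2,1)
          exact False.elim (cert_false T ((skipEmb 2).trans (Function.Embedding.refl _)) (by norm_num) (fun _ => hall _) (((((LB_zero T ((skipEmb 2).trans (Function.Embedding.refl _))).upd 0 3 2 (le_of_eq hx04)).upd 2 3 2 (le_of_eq hx34)).upd 3 0 1 (le_of_eq hx40)).upd 3 2 1 (le_of_eq hx43)) ![1,0,1,1] (by decide) (by decide) 0 (by decide))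
        · -- 34=(1,3)
          exact False.elim (cert_false T ((skipEmb 2).trans (Function.Embedding.refl _)) (by norm_num) (fun _ => hall _) (((((LB_zero T ((skipEmb 2).trans (Function.Embedding.refl _))).upd 0 3 2 (le_of_eq hx04)).upd 2 3 1 (le_of_eq hx34)).upd 3 0 1 (le_of_eq hx40)).upd 3 2 3 (le_of_eq hx43)) ![1,0,1,2] (by decide) (by decide) 0 (by decide))
        · -- 34=(3,1)
          exact False.elim (cert_false T ((skipEmb 2).trans (Function.Embedding.refl _)) (by norm_num) (fun _ => hall _) (((((LB_zero T ((skipEmb 2).trans (Function.Embedding.refl _))).upd 0 3 2 (le_of_eq hx04)).upd 2 3 3 (le_of_eq hx34)).upd 3 0 1 (le_of_eq hx40)).upd 3 2 1 (le_of_eq hx43)) ![1,0,1,1] (by decide) (by decide) 0 (by decide))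
      · -- 24=(1,2)
        exact False.elim (cert_false T ((skipEmb 3).trans (Function.Embedding.refl _)) (by norm_num) (fun _ => hall _) (((((LB_zero T ((skipEmb 3).trans (Function.Embedding.refl _))).upd 0 3 2 (le_of_eq hx04)).upd 2 3 1 (le_of_eq hx24)).upd 3 0 1 (le_of_eq hx40)).upd 3 2 2 (le_of_eq hx42)) ![2,0,1,2] (by decide) (by decide) 0 (by decide))
      · -- 24=(2,1)
        exact False.elim (cert_false T ((skipEmb 3).trans (Function.Embedding.refl _)) (by norm_num) (fun _ => hall _) (((((LB_zero T ((skipEmb 3).trans (Function.Embedding.refl _))).upd 0 3 2 (le_of_eq hx04)).upd 2 3 2 (le_of_eq hx24)).upd 3 0 1 (le_of_eq hx40)).upd 3 2 1 (le_of_eq hx42)) ![1,0,1,1] (by decide) (by decide) 0 (by decide))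
      · -- 24=(1,3)
        exact False.elim (cert_false T ((skipEmb 3).trans (Function.Embedding.refl _)) (by norm_num) (fun _ => hall _) (((((LB_zero T ((skipEmb 3).trans (Function.Embedding.refl _))).upd 0 3 2 (le_of_eq hx04)).upd 2 3 1 (le_of_eq hx24)).upd 3 0 1 (le_of_eq hx40)).upd 3 2 3 (le_of_eq hx42)) ![1,0,1,2] (by decide) (by decide) 0 (by decide))
      · -- 24=(3,1)
        exact False.elim (cert_false T ((skipEmb 3).trans (Function.Embedding.refl _)) (by norm_num) (fun _ => hall _) (((((LB_zero T ((skipEmb 3).trans (Function.Embedding.refl _))).upd 0 3 2 (le_of_eq hx04)).upd 2 3 3 (le_of_eq hx24)).upd 3 0 1 (le_of_eq hx40)).upd 3 2 1 (le_of_eq hx42)) ![1,0,1,1] (by decide) (by decide) 0 (by decide))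
    · -- 14=(1,1)
      rcases d24 with ⟨rfl, rfl⟩ | ⟨rfl, rfl⟩ | ⟨rfl, rfl⟩ | ⟨rfl, rfl⟩ | ⟨rfl, rfl⟩ | ⟨rfl, rfl⟩
      · -- 24=(0,0)
        rcases d34 with ⟨rfl, rfl⟩ | ⟨rfl, rfl⟩ | ⟨rfl, rfl⟩ | ⟨rfl, rfl⟩ | ⟨rfl, rfl⟩ | ⟨rfl, rfl⟩
        · -- 34=(0,0)
          exfalso; omega
        · -- 34=(1,1)
          exact False.elim (cert_false T ((skipEmb 2).trans (Function.Embedding.refl _)) (by norm_num) (fun _ => hall _) (((((((LB_zero T ((skipEmb 2).trans (Function.Embedding.refl _))).upd 0 3 2 (le_of_eq hx04)).upd 1 3 1 (le_of_eq hx14)).upd 2 3 1 (le_of_eq hx34)).upd 3 0 1 (le_of_eq hx40)).upd 3 1 1 (le_of_eq hx41)).upd 3 2 1 (le_of_eq hx43)) ![2,1,1,2] (by decide) (by decide) 0 (by decide))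
        · -- 34=(1,2)
          exact False.elim (cert_false T ((skipEmb 2).trans (Function.Embedding.refl _)) (by norm_num) (fun _ => hall _) (((((((LB_zero T ((skipEmb 2).trans (Function.Embedding.refl _))).upd 0 3 2 (le_of_eq hx04)).upd 1 3 1 (le_of_eq hx14)).upd 2 3 1 (le_of_eq hx34)).upd 3 0 1 (le_of_eq hx40)).upd 3 1 1 (le_of_eq hx41)).upd 3 2 2 (le_of_eq hx43)) ![1,1,1,2] (by decide) (by decide) 0 (by decide))
        · -- 34=(2,1)
          exact False.elim (cert_false T ((skipEmb 2).trans (Function.Embedding.refl _)) (by norm_num) (fun _ => hall _) (((((LB_zero T ((skipEmb 2).trans (Function.Embedding.refl _))).upd 0 3 2 (le_of_eq hx04)).upd 2 3 2 (le_of_eq hx34)).upd 3 0 1 (le_of_eq hx40)).upd 3 2 1 (le_of_eq hx43)) ![1,0,1,1] (by decide) (by decide) 0 (by decide))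
        · -- 34=(1,3)
          exact False.elim (cert_false T ((skipEmb 2).trans (Function.Embedding.refl _)) (by norm_num) (fun _ => hall _) (((((LB_zero T ((skipEmb 2).trans (Function.Embedding.refl _))).upd 1 3 1 (le_of_eq hx14)).upd 2 3 1 (le_of_eq hx34)).upd 3 1 1 (le_of_eq hx41)).upd 3 2 3 (le_of_eq hx43)) ![0,1,1,2] (by decide) (by decide) 1 (by decide))
        · -- 34=(3,1)
          exact False.elim (cert_false T ((skipEmb 2).trans (Function.Embedding.refl _)) (by norm_num) (fun _ => hall _) (((((LB_zero T ((skipEmb 2).trans (Function.Embedding.refl _))).upd 0 3 2 (le_of_eq hx04)).upd 2 3 3 (le_of_eq hx34)).upd 3 0 1 (le_of_eq hx40)).upd 3 2 1 (le_of_eq hx43)) ![1,0,1,1] (by decide) (by decide) 0 (by decide))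
      · -- 24=(1,1)
        exact False.elim (cert_false T ((skipEmb 3).trans (Function.Embedding.refl _)) (by norm_num) (fun _ => hall _) (((((((LB_zero T ((skipEmb 3).trans (Function.Embedding.refl _))).upd 1 2 1 (le_of_eq hx12)).upd 1 3 1 (le_of_eq hx14)).upd 2 1 1 (le_of_eq hx21)).upd 2 3 1 (le_of_eq hx24)).upd 3 1 1 (le_of_eq hx41)).upd 3 2 1 (le_of_eq hx42)) ![0,1,1,1] (by decide) (by decide) 1 (by decide))
      · -- 24=(1,2)
        exact False.elim (cert_false T ((skipEmb 3).trans (Function.Embedding.refl _)) (by norm_num) (fun _ => hall _) (((((((LB_zero T ((skipEmb 3).trans (Function.Embedding.refl _))).upd 1 2 1 (le_of_eq hx12)).upd 1 3 1 (le_of_eq hx14)).upd 2 1 1 (le_of_eq hx21)).upd 2 3 1 (le_of_eq hx24)).upd 3 1 1 (le_of_eq hx41)).upd 3 2 2 (le_of_eq hx42)) ![0,1,1,1] (by decide) (by decide) 1 (by decide))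
      · -- 24=(2,1)
        exact False.elim (cert_false T ((skipEmb 3).trans (Function.Embedding.refl _)) (by norm_num) (fun _ => hall _) (((((LB_zero T ((skipEmb 3).trans (Function.Embedding.refl _))).upd 0 3 2 (le_of_eq hx04)).upd 2 3 2 (le_of_eq hx24)).upd 3 0 1 (le_of_eq hx40)).upd 3 2 1 (le_of_eq hx42)) ![1,0,1,1] (by decide) (by decide) 0 (by decide))
      · -- 24=(1,3)
        exact False.elim (cert_false T ((skipEmb 3).trans (Function.Embedding.refl _)) (by norm_num) (fun _ => hall _) (((((((LB_zero T ((skipEmb 3).trans (Function.Embedding.refl _))).upd 1 2 1 (le_of_eq hx12)).upd 1 3 1 (le_of_eq hx14)).upd 2 1 1 (le_of_eq hx21)).upd 2 3 1 (le_of_eq hx24)).upd 3 1 1 (le_of_eq hx41)).upd 3 2 3 (le_of_eq hx42)) ![0,1,1,1] (by decide) (by decide) 1 (by decide))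
      · -- 24=(3,1)
        exact False.elim (cert_false T ((skipEmb 3).trans (Function.Embedding.refl _)) (by norm_num) (fun _ => hall _) (((((LB_zero T ((skipEmb 3).trans (Function.Embedding.refl _))).upd 0 3 2 (le_of_eq hx04)).upd 2 3 3 (le_of_eq hx24)).upd 3 0 1 (le_of_eq hx40)).upd 3 2 1 (le_of_eq hx42)) ![1,0,1,1] (by decide) (by decide) 0 (by decide))
    · -- 14=(1,2)
      exact False.elim (cert_false T ((skipEmb 3).trans (Function.Embedding.refl _)) (by norm_num) (fun _ => hall _) (((((LB_zero T ((skipEmb 3).trans (Function.Embedding.refl _))).upd 0 3 2 (le_of_eq hx04)).upd 1 3 1 (le_of_eq hx14)).upd 3 0 1 (le_of_eq hx40)).upd 3 1 2 (le_of_eq hx41)) ![2,1,0,2] (by decide) (by decide) 0 (by decide))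
    · -- 14=(2,1)
      exact False.elim (cert_false T ((skipEmb 3).trans (Function.Embedding.refl _)) (by norm_num) (fun _ => hall _) (((((LB_zero T ((skipEmb 3).trans (Function.Embedding.refl _))).upd 0 3 2 (le_of_eq hx04)).upd 1 3 2 (le_of_eq hx14)).upd 3 0 1 (le_of_eq hx40)).upd 3 1 1 (le_of_eq hx41)) ![1,1,0,1] (by decide) (by decide) 0 (by decide))
    · -- 14=(1,3)
      exact False.elim (cert_false T ((skipEmb 3).trans (Function.Embedding.refl _)) (by norm_num) (fun _ => hall _) (((((LB_zero T ((skipEmb 3).trans (Function.Embedding.refl _))).upd 0 3 2 (le_of_eq hx04)).upd 1 3 1 (le_of_eq hx14)).upd 3 0 1 (le_of_eq hx40)).upd 3 1 3 (le_of_eq hx41)) ![1,1,0,2] (by decide) (by decide) 0 (by decide))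
    · -- 14=(3,1)
      exact False.elim (cert_false T ((skipEmb 3).trans (Function.Embedding.refl _)) (by norm_num) (fun _ => hall _) (((((LB_zero T ((skipEmb 3).trans (Function.Embedding.refl _))).upd 0 3 2 (le_of_eq hx04)).upd 1 3 3 (le_of_eq hx14)).upd 3 0 1 (le_of_eq hx40)).upd 3 1 1 (le_of_eq hx41)) ![1,1,0,1] (by decide) (by decide) 0 (by decide))
  · -- 04=(1,3)
    rcases d14 with ⟨rfl, rfl⟩ | ⟨rfl, rfl⟩ | ⟨rfl, rfl⟩ | ⟨rfl, rfl⟩ | ⟨rfl, rfl⟩ | ⟨rfl, rfl⟩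
    · -- 14=(0,0)
      rcases d24 with ⟨rfl, rfl⟩ | ⟨rfl, rfl⟩ | ⟨rfl, rfl⟩ | ⟨rfl, rfl⟩ | ⟨rfl, rfl⟩ | ⟨rfl, rfl⟩
      · -- 24=(0,0)
        rcases d34 with ⟨rfl, rfl⟩ | ⟨rfl, rfl⟩ | ⟨rfl, rfl⟩ | ⟨rfl, rfl⟩ | ⟨rfl, rfl⟩ | ⟨rfl, rfl⟩
        · -- 34=(0,0)
          exfalso; omega
        · -- 34=(1,1)
          exact False.elim (cert_false T ((skipEmb 2).trans (Function.Embedding.refl _)) (by norm_num) (fun _ => hall _) (((((LB_zero T ((skipEmb 2).trans (Function.Embedding.refl _))).upd 0 3 1 (le_of_eq hx04)).upd 2 3 1 (le_of_eq hx34)).upd 3 0 3 (le_of_eq hx40)).upd 3 2 1 (le_of_eq hx43)) ![1,0,1,2] (by decide) (by decide) 0 (by decide))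
        · -- 34=(1,2)
          exact False.elim (cert_false T ((skipEmb 2).trans (Function.Embedding.refl _)) (by norm_num) (fun _ => hall _) (((((LB_zero T ((skipEmb 2).trans (Function.Embedding.refl _))).upd 0 3 1 (le_of_eq hx04)).upd 2 3 1 (le_of_eq hx34)).upd 3 0 3 (le_of_eq hx40)).upd 3 2 2 (le_of_eq hx43)) ![1,0,1,2] (by decide) (by decide) 0 (by decide))
        · -- 34=(2,1)
          exact False.elim (cert_false T ((skipEmb 2).trans (Function.Embedding.refl _)) (by norm_num) (fun _ => hall _) (((((LB_zero T ((skipEmb 2).trans (Function.Embedding.refl _))).upd 0 3 1 (le_of_eq hx04)).upd 2 3 2 (le_of_eq hx34)).upd 3 0 3 (le_of_eq hx40)).upd 3 2 1 (le_of_eq hx43)) ![1,0,1,2] (by decide) (by decide) 0 (by decide))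
        · -- 34=(1,3)
          exact False.elim (cert_false T ((skipEmb 2).trans (Function.Embedding.refl _)) (by norm_num) (fun _ => hall _) (((((LB_zero T ((skipEmb 2).trans (Function.Embedding.refl _))).upd 0 3 1 (le_of_eq hx04)).upd 2 3 1 (le_of_eq hx34)).upd 3 0 3 (le_of_eq hx40)).upd 3 2 3 (le_of_eq hx43)) ![1,0,1,2] (by decide) (by decide) 0 (by decide))
        · -- 34=(3,1)
          exact False.elim (cert_false T ((skipEmb 2).trans (Function.Embedding.refl _)) (by norm_num) (fun _ => hall _) (((((LB_zero T ((skipEmb 2).trans (Function.Embedding.refl _))).upd 0 3 1 (le_of_eq hx04)).upd 2 3 3 (le_of_eq hx34)).upd 3 0 3 (le_of_eq hx40)).upd 3 2 1 (le_of_eq hx43)) ![1,0,1,2] (by decide) (by decide) 0 (by decide))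
      · -- 24=(1,1)
        exact False.elim (cert_false T ((skipEmb 3).trans (Function.Embedding.refl _)) (by norm_num) (fun _ => hall _) (((((LB_zero T ((skipEmb 3).trans (Function.Embedding.refl _))).upd 0 3 1 (le_of_eq hx04)).upd 2 3 1 (le_of_eq hx24)).upd 3 0 3 (le_of_eq hx40)).upd 3 2 1 (le_of_eq hx42)) ![1,0,1,2] (by decide) (by decide) 0 (by decide))
      · -- 24=(1,2)
        exact False.elim (cert_false T ((skipEmb 3).trans (Function.Embedding.refl _)) (by norm_num) (fun _ => hall _) (((((LB_zero T ((skipEmb 3).trans (Function.Embedding.refl _))).upd 0 3 1 (le_of_eq hx04)).upd 2 3 1 (le_of_eq hx24)).upd 3 0 3 (le_of_eq hx40)).upd 3 2 2 (le_of_eq hx42)) ![1,0,1,2] (by decide) (by decide) 0 (by decide))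
      · -- 24=(2,1)
        exact False.elim (cert_false T ((skipEmb 3).trans (Function.Embedding.refl _)) (by norm_num) (fun _ => hall _) (((((LB_zero T ((skipEmb 3).trans (Function.Embedding.refl _))).upd 0 3 1 (le_of_eq hx04)).upd 2 3 2 (le_of_eq hx24)).upd 3 0 3 (le_of_eq hx40)).upd 3 2 1 (le_of_eq hx42)) ![1,0,1,2] (by decide) (by decide) 0 (by decide))
      · -- 24=(1,3)
        exact False.elim (cert_false T ((skipEmb 3).trans (Function.Embedding.refl _)) (by norm_num) (fun _ => hall _) (((((LB_zero T ((skipEmb 3).trans (Function.Embedding.refl _))).upd 0 3 1 (le_of_eq hx04)).upd 2 3 1 (le_of_eq hx24)).upd 3 0 3 (le_of_eq hx40)).upd 3 2 3 (le_of_eq hx42)) ![1,0,1,2] (by decide) (by decide) 0 (by decide))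
      · -- 24=(3,1)
        exact False.elim (cert_false T ((skipEmb 3).trans (Function.Embedding.refl _)) (by norm_num) (fun _ => hall _) (((((LB_zero T ((skipEmb 3).trans (Function.Embedding.refl _))).upd 0 3 1 (le_of_eq hx04)).upd 2 3 3 (le_of_eq hx24)).upd 3 0 3 (le_of_eq hx40)).upd 3 2 1 (le_of_eq hx42)) ![1,0,1,2] (by decide) (by decide) 0 (by decide))
    · -- 14=(1,1)
      exact False.elim (cert_false T ((skipEmb 3).trans (Function.Embedding.refl _)) (by norm_num) (fun _ => hall _) (((((LB_zero T ((skipEmb 3).trans (Function.Embedding.refl _))).upd 0 3 1 (le_of_eq hx04)).upd 1 3 1 (le_of_eq hx14)).upd 3 0 3 (le_of_eq hx40)).upd 3 1 1 (le_of_eq hx41)) ![1,1,0,2] (by decide) (by decide) 0 (by decide))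
    · -- 14=(1,2)
      exact False.elim (cert_false T ((skipEmb 3).trans (Function.Embedding.refl _)) (by norm_num) (fun _ => hall _) (((((LB_zero T ((skipEmb 3).trans (Function.Embedding.refl _))).upd 0 3 1 (le_of_eq hx04)).upd 1 3 1 (le_of_eq hx14)).upd 3 0 3 (le_of_eq hx40)).upd 3 1 2 (le_of_eq hx41)) ![1,1,0,2] (by decide) (by decide) 0 (by decide))
    · -- 14=(2,1)
      exact False.elim (cert_false T ((skipEmb 3).trans (Function.Embedding.refl _)) (by norm_num) (fun _ => hall _) (((((LB_zero T ((skipEmb 3).trans (Function.Embedding.refl _))).upd 0 3 1 (le_of_eq hx04)).upd 1 3 2 (le_of_eq hx14)).upd 3 0 3 (le_of_eq hx40)).upd 3 1 1 (le_of_eq hx41)) ![1,1,0,2] (by decide) (by decide) 0 (by decide))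
    · -- 14=(1,3)
      exact False.elim (cert_false T ((skipEmb 3).trans (Function.Embedding.refl _)) (by norm_num) (fun _ => hall _) (((((LB_zero T ((skipEmb 3).trans (Function.Embedding.refl _))).upd 0 3 1 (le_of_eq hx04)).upd 1 3 1 (le_of_eq hx14)).upd 3 0 3 (le_of_eq hx40)).upd 3 1 3 (le_of_eq hx41)) ![1,1,0,2] (by decide) (by decide) 0 (by decide))
    · -- 14=(3,1)
      exact False.elim (cert_false T ((skipEmb 3).trans (Function.Embedding.refl _)) (by norm_num) (fun _ => hall _) (((((LB_zero T ((skipEmb 3).trans (Function.Embedding.refl _))).upd 0 3 1 (le_of_eq hx04)).upd 1 3 3 (le_of_eq hx14)).upd 3 0 3 (le_of_eq hx40)).upd 3 1 1 (le_of_eq hx41)) ![1,1,0,2] (by decide) (by decide) 0 (by decide))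
  · -- 04=(3,1)
    rcases d14 with ⟨rfl, rfl⟩ | ⟨rfl, rfl⟩ | ⟨rfl, rfl⟩ | ⟨rfl, rfl⟩ | ⟨rfl, rfl⟩ | ⟨rfl, rfl⟩
    · -- 14=(0,0)
      rcases d24 with ⟨rfl, rfl⟩ | ⟨rfl, rfl⟩ | ⟨rfl, rfl⟩ | ⟨rfl, rfl⟩ | ⟨rfl, rfl⟩ | ⟨rfl, rfl⟩
      · -- 24=(0,0)
        rcases d34 with ⟨rfl, rfl⟩ | ⟨rfl, rfl⟩ | ⟨rfl, rfl⟩ | ⟨rfl, rfl⟩ | ⟨rfl, rfl⟩ | ⟨rfl, rfl⟩
        · -- 34=(0,0)
          exfalso; omega
        · -- 34=(1,1)
          exact False.elim (cert_false T ((skipEmb 2).trans (Function.Embedding.refl _)) (by norm_num) (fun _ => hall _) (((((LB_zero T ((skipEmb 2).trans (Function.Embedding.refl _))).upd 0 3 3 (le_of_eq hx04)).upd 2 3 1 (le_of_eq hx34)).upd 3 0 1 (le_of_eq hx40)).upd 3 2 1 (le_of_eq hx43)) ![3,0,1,2] (by decide) (by decide) 0 (by decide))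
        · -- 34=(1,2)
          exact False.elim (cert_false T ((skipEmb 2).trans (Function.Embedding.refl _)) (by norm_num) (fun _ => hall _) (((((LB_zero T ((skipEmb 2).trans (Function.Embedding.refl _))).upd 0 3 3 (le_of_eq hx04)).upd 2 3 1 (le_of_eq hx34)).upd 3 0 1 (le_of_eq hx40)).upd 3 2 2 (le_of_eq hx43)) ![2,0,1,2] (by decide) (by decide) 0 (by decide))
        · -- 34=(2,1)
          exact False.elim (cert_false T ((skipEmb 2).trans (Function.Embedding.refl _)) (by norm_num) (fun _ => hall _) (((((LB_zero T ((skipEmb 2).trans (Function.Embedding.refl _))).upd 0 3 3 (le_of_eq hx04)).upd 2 3 2 (le_of_eq hx34)).upd 3 0 1 (le_of_eq hx40)).upd 3 2 1 (le_of_eq hx43)) ![1,0,1,1] (by decide) (by decide) 0 (by decide))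
        · -- 34=(1,3)
          exact False.elim (cert_false T ((skipEmb 2).trans (Function.Embedding.refl _)) (by norm_num) (fun _ => hall _) (((((LB_zero T ((skipEmb 2).trans (Function.Embedding.refl _))).upd 0 3 3 (le_of_eq hx04)).upd 2 3 1 (le_of_eq hx34)).upd 3 0 1 (le_of_eq hx40)).upd 3 2 3 (le_of_eq hx43)) ![1,0,1,2] (by decide) (by decide) 0 (by decide))
        · -- 34=(3,1)
          exact False.elim (cert_false T ((skipEmb 2).trans (Function.Embedding.refl _)) (by norm_num) (fun _ => hall _) (((((LB_zero T ((skipEmb 2).trans (Function.Embedding.refl _))).upd 0 3 3 (le_of_eq hx04)).upd 2 3 3 (le_of_eq hx34)).upd 3 0 1 (le_of_eq hx40)).upd 3 2 1 (le_of_eq hx43)) ![1,0,1,1] (by decide) (by decide) 0 (by decide))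
      · -- 24=(1,1)
        exact False.elim (cert_false T ((skipEmb 3).trans (Function.Embedding.refl _)) (by norm_num) (fun _ => hall _) (((((LB_zero T ((skipEmb 3).trans (Function.Embedding.refl _))).upd 0 3 3 (le_of_eq hx04)).upd 2 3 1 (le_of_eq hx24)).upd 3 0 1 (le_of_eq hx40)).upd 3 2 1 (le_of_eq hx42)) ![3,0,1,2] (by decide) (by decide) 0 (by decide))
      · -- 24=(1,2)
        exact False.elim (cert_false T ((skipEmb 3).trans (Function.Embedding.refl _)) (by norm_num) (fun _ => hall _) (((((LB_zero T ((skipEmb 3).trans (Function.Embedding.refl _))).upd 0 3 3 (le_of_eq hx04)).upd 2 3 1 (le_of_eq hx24)).upd 3 0 1 (le_of_eq hx40)).upd 3 2 2 (le_of_eq hx42)) ![2,0,1,2] (by decide) (by decide) 0 (by decide))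
      · -- 24=(2,1)
        exact False.elim (cert_false T ((skipEmb 3).trans (Function.Embedding.refl _)) (by norm_num) (fun _ => hall _) (((((LB_zero T ((skipEmb 3).trans (Function.Embedding.refl _))).upd 0 3 3 (le_of_eq hx04)).upd 2 3 2 (le_of_eq hx24)).upd 3 0 1 (le_of_eq hx40)).upd 3 2 1 (le_of_eq hx42)) ![1,0,1,1] (by decide) (by decide) 0 (by decide))
      · -- 24=(1,3)
        exact False.elim (cert_false T ((skipEmb 3).trans (Function.Embedding.refl _)) (by norm_num) (fun _ => hall _) (((((LB_zero T ((skipEmb 3).trans (Function.Embedding.refl _))).upd 0 3 3 (le_of_eq hx04)).upd 2 3 1 (le_of_eq hx24)).upd 3 0 1 (le_of_eq hx40)).upd 3 2 3 (le_of_eq hx42)) ![1,0,1,2] (by decide) (by decide) 0 (by decide))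
      · -- 24=(3,1)
        exact False.elim (cert_false T ((skipEmb 3).trans (Function.Embedding.refl _)) (by norm_num) (fun _ => hall _) (((((LB_zero T ((skipEmb 3).trans (Function.Embedding.refl _))).upd 0 3 3 (le_of_eq hx04)).upd 2 3 3 (le_of_eq hx24)).upd 3 0 1 (le_of_eq hx40)).upd 3 2 1 (le_of_eq hx42)) ![1,0,1,1] (by decide) (by decide) 0 (by decide))
    · -- 14=(1,1)
      exact False.elim (cert_false T ((skipEmb 3).trans (Function.Embedding.refl _)) (by norm_num) (fun _ => hall _) (((((LB_zero T ((skipEmb 3).trans (Function.Embedding.refl _))).upd 0 3 3 (le_of_eq hx04)).upd 1 3 1 (le_of_eq hx14)).upd 3 0 1 (le_of_eq hx40)).upd 3 1 1 (le_of_eq hx41)) ![3,1,0,2] (by decide) (by decide) 0 (by decide))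
    · -- 14=(1,2)
      exact False.elim (cert_false T ((skipEmb 3).trans (Function.Embedding.refl _)) (by norm_num) (fun _ => hall _) (((((LB_zero T ((skipEmb 3).trans (Function.Embedding.refl _))).upd 0 3 3 (le_of_eq hx04)).upd 1 3 1 (le_of_eq hx14)).upd 3 0 1 (le_of_eq hx40)).upd 3 1 2 (le_of_eq hx41)) ![2,1,0,2] (by decide) (by decide) 0 (by decide))
    · -- 14=(2,1)
      exact False.elim (cert_false T ((skipEmb 3).trans (Function.Embedding.refl _)) (by norm_num) (fun _ => hall _) (((((LB_zero T ((skipEmb 3).trans (Function.Embedding.refl _))).upd 0 3 3 (le_of_eq hx04)).upd 1 3 2 (le_of_eq hx14)).upd 3 0 1 (le_of_eq hx40)).upd 3 1 1 (le_of_eq hx41)) ![1,1,0,1] (by decide) (by decide) 0 (by decide))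
    · -- 14=(1,3)
      exact False.elim (cert_false T ((skipEmb 3).trans (Function.Embedding.refl _)) (by norm_num) (fun _ => hall _) (((((LB_zero T ((skipEmb 3).trans (Function.Embedding.refl _))).upd 0 3 3 (le_of_eq hx04)).upd 1 3 1 (le_of_eq hx14)).upd 3 0 1 (le_of_eq hx40)).upd 3 1 3 (le_of_eq hx41)) ![1,1,0,2] (by decide) (by decide) 0 (by decide))
    · -- 14=(3,1)
      exact False.elim (cert_false T ((skipEmb 3).trans (Function.Embedding.refl _)) (by norm_num) (fun _ => hall _) (((((LB_zero T ((skipEmb 3).trans (Function.Embedding.refl _))).upd 0 3 3 (le_of_eq hx04)).upd 1 3 3 (le_of_eq hx14)).upd 3 0 1 (le_of_eq hx40)).upd 3 1 1 (le_of_eq hx41)) ![1,1,0,1] (by decide) (by decide) 0 (by decide))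

theorem case99 (T : NumericalType 5) (hall : ∀ i, T.IsMinusTwo i) (d : SData T)
    (h01 : N T (Function.Embedding.refl _) 0 1 = 0) (h10 : N T (Function.Embedding.refl _) 1 0 = 0)
    (h02 : N T (Function.Embedding.refl _) 0 2 = 0) (h20 : N T (Function.Embedding.refl _) 2 0 = 0)
    (h12 : N T (Function.Embedding.refl _) 1 2 = 1) (h21 : N T (Function.Embedding.refl _) 2 1 = 1)
    (h03 : N T (Function.Embedding.refl _) 0 3 = 0) (h30 : N T (Function.Embedding.refl _) 3 0 = 0)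
    (h13 : N T (Function.Embedding.refl _) 1 3 = 0) (h31 : N T (Function.Embedding.refl _) 3 1 = 0)
    (h23 : N T (Function.Embedding.refl _) 2 3 = 1) (h32 : N T (Function.Embedding.refl _) 3 2 = 2) :
    Goal T := by
  unfold Goal
  have hd := d
  obtain ⟨x01, x02, x03, x04, x10, x12, x13, x14, x20, x21, x23, x24, x30, x31, x32, x34, x40, x41, x42, x43, hx01, hx02, hx03, hx04, hx10, hx12, hx13, hx14, hx20, hx21, hx23, hx24, hx30, hx31, hx32, hx34, hx40, hx41, hx42, hx43, hw0, hm0, hw1, hm1, hw2, hm2, hw3, hm3, hw4, hm4, a00, a01, a02, a03, a04, a11, a10, a12, a13, a14, a22, a20, a21, a23, a24, a33, a30, a31, a32, a34, a44, a40, a41, a42, a43, wN01, wN02, wN12, wN03, wN13, wN23, wN04, wN14, wN24, wN34, e0, e1, e2, e3, e4, d01, d02, d12, d03, d13, d23, d04, d14, d24, d34⟩ := d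
  obtain rfl : x01 = 0 := hx01.trans h01
  obtain rfl : x10 = 0 := hx10.trans h10
  obtain rfl : x02 = 0 := hx02.trans h02
  obtain rfl : x20 = 0 := hx20.trans h20
  obtain rfl : x12 = 1 := hx12.trans h12
  obtain rfl : x21 = 1 := hx21.trans h21
  obtain rfl : x03 = 0 := hx03.trans h03
  obtain rfl : x30 = 0 := hx30.trans h30
  obtain rfl : x13 = 0 := hx13.trans h13
  obtain rfl : x31 = 0 := hx31.trans h31
  obtain rfl : x23 = 1 := hx23.trans h23
  obtain rfl : x32 = 2 := hx32.trans h32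
  rcases d04 with ⟨rfl, rfl⟩ | ⟨rfl, rfl⟩ | ⟨rfl, rfl⟩ | ⟨rfl, rfl⟩ | ⟨rfl, rfl⟩ | ⟨rfl, rfl⟩
  · -- 04=(0,0)
    rcases d14 with ⟨rfl, rfl⟩ | ⟨rfl, rfl⟩ | ⟨rfl, rfl⟩ | ⟨rfl, rfl⟩ | ⟨rfl, rfl⟩ | ⟨rfl, rfl⟩
    · -- 14=(0,0)
      rcases d24 with ⟨rfl, rfl⟩ | ⟨rfl, rfl⟩ | ⟨rfl, rfl⟩ | ⟨rfl, rfl⟩ | ⟨rfl, rfl⟩ | ⟨rfl, rfl⟩
      · -- 24=(0,0)
        rcases d34 with ⟨rfl, rfl⟩ | ⟨rfl, rfl⟩ | ⟨rfl, rfl⟩ | ⟨rfl, rfl⟩ | ⟨rfl, rfl⟩ | ⟨rfl, rfl⟩
        · -- 34=(0,0)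
          exfalso; omega
        · -- 34=(1,1)
          exfalso; omega
        · -- 34=(1,2)
          exact False.elim (cert_false T ((skipEmb 1).trans (Function.Embedding.refl _)) (by norm_num) (fun _ => hall _) (((((LB_zero T ((skipEmb 1).trans (Function.Embedding.refl _))).upd 1 2 1 (le_of_eq hx23)).upd 2 1 2 (le_of_eq hx32)).upd 2 3 1 (le_of_eq hx34)).upd 3 2 2 (le_of_eq hx43)) ![0,1,2,2] (by decide) (by decide) 1 (by decide))
        · -- 34=(2,1)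
          exact False.elim (cert_false T ((skipEmb 1).trans (Function.Embedding.refl _)) (by norm_num) (fun _ => hall _) (((((LB_zero T ((skipEmb 1).trans (Function.Embedding.refl _))).upd 1 2 1 (le_of_eq hx23)).upd 2 1 2 (le_of_eq hx32)).upd 2 3 2 (le_of_eq hx34)).upd 3 2 1 (le_of_eq hx43)) ![0,1,2,1] (by decide) (by decide) 1 (by decide))
        · -- 34=(1,3)
          exact False.elim (cert_false T ((skipEmb 1).trans (Function.Embedding.refl _)) (by norm_num) (fun _ => hall _) (((((LB_zero T ((skipEmb 1).trans (Function.Embedding.refl _))).upd 1 2 1 (le_of_eq hx23)).upd 2 1 2 (le_of_eq hx32)).upd 2 3 1 (le_of_eq hx34)).upd 3 2 3 (le_of_eq hx43)) ![0,1,2,2] (by decide) (by decide) 1 (by decide))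
        · -- 34=(3,1)
          exact False.elim (cert_false T ((skipEmb 1).trans (Function.Embedding.refl _)) (by norm_num) (fun _ => hall _) (((((LB_zero T ((skipEmb 1).trans (Function.Embedding.refl _))).upd 1 2 1 (le_of_eq hx23)).upd 2 1 2 (le_of_eq hx32)).upd 2 3 3 (le_of_eq hx34)).upd 3 2 1 (le_of_eq hx43)) ![0,1,2,1] (by decide) (by decide) 1 (by decide))
      · -- 24=(1,1)
        exact False.elim (cert_false T ((skipEmb 0).trans (Function.Embedding.refl _)) (by norm_num) (fun _ => hall _) (((((((LB_zero T ((skipEmb 0).trans (Function.Embedding.refl _))).upd 0 1 1 (le_of_eq hx12)).upd 1 0 1 (le_of_eq hx21)).upd 1 2 1 (le_of_eq hx23)).upd 1 3 1 (le_of_eq hx24)).upd 2 1 2 (le_of_eq hx32)).upd 3 1 1 (le_of_eq hx42)) ![1,2,2,1] (by decide) (by decide) 0 (by decide))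
      · -- 24=(1,2)
        exact False.elim (cert_false T ((skipEmb 1).trans (Function.Embedding.refl _)) (by norm_num) (fun _ => hall _) (((((LB_zero T ((skipEmb 1).trans (Function.Embedding.refl _))).upd 1 2 1 (le_of_eq hx23)).upd 1 3 1 (le_of_eq hx24)).upd 2 1 2 (le_of_eq hx32)).upd 3 1 2 (le_of_eq hx42)) ![0,1,1,1] (by decide) (by decide) 1 (by decide))
      · -- 24=(2,1)
        exact False.elim (cert_false T ((skipEmb 1).trans (Function.Embedding.refl _)) (by norm_num) (fun _ => hall _) (((((LB_zero T ((skipEmb 1).trans (Function.Embedding.refl _))).upd 1 2 1 (le_of_eq hx23)).upd 1 3 2 (le_of_eq hx24)).upd 2 1 2 (le_of_eq hx32)).upd 3 1 1 (le_of_eq hx42)) ![0,2,2,1] (by decide) (by decide) 1 (by decide))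
      · -- 24=(1,3)
        exact False.elim (cert_false T ((skipEmb 3).trans (Function.Embedding.refl _)) (by norm_num) (fun _ => hall _) (((((LB_zero T ((skipEmb 3).trans (Function.Embedding.refl _))).upd 1 2 1 (le_of_eq hx12)).upd 2 1 1 (le_of_eq hx21)).upd 2 3 1 (le_of_eq hx24)).upd 3 2 3 (le_of_eq hx42)) ![0,1,2,3] (by decide) (by decide) 1 (by decide))
      · -- 24=(3,1)
        exact False.elim (cert_false T ((skipEmb 3).trans (Function.Embedding.refl _)) (by norm_num) (fun _ => hall _) (((((LB_zero T ((skipEmb 3).trans (Function.Embedding.refl _))).upd 1 2 1 (le_of_eq hx12)).upd 2 1 1 (le_of_eq hx21)).upd 2 3 3 (le_of_eq hx24)).upd 3 2 1 (le_of_eq hx42)) ![0,1,2,1] (by decide) (by decide) 1 (by decide))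
    · -- 14=(1,1)
      rcases d24 with ⟨rfl, rfl⟩ | ⟨rfl, rfl⟩ | ⟨rfl, rfl⟩ | ⟨rfl, rfl⟩ | ⟨rfl, rfl⟩ | ⟨rfl, rfl⟩
      · -- 24=(0,0)
        rcases d34 with ⟨rfl, rfl⟩ | ⟨rfl, rfl⟩ | ⟨rfl, rfl⟩ | ⟨rfl, rfl⟩ | ⟨rfl, rfl⟩ | ⟨rfl, rfl⟩
        · -- 34=(0,0)
          exfalso; omega
        · -- 34=(1,1)
          exact False.elim (cert_false T ((skipEmb 0).trans (Function.Embedding.refl _)) (by norm_num) (fun _ => hall _) (((((((((LB_zero T ((skipEmb 0).trans (Function.Embedding.refl _))).upd 0 1 1 (le_of_eq hx12)).upd 0 3 1 (le_of_eq hx14)).upd 1 0 1 (le_of_eq hx21)).upd 1 2 1 (le_of_eq hx23)).upd 2 1 2 (le_of_eq hx32)).upd 2 3 1 (le_of_eq hx34)).upd 3 0 1 (le_of_eq hx41)).upd 3 2 1 (le_of_eq hx43)) ![1,1,1,1] (by decide) (by decide) 0 (by decide))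
        · -- 34=(1,2)
          exact False.elim (cert_false T ((skipEmb 1).trans (Function.Embedding.refl _)) (by norm_num) (fun _ => hall _) (((((LB_zero T ((skipEmb 1).trans (Function.Embedding.refl _))).upd 1 2 1 (le_of_eq hx23)).upd 2 1 2 (le_of_eq hx32)).upd 2 3 1 (le_of_eq hx34)).upd 3 2 2 (le_of_eq hx43)) ![0,1,2,2] (by decide) (by decide) 1 (by decide))
        · -- 34=(2,1)
          exact False.elim (cert_false T ((skipEmb 1).trans (Function.Embedding.refl _)) (by norm_num) (fun _ => hall _) (((((LB_zero T ((skipEmb 1).trans (Function.Embedding.refl _))).upd 1 2 1 (le_of_eq hx23)).upd 2 1 2 (le_of_eq hx32)).upd 2 3 2 (le_of_eq hx34)).upd 3 2 1 (le_of_eq hx43)) ![0,1,2,1] (by decide) (by decide) 1 (by decide))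
        · -- 34=(1,3)
          exact False.elim (cert_false T ((skipEmb 2).trans (Function.Embedding.refl _)) (by norm_num) (fun _ => hall _) (((((LB_zero T ((skipEmb 2).trans (Function.Embedding.refl _))).upd 1 3 1 (le_of_eq hx14)).upd 2 3 1 (le_of_eq hx34)).upd 3 1 1 (le_of_eq hx41)).upd 3 2 3 (le_of_eq hx43)) ![0,1,1,2] (by decide) (by decide) 1 (by decide))
        · -- 34=(3,1)
          exact False.elim (cert_false T ((skipEmb 2).trans (Function.Embedding.refl _)) (by norm_num) (fun _ => hall _) (((((LB_zero T ((skipEmb 2).trans (Function.Embedding.refl _))).upd 1 3 1 (le_of_eq hx14)).upd 2 3 3 (le_of_eq hx34)).upd 3 1 1 (le_of_eq hx41)).upd 3 2 1 (le_of_eq hx43)) ![0,1,3,2] (by decide) (by decide) 1 (by decide))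
      · -- 24=(1,1)
        exact False.elim (cert_false T ((skipEmb 3).trans (Function.Embedding.refl _)) (by norm_num) (fun _ => hall _) (((((((LB_zero T ((skipEmb 3).trans (Function.Embedding.refl _))).upd 1 2 1 (le_of_eq hx12)).upd 1 3 1 (le_of_eq hx14)).upd 2 1 1 (le_of_eq hx21)).upd 2 3 1 (le_of_eq hx24)).upd 3 1 1 (le_of_eq hx41)).upd 3 2 1 (le_of_eq hx42)) ![0,1,1,1] (by decide) (by decide) 1 (by decide))
      · -- 24=(1,2)
        exact False.elim (cert_false T ((skipEmb 3).trans (Function.Embedding.refl _)) (by norm_num) (fun _ => hall _) (((((((LB_zero T ((skipEmb 3).trans (Function.Embedding.refl _))).upd 1 2 1 (le_of_eq hx12)).upd 1 3 1 (le_of_eq hx14)).upd 2 1 1 (le_of_eq hx21)).upd 2 3 1 (le_of_eq hx24)).upd 3 1 1 (le_of_eq hx41)).upd 3 2 2 (le_of_eq hx42)) ![0,1,1,1] (by decide) (by decide) 1 (by decide))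
      · -- 24=(2,1)
        exact False.elim (cert_false T ((skipEmb 3).trans (Function.Embedding.refl _)) (by norm_num) (fun _ => hall _) (((((((LB_zero T ((skipEmb 3).trans (Function.Embedding.refl _))).upd 1 2 1 (le_of_eq hx12)).upd 1 3 1 (le_of_eq hx14)).upd 2 1 1 (le_of_eq hx21)).upd 2 3 2 (le_of_eq hx24)).upd 3 1 1 (le_of_eq hx41)).upd 3 2 1 (le_of_eq hx42)) ![0,1,1,1] (by decide) (by decide) 1 (by decide))
      · -- 24=(1,3)
        exact False.elim (cert_false T ((skipEmb 3).trans (Function.Embedding.refl _)) (by norm_num) (fun _ => hall _) (((((((LB_zero T ((skipEmb 3).trans (Function.Embedding.refl _))).upd 1 2 1 (le_of_eq hx12)).upd 1 3 1 (le_of_eq hx14)).upd 2 1 1 (le_of_eq hx21)).upd 2 3 1 (le_of_eq hx24)).upd 3 1 1 (le_of_eq hx41)).upd 3 2 3 (le_of_eq hx42)) ![0,1,1,1] (by decide) (by decide) 1 (by decide))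
      · -- 24=(3,1)
        exact False.elim (cert_false T ((skipEmb 3).trans (Function.Embedding.refl _)) (by norm_num) (fun _ => hall _) (((((((LB_zero T ((skipEmb 3).trans (Function.Embedding.refl _))).upd 1 2 1 (le_of_eq hx12)).upd 1 3 1 (le_of_eq hx14)).upd 2 1 1 (le_of_eq hx21)).upd 2 3 3 (le_of_eq hx24)).upd 3 1 1 (le_of_eq hx41)).upd 3 2 1 (le_of_eq hx42)) ![0,1,1,1] (by decide) (by decide) 1 (by decide))
    · -- 14=(1,2)
      exact False.elim (cert_false T ((skipEmb 0).trans (Function.Embedding.refl _)) (by norm_num) (fun _ => hall _) (((((((LB_zero T ((skipEmb 0).trans (Function.Embedding.refl _))).upd 0 1 1 (le_of_eq hx12)).upd 0 3 1 (le_of_eq hx14)).upd 1 0 1 (le_of_eq hx21)).upd 1 2 1 (le_of_eq hx23)).upd 2 1 2 (le_of_eq hx32)).upd 3 0 2 (le_of_eq hx41)) ![1,1,1,1] (by decide) (by decide) 0 (by decide))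
    · -- 14=(2,1)
      exact False.elim (cert_false T ((skipEmb 0).trans (Function.Embedding.refl _)) (by norm_num) (fun _ => hall _) (((((((LB_zero T ((skipEmb 0).trans (Function.Embedding.refl _))).upd 0 1 1 (le_of_eq hx12)).upd 0 3 2 (le_of_eq hx14)).upd 1 0 1 (le_of_eq hx21)).upd 1 2 1 (le_of_eq hx23)).upd 2 1 2 (le_of_eq hx32)).upd 3 0 1 (le_of_eq hx41)) ![2,2,2,1] (by decide) (by decide) 0 (by decide))
    · -- 14=(1,3)
      exact False.elim (cert_false T ((skipEmb 3).trans (Function.Embedding.refl _)) (by norm_num) (fun _ => hall _) (((((LB_zero T ((skipEmb 3).trans (Function.Embedding.refl _))).upd 1 2 1 (le_of_eq hx12)).upd 1 3 1 (le_of_eq hx14)).upd 2 1 1 (le_of_eq hx21)).upd 3 1 3 (le_of_eq hx41)) ![0,2,1,3] (by decide) (by decide) 1 (by decide))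
    · -- 14=(3,1)
      exact False.elim (cert_false T ((skipEmb 3).trans (Function.Embedding.refl _)) (by norm_num) (fun _ => hall _) (((((LB_zero T ((skipEmb 3).trans (Function.Embedding.refl _))).upd 1 2 1 (le_of_eq hx12)).upd 1 3 3 (le_of_eq hx14)).upd 2 1 1 (le_of_eq hx21)).upd 3 1 1 (le_of_eq hx41)) ![0,2,1,1] (by decide) (by decide) 1 (by decide))
  · -- 04=(1,1)
    rcases d14 with ⟨rfl, rfl⟩ | ⟨rfl, rfl⟩ | ⟨rfl, rfl⟩ | ⟨rfl, rfl⟩ | ⟨rfl, rfl⟩ | ⟨rfl, rfl⟩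
    · -- 14=(0,0)
      rcases d24 with ⟨rfl, rfl⟩ | ⟨rfl, rfl⟩ | ⟨rfl, rfl⟩ | ⟨rfl, rfl⟩ | ⟨rfl, rfl⟩ | ⟨rfl, rfl⟩
      · -- 24=(0,0)
        rcases d34 with ⟨rfl, rfl⟩ | ⟨rfl, rfl⟩ | ⟨rfl, rfl⟩ | ⟨rfl, rfl⟩ | ⟨rfl, rfl⟩ | ⟨rfl, rfl⟩
        · -- 34=(0,0)
          exfalso; omega
        · -- 34=(1,1)
          refine ⟨(⟨![0, 4, 3, 2, 1], ![0, 4, 3, 2, 1], by decide, by decide⟩ : Equiv.Perm (Fin 5)), T.m 0, T.w 0, Or.inr (Or.inl ?_)⟩
          show T.m 0 = T.m 0 ∧ T.m 4 = 2 * T.m 0 ∧ T.m 3 = 3 * T.m 0 ∧ T.m 2 = 2 * T.m 0 ∧ T.m 1 = T.m 0 ∧ T.w 0 = T.w 0 ∧ T.w 4 = T.w 0 ∧ T.w 3 = T.w 0 ∧ T.w 2 = 2 * T.w 0 ∧ T.w 1 = 2 * T.w 0 ∧ T.a 0 0 = -2 * T.w 0 ∧ T.a 0 4 = T.w 0 ∧ T.a 0 3 = 0 ∧ T.a 0 2 = 0 ∧ T.a 0 1 = 0 ∧ T.a 4 4 = -2 * T.w 0 ∧ T.a 4 3 = T.w 0 ∧ T.a 4 2 = 0 ∧ T.a 4 1 = 0 ∧ T.a 3 3 = -2 * T.w 0 ∧ T.a 3 2 = 2 * T.w 0 ∧ T.a 3 1 = 0 ∧ T.a 2 2 = -4 * T.w 0 ∧ T.a 2 1 = 2 * T.w 0 ∧ T.a 1 1 = -4 * T.w 0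
          refine ⟨?_, ?_, ?_, ?_, ?_, ?_, ?_, ?_, ?_, ?_, ?_, ?_, ?_, ?_, ?_, ?_, ?_, ?_, ?_, ?_, ?_, ?_, ?_, ?_, ?_⟩ <;> omega
        · -- 34=(1,2)
          exact False.elim (cert_false T ((skipEmb 1).trans (Function.Embedding.refl _)) (by norm_num) (fun _ => hall _) (((((LB_zero T ((skipEmb 1).trans (Function.Embedding.refl _))).upd 1 2 1 (le_of_eq hx23)).upd 2 1 2 (le_of_eq hx32)).upd 2 3 1 (le_of_eq hx34)).upd 3 2 2 (le_of_eq hx43)) ![0,1,2,2] (by decide) (by decide) 1 (by decide))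
        · -- 34=(2,1)
          exact False.elim (cert_false T ((skipEmb 1).trans (Function.Embedding.refl _)) (by norm_num) (fun _ => hall _) (((((LB_zero T ((skipEmb 1).trans (Function.Embedding.refl _))).upd 1 2 1 (le_of_eq hx23)).upd 2 1 2 (le_of_eq hx32)).upd 2 3 2 (le_of_eq hx34)).upd 3 2 1 (le_of_eq hx43)) ![0,1,2,1] (by decide) (by decide) 1 (by decide))
        · -- 34=(1,3)
          exact False.elim (cert_false T ((skipEmb 2).trans (Function.Embedding.refl _)) (by norm_num) (fun _ => hall _) (((((LB_zero T ((skipEmb 2).trans (Function.Embedding.refl _))).upd 0 3 1 (le_of_eq hx04)).upd 2 3 1 (le_of_eq hx34)).upd 3 0 1 (le_of_eq hx40)).upd 3 2 3 (le_of_eq hx43)) ![1,0,1,2] (by decide) (by decide) 0 (by decide))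
        · -- 34=(3,1)
          exact False.elim (cert_false T ((skipEmb 2).trans (Function.Embedding.refl _)) (by norm_num) (fun _ => hall _) (((((LB_zero T ((skipEmb 2).trans (Function.Embedding.refl _))).upd 0 3 1 (le_of_eq hx04)).upd 2 3 3 (le_of_eq hx34)).upd 3 0 1 (le_of_eq hx40)).upd 3 2 1 (le_of_eq hx43)) ![1,0,3,2] (by decide) (by decide) 0 (by decide))
      · -- 24=(1,1)
        exact False.elim (cert_false T ((skipEmb 0).trans (Function.Embedding.refl _)) (by norm_num) (fun _ => hall _) (((((((LB_zero T ((skipEmb 0).trans (Function.Embedding.refl _))).upd 0 1 1 (le_of_eq hx12)).upd 1 0 1 (le_of_eq hx21)).upd 1 2 1 (le_of_eq hx23)).upd 1 3 1 (le_of_eq hx24)).upd 2 1 2 (le_of_eq hx32)).upd 3 1 1 (le_of_eq hx42)) ![1,2,2,1] (by decide) (by decide) 0 (by decide))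
      · -- 24=(1,2)
        exact False.elim (cert_false T ((skipEmb 1).trans (Function.Embedding.refl _)) (by norm_num) (fun _ => hall _) (((((LB_zero T ((skipEmb 1).trans (Function.Embedding.refl _))).upd 1 2 1 (le_of_eq hx23)).upd 1 3 1 (le_of_eq hx24)).upd 2 1 2 (le_of_eq hx32)).upd 3 1 2 (le_of_eq hx42)) ![0,1,1,1] (by decide) (by decide) 1 (by decide))
      · -- 24=(2,1)
        exact False.elim (cert_false T ((skipEmb 1).trans (Function.Embedding.refl _)) (by norm_num) (fun _ => hall _) (((((LB_zero T ((skipEmb 1).trans (Function.Embedding.refl _))).upd 1 2 1 (le_of_eq hx23)).upd 1 3 2 (le_of_eq hx24)).upd 2 1 2 (le_of_eq hx32)).upd 3 1 1 (le_of_eq hx42)) ![0,2,2,1] (by decide) (by decide) 1 (by decide))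
      · -- 24=(1,3)
        exact False.elim (cert_false T ((skipEmb 3).trans (Function.Embedding.refl _)) (by norm_num) (fun _ => hall _) (((((LB_zero T ((skipEmb 3).trans (Function.Embedding.refl _))).upd 0 3 1 (le_of_eq hx04)).upd 2 3 1 (le_of_eq hx24)).upd 3 0 1 (le_of_eq hx40)).upd 3 2 3 (le_of_eq hx42)) ![1,0,1,2] (by decide) (by decide) 0 (by decide))
      · -- 24=(3,1)
        exact False.elim (cert_false T ((skipEmb 3).trans (Function.Embedding.refl _)) (by norm_num) (fun _ => hall _) (((((LB_zero T ((skipEmb 3).trans (Function.Embedding.refl _))).upd 1 2 1 (le_of_eq hx12)).upd 2 1 1 (le_of_eq hx21)).upd 2 3 3 (le_of_eq hx24)).upd 3 2 1 (le_of_eq hx42)) ![0,1,2,1] (by decide) (by decide) 1 (by decide))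
    · -- 14=(1,1)
      rcases d24 with ⟨rfl, rfl⟩ | ⟨rfl, rfl⟩ | ⟨rfl, rfl⟩ | ⟨rfl, rfl⟩ | ⟨rfl, rfl⟩ | ⟨rfl, rfl⟩
      · -- 24=(0,0)
        rcases d34 with ⟨rfl, rfl⟩ | ⟨rfl, rfl⟩ | ⟨rfl, rfl⟩ | ⟨rfl, rfl⟩ | ⟨rfl, rfl⟩ | ⟨rfl, rfl⟩
        · -- 34=(0,0)
          exfalso; omega
        · -- 34=(1,1)
          exact False.elim (cert_false T ((skipEmb 0).trans (Function.Embedding.refl _)) (by norm_num) (fun _ => hall _) (((((((((LB_zero T ((skipEmb 0).trans (Function.Embedding.refl _))).upd 0 1 1 (le_of_eq hx12)).upd 0 3 1 (le_of_eq hx14)).upd 1 0 1 (le_of_eq hx21)).upd 1 2 1 (le_of_eq hx23)).upd 2 1 2 (le_of_eq hx32)).upd 2 3 1 (le_of_eq hx34)).upd 3 0 1 (le_of_eq hx41)).upd 3 2 1 (le_of_eq hx43)) ![1,1,1,1] (by decide) (by decide) 0 (by decide))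
        · -- 34=(1,2)
          exact False.elim (cert_false T ((skipEmb 2).trans (Function.Embedding.refl _)) (by norm_num) (fun _ => hall _) (((((((LB_zero T ((skipEmb 2).trans (Function.Embedding.refl _))).upd 0 3 1 (le_of_eq hx04)).upd 1 3 1 (le_of_eq hx14)).upd 2 3 1 (le_of_eq hx34)).upd 3 0 1 (le_of_eq hx40)).upd 3 1 1 (le_of_eq hx41)).upd 3 2 2 (le_of_eq hx43)) ![1,1,1,2] (by decide) (by decide) 0 (by decide))
        · -- 34=(2,1)
          exact False.elim (cert_false T ((skipEmb 2).trans (Function.Embedding.refl _)) (by norm_num) (fun _ => hall _) (((((((LB_zero T ((skipEmb 2).trans (Function.Embedding.refl _))).upd 0 3 1 (le_of_eq hx04)).upd 1 3 1 (le_of_eq hx14)).upd 2 3 2 (le_of_eq hx34)).upd 3 0 1 (le_of_eq hx40)).upd 3 1 1 (le_of_eq hx41)).upd 3 2 1 (le_of_eq hx43)) ![1,1,2,2] (by decide) (by decide) 0 (by decide))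
        · -- 34=(1,3)
          exact False.elim (cert_false T ((skipEmb 2).trans (Function.Embedding.refl _)) (by norm_num) (fun _ => hall _) (((((LB_zero T ((skipEmb 2).trans (Function.Embedding.refl _))).upd 1 3 1 (le_of_eq hx14)).upd 2 3 1 (le_of_eq hx34)).upd 3 1 1 (le_of_eq hx41)).upd 3 2 3 (le_of_eq hx43)) ![0,1,1,2] (by decide) (by decide) 1 (by decide))
        · -- 34=(3,1)
          exact False.elim (cert_false T ((skipEmb 2).trans (Function.Embedding.refl _)) (by norm_num) (fun _ => hall _) (((((((LB_zero T ((skipEmb 2).trans (Function.Embedding.refl _))).upd 0 3 1 (le_of_eq hx04)).upd 1 3 1 (le_of_eq hx14)).upd 2 3 3 (le_of_eq hx34)).upd 3 0 1 (le_of_eq hx40)).upd 3 1 1 (le_of_eq hx41)).upd 3 2 1 (le_of_eq hx43)) ![1,1,2,2] (by decide) (by decide) 0 (by decide))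
      · -- 24=(1,1)
        exact False.elim (cert_false T ((skipEmb 3).trans (Function.Embedding.refl _)) (by norm_num) (fun _ => hall _) (((((((LB_zero T ((skipEmb 3).trans (Function.Embedding.refl _))).upd 1 2 1 (le_of_eq hx12)).upd 1 3 1 (le_of_eq hx14)).upd 2 1 1 (le_of_eq hx21)).upd 2 3 1 (le_of_eq hx24)).upd 3 1 1 (le_of_eq hx41)).upd 3 2 1 (le_of_eq hx42)) ![0,1,1,1] (by decide) (by decide) 1 (by decide))
      · -- 24=(1,2)
        exact False.elim (cert_false T ((skipEmb 3).trans (Function.Embedding.refl _)) (by norm_num) (fun _ => hall _) (((((((LB_zero T ((skipEmb 3).trans (Function.Embedding.refl _))).upd 1 2 1 (le_of_eq hx12)).upd 1 3 1 (le_of_eq hx14)).upd 2 1 1 (le_of_eq hx21)).upd 2 3 1 (le_of_eq hx24)).upd 3 1 1 (le_of_eq hx41)).upd 3 2 2 (le_of_eq hx42)) ![0,1,1,1] (by decide) (by decide) 1 (by decide))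
      · -- 24=(2,1)
        exact False.elim (cert_false T ((skipEmb 3).trans (Function.Embedding.refl _)) (by norm_num) (fun _ => hall _) (((((((LB_zero T ((skipEmb 3).trans (Function.Embedding.refl _))).upd 1 2 1 (le_of_eq hx12)).upd 1 3 1 (le_of_eq hx14)).upd 2 1 1 (le_of_eq hx21)).upd 2 3 2 (le_of_eq hx24)).upd 3 1 1 (le_of_eq hx41)).upd 3 2 1 (le_of_eq hx42)) ![0,1,1,1] (by decide) (by decide) 1 (by decide))
      · -- 24=(1,3)
        exact False.elim (cert_false T ((skipEmb 3).trans (Function.Embedding.refl _)) (by norm_num) (fun _ => hall _) (((((((LB_zero T ((skipEmb 3).trans (Function.Embedding.refl _))).upd 1 2 1 (le_of_eq hx12)).upd 1 3 1 (le_of_eq hx14)).upd 2 1 1 (le_of_eq hx21)).upd 2 3 1 (le_of_eq hx24)).upd 3 1 1 (le_of_eq hx41)).upd 3 2 3 (le_of_eq hx42)) ![0,1,1,1] (by decide) (by decide) 1 (by decide))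
      · -- 24=(3,1)
        exact False.elim (cert_false T ((skipEmb 3).trans (Function.Embedding.refl _)) (by norm_num) (fun _ => hall _) (((((((LB_zero T ((skipEmb 3).trans (Function.Embedding.refl _))).upd 1 2 1 (le_of_eq hx12)).upd 1 3 1 (le_of_eq hx14)).upd 2 1 1 (le_of_eq hx21)).upd 2 3 3 (le_of_eq hx24)).upd 3 1 1 (le_of_eq hx41)).upd 3 2 1 (le_of_eq hx42)) ![0,1,1,1] (by decide) (by decide) 1 (by decide))
    · -- 14=(1,2)
      exact False.elim (cert_false T ((skipEmb 0).trans (Function.Embedding.refl _)) (by norm_num) (fun _ => hall _) (((((((LB_zero T ((skipEmb 0).trans (Function.Embedding.refl _))).upd 0 1 1 (le_of_eq hx12)).upd 0 3 1 (le_of_eq hx14)).upd 1 0 1 (le_of_eq hx21)).upd 1 2 1 (le_of_eq hx23)).upd 2 1 2 (le_of_eq hx32)).upd 3 0 2 (le_of_eq hx41)) ![1,1,1,1] (by decide) (by decide) 0 (by decide))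
    · -- 14=(2,1)
      exact False.elim (cert_false T ((skipEmb 0).trans (Function.Embedding.refl _)) (by norm_num) (fun _ => hall _) (((((((LB_zero T ((skipEmb 0).trans (Function.Embedding.refl _))).upd 0 1 1 (le_of_eq hx12)).upd 0 3 2 (le_of_eq hx14)).upd 1 0 1 (le_of_eq hx21)).upd 1 2 1 (le_of_eq hx23)).upd 2 1 2 (le_of_eq hx32)).upd 3 0 1 (le_of_eq hx41)) ![2,2,2,1] (by decide) (by decide) 0 (by decide))
    · -- 14=(1,3)
      exact False.elim (cert_false T ((skipEmb 3).trans (Function.Embedding.refl _)) (by norm_num) (fun _ => hall _) (((((LB_zero T ((skipEmb 3).trans (Function.Embedding.refl _))).upd 0 3 1 (le_of_eq hx04)).upd 1 3 1 (le_of_eq hx14)).upd 3 0 1 (le_of_eq hx40)).upd 3 1 3 (le_of_eq hx41)) ![1,1,0,2] (by decide) (by decide) 0 (by decide))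
    · -- 14=(3,1)
      exact False.elim (cert_false T ((skipEmb 3).trans (Function.Embedding.refl _)) (by norm_num) (fun _ => hall _) (((((LB_zero T ((skipEmb 3).trans (Function.Embedding.refl _))).upd 1 2 1 (le_of_eq hx12)).upd 1 3 3 (le_of_eq hx14)).upd 2 1 1 (le_of_eq hx21)).upd 3 1 1 (le_of_eq hx41)) ![0,2,1,1] (by decide) (by decide) 1 (by decide))
  · -- 04=(1,2)
    rcases d14 with ⟨rfl, rfl⟩ | ⟨rfl, rfl⟩ | ⟨rfl, rfl⟩ | ⟨rfl, rfl⟩ | ⟨rfl, rfl⟩ | ⟨rfl, rfl⟩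
    · -- 14=(0,0)
      rcases d24 with ⟨rfl, rfl⟩ | ⟨rfl, rfl⟩ | ⟨rfl, rfl⟩ | ⟨rfl, rfl⟩ | ⟨rfl, rfl⟩ | ⟨rfl, rfl⟩
      · -- 24=(0,0)
        rcases d34 with ⟨rfl, rfl⟩ | ⟨rfl, rfl⟩ | ⟨rfl, rfl⟩ | ⟨rfl, rfl⟩ | ⟨rfl, rfl⟩ | ⟨rfl, rfl⟩
        · -- 34=(0,0)
          exfalso; omega
        · -- 34=(1,1)
          exact False.elim (cert_false T ((skipEmb 1).trans (Function.Embedding.refl _)) (by norm_num) (fun _ => hall _) (((((((LB_zero T ((skipEmb 1).trans (Function.Embedding.refl _))).upd 0 3 1 (le_of_eq hx04)).upd 1 2 1 (le_of_eq hx23)).upd 2 1 2 (le_of_eq hx32)).upd 2 3 1 (le_of_eq hx34)).upd 3 0 2 (le_of_eq hx40)).upd 3 2 1 (le_of_eq hx43)) ![1,1,2,2] (by decide) (by decide) 0 (by decide))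
        · -- 34=(1,2)
          exact False.elim (cert_false T ((skipEmb 2).trans (Function.Embedding.refl _)) (by norm_num) (fun _ => hall _) (((((LB_zero T ((skipEmb 2).trans (Function.Embedding.refl _))).upd 0 3 1 (le_of_eq hx04)).upd 2 3 1 (le_of_eq hx34)).upd 3 0 2 (le_of_eq hx40)).upd 3 2 2 (le_of_eq hx43)) ![1,0,1,2] (by decide) (by decide) 0 (by decide))
        · -- 34=(2,1)
          exact False.elim (cert_false T ((skipEmb 2).trans (Function.Embedding.refl _)) (by norm_num) (fun _ => hall _) (((((LB_zero T ((skipEmb 2).trans (Function.Embedding.refl _))).upd 0 3 1 (le_of_eq hx04)).upd 2 3 2 (le_of_eq hx34)).upd 3 0 2 (le_of_eq hx40)).upd 3 2 1 (le_of_eq hx43)) ![1,0,2,2] (by decide) (by decide) 0 (by decide))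
        · -- 34=(1,3)
          exact False.elim (cert_false T ((skipEmb 2).trans (Function.Embedding.refl _)) (by norm_num) (fun _ => hall _) (((((LB_zero T ((skipEmb 2).trans (Function.Embedding.refl _))).upd 0 3 1 (le_of_eq hx04)).upd 2 3 1 (le_of_eq hx34)).upd 3 0 2 (le_of_eq hx40)).upd 3 2 3 (le_of_eq hx43)) ![1,0,1,2] (by decide) (by decide) 0 (by decide))
        · -- 34=(3,1)
          exact False.elim (cert_false T ((skipEmb 2).trans (Function.Embedding.refl _)) (by norm_num) (fun _ => hall _) (((((LB_zero T ((skipEmb 2).trans (Function.Embedding.refl _))).upd 0 3 1 (le_of_eq hx04)).upd 2 3 3 (le_of_eq hx34)).upd 3 0 2 (le_of_eq hx40)).upd 3 2 1 (le_of_eq hx43)) ![1,0,2,2] (by decide) (by decide) 0 (by decide))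
      · -- 24=(1,1)
        exact False.elim (cert_false T ((skipEmb 1).trans (Function.Embedding.refl _)) (by norm_num) (fun _ => hall _) (((((((LB_zero T ((skipEmb 1).trans (Function.Embedding.refl _))).upd 0 3 1 (le_of_eq hx04)).upd 1 2 1 (le_of_eq hx23)).upd 1 3 1 (le_of_eq hx24)).upd 2 1 2 (le_of_eq hx32)).upd 3 0 2 (le_of_eq hx40)).upd 3 1 1 (le_of_eq hx42)) ![1,2,2,2] (by decide) (by decide) 0 (by decide))
      · -- 24=(1,2)
        exact False.elim (cert_false T ((skipEmb 3).trans (Function.Embedding.refl _)) (by norm_num) (fun _ => hall _) (((((LB_zero T ((skipEmb 3).trans (Function.Embedding.refl _))).upd 0 3 1 (le_of_eq hx04)).upd 2 3 1 (le_of_eq hx24)).upd 3 0 2 (le_of_eq hx40)).upd 3 2 2 (le_of_eq hx42)) ![1,0,1,2] (by decide) (by decide) 0 (by decide))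
      · -- 24=(2,1)
        exact False.elim (cert_false T ((skipEmb 3).trans (Function.Embedding.refl _)) (by norm_num) (fun _ => hall _) (((((LB_zero T ((skipEmb 3).trans (Function.Embedding.refl _))).upd 0 3 1 (le_of_eq hx04)).upd 2 3 2 (le_of_eq hx24)).upd 3 0 2 (le_of_eq hx40)).upd 3 2 1 (le_of_eq hx42)) ![1,0,2,2] (by decide) (by decide) 0 (by decide))
      · -- 24=(1,3)
        exact False.elim (cert_false T ((skipEmb 3).trans (Function.Embedding.refl _)) (by norm_num) (fun _ => hall _) (((((LB_zero T ((skipEmb 3).trans (Function.Embedding.refl _))).upd 0 3 1 (le_of_eq hx04)).upd 2 3 1 (le_of_eq hx24)).upd 3 0 2 (le_of_eq hx40)).upd 3 2 3 (le_of_eq hx42)) ![1,0,1,2] (by decide) (by decide) 0 (by decide))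
      · -- 24=(3,1)
        exact False.elim (cert_false T ((skipEmb 3).trans (Function.Embedding.refl _)) (by norm_num) (fun _ => hall _) (((((LB_zero T ((skipEmb 3).trans (Function.Embedding.refl _))).upd 0 3 1 (le_of_eq hx04)).upd 2 3 3 (le_of_eq hx24)).upd 3 0 2 (le_of_eq hx40)).upd 3 2 1 (le_of_eq hx42)) ![1,0,2,2] (by decide) (by decide) 0 (by decide))
    · -- 14=(1,1)
      rcases d24 with ⟨rfl, rfl⟩ | ⟨rfl, rfl⟩ | ⟨rfl, rfl⟩ | ⟨rfl, rfl⟩ | ⟨rfl, rfl⟩ | ⟨rfl, rfl⟩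
      · -- 24=(0,0)
        rcases d34 with ⟨rfl, rfl⟩ | ⟨rfl, rfl⟩ | ⟨rfl, rfl⟩ | ⟨rfl, rfl⟩ | ⟨rfl, rfl⟩ | ⟨rfl, rfl⟩
        · -- 34=(0,0)
          refine ⟨(⟨![3, 2, 1, 4, 0], ![4, 2, 1, 0, 3], by decide, by decide⟩ : Equiv.Perm (Fin 5)), T.m 0, T.w 3, Or.inr (Or.inr (Or.inr (Or.inl ?_)))⟩
          show T.m 3 = 2 * T.m 0 ∧ T.m 2 = 2 * T.m 0 ∧ T.m 1 = 2 * T.m 0 ∧ T.m 4 = 2 * T.m 0 ∧ T.m 0 = T.m 0 ∧ T.w 3 = T.w 3 ∧ T.w 2 = 2 * T.w 3 ∧ T.w 1 = 2 * T.w 3 ∧ T.w 4 = 2 * T.w 3 ∧ T.w 0 = 4 * T.w 3 ∧ T.a 3 3 = -2 * T.w 3 ∧ T.a 3 2 = 2 * T.w 3 ∧ T.a 3 1 = 0 ∧ T.a 3 4 = 0 ∧ T.a 3 0 = 0 ∧ T.a 2 2 = -4 * T.w 3 ∧ T.a 2 1 = 2 * T.w 3 ∧ T.a 2 4 = 0 ∧ T.a 2 0 = 0 ∧ T.a 1 1 = -4 * T.w 3 ∧ T.a 1 4 = 2 * T.w 3 ∧ T.a 1 0 = 0 ∧ T.a 4 4 = -4 * T.w 3 ∧ T.a 4 0 = 4 * T.w 3 ∧ T.a 0 0 = -8 * T.w 3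
          refine ⟨?_, ?_, ?_, ?_, ?_, ?_, ?_, ?_, ?_, ?_, ?_, ?_, ?_, ?_, ?_, ?_, ?_, ?_, ?_, ?_, ?_, ?_, ?_, ?_, ?_⟩ <;> omega
        · -- 34=(1,1)
          exact False.elim (cert_false T ((skipEmb 2).trans (Function.Embedding.refl _)) (by norm_num) (fun _ => hall _) (((((((LB_zero T ((skipEmb 2).trans (Function.Embedding.refl _))).upd 0 3 1 (le_of_eq hx04)).upd 1 3 1 (le_of_eq hx14)).upd 2 3 1 (le_of_eq hx34)).upd 3 0 2 (le_of_eq hx40)).upd 3 1 1 (le_of_eq hx41)).upd 3 2 1 (le_of_eq hx43)) ![1,1,1,2] (by decide) (by decide) 0 (by decide))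
        · -- 34=(1,2)
          exact False.elim (cert_false T ((skipEmb 2).trans (Function.Embedding.refl _)) (by norm_num) (fun _ => hall _) (((((LB_zero T ((skipEmb 2).trans (Function.Embedding.refl _))).upd 0 3 1 (le_of_eq hx04)).upd 2 3 1 (le_of_eq hx34)).upd 3 0 2 (le_of_eq hx40)).upd 3 2 2 (le_of_eq hx43)) ![1,0,1,2] (by decide) (by decide) 0 (by decide))
        · -- 34=(2,1)
          exact False.elim (cert_false T ((skipEmb 2).trans (Function.Embedding.refl _)) (by norm_num) (fun _ => hall _) (((((LB_zero T ((skipEmb 2).trans (Function.Embedding.refl _))).upd 0 3 1 (le_of_eq hx04)).upd 2 3 2 (le_of_eq hx34)).upd 3 0 2 (le_of_eq hx40)).upd 3 2 1 (le_of_eq hx43)) ![1,0,2,2] (by decide) (by decide) 0 (by decide))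
        · -- 34=(1,3)
          exact False.elim (cert_false T ((skipEmb 2).trans (Function.Embedding.refl _)) (by norm_num) (fun _ => hall _) (((((LB_zero T ((skipEmb 2).trans (Function.Embedding.refl _))).upd 1 3 1 (le_of_eq hx14)).upd 2 3 1 (le_of_eq hx34)).upd 3 1 1 (le_of_eq hx41)).upd 3 2 3 (le_of_eq hx43)) ![0,1,1,2] (by decide) (by decide) 1 (by decide))
        · -- 34=(3,1)
          exact False.elim (cert_false T ((skipEmb 2).trans (Function.Embedding.refl _)) (by norm_num) (fun _ => hall _) (((((LB_zero T ((skipEmb 2).trans (Function.Embedding.refl _))).upd 0 3 1 (le_of_eq hx04)).upd 2 3 3 (le_of_eq hx34)).upd 3 0 2 (le_of_eq hx40)).upd 3 2 1 (le_of_eq hx43)) ![1,0,2,2] (by decide) (by decide) 0 (by decide))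
      · -- 24=(1,1)
        exact False.elim (cert_false T ((skipEmb 3).trans (Function.Embedding.refl _)) (by norm_num) (fun _ => hall _) (((((((LB_zero T ((skipEmb 3).trans (Function.Embedding.refl _))).upd 1 2 1 (le_of_eq hx12)).upd 1 3 1 (le_of_eq hx14)).upd 2 1 1 (le_of_eq hx21)).upd 2 3 1 (le_of_eq hx24)).upd 3 1 1 (le_of_eq hx41)).upd 3 2 1 (le_of_eq hx42)) ![0,1,1,1] (by decide) (by decide) 1 (by decide))
      · -- 24=(1,2)
        exact False.elim (cert_false T ((skipEmb 3).trans (Function.Embedding.refl _)) (by norm_num) (fun _ => hall _) (((((((LB_zero T ((skipEmb 3).trans (Function.Embedding.refl _))).upd 1 2 1 (le_of_eq hx12)).upd 1 3 1 (le_of_eq hx14)).upd 2 1 1 (le_of_eq hx21)).upd 2 3 1 (le_of_eq hx24)).upd 3 1 1 (le_of_eq hx41)).upd 3 2 2 (le_of_eq hx42)) ![0,1,1,1] (by decide) (by decide) 1 (by decide))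
      · -- 24=(2,1)
        exact False.elim (cert_false T ((skipEmb 3).trans (Function.Embedding.refl _)) (by norm_num) (fun _ => hall _) (((((((LB_zero T ((skipEmb 3).trans (Function.Embedding.refl _))).upd 1 2 1 (le_of_eq hx12)).upd 1 3 1 (le_of_eq hx14)).upd 2 1 1 (le_of_eq hx21)).upd 2 3 2 (le_of_eq hx24)).upd 3 1 1 (le_of_eq hx41)).upd 3 2 1 (le_of_eq hx42)) ![0,1,1,1] (by decide) (by decide) 1 (by decide))
      · -- 24=(1,3)
        exact False.elim (cert_false T ((skipEmb 3).trans (Function.Embedding.refl _)) (by norm_num) (fun _ => hall _) (((((((LB_zero T ((skipEmb 3).trans (Function.Embedding.refl _))).upd 1 2 1 (le_of_eq hx12)).upd 1 3 1 (le_of_eq hx14)).upd 2 1 1 (le_of_eq hx21)).upd 2 3 1 (le_of_eq hx24)).upd 3 1 1 (le_of_eq hx41)).upd 3 2 3 (le_of_eq hx42)) ![0,1,1,1] (by decide) (by decide) 1 (by decide))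
      · -- 24=(3,1)
        exact False.elim (cert_false T ((skipEmb 3).trans (Function.Embedding.refl _)) (by norm_num) (fun _ => hall _) (((((((LB_zero T ((skipEmb 3).trans (Function.Embedding.refl _))).upd 1 2 1 (le_of_eq hx12)).upd 1 3 1 (le_of_eq hx14)).upd 2 1 1 (le_of_eq hx21)).upd 2 3 3 (le_of_eq hx24)).upd 3 1 1 (le_of_eq hx41)).upd 3 2 1 (le_of_eq hx42)) ![0,1,1,1] (by decide) (by decide) 1 (by decide))
    · -- 14=(1,2)
      exact False.elim (cert_false T ((skipEmb 3).trans (Function.Embedding.refl _)) (by norm_num) (fun _ => hall _) (((((LB_zero T ((skipEmb 3).trans (Function.Embedding.refl _))).upd 0 3 1 (le_of_eq hx04)).upd 1 3 1 (le_of_eq hx14)).upd 3 0 2 (le_of_eq hx40)).upd 3 1 2 (le_of_eq hx41)) ![1,1,0,2] (by decide) (by decide) 0 (by decide))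
    · -- 14=(2,1)
      exact False.elim (cert_false T ((skipEmb 3).trans (Function.Embedding.refl _)) (by norm_num) (fun _ => hall _) (((((LB_zero T ((skipEmb 3).trans (Function.Embedding.refl _))).upd 0 3 1 (le_of_eq hx04)).upd 1 3 2 (le_of_eq hx14)).upd 3 0 2 (le_of_eq hx40)).upd 3 1 1 (le_of_eq hx41)) ![1,2,0,2] (by decide) (by decide) 0 (by decide))
    · -- 14=(1,3)
      exact False.elim (cert_false T ((skipEmb 3).trans (Function.Embedding.refl _)) (by norm_num) (fun _ => hall _) (((((LB_zero T ((skipEmb 3).trans (Function.Embedding.refl _))).upd 0 3 1 (le_of_eq hx04)).upd 1 3 1 (le_of_eq hx14)).upd 3 0 2 (le_of_eq hx40)).upd 3 1 3 (le_of_eq hx41)) ![1,1,0,2] (by decide) (by decide) 0 (by decide))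
    · -- 14=(3,1)
      exact False.elim (cert_false T ((skipEmb 3).trans (Function.Embedding.refl _)) (by norm_num) (fun _ => hall _) (((((LB_zero T ((skipEmb 3).trans (Function.Embedding.refl _))).upd 0 3 1 (le_of_eq hx04)).upd 1 3 3 (le_of_eq hx14)).upd 3 0 2 (le_of_eq hx40)).upd 3 1 1 (le_of_eq hx41)) ![1,2,0,2] (by decide) (by decide) 0 (by decide))
  · -- 04=(2,1)
    rcases d14 with ⟨rfl, rfl⟩ | ⟨rfl, rfl⟩ | ⟨rfl, rfl⟩ | ⟨rfl, rfl⟩ | ⟨rfl, rfl⟩ | ⟨rfl, rfl⟩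
    · -- 14=(0,0)
      rcases d24 with ⟨rfl, rfl⟩ | ⟨rfl, rfl⟩ | ⟨rfl, rfl⟩ | ⟨rfl, rfl⟩ | ⟨rfl, rfl⟩ | ⟨rfl, rfl⟩
      · -- 24=(0,0)
        rcases d34 with ⟨rfl, rfl⟩ | ⟨rfl, rfl⟩ | ⟨rfl, rfl⟩ | ⟨rfl, rfl⟩ | ⟨rfl, rfl⟩ | ⟨rfl, rfl⟩
        · -- 34=(0,0)
          exfalso; omega
        · -- 34=(1,1)
          exact False.elim (cert_false T ((skipEmb 1).trans (Function.Embedding.refl _)) (by norm_num) (fun _ => hall _) (((((((LB_zero T ((skipEmb 1).trans (Function.Embedding.refl _))).upd 0 3 2 (le_of_eq hx04)).upd 1 2 1 (le_of_eq hx23)).upd 2 1 2 (le_of_eq hx32)).upd 2 3 1 (le_of_eq hx34)).upd 3 0 1 (le_of_eq hx40)).upd 3 2 1 (le_of_eq hx43)) ![2,1,2,2] (by decide) (by decide) 0 (by decide))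
        · -- 34=(1,2)
          exact False.elim (cert_false T ((skipEmb 2).trans (Function.Embedding.refl _)) (by norm_num) (fun _ => hall _) (((((LB_zero T ((skipEmb 2).trans (Function.Embedding.refl _))).upd 0 3 2 (le_of_eq hx04)).upd 2 3 1 (le_of_eq hx34)).upd 3 0 1 (le_of_eq hx40)).upd 3 2 2 (le_of_eq hx43)) ![2,0,1,2] (by decide) (by decide) 0 (by decide))
        · -- 34=(2,1)
          exact False.elim (cert_false T ((skipEmb 2).trans (Function.Embedding.refl _)) (by norm_num) (fun _ => hall _) (((((LB_zero T ((skipEmb 2).trans (Function.Embedding.refl _))).upd 0 3 2 (le_of_eq hx04)).upd 2 3 2 (le_of_eq hx34)).upd 3 0 1 (le_of_eq hx40)).upd 3 2 1 (le_of_eq hx43)) ![1,0,1,1] (by decide) (by decide) 0 (by decide))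
        · -- 34=(1,3)
          exact False.elim (cert_false T ((skipEmb 2).trans (Function.Embedding.refl _)) (by norm_num) (fun _ => hall _) (((((LB_zero T ((skipEmb 2).trans (Function.Embedding.refl _))).upd 0 3 2 (le_of_eq hx04)).upd 2 3 1 (le_of_eq hx34)).upd 3 0 1 (le_of_eq hx40)).upd 3 2 3 (le_of_eq hx43)) ![1,0,1,2] (by decide) (by decide) 0 (by decide))
        · -- 34=(3,1)
          exact False.elim (cert_false T ((skipEmb 2).trans (Function.Embedding.refl _)) (by norm_num) (fun _ => hall _) (((((LB_zero T ((skipEmb 2).trans (Function.Embedding.refl _))).upd 0 3 2 (le_of_eq hx04)).upd 2 3 3 (le_of_eq hx34)).upd 3 0 1 (le_of_eq hx40)).upd 3 2 1 (le_of_eq hx43)) ![1,0,1,1] (by decide) (by decide) 0 (by decide))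
      · -- 24=(1,1)
        exact False.elim (cert_false T ((skipEmb 1).trans (Function.Embedding.refl _)) (by norm_num) (fun _ => hall _) (((((((LB_zero T ((skipEmb 1).trans (Function.Embedding.refl _))).upd 0 3 2 (le_of_eq hx04)).upd 1 2 1 (le_of_eq hx23)).upd 1 3 1 (le_of_eq hx24)).upd 2 1 2 (le_of_eq hx32)).upd 3 0 1 (le_of_eq hx40)).upd 3 1 1 (le_of_eq hx42)) ![1,1,1,1] (by decide) (by decide) 0 (by decide))
      · -- 24=(1,2)
        exact False.elim (cert_false T ((skipEmb 3).trans (Function.Embedding.refl _)) (by norm_num) (fun _ => hall _) (((((LB_zero T ((skipEmb 3).trans (Function.Embedding.refl _))).upd 0 3 2 (le_of_eq hx04)).upd 2 3 1 (le_of_eq hx24)).upd 3 0 1 (le_of_eq hx40)).upd 3 2 2 (le_of_eq hx42)) ![2,0,1,2] (by decide) (by decide) 0 (by decide))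
      · -- 24=(2,1)
        exact False.elim (cert_false T ((skipEmb 3).trans (Function.Embedding.refl _)) (by norm_num) (fun _ => hall _) (((((LB_zero T ((skipEmb 3).trans (Function.Embedding.refl _))).upd 0 3 2 (le_of_eq hx04)).upd 2 3 2 (le_of_eq hx24)).upd 3 0 1 (le_of_eq hx40)).upd 3 2 1 (le_of_eq hx42)) ![1,0,1,1] (by decide) (by decide) 0 (by decide))
      · -- 24=(1,3)
        exact False.elim (cert_false T ((skipEmb 3).trans (Function.Embedding.refl _)) (by norm_num) (fun _ => hall _) (((((LB_zero T ((skipEmb 3).trans (Function.Embedding.refl _))).upd 0 3 2 (le_of_eq hx04)).upd 2 3 1 (le_of_eq hx24)).upd 3 0 1 (le_of_eq hx40)).upd 3 2 3 (le_of_eq hx42)) ![1,0,1,2] (by decide) (by decide) 0 (by decide))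
      · -- 24=(3,1)
        exact False.elim (cert_false T ((skipEmb 3).trans (Function.Embedding.refl _)) (by norm_num) (fun _ => hall _) (((((LB_zero T ((skipEmb 3).trans (Function.Embedding.refl _))).upd 0 3 2 (le_of_eq hx04)).upd 2 3 3 (le_of_eq hx24)).upd 3 0 1 (le_of_eq hx40)).upd 3 2 1 (le_of_eq hx42)) ![1,0,1,1] (by decide) (by decide) 0 (by decide))
    · -- 14=(1,1)
      rcases d24 with ⟨rfl, rfl⟩ | ⟨rfl, rfl⟩ | ⟨rfl, rfl⟩ | ⟨rfl, rfl⟩ | ⟨rfl, rfl⟩ | ⟨rfl, rfl⟩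
      · -- 24=(0,0)
        rcases d34 with ⟨rfl, rfl⟩ | ⟨rfl, rfl⟩ | ⟨rfl, rfl⟩ | ⟨rfl, rfl⟩ | ⟨rfl, rfl⟩ | ⟨rfl, rfl⟩
        · -- 34=(0,0)
          refine ⟨(⟨![0, 4, 1, 2, 3], ![0, 2, 3, 4, 1], by decide, by decide⟩ : Equiv.Perm (Fin 5)), T.m 0, T.w 0, Or.inr (Or.inr (Or.inr (Or.inr (Or.inl ?_))))⟩
          show T.m 0 = T.m 0 ∧ T.m 4 = T.m 0 ∧ T.m 1 = T.m 0 ∧ T.m 2 = T.m 0 ∧ T.m 3 = T.m 0 ∧ T.w 0 = T.w 0 ∧ T.w 4 = 2 * T.w 0 ∧ T.w 1 = 2 * T.w 0 ∧ T.w 2 = 2 * T.w 0 ∧ T.w 3 = T.w 0 ∧ T.a 0 0 = -2 * T.w 0 ∧ T.a 0 4 = 2 * T.w 0 ∧ T.a 0 1 = 0 ∧ T.a 0 2 = 0 ∧ T.a 0 3 = 0 ∧ T.a 4 4 = -4 * T.w 0 ∧ T.a 4 1 = 2 * T.w 0 ∧ T.a 4 2 = 0 ∧ T.a 4 3 = 0 ∧ T.a 1 1 = -4 * T.w 0 ∧ T.a 1 2 = 2 * T.w 0 ∧ T.a 1 3 = 0 ∧ T.a 2 2 = -4 * T.w 0 ∧ T.a 2 3 = 2 * T.w 0 ∧ T.a 3 3 = -2 * T.w 0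
          refine ⟨?_, ?_, ?_, ?_, ?_, ?_, ?_, ?_, ?_, ?_, ?_, ?_, ?_, ?_, ?_, ?_, ?_, ?_, ?_, ?_, ?_, ?_, ?_, ?_, ?_⟩ <;> omega
        · -- 34=(1,1)
          exact False.elim (cert_false T ((skipEmb 2).trans (Function.Embedding.refl _)) (by norm_num) (fun _ => hall _) (((((((LB_zero T ((skipEmb 2).trans (Function.Embedding.refl _))).upd 0 3 2 (le_of_eq hx04)).upd 1 3 1 (le_of_eq hx14)).upd 2 3 1 (le_of_eq hx34)).upd 3 0 1 (le_of_eq hx40)).upd 3 1 1 (le_of_eq hx41)).upd 3 2 1 (le_of_eq hx43)) ![2,1,1,2] (by decide) (by decide) 0 (by decide))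
        · -- 34=(1,2)
          exact False.elim (cert_false T ((skipEmb 2).trans (Function.Embedding.refl _)) (by norm_num) (fun _ => hall _) (((((((LB_zero T ((skipEmb 2).trans (Function.Embedding.refl _))).upd 0 3 2 (le_of_eq hx04)).upd 1 3 1 (le_of_eq hx14)).upd 2 3 1 (le_of_eq hx34)).upd 3 0 1 (le_of_eq hx40)).upd 3 1 1 (le_of_eq hx41)).upd 3 2 2 (le_of_eq hx43)) ![1,1,1,2] (by decide) (by decide) 0 (by decide))
        · -- 34=(2,1)
          exact False.elim (cert_false T ((skipEmb 2).trans (Function.Embedding.refl _)) (by norm_num) (fun _ => hall _) (((((LB_zero T ((skipEmb 2).trans (Function.Embedding.refl _))).upd 0 3 2 (le_of_eq hx04)).upd 2 3 2 (le_of_eq hx34)).upd 3 0 1 (le_of_eq hx40)).upd 3 2 1 (le_of_eq hx43)) ![1,0,1,1] (by decide) (by decide) 0 (by decide))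
        · -- 34=(1,3)
          exact False.elim (cert_false T ((skipEmb 2).trans (Function.Embedding.refl _)) (by norm_num) (fun _ => hall _) (((((LB_zero T ((skipEmb 2).trans (Function.Embedding.refl _))).upd 1 3 1 (le_of_eq hx14)).upd 2 3 1 (le_of_eq hx34)).upd 3 1 1 (le_of_eq hx41)).upd 3 2 3 (le_of_eq hx43)) ![0,1,1,2] (by decide) (by decide) 1 (by decide))
        · -- 34=(3,1)
          exact False.elim (cert_false T ((skipEmb 2).trans (Function.Embedding.refl _)) (by norm_num) (fun _ => hall _) (((((LB_zero T ((skipEmb 2).trans (Function.Embedding.refl _))).upd 0 3 2 (le_of_eq hx04)).upd 2 3 3 (le_of_eq hx34)).upd 3 0 1 (le_of_eq hx40)).upd 3 2 1 (le_of_eq hx43)) ![1,0,1,1] (by decide) (by decide) 0 (by decide))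
      · -- 24=(1,1)
        exact False.elim (cert_false T ((skipEmb 3).trans (Function.Embedding.refl _)) (by norm_num) (fun _ => hall _) (((((((LB_zero T ((skipEmb 3).trans (Function.Embedding.refl _))).upd 1 2 1 (le_of_eq hx12)).upd 1 3 1 (le_of_eq hx14)).upd 2 1 1 (le_of_eq hx21)).upd 2 3 1 (le_of_eq hx24)).upd 3 1 1 (le_of_eq hx41)).upd 3 2 1 (le_of_eq hx42)) ![0,1,1,1] (by decide) (by decide) 1 (by decide))
      · -- 24=(1,2)
        exact False.elim (cert_false T ((skipEmb 3).trans (Function.Embedding.refl _)) (by norm_num) (fun _ => hall _) (((((((LB_zero T ((skipEmb 3).trans (Function.Embedding.refl _))).upd 1 2 1 (le_of_eq hx12)).upd 1 3 1 (le_of_eq hx14)).upd 2 1 1 (le_of_eq hx21)).upd 2 3 1 (le_of_eq hx24)).upd 3 1 1 (le_of_eq hx41)).upd 3 2 2 (le_of_eq hx42)) ![0,1,1,1] (by decide) (by decide) 1 (by decide))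
      · -- 24=(2,1)
        exact False.elim (cert_false T ((skipEmb 3).trans (Function.Embedding.refl _)) (by norm_num) (fun _ => hall _) (((((LB_zero T ((skipEmb 3).trans (Function.Embedding.refl _))).upd 0 3 2 (le_of_eq hx04)).upd 2 3 2 (le_of_eq hx24)).upd 3 0 1 (le_of_eq hx40)).upd 3 2 1 (le_of_eq hx42)) ![1,0,1,1] (by decide) (by decide) 0 (by decide))
      · -- 24=(1,3)
        exact False.elim (cert_false T ((skipEmb 3).trans (Function.Embedding.refl _)) (by norm_num) (fun _ => hall _) (((((((LB_zero T ((skipEmb 3).trans (Function.Embedding.refl _))).upd 1 2 1 (le_of_eq hx12)).upd 1 3 1 (le_of_eq hx14)).upd 2 1 1 (le_of_eq hx21)).upd 2 3 1 (le_of_eq hx24)).upd 3 1 1 (le_of_eq hx41)).upd 3 2 3 (le_of_eq hx42)) ![0,1,1,1] (by decide) (by decide) 1 (by decide))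
      · -- 24=(3,1)
        exact False.elim (cert_false T ((skipEmb 3).trans (Function.Embedding.refl _)) (by norm_num) (fun _ => hall _) (((((LB_zero T ((skipEmb 3).trans (Function.Embedding.refl _))).upd 0 3 2 (le_of_eq hx04)).upd 2 3 3 (le_of_eq hx24)).upd 3 0 1 (le_of_eq hx40)).upd 3 2 1 (le_of_eq hx42)) ![1,0,1,1] (by decide) (by decide) 0 (by decide))
    · -- 14=(1,2)
      exact False.elim (cert_false T ((skipEmb 3).trans (Function.Embedding.refl _)) (by norm_num) (fun _ => hall _) (((((LB_zero T ((skipEmb 3).trans (Function.Embedding.refl _))).upd 0 3 2 (le_of_eq hx04)).upd 1 3 1 (le_of_eq hx14)).upd 3 0 1 (le_of_eq hx40)).upd 3 1 2 (le_of_eq hx41)) ![2,1,0,2] (by decide) (by decide) 0 (by decide))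
    · -- 14=(2,1)
      exact False.elim (cert_false T ((skipEmb 3).trans (Function.Embedding.refl _)) (by norm_num) (fun _ => hall _) (((((LB_zero T ((skipEmb 3).trans (Function.Embedding.refl _))).upd 0 3 2 (le_of_eq hx04)).upd 1 3 2 (le_of_eq hx14)).upd 3 0 1 (le_of_eq hx40)).upd 3 1 1 (le_of_eq hx41)) ![1,1,0,1] (by decide) (by decide) 0 (by decide))
    · -- 14=(1,3)
      exact False.elim (cert_false T ((skipEmb 3).trans (Function.Embedding.refl _)) (by norm_num) (fun _ => hall _) (((((LB_zero T ((skipEmb 3).trans (Function.Embedding.refl _))).upd 0 3 2 (le_of_eq hx04)).upd 1 3 1 (le_of_eq hx14)).upd 3 0 1 (le_of_eq hx40)).upd 3 1 3 (le_of_eq hx41)) ![1,1,0,2] (by decide) (by decide) 0 (by decide))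
    · -- 14=(3,1)
      exact False.elim (cert_false T ((skipEmb 3).trans (Function.Embedding.refl _)) (by norm_num) (fun _ => hall _) (((((LB_zero T ((skipEmb 3).trans (Function.Embedding.refl _))).upd 0 3 2 (le_of_eq hx04)).upd 1 3 3 (le_of_eq hx14)).upd 3 0 1 (le_of_eq hx40)).upd 3 1 1 (le_of_eq hx41)) ![1,1,0,1] (by decide) (by decide) 0 (by decide))
  · -- 04=(1,3)
    rcases d14 with ⟨rfl, rfl⟩ | ⟨rfl, rfl⟩ | ⟨rfl, rfl⟩ | ⟨rfl, rfl⟩ | ⟨rfl, rfl⟩ | ⟨rfl, rfl⟩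
    · -- 14=(0,0)
      rcases d24 with ⟨rfl, rfl⟩ | ⟨rfl, rfl⟩ | ⟨rfl, rfl⟩ | ⟨rfl, rfl⟩ | ⟨rfl, rfl⟩ | ⟨rfl, rfl⟩
      · -- 24=(0,0)
        rcases d34 with ⟨rfl, rfl⟩ | ⟨rfl, rfl⟩ | ⟨rfl, rfl⟩ | ⟨rfl, rfl⟩ | ⟨rfl, rfl⟩ | ⟨rfl, rfl⟩
        · -- 34=(0,0)
          exfalso; omega
        · -- 34=(1,1)
          exact False.elim (cert_false T ((skipEmb 2).trans (Function.Embedding.refl _)) (by norm_num) (fun _ => hall _) (((((LB_zero T ((skipEmb 2).trans (Function.Embedding.refl _))).upd 0 3 1 (le_of_eq hx04)).upd 2 3 1 (le_of_eq hx34)).upd 3 0 3 (le_of_eq hx40)).upd 3 2 1 (le_of_eq hx43)) ![1,0,1,2] (by decide) (by decide) 0 (by decide))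
        · -- 34=(1,2)
          exact False.elim (cert_false T ((skipEmb 2).trans (Function.Embedding.refl _)) (by norm_num) (fun _ => hall _) (((((LB_zero T ((skipEmb 2).trans (Function.Embedding.refl _))).upd 0 3 1 (le_of_eq hx04)).upd 2 3 1 (le_of_eq hx34)).upd 3 0 3 (le_of_eq hx40)).upd 3 2 2 (le_of_eq hx43)) ![1,0,1,2] (by decide) (by decide) 0 (by decide))
        · -- 34=(2,1)
          exact False.elim (cert_false T ((skipEmb 2).trans (Function.Embedding.refl _)) (by norm_num) (fun _ => hall _) (((((LB_zero T ((skipEmb 2).trans (Function.Embedding.refl _))).upd 0 3 1 (le_of_eq hx04)).upd 2 3 2 (le_of_eq hx34)).upd 3 0 3 (le_of_eq hx40)).upd 3 2 1 (le_of_eq hx43)) ![1,0,1,2] (by decide) (by decide) 0 (by decide))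
        · -- 34=(1,3)
          exact False.elim (cert_false T ((skipEmb 2).trans (Function.Embedding.refl _)) (by norm_num) (fun _ => hall _) (((((LB_zero T ((skipEmb 2).trans (Function.Embedding.refl _))).upd 0 3 1 (le_of_eq hx04)).upd 2 3 1 (le_of_eq hx34)).upd 3 0 3 (le_of_eq hx40)).upd 3 2 3 (le_of_eq hx43)) ![1,0,1,2] (by decide) (by decide) 0 (by decide))
        · -- 34=(3,1)
          exact False.elim (cert_false T ((skipEmb 2).trans (Function.Embedding.refl _)) (by norm_num) (fun _ => hall _) (((((LB_zero T ((skipEmb 2).trans (Function.Embedding.refl _))).upd 0 3 1 (le_of_eq hx04)).upd 2 3 3 (le_of_eq hx34)).upd 3 0 3 (le_of_eq hx40)).upd 3 2 1 (le_of_eq hx43)) ![1,0,1,2] (by decide) (by decide) 0 (by decide))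
      · -- 24=(1,1)
        exact False.elim (cert_false T ((skipEmb 3).trans (Function.Embedding.refl _)) (by norm_num) (fun _ => hall _) (((((LB_zero T ((skipEmb 3).trans (Function.Embedding.refl _))).upd 0 3 1 (le_of_eq hx04)).upd 2 3 1 (le_of_eq hx24)).upd 3 0 3 (le_of_eq hx40)).upd 3 2 1 (le_of_eq hx42)) ![1,0,1,2] (by decide) (by decide) 0 (by decide))
      · -- 24=(1,2)
        exact False.elim (cert_false T ((skipEmb 3).trans (Function.Embedding.refl _)) (by norm_num) (fun _ => hall _) (((((LB_zero T ((skipEmb 3).trans (Function.Embedding.refl _))).upd 0 3 1 (le_of_eq hx04)).upd 2 3 1 (le_of_eq hx24)).upd 3 0 3 (le_of_eq hx40)).upd 3 2 2 (le_of_eq hx42)) ![1,0,1,2] (by decide) (by decide) 0 (by decide))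
      · -- 24=(2,1)
        exact False.elim (cert_false T ((skipEmb 3).trans (Function.Embedding.refl _)) (by norm_num) (fun _ => hall _) (((((LB_zero T ((skipEmb 3).trans (Function.Embedding.refl _))).upd 0 3 1 (le_of_eq hx04)).upd 2 3 2 (le_of_eq hx24)).upd 3 0 3 (le_of_eq hx40)).upd 3 2 1 (le_of_eq hx42)) ![1,0,1,2] (by decide) (by decide) 0 (by decide))
      · -- 24=(1,3)
        exact False.elim (cert_false T ((skipEmb 3).trans (Function.Embedding.refl _)) (by norm_num) (fun _ => hall _) (((((LB_zero T ((skipEmb 3).trans (Function.Embedding.refl _))).upd 0 3 1 (le_of_eq hx04)).upd 2 3 1 (le_of_eq hx24)).upd 3 0 3 (le_of_eq hx40)).upd 3 2 3 (le_of_eq hx42)) ![1,0,1,2] (by decide) (by decide) 0 (by decide))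
      · -- 24=(3,1)
        exact False.elim (cert_false T ((skipEmb 3).trans (Function.Embedding.refl _)) (by norm_num) (fun _ => hall _) (((((LB_zero T ((skipEmb 3).trans (Function.Embedding.refl _))).upd 0 3 1 (le_of_eq hx04)).upd 2 3 3 (le_of_eq hx24)).upd 3 0 3 (le_of_eq hx40)).upd 3 2 1 (le_of_eq hx42)) ![1,0,1,2] (by decide) (by decide) 0 (by decide))
    · -- 14=(1,1)
      exact False.elim (cert_false T ((skipEmb 3).trans (Function.Embedding.refl _)) (by norm_num) (fun _ => hall _) (((((LB_zero T ((skipEmb 3).trans (Function.Embedding.refl _))).upd 0 3 1 (le_of_eq hx04)).upd 1 3 1 (le_of_eq hx14)).upd 3 0 3 (le_of_eq hx40)).upd 3 1 1 (le_of_eq hx41)) ![1,1,0,2] (by decide) (by decide) 0 (by decide))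
    · -- 14=(1,2)
      exact False.elim (cert_false T ((skipEmb 3).trans (Function.Embedding.refl _)) (by norm_num) (fun _ => hall _) (((((LB_zero T ((skipEmb 3).trans (Function.Embedding.refl _))).upd 0 3 1 (le_of_eq hx04)).upd 1 3 1 (le_of_eq hx14)).upd 3 0 3 (le_of_eq hx40)).upd 3 1 2 (le_of_eq hx41)) ![1,1,0,2] (by decide) (by decide) 0 (by decide))
    · -- 14=(2,1)
      exact False.elim (cert_false T ((skipEmb 3).trans (Function.Embedding.refl _)) (by norm_num) (fun _ => hall _) (((((LB_zero T ((skipEmb 3).trans (Function.Embedding.refl _))).upd 0 3 1 (le_of_eq hx04)).upd 1 3 2 (le_of_eq hx14)).upd 3 0 3 (le_of_eq hx40)).upd 3 1 1 (le_of_eq hx41)) ![1,1,0,2] (by decide) (by decide) 0 (by decide))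
    · -- 14=(1,3)
      exact False.elim (cert_false T ((skipEmb 3).trans (Function.Embedding.refl _)) (by norm_num) (fun _ => hall _) (((((LB_zero T ((skipEmb 3).trans (Function.Embedding.refl _))).upd 0 3 1 (le_of_eq hx04)).upd 1 3 1 (le_of_eq hx14)).upd 3 0 3 (le_of_eq hx40)).upd 3 1 3 (le_of_eq hx41)) ![1,1,0,2] (by decide) (by decide) 0 (by decide))
    · -- 14=(3,1)
      exact False.elim (cert_false T ((skipEmb 3).trans (Function.Embedding.refl _)) (by norm_num) (fun _ => hall _) (((((LB_zero T ((skipEmb 3).trans (Function.Embedding.refl _))).upd 0 3 1 (le_of_eq hx04)).upd 1 3 3 (le_of_eq hx14)).upd 3 0 3 (le_of_eq hx40)).upd 3 1 1 (le_of_eq hx41)) ![1,1,0,2] (by decide) (by decide) 0 (by decide))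
  · -- 04=(3,1)
    rcases d14 with ⟨rfl, rfl⟩ | ⟨rfl, rfl⟩ | ⟨rfl, rfl⟩ | ⟨rfl, rfl⟩ | ⟨rfl, rfl⟩ | ⟨rfl, rfl⟩
    · -- 14=(0,0)
      rcases d24 with ⟨rfl, rfl⟩ | ⟨rfl, rfl⟩ | ⟨rfl, rfl⟩ | ⟨rfl, rfl⟩ | ⟨rfl, rfl⟩ | ⟨rfl, rfl⟩
      · -- 24=(0,0)
        rcases d34 with ⟨rfl, rfl⟩ | ⟨rfl, rfl⟩ | ⟨rfl, rfl⟩ | ⟨rfl, rfl⟩ | ⟨rfl, rfl⟩ | ⟨rfl, rfl⟩
        · -- 34=(0,0)
          exfalso; omega
        · -- 34=(1,1)
          exact False.elim (cert_false T ((skipEmb 2).trans (Function.Embedding.refl _)) (by norm_num) (fun _ => hall _) (((((LB_zero T ((skipEmb 2).trans (Function.Embedding.refl _))).upd 0 3 3 (le_of_eq hx04)).upd 2 3 1 (le_of_eq hx34)).upd 3 0 1 (le_of_eq hx40)).upd 3 2 1 (le_of_eq hx43)) ![3,0,1,2] (by decide) (by decide) 0 (by decide))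
        · -- 34=(1,2)
          exact False.elim (cert_false T ((skipEmb 2).trans (Function.Embedding.refl _)) (by norm_num) (fun _ => hall _) (((((LB_zero T ((skipEmb 2).trans (Function.Embedding.refl _))).upd 0 3 3 (le_of_eq hx04)).upd 2 3 1 (le_of_eq hx34)).upd 3 0 1 (le_of_eq hx40)).upd 3 2 2 (le_of_eq hx43)) ![2,0,1,2] (by decide) (by decide) 0 (by decide))
        · -- 34=(2,1)
          exact False.elim (cert_false T ((skipEmb 2).trans (Function.Embedding.refl _)) (by norm_num) (fun _ => hall _) (((((LB_zero T ((skipEmb 2).trans (Function.Embedding.refl _))).upd 0 3 3 (le_of_eq hx04)).upd 2 3 2 (le_of_eq hx34)).upd 3 0 1 (le_of_eq hx40)).upd 3 2 1 (le_of_eq hx43)) ![1,0,1,1] (by decide) (by decide) 0 (by decide))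
        · -- 34=(1,3)
          exact False.elim (cert_false T ((skipEmb 2).trans (Function.Embedding.refl _)) (by norm_num) (fun _ => hall _) (((((LB_zero T ((skipEmb 2).trans (Function.Embedding.refl _))).upd 0 3 3 (le_of_eq hx04)).upd 2 3 1 (le_of_eq hx34)).upd 3 0 1 (le_of_eq hx40)).upd 3 2 3 (le_of_eq hx43)) ![1,0,1,2] (by decide) (by decide) 0 (by decide))
        · -- 34=(3,1)
          exact False.elim (cert_false T ((skipEmb 2).trans (Function.Embedding.refl _)) (by norm_num) (fun _ => hall _) (((((LB_zero T ((skipEmb 2).trans (Function.Embedding.refl _))).upd 0 3 3 (le_of_eq hx04)).upd 2 3 3 (le_of_eq hx34)).upd 3 0 1 (le_of_eq hx40)).upd 3 2 1 (le_of_eq hx43)) ![1,0,1,1] (by decide) (by decide) 0 (by decide))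
      · -- 24=(1,1)
        exact False.elim (cert_false T ((skipEmb 3).trans (Function.Embedding.refl _)) (by norm_num) (fun _ => hall _) (((((LB_zero T ((skipEmb 3).trans (Function.Embedding.refl _))).upd 0 3 3 (le_of_eq hx04)).upd 2 3 1 (le_of_eq hx24)).upd 3 0 1 (le_of_eq hx40)).upd 3 2 1 (le_of_eq hx42)) ![3,0,1,2] (by decide) (by decide) 0 (by decide))
      · -- 24=(1,2)
        exact False.elim (cert_false T ((skipEmb 3).trans (Function.Embedding.refl _)) (by norm_num) (fun _ => hall _) (((((LB_zero T ((skipEmb 3).trans (Function.Embedding.refl _))).upd 0 3 3 (le_of_eq hx04)).upd 2 3 1 (le_of_eq hx24)).upd 3 0 1 (le_of_eq hx40)).upd 3 2 2 (le_of_eq hx42)) ![2,0,1,2] (by decide) (by decide) 0 (by decide))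
      · -- 24=(2,1)
        exact False.elim (cert_false T ((skipEmb 3).trans (Function.Embedding.refl _)) (by norm_num) (fun _ => hall _) (((((LB_zero T ((skipEmb 3).trans (Function.Embedding.refl _))).upd 0 3 3 (le_of_eq hx04)).upd 2 3 2 (le_of_eq hx24)).upd 3 0 1 (le_of_eq hx40)).upd 3 2 1 (le_of_eq hx42)) ![1,0,1,1] (by decide) (by decide) 0 (by decide))
      · -- 24=(1,3)
        exact False.elim (cert_false T ((skipEmb 3).trans (Function.Embedding.refl _)) (by norm_num) (fun _ => hall _) (((((LB_zero T ((skipEmb 3).trans (Function.Embedding.refl _))).upd 0 3 3 (le_of_eq hx04)).upd 2 3 1 (le_of_eq hx24)).upd 3 0 1 (le_of_eq hx40)).upd 3 2 3 (le_of_eq hx42)) ![1,0,1,2] (by decide) (by decide) 0 (by decide))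
      · -- 24=(3,1)
        exact False.elim (cert_false T ((skipEmb 3).trans (Function.Embedding.refl _)) (by norm_num) (fun _ => hall _) (((((LB_zero T ((skipEmb 3).trans (Function.Embedding.refl _))).upd 0 3 3 (le_of_eq hx04)).upd 2 3 3 (le_of_eq hx24)).upd 3 0 1 (le_of_eq hx40)).upd 3 2 1 (le_of_eq hx42)) ![1,0,1,1] (by decide) (by decide) 0 (by decide))
    · -- 14=(1,1)
      exact False.elim (cert_false T ((skipEmb 3).trans (Function.Embedding.refl _)) (by norm_num) (fun _ => hall _) (((((LB_zero T ((skipEmb 3).trans (Function.Embedding.refl _))).upd 0 3 3 (le_of_eq hx04)).upd 1 3 1 (le_of_eq hx14)).upd 3 0 1 (le_of_eq hx40)).upd 3 1 1 (le_of_eq hx41)) ![3,1,0,2] (by decide) (by decide) 0 (by decide))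
    · -- 14=(1,2)
      exact False.elim (cert_false T ((skipEmb 3).trans (Function.Embedding.refl _)) (by norm_num) (fun _ => hall _) (((((LB_zero T ((skipEmb 3).trans (Function.Embedding.refl _))).upd 0 3 3 (le_of_eq hx04)).upd 1 3 1 (le_of_eq hx14)).upd 3 0 1 (le_of_eq hx40)).upd 3 1 2 (le_of_eq hx41)) ![2,1,0,2] (by decide) (by decide) 0 (by decide))
    · -- 14=(2,1)
      exact False.elim (cert_false T ((skipEmb 3).trans (Function.Embedding.refl _)) (by norm_num) (fun _ => hall _) (((((LB_zero T ((skipEmb 3).trans (Function.Embedding.refl _))).upd 0 3 3 (le_of_eq hx04)).upd 1 3 2 (le_of_eq hx14)).upd 3 0 1 (le_of_eq hx40)).upd 3 1 1 (le_of_eq hx41)) ![1,1,0,1] (by decide) (by decide) 0 (by decide))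
    · -- 14=(1,3)
      exact False.elim (cert_false T ((skipEmb 3).trans (Function.Embedding.refl _)) (by norm_num) (fun _ => hall _) (((((LB_zero T ((skipEmb 3).trans (Function.Embedding.refl _))).upd 0 3 3 (le_of_eq hx04)).upd 1 3 1 (le_of_eq hx14)).upd 3 0 1 (le_of_eq hx40)).upd 3 1 3 (le_of_eq hx41)) ![1,1,0,2] (by decide) (by decide) 0 (by decide))
    · -- 14=(3,1)
      exact False.elim (cert_false T ((skipEmb 3).trans (Function.Embedding.refl _)) (by norm_num) (fun _ => hall _) (((((LB_zero T ((skipEmb 3).trans (Function.Embedding.refl _))).upd 0 3 3 (le_of_eq hx04)).upd 1 3 3 (le_of_eq hx14)).upd 3 0 1 (le_of_eq hx40)).upd 3 1 1 (le_of_eq hx41)) ![1,1,0,1] (by decide) (by decide) 0 (by decide))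

theorem case100 (T : NumericalType 5) (hall : ∀ i, T.IsMinusTwo i) (d : SData T)
    (h01 : N T (Function.Embedding.refl _) 0 1 = 0) (h10 : N T (Function.Embedding.refl _) 1 0 = 0)
    (h02 : N T (Function.Embedding.refl _) 0 2 = 0) (h20 : N T (Function.Embedding.refl _) 2 0 = 0)
    (h12 : N T (Function.Embedding.refl _) 1 2 = 1) (h21 : N T (Function.Embedding.refl _) 2 1 = 1)
    (h03 : N T (Function.Embedding.refl _) 0 3 = 0) (h30 : N T (Function.Embedding.refl _) 3 0 = 0)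
    (h13 : N T (Function.Embedding.refl _) 1 3 = 0) (h31 : N T (Function.Embedding.refl _) 3 1 = 0)
    (h23 : N T (Function.Embedding.refl _) 2 3 = 2) (h32 : N T (Function.Embedding.refl _) 3 2 = 1) :
    Goal T := by
  unfold Goal
  have hd := d
  obtain ⟨x01, x02, x03, x04, x10, x12, x13, x14, x20, x21, x23, x24, x30, x31, x32, x34, x40, x41, x42, x43, hx01, hx02, hx03, hx04, hx10, hx12, hx13, hx14, hx20, hx21, hx23, hx24, hx30, hx31, hx32, hx34, hx40, hx41, hx42, hx43, hw0, hm0, hw1, hm1, hw2, hm2, hw3, hm3, hw4, hm4, a00, a01, a02, a03, a04, a11, a10, a12, a13, a14, a22, a20, a21, a23, a24, a33, a30, a31, a32, a34, a44, a40, a41, a42, a43, wN01, wN02, wN12, wN03, wN13, wN23, wN04, wN14, wN24, wN34, e0, e1, e2, e3, e4, d01, d02, d12, d03, d13, d23, d04, d14, d24, d34⟩ := d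
  obtain rfl : x01 = 0 := hx01.trans h01
  obtain rfl : x10 = 0 := hx10.trans h10
  obtain rfl : x02 = 0 := hx02.trans h02
  obtain rfl : x20 = 0 := hx20.trans h20
  obtain rfl : x12 = 1 := hx12.trans h12
  obtain rfl : x21 = 1 := hx21.trans h21
  obtain rfl : x03 = 0 := hx03.trans h03
  obtain rfl : x30 = 0 := hx30.trans h30
  obtain rfl : x13 = 0 := hx13.trans h13
  obtain rfl : x31 = 0 := hx31.trans h31
  obtain rfl : x23 = 2 := hx23.trans h23
  obtain rfl : x32 = 1 := hx32.trans h32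
  rcases d04 with ⟨rfl, rfl⟩ | ⟨rfl, rfl⟩ | ⟨rfl, rfl⟩ | ⟨rfl, rfl⟩ | ⟨rfl, rfl⟩ | ⟨rfl, rfl⟩
  · -- 04=(0,0)
    rcases d14 with ⟨rfl, rfl⟩ | ⟨rfl, rfl⟩ | ⟨rfl, rfl⟩ | ⟨rfl, rfl⟩ | ⟨rfl, rfl⟩ | ⟨rfl, rfl⟩
    · -- 14=(0,0)
      rcases d24 with ⟨rfl, rfl⟩ | ⟨rfl, rfl⟩ | ⟨rfl, rfl⟩ | ⟨rfl, rfl⟩ | ⟨rfl, rfl⟩ | ⟨rfl, rfl⟩
      · -- 24=(0,0)
        rcases d34 with ⟨rfl, rfl⟩ | ⟨rfl, rfl⟩ | ⟨rfl, rfl⟩ | ⟨rfl, rfl⟩ | ⟨rfl, rfl⟩ | ⟨rfl, rfl⟩
        · -- 34=(0,0)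
          exfalso; omega
        · -- 34=(1,1)
          exfalso; omega
        · -- 34=(1,2)
          exact False.elim (cert_false T ((skipEmb 1).trans (Function.Embedding.refl _)) (by norm_num) (fun _ => hall _) (((((LB_zero T ((skipEmb 1).trans (Function.Embedding.refl _))).upd 1 2 2 (le_of_eq hx23)).upd 2 1 1 (le_of_eq hx32)).upd 2 3 1 (le_of_eq hx34)).upd 3 2 2 (le_of_eq hx43)) ![0,1,1,1] (by decide) (by decide) 1 (by decide))
        · -- 34=(2,1)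
          exact False.elim (cert_false T ((skipEmb 1).trans (Function.Embedding.refl _)) (by norm_num) (fun _ => hall _) (((((LB_zero T ((skipEmb 1).trans (Function.Embedding.refl _))).upd 1 2 2 (le_of_eq hx23)).upd 2 1 1 (le_of_eq hx32)).upd 2 3 2 (le_of_eq hx34)).upd 3 2 1 (le_of_eq hx43)) ![0,2,2,1] (by decide) (by decide) 1 (by decide))
        · -- 34=(1,3)
          exact False.elim (cert_false T ((skipEmb 1).trans (Function.Embedding.refl _)) (by norm_num) (fun _ => hall _) (((((LB_zero T ((skipEmb 1).trans (Function.Embedding.refl _))).upd 1 2 2 (le_of_eq hx23)).upd 2 1 1 (le_of_eq hx32)).upd 2 3 1 (le_of_eq hx34)).upd 3 2 3 (le_of_eq hx43)) ![0,1,1,1] (by decide) (by decide) 1 (by decide))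
        · -- 34=(3,1)
          exact False.elim (cert_false T ((skipEmb 1).trans (Function.Embedding.refl _)) (by norm_num) (fun _ => hall _) (((((LB_zero T ((skipEmb 1).trans (Function.Embedding.refl _))).upd 1 2 2 (le_of_eq hx23)).upd 2 1 1 (le_of_eq hx32)).upd 2 3 3 (le_of_eq hx34)).upd 3 2 1 (le_of_eq hx43)) ![0,1,2,1] (by decide) (by decide) 1 (by decide))
      · -- 24=(1,1)
        exact False.elim (cert_false T ((skipEmb 0).trans (Function.Embedding.refl _)) (by norm_num) (fun _ => hall _) (((((((LB_zero T ((skipEmb 0).trans (Function.Embedding.refl _))).upd 0 1 1 (le_of_eq hx12)).upd 1 0 1 (le_of_eq hx21)).upd 1 2 2 (le_of_eq hx23)).upd 1 3 1 (le_of_eq hx24)).upd 2 1 1 (le_of_eq hx32)).upd 3 1 1 (le_of_eq hx42)) ![1,2,1,1] (by decide) (by decide) 0 (by decide))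
      · -- 24=(1,2)
        exact False.elim (cert_false T ((skipEmb 1).trans (Function.Embedding.refl _)) (by norm_num) (fun _ => hall _) (((((LB_zero T ((skipEmb 1).trans (Function.Embedding.refl _))).upd 1 2 2 (le_of_eq hx23)).upd 1 3 1 (le_of_eq hx24)).upd 2 1 1 (le_of_eq hx32)).upd 3 1 2 (le_of_eq hx42)) ![0,2,1,2] (by decide) (by decide) 1 (by decide))
      · -- 24=(2,1)
        exact False.elim (cert_false T ((skipEmb 1).trans (Function.Embedding.refl _)) (by norm_num) (fun _ => hall _) (((((LB_zero T ((skipEmb 1).trans (Function.Embedding.refl _))).upd 1 2 2 (le_of_eq hx23)).upd 1 3 2 (le_of_eq hx24)).upd 2 1 1 (le_of_eq hx32)).upd 3 1 1 (le_of_eq hx42)) ![0,2,1,1] (by decide) (by decide) 1 (by decide))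
      · -- 24=(1,3)
        exact False.elim (cert_false T ((skipEmb 3).trans (Function.Embedding.refl _)) (by norm_num) (fun _ => hall _) (((((LB_zero T ((skipEmb 3).trans (Function.Embedding.refl _))).upd 1 2 1 (le_of_eq hx12)).upd 2 1 1 (le_of_eq hx21)).upd 2 3 1 (le_of_eq hx24)).upd 3 2 3 (le_of_eq hx42)) ![0,1,2,3] (by decide) (by decide) 1 (by decide))
      · -- 24=(3,1)
        exact False.elim (cert_false T ((skipEmb 3).trans (Function.Embedding.refl _)) (by norm_num) (fun _ => hall _) (((((LB_zero T ((skipEmb 3).trans (Function.Embedding.refl _))).upd 1 2 1 (le_of_eq hx12)).upd 2 1 1 (le_of_eq hx21)).upd 2 3 3 (le_of_eq hx24)).upd 3 2 1 (le_of_eq hx42)) ![0,1,2,1] (by decide) (by decide) 1 (by decide))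
    · -- 14=(1,1)
      rcases d24 with ⟨rfl, rfl⟩ | ⟨rfl, rfl⟩ | ⟨rfl, rfl⟩ | ⟨rfl, rfl⟩ | ⟨rfl, rfl⟩ | ⟨rfl, rfl⟩
      · -- 24=(0,0)
        rcases d34 with ⟨rfl, rfl⟩ | ⟨rfl, rfl⟩ | ⟨rfl, rfl⟩ | ⟨rfl, rfl⟩ | ⟨rfl, rfl⟩ | ⟨rfl, rfl⟩
        · -- 34=(0,0)
          exfalso; omega
        · -- 34=(1,1)
          exact False.elim (cert_false T ((skipEmb 0).trans (Function.Embedding.refl _)) (by norm_num) (fun _ => hall _) (((((((((LB_zero T ((skipEmb 0).trans (Function.Embedding.refl _))).upd 0 1 1 (le_of_eq hx12)).upd 0 3 1 (le_of_eq hx14)).upd 1 0 1 (le_of_eq hx21)).upd 1 2 2 (le_of_eq hx23)).upd 2 1 1 (le_of_eq hx32)).upd 2 3 1 (le_of_eq hx34)).upd 3 0 1 (le_of_eq hx41)).upd 3 2 1 (le_of_eq hx43)) ![1,1,1,1] (by decide) (by decide) 0 (by decide))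
        · -- 34=(1,2)
          exact False.elim (cert_false T ((skipEmb 1).trans (Function.Embedding.refl _)) (by norm_num) (fun _ => hall _) (((((LB_zero T ((skipEmb 1).trans (Function.Embedding.refl _))).upd 1 2 2 (le_of_eq hx23)).upd 2 1 1 (le_of_eq hx32)).upd 2 3 1 (le_of_eq hx34)).upd 3 2 2 (le_of_eq hx43)) ![0,1,1,1] (by decide) (by decide) 1 (by decide))
        · -- 34=(2,1)
          exact False.elim (cert_false T ((skipEmb 1).trans (Function.Embedding.refl _)) (by norm_num) (fun _ => hall _) (((((LB_zero T ((skipEmb 1).trans (Function.Embedding.refl _))).upd 1 2 2 (le_of_eq hx23)).upd 2 1 1 (le_of_eq hx32)).upd 2 3 2 (le_of_eq hx34)).upd 3 2 1 (le_of_eq hx43)) ![0,2,2,1] (by decide) (by decide) 1 (by decide))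
        · -- 34=(1,3)
          exact False.elim (cert_false T ((skipEmb 2).trans (Function.Embedding.refl _)) (by norm_num) (fun _ => hall _) (((((LB_zero T ((skipEmb 2).trans (Function.Embedding.refl _))).upd 1 3 1 (le_of_eq hx14)).upd 2 3 1 (le_of_eq hx34)).upd 3 1 1 (le_of_eq hx41)).upd 3 2 3 (le_of_eq hx43)) ![0,1,1,2] (by decide) (by decide) 1 (by decide))
        · -- 34=(3,1)
          exact False.elim (cert_false T ((skipEmb 2).trans (Function.Embedding.refl _)) (by norm_num) (fun _ => hall _) (((((LB_zero T ((skipEmb 2).trans (Function.Embedding.refl _))).upd 1 3 1 (le_of_eq hx14)).upd 2 3 3 (le_of_eq hx34)).upd 3 1 1 (le_of_eq hx41)).upd 3 2 1 (le_of_eq hx43)) ![0,1,3,2] (by decide) (by decide) 1 (by decide))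
      · -- 24=(1,1)
        exact False.elim (cert_false T ((skipEmb 3).trans (Function.Embedding.refl _)) (by norm_num) (fun _ => hall _) (((((((LB_zero T ((skipEmb 3).trans (Function.Embedding.refl _))).upd 1 2 1 (le_of_eq hx12)).upd 1 3 1 (le_of_eq hx14)).upd 2 1 1 (le_of_eq hx21)).upd 2 3 1 (le_of_eq hx24)).upd 3 1 1 (le_of_eq hx41)).upd 3 2 1 (le_of_eq hx42)) ![0,1,1,1] (by decide) (by decide) 1 (by decide))
      · -- 24=(1,2)
        exact False.elim (cert_false T ((skipEmb 3).trans (Function.Embedding.refl _)) (by norm_num) (fun _ => hall _) (((((((LB_zero T ((skipEmb 3).trans (Function.Embedding.refl _))).upd 1 2 1 (le_of_eq hx12)).upd 1 3 1 (le_of_eq hx14)).upd 2 1 1 (le_of_eq hx21)).upd 2 3 1 (le_of_eq hx24)).upd 3 1 1 (le_of_eq hx41)).upd 3 2 2 (le_of_eq hx42)) ![0,1,1,1] (by decide) (by decide) 1 (by decide))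
      · -- 24=(2,1)
        exact False.elim (cert_false T ((skipEmb 3).trans (Function.Embedding.refl _)) (by norm_num) (fun _ => hall _) (((((((LB_zero T ((skipEmb 3).trans (Function.Embedding.refl _))).upd 1 2 1 (le_of_eq hx12)).upd 1 3 1 (le_of_eq hx14)).upd 2 1 1 (le_of_eq hx21)).upd 2 3 2 (le_of_eq hx24)).upd 3 1 1 (le_of_eq hx41)).upd 3 2 1 (le_of_eq hx42)) ![0,1,1,1] (by decide) (by decide) 1 (by decide))
      · -- 24=(1,3)
        exact False.elim (cert_false T ((skipEmb 3).trans (Function.Embedding.refl _)) (by norm_num) (fun _ => hall _) (((((((LB_zero T ((skipEmb 3).trans (Function.Embedding.refl _))).upd 1 2 1 (le_of_eq hx12)).upd 1 3 1 (le_of_eq hx14)).upd 2 1 1 (le_of_eq hx21)).upd 2 3 1 (le_of_eq hx24)).upd 3 1 1 (le_of_eq hx41)).upd 3 2 3 (le_of_eq hx42)) ![0,1,1,1] (by decide) (by decide) 1 (by decide))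
      · -- 24=(3,1)
        exact False.elim (cert_false T ((skipEmb 3).trans (Function.Embedding.refl _)) (by norm_num) (fun _ => hall _) (((((((LB_zero T ((skipEmb 3).trans (Function.Embedding.refl _))).upd 1 2 1 (le_of_eq hx12)).upd 1 3 1 (le_of_eq hx14)).upd 2 1 1 (le_of_eq hx21)).upd 2 3 3 (le_of_eq hx24)).upd 3 1 1 (le_of_eq hx41)).upd 3 2 1 (le_of_eq hx42)) ![0,1,1,1] (by decide) (by decide) 1 (by decide))
    · -- 14=(1,2)
      exact False.elim (cert_false T ((skipEmb 0).trans (Function.Embedding.refl _)) (by norm_num) (fun _ => hall _) (((((((LB_zero T ((skipEmb 0).trans (Function.Embedding.refl _))).upd 0 1 1 (le_of_eq hx12)).upd 0 3 1 (le_of_eq hx14)).upd 1 0 1 (le_of_eq hx21)).upd 1 2 2 (le_of_eq hx23)).upd 2 1 1 (le_of_eq hx32)).upd 3 0 2 (le_of_eq hx41)) ![2,2,1,2] (by decide) (by decide) 0 (by decide))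
    · -- 14=(2,1)
      exact False.elim (cert_false T ((skipEmb 0).trans (Function.Embedding.refl _)) (by norm_num) (fun _ => hall _) (((((((LB_zero T ((skipEmb 0).trans (Function.Embedding.refl _))).upd 0 1 1 (le_of_eq hx12)).upd 0 3 2 (le_of_eq hx14)).upd 1 0 1 (le_of_eq hx21)).upd 1 2 2 (le_of_eq hx23)).upd 2 1 1 (le_of_eq hx32)).upd 3 0 1 (le_of_eq hx41)) ![2,2,1,1] (by decide) (by decide) 0 (by decide))
    · -- 14=(1,3)
      exact False.elim (cert_false T ((skipEmb 3).trans (Function.Embedding.refl _)) (by norm_num) (fun _ => hall _) (((((LB_zero T ((skipEmb 3).trans (Function.Embedding.refl _))).upd 1 2 1 (le_of_eq hx12)).upd 1 3 1 (le_of_eq hx14)).upd 2 1 1 (le_of_eq hx21)).upd 3 1 3 (le_of_eq hx41)) ![0,2,1,3] (by decide) (by decide) 1 (by decide))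
    · -- 14=(3,1)
      exact False.elim (cert_false T ((skipEmb 3).trans (Function.Embedding.refl _)) (by norm_num) (fun _ => hall _) (((((LB_zero T ((skipEmb 3).trans (Function.Embedding.refl _))).upd 1 2 1 (le_of_eq hx12)).upd 1 3 3 (le_of_eq hx14)).upd 2 1 1 (le_of_eq hx21)).upd 3 1 1 (le_of_eq hx41)) ![0,2,1,1] (by decide) (by decide) 1 (by decide))
  · -- 04=(1,1)
    rcases d14 with ⟨rfl, rfl⟩ | ⟨rfl, rfl⟩ | ⟨rfl, rfl⟩ | ⟨rfl, rfl⟩ | ⟨rfl, rfl⟩ | ⟨rfl, rfl⟩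
    · -- 14=(0,0)
      rcases d24 with ⟨rfl, rfl⟩ | ⟨rfl, rfl⟩ | ⟨rfl, rfl⟩ | ⟨rfl, rfl⟩ | ⟨rfl, rfl⟩ | ⟨rfl, rfl⟩
      · -- 24=(0,0)
        rcases d34 with ⟨rfl, rfl⟩ | ⟨rfl, rfl⟩ | ⟨rfl, rfl⟩ | ⟨rfl, rfl⟩ | ⟨rfl, rfl⟩ | ⟨rfl, rfl⟩
        · -- 34=(0,0)
          exfalso; omega
        · -- 34=(1,1)
          refine ⟨(⟨![0, 4, 3, 2, 1], ![0, 4, 3, 2, 1], by decide, by decide⟩ : Equiv.Perm (Fin 5)), T.m 0, T.w 2, Or.inr (Or.inr (Or.inl ?_))⟩
          show T.m 0 = T.m 0 ∧ T.m 4 = 2 * T.m 0 ∧ T.m 3 = 3 * T.m 0 ∧ T.m 2 = 4 * T.m 0 ∧ T.m 1 = 2 * T.m 0 ∧ T.w 0 = 2 * T.w 2 ∧ T.w 4 = 2 * T.w 2 ∧ T.w 3 = 2 * T.w 2 ∧ T.w 2 = T.w 2 ∧ T.w 1 = T.w 2 ∧ T.a 0 0 = -4 * T.w 2 ∧ T.a 0 4 = 2 * T.w 2 ∧ T.a 0 3 = 0 ∧ T.a 0 2 = 0 ∧ T.a 0 1 = 0 ∧ T.a 4 4 = -4 * T.w 2 ∧ T.a 4 3 = 2 * T.w 2 ∧ T.a 4 2 = 0 ∧ T.a 4 1 = 0 ∧ T.a 3 3 = -4 * T.w 2 ∧ T.a 3 2 = 2 * T.w 2 ∧ T.a 3 1 = 0 ∧ T.a 2 2 = -2 * T.w 2 ∧ T.a 2 1 = T.w 2 ∧ T.a 1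 1 = -2 * T.w 2
          refine ⟨?_, ?_, ?_, ?_, ?_, ?_, ?_, ?_, ?_, ?_, ?_, ?_, ?_, ?_, ?_, ?_, ?_, ?_, ?_, ?_, ?_, ?_, ?_, ?_, ?_⟩ <;> omega
        · -- 34=(1,2)
          exact False.elim (cert_false T ((skipEmb 1).trans (Function.Embedding.refl _)) (by norm_num) (fun _ => hall _) (((((LB_zero T ((skipEmb 1).trans (Function.Embedding.refl _))).upd 1 2 2 (le_of_eq hx23)).upd 2 1 1 (le_of_eq hx32)).upd 2 3 1 (le_of_eq hx34)).upd 3 2 2 (le_of_eq hx43)) ![0,1,1,1] (by decide) (by decide) 1 (by decide))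
        · -- 34=(2,1)
          exact False.elim (cert_false T ((skipEmb 1).trans (Function.Embedding.refl _)) (by norm_num) (fun _ => hall _) (((((LB_zero T ((skipEmb 1).trans (Function.Embedding.refl _))).upd 1 2 2 (le_of_eq hx23)).upd 2 1 1 (le_of_eq hx32)).upd 2 3 2 (le_of_eq hx34)).upd 3 2 1 (le_of_eq hx43)) ![0,2,2,1] (by decide) (by decide) 1 (by decide))
        · -- 34=(1,3)
          exact False.elim (cert_false T ((skipEmb 2).trans (Function.Embedding.refl _)) (by norm_num) (fun _ => hall _) (((((LB_zero T ((skipEmb 2).trans (Function.Embedding.refl _))).upd 0 3 1 (le_of_eq hx04)).upd 2 3 1 (le_of_eq hx34)).upd 3 0 1 (le_of_eq hx40)).upd 3 2 3 (le_of_eq hx43)) ![1,0,1,2] (by decide) (by decide) 0 (by decide))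
        · -- 34=(3,1)
          exact False.elim (cert_false T ((skipEmb 2).trans (Function.Embedding.refl _)) (by norm_num) (fun _ => hall _) (((((LB_zero T ((skipEmb 2).trans (Function.Embedding.refl _))).upd 0 3 1 (le_of_eq hx04)).upd 2 3 3 (le_of_eq hx34)).upd 3 0 1 (le_of_eq hx40)).upd 3 2 1 (le_of_eq hx43)) ![1,0,3,2] (by decide) (by decide) 0 (by decide))
      · -- 24=(1,1)
        exact False.elim (cert_false T ((skipEmb 0).trans (Function.Embedding.refl _)) (by norm_num) (fun _ => hall _) (((((((LB_zero T ((skipEmb 0).trans (Function.Embedding.refl _))).upd 0 1 1 (le_of_eq hx12)).upd 1 0 1 (le_of_eq hx21)).upd 1 2 2 (le_of_eq hx23)).upd 1 3 1 (le_of_eq hx24)).upd 2 1 1 (le_of_eq hx32)).upd 3 1 1 (le_of_eq hx42)) ![1,2,1,1] (by decide) (by decide) 0 (by decide))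
      · -- 24=(1,2)
        exact False.elim (cert_false T ((skipEmb 1).trans (Function.Embedding.refl _)) (by norm_num) (fun _ => hall _) (((((LB_zero T ((skipEmb 1).trans (Function.Embedding.refl _))).upd 1 2 2 (le_of_eq hx23)).upd 1 3 1 (le_of_eq hx24)).upd 2 1 1 (le_of_eq hx32)).upd 3 1 2 (le_of_eq hx42)) ![0,2,1,2] (by decide) (by decide) 1 (by decide))
      · -- 24=(2,1)
        exact False.elim (cert_false T ((skipEmb 1).trans (Function.Embedding.refl _)) (by norm_num) (fun _ => hall _) (((((LB_zero T ((skipEmb 1).trans (Function.Embedding.refl _))).upd 1 2 2 (le_of_eq hx23)).upd 1 3 2 (le_of_eq hx24)).upd 2 1 1 (le_of_eq hx32)).upd 3 1 1 (le_of_eq hx42)) ![0,2,1,1] (by decide) (by decide) 1 (by decide))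
      · -- 24=(1,3)
        exact False.elim (cert_false T ((skipEmb 3).trans (Function.Embedding.refl _)) (by norm_num) (fun _ => hall _) (((((LB_zero T ((skipEmb 3).trans (Function.Embedding.refl _))).upd 0 3 1 (le_of_eq hx04)).upd 2 3 1 (le_of_eq hx24)).upd 3 0 1 (le_of_eq hx40)).upd 3 2 3 (le_of_eq hx42)) ![1,0,1,2] (by decide) (by decide) 0 (by decide))
      · -- 24=(3,1)
        exact False.elim (cert_false T ((skipEmb 3).trans (Function.Embedding.refl _)) (by norm_num) (fun _ => hall _) (((((LB_zero T ((skipEmb 3).trans (Function.Embedding.refl _))).upd 1 2 1 (le_of_eq hx12)).upd 2 1 1 (le_of_eq hx21)).upd 2 3 3 (le_of_eq hx24)).upd 3 2 1 (le_of_eq hx42)) ![0,1,2,1] (by decide) (by decide) 1 (by decide))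
    · -- 14=(1,1)
      rcases d24 with ⟨rfl, rfl⟩ | ⟨rfl, rfl⟩ | ⟨rfl, rfl⟩ | ⟨rfl, rfl⟩ | ⟨rfl, rfl⟩ | ⟨rfl, rfl⟩
      · -- 24=(0,0)
        rcases d34 with ⟨rfl, rfl⟩ | ⟨rfl, rfl⟩ | ⟨rfl, rfl⟩ | ⟨rfl, rfl⟩ | ⟨rfl, rfl⟩ | ⟨rfl, rfl⟩
        · -- 34=(0,0)
          exfalso; omega
        · -- 34=(1,1)
          exact False.elim (cert_false T ((skipEmb 0).trans (Function.Embedding.refl _)) (by norm_num) (fun _ => hall _) (((((((((LB_zero T ((skipEmb 0).trans (Function.Embedding.refl _))).upd 0 1 1 (le_of_eq hx12)).upd 0 3 1 (le_of_eq hx14)).upd 1 0 1 (le_of_eq hx21)).upd 1 2 2 (le_of_eq hx23)).upd 2 1 1 (le_of_eq hx32)).upd 2 3 1 (le_of_eq hx34)).upd 3 0 1 (le_of_eq hx41)).upd 3 2 1 (le_of_eq hx43)) ![1,1,1,1] (by decide) (by decide) 0 (by decide))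
        · -- 34=(1,2)
          exact False.elim (cert_false T ((skipEmb 2).trans (Function.Embedding.refl _)) (by norm_num) (fun _ => hall _) (((((((LB_zero T ((skipEmb 2).trans (Function.Embedding.refl _))).upd 0 3 1 (le_of_eq hx04)).upd 1 3 1 (le_of_eq hx14)).upd 2 3 1 (le_of_eq hx34)).upd 3 0 1 (le_of_eq hx40)).upd 3 1 1 (le_of_eq hx41)).upd 3 2 2 (le_of_eq hx43)) ![1,1,1,2] (by decide) (by decide) 0 (by decide))
        · -- 34=(2,1)
          exact False.elim (cert_false T ((skipEmb 2).trans (Function.Embedding.refl _)) (by norm_num) (fun _ => hall _) (((((((LB_zero T ((skipEmb 2).trans (Function.Embedding.refl _))).upd 0 3 1 (le_of_eq hx04)).upd 1 3 1 (le_of_eq hx14)).upd 2 3 2 (le_of_eq hx34)).upd 3 0 1 (le_of_eq hx40)).upd 3 1 1 (le_of_eq hx41)).upd 3 2 1 (le_of_eq hx43)) ![1,1,2,2] (by decide) (by decide) 0 (by decide))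
        · -- 34=(1,3)
          exact False.elim (cert_false T ((skipEmb 2).trans (Function.Embedding.refl _)) (by norm_num) (fun _ => hall _) (((((LB_zero T ((skipEmb 2).trans (Function.Embedding.refl _))).upd 1 3 1 (le_of_eq hx14)).upd 2 3 1 (le_of_eq hx34)).upd 3 1 1 (le_of_eq hx41)).upd 3 2 3 (le_of_eq hx43)) ![0,1,1,2] (by decide) (by decide) 1 (by decide))
        · -- 34=(3,1)
          exact False.elim (cert_false T ((skipEmb 2).trans (Function.Embedding.refl _)) (by norm_num) (fun _ => hall _) (((((((LB_zero T ((skipEmb 2).trans (Function.Embedding.refl _))).upd 0 3 1 (le_of_eq hx04)).upd 1 3 1 (le_of_eq hx14)).upd 2 3 3 (le_of_eq hx34)).upd 3 0 1 (le_of_eq hx40)).upd 3 1 1 (le_of_eq hx41)).upd 3 2 1 (le_of_eq hx43)) ![1,1,2,2] (by decide) (by decide) 0 (by decide))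
      · -- 24=(1,1)
        exact False.elim (cert_false T ((skipEmb 3).trans (Function.Embedding.refl _)) (by norm_num) (fun _ => hall _) (((((((LB_zero T ((skipEmb 3).trans (Function.Embedding.refl _))).upd 1 2 1 (le_of_eq hx12)).upd 1 3 1 (le_of_eq hx14)).upd 2 1 1 (le_of_eq hx21)).upd 2 3 1 (le_of_eq hx24)).upd 3 1 1 (le_of_eq hx41)).upd 3 2 1 (le_of_eq hx42)) ![0,1,1,1] (by decide) (by decide) 1 (by decide))
      · -- 24=(1,2)
        exact False.elim (cert_false T ((skipEmb 3).trans (Function.Embedding.refl _)) (by norm_num) (fun _ => hall _) (((((((LB_zero T ((skipEmb 3).trans (Function.Embedding.refl _))).upd 1 2 1 (le_of_eq hx12)).upd 1 3 1 (le_of_eq hx14)).upd 2 1 1 (le_of_eq hx21)).upd 2 3 1 (le_of_eq hx24)).upd 3 1 1 (le_of_eq hx41)).upd 3 2 2 (le_of_eq hx42)) ![0,1,1,1] (by decide) (by decide) 1 (by decide))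
      · -- 24=(2,1)
        exact False.elim (cert_false T ((skipEmb 3).trans (Function.Embedding.refl _)) (by norm_num) (fun _ => hall _) (((((((LB_zero T ((skipEmb 3).trans (Function.Embedding.refl _))).upd 1 2 1 (le_of_eq hx12)).upd 1 3 1 (le_of_eq hx14)).upd 2 1 1 (le_of_eq hx21)).upd 2 3 2 (le_of_eq hx24)).upd 3 1 1 (le_of_eq hx41)).upd 3 2 1 (le_of_eq hx42)) ![0,1,1,1] (by decide) (by decide) 1 (by decide))
      · -- 24=(1,3)
        exact False.elim (cert_false T ((skipEmb 3).trans (Function.Embedding.refl _)) (by norm_num) (fun _ => hall _) (((((((LB_zero T ((skipEmb 3).trans (Function.Embedding.refl _))).upd 1 2 1 (le_of_eq hx12)).upd 1 3 1 (le_of_eq hx14)).upd 2 1 1 (le_of_eq hx21)).upd 2 3 1 (le_of_eq hx24)).upd 3 1 1 (le_of_eq hx41)).upd 3 2 3 (le_of_eq hx42)) ![0,1,1,1] (by decide) (by decide) 1 (by decide))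
      · -- 24=(3,1)
        exact False.elim (cert_false T ((skipEmb 3).trans (Function.Embedding.refl _)) (by norm_num) (fun _ => hall _) (((((((LB_zero T ((skipEmb 3).trans (Function.Embedding.refl _))).upd 1 2 1 (le_of_eq hx12)).upd 1 3 1 (le_of_eq hx14)).upd 2 1 1 (le_of_eq hx21)).upd 2 3 3 (le_of_eq hx24)).upd 3 1 1 (le_of_eq hx41)).upd 3 2 1 (le_of_eq hx42)) ![0,1,1,1] (by decide) (by decide) 1 (by decide))
    · -- 14=(1,2)
      exact False.elim (cert_false T ((skipEmb 0).trans (Function.Embedding.refl _)) (by norm_num) (fun _ => hall _) (((((((LB_zero T ((skipEmb 0).trans (Function.Embedding.refl _))).upd 0 1 1 (le_of_eq hx12)).upd 0 3 1 (le_of_eq hx14)).upd 1 0 1 (le_of_eq hx21)).upd 1 2 2 (le_of_eq hx23)).upd 2 1 1 (le_of_eq hx32)).upd 3 0 2 (le_of_eq hx41)) ![2,2,1,2] (by decide) (by decide) 0 (by decide))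
    · -- 14=(2,1)
      exact False.elim (cert_false T ((skipEmb 0).trans (Function.Embedding.refl _)) (by norm_num) (fun _ => hall _) (((((((LB_zero T ((skipEmb 0).trans (Function.Embedding.refl _))).upd 0 1 1 (le_of_eq hx12)).upd 0 3 2 (le_of_eq hx14)).upd 1 0 1 (le_of_eq hx21)).upd 1 2 2 (le_of_eq hx23)).upd 2 1 1 (le_of_eq hx32)).upd 3 0 1 (le_of_eq hx41)) ![2,2,1,1] (by decide) (by decide) 0 (by decide))
    · -- 14=(1,3)
      exact False.elim (cert_false T ((skipEmb 3).trans (Function.Embedding.refl _)) (by norm_num) (fun _ => hall _) (((((LB_zero T ((skipEmb 3).trans (Function.Embedding.refl _))).upd 0 3 1 (le_of_eq hx04)).upd 1 3 1 (le_of_eq hx14)).upd 3 0 1 (le_of_eq hx40)).upd 3 1 3 (le_of_eq hx41)) ![1,1,0,2] (by decide) (by decide) 0 (by decide))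
    · -- 14=(3,1)
      exact False.elim (cert_false T ((skipEmb 3).trans (Function.Embedding.refl _)) (by norm_num) (fun _ => hall _) (((((LB_zero T ((skipEmb 3).trans (Function.Embedding.refl _))).upd 1 2 1 (le_of_eq hx12)).upd 1 3 3 (le_of_eq hx14)).upd 2 1 1 (le_of_eq hx21)).upd 3 1 1 (le_of_eq hx41)) ![0,2,1,1] (by decide) (by decide) 1 (by decide))
  · -- 04=(1,2)
    rcases d14 with ⟨rfl, rfl⟩ | ⟨rfl, rfl⟩ | ⟨rfl, rfl⟩ | ⟨rfl, rfl⟩ | ⟨rfl, rfl⟩ | ⟨rfl, rfl⟩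
    · -- 14=(0,0)
      rcases d24 with ⟨rfl, rfl⟩ | ⟨rfl, rfl⟩ | ⟨rfl, rfl⟩ | ⟨rfl, rfl⟩ | ⟨rfl, rfl⟩ | ⟨rfl, rfl⟩
      · -- 24=(0,0)
        rcases d34 with ⟨rfl, rfl⟩ | ⟨rfl, rfl⟩ | ⟨rfl, rfl⟩ | ⟨rfl, rfl⟩ | ⟨rfl, rfl⟩ | ⟨rfl, rfl⟩
        · -- 34=(0,0)
          exfalso; omega
        · -- 34=(1,1)
          exact False.elim (cert_false T ((skipEmb 1).trans (Function.Embedding.refl _)) (by norm_num) (fun _ => hall _) (((((((LB_zero T ((skipEmb 1).trans (Function.Embedding.refl _))).upd 0 3 1 (le_of_eq hx04)).upd 1 2 2 (le_of_eq hx23)).upd 2 1 1 (le_of_eq hx32)).upd 2 3 1 (le_of_eq hx34)).upd 3 0 2 (le_of_eq hx40)).upd 3 2 1 (le_of_eq hx43)) ![1,2,2,2] (by decide) (by decide) 0 (by decide))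
        · -- 34=(1,2)
          exact False.elim (cert_false T ((skipEmb 2).trans (Function.Embedding.refl _)) (by norm_num) (fun _ => hall _) (((((LB_zero T ((skipEmb 2).trans (Function.Embedding.refl _))).upd 0 3 1 (le_of_eq hx04)).upd 2 3 1 (le_of_eq hx34)).upd 3 0 2 (le_of_eq hx40)).upd 3 2 2 (le_of_eq hx43)) ![1,0,1,2] (by decide) (by decide) 0 (by decide))
        · -- 34=(2,1)
          exact False.elim (cert_false T ((skipEmb 2).trans (Function.Embedding.refl _)) (by norm_num) (fun _ => hall _) (((((LB_zero T ((skipEmb 2).trans (Function.Embedding.refl _))).upd 0 3 1 (le_of_eq hx04)).upd 2 3 2 (le_of_eq hx34)).upd 3 0 2 (le_of_eq hx40)).upd 3 2 1 (le_of_eq hx43)) ![1,0,2,2] (by decide) (by decide) 0 (by decide))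
        · -- 34=(1,3)
          exact False.elim (cert_false T ((skipEmb 2).trans (Function.Embedding.refl _)) (by norm_num) (fun _ => hall _) (((((LB_zero T ((skipEmb 2).trans (Function.Embedding.refl _))).upd 0 3 1 (le_of_eq hx04)).upd 2 3 1 (le_of_eq hx34)).upd 3 0 2 (le_of_eq hx40)).upd 3 2 3 (le_of_eq hx43)) ![1,0,1,2] (by decide) (by decide) 0 (by decide))
        · -- 34=(3,1)
          exact False.elim (cert_false T ((skipEmb 2).trans (Function.Embedding.refl _)) (by norm_num) (fun _ => hall _) (((((LB_zero T ((skipEmb 2).trans (Function.Embedding.refl _))).upd 0 3 1 (le_of_eq hx04)).upd 2 3 3 (le_of_eq hx34)).upd 3 0 2 (le_of_eq hx40)).upd 3 2 1 (le_of_eq hx43)) ![1,0,2,2] (by decide) (by decide) 0 (by decide))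
      · -- 24=(1,1)
        exact False.elim (cert_false T ((skipEmb 1).trans (Function.Embedding.refl _)) (by norm_num) (fun _ => hall _) (((((((LB_zero T ((skipEmb 1).trans (Function.Embedding.refl _))).upd 0 3 1 (le_of_eq hx04)).upd 1 2 2 (le_of_eq hx23)).upd 1 3 1 (le_of_eq hx24)).upd 2 1 1 (le_of_eq hx32)).upd 3 0 2 (le_of_eq hx40)).upd 3 1 1 (le_of_eq hx42)) ![1,2,1,2] (by decide) (by decide) 0 (by decide))
      · -- 24=(1,2)
        exact False.elim (cert_false T ((skipEmb 3).trans (Function.Embedding.refl _)) (by norm_num) (fun _ => hall _) (((((LB_zero T ((skipEmb 3).trans (Function.Embedding.refl _))).upd 0 3 1 (le_of_eq hx04)).upd 2 3 1 (le_of_eq hx24)).upd 3 0 2 (le_of_eq hx40)).upd 3 2 2 (le_of_eq hx42)) ![1,0,1,2] (by decide) (by decide) 0 (by decide))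
      · -- 24=(2,1)
        exact False.elim (cert_false T ((skipEmb 3).trans (Function.Embedding.refl _)) (by norm_num) (fun _ => hall _) (((((LB_zero T ((skipEmb 3).trans (Function.Embedding.refl _))).upd 0 3 1 (le_of_eq hx04)).upd 2 3 2 (le_of_eq hx24)).upd 3 0 2 (le_of_eq hx40)).upd 3 2 1 (le_of_eq hx42)) ![1,0,2,2] (by decide) (by decide) 0 (by decide))
      · -- 24=(1,3)
        exact False.elim (cert_false T ((skipEmb 3).trans (Function.Embedding.refl _)) (by norm_num) (fun _ => hall _) (((((LB_zero T ((skipEmb 3).trans (Function.Embedding.refl _))).upd 0 3 1 (le_of_eq hx04)).upd 2 3 1 (le_of_eq hx24)).upd 3 0 2 (le_of_eq hx40)).upd 3 2 3 (le_of_eq hx42)) ![1,0,1,2] (by decide) (by decide) 0 (by decide))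
      · -- 24=(3,1)
        exact False.elim (cert_false T ((skipEmb 3).trans (Function.Embedding.refl _)) (by norm_num) (fun _ => hall _) (((((LB_zero T ((skipEmb 3).trans (Function.Embedding.refl _))).upd 0 3 1 (le_of_eq hx04)).upd 2 3 3 (le_of_eq hx24)).upd 3 0 2 (le_of_eq hx40)).upd 3 2 1 (le_of_eq hx42)) ![1,0,2,2] (by decide) (by decide) 0 (by decide))
    · -- 14=(1,1)
      rcases d24 with ⟨rfl, rfl⟩ | ⟨rfl, rfl⟩ | ⟨rfl, rfl⟩ | ⟨rfl, rfl⟩ | ⟨rfl, rfl⟩ | ⟨rfl, rfl⟩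
      · -- 24=(0,0)
        rcases d34 with ⟨rfl, rfl⟩ | ⟨rfl, rfl⟩ | ⟨rfl, rfl⟩ | ⟨rfl, rfl⟩ | ⟨rfl, rfl⟩ | ⟨rfl, rfl⟩
        · -- 34=(0,0)
          refine ⟨(⟨![0, 4, 1, 2, 3], ![0, 2, 3, 4, 1], by decide, by decide⟩ : Equiv.Perm (Fin 5)), T.m 0, T.w 4, Or.inr (Or.inr (Or.inr (Or.inr (Or.inr (Or.inl ?_)))))⟩
          show T.m 0 = T.m 0 ∧ T.m 4 = 2 * T.m 0 ∧ T.m 1 = 2 * T.m 0 ∧ T.m 2 = 2 * T.m 0 ∧ T.m 3 = T.m 0 ∧ T.w 0 = 2 * T.w 4 ∧ T.w 4 = T.w 4 ∧ T.w 1 = T.w 4 ∧ T.w 2 = T.w 4 ∧ T.w 3 = 2 * T.w 4 ∧ T.a 0 0 = -4 * T.w 4 ∧ T.a 0 4 = 2 * T.w 4 ∧ T.a 0 1 = 0 ∧ T.a 0 2 = 0 ∧ T.a 0 3 = 0 ∧ T.a 4 4 = -2 * T.w 4 ∧ T.a 4 1 = T.w 4 ∧ T.a 4 2 = 0 ∧ T.a 4 3 = 0 ∧ T.a 1 1 = -2 * T.w 4 ∧ T.a 1 2 = T.w 4 ∧ T.a 1 3 = 0 ∧ T.a 2 2 = -2 * T.w 4 ∧ T.a 2 3 = 2 * T.w 4 ∧ T.a 3 3 = -4 * T.w 4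
          refine ⟨?_, ?_, ?_, ?_, ?_, ?_, ?_, ?_, ?_, ?_, ?_, ?_, ?_, ?_, ?_, ?_, ?_, ?_, ?_, ?_, ?_, ?_, ?_, ?_, ?_⟩ <;> omega
        · -- 34=(1,1)
          exact False.elim (cert_false T ((skipEmb 2).trans (Function.Embedding.refl _)) (by norm_num) (fun _ => hall _) (((((((LB_zero T ((skipEmb 2).trans (Function.Embedding.refl _))).upd 0 3 1 (le_of_eq hx04)).upd 1 3 1 (le_of_eq hx14)).upd 2 3 1 (le_of_eq hx34)).upd 3 0 2 (le_of_eq hx40)).upd 3 1 1 (le_of_eq hx41)).upd 3 2 1 (le_of_eq hx43)) ![1,1,1,2] (by decide) (by decide) 0 (by decide))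
        · -- 34=(1,2)
          exact False.elim (cert_false T ((skipEmb 2).trans (Function.Embedding.refl _)) (by norm_num) (fun _ => hall _) (((((LB_zero T ((skipEmb 2).trans (Function.Embedding.refl _))).upd 0 3 1 (le_of_eq hx04)).upd 2 3 1 (le_of_eq hx34)).upd 3 0 2 (le_of_eq hx40)).upd 3 2 2 (le_of_eq hx43)) ![1,0,1,2] (by decide) (by decide) 0 (by decide))
        · -- 34=(2,1)
          exact False.elim (cert_false T ((skipEmb 2).trans (Function.Embedding.refl _)) (by norm_num) (fun _ => hall _) (((((LB_zero T ((skipEmb 2).trans (Function.Embedding.refl _))).upd 0 3 1 (le_of_eq hx04)).upd 2 3 2 (le_of_eq hx34)).upd 3 0 2 (le_of_eq hx40)).upd 3 2 1 (le_of_eq hx43)) ![1,0,2,2] (by decide) (by decide) 0 (by decide))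
        · -- 34=(1,3)
          exact False.elim (cert_false T ((skipEmb 2).trans (Function.Embedding.refl _)) (by norm_num) (fun _ => hall _) (((((LB_zero T ((skipEmb 2).trans (Function.Embedding.refl _))).upd 1 3 1 (le_of_eq hx14)).upd 2 3 1 (le_of_eq hx34)).upd 3 1 1 (le_of_eq hx41)).upd 3 2 3 (le_of_eq hx43)) ![0,1,1,2] (by decide) (by decide) 1 (by decide))
        · -- 34=(3,1)
          exact False.elim (cert_false T ((skipEmb 2).trans (Function.Embedding.refl _)) (by norm_num) (fun _ => hall _) (((((LB_zero T ((skipEmb 2).trans (Function.Embedding.refl _))).upd 0 3 1 (le_of_eq hx04)).upd 2 3 3 (le_of_eq hx34)).upd 3 0 2 (le_of_eq hx40)).upd 3 2 1 (le_of_eq hx43)) ![1,0,2,2] (by decide) (by decide) 0 (by decide))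
      · -- 24=(1,1)
        exact False.elim (cert_false T ((skipEmb 3).trans (Function.Embedding.refl _)) (by norm_num) (fun _ => hall _) (((((((LB_zero T ((skipEmb 3).trans (Function.Embedding.refl _))).upd 1 2 1 (le_of_eq hx12)).upd 1 3 1 (le_of_eq hx14)).upd 2 1 1 (le_of_eq hx21)).upd 2 3 1 (le_of_eq hx24)).upd 3 1 1 (le_of_eq hx41)).upd 3 2 1 (le_of_eq hx42)) ![0,1,1,1] (by decide) (by decide) 1 (by decide))
      · -- 24=(1,2)
        exact False.elim (cert_false T ((skipEmb 3).trans (Function.Embedding.refl _)) (by norm_num) (fun _ => hall _) (((((((LB_zero T ((skipEmb 3).trans (Function.Embedding.refl _))).upd 1 2 1 (le_of_eq hx12)).upd 1 3 1 (le_of_eq hx14)).upd 2 1 1 (le_of_eq hx21)).upd 2 3 1 (le_of_eq hx24)).upd 3 1 1 (le_of_eq hx41)).upd 3 2 2 (le_of_eq hx42)) ![0,1,1,1] (by decide) (by decide) 1 (by decide))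
      · -- 24=(2,1)
        exact False.elim (cert_false T ((skipEmb 3).trans (Function.Embedding.refl _)) (by norm_num) (fun _ => hall _) (((((((LB_zero T ((skipEmb 3).trans (Function.Embedding.refl _))).upd 1 2 1 (le_of_eq hx12)).upd 1 3 1 (le_of_eq hx14)).upd 2 1 1 (le_of_eq hx21)).upd 2 3 2 (le_of_eq hx24)).upd 3 1 1 (le_of_eq hx41)).upd 3 2 1 (le_of_eq hx42)) ![0,1,1,1] (by decide) (by decide) 1 (by decide))
      · -- 24=(1,3)
        exact False.elim (cert_false T ((skipEmb 3).trans (Function.Embedding.refl _)) (by norm_num) (fun _ => hall _) (((((((LB_zero T ((skipEmb 3).trans (Function.Embedding.refl _))).upd 1 2 1 (le_of_eq hx12)).upd 1 3 1 (le_of_eq hx14)).upd 2 1 1 (le_of_eq hx21)).upd 2 3 1 (le_of_eq hx24)).upd 3 1 1 (le_of_eq hx41)).upd 3 2 3 (le_of_eq hx42)) ![0,1,1,1] (by decide) (by decide) 1 (by decide))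
      · -- 24=(3,1)
        exact False.elim (cert_false T ((skipEmb 3).trans (Function.Embedding.refl _)) (by norm_num) (fun _ => hall _) (((((((LB_zero T ((skipEmb 3).trans (Function.Embedding.refl _))).upd 1 2 1 (le_of_eq hx12)).upd 1 3 1 (le_of_eq hx14)).upd 2 1 1 (le_of_eq hx21)).upd 2 3 3 (le_of_eq hx24)).upd 3 1 1 (le_of_eq hx41)).upd 3 2 1 (le_of_eq hx42)) ![0,1,1,1] (by decide) (by decide) 1 (by decide))
    · -- 14=(1,2)
      exact False.elim (cert_false T ((skipEmb 3).trans (Function.Embedding.refl _)) (by norm_num) (fun _ => hall _) (((((LB_zero T ((skipEmb 3).trans (Function.Embedding.refl _))).upd 0 3 1 (le_of_eq hx04)).upd 1 3 1 (le_of_eq hx14)).upd 3 0 2 (le_of_eq hx40)).upd 3 1 2 (le_of_eq hx41)) ![1,1,0,2] (by decide) (by decide) 0 (by decide))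
    · -- 14=(2,1)
      exact False.elim (cert_false T ((skipEmb 3).trans (Function.Embedding.refl _)) (by norm_num) (fun _ => hall _) (((((LB_zero T ((skipEmb 3).trans (Function.Embedding.refl _))).upd 0 3 1 (le_of_eq hx04)).upd 1 3 2 (le_of_eq hx14)).upd 3 0 2 (le_of_eq hx40)).upd 3 1 1 (le_of_eq hx41)) ![1,2,0,2] (by decide) (by decide) 0 (by decide))
    · -- 14=(1,3)
      exact False.elim (cert_false T ((skipEmb 3).trans (Function.Embedding.refl _)) (by norm_num) (fun _ => hall _) (((((LB_zero T ((skipEmb 3).trans (Function.Embedding.refl _))).upd 0 3 1 (le_of_eq hx04)).upd 1 3 1 (le_of_eq hx14)).upd 3 0 2 (le_of_eq hx40)).upd 3 1 3 (le_of_eq hx41)) ![1,1,0,2] (by decide) (by decide) 0 (by decide))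
    · -- 14=(3,1)
      exact False.elim (cert_false T ((skipEmb 3).trans (Function.Embedding.refl _)) (by norm_num) (fun _ => hall _) (((((LB_zero T ((skipEmb 3).trans (Function.Embedding.refl _))).upd 0 3 1 (le_of_eq hx04)).upd 1 3 3 (le_of_eq hx14)).upd 3 0 2 (le_of_eq hx40)).upd 3 1 1 (le_of_eq hx41)) ![1,2,0,2] (by decide) (by decide) 0 (by decide))
  · -- 04=(2,1)
    rcases d14 with ⟨rfl, rfl⟩ | ⟨rfl, rfl⟩ | ⟨rfl, rfl⟩ | ⟨rfl, rfl⟩ | ⟨rfl, rfl⟩ | ⟨rfl, rfl⟩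
    · -- 14=(0,0)
      rcases d24 with ⟨rfl, rfl⟩ | ⟨rfl, rfl⟩ | ⟨rfl, rfl⟩ | ⟨rfl, rfl⟩ | ⟨rfl, rfl⟩ | ⟨rfl, rfl⟩
      · -- 24=(0,0)
        rcases d34 with ⟨rfl, rfl⟩ | ⟨rfl, rfl⟩ | ⟨rfl, rfl⟩ | ⟨rfl, rfl⟩ | ⟨rfl, rfl⟩ | ⟨rfl, rfl⟩
        · -- 34=(0,0)
          exfalso; omega
        · -- 34=(1,1)
          exact False.elim (cert_false T ((skipEmb 1).trans (Function.Embedding.refl _)) (by norm_num) (fun _ => hall _) (((((((LB_zero T ((skipEmb 1).trans (Function.Embedding.refl _))).upd 0 3 2 (le_of_eq hx04)).upd 1 2 2 (le_of_eq hx23)).upd 2 1 1 (le_of_eq hx32)).upd 2 3 1 (le_of_eq hx34)).upd 3 0 1 (le_of_eq hx40)).upd 3 2 1 (le_of_eq hx43)) ![1,1,1,1] (by decide) (by decide) 0 (by decide))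
        · -- 34=(1,2)
          exact False.elim (cert_false T ((skipEmb 2).trans (Function.Embedding.refl _)) (by norm_num) (fun _ => hall _) (((((LB_zero T ((skipEmb 2).trans (Function.Embedding.refl _))).upd 0 3 2 (le_of_eq hx04)).upd 2 3 1 (le_of_eq hx34)).upd 3 0 1 (le_of_eq hx40)).upd 3 2 2 (le_of_eq hx43)) ![2,0,1,2] (by decide) (by decide) 0 (by decide))
        · -- 34=(2,1)
          exact False.elim (cert_false T ((skipEmb 2).trans (Function.Embedding.refl _)) (by norm_num) (fun _ => hall _) (((((LB_zero T ((skipEmb 2).trans (Function.Embedding.refl _))).upd 0 3 2 (le_of_eq hx04)).upd 2 3 2 (le_of_eq hx34)).upd 3 0 1 (le_of_eq hx40)).upd 3 2 1 (le_of_eq hx43)) ![1,0,1,1] (by decide) (by decide) 0 (by decide))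
        · -- 34=(1,3)
          exact False.elim (cert_false T ((skipEmb 2).trans (Function.Embedding.refl _)) (by norm_num) (fun _ => hall _) (((((LB_zero T ((skipEmb 2).trans (Function.Embedding.refl _))).upd 0 3 2 (le_of_eq hx04)).upd 2 3 1 (le_of_eq hx34)).upd 3 0 1 (le_of_eq hx40)).upd 3 2 3 (le_of_eq hx43)) ![1,0,1,2] (by decide) (by decide) 0 (by decide))
        · -- 34=(3,1)
          exact False.elim (cert_false T ((skipEmb 2).trans (Function.Embedding.refl _)) (by norm_num) (fun _ => hall _) (((((LB_zero T ((skipEmb 2).trans (Function.Embedding.refl _))).upd 0 3 2 (le_of_eq hx04)).upd 2 3 3 (le_of_eq hx34)).upd 3 0 1 (le_of_eq hx40)).upd 3 2 1 (le_of_eq hx43)) ![1,0,1,1] (by decide) (by decide) 0 (by decide))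
      · -- 24=(1,1)
        exact False.elim (cert_false T ((skipEmb 1).trans (Function.Embedding.refl _)) (by norm_num) (fun _ => hall _) (((((((LB_zero T ((skipEmb 1).trans (Function.Embedding.refl _))).upd 0 3 2 (le_of_eq hx04)).upd 1 2 2 (le_of_eq hx23)).upd 1 3 1 (le_of_eq hx24)).upd 2 1 1 (le_of_eq hx32)).upd 3 0 1 (le_of_eq hx40)).upd 3 1 1 (le_of_eq hx42)) ![2,2,1,2] (by decide) (by decide) 0 (by decide))
      · -- 24=(1,2)
        exact False.elim (cert_false T ((skipEmb 3).trans (Function.Embedding.refl _)) (by norm_num) (fun _ => hall _) (((((LB_zero T ((skipEmb 3).trans (Function.Embedding.refl _))).upd 0 3 2 (le_of_eq hx04)).upd 2 3 1 (le_of_eq hx24)).upd 3 0 1 (le_of_eq hx40)).upd 3 2 2 (le_of_eq hx42)) ![2,0,1,2] (by decide) (by decide) 0 (by decide))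
      · -- 24=(2,1)
        exact False.elim (cert_false T ((skipEmb 3).trans (Function.Embedding.refl _)) (by norm_num) (fun _ => hall _) (((((LB_zero T ((skipEmb 3).trans (Function.Embedding.refl _))).upd 0 3 2 (le_of_eq hx04)).upd 2 3 2 (le_of_eq hx24)).upd 3 0 1 (le_of_eq hx40)).upd 3 2 1 (le_of_eq hx42)) ![1,0,1,1] (by decide) (by decide) 0 (by decide))
      · -- 24=(1,3)
        exact False.elim (cert_false T ((skipEmb 3).trans (Function.Embedding.refl _)) (by norm_num) (fun _ => hall _) (((((LB_zero T ((skipEmb 3).trans (Function.Embedding.refl _))).upd 0 3 2 (le_of_eq hx04)).upd 2 3 1 (le_of_eq hx24)).upd 3 0 1 (le_of_eq hx40)).upd 3 2 3 (le_of_eq hx42)) ![1,0,1,2] (by decide) (by decide) 0 (by decide))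
      · -- 24=(3,1)
        exact False.elim (cert_false T ((skipEmb 3).trans (Function.Embedding.refl _)) (by norm_num) (fun _ => hall _) (((((LB_zero T ((skipEmb 3).trans (Function.Embedding.refl _))).upd 0 3 2 (le_of_eq hx04)).upd 2 3 3 (le_of_eq hx24)).upd 3 0 1 (le_of_eq hx40)).upd 3 2 1 (le_of_eq hx42)) ![1,0,1,1] (by decide) (by decide) 0 (by decide))
    · -- 14=(1,1)
      rcases d24 with ⟨rfl, rfl⟩ | ⟨rfl, rfl⟩ | ⟨rfl, rfl⟩ | ⟨rfl, rfl⟩ | ⟨rfl, rfl⟩ | ⟨rfl, rfl⟩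
      · -- 24=(0,0)
        rcases d34 with ⟨rfl, rfl⟩ | ⟨rfl, rfl⟩ | ⟨rfl, rfl⟩ | ⟨rfl, rfl⟩ | ⟨rfl, rfl⟩ | ⟨rfl, rfl⟩
        · -- 34=(0,0)
          refine ⟨(⟨![0, 4, 1, 2, 3], ![0, 2, 3, 4, 1], by decide, by decide⟩ : Equiv.Perm (Fin 5)), T.m 3, T.w 0, Or.inr (Or.inr (Or.inr (Or.inl ?_)))⟩
          show T.m 0 = 2 * T.m 3 ∧ T.m 4 = 2 * T.m 3 ∧ T.m 1 = 2 * T.m 3 ∧ T.m 2 = 2 * T.m 3 ∧ T.m 3 = T.m 3 ∧ T.w 0 = T.w 0 ∧ T.w 4 = 2 * T.w 0 ∧ T.w 1 = 2 * T.w 0 ∧ T.w 2 = 2 * T.w 0 ∧ T.w 3 = 4 * T.w 0 ∧ T.a 0 0 = -2 * T.w 0 ∧ T.a 0 4 = 2 * T.w 0 ∧ T.a 0 1 = 0 ∧ T.a 0 2 = 0 ∧ T.a 0 3 = 0 ∧ T.a 4 4 = -4 * T.w 0 ∧ T.a 4 1 = 2 * T.w 0 ∧ T.a 4 2 = 0 ∧ T.a 4 3 = 0 ∧ T.a 1 1 = -4 * T.w 0 ∧ T.a 1 2 = 2 * T.w 0 ∧ T.a 1 3 = 0 ∧ T.a 2 2 = -4 * T.w 0 ∧ T.a 2 3 = 4 * T.w 0 ∧ T.a 3 3 = -8 * T.w 0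
          refine ⟨?_, ?_, ?_, ?_, ?_, ?_, ?_, ?_, ?_, ?_, ?_, ?_, ?_, ?_, ?_, ?_, ?_, ?_, ?_, ?_, ?_, ?_, ?_, ?_, ?_⟩ <;> omega
        · -- 34=(1,1)
          exact False.elim (cert_false T ((skipEmb 2).trans (Function.Embedding.refl _)) (by norm_num) (fun _ => hall _) (((((((LB_zero T ((skipEmb 2).trans (Function.Embedding.refl _))).upd 0 3 2 (le_of_eq hx04)).upd 1 3 1 (le_of_eq hx14)).upd 2 3 1 (le_of_eq hx34)).upd 3 0 1 (le_of_eq hx40)).upd 3 1 1 (le_of_eq hx41)).upd 3 2 1 (le_of_eq hx43)) ![2,1,1,2] (by decide) (by decide) 0 (by decide))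
        · -- 34=(1,2)
          exact False.elim (cert_false T ((skipEmb 2).trans (Function.Embedding.refl _)) (by norm_num) (fun _ => hall _) (((((((LB_zero T ((skipEmb 2).trans (Function.Embedding.refl _))).upd 0 3 2 (le_of_eq hx04)).upd 1 3 1 (le_of_eq hx14)).upd 2 3 1 (le_of_eq hx34)).upd 3 0 1 (le_of_eq hx40)).upd 3 1 1 (le_of_eq hx41)).upd 3 2 2 (le_of_eq hx43)) ![1,1,1,2] (by decide) (by decide) 0 (by decide))
        · -- 34=(2,1)
          exact False.elim (cert_false T ((skipEmb 2).trans (Function.Embedding.refl _)) (by norm_num) (fun _ => hall _) (((((LB_zero T ((skipEmb 2).trans (Function.Embedding.refl _))).upd 0 3 2 (le_of_eq hx04)).upd 2 3 2 (le_of_eq hx34)).upd 3 0 1 (le_of_eq hx40)).upd 3 2 1 (le_of_eq hx43)) ![1,0,1,1] (by decide) (by decide) 0 (by decide))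
        · -- 34=(1,3)
          exact False.elim (cert_false T ((skipEmb 2).trans (Function.Embedding.refl _)) (by norm_num) (fun _ => hall _) (((((LB_zero T ((skipEmb 2).trans (Function.Embedding.refl _))).upd 1 3 1 (le_of_eq hx14)).upd 2 3 1 (le_of_eq hx34)).upd 3 1 1 (le_of_eq hx41)).upd 3 2 3 (le_of_eq hx43)) ![0,1,1,2] (by decide) (by decide) 1 (by decide))
        · -- 34=(3,1)
          exact False.elim (cert_false T ((skipEmb 2).trans (Function.Embedding.refl _)) (by norm_num) (fun _ => hall _) (((((LB_zero T ((skipEmb 2).trans (Function.Embedding.refl _))).upd 0 3 2 (le_of_eq hx04)).upd 2 3 3 (le_of_eq hx34)).upd 3 0 1 (le_of_eq hx40)).upd 3 2 1 (le_of_eq hx43)) ![1,0,1,1] (by decide) (by decide) 0 (by decide))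
      · -- 24=(1,1)
        exact False.elim (cert_false T ((skipEmb 3).trans (Function.Embedding.refl _)) (by norm_num) (fun _ => hall _) (((((((LB_zero T ((skipEmb 3).trans (Function.Embedding.refl _))).upd 1 2 1 (le_of_eq hx12)).upd 1 3 1 (le_of_eq hx14)).upd 2 1 1 (le_of_eq hx21)).upd 2 3 1 (le_of_eq hx24)).upd 3 1 1 (le_of_eq hx41)).upd 3 2 1 (le_of_eq hx42)) ![0,1,1,1] (by decide) (by decide) 1 (by decide))
      · -- 24=(1,2)
        exact False.elim (cert_false T ((skipEmb 3).trans (Function.Embedding.refl _)) (by norm_num) (fun _ => hall _) (((((((LB_zero T ((skipEmb 3).trans (Function.Embedding.refl _))).upd 1 2 1 (le_of_eq hx12)).upd 1 3 1 (le_of_eq hx14)).upd 2 1 1 (le_of_eq hx21)).upd 2 3 1 (le_of_eq hx24)).upd 3 1 1 (le_of_eq hx41)).upd 3 2 2 (le_of_eq hx42)) ![0,1,1,1] (by decide) (by decide) 1 (by decide))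
      · -- 24=(2,1)
        exact False.elim (cert_false T ((skipEmb 3).trans (Function.Embedding.refl _)) (by norm_num) (fun _ => hall _) (((((LB_zero T ((skipEmb 3).trans (Function.Embedding.refl _))).upd 0 3 2 (le_of_eq hx04)).upd 2 3 2 (le_of_eq hx24)).upd 3 0 1 (le_of_eq hx40)).upd 3 2 1 (le_of_eq hx42)) ![1,0,1,1] (by decide) (by decide) 0 (by decide))
      · -- 24=(1,3)
        exact False.elim (cert_false T ((skipEmb 3).trans (Function.Embedding.refl _)) (by norm_num) (fun _ => hall _) (((((((LB_zero T ((skipEmb 3).trans (Function.Embedding.refl _))).upd 1 2 1 (le_of_eq hx12)).upd 1 3 1 (le_of_eq hx14)).upd 2 1 1 (le_of_eq hx21)).upd 2 3 1 (le_of_eq hx24)).upd 3 1 1 (le_of_eq hx41)).upd 3 2 3 (le_of_eq hx42)) ![0,1,1,1] (by decide) (by decide) 1 (by decide))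
      · -- 24=(3,1)
        exact False.elim (cert_false T ((skipEmb 3).trans (Function.Embedding.refl _)) (by norm_num) (fun _ => hall _) (((((LB_zero T ((skipEmb 3).trans (Function.Embedding.refl _))).upd 0 3 2 (le_of_eq hx04)).upd 2 3 3 (le_of_eq hx24)).upd 3 0 1 (le_of_eq hx40)).upd 3 2 1 (le_of_eq hx42)) ![1,0,1,1] (by decide) (by decide) 0 (by decide))
    · -- 14=(1,2)
      exact False.elim (cert_false T ((skipEmb 3).trans (Function.Embedding.refl _)) (by norm_num) (fun _ => hall _) (((((LB_zero T ((skipEmb 3).trans (Function.Embedding.refl _))).upd 0 3 2 (le_of_eq hx04)).upd 1 3 1 (le_of_eq hx14)).upd 3 0 1 (le_of_eq hx40)).upd 3 1 2 (le_of_eq hx41)) ![2,1,0,2] (by decide) (by decide) 0 (by decide))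
    · -- 14=(2,1)
      exact False.elim (cert_false T ((skipEmb 3).trans (Function.Embedding.refl _)) (by norm_num) (fun _ => hall _) (((((LB_zero T ((skipEmb 3).trans (Function.Embedding.refl _))).upd 0 3 2 (le_of_eq hx04)).upd 1 3 2 (le_of_eq hx14)).upd 3 0 1 (le_of_eq hx40)).upd 3 1 1 (le_of_eq hx41)) ![1,1,0,1] (by decide) (by decide) 0 (by decide))
    · -- 14=(1,3)
      exact False.elim (cert_false T ((skipEmb 3).trans (Function.Embedding.refl _)) (by norm_num) (fun _ => hall _) (((((LB_zero T ((skipEmb 3).trans (Function.Embedding.refl _))).upd 0 3 2 (le_of_eq hx04)).upd 1 3 1 (le_of_eq hx14)).upd 3 0 1 (le_of_eq hx40)).upd 3 1 3 (le_of_eq hx41)) ![1,1,0,2] (by decide) (by decide) 0 (by decide))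
    · -- 14=(3,1)
      exact False.elim (cert_false T ((skipEmb 3).trans (Function.Embedding.refl _)) (by norm_num) (fun _ => hall _) (((((LB_zero T ((skipEmb 3).trans (Function.Embedding.refl _))).upd 0 3 2 (le_of_eq hx04)).upd 1 3 3 (le_of_eq hx14)).upd 3 0 1 (le_of_eq hx40)).upd 3 1 1 (le_of_eq hx41)) ![1,1,0,1] (by decide) (by decide) 0 (by decide))
  · -- 04=(1,3)
    rcases d14 with ⟨rfl, rfl⟩ | ⟨rfl, rfl⟩ | ⟨rfl, rfl⟩ | ⟨rfl, rfl⟩ | ⟨rfl, rfl⟩ | ⟨rfl, rfl⟩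
    · -- 14=(0,0)
      rcases d24 with ⟨rfl, rfl⟩ | ⟨rfl, rfl⟩ | ⟨rfl, rfl⟩ | ⟨rfl, rfl⟩ | ⟨rfl, rfl⟩ | ⟨rfl, rfl⟩
      · -- 24=(0,0)
        rcases d34 with ⟨rfl, rfl⟩ | ⟨rfl, rfl⟩ | ⟨rfl, rfl⟩ | ⟨rfl, rfl⟩ | ⟨rfl, rfl⟩ | ⟨rfl, rfl⟩
        · -- 34=(0,0)
          exfalso; omega
        · -- 34=(1,1)
          exact False.elim (cert_false T ((skipEmb 2).trans (Function.Embedding.refl _)) (by norm_num) (fun _ => hall _) (((((LB_zero T ((skipEmb 2).trans (Function.Embedding.refl _))).upd 0 3 1 (le_of_eq hx04)).upd 2 3 1 (le_of_eq hx34)).upd 3 0 3 (le_of_eq hx40)).upd 3 2 1 (le_of_eq hx43)) ![1,0,1,2] (by decide) (by decide) 0 (by decide))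
        · -- 34=(1,2)
          exact False.elim (cert_false T ((skipEmb 2).trans (Function.Embedding.refl _)) (by norm_num) (fun _ => hall _) (((((LB_zero T ((skipEmb 2).trans (Function.Embedding.refl _))).upd 0 3 1 (le_of_eq hx04)).upd 2 3 1 (le_of_eq hx34)).upd 3 0 3 (le_of_eq hx40)).upd 3 2 2 (le_of_eq hx43)) ![1,0,1,2] (by decide) (by decide) 0 (by decide))
        · -- 34=(2,1)
          exact False.elim (cert_false T ((skipEmb 2).trans (Function.Embedding.refl _)) (by norm_num) (fun _ => hall _) (((((LB_zero T ((skipEmb 2).trans (Function.Embedding.refl _))).upd 0 3 1 (le_of_eq hx04)).upd 2 3 2 (le_of_eq hx34)).upd 3 0 3 (le_of_eq hx40)).upd 3 2 1 (le_of_eq hx43)) ![1,0,1,2] (by decide) (by decide) 0 (by decide))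
        · -- 34=(1,3)
          exact False.elim (cert_false T ((skipEmb 2).trans (Function.Embedding.refl _)) (by norm_num) (fun _ => hall _) (((((LB_zero T ((skipEmb 2).trans (Function.Embedding.refl _))).upd 0 3 1 (le_of_eq hx04)).upd 2 3 1 (le_of_eq hx34)).upd 3 0 3 (le_of_eq hx40)).upd 3 2 3 (le_of_eq hx43)) ![1,0,1,2] (by decide) (by decide) 0 (by decide))
        · -- 34=(3,1)
          exact False.elim (cert_false T ((skipEmb 2).trans (Function.Embedding.refl _)) (by norm_num) (fun _ => hall _) (((((LB_zero T ((skipEmb 2).trans (Function.Embedding.refl _))).upd 0 3 1 (le_of_eq hx04)).upd 2 3 3 (le_of_eq hx34)).upd 3 0 3 (le_of_eq hx40)).upd 3 2 1 (le_of_eq hx43)) ![1,0,1,2] (by decide) (by decide) 0 (by decide))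
      · -- 24=(1,1)
        exact False.elim (cert_false T ((skipEmb 3).trans (Function.Embedding.refl _)) (by norm_num) (fun _ => hall _) (((((LB_zero T ((skipEmb 3).trans (Function.Embedding.refl _))).upd 0 3 1 (le_of_eq hx04)).upd 2 3 1 (le_of_eq hx24)).upd 3 0 3 (le_of_eq hx40)).upd 3 2 1 (le_of_eq hx42)) ![1,0,1,2] (by decide) (by decide) 0 (by decide))
      · -- 24=(1,2)
        exact False.elim (cert_false T ((skipEmb 3).trans (Function.Embedding.refl _)) (by norm_num) (fun _ => hall _) (((((LB_zero T ((skipEmb 3).trans (Function.Embedding.refl _))).upd 0 3 1 (le_of_eq hx04)).upd 2 3 1 (le_of_eq hx24)).upd 3 0 3 (le_of_eq hx40)).upd 3 2 2 (le_of_eq hx42)) ![1,0,1,2] (by decide) (by decide) 0 (by decide))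
      · -- 24=(2,1)
        exact False.elim (cert_false T ((skipEmb 3).trans (Function.Embedding.refl _)) (by norm_num) (fun _ => hall _) (((((LB_zero T ((skipEmb 3).trans (Function.Embedding.refl _))).upd 0 3 1 (le_of_eq hx04)).upd 2 3 2 (le_of_eq hx24)).upd 3 0 3 (le_of_eq hx40)).upd 3 2 1 (le_of_eq hx42)) ![1,0,1,2] (by decide) (by decide) 0 (by decide))
      · -- 24=(1,3)
        exact False.elim (cert_false T ((skipEmb 3).trans (Function.Embedding.refl _)) (by norm_num) (fun _ => hall _) (((((LB_zero T ((skipEmb 3).trans (Function.Embedding.refl _))).upd 0 3 1 (le_of_eq hx04)).upd 2 3 1 (le_of_eq hx24)).upd 3 0 3 (le_of_eq hx40)).upd 3 2 3 (le_of_eq hx42)) ![1,0,1,2] (by decide) (by decide) 0 (by decide))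
      · -- 24=(3,1)
        exact False.elim (cert_false T ((skipEmb 3).trans (Function.Embedding.refl _)) (by norm_num) (fun _ => hall _) (((((LB_zero T ((skipEmb 3).trans (Function.Embedding.refl _))).upd 0 3 1 (le_of_eq hx04)).upd 2 3 3 (le_of_eq hx24)).upd 3 0 3 (le_of_eq hx40)).upd 3 2 1 (le_of_eq hx42)) ![1,0,1,2] (by decide) (by decide) 0 (by decide))
    · -- 14=(1,1)
      exact False.elim (cert_false T ((skipEmb 3).trans (Function.Embedding.refl _)) (by norm_num) (fun _ => hall _) (((((LB_zero T ((skipEmb 3).trans (Function.Embedding.refl _))).upd 0 3 1 (le_of_eq hx04)).upd 1 3 1 (le_of_eq hx14)).upd 3 0 3 (le_of_eq hx40)).upd 3 1 1 (le_of_eq hx41)) ![1,1,0,2] (by decide) (by decide) 0 (by decide))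
    · -- 14=(1,2)
      exact False.elim (cert_false T ((skipEmb 3).trans (Function.Embedding.refl _)) (by norm_num) (fun _ => hall _) (((((LB_zero T ((skipEmb 3).trans (Function.Embedding.refl _))).upd 0 3 1 (le_of_eq hx04)).upd 1 3 1 (le_of_eq hx14)).upd 3 0 3 (le_of_eq hx40)).upd 3 1 2 (le_of_eq hx41)) ![1,1,0,2] (by decide) (by decide) 0 (by decide))
    · -- 14=(2,1)
      exact False.elim (cert_false T ((skipEmb 3).trans (Function.Embedding.refl _)) (by norm_num) (fun _ => hall _) (((((LB_zero T ((skipEmb 3).trans (Function.Embedding.refl _))).upd 0 3 1 (le_of_eq hx04)).upd 1 3 2 (le_of_eq hx14)).upd 3 0 3 (le_of_eq hx40)).upd 3 1 1 (le_of_eq hx41)) ![1,1,0,2] (by decide) (by decide) 0 (by decide))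
    · -- 14=(1,3)
      exact False.elim (cert_false T ((skipEmb 3).trans (Function.Embedding.refl _)) (by norm_num) (fun _ => hall _) (((((LB_zero T ((skipEmb 3).trans (Function.Embedding.refl _))).upd 0 3 1 (le_of_eq hx04)).upd 1 3 1 (le_of_eq hx14)).upd 3 0 3 (le_of_eq hx40)).upd 3 1 3 (le_of_eq hx41)) ![1,1,0,2] (by decide) (by decide) 0 (by decide))
    · -- 14=(3,1)
      exact False.elim (cert_false T ((skipEmb 3).trans (Function.Embedding.refl _)) (by norm_num) (fun _ => hall _) (((((LB_zero T ((skipEmb 3).trans (Function.Embedding.refl _))).upd 0 3 1 (le_of_eq hx04)).upd 1 3 3 (le_of_eq hx14)).upd 3 0 3 (le_of_eq hx40)).upd 3 1 1 (le_of_eq hx41)) ![1,1,0,2] (by decide) (by decide) 0 (by decide))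
  · -- 04=(3,1)
    rcases d14 with ⟨rfl, rfl⟩ | ⟨rfl, rfl⟩ | ⟨rfl, rfl⟩ | ⟨rfl, rfl⟩ | ⟨rfl, rfl⟩ | ⟨rfl, rfl⟩
    · -- 14=(0,0)
      rcases d24 with ⟨rfl, rfl⟩ | ⟨rfl, rfl⟩ | ⟨rfl, rfl⟩ | ⟨rfl, rfl⟩ | ⟨rfl, rfl⟩ | ⟨rfl, rfl⟩
      · -- 24=(0,0)
        rcases d34 with ⟨rfl, rfl⟩ | ⟨rfl, rfl⟩ | ⟨rfl, rfl⟩ | ⟨rfl, rfl⟩ | ⟨rfl, rfl⟩ | ⟨rfl, rfl⟩
        · -- 34=(0,0)
          exfalso; omega
        · -- 34=(1,1)
          exact False.elim (cert_false T ((skipEmb 2).trans (Function.Embedding.refl _)) (by norm_num) (fun _ => hall _) (((((LB_zero T ((skipEmb 2).trans (Function.Embedding.refl _))).upd 0 3 3 (le_of_eq hx04)).upd 2 3 1 (le_of_eq hx34)).upd 3 0 1 (le_of_eq hx40)).upd 3 2 1 (le_of_eq hx43)) ![3,0,1,2] (by decide) (by decide) 0 (by decide))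
        · -- 34=(1,2)
          exact False.elim (cert_false T ((skipEmb 2).trans (Function.Embedding.refl _)) (by norm_num) (fun _ => hall _) (((((LB_zero T ((skipEmb 2).trans (Function.Embedding.refl _))).upd 0 3 3 (le_of_eq hx04)).upd 2 3 1 (le_of_eq hx34)).upd 3 0 1 (le_of_eq hx40)).upd 3 2 2 (le_of_eq hx43)) ![2,0,1,2] (by decide) (by decide) 0 (by decide))
        · -- 34=(2,1)
          exact False.elim (cert_false T ((skipEmb 2).trans (Function.Embedding.refl _)) (by norm_num) (fun _ => hall _) (((((LB_zero T ((skipEmb 2).trans (Function.Embedding.refl _))).upd 0 3 3 (le_of_eq hx04)).upd 2 3 2 (le_of_eq hx34)).upd 3 0 1 (le_of_eq hx40)).upd 3 2 1 (le_of_eq hx43)) ![1,0,1,1] (by decide) (by decide) 0 (by decide))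
        · -- 34=(1,3)
          exact False.elim (cert_false T ((skipEmb 2).trans (Function.Embedding.refl _)) (by norm_num) (fun _ => hall _) (((((LB_zero T ((skipEmb 2).trans (Function.Embedding.refl _))).upd 0 3 3 (le_of_eq hx04)).upd 2 3 1 (le_of_eq hx34)).upd 3 0 1 (le_of_eq hx40)).upd 3 2 3 (le_of_eq hx43)) ![1,0,1,2] (by decide) (by decide) 0 (by decide))
        · -- 34=(3,1)
          exact False.elim (cert_false T ((skipEmb 2).trans (Function.Embedding.refl _)) (by norm_num) (fun _ => hall _) (((((LB_zero T ((skipEmb 2).trans (Function.Embedding.refl _))).upd 0 3 3 (le_of_eq hx04)).upd 2 3 3 (le_of_eq hx34)).upd 3 0 1 (le_of_eq hx40)).upd 3 2 1 (le_of_eq hx43)) ![1,0,1,1] (by decide) (by decide) 0 (by decide))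
      · -- 24=(1,1)
        exact False.elim (cert_false T ((skipEmb 3).trans (Function.Embedding.refl _)) (by norm_num) (fun _ => hall _) (((((LB_zero T ((skipEmb 3).trans (Function.Embedding.refl _))).upd 0 3 3 (le_of_eq hx04)).upd 2 3 1 (le_of_eq hx24)).upd 3 0 1 (le_of_eq hx40)).upd 3 2 1 (le_of_eq hx42)) ![3,0,1,2] (by decide) (by decide) 0 (by decide))
      · -- 24=(1,2)
        exact False.elim (cert_false T ((skipEmb 3).trans (Function.Embedding.refl _)) (by norm_num) (fun _ => hall _) (((((LB_zero T ((skipEmb 3).trans (Function.Embedding.refl _))).upd 0 3 3 (le_of_eq hx04)).upd 2 3 1 (le_of_eq hx24)).upd 3 0 1 (le_of_eq hx40)).upd 3 2 2 (le_of_eq hx42)) ![2,0,1,2] (by decide) (by decide) 0 (by decide))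
      · -- 24=(2,1)
        exact False.elim (cert_false T ((skipEmb 3).trans (Function.Embedding.refl _)) (by norm_num) (fun _ => hall _) (((((LB_zero T ((skipEmb 3).trans (Function.Embedding.refl _))).upd 0 3 3 (le_of_eq hx04)).upd 2 3 2 (le_of_eq hx24)).upd 3 0 1 (le_of_eq hx40)).upd 3 2 1 (le_of_eq hx42)) ![1,0,1,1] (by decide) (by decide) 0 (by decide))
      · -- 24=(1,3)
        exact False.elim (cert_false T ((skipEmb 3).trans (Function.Embedding.refl _)) (by norm_num) (fun _ => hall _) (((((LB_zero T ((skipEmb 3).trans (Function.Embedding.refl _))).upd 0 3 3 (le_of_eq hx04)).upd 2 3 1 (le_of_eq hx24)).upd 3 0 1 (le_of_eq hx40)).upd 3 2 3 (le_of_eq hx42)) ![1,0,1,2] (by decide) (by decide) 0 (by decide))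
      · -- 24=(3,1)
        exact False.elim (cert_false T ((skipEmb 3).trans (Function.Embedding.refl _)) (by norm_num) (fun _ => hall _) (((((LB_zero T ((skipEmb 3).trans (Function.Embedding.refl _))).upd 0 3 3 (le_of_eq hx04)).upd 2 3 3 (le_of_eq hx24)).upd 3 0 1 (le_of_eq hx40)).upd 3 2 1 (le_of_eq hx42)) ![1,0,1,1] (by decide) (by decide) 0 (by decide))
    · -- 14=(1,1)
      exact False.elim (cert_false T ((skipEmb 3).trans (Function.Embedding.refl _)) (by norm_num) (fun _ => hall _) (((((LB_zero T ((skipEmb 3).trans (Function.Embedding.refl _))).upd 0 3 3 (le_of_eq hx04)).upd 1 3 1 (le_of_eq hx14)).upd 3 0 1 (le_of_eq hx40)).upd 3 1 1 (le_of_eq hx41)) ![3,1,0,2] (by decide) (by decide) 0 (by decide))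
    · -- 14=(1,2)
      exact False.elim (cert_false T ((skipEmb 3).trans (Function.Embedding.refl _)) (by norm_num) (fun _ => hall _) (((((LB_zero T ((skipEmb 3).trans (Function.Embedding.refl _))).upd 0 3 3 (le_of_eq hx04)).upd 1 3 1 (le_of_eq hx14)).upd 3 0 1 (le_of_eq hx40)).upd 3 1 2 (le_of_eq hx41)) ![2,1,0,2] (by decide) (by decide) 0 (by decide))
    · -- 14=(2,1)
      exact False.elim (cert_false T ((skipEmb 3).trans (Function.Embedding.refl _)) (by norm_num) (fun _ => hall _) (((((LB_zero T ((skipEmb 3).trans (Function.Embedding.refl _))).upd 0 3 3 (le_of_eq hx04)).upd 1 3 2 (le_of_eq hx14)).upd 3 0 1 (le_of_eq hx40)).upd 3 1 1 (le_of_eq hx41)) ![1,1,0,1] (by decide) (by decide) 0 (by decide))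
    · -- 14=(1,3)
      exact False.elim (cert_false T ((skipEmb 3).trans (Function.Embedding.refl _)) (by norm_num) (fun _ => hall _) (((((LB_zero T ((skipEmb 3).trans (Function.Embedding.refl _))).upd 0 3 3 (le_of_eq hx04)).upd 1 3 1 (le_of_eq hx14)).upd 3 0 1 (le_of_eq hx40)).upd 3 1 3 (le_of_eq hx41)) ![1,1,0,2] (by decide) (by decide) 0 (by decide))
    · -- 14=(3,1)
      exact False.elim (cert_false T ((skipEmb 3).trans (Function.Embedding.refl _)) (by norm_num) (fun _ => hall _) (((((LB_zero T ((skipEmb 3).trans (Function.Embedding.refl _))).upd 0 3 3 (le_of_eq hx04)).upd 1 3 3 (le_of_eq hx14)).upd 3 0 1 (le_of_eq hx40)).upd 3 1 1 (le_of_eq hx41)) ![1,1,0,1] (by decide) (by decide) 0 (by decide))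

theorem case92 (T : NumericalType 5) (hall : ∀ i, T.IsMinusTwo i) (d : SData T)
    (h01 : N T (Function.Embedding.refl _) 0 1 = 0) (h10 : N T (Function.Embedding.refl _) 1 0 = 0)
    (h02 : N T (Function.Embedding.refl _) 0 2 = 0) (h20 : N T (Function.Embedding.refl _) 2 0 = 0)
    (h12 : N T (Function.Embedding.refl _) 1 2 = 1) (h21 : N T (Function.Embedding.refl _) 2 1 = 1)
    (h03 : N T (Function.Embedding.refl _) 0 3 = 0) (h30 : N T (Function.Embedding.refl _) 3 0 = 0)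
    (h13 : N T (Function.Embedding.refl _) 1 3 = 0) (h31 : N T (Function.Embedding.refl _) 3 1 = 0) :
    Goal T := by
  unfold Goal
  have hd := d
  obtain ⟨x01, x02, x03, x04, x10, x12, x13, x14, x20, x21, x23, x24, x30, x31, x32, x34, x40, x41, x42, x43, hx01, hx02, hx03, hx04, hx10, hx12, hx13, hx14, hx20, hx21, hx23, hx24, hx30, hx31, hx32, hx34, hx40, hx41, hx42, hx43, hw0, hm0, hw1, hm1, hw2, hm2, hw3, hm3, hw4, hm4, a00, a01, a02, a03, a04, a11, a10, a12, a13, a14, a22, a20, a21, a23, a24, a33, a30, a31, a32, a34, a44, a40, a41, a42, a43, wN01, wN02, wN12, wN03, wN13, wN23, wN04, wN14, wN24, wN34, e0, e1, e2, e3, e4, d01, d02, d12, d03, d13, d23, d04, d14, d24, d34⟩ := d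
  obtain rfl : x01 = 0 := hx01.trans h01
  obtain rfl : x10 = 0 := hx10.trans h10
  obtain rfl : x02 = 0 := hx02.trans h02
  obtain rfl : x20 = 0 := hx20.trans h20
  obtain rfl : x12 = 1 := hx12.trans h12
  obtain rfl : x21 = 1 := hx21.trans h21
  obtain rfl : x03 = 0 := hx03.trans h03
  obtain rfl : x30 = 0 := hx30.trans h30
  obtain rfl : x13 = 0 := hx13.trans h13
  obtain rfl : x31 = 0 := hx31.trans h31
  rcases d23 with ⟨rfl, rfl⟩ | ⟨rfl, rfl⟩ | ⟨rfl, rfl⟩ | ⟨rfl, rfl⟩ | ⟨rfl, rfl⟩ | ⟨rfl, rfl⟩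
  · -- 23=(0,0)
    exact case93 T hall hd hx01.symm hx10.symm hx02.symm hx20.symm hx12.symm hx21.symm hx03.symm hx30.symm hx13.symm hx31.symm hx23.symm hx32.symm
  · -- 23=(1,1)
    exact case96 T hall hd hx01.symm hx10.symm hx02.symm hx20.symm hx12.symm hx21.symm hx03.symm hx30.symm hx13.symm hx31.symm hx23.symm hx32.symm
  · -- 23=(1,2)
    exact case99 T hall hd hx01.symm hx10.symm hx02.symm hx20.symm hx12.symm hx21.symm hx03.symm hx30.symm hx13.symm hx31.symm hx23.symm hx32.symm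
  · -- 23=(2,1)
    exact case100 T hall hd hx01.symm hx10.symm hx02.symm hx20.symm hx12.symm hx21.symm hx03.symm hx30.symm hx13.symm hx31.symm hx23.symm hx32.symm
  · -- 23=(1,3)
    exact False.elim (cert_false T ((skipEmb 4).trans (Function.Embedding.refl _)) (by norm_num) (fun _ => hall _) (((((LB_zero T ((skipEmb 4).trans (Function.Embedding.refl _))).upd 1 2 1 (le_of_eq hx12)).upd 2 1 1 (le_of_eq hx21)).upd 2 3 1 (le_of_eq hx23)).upd 3 2 3 (le_of_eq hx32)) ![0,1,2,3] (by decide) (by decide) 1 (by decide))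
  · -- 23=(3,1)
    exact False.elim (cert_false T ((skipEmb 4).trans (Function.Embedding.refl _)) (by norm_num) (fun _ => hall _) (((((LB_zero T ((skipEmb 4).trans (Function.Embedding.refl _))).upd 1 2 1 (le_of_eq hx12)).upd 2 1 1 (le_of_eq hx21)).upd 2 3 3 (le_of_eq hx23)).upd 3 2 1 (le_of_eq hx32)) ![0,1,2,1] (by decide) (by decide) 1 (by decide))

theorem case156 (T : NumericalType 5) (hall : ∀ i, T.IsMinusTwo i) (d : SData T)
    (h01 : N T (Function.Embedding.refl _) 0 1 = 0) (h10 : N T (Function.Embedding.refl _) 1 0 = 0)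
    (h02 : N T (Function.Embedding.refl _) 0 2 = 0) (h20 : N T (Function.Embedding.refl _) 2 0 = 0)
    (h12 : N T (Function.Embedding.refl _) 1 2 = 1) (h21 : N T (Function.Embedding.refl _) 2 1 = 2)
    (h03 : N T (Function.Embedding.refl _) 0 3 = 1) (h30 : N T (Function.Embedding.refl _) 3 0 = 1)
    (h13 : N T (Function.Embedding.refl _) 1 3 = 1) (h31 : N T (Function.Embedding.refl _) 3 1 = 1)
    (h23 : N T (Function.Embedding.refl _) 2 3 = 0) (h32 : N T (Function.Embedding.refl _) 3 2 = 0) :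
    Goal T := by
  unfold Goal
  have hd := d
  obtain ⟨x01, x02, x03, x04, x10, x12, x13, x14, x20, x21, x23, x24, x30, x31, x32, x34, x40, x41, x42, x43, hx01, hx02, hx03, hx04, hx10, hx12, hx13, hx14, hx20, hx21, hx23, hx24, hx30, hx31, hx32, hx34, hx40, hx41, hx42, hx43, hw0, hm0, hw1, hm1, hw2, hm2, hw3, hm3, hw4, hm4, a00, a01, a02, a03, a04, a11, a10, a12, a13, a14, a22, a20, a21, a23, a24, a33, a30, a31, a32, a34, a44, a40, a41, a42, a43, wN01, wN02, wN12, wN03, wN13, wN23, wN04, wN14, wN24, wN34, e0, e1, e2, e3, e4, d01, d02, d12, d03, d13, d23, d04, d14, d24, d34⟩ := d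
  obtain rfl : x01 = 0 := hx01.trans h01
  obtain rfl : x10 = 0 := hx10.trans h10
  obtain rfl : x02 = 0 := hx02.trans h02
  obtain rfl : x20 = 0 := hx20.trans h20
  obtain rfl : x12 = 1 := hx12.trans h12
  obtain rfl : x21 = 2 := hx21.trans h21
  obtain rfl : x03 = 1 := hx03.trans h03
  obtain rfl : x30 = 1 := hx30.trans h30
  obtain rfl : x13 = 1 := hx13.trans h13
  obtain rfl : x31 = 1 := hx31.trans h31
  obtain rfl : x23 = 0 := hx23.trans h23
  obtain rfl : x32 = 0 := hx32.trans h32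
  rcases d04 with ⟨rfl, rfl⟩ | ⟨rfl, rfl⟩ | ⟨rfl, rfl⟩ | ⟨rfl, rfl⟩ | ⟨rfl, rfl⟩ | ⟨rfl, rfl⟩
  · -- 04=(0,0)
    rcases d14 with ⟨rfl, rfl⟩ | ⟨rfl, rfl⟩ | ⟨rfl, rfl⟩ | ⟨rfl, rfl⟩ | ⟨rfl, rfl⟩ | ⟨rfl, rfl⟩
    · -- 14=(0,0)
      rcases d24 with ⟨rfl, rfl⟩ | ⟨rfl, rfl⟩ | ⟨rfl, rfl⟩ | ⟨rfl, rfl⟩ | ⟨rfl, rfl⟩ | ⟨rfl, rfl⟩
      · -- 24=(0,0)
        rcases d34 with ⟨rfl, rfl⟩ | ⟨rfl, rfl⟩ | ⟨rfl, rfl⟩ | ⟨rfl, rfl⟩ | ⟨rfl, rfl⟩ | ⟨rfl, rfl⟩
        · -- 34=(0,0)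
          exfalso; omega
        · -- 34=(1,1)
          refine ⟨(⟨![2, 1, 3, 0, 4], ![3, 1, 0, 2, 4], by decide, by decide⟩ : Equiv.Perm (Fin 5)), T.m 0, T.w 2, Or.inr (Or.inr (Or.inr (Or.inr (Or.inr (Or.inr (Or.inr (Or.inr (?_))))))))⟩
          show T.m 2 = 2 * T.m 0 ∧ T.m 1 = 2 * T.m 0 ∧ T.m 3 = 2 * T.m 0 ∧ T.m 0 = T.m 0 ∧ T.m 4 = T.m 0 ∧ T.w 2 = T.w 2 ∧ T.w 1 = 2 * T.w 2 ∧ T.w 3 = 2 * T.w 2 ∧ T.w 0 = 2 * T.w 2 ∧ T.w 4 = 2 * T.w 2 ∧ T.a 2 2 = -2 * T.w 2 ∧ T.a 2 1 = 2 * T.w 2 ∧ T.a 2 3 = 0 ∧ T.a 2 0 = 0 ∧ T.a 2 4 = 0 ∧ T.a 1 1 = -4 * T.w 2 ∧ T.a 1 3 = 2 * T.w 2 ∧ T.a 1 0 = 0 ∧ T.a 1 4 = 0 ∧ T.a 3 3 = -4 * T.w 2 ∧ T.a 3 0 = 2 * T.w 2 ∧ T.a 3 4 = 2 * T.w 2 ∧ T.a 0 0 = -4 * T.w 2 ∧ T.a 0 4 = 0 ∧ T.a 4 4 = -4 * T.w 2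
          refine ⟨?_, ?_, ?_, ?_, ?_, ?_, ?_, ?_, ?_, ?_, ?_, ?_, ?_, ?_, ?_, ?_, ?_, ?_, ?_, ?_, ?_, ?_, ?_, ?_, ?_⟩ <;> omega
        · -- 34=(1,2)
          exact False.elim (cert_false T ((skipEmb 2).trans (Function.Embedding.refl _)) (by norm_num) (fun _ => hall _) (((((((LB_zero T ((skipEmb 2).trans (Function.Embedding.refl _))).upd 0 2 1 (le_of_eq hx03)).upd 1 2 1 (le_of_eq hx13)).upd 2 0 1 (le_of_eq hx30)).upd 2 1 1 (le_of_eq hx31)).upd 2 3 1 (le_of_eq hx34)).upd 3 2 2 (le_of_eq hx43)) ![1,1,2,2] (by decide) (by decide) 0 (by decide))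
        · -- 34=(2,1)
          exact False.elim (cert_false T ((skipEmb 2).trans (Function.Embedding.refl _)) (by norm_num) (fun _ => hall _) (((((((LB_zero T ((skipEmb 2).trans (Function.Embedding.refl _))).upd 0 2 1 (le_of_eq hx03)).upd 1 2 1 (le_of_eq hx13)).upd 2 0 1 (le_of_eq hx30)).upd 2 1 1 (le_of_eq hx31)).upd 2 3 2 (le_of_eq hx34)).upd 3 2 1 (le_of_eq hx43)) ![1,1,2,1] (by decide) (by decide) 0 (by decide))
        · -- 34=(1,3)
          exact False.elim (cert_false T ((skipEmb 2).trans (Function.Embedding.refl _)) (by norm_num) (fun _ => hall _) (((((((LB_zero T ((skipEmb 2).trans (Function.Embedding.refl _))).upd 0 2 1 (le_of_eq hx03)).upd 1 2 1 (le_of_eq hx13)).upd 2 0 1 (le_of_eq hx30)).upd 2 1 1 (le_of_eq hx31)).upd 2 3 1 (le_of_eq hx34)).upd 3 2 3 (le_of_eq hx43)) ![1,1,2,2] (by decide) (by decide) 0 (by decide))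
        · -- 34=(3,1)
          exact False.elim (cert_false T ((skipEmb 2).trans (Function.Embedding.refl _)) (by norm_num) (fun _ => hall _) (((((LB_zero T ((skipEmb 2).trans (Function.Embedding.refl _))).upd 1 2 1 (le_of_eq hx13)).upd 2 1 1 (le_of_eq hx31)).upd 2 3 3 (le_of_eq hx34)).upd 3 2 1 (le_of_eq hx43)) ![0,1,2,1] (by decide) (by decide) 1 (by decide))
      · -- 24=(1,1)
        rcases d34 with ⟨rfl, rfl⟩ | ⟨rfl, rfl⟩ | ⟨rfl, rfl⟩ | ⟨rfl, rfl⟩ | ⟨rfl, rfl⟩ | ⟨rfl, rfl⟩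
        · -- 34=(0,0)
          refine ⟨(⟨![0, 3, 1, 2, 4], ![0, 2, 3, 1, 4], by decide, by decide⟩ : Equiv.Perm (Fin 5)), T.m 0, T.w 2, Or.inr (Or.inr (Or.inl ?_))⟩
          show T.m 0 = T.m 0 ∧ T.m 3 = 2 * T.m 0 ∧ T.m 1 = 3 * T.m 0 ∧ T.m 2 = 4 * T.m 0 ∧ T.m 4 = 2 * T.m 0 ∧ T.w 0 = 2 * T.w 2 ∧ T.w 3 = 2 * T.w 2 ∧ T.w 1 = 2 * T.w 2 ∧ T.w 2 = T.w 2 ∧ T.w 4 = T.w 2 ∧ T.a 0 0 = -4 * T.w 2 ∧ T.a 0 3 = 2 * T.w 2 ∧ T.a 0 1 = 0 ∧ T.a 0 2 = 0 ∧ T.a 0 4 = 0 ∧ T.a 3 3 = -4 * T.w 2 ∧ T.a 3 1 = 2 * T.w 2 ∧ T.a 3 2 = 0 ∧ T.a 3 4 = 0 ∧ T.a 1 1 = -4 * T.w 2 ∧ T.a 1 2 = 2 * T.w 2 ∧ T.a 1 4 = 0 ∧ T.a 2 2 = -2 * T.w 2 ∧ T.a 2 4 = T.w 2 ∧ T.a 4 4 = -2 * T.w 2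
          refine ⟨?_, ?_, ?_, ?_, ?_, ?_, ?_, ?_, ?_, ?_, ?_, ?_, ?_, ?_, ?_, ?_, ?_, ?_, ?_, ?_, ?_, ?_, ?_, ?_, ?_⟩ <;> omega
        · -- 34=(1,1)
          exact False.elim (cert_false T ((skipEmb 0).trans (Function.Embedding.refl _)) (by norm_num) (fun _ => hall _) (((((((((LB_zero T ((skipEmb 0).trans (Function.Embedding.refl _))).upd 0 1 1 (le_of_eq hx12)).upd 0 2 1 (le_of_eq hx13)).upd 1 0 2 (le_of_eq hx21)).upd 1 3 1 (le_of_eq hx24)).upd 2 0 1 (le_of_eq hx31)).upd 2 3 1 (le_of_eq hx34)).upd 3 1 1 (le_of_eq hx42)).upd 3 2 1 (le_of_eq hx43)) ![1,1,1,1] (by decide) (by decide) 0 (by decide))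
        · -- 34=(1,2)
          exact False.elim (cert_false T ((skipEmb 2).trans (Function.Embedding.refl _)) (by norm_num) (fun _ => hall _) (((((((LB_zero T ((skipEmb 2).trans (Function.Embedding.refl _))).upd 0 2 1 (le_of_eq hx03)).upd 1 2 1 (le_of_eq hx13)).upd 2 0 1 (le_of_eq hx30)).upd 2 1 1 (le_of_eq hx31)).upd 2 3 1 (le_of_eq hx34)).upd 3 2 2 (le_of_eq hx43)) ![1,1,2,2] (by decide) (by decide) 0 (by decide))
        · -- 34=(2,1)
          exact False.elim (cert_false T ((skipEmb 2).trans (Function.Embedding.refl _)) (by norm_num) (fun _ => hall _) (((((((LB_zero T ((skipEmb 2).trans (Function.Embedding.refl _))).upd 0 2 1 (le_of_eq hx03)).upd 1 2 1 (le_of_eq hx13)).upd 2 0 1 (le_of_eq hx30)).upd 2 1 1 (le_of_eq hx31)).upd 2 3 2 (le_of_eq hx34)).upd 3 2 1 (le_of_eq hx43)) ![1,1,2,1] (by decide) (by decide) 0 (by decide))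
        · -- 34=(1,3)
          exact False.elim (cert_false T ((skipEmb 2).trans (Function.Embedding.refl _)) (by norm_num) (fun _ => hall _) (((((((LB_zero T ((skipEmb 2).trans (Function.Embedding.refl _))).upd 0 2 1 (le_of_eq hx03)).upd 1 2 1 (le_of_eq hx13)).upd 2 0 1 (le_of_eq hx30)).upd 2 1 1 (le_of_eq hx31)).upd 2 3 1 (le_of_eq hx34)).upd 3 2 3 (le_of_eq hx43)) ![1,1,2,2] (by decide) (by decide) 0 (by decide))
        · -- 34=(3,1)
          exact False.elim (cert_false T ((skipEmb 2).trans (Function.Embedding.refl _)) (by norm_num) (fun _ => hall _) (((((LB_zero T ((skipEmb 2).trans (Function.Embedding.refl _))).upd 1 2 1 (le_of_eq hx13)).upd 2 1 1 (le_of_eq hx31)).upd 2 3 3 (le_of_eq hx34)).upd 3 2 1 (le_of_eq hx43)) ![0,1,2,1] (by decide) (by decide) 1 (by decide))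
      · -- 24=(1,2)
        exact False.elim (cert_false T ((skipEmb 3).trans (Function.Embedding.refl _)) (by norm_num) (fun _ => hall _) (((((LB_zero T ((skipEmb 3).trans (Function.Embedding.refl _))).upd 1 2 1 (le_of_eq hx12)).upd 2 1 2 (le_of_eq hx21)).upd 2 3 1 (le_of_eq hx24)).upd 3 2 2 (le_of_eq hx42)) ![0,1,2,2] (by decide) (by decide) 1 (by decide))
      · -- 24=(2,1)
        exact False.elim (cert_false T ((skipEmb 3).trans (Function.Embedding.refl _)) (by norm_num) (fun _ => hall _) (((((LB_zero T ((skipEmb 3).trans (Function.Embedding.refl _))).upd 1 2 1 (le_of_eq hx12)).upd 2 1 2 (le_of_eq hx21)).upd 2 3 2 (le_of_eq hx24)).upd 3 2 1 (le_of_eq hx42)) ![0,1,2,1] (by decide) (by decide) 1 (by decide))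
      · -- 24=(1,3)
        exact False.elim (cert_false T ((skipEmb 3).trans (Function.Embedding.refl _)) (by norm_num) (fun _ => hall _) (((((LB_zero T ((skipEmb 3).trans (Function.Embedding.refl _))).upd 1 2 1 (le_of_eq hx12)).upd 2 1 2 (le_of_eq hx21)).upd 2 3 1 (le_of_eq hx24)).upd 3 2 3 (le_of_eq hx42)) ![0,1,2,2] (by decide) (by decide) 1 (by decide))
      · -- 24=(3,1)
        exact False.elim (cert_false T ((skipEmb 3).trans (Function.Embedding.refl _)) (by norm_num) (fun _ => hall _) (((((LB_zero T ((skipEmb 3).trans (Function.Embedding.refl _))).upd 1 2 1 (le_of_eq hx12)).upd 2 1 2 (le_of_eq hx21)).upd 2 3 3 (le_of_eq hx24)).upd 3 2 1 (le_of_eq hx42)) ![0,1,2,1] (by decide) (by decide) 1 (by decide))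
    · -- 14=(1,1)
      exact False.elim (cert_false T ((skipEmb 0).trans (Function.Embedding.refl _)) (by norm_num) (fun _ => hall _) (((((((LB_zero T ((skipEmb 0).trans (Function.Embedding.refl _))).upd 0 1 1 (le_of_eq hx12)).upd 0 2 1 (le_of_eq hx13)).upd 0 3 1 (le_of_eq hx14)).upd 1 0 2 (le_of_eq hx21)).upd 2 0 1 (le_of_eq hx31)).upd 3 0 1 (le_of_eq hx41)) ![2,2,1,1] (by decide) (by decide) 0 (by decide))
    · -- 14=(1,2)
      exact False.elim (cert_false T ((skipEmb 3).trans (Function.Embedding.refl _)) (by norm_num) (fun _ => hall _) (((((LB_zero T ((skipEmb 3).trans (Function.Embedding.refl _))).upd 1 2 1 (le_of_eq hx12)).upd 1 3 1 (le_of_eq hx14)).upd 2 1 2 (le_of_eq hx21)).upd 3 1 2 (le_of_eq hx41)) ![0,1,1,1] (by decide) (by decide) 1 (by decide))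
    · -- 14=(2,1)
      exact False.elim (cert_false T ((skipEmb 3).trans (Function.Embedding.refl _)) (by norm_num) (fun _ => hall _) (((((LB_zero T ((skipEmb 3).trans (Function.Embedding.refl _))).upd 1 2 1 (le_of_eq hx12)).upd 1 3 2 (le_of_eq hx14)).upd 2 1 2 (le_of_eq hx21)).upd 3 1 1 (le_of_eq hx41)) ![0,2,2,1] (by decide) (by decide) 1 (by decide))
    · -- 14=(1,3)
      exact False.elim (cert_false T ((skipEmb 3).trans (Function.Embedding.refl _)) (by norm_num) (fun _ => hall _) (((((LB_zero T ((skipEmb 3).trans (Function.Embedding.refl _))).upd 1 2 1 (le_of_eq hx12)).upd 1 3 1 (le_of_eq hx14)).upd 2 1 2 (le_of_eq hx21)).upd 3 1 3 (le_of_eq hx41)) ![0,1,1,1] (by decide) (by decide) 1 (by decide))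
    · -- 14=(3,1)
      exact False.elim (cert_false T ((skipEmb 3).trans (Function.Embedding.refl _)) (by norm_num) (fun _ => hall _) (((((LB_zero T ((skipEmb 3).trans (Function.Embedding.refl _))).upd 1 2 1 (le_of_eq hx12)).upd 1 3 3 (le_of_eq hx14)).upd 2 1 2 (le_of_eq hx21)).upd 3 1 1 (le_of_eq hx41)) ![0,2,1,1] (by decide) (by decide) 1 (by decide))
  · -- 04=(1,1)
    rcases d14 with ⟨rfl, rfl⟩ | ⟨rfl, rfl⟩ | ⟨rfl, rfl⟩ | ⟨rfl, rfl⟩ | ⟨rfl, rfl⟩ | ⟨rfl, rfl⟩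
    · -- 14=(0,0)
      rcases d24 with ⟨rfl, rfl⟩ | ⟨rfl, rfl⟩ | ⟨rfl, rfl⟩ | ⟨rfl, rfl⟩ | ⟨rfl, rfl⟩ | ⟨rfl, rfl⟩
      · -- 24=(0,0)
        rcases d34 with ⟨rfl, rfl⟩ | ⟨rfl, rfl⟩ | ⟨rfl, rfl⟩ | ⟨rfl, rfl⟩ | ⟨rfl, rfl⟩ | ⟨rfl, rfl⟩
        · -- 34=(0,0)
          exfalso; omega
        · -- 34=(1,1)
          exact False.elim (cert_false T ((skipEmb 2).trans (Function.Embedding.refl _)) (by norm_num) (fun _ => hall _) (((((((LB_zero T ((skipEmb 2).trans (Function.Embedding.refl _))).upd 0 2 1 (le_of_eq hx03)).upd 0 3 1 (le_of_eq hx04)).upd 2 0 1 (le_of_eq hx30)).upd 2 3 1 (le_of_eq hx34)).upd 3 0 1 (le_of_eq hx40)).upd 3 2 1 (le_of_eq hx43)) ![1,0,1,1] (by decide) (by decide) 0 (by decide))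
        · -- 34=(1,2)
          exact False.elim (cert_false T ((skipEmb 2).trans (Function.Embedding.refl _)) (by norm_num) (fun _ => hall _) (((((((LB_zero T ((skipEmb 2).trans (Function.Embedding.refl _))).upd 0 2 1 (le_of_eq hx03)).upd 0 3 1 (le_of_eq hx04)).upd 2 0 1 (le_of_eq hx30)).upd 2 3 1 (le_of_eq hx34)).upd 3 0 1 (le_of_eq hx40)).upd 3 2 2 (le_of_eq hx43)) ![1,0,1,1] (by decide) (by decide) 0 (by decide))
        · -- 34=(2,1)
          exact False.elim (cert_false T ((skipEmb 2).trans (Function.Embedding.refl _)) (by norm_num) (fun _ => hall _) (((((((LB_zero T ((skipEmb 2).trans (Function.Embedding.refl _))).upd 0 2 1 (le_of_eq hx03)).upd 0 3 1 (le_of_eq hx04)).upd 2 0 1 (le_of_eq hx30)).upd 2 3 2 (le_of_eq hx34)).upd 3 0 1 (le_of_eq hx40)).upd 3 2 1 (le_of_eq hx43)) ![1,0,1,1] (by decide) (by decide) 0 (by decide))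
        · -- 34=(1,3)
          exact False.elim (cert_false T ((skipEmb 2).trans (Function.Embedding.refl _)) (by norm_num) (fun _ => hall _) (((((((LB_zero T ((skipEmb 2).trans (Function.Embedding.refl _))).upd 0 2 1 (le_of_eq hx03)).upd 0 3 1 (le_of_eq hx04)).upd 2 0 1 (le_of_eq hx30)).upd 2 3 1 (le_of_eq hx34)).upd 3 0 1 (le_of_eq hx40)).upd 3 2 3 (le_of_eq hx43)) ![1,0,1,1] (by decide) (by decide) 0 (by decide))
        · -- 34=(3,1)
          exact False.elim (cert_false T ((skipEmb 2).trans (Function.Embedding.refl _)) (by norm_num) (fun _ => hall _) (((((((LB_zero T ((skipEmb 2).trans (Function.Embedding.refl _))).upd 0 2 1 (le_of_eq hx03)).upd 0 3 1 (le_of_eq hx04)).upd 2 0 1 (le_of_eq hx30)).upd 2 3 3 (le_of_eq hx34)).upd 3 0 1 (le_of_eq hx40)).upd 3 2 1 (le_of_eq hx43)) ![1,0,1,1] (by decide) (by decide) 0 (by decide))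
      · -- 24=(1,1)
        rcases d34 with ⟨rfl, rfl⟩ | ⟨rfl, rfl⟩ | ⟨rfl, rfl⟩ | ⟨rfl, rfl⟩ | ⟨rfl, rfl⟩ | ⟨rfl, rfl⟩
        · -- 34=(0,0)
          exfalso; omega
        · -- 34=(1,1)
          exact False.elim (cert_false T ((skipEmb 2).trans (Function.Embedding.refl _)) (by norm_num) (fun _ => hall _) (((((((LB_zero T ((skipEmb 2).trans (Function.Embedding.refl _))).upd 0 2 1 (le_of_eq hx03)).upd 0 3 1 (le_of_eq hx04)).upd 2 0 1 (le_of_eq hx30)).upd 2 3 1 (le_of_eq hx34)).upd 3 0 1 (le_of_eq hx40)).upd 3 2 1 (le_of_eq hx43)) ![1,0,1,1] (by decide) (by decide) 0 (by decide))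
        · -- 34=(1,2)
          exact False.elim (cert_false T ((skipEmb 2).trans (Function.Embedding.refl _)) (by norm_num) (fun _ => hall _) (((((((LB_zero T ((skipEmb 2).trans (Function.Embedding.refl _))).upd 0 2 1 (le_of_eq hx03)).upd 0 3 1 (le_of_eq hx04)).upd 2 0 1 (le_of_eq hx30)).upd 2 3 1 (le_of_eq hx34)).upd 3 0 1 (le_of_eq hx40)).upd 3 2 2 (le_of_eq hx43)) ![1,0,1,1] (by decide) (by decide) 0 (by decide))
        · -- 34=(2,1)
          exact False.elim (cert_false T ((skipEmb 2).trans (Function.Embedding.refl _)) (by norm_num) (fun _ => hall _) (((((((LB_zero T ((skipEmb 2).trans (Function.Embedding.refl _))).upd 0 2 1 (le_of_eq hx03)).upd 0 3 1 (le_of_eq hx04)).upd 2 0 1 (le_of_eq hx30)).upd 2 3 2 (le_of_eq hx34)).upd 3 0 1 (le_of_eq hx40)).upd 3 2 1 (le_of_eq hx43)) ![1,0,1,1] (by decide) (by decide) 0 (by decide))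
        · -- 34=(1,3)
          exact False.elim (cert_false T ((skipEmb 2).trans (Function.Embedding.refl _)) (by norm_num) (fun _ => hall _) (((((((LB_zero T ((skipEmb 2).trans (Function.Embedding.refl _))).upd 0 2 1 (le_of_eq hx03)).upd 0 3 1 (le_of_eq hx04)).upd 2 0 1 (le_of_eq hx30)).upd 2 3 1 (le_of_eq hx34)).upd 3 0 1 (le_of_eq hx40)).upd 3 2 3 (le_of_eq hx43)) ![1,0,1,1] (by decide) (by decide) 0 (by decide))
        · -- 34=(3,1)
          exact False.elim (cert_false T ((skipEmb 2).trans (Function.Embedding.refl _)) (by norm_num) (fun _ => hall _) (((((((LB_zero T ((skipEmb 2).trans (Function.Embedding.refl _))).upd 0 2 1 (le_of_eq hx03)).upd 0 3 1 (le_of_eq hx04)).upd 2 0 1 (le_of_eq hx30)).upd 2 3 3 (le_of_eq hx34)).upd 3 0 1 (le_of_eq hx40)).upd 3 2 1 (le_of_eq hx43)) ![1,0,1,1] (by decide) (by decide) 0 (by decide))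
      · -- 24=(1,2)
        exact False.elim (cert_false T ((skipEmb 3).trans (Function.Embedding.refl _)) (by norm_num) (fun _ => hall _) (((((LB_zero T ((skipEmb 3).trans (Function.Embedding.refl _))).upd 1 2 1 (le_of_eq hx12)).upd 2 1 2 (le_of_eq hx21)).upd 2 3 1 (le_of_eq hx24)).upd 3 2 2 (le_of_eq hx42)) ![0,1,2,2] (by decide) (by decide) 1 (by decide))
      · -- 24=(2,1)
        exact False.elim (cert_false T ((skipEmb 3).trans (Function.Embedding.refl _)) (by norm_num) (fun _ => hall _) (((((LB_zero T ((skipEmb 3).trans (Function.Embedding.refl _))).upd 1 2 1 (le_of_eq hx12)).upd 2 1 2 (le_of_eq hx21)).upd 2 3 2 (le_of_eq hx24)).upd 3 2 1 (le_of_eq hx42)) ![0,1,2,1] (by decide) (by decide) 1 (by decide))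
      · -- 24=(1,3)
        exact False.elim (cert_false T ((skipEmb 3).trans (Function.Embedding.refl _)) (by norm_num) (fun _ => hall _) (((((LB_zero T ((skipEmb 3).trans (Function.Embedding.refl _))).upd 1 2 1 (le_of_eq hx12)).upd 2 1 2 (le_of_eq hx21)).upd 2 3 1 (le_of_eq hx24)).upd 3 2 3 (le_of_eq hx42)) ![0,1,2,2] (by decide) (by decide) 1 (by decide))
      · -- 24=(3,1)
        exact False.elim (cert_false T ((skipEmb 3).trans (Function.Embedding.refl _)) (by norm_num) (fun _ => hall _) (((((LB_zero T ((skipEmb 3).trans (Function.Embedding.refl _))).upd 1 2 1 (le_of_eq hx12)).upd 2 1 2 (le_of_eq hx21)).upd 2 3 3 (le_of_eq hx24)).upd 3 2 1 (le_of_eq hx42)) ![0,1,2,1] (by decide) (by decide) 1 (by decide))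
    · -- 14=(1,1)
      exact False.elim (cert_false T ((skipEmb 2).trans (Function.Embedding.refl _)) (by norm_num) (fun _ => hall _) (((((((((LB_zero T ((skipEmb 2).trans (Function.Embedding.refl _))).upd 0 2 1 (le_of_eq hx03)).upd 0 3 1 (le_of_eq hx04)).upd 1 2 1 (le_of_eq hx13)).upd 1 3 1 (le_of_eq hx14)).upd 2 0 1 (le_of_eq hx30)).upd 2 1 1 (le_of_eq hx31)).upd 3 0 1 (le_of_eq hx40)).upd 3 1 1 (le_of_eq hx41)) ![1,1,1,1] (by decide) (by decide) 0 (by decide))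
    · -- 14=(1,2)
      exact False.elim (cert_false T ((skipEmb 3).trans (Function.Embedding.refl _)) (by norm_num) (fun _ => hall _) (((((LB_zero T ((skipEmb 3).trans (Function.Embedding.refl _))).upd 1 2 1 (le_of_eq hx12)).upd 1 3 1 (le_of_eq hx14)).upd 2 1 2 (le_of_eq hx21)).upd 3 1 2 (le_of_eq hx41)) ![0,1,1,1] (by decide) (by decide) 1 (by decide))
    · -- 14=(2,1)
      exact False.elim (cert_false T ((skipEmb 3).trans (Function.Embedding.refl _)) (by norm_num) (fun _ => hall _) (((((LB_zero T ((skipEmb 3).trans (Function.Embedding.refl _))).upd 1 2 1 (le_of_eq hx12)).upd 1 3 2 (le_of_eq hx14)).upd 2 1 2 (le_of_eq hx21)).upd 3 1 1 (le_of_eq hx41)) ![0,2,2,1] (by decide) (by decide) 1 (by decide))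
    · -- 14=(1,3)
      exact False.elim (cert_false T ((skipEmb 3).trans (Function.Embedding.refl _)) (by norm_num) (fun _ => hall _) (((((LB_zero T ((skipEmb 3).trans (Function.Embedding.refl _))).upd 1 2 1 (le_of_eq hx12)).upd 1 3 1 (le_of_eq hx14)).upd 2 1 2 (le_of_eq hx21)).upd 3 1 3 (le_of_eq hx41)) ![0,1,1,1] (by decide) (by decide) 1 (by decide))
    · -- 14=(3,1)
      exact False.elim (cert_false T ((skipEmb 3).trans (Function.Embedding.refl _)) (by norm_num) (fun _ => hall _) (((((LB_zero T ((skipEmb 3).trans (Function.Embedding.refl _))).upd 1 2 1 (le_of_eq hx12)).upd 1 3 3 (le_of_eq hx14)).upd 2 1 2 (le_of_eq hx21)).upd 3 1 1 (le_of_eq hx41)) ![0,2,1,1] (by decide) (by decide) 1 (by decide))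
  · -- 04=(1,2)
    rcases d14 with ⟨rfl, rfl⟩ | ⟨rfl, rfl⟩ | ⟨rfl, rfl⟩ | ⟨rfl, rfl⟩ | ⟨rfl, rfl⟩ | ⟨rfl, rfl⟩
    · -- 14=(0,0)
      rcases d24 with ⟨rfl, rfl⟩ | ⟨rfl, rfl⟩ | ⟨rfl, rfl⟩ | ⟨rfl, rfl⟩ | ⟨rfl, rfl⟩ | ⟨rfl, rfl⟩
      · -- 24=(0,0)
        rcases d34 with ⟨rfl, rfl⟩ | ⟨rfl, rfl⟩ | ⟨rfl, rfl⟩ | ⟨rfl, rfl⟩ | ⟨rfl, rfl⟩ | ⟨rfl, rfl⟩
        · -- 34=(0,0)
          refine ⟨(⟨![2, 1, 3, 0, 4], ![3, 1, 0, 2, 4], by decide, by decide⟩ : Equiv.Perm (Fin 5)), T.m 2, T.w 2, Or.inr (Or.inr (Or.inr (Or.inr (Or.inl ?_))))⟩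
          show T.m 2 = T.m 2 ∧ T.m 1 = T.m 2 ∧ T.m 3 = T.m 2 ∧ T.m 0 = T.m 2 ∧ T.m 4 = T.m 2 ∧ T.w 2 = T.w 2 ∧ T.w 1 = 2 * T.w 2 ∧ T.w 3 = 2 * T.w 2 ∧ T.w 0 = 2 * T.w 2 ∧ T.w 4 = T.w 2 ∧ T.a 2 2 = -2 * T.w 2 ∧ T.a 2 1 = 2 * T.w 2 ∧ T.a 2 3 = 0 ∧ T.a 2 0 = 0 ∧ T.a 2 4 = 0 ∧ T.a 1 1 = -4 * T.w 2 ∧ T.a 1 3 = 2 * T.w 2 ∧ T.a 1 0 = 0 ∧ T.a 1 4 = 0 ∧ T.a 3 3 = -4 * T.w 2 ∧ T.a 3 0 = 2 * T.w 2 ∧ T.a 3 4 = 0 ∧ T.a 0 0 = -4 * T.w 2 ∧ T.a 0 4 = 2 * T.w 2 ∧ T.a 4 4 = -2 * T.w 2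
          refine ⟨?_, ?_, ?_, ?_, ?_, ?_, ?_, ?_, ?_, ?_, ?_, ?_, ?_, ?_, ?_, ?_, ?_, ?_, ?_, ?_, ?_, ?_, ?_, ?_, ?_⟩ <;> omega
        · -- 34=(1,1)
          exact False.elim (cert_false T ((skipEmb 2).trans (Function.Embedding.refl _)) (by norm_num) (fun _ => hall _) (((((((LB_zero T ((skipEmb 2).trans (Function.Embedding.refl _))).upd 0 2 1 (le_of_eq hx03)).upd 0 3 1 (le_of_eq hx04)).upd 2 0 1 (le_of_eq hx30)).upd 2 3 1 (le_of_eq hx34)).upd 3 0 2 (le_of_eq hx40)).upd 3 2 1 (le_of_eq hx43)) ![1,0,1,1] (by decide) (by decide) 0 (by decide))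
        · -- 34=(1,2)
          exact False.elim (cert_false T ((skipEmb 2).trans (Function.Embedding.refl _)) (by norm_num) (fun _ => hall _) (((((((LB_zero T ((skipEmb 2).trans (Function.Embedding.refl _))).upd 0 2 1 (le_of_eq hx03)).upd 0 3 1 (le_of_eq hx04)).upd 2 0 1 (le_of_eq hx30)).upd 2 3 1 (le_of_eq hx34)).upd 3 0 2 (le_of_eq hx40)).upd 3 2 2 (le_of_eq hx43)) ![1,0,1,1] (by decide) (by decide) 0 (by decide))
        · -- 34=(2,1)
          exact False.elim (cert_false T ((skipEmb 2).trans (Function.Embedding.refl _)) (by norm_num) (fun _ => hall _) (((((((LB_zero T ((skipEmb 2).trans (Function.Embedding.refl _))).upd 0 2 1 (le_of_eq hx03)).upd 0 3 1 (le_of_eq hx04)).upd 2 0 1 (le_of_eq hx30)).upd 2 3 2 (le_of_eq hx34)).upd 3 0 2 (le_of_eq hx40)).upd 3 2 1 (le_of_eq hx43)) ![1,0,1,1] (by decide) (by decide) 0 (by decide))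
        · -- 34=(1,3)
          exact False.elim (cert_false T ((skipEmb 2).trans (Function.Embedding.refl _)) (by norm_num) (fun _ => hall _) (((((((LB_zero T ((skipEmb 2).trans (Function.Embedding.refl _))).upd 0 2 1 (le_of_eq hx03)).upd 0 3 1 (le_of_eq hx04)).upd 2 0 1 (le_of_eq hx30)).upd 2 3 1 (le_of_eq hx34)).upd 3 0 2 (le_of_eq hx40)).upd 3 2 3 (le_of_eq hx43)) ![1,0,1,1] (by decide) (by decide) 0 (by decide))
        · -- 34=(3,1)
          exact False.elim (cert_false T ((skipEmb 2).trans (Function.Embedding.refl _)) (by norm_num) (fun _ => hall _) (((((((LB_zero T ((skipEmb 2).trans (Function.Embedding.refl _))).upd 0 2 1 (le_of_eq hx03)).upd 0 3 1 (le_of_eq hx04)).upd 2 0 1 (le_of_eq hx30)).upd 2 3 3 (le_of_eq hx34)).upd 3 0 2 (le_of_eq hx40)).upd 3 2 1 (le_of_eq hx43)) ![1,0,1,1] (by decide) (by decide) 0 (by decide))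
      · -- 24=(1,1)
        exact False.elim (cert_false T ((skipEmb 3).trans (Function.Embedding.refl _)) (by norm_num) (fun _ => hall _) (((((((LB_zero T ((skipEmb 3).trans (Function.Embedding.refl _))).upd 0 3 1 (le_of_eq hx04)).upd 1 2 1 (le_of_eq hx12)).upd 2 1 2 (le_of_eq hx21)).upd 2 3 1 (le_of_eq hx24)).upd 3 0 2 (le_of_eq hx40)).upd 3 2 1 (le_of_eq hx42)) ![1,1,2,2] (by decide) (by decide) 0 (by decide))
      · -- 24=(1,2)
        exact False.elim (cert_false T ((skipEmb 3).trans (Function.Embedding.refl _)) (by norm_num) (fun _ => hall _) (((((LB_zero T ((skipEmb 3).trans (Function.Embedding.refl _))).upd 1 2 1 (le_of_eq hx12)).upd 2 1 2 (le_of_eq hx21)).upd 2 3 1 (le_of_eq hx24)).upd 3 2 2 (le_of_eq hx42)) ![0,1,2,2] (by decide) (by decide) 1 (by decide))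
      · -- 24=(2,1)
        exact False.elim (cert_false T ((skipEmb 3).trans (Function.Embedding.refl _)) (by norm_num) (fun _ => hall _) (((((LB_zero T ((skipEmb 3).trans (Function.Embedding.refl _))).upd 0 3 1 (le_of_eq hx04)).upd 2 3 2 (le_of_eq hx24)).upd 3 0 2 (le_of_eq hx40)).upd 3 2 1 (le_of_eq hx42)) ![1,0,2,2] (by decide) (by decide) 0 (by decide))
      · -- 24=(1,3)
        exact False.elim (cert_false T ((skipEmb 3).trans (Function.Embedding.refl _)) (by norm_num) (fun _ => hall _) (((((LB_zero T ((skipEmb 3).trans (Function.Embedding.refl _))).upd 1 2 1 (le_of_eq hx12)).upd 2 1 2 (le_of_eq hx21)).upd 2 3 1 (le_of_eq hx24)).upd 3 2 3 (le_of_eq hx42)) ![0,1,2,2] (by decide) (by decide) 1 (by decide))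
      · -- 24=(3,1)
        exact False.elim (cert_false T ((skipEmb 3).trans (Function.Embedding.refl _)) (by norm_num) (fun _ => hall _) (((((LB_zero T ((skipEmb 3).trans (Function.Embedding.refl _))).upd 0 3 1 (le_of_eq hx04)).upd 2 3 3 (le_of_eq hx24)).upd 3 0 2 (le_of_eq hx40)).upd 3 2 1 (le_of_eq hx42)) ![1,0,2,2] (by decide) (by decide) 0 (by decide))
    · -- 14=(1,1)
      exact False.elim (cert_false T ((skipEmb 3).trans (Function.Embedding.refl _)) (by norm_num) (fun _ => hall _) (((((((LB_zero T ((skipEmb 3).trans (Function.Embedding.refl _))).upd 0 3 1 (le_of_eq hx04)).upd 1 2 1 (le_of_eq hx12)).upd 1 3 1 (le_of_eq hx14)).upd 2 1 2 (le_of_eq hx21)).upd 3 0 2 (le_of_eq hx40)).upd 3 1 1 (le_of_eq hx41)) ![1,2,2,2] (by decide) (by decide) 0 (by decide))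
    · -- 14=(1,2)
      exact False.elim (cert_false T ((skipEmb 3).trans (Function.Embedding.refl _)) (by norm_num) (fun _ => hall _) (((((LB_zero T ((skipEmb 3).trans (Function.Embedding.refl _))).upd 1 2 1 (le_of_eq hx12)).upd 1 3 1 (le_of_eq hx14)).upd 2 1 2 (le_of_eq hx21)).upd 3 1 2 (le_of_eq hx41)) ![0,1,1,1] (by decide) (by decide) 1 (by decide))
    · -- 14=(2,1)
      exact False.elim (cert_false T ((skipEmb 3).trans (Function.Embedding.refl _)) (by norm_num) (fun _ => hall _) (((((LB_zero T ((skipEmb 3).trans (Function.Embedding.refl _))).upd 0 3 1 (le_of_eq hx04)).upd 1 3 2 (le_of_eq hx14)).upd 3 0 2 (le_of_eq hx40)).upd 3 1 1 (le_of_eq hx41)) ![1,2,0,2] (by decide) (by decide) 0 (by decide))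
    · -- 14=(1,3)
      exact False.elim (cert_false T ((skipEmb 3).trans (Function.Embedding.refl _)) (by norm_num) (fun _ => hall _) (((((LB_zero T ((skipEmb 3).trans (Function.Embedding.refl _))).upd 1 2 1 (le_of_eq hx12)).upd 1 3 1 (le_of_eq hx14)).upd 2 1 2 (le_of_eq hx21)).upd 3 1 3 (le_of_eq hx41)) ![0,1,1,1] (by decide) (by decide) 1 (by decide))
    · -- 14=(3,1)
      exact False.elim (cert_false T ((skipEmb 3).trans (Function.Embedding.refl _)) (by norm_num) (fun _ => hall _) (((((LB_zero T ((skipEmb 3).trans (Function.Embedding.refl _))).upd 0 3 1 (le_of_eq hx04)).upd 1 3 3 (le_of_eq hx14)).upd 3 0 2 (le_of_eq hx40)).upd 3 1 1 (le_of_eq hx41)) ![1,2,0,2] (by decide) (by decide) 0 (by decide))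
  · -- 04=(2,1)
    rcases d14 with ⟨rfl, rfl⟩ | ⟨rfl, rfl⟩ | ⟨rfl, rfl⟩ | ⟨rfl, rfl⟩ | ⟨rfl, rfl⟩ | ⟨rfl, rfl⟩
    · -- 14=(0,0)
      rcases d24 with ⟨rfl, rfl⟩ | ⟨rfl, rfl⟩ | ⟨rfl, rfl⟩ | ⟨rfl, rfl⟩ | ⟨rfl, rfl⟩ | ⟨rfl, rfl⟩
      · -- 24=(0,0)
        rcases d34 with ⟨rfl, rfl⟩ | ⟨rfl, rfl⟩ | ⟨rfl, rfl⟩ | ⟨rfl, rfl⟩ | ⟨rfl, rfl⟩ | ⟨rfl, rfl⟩
        · -- 34=(0,0)
          refine ⟨(⟨![2, 1, 3, 0, 4], ![3, 1, 0, 2, 4], by decide, by decide⟩ : Equiv.Perm (Fin 5)), T.m 4, T.w 2, Or.inr (Or.inr (Or.inr (Or.inl ?_)))⟩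
          show T.m 2 = 2 * T.m 4 ∧ T.m 1 = 2 * T.m 4 ∧ T.m 3 = 2 * T.m 4 ∧ T.m 0 = 2 * T.m 4 ∧ T.m 4 = T.m 4 ∧ T.w 2 = T.w 2 ∧ T.w 1 = 2 * T.w 2 ∧ T.w 3 = 2 * T.w 2 ∧ T.w 0 = 2 * T.w 2 ∧ T.w 4 = 4 * T.w 2 ∧ T.a 2 2 = -2 * T.w 2 ∧ T.a 2 1 = 2 * T.w 2 ∧ T.a 2 3 = 0 ∧ T.a 2 0 = 0 ∧ T.a 2 4 = 0 ∧ T.a 1 1 = -4 * T.w 2 ∧ T.a 1 3 = 2 * T.w 2 ∧ T.a 1 0 = 0 ∧ T.a 1 4 = 0 ∧ T.a 3 3 = -4 * T.w 2 ∧ T.a 3 0 = 2 * T.w 2 ∧ T.a 3 4 = 0 ∧ T.a 0 0 = -4 * T.w 2 ∧ T.a 0 4 = 4 * T.w 2 ∧ T.a 4 4 = -8 * T.w 2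
          refine ⟨?_, ?_, ?_, ?_, ?_, ?_, ?_, ?_, ?_, ?_, ?_, ?_, ?_, ?_, ?_, ?_, ?_, ?_, ?_, ?_, ?_, ?_, ?_, ?_, ?_⟩ <;> omega
        · -- 34=(1,1)
          exact False.elim (cert_false T ((skipEmb 2).trans (Function.Embedding.refl _)) (by norm_num) (fun _ => hall _) (((((((LB_zero T ((skipEmb 2).trans (Function.Embedding.refl _))).upd 0 2 1 (le_of_eq hx03)).upd 0 3 2 (le_of_eq hx04)).upd 2 0 1 (le_of_eq hx30)).upd 2 3 1 (le_of_eq hx34)).upd 3 0 1 (le_of_eq hx40)).upd 3 2 1 (le_of_eq hx43)) ![1,0,1,1] (by decide) (by decide) 0 (by decide))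
        · -- 34=(1,2)
          exact False.elim (cert_false T ((skipEmb 2).trans (Function.Embedding.refl _)) (by norm_num) (fun _ => hall _) (((((((LB_zero T ((skipEmb 2).trans (Function.Embedding.refl _))).upd 0 2 1 (le_of_eq hx03)).upd 0 3 2 (le_of_eq hx04)).upd 2 0 1 (le_of_eq hx30)).upd 2 3 1 (le_of_eq hx34)).upd 3 0 1 (le_of_eq hx40)).upd 3 2 2 (le_of_eq hx43)) ![1,0,1,1] (by decide) (by decide) 0 (by decide))
        · -- 34=(2,1)
          exact False.elim (cert_false T ((skipEmb 2).trans (Function.Embedding.refl _)) (by norm_num) (fun _ => hall _) (((((((LB_zero T ((skipEmb 2).trans (Function.Embedding.refl _))).upd 0 2 1 (le_of_eq hx03)).upd 0 3 2 (le_of_eq hx04)).upd 2 0 1 (le_of_eq hx30)).upd 2 3 2 (le_of_eq hx34)).upd 3 0 1 (le_of_eq hx40)).upd 3 2 1 (le_of_eq hx43)) ![1,0,1,1] (by decide) (by decide) 0 (by decide))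
        · -- 34=(1,3)
          exact False.elim (cert_false T ((skipEmb 2).trans (Function.Embedding.refl _)) (by norm_num) (fun _ => hall _) (((((((LB_zero T ((skipEmb 2).trans (Function.Embedding.refl _))).upd 0 2 1 (le_of_eq hx03)).upd 0 3 2 (le_of_eq hx04)).upd 2 0 1 (le_of_eq hx30)).upd 2 3 1 (le_of_eq hx34)).upd 3 0 1 (le_of_eq hx40)).upd 3 2 3 (le_of_eq hx43)) ![1,0,1,1] (by decide) (by decide) 0 (by decide))
        · -- 34=(3,1)
          exact False.elim (cert_false T ((skipEmb 2).trans (Function.Embedding.refl _)) (by norm_num) (fun _ => hall _) (((((((LB_zero T ((skipEmb 2).trans (Function.Embedding.refl _))).upd 0 2 1 (le_of_eq hx03)).upd 0 3 2 (le_of_eq hx04)).upd 2 0 1 (le_of_eq hx30)).upd 2 3 3 (le_of_eq hx34)).upd 3 0 1 (le_of_eq hx40)).upd 3 2 1 (le_of_eq hx43)) ![1,0,1,1] (by decide) (by decide) 0 (by decide))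
      · -- 24=(1,1)
        exact False.elim (cert_false T ((skipEmb 3).trans (Function.Embedding.refl _)) (by norm_num) (fun _ => hall _) (((((((LB_zero T ((skipEmb 3).trans (Function.Embedding.refl _))).upd 0 3 2 (le_of_eq hx04)).upd 1 2 1 (le_of_eq hx12)).upd 2 1 2 (le_of_eq hx21)).upd 2 3 1 (le_of_eq hx24)).upd 3 0 1 (le_of_eq hx40)).upd 3 2 1 (le_of_eq hx42)) ![2,1,2,2] (by decide) (by decide) 0 (by decide))
      · -- 24=(1,2)
        exact False.elim (cert_false T ((skipEmb 3).trans (Function.Embedding.refl _)) (by norm_num) (fun _ => hall _) (((((LB_zero T ((skipEmb 3).trans (Function.Embedding.refl _))).upd 0 3 2 (le_of_eq hx04)).upd 2 3 1 (le_of_eq hx24)).upd 3 0 1 (le_of_eq hx40)).upd 3 2 2 (le_of_eq hx42)) ![2,0,1,2] (by decide) (by decide) 0 (by decide))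
      · -- 24=(2,1)
        exact False.elim (cert_false T ((skipEmb 3).trans (Function.Embedding.refl _)) (by norm_num) (fun _ => hall _) (((((LB_zero T ((skipEmb 3).trans (Function.Embedding.refl _))).upd 0 3 2 (le_of_eq hx04)).upd 2 3 2 (le_of_eq hx24)).upd 3 0 1 (le_of_eq hx40)).upd 3 2 1 (le_of_eq hx42)) ![1,0,1,1] (by decide) (by decide) 0 (by decide))
      · -- 24=(1,3)
        exact False.elim (cert_false T ((skipEmb 3).trans (Function.Embedding.refl _)) (by norm_num) (fun _ => hall _) (((((LB_zero T ((skipEmb 3).trans (Function.Embedding.refl _))).upd 1 2 1 (le_of_eq hx12)).upd 2 1 2 (le_of_eq hx21)).upd 2 3 1 (le_of_eq hx24)).upd 3 2 3 (le_of_eq hx42)) ![0,1,2,2] (by decide) (by decide) 1 (by decide))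
      · -- 24=(3,1)
        exact False.elim (cert_false T ((skipEmb 3).trans (Function.Embedding.refl _)) (by norm_num) (fun _ => hall _) (((((LB_zero T ((skipEmb 3).trans (Function.Embedding.refl _))).upd 0 3 2 (le_of_eq hx04)).upd 2 3 3 (le_of_eq hx24)).upd 3 0 1 (le_of_eq hx40)).upd 3 2 1 (le_of_eq hx42)) ![1,0,1,1] (by decide) (by decide) 0 (by decide))
    · -- 14=(1,1)
      exact False.elim (cert_false T ((skipEmb 3).trans (Function.Embedding.refl _)) (by norm_num) (fun _ => hall _) (((((((LB_zero T ((skipEmb 3).trans (Function.Embedding.refl _))).upd 0 3 2 (le_of_eq hx04)).upd 1 2 1 (le_of_eq hx12)).upd 1 3 1 (le_of_eq hx14)).upd 2 1 2 (le_of_eq hx21)).upd 3 0 1 (le_of_eq hx40)).upd 3 1 1 (le_of_eq hx41)) ![1,1,1,1] (by decide) (by decide) 0 (by decide))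
    · -- 14=(1,2)
      exact False.elim (cert_false T ((skipEmb 3).trans (Function.Embedding.refl _)) (by norm_num) (fun _ => hall _) (((((LB_zero T ((skipEmb 3).trans (Function.Embedding.refl _))).upd 1 2 1 (le_of_eq hx12)).upd 1 3 1 (le_of_eq hx14)).upd 2 1 2 (le_of_eq hx21)).upd 3 1 2 (le_of_eq hx41)) ![0,1,1,1] (by decide) (by decide) 1 (by decide))
    · -- 14=(2,1)
      exact False.elim (cert_false T ((skipEmb 3).trans (Function.Embedding.refl _)) (by norm_num) (fun _ => hall _) (((((LB_zero T ((skipEmb 3).trans (Function.Embedding.refl _))).upd 0 3 2 (le_of_eq hx04)).upd 1 3 2 (le_of_eq hx14)).upd 3 0 1 (le_of_eq hx40)).upd 3 1 1 (le_of_eq hx41)) ![1,1,0,1] (by decide) (by decide) 0 (by decide))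
    · -- 14=(1,3)
      exact False.elim (cert_false T ((skipEmb 3).trans (Function.Embedding.refl _)) (by norm_num) (fun _ => hall _) (((((LB_zero T ((skipEmb 3).trans (Function.Embedding.refl _))).upd 1 2 1 (le_of_eq hx12)).upd 1 3 1 (le_of_eq hx14)).upd 2 1 2 (le_of_eq hx21)).upd 3 1 3 (le_of_eq hx41)) ![0,1,1,1] (by decide) (by decide) 1 (by decide))
    · -- 14=(3,1)
      exact False.elim (cert_false T ((skipEmb 3).trans (Function.Embedding.refl _)) (by norm_num) (fun _ => hall _) (((((LB_zero T ((skipEmb 3).trans (Function.Embedding.refl _))).upd 0 3 2 (le_of_eq hx04)).upd 1 3 3 (le_of_eq hx14)).upd 3 0 1 (le_of_eq hx40)).upd 3 1 1 (le_of_eq hx41)) ![1,1,0,1] (by decide) (by decide) 0 (by decide))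
  · -- 04=(1,3)
    exact False.elim (cert_false T ((skipEmb 2).trans (Function.Embedding.refl _)) (by norm_num) (fun _ => hall _) (((((LB_zero T ((skipEmb 2).trans (Function.Embedding.refl _))).upd 0 2 1 (le_of_eq hx03)).upd 0 3 1 (le_of_eq hx04)).upd 2 0 1 (le_of_eq hx30)).upd 3 0 3 (le_of_eq hx40)) ![2,0,1,3] (by decide) (by decide) 0 (by decide))
  · -- 04=(3,1)
    exact False.elim (cert_false T ((skipEmb 2).trans (Function.Embedding.refl _)) (by norm_num) (fun _ => hall _) (((((LB_zero T ((skipEmb 2).trans (Function.Embedding.refl _))).upd 0 2 1 (le_of_eq hx03)).upd 0 3 3 (le_of_eq hx04)).upd 2 0 1 (le_of_eq hx30)).upd 3 0 1 (le_of_eq hx40)) ![2,0,1,1] (by decide) (by decide) 0 (by decide))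

theorem case155 (T : NumericalType 5) (hall : ∀ i, T.IsMinusTwo i) (d : SData T)
    (h01 : N T (Function.Embedding.refl _) 0 1 = 0) (h10 : N T (Function.Embedding.refl _) 1 0 = 0)
    (h02 : N T (Function.Embedding.refl _) 0 2 = 0) (h20 : N T (Function.Embedding.refl _) 2 0 = 0)
    (h12 : N T (Function.Embedding.refl _) 1 2 = 1) (h21 : N T (Function.Embedding.refl _) 2 1 = 2)
    (h03 : N T (Function.Embedding.refl _) 0 3 = 1) (h30 : N T (Function.Embedding.refl _) 3 0 = 1)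
    (h13 : N T (Function.Embedding.refl _) 1 3 = 1) (h31 : N T (Function.Embedding.refl _) 3 1 = 1) :
    Goal T := by
  unfold Goal
  have hd := d
  obtain ⟨x01, x02, x03, x04, x10, x12, x13, x14, x20, x21, x23, x24, x30, x31, x32, x34, x40, x41, x42, x43, hx01, hx02, hx03, hx04, hx10, hx12, hx13, hx14, hx20, hx21, hx23, hx24, hx30, hx31, hx32, hx34, hx40, hx41, hx42, hx43, hw0, hm0, hw1, hm1, hw2, hm2, hw3, hm3, hw4, hm4, a00, a01, a02, a03, a04, a11, a10, a12, a13, a14, a22, a20, a21, a23, a24, a33, a30, a31, a32, a34, a44, a40, a41, a42, a43, wN01, wN02, wN12, wN03, wN13, wN23, wN04, wN14, wN24, wN34, e0, e1, e2, e3, e4, d01, d02, d12, d03, d13, d23, d04, d14, d24, d34⟩ := d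
  obtain rfl : x01 = 0 := hx01.trans h01
  obtain rfl : x10 = 0 := hx10.trans h10
  obtain rfl : x02 = 0 := hx02.trans h02
  obtain rfl : x20 = 0 := hx20.trans h20
  obtain rfl : x12 = 1 := hx12.trans h12
  obtain rfl : x21 = 2 := hx21.trans h21
  obtain rfl : x03 = 1 := hx03.trans h03
  obtain rfl : x30 = 1 := hx30.trans h30
  obtain rfl : x13 = 1 := hx13.trans h13
  obtain rfl : x31 = 1 := hx31.trans h31
  rcases d23 with ⟨rfl, rfl⟩ | ⟨rfl, rfl⟩ | ⟨rfl, rfl⟩ | ⟨rfl, rfl⟩ | ⟨rfl, rfl⟩ | ⟨rfl, rfl⟩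
  · -- 23=(0,0)
    exact case156 T hall hd hx01.symm hx10.symm hx02.symm hx20.symm hx12.symm hx21.symm hx03.symm hx30.symm hx13.symm hx31.symm hx23.symm hx32.symm
  · -- 23=(1,1)
    exact False.elim (cert_false T ((skipEmb 4).trans (Function.Embedding.refl _)) (by norm_num) (fun _ => hall _) (((((((LB_zero T ((skipEmb 4).trans (Function.Embedding.refl _))).upd 1 2 1 (le_of_eq hx12)).upd 1 3 1 (le_of_eq hx13)).upd 2 1 2 (le_of_eq hx21)).upd 2 3 1 (le_of_eq hx23)).upd 3 1 1 (le_of_eq hx31)).upd 3 2 1 (le_of_eq hx32)) ![0,1,1,1] (by decide) (by decide) 1 (by decide))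
  · -- 23=(1,2)
    exact False.elim (cert_false T ((skipEmb 4).trans (Function.Embedding.refl _)) (by norm_num) (fun _ => hall _) (((((((LB_zero T ((skipEmb 4).trans (Function.Embedding.refl _))).upd 1 2 1 (le_of_eq hx12)).upd 1 3 1 (le_of_eq hx13)).upd 2 1 2 (le_of_eq hx21)).upd 2 3 1 (le_of_eq hx23)).upd 3 1 1 (le_of_eq hx31)).upd 3 2 2 (le_of_eq hx32)) ![0,1,1,1] (by decide) (by decide) 1 (by decide))
  · -- 23=(2,1)
    exact False.elim (cert_false T ((skipEmb 4).trans (Function.Embedding.refl _)) (by norm_num) (fun _ => hall _) (((((((LB_zero T ((skipEmb 4).trans (Function.Embedding.refl _))).upd 1 2 1 (le_of_eq hx12)).upd 1 3 1 (le_of_eq hx13)).upd 2 1 2 (le_of_eq hx21)).upd 2 3 2 (le_of_eq hx23)).upd 3 1 1 (le_of_eq hx31)).upd 3 2 1 (le_of_eq hx32)) ![0,1,1,1] (by decide) (by decide) 1 (by decide))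
  · -- 23=(1,3)
    exact False.elim (cert_false T ((skipEmb 4).trans (Function.Embedding.refl _)) (by norm_num) (fun _ => hall _) (((((((LB_zero T ((skipEmb 4).trans (Function.Embedding.refl _))).upd 1 2 1 (le_of_eq hx12)).upd 1 3 1 (le_of_eq hx13)).upd 2 1 2 (le_of_eq hx21)).upd 2 3 1 (le_of_eq hx23)).upd 3 1 1 (le_of_eq hx31)).upd 3 2 3 (le_of_eq hx32)) ![0,1,1,1] (by decide) (by decide) 1 (by decide))
  · -- 23=(3,1)
    exact False.elim (cert_false T ((skipEmb 4).trans (Function.Embedding.refl _)) (by norm_num) (fun _ => hall _) (((((((LB_zero T ((skipEmb 4).trans (Function.Embedding.refl _))).upd 1 2 1 (le_of_eq hx12)).upd 1 3 1 (le_of_eq hx13)).upd 2 1 2 (le_of_eq hx21)).upd 2 3 3 (le_of_eq hx23)).upd 3 1 1 (le_of_eq hx31)).upd 3 2 1 (le_of_eq hx32)) ![0,1,1,1] (by decide) (by decide) 1 (by decide))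

theorem case181 (T : NumericalType 5) (hall : ∀ i, T.IsMinusTwo i) (d : SData T)
    (h01 : N T (Function.Embedding.refl _) 0 1 = 0) (h10 : N T (Function.Embedding.refl _) 1 0 = 0)
    (h02 : N T (Function.Embedding.refl _) 0 2 = 0) (h20 : N T (Function.Embedding.refl _) 2 0 = 0)
    (h12 : N T (Function.Embedding.refl _) 1 2 = 2) (h21 : N T (Function.Embedding.refl _) 2 1 = 1)
    (h03 : N T (Function.Embedding.refl _) 0 3 = 2) (h30 : N T (Function.Embedding.refl _) 3 0 = 1)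
    (h13 : N T (Function.Embedding.refl _) 1 3 = 0) (h31 : N T (Function.Embedding.refl _) 3 1 = 0)
    (h23 : N T (Function.Embedding.refl _) 2 3 = 0) (h32 : N T (Function.Embedding.refl _) 3 2 = 0) :
    Goal T := by
  unfold Goal
  have hd := d
  obtain ⟨x01, x02, x03, x04, x10, x12, x13, x14, x20, x21, x23, x24, x30, x31, x32, x34, x40, x41, x42, x43, hx01, hx02, hx03, hx04, hx10, hx12, hx13, hx14, hx20, hx21, hx23, hx24, hx30, hx31, hx32, hx34, hx40, hx41, hx42, hx43, hw0, hm0, hw1, hm1, hw2, hm2, hw3, hm3, hw4, hm4, a00, a01, a02, a03, a04, a11, a10, a12, a13, a14, a22, a20, a21, a23, a24, a33, a30, a31, a32, a34, a44, a40, a41, a42, a43, wN01, wN02, wN12, wN03, wN13, wN23, wN04, wN14, wN24, wN34, e0, e1, e2, e3, e4, d01, d02, d12, d03, d13, d23, d04, d14, d24, d34⟩ := d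
  obtain rfl : x01 = 0 := hx01.trans h01
  obtain rfl : x10 = 0 := hx10.trans h10
  obtain rfl : x02 = 0 := hx02.trans h02
  obtain rfl : x20 = 0 := hx20.trans h20
  obtain rfl : x12 = 2 := hx12.trans h12
  obtain rfl : x21 = 1 := hx21.trans h21
  obtain rfl : x03 = 2 := hx03.trans h03
  obtain rfl : x30 = 1 := hx30.trans h30
  obtain rfl : x13 = 0 := hx13.trans h13
  obtain rfl : x31 = 0 := hx31.trans h31
  obtain rfl : x23 = 0 := hx23.trans h23
  obtain rfl : x32 = 0 := hx32.trans h32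
  rcases d04 with ⟨rfl, rfl⟩ | ⟨rfl, rfl⟩ | ⟨rfl, rfl⟩ | ⟨rfl, rfl⟩ | ⟨rfl, rfl⟩ | ⟨rfl, rfl⟩
  · -- 04=(0,0)
    rcases d14 with ⟨rfl, rfl⟩ | ⟨rfl, rfl⟩ | ⟨rfl, rfl⟩ | ⟨rfl, rfl⟩ | ⟨rfl, rfl⟩ | ⟨rfl, rfl⟩
    · -- 14=(0,0)
      rcases d24 with ⟨rfl, rfl⟩ | ⟨rfl, rfl⟩ | ⟨rfl, rfl⟩ | ⟨rfl, rfl⟩ | ⟨rfl, rfl⟩ | ⟨rfl, rfl⟩
      · -- 24=(0,0)
        rcases d34 with ⟨rfl, rfl⟩ | ⟨rfl, rfl⟩ | ⟨rfl, rfl⟩ | ⟨rfl, rfl⟩ | ⟨rfl, rfl⟩ | ⟨rfl, rfl⟩
        · -- 34=(0,0)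
          exfalso; omega
        · -- 34=(1,1)
          exfalso; omega
        · -- 34=(1,2)
          exact False.elim (cert_false T ((skipEmb 2).trans (Function.Embedding.refl _)) (by norm_num) (fun _ => hall _) (((((LB_zero T ((skipEmb 2).trans (Function.Embedding.refl _))).upd 0 2 2 (le_of_eq hx03)).upd 2 0 1 (le_of_eq hx30)).upd 2 3 1 (le_of_eq hx34)).upd 3 2 2 (le_of_eq hx43)) ![1,0,1,1] (by decide) (by decide) 0 (by decide))
        · -- 34=(2,1)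
          exact False.elim (cert_false T ((skipEmb 2).trans (Function.Embedding.refl _)) (by norm_num) (fun _ => hall _) (((((LB_zero T ((skipEmb 2).trans (Function.Embedding.refl _))).upd 0 2 2 (le_of_eq hx03)).upd 2 0 1 (le_of_eq hx30)).upd 2 3 2 (le_of_eq hx34)).upd 3 2 1 (le_of_eq hx43)) ![2,0,2,1] (by decide) (by decide) 0 (by decide))
        · -- 34=(1,3)
          exact False.elim (cert_false T ((skipEmb 2).trans (Function.Embedding.refl _)) (by norm_num) (fun _ => hall _) (((((LB_zero T ((skipEmb 2).trans (Function.Embedding.refl _))).upd 0 2 2 (le_of_eq hx03)).upd 2 0 1 (le_of_eq hx30)).upd 2 3 1 (le_of_eq hx34)).upd 3 2 3 (le_of_eq hx43)) ![1,0,1,1] (by decide) (by decide) 0 (by decide))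
        · -- 34=(3,1)
          exact False.elim (cert_false T ((skipEmb 2).trans (Function.Embedding.refl _)) (by norm_num) (fun _ => hall _) (((((LB_zero T ((skipEmb 2).trans (Function.Embedding.refl _))).upd 0 2 2 (le_of_eq hx03)).upd 2 0 1 (le_of_eq hx30)).upd 2 3 3 (le_of_eq hx34)).upd 3 2 1 (le_of_eq hx43)) ![1,0,2,1] (by decide) (by decide) 0 (by decide))
      · -- 24=(1,1)
        rcases d34 with ⟨rfl, rfl⟩ | ⟨rfl, rfl⟩ | ⟨rfl, rfl⟩ | ⟨rfl, rfl⟩ | ⟨rfl, rfl⟩ | ⟨rfl, rfl⟩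
        · -- 34=(0,0)
          exfalso; omega
        · -- 34=(1,1)
          refine ⟨(⟨![0, 3, 4, 2, 1], ![0, 4, 3, 1, 2], by decide, by decide⟩ : Equiv.Perm (Fin 5)), T.m 0, T.w 0, Or.inr (Or.inr (Or.inr (Or.inr (Or.inl ?_))))⟩
          show T.m 0 = T.m 0 ∧ T.m 3 = T.m 0 ∧ T.m 4 = T.m 0 ∧ T.m 2 = T.m 0 ∧ T.m 1 = T.m 0 ∧ T.w 0 = T.w 0 ∧ T.w 3 = 2 * T.w 0 ∧ T.w 4 = 2 * T.w 0 ∧ T.w 2 = 2 * T.w 0 ∧ T.w 1 = T.w 0 ∧ T.a 0 0 = -2 * T.w 0 ∧ T.a 0 3 = 2 * T.w 0 ∧ T.a 0 4 = 0 ∧ T.a 0 2 = 0 ∧ T.a 0 1 = 0 ∧ T.a 3 3 = -4 * T.w 0 ∧ T.a 3 4 = 2 * T.w 0 ∧ T.a 3 2 = 0 ∧ T.a 3 1 = 0 ∧ T.a 4 4 = -4 * T.w 0 ∧ T.a 4 2 = 2 * T.w 0 ∧ T.a 4 1 = 0 ∧ T.a 2 2 = -4 * T.w 0 ∧ T.a 2 1 = 2 * T.w 0 ∧ T.a 1 1 = -2 * T.w 0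
          refine ⟨?_, ?_, ?_, ?_, ?_, ?_, ?_, ?_, ?_, ?_, ?_, ?_, ?_, ?_, ?_, ?_, ?_, ?_, ?_, ?_, ?_, ?_, ?_, ?_, ?_⟩ <;> omega
        · -- 34=(1,2)
          exact False.elim (cert_false T ((skipEmb 2).trans (Function.Embedding.refl _)) (by norm_num) (fun _ => hall _) (((((LB_zero T ((skipEmb 2).trans (Function.Embedding.refl _))).upd 0 2 2 (le_of_eq hx03)).upd 2 0 1 (le_of_eq hx30)).upd 2 3 1 (le_of_eq hx34)).upd 3 2 2 (le_of_eq hx43)) ![1,0,1,1] (by decide) (by decide) 0 (by decide))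
        · -- 34=(2,1)
          exact False.elim (cert_false T ((skipEmb 2).trans (Function.Embedding.refl _)) (by norm_num) (fun _ => hall _) (((((LB_zero T ((skipEmb 2).trans (Function.Embedding.refl _))).upd 0 2 2 (le_of_eq hx03)).upd 2 0 1 (le_of_eq hx30)).upd 2 3 2 (le_of_eq hx34)).upd 3 2 1 (le_of_eq hx43)) ![2,0,2,1] (by decide) (by decide) 0 (by decide))
        · -- 34=(1,3)
          exact False.elim (cert_false T ((skipEmb 2).trans (Function.Embedding.refl _)) (by norm_num) (fun _ => hall _) (((((LB_zero T ((skipEmb 2).trans (Function.Embedding.refl _))).upd 0 2 2 (le_of_eq hx03)).upd 2 0 1 (le_of_eq hx30)).upd 2 3 1 (le_of_eq hx34)).upd 3 2 3 (le_of_eq hx43)) ![1,0,1,1] (by decide) (by decide) 0 (by decide))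
        · -- 34=(3,1)
          exact False.elim (cert_false T ((skipEmb 2).trans (Function.Embedding.refl _)) (by norm_num) (fun _ => hall _) (((((LB_zero T ((skipEmb 2).trans (Function.Embedding.refl _))).upd 0 2 2 (le_of_eq hx03)).upd 2 0 1 (le_of_eq hx30)).upd 2 3 3 (le_of_eq hx34)).upd 3 2 1 (le_of_eq hx43)) ![1,0,2,1] (by decide) (by decide) 0 (by decide))
      · -- 24=(1,2)
        exact False.elim (cert_false T ((skipEmb 3).trans (Function.Embedding.refl _)) (by norm_num) (fun _ => hall _) (((((LB_zero T ((skipEmb 3).trans (Function.Embedding.refl _))).upd 1 2 2 (le_of_eq hx12)).upd 2 1 1 (le_of_eq hx21)).upd 2 3 1 (le_of_eq hx24)).upd 3 2 2 (le_of_eq hx42)) ![0,1,1,1] (by decide) (by decide) 1 (by decide))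
      · -- 24=(2,1)
        exact False.elim (cert_false T ((skipEmb 3).trans (Function.Embedding.refl _)) (by norm_num) (fun _ => hall _) (((((LB_zero T ((skipEmb 3).trans (Function.Embedding.refl _))).upd 1 2 2 (le_of_eq hx12)).upd 2 1 1 (le_of_eq hx21)).upd 2 3 2 (le_of_eq hx24)).upd 3 2 1 (le_of_eq hx42)) ![0,2,2,1] (by decide) (by decide) 1 (by decide))
      · -- 24=(1,3)
        exact False.elim (cert_false T ((skipEmb 3).trans (Function.Embedding.refl _)) (by norm_num) (fun _ => hall _) (((((LB_zero T ((skipEmb 3).trans (Function.Embedding.refl _))).upd 1 2 2 (le_of_eq hx12)).upd 2 1 1 (le_of_eq hx21)).upd 2 3 1 (le_of_eq hx24)).upd 3 2 3 (le_of_eq hx42)) ![0,1,1,1] (by decide) (by decide) 1 (by decide))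
      · -- 24=(3,1)
        exact False.elim (cert_false T ((skipEmb 3).trans (Function.Embedding.refl _)) (by norm_num) (fun _ => hall _) (((((LB_zero T ((skipEmb 3).trans (Function.Embedding.refl _))).upd 1 2 2 (le_of_eq hx12)).upd 2 1 1 (le_of_eq hx21)).upd 2 3 3 (le_of_eq hx24)).upd 3 2 1 (le_of_eq hx42)) ![0,1,2,1] (by decide) (by decide) 1 (by decide))
    · -- 14=(1,1)
      rcases d24 with ⟨rfl, rfl⟩ | ⟨rfl, rfl⟩ | ⟨rfl, rfl⟩ | ⟨rfl, rfl⟩ | ⟨rfl, rfl⟩ | ⟨rfl, rfl⟩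
      · -- 24=(0,0)
        rcases d34 with ⟨rfl, rfl⟩ | ⟨rfl, rfl⟩ | ⟨rfl, rfl⟩ | ⟨rfl, rfl⟩ | ⟨rfl, rfl⟩ | ⟨rfl, rfl⟩
        · -- 34=(0,0)
          exfalso; omega
        · -- 34=(1,1)
          refine ⟨(⟨![0, 3, 4, 1, 2], ![0, 3, 4, 1, 2], by decide, by decide⟩ : Equiv.Perm (Fin 5)), T.m 2, T.w 0, Or.inr (Or.inr (Or.inr (Or.inl ?_)))⟩
          show T.m 0 = 2 * T.m 2 ∧ T.m 3 = 2 * T.m 2 ∧ T.m 4 = 2 * T.m 2 ∧ T.m 1 = 2 * T.m 2 ∧ T.m 2 = T.m 2 ∧ T.w 0 = T.w 0 ∧ T.w 3 = 2 * T.w 0 ∧ T.w 4 = 2 * T.w 0 ∧ T.w 1 = 2 * T.w 0 ∧ T.w 2 = 4 * T.w 0 ∧ T.a 0 0 = -2 * T.w 0 ∧ T.a 0 3 = 2 * T.w 0 ∧ T.a 0 4 = 0 ∧ T.a 0 1 = 0 ∧ T.a 0 2 = 0 ∧ T.a 3 3 = -4 * T.w 0 ∧ T.a 3 4 = 2 * T.w 0 ∧ T.a 3 1 = 0 ∧ T.a 3 2 = 0 ∧ T.a 4 4 = -4 * T.w 0 ∧ T.a 4 1 = 2 * T.w 0 ∧ T.a 4 2 = 0 ∧ T.a 1 1 = -4 * T.w 0 ∧ T.a 1 2 = 4 * T.w 0 ∧ T.a 2 2 = -8 * T.w 0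
          refine ⟨?_, ?_, ?_, ?_, ?_, ?_, ?_, ?_, ?_, ?_, ?_, ?_, ?_, ?_, ?_, ?_, ?_, ?_, ?_, ?_, ?_, ?_, ?_, ?_, ?_⟩ <;> omega
        · -- 34=(1,2)
          exact False.elim (cert_false T ((skipEmb 2).trans (Function.Embedding.refl _)) (by norm_num) (fun _ => hall _) (((((LB_zero T ((skipEmb 2).trans (Function.Embedding.refl _))).upd 0 2 2 (le_of_eq hx03)).upd 2 0 1 (le_of_eq hx30)).upd 2 3 1 (le_of_eq hx34)).upd 3 2 2 (le_of_eq hx43)) ![1,0,1,1] (by decide) (by decide) 0 (by decide))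
        · -- 34=(2,1)
          exact False.elim (cert_false T ((skipEmb 2).trans (Function.Embedding.refl _)) (by norm_num) (fun _ => hall _) (((((LB_zero T ((skipEmb 2).trans (Function.Embedding.refl _))).upd 0 2 2 (le_of_eq hx03)).upd 2 0 1 (le_of_eq hx30)).upd 2 3 2 (le_of_eq hx34)).upd 3 2 1 (le_of_eq hx43)) ![2,0,2,1] (by decide) (by decide) 0 (by decide))
        · -- 34=(1,3)
          exact False.elim (cert_false T ((skipEmb 2).trans (Function.Embedding.refl _)) (by norm_num) (fun _ => hall _) (((((LB_zero T ((skipEmb 2).trans (Function.Embedding.refl _))).upd 0 2 2 (le_of_eq hx03)).upd 2 0 1 (le_of_eq hx30)).upd 2 3 1 (le_of_eq hx34)).upd 3 2 3 (le_of_eq hx43)) ![1,0,1,1] (by decide) (by decide) 0 (by decide))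
        · -- 34=(3,1)
          exact False.elim (cert_false T ((skipEmb 2).trans (Function.Embedding.refl _)) (by norm_num) (fun _ => hall _) (((((LB_zero T ((skipEmb 2).trans (Function.Embedding.refl _))).upd 0 2 2 (le_of_eq hx03)).upd 2 0 1 (le_of_eq hx30)).upd 2 3 3 (le_of_eq hx34)).upd 3 2 1 (le_of_eq hx43)) ![1,0,2,1] (by decide) (by decide) 0 (by decide))
      · -- 24=(1,1)
        exact False.elim (cert_false T ((skipEmb 3).trans (Function.Embedding.refl _)) (by norm_num) (fun _ => hall _) (((((((LB_zero T ((skipEmb 3).trans (Function.Embedding.refl _))).upd 1 2 2 (le_of_eq hx12)).upd 1 3 1 (le_of_eq hx14)).upd 2 1 1 (le_of_eq hx21)).upd 2 3 1 (le_of_eq hx24)).upd 3 1 1 (le_of_eq hx41)).upd 3 2 1 (le_of_eq hx42)) ![0,1,1,1] (by decide) (by decide) 1 (by decide))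
      · -- 24=(1,2)
        exact False.elim (cert_false T ((skipEmb 3).trans (Function.Embedding.refl _)) (by norm_num) (fun _ => hall _) (((((((LB_zero T ((skipEmb 3).trans (Function.Embedding.refl _))).upd 1 2 2 (le_of_eq hx12)).upd 1 3 1 (le_of_eq hx14)).upd 2 1 1 (le_of_eq hx21)).upd 2 3 1 (le_of_eq hx24)).upd 3 1 1 (le_of_eq hx41)).upd 3 2 2 (le_of_eq hx42)) ![0,1,1,1] (by decide) (by decide) 1 (by decide))
      · -- 24=(2,1)
        exact False.elim (cert_false T ((skipEmb 3).trans (Function.Embedding.refl _)) (by norm_num) (fun _ => hall _) (((((((LB_zero T ((skipEmb 3).trans (Function.Embedding.refl _))).upd 1 2 2 (le_of_eq hx12)).upd 1 3 1 (le_of_eq hx14)).upd 2 1 1 (le_of_eq hx21)).upd 2 3 2 (le_of_eq hx24)).upd 3 1 1 (le_of_eq hx41)).upd 3 2 1 (le_of_eq hx42)) ![0,1,1,1] (by decide) (by decide) 1 (by decide))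
      · -- 24=(1,3)
        exact False.elim (cert_false T ((skipEmb 3).trans (Function.Embedding.refl _)) (by norm_num) (fun _ => hall _) (((((((LB_zero T ((skipEmb 3).trans (Function.Embedding.refl _))).upd 1 2 2 (le_of_eq hx12)).upd 1 3 1 (le_of_eq hx14)).upd 2 1 1 (le_of_eq hx21)).upd 2 3 1 (le_of_eq hx24)).upd 3 1 1 (le_of_eq hx41)).upd 3 2 3 (le_of_eq hx42)) ![0,1,1,1] (by decide) (by decide) 1 (by decide))
      · -- 24=(3,1)
        exact False.elim (cert_false T ((skipEmb 3).trans (Function.Embedding.refl _)) (by norm_num) (fun _ => hall _) (((((((LB_zero T ((skipEmb 3).trans (Function.Embedding.refl _))).upd 1 2 2 (le_of_eq hx12)).upd 1 3 1 (le_of_eq hx14)).upd 2 1 1 (le_of_eq hx21)).upd 2 3 3 (le_of_eq hx24)).upd 3 1 1 (le_of_eq hx41)).upd 3 2 1 (le_of_eq hx42)) ![0,1,1,1] (by decide) (by decide) 1 (by decide))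
    · -- 14=(1,2)
      exact False.elim (cert_false T ((skipEmb 3).trans (Function.Embedding.refl _)) (by norm_num) (fun _ => hall _) (((((LB_zero T ((skipEmb 3).trans (Function.Embedding.refl _))).upd 1 2 2 (le_of_eq hx12)).upd 1 3 1 (le_of_eq hx14)).upd 2 1 1 (le_of_eq hx21)).upd 3 1 2 (le_of_eq hx41)) ![0,2,1,2] (by decide) (by decide) 1 (by decide))
    · -- 14=(2,1)
      exact False.elim (cert_false T ((skipEmb 3).trans (Function.Embedding.refl _)) (by norm_num) (fun _ => hall _) (((((LB_zero T ((skipEmb 3).trans (Function.Embedding.refl _))).upd 1 2 2 (le_of_eq hx12)).upd 1 3 2 (le_of_eq hx14)).upd 2 1 1 (le_of_eq hx21)).upd 3 1 1 (le_of_eq hx41)) ![0,2,1,1] (by decide) (by decide) 1 (by decide))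
    · -- 14=(1,3)
      exact False.elim (cert_false T ((skipEmb 3).trans (Function.Embedding.refl _)) (by norm_num) (fun _ => hall _) (((((LB_zero T ((skipEmb 3).trans (Function.Embedding.refl _))).upd 1 2 2 (le_of_eq hx12)).upd 1 3 1 (le_of_eq hx14)).upd 2 1 1 (le_of_eq hx21)).upd 3 1 3 (le_of_eq hx41)) ![0,2,1,2] (by decide) (by decide) 1 (by decide))
    · -- 14=(3,1)
      exact False.elim (cert_false T ((skipEmb 3).trans (Function.Embedding.refl _)) (by norm_num) (fun _ => hall _) (((((LB_zero T ((skipEmb 3).trans (Function.Embedding.refl _))).upd 1 2 2 (le_of_eq hx12)).upd 1 3 3 (le_of_eq hx14)).upd 2 1 1 (le_of_eq hx21)).upd 3 1 1 (le_of_eq hx41)) ![0,2,1,1] (by decide) (by decide) 1 (by decide))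
  · -- 04=(1,1)
    rcases d14 with ⟨rfl, rfl⟩ | ⟨rfl, rfl⟩ | ⟨rfl, rfl⟩ | ⟨rfl, rfl⟩ | ⟨rfl, rfl⟩ | ⟨rfl, rfl⟩
    · -- 14=(0,0)
      rcases d24 with ⟨rfl, rfl⟩ | ⟨rfl, rfl⟩ | ⟨rfl, rfl⟩ | ⟨rfl, rfl⟩ | ⟨rfl, rfl⟩ | ⟨rfl, rfl⟩
      · -- 24=(0,0)
        rcases d34 with ⟨rfl, rfl⟩ | ⟨rfl, rfl⟩ | ⟨rfl, rfl⟩ | ⟨rfl, rfl⟩ | ⟨rfl, rfl⟩ | ⟨rfl, rfl⟩
        · -- 34=(0,0)
          exfalso; omega
        · -- 34=(1,1)
          exact False.elim (cert_false T ((skipEmb 2).trans (Function.Embedding.refl _)) (by norm_num) (fun _ => hall _) (((((((LB_zero T ((skipEmb 2).trans (Function.Embedding.refl _))).upd 0 2 2 (le_of_eq hx03)).upd 0 3 1 (le_of_eq hx04)).upd 2 0 1 (le_of_eq hx30)).upd 2 3 1 (le_of_eq hx34)).upd 3 0 1 (le_of_eq hx40)).upd 3 2 1 (le_of_eq hx43)) ![1,0,1,1] (by decide) (by decide) 0 (by decide))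
        · -- 34=(1,2)
          exact False.elim (cert_false T ((skipEmb 2).trans (Function.Embedding.refl _)) (by norm_num) (fun _ => hall _) (((((((LB_zero T ((skipEmb 2).trans (Function.Embedding.refl _))).upd 0 2 2 (le_of_eq hx03)).upd 0 3 1 (le_of_eq hx04)).upd 2 0 1 (le_of_eq hx30)).upd 2 3 1 (le_of_eq hx34)).upd 3 0 1 (le_of_eq hx40)).upd 3 2 2 (le_of_eq hx43)) ![1,0,1,1] (by decide) (by decide) 0 (by decide))
        · -- 34=(2,1)
          exact False.elim (cert_false T ((skipEmb 2).trans (Function.Embedding.refl _)) (by norm_num) (fun _ => hall _) (((((((LB_zero T ((skipEmb 2).trans (Function.Embedding.refl _))).upd 0 2 2 (le_of_eq hx03)).upd 0 3 1 (le_of_eq hx04)).upd 2 0 1 (le_of_eq hx30)).upd 2 3 2 (le_of_eq hx34)).upd 3 0 1 (le_of_eq hx40)).upd 3 2 1 (le_of_eq hx43)) ![1,0,1,1] (by decide) (by decide) 0 (by decide))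
        · -- 34=(1,3)
          exact False.elim (cert_false T ((skipEmb 2).trans (Function.Embedding.refl _)) (by norm_num) (fun _ => hall _) (((((((LB_zero T ((skipEmb 2).trans (Function.Embedding.refl _))).upd 0 2 2 (le_of_eq hx03)).upd 0 3 1 (le_of_eq hx04)).upd 2 0 1 (le_of_eq hx30)).upd 2 3 1 (le_of_eq hx34)).upd 3 0 1 (le_of_eq hx40)).upd 3 2 3 (le_of_eq hx43)) ![1,0,1,1] (by decide) (by decide) 0 (by decide))
        · -- 34=(3,1)
          exact False.elim (cert_false T ((skipEmb 2).trans (Function.Embedding.refl _)) (by norm_num) (fun _ => hall _) (((((((LB_zero T ((skipEmb 2).trans (Function.Embedding.refl _))).upd 0 2 2 (le_of_eq hx03)).upd 0 3 1 (le_of_eq hx04)).upd 2 0 1 (le_of_eq hx30)).upd 2 3 3 (le_of_eq hx34)).upd 3 0 1 (le_of_eq hx40)).upd 3 2 1 (le_of_eq hx43)) ![1,0,1,1] (by decide) (by decide) 0 (by decide))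
      · -- 24=(1,1)
        rcases d34 with ⟨rfl, rfl⟩ | ⟨rfl, rfl⟩ | ⟨rfl, rfl⟩ | ⟨rfl, rfl⟩ | ⟨rfl, rfl⟩ | ⟨rfl, rfl⟩
        · -- 34=(0,0)
          refine ⟨(⟨![1, 2, 4, 0, 3], ![3, 0, 1, 4, 2], by decide, by decide⟩ : Equiv.Perm (Fin 5)), T.m 3, T.w 1, Or.inr (Or.inr (Or.inr (Or.inl ?_)))⟩
          show T.m 1 = 2 * T.m 3 ∧ T.m 2 = 2 * T.m 3 ∧ T.m 4 = 2 * T.m 3 ∧ T.m 0 = 2 * T.m 3 ∧ T.m 3 = T.m 3 ∧ T.w 1 = T.w 1 ∧ T.w 2 = 2 * T.w 1 ∧ T.w 4 = 2 * T.w 1 ∧ T.w 0 = 2 * T.w 1 ∧ T.w 3 = 4 * T.w 1 ∧ T.a 1 1 = -2 * T.w 1 ∧ T.a 1 2 = 2 * T.w 1 ∧ T.a 1 4 = 0 ∧ T.a 1 0 = 0 ∧ T.a 1 3 = 0 ∧ T.a 2 2 = -4 * T.w 1 ∧ T.a 2 4 = 2 * T.w 1 ∧ T.a 2 0 = 0 ∧ T.a 2 3 = 0 ∧ T.a 4 4 = -4 * T.w 1 ∧ T.a 4 0 = 2 * T.w 1 ∧ T.a 4 3 = 0 ∧ T.a 0 0 = -4 * T.w 1 ∧ T.a 0 3 = 4 * T.w 1 ∧ T.a 3 3 = -8 * T.w 1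
          refine ⟨?_, ?_, ?_, ?_, ?_, ?_, ?_, ?_, ?_, ?_, ?_, ?_, ?_, ?_, ?_, ?_, ?_, ?_, ?_, ?_, ?_, ?_, ?_, ?_, ?_⟩ <;> omega
        · -- 34=(1,1)
          exact False.elim (cert_false T ((skipEmb 2).trans (Function.Embedding.refl _)) (by norm_num) (fun _ => hall _) (((((((LB_zero T ((skipEmb 2).trans (Function.Embedding.refl _))).upd 0 2 2 (le_of_eq hx03)).upd 0 3 1 (le_of_eq hx04)).upd 2 0 1 (le_of_eq hx30)).upd 2 3 1 (le_of_eq hx34)).upd 3 0 1 (le_of_eq hx40)).upd 3 2 1 (le_of_eq hx43)) ![1,0,1,1] (by decide) (by decide) 0 (by decide))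
        · -- 34=(1,2)
          exact False.elim (cert_false T ((skipEmb 2).trans (Function.Embedding.refl _)) (by norm_num) (fun _ => hall _) (((((((LB_zero T ((skipEmb 2).trans (Function.Embedding.refl _))).upd 0 2 2 (le_of_eq hx03)).upd 0 3 1 (le_of_eq hx04)).upd 2 0 1 (le_of_eq hx30)).upd 2 3 1 (le_of_eq hx34)).upd 3 0 1 (le_of_eq hx40)).upd 3 2 2 (le_of_eq hx43)) ![1,0,1,1] (by decide) (by decide) 0 (by decide))
        · -- 34=(2,1)
          exact False.elim (cert_false T ((skipEmb 2).trans (Function.Embedding.refl _)) (by norm_num) (fun _ => hall _) (((((((LB_zero T ((skipEmb 2).trans (Function.Embedding.refl _))).upd 0 2 2 (le_of_eq hx03)).upd 0 3 1 (le_of_eq hx04)).upd 2 0 1 (le_of_eq hx30)).upd 2 3 2 (le_of_eq hx34)).upd 3 0 1 (le_of_eq hx40)).upd 3 2 1 (le_of_eq hx43)) ![1,0,1,1] (by decide) (by decide) 0 (by decide))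
        · -- 34=(1,3)
          exact False.elim (cert_false T ((skipEmb 2).trans (Function.Embedding.refl _)) (by norm_num) (fun _ => hall _) (((((((LB_zero T ((skipEmb 2).trans (Function.Embedding.refl _))).upd 0 2 2 (le_of_eq hx03)).upd 0 3 1 (le_of_eq hx04)).upd 2 0 1 (le_of_eq hx30)).upd 2 3 1 (le_of_eq hx34)).upd 3 0 1 (le_of_eq hx40)).upd 3 2 3 (le_of_eq hx43)) ![1,0,1,1] (by decide) (by decide) 0 (by decide))
        · -- 34=(3,1)
          exact False.elim (cert_false T ((skipEmb 2).trans (Function.Embedding.refl _)) (by norm_num) (fun _ => hall _) (((((((LB_zero T ((skipEmb 2).trans (Function.Embedding.refl _))).upd 0 2 2 (le_of_eq hx03)).upd 0 3 1 (le_of_eq hx04)).upd 2 0 1 (le_of_eq hx30)).upd 2 3 3 (le_of_eq hx34)).upd 3 0 1 (le_of_eq hx40)).upd 3 2 1 (le_of_eq hx43)) ![1,0,1,1] (by decide) (by decide) 0 (by decide))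
      · -- 24=(1,2)
        exact False.elim (cert_false T ((skipEmb 3).trans (Function.Embedding.refl _)) (by norm_num) (fun _ => hall _) (((((LB_zero T ((skipEmb 3).trans (Function.Embedding.refl _))).upd 1 2 2 (le_of_eq hx12)).upd 2 1 1 (le_of_eq hx21)).upd 2 3 1 (le_of_eq hx24)).upd 3 2 2 (le_of_eq hx42)) ![0,1,1,1] (by decide) (by decide) 1 (by decide))
      · -- 24=(2,1)
        exact False.elim (cert_false T ((skipEmb 3).trans (Function.Embedding.refl _)) (by norm_num) (fun _ => hall _) (((((LB_zero T ((skipEmb 3).trans (Function.Embedding.refl _))).upd 1 2 2 (le_of_eq hx12)).upd 2 1 1 (le_of_eq hx21)).upd 2 3 2 (le_of_eq hx24)).upd 3 2 1 (le_of_eq hx42)) ![0,2,2,1] (by decide) (by decide) 1 (by decide))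
      · -- 24=(1,3)
        exact False.elim (cert_false T ((skipEmb 3).trans (Function.Embedding.refl _)) (by norm_num) (fun _ => hall _) (((((LB_zero T ((skipEmb 3).trans (Function.Embedding.refl _))).upd 1 2 2 (le_of_eq hx12)).upd 2 1 1 (le_of_eq hx21)).upd 2 3 1 (le_of_eq hx24)).upd 3 2 3 (le_of_eq hx42)) ![0,1,1,1] (by decide) (by decide) 1 (by decide))
      · -- 24=(3,1)
        exact False.elim (cert_false T ((skipEmb 3).trans (Function.Embedding.refl _)) (by norm_num) (fun _ => hall _) (((((LB_zero T ((skipEmb 3).trans (Function.Embedding.refl _))).upd 1 2 2 (le_of_eq hx12)).upd 2 1 1 (le_of_eq hx21)).upd 2 3 3 (le_of_eq hx24)).upd 3 2 1 (le_of_eq hx42)) ![0,1,2,1] (by decide) (by decide) 1 (by decide))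
    · -- 14=(1,1)
      rcases d24 with ⟨rfl, rfl⟩ | ⟨rfl, rfl⟩ | ⟨rfl, rfl⟩ | ⟨rfl, rfl⟩ | ⟨rfl, rfl⟩ | ⟨rfl, rfl⟩
      · -- 24=(0,0)
        rcases d34 with ⟨rfl, rfl⟩ | ⟨rfl, rfl⟩ | ⟨rfl, rfl⟩ | ⟨rfl, rfl⟩ | ⟨rfl, rfl⟩ | ⟨rfl, rfl⟩
        · -- 34=(0,0)
          refine ⟨(⟨![2, 1, 4, 0, 3], ![3, 1, 0, 4, 2], by decide, by decide⟩ : Equiv.Perm (Fin 5)), T.m 2, T.w 1, Or.inr (Or.inr (Or.inr (Or.inr (Or.inr (Or.inl ?_)))))⟩
          show T.m 2 = T.m 2 ∧ T.m 1 = 2 * T.m 2 ∧ T.m 4 = 2 * T.m 2 ∧ T.m 0 = 2 * T.m 2 ∧ T.m 3 = T.m 2 ∧ T.w 2 = 2 * T.w 1 ∧ T.w 1 = T.w 1 ∧ T.w 4 = T.w 1 ∧ T.w 0 = T.w 1 ∧ T.w 3 = 2 * T.w 1 ∧ T.a 2 2 = -4 * T.w 1 ∧ T.a 2 1 = 2 * T.w 1 ∧ T.a 2 4 = 0 ∧ T.a 2 0 = 0 ∧ T.a 2 3 = 0 ∧ T.a 1 1 = -2 * T.w 1 ∧ T.a 1 4 = T.w 1 ∧ T.a 1 0 = 0 ∧ T.a 1 3 = 0 ∧ T.a 4 4 = -2 * T.w 1 ∧ T.a 4 0 = T.w 1 ∧ T.a 4 3 = 0 ∧ T.a 0 0 = -2 * T.w 1 ∧ T.a 0 3 = 2 * T.w 1 ∧ T.a 3 3 = -4 * T.w 1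
          refine ⟨?_, ?_, ?_, ?_, ?_, ?_, ?_, ?_, ?_, ?_, ?_, ?_, ?_, ?_, ?_, ?_, ?_, ?_, ?_, ?_, ?_, ?_, ?_, ?_, ?_⟩ <;> omega
        · -- 34=(1,1)
          exact False.elim (cert_false T ((skipEmb 2).trans (Function.Embedding.refl _)) (by norm_num) (fun _ => hall _) (((((((LB_zero T ((skipEmb 2).trans (Function.Embedding.refl _))).upd 0 2 2 (le_of_eq hx03)).upd 0 3 1 (le_of_eq hx04)).upd 2 0 1 (le_of_eq hx30)).upd 2 3 1 (le_of_eq hx34)).upd 3 0 1 (le_of_eq hx40)).upd 3 2 1 (le_of_eq hx43)) ![1,0,1,1] (by decide) (by decide) 0 (by decide))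
        · -- 34=(1,2)
          exact False.elim (cert_false T ((skipEmb 2).trans (Function.Embedding.refl _)) (by norm_num) (fun _ => hall _) (((((((LB_zero T ((skipEmb 2).trans (Function.Embedding.refl _))).upd 0 2 2 (le_of_eq hx03)).upd 0 3 1 (le_of_eq hx04)).upd 2 0 1 (le_of_eq hx30)).upd 2 3 1 (le_of_eq hx34)).upd 3 0 1 (le_of_eq hx40)).upd 3 2 2 (le_of_eq hx43)) ![1,0,1,1] (by decide) (by decide) 0 (by decide))
        · -- 34=(2,1)
          exact False.elim (cert_false T ((skipEmb 2).trans (Function.Embedding.refl _)) (by norm_num) (fun _ => hall _) (((((((LB_zero T ((skipEmb 2).trans (Function.Embedding.refl _))).upd 0 2 2 (le_of_eq hx03)).upd 0 3 1 (le_of_eq hx04)).upd 2 0 1 (le_of_eq hx30)).upd 2 3 2 (le_of_eq hx34)).upd 3 0 1 (le_of_eq hx40)).upd 3 2 1 (le_of_eq hx43)) ![1,0,1,1] (by decide) (by decide) 0 (by decide))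
        · -- 34=(1,3)
          exact False.elim (cert_false T ((skipEmb 2).trans (Function.Embedding.refl _)) (by norm_num) (fun _ => hall _) (((((((LB_zero T ((skipEmb 2).trans (Function.Embedding.refl _))).upd 0 2 2 (le_of_eq hx03)).upd 0 3 1 (le_of_eq hx04)).upd 2 0 1 (le_of_eq hx30)).upd 2 3 1 (le_of_eq hx34)).upd 3 0 1 (le_of_eq hx40)).upd 3 2 3 (le_of_eq hx43)) ![1,0,1,1] (by decide) (by decide) 0 (by decide))
        · -- 34=(3,1)
          exact False.elim (cert_false T ((skipEmb 2).trans (Function.Embedding.refl _)) (by norm_num) (fun _ => hall _) (((((((LB_zero T ((skipEmb 2).trans (Function.Embedding.refl _))).upd 0 2 2 (le_of_eq hx03)).upd 0 3 1 (le_of_eq hx04)).upd 2 0 1 (le_of_eq hx30)).upd 2 3 3 (le_of_eq hx34)).upd 3 0 1 (le_of_eq hx40)).upd 3 2 1 (le_of_eq hx43)) ![1,0,1,1] (by decide) (by decide) 0 (by decide))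
      · -- 24=(1,1)
        exact False.elim (cert_false T ((skipEmb 3).trans (Function.Embedding.refl _)) (by norm_num) (fun _ => hall _) (((((((LB_zero T ((skipEmb 3).trans (Function.Embedding.refl _))).upd 1 2 2 (le_of_eq hx12)).upd 1 3 1 (le_of_eq hx14)).upd 2 1 1 (le_of_eq hx21)).upd 2 3 1 (le_of_eq hx24)).upd 3 1 1 (le_of_eq hx41)).upd 3 2 1 (le_of_eq hx42)) ![0,1,1,1] (by decide) (by decide) 1 (by decide))
      · -- 24=(1,2)
        exact False.elim (cert_false T ((skipEmb 3).trans (Function.Embedding.refl _)) (by norm_num) (fun _ => hall _) (((((((LB_zero T ((skipEmb 3).trans (Function.Embedding.refl _))).upd 1 2 2 (le_of_eq hx12)).upd 1 3 1 (le_of_eq hx14)).upd 2 1 1 (le_of_eq hx21)).upd 2 3 1 (le_of_eq hx24)).upd 3 1 1 (le_of_eq hx41)).upd 3 2 2 (le_of_eq hx42)) ![0,1,1,1] (by decide) (by decide) 1 (by decide))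
      · -- 24=(2,1)
        exact False.elim (cert_false T ((skipEmb 3).trans (Function.Embedding.refl _)) (by norm_num) (fun _ => hall _) (((((((LB_zero T ((skipEmb 3).trans (Function.Embedding.refl _))).upd 1 2 2 (le_of_eq hx12)).upd 1 3 1 (le_of_eq hx14)).upd 2 1 1 (le_of_eq hx21)).upd 2 3 2 (le_of_eq hx24)).upd 3 1 1 (le_of_eq hx41)).upd 3 2 1 (le_of_eq hx42)) ![0,1,1,1] (by decide) (by decide) 1 (by decide))
      · -- 24=(1,3)
        exact False.elim (cert_false T ((skipEmb 3).trans (Function.Embedding.refl _)) (by norm_num) (fun _ => hall _) (((((((LB_zero T ((skipEmb 3).trans (Function.Embedding.refl _))).upd 1 2 2 (le_of_eq hx12)).upd 1 3 1 (le_of_eq hx14)).upd 2 1 1 (le_of_eq hx21)).upd 2 3 1 (le_of_eq hx24)).upd 3 1 1 (le_of_eq hx41)).upd 3 2 3 (le_of_eq hx42)) ![0,1,1,1] (by decide) (by decide) 1 (by decide))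
      · -- 24=(3,1)
        exact False.elim (cert_false T ((skipEmb 3).trans (Function.Embedding.refl _)) (by norm_num) (fun _ => hall _) (((((((LB_zero T ((skipEmb 3).trans (Function.Embedding.refl _))).upd 1 2 2 (le_of_eq hx12)).upd 1 3 1 (le_of_eq hx14)).upd 2 1 1 (le_of_eq hx21)).upd 2 3 3 (le_of_eq hx24)).upd 3 1 1 (le_of_eq hx41)).upd 3 2 1 (le_of_eq hx42)) ![0,1,1,1] (by decide) (by decide) 1 (by decide))
    · -- 14=(1,2)
      exact False.elim (cert_false T ((skipEmb 3).trans (Function.Embedding.refl _)) (by norm_num) (fun _ => hall _) (((((LB_zero T ((skipEmb 3).trans (Function.Embedding.refl _))).upd 1 2 2 (le_of_eq hx12)).upd 1 3 1 (le_of_eq hx14)).upd 2 1 1 (le_of_eq hx21)).upd 3 1 2 (le_of_eq hx41)) ![0,2,1,2] (by decide) (by decide) 1 (by decide))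
    · -- 14=(2,1)
      exact False.elim (cert_false T ((skipEmb 3).trans (Function.Embedding.refl _)) (by norm_num) (fun _ => hall _) (((((LB_zero T ((skipEmb 3).trans (Function.Embedding.refl _))).upd 1 2 2 (le_of_eq hx12)).upd 1 3 2 (le_of_eq hx14)).upd 2 1 1 (le_of_eq hx21)).upd 3 1 1 (le_of_eq hx41)) ![0,2,1,1] (by decide) (by decide) 1 (by decide))
    · -- 14=(1,3)
      exact False.elim (cert_false T ((skipEmb 3).trans (Function.Embedding.refl _)) (by norm_num) (fun _ => hall _) (((((LB_zero T ((skipEmb 3).trans (Function.Embedding.refl _))).upd 1 2 2 (le_of_eq hx12)).upd 1 3 1 (le_of_eq hx14)).upd 2 1 1 (le_of_eq hx21)).upd 3 1 3 (le_of_eq hx41)) ![0,2,1,2] (by decide) (by decide) 1 (by decide))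
    · -- 14=(3,1)
      exact False.elim (cert_false T ((skipEmb 3).trans (Function.Embedding.refl _)) (by norm_num) (fun _ => hall _) (((((LB_zero T ((skipEmb 3).trans (Function.Embedding.refl _))).upd 1 2 2 (le_of_eq hx12)).upd 1 3 3 (le_of_eq hx14)).upd 2 1 1 (le_of_eq hx21)).upd 3 1 1 (le_of_eq hx41)) ![0,2,1,1] (by decide) (by decide) 1 (by decide))
  · -- 04=(1,2)
    exact False.elim (cert_false T ((skipEmb 2).trans (Function.Embedding.refl _)) (by norm_num) (fun _ => hall _) (((((LB_zero T ((skipEmb 2).trans (Function.Embedding.refl _))).upd 0 2 2 (le_of_eq hx03)).upd 0 3 1 (le_of_eq hx04)).upd 2 0 1 (le_of_eq hx30)).upd 3 0 2 (le_of_eq hx40)) ![2,0,1,2] (by decide) (by decide) 0 (by decide))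
  · -- 04=(2,1)
    exact False.elim (cert_false T ((skipEmb 2).trans (Function.Embedding.refl _)) (by norm_num) (fun _ => hall _) (((((LB_zero T ((skipEmb 2).trans (Function.Embedding.refl _))).upd 0 2 2 (le_of_eq hx03)).upd 0 3 2 (le_of_eq hx04)).upd 2 0 1 (le_of_eq hx30)).upd 3 0 1 (le_of_eq hx40)) ![2,0,1,1] (by decide) (by decide) 0 (by decide))
  · -- 04=(1,3)
    exact False.elim (cert_false T ((skipEmb 2).trans (Function.Embedding.refl _)) (by norm_num) (fun _ => hall _) (((((LB_zero T ((skipEmb 2).trans (Function.Embedding.refl _))).upd 0 2 2 (le_of_eq hx03)).upd 0 3 1 (le_of_eq hx04)).upd 2 0 1 (le_of_eq hx30)).upd 3 0 3 (le_of_eq hx40)) ![2,0,1,2] (by decide) (by decide) 0 (by decide))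
  · -- 04=(3,1)
    exact False.elim (cert_false T ((skipEmb 2).trans (Function.Embedding.refl _)) (by norm_num) (fun _ => hall _) (((((LB_zero T ((skipEmb 2).trans (Function.Embedding.refl _))).upd 0 2 2 (le_of_eq hx03)).upd 0 3 3 (le_of_eq hx04)).upd 2 0 1 (le_of_eq hx30)).upd 3 0 1 (le_of_eq hx40)) ![2,0,1,1] (by decide) (by decide) 0 (by decide))

theorem case180 (T : NumericalType 5) (hall : ∀ i, T.IsMinusTwo i) (d : SData T)
    (h01 : N T (Function.Embedding.refl _) 0 1 = 0) (h10 : N T (Function.Embedding.refl _) 1 0 = 0)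
    (h02 : N T (Function.Embedding.refl _) 0 2 = 0) (h20 : N T (Function.Embedding.refl _) 2 0 = 0)
    (h12 : N T (Function.Embedding.refl _) 1 2 = 2) (h21 : N T (Function.Embedding.refl _) 2 1 = 1)
    (h03 : N T (Function.Embedding.refl _) 0 3 = 2) (h30 : N T (Function.Embedding.refl _) 3 0 = 1)
    (h13 : N T (Function.Embedding.refl _) 1 3 = 0) (h31 : N T (Function.Embedding.refl _) 3 1 = 0) :
    Goal T := by
  unfold Goal
  have hd := d
  obtain ⟨x01, x02, x03, x04, x10, x12, x13, x14, x20, x21, x23, x24, x30, x31, x32, x34, x40, x41, x42, x43, hx01, hx02, hx03, hx04, hx10, hx12, hx13, hx14, hx20, hx21, hx23, hx24, hx30, hx31, hx32, hx34, hx40, hx41, hx42, hx43, hw0, hm0, hw1, hm1, hw2, hm2, hw3, hm3, hw4, hm4, a00, a01, a02, a03, a04, a11, a10, a12, a13, a14, a22, a20, a21, a23, a24, a33, a30, a31, a32, a34, a44, a40, a41, a42, a43, wN01, wN02, wN12, wN03, wN13, wN23, wN04, wN14, wN24, wN34, e0, e1,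 e2, e3, e4, d01, d02, d12, d03, d13, d23, d04, d14, d24, d34⟩ := d
  obtain rfl : x01 = 0 := hx01.trans h01
  obtain rfl : x10 = 0 := hx10.trans h10
  obtain rfl : x02 = 0 := hx02.trans h02
  obtain rfl : x20 = 0 := hx20.trans h20
  obtain rfl : x12 = 2 := hx12.trans h12
  obtain rfl : x21 = 1 := hx21.trans h21
  obtain rfl : x03 = 2 := hx03.trans h03
  obtain rfl : x30 = 1 := hx30.trans h30
  obtain rfl : x13 = 0 := hx13.trans h13
  obtain rfl : x31 = 0 := hx31.trans h31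
  rcases d23 with ⟨rfl, rfl⟩ | ⟨rfl, rfl⟩ | ⟨rfl, rfl⟩ | ⟨rfl, rfl⟩ | ⟨rfl, rfl⟩ | ⟨rfl, rfl⟩
  · -- 23=(0,0)
    exact case181 T hall hd hx01.symm hx10.symm hx02.symm hx20.symm hx12.symm hx21.symm hx03.symm hx30.symm hx13.symm hx31.symm hx23.symm hx32.symm
  · -- 23=(1,1)
    exact False.elim (cert_false T ((skipEmb 4).trans (Function.Embedding.refl _)) (by norm_num) (fun _ => hall _) (((((((LB_zero T ((skipEmb 4).trans (Function.Embedding.refl _))).upd 0 3 2 (le_of_eq hx03)).upd 1 2 2 (le_of_eq hx12)).upd 2 1 1 (le_of_eq hx21)).upd 2 3 1 (le_of_eq hx23)).upd 3 0 1 (le_of_eq hx30)).upd 3 2 1 (le_of_eq hx32)) ![1,1,1,1] (by decide) (by decide) 0 (by decide))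
  · -- 23=(1,2)
    exact False.elim (cert_false T ((skipEmb 4).trans (Function.Embedding.refl _)) (by norm_num) (fun _ => hall _) (((((LB_zero T ((skipEmb 4).trans (Function.Embedding.refl _))).upd 1 2 2 (le_of_eq hx12)).upd 2 1 1 (le_of_eq hx21)).upd 2 3 1 (le_of_eq hx23)).upd 3 2 2 (le_of_eq hx32)) ![0,1,1,1] (by decide) (by decide) 1 (by decide))
  · -- 23=(2,1)
    exact False.elim (cert_false T ((skipEmb 4).trans (Function.Embedding.refl _)) (by norm_num) (fun _ => hall _) (((((LB_zero T ((skipEmb 4).trans (Function.Embedding.refl _))).upd 0 3 2 (le_of_eq hx03)).upd 2 3 2 (le_of_eq hx23)).upd 3 0 1 (le_of_eq hx30)).upd 3 2 1 (le_of_eq hx32)) ![1,0,1,1] (by decide) (by decide) 0 (by decide))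
  · -- 23=(1,3)
    exact False.elim (cert_false T ((skipEmb 4).trans (Function.Embedding.refl _)) (by norm_num) (fun _ => hall _) (((((LB_zero T ((skipEmb 4).trans (Function.Embedding.refl _))).upd 1 2 2 (le_of_eq hx12)).upd 2 1 1 (le_of_eq hx21)).upd 2 3 1 (le_of_eq hx23)).upd 3 2 3 (le_of_eq hx32)) ![0,1,1,1] (by decide) (by decide) 1 (by decide))
  · -- 23=(3,1)
    exact False.elim (cert_false T ((skipEmb 4).trans (Function.Embedding.refl _)) (by norm_num) (fun _ => hall _) (((((LB_zero T ((skipEmb 4).trans (Function.Embedding.refl _))).upd 0 3 2 (le_of_eq hx03)).upd 2 3 3 (le_of_eq hx23)).upd 3 0 1 (le_of_eq hx30)).upd 3 2 1 (le_of_eq hx32)) ![1,0,1,1] (by decide) (by decide) 0 (by decide))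

theorem case195 (T : NumericalType 5) (hall : ∀ i, T.IsMinusTwo i) (d : SData T)
    (h01 : N T (Function.Embedding.refl _) 0 1 = 0) (h10 : N T (Function.Embedding.refl _) 1 0 = 0)
    (h02 : N T (Function.Embedding.refl _) 0 2 = 0) (h20 : N T (Function.Embedding.refl _) 2 0 = 0)
    (h12 : N T (Function.Embedding.refl _) 1 2 = 3) (h21 : N T (Function.Embedding.refl _) 2 1 = 1)
    (h03 : N T (Function.Embedding.refl _) 0 3 = 1) (h30 : N T (Function.Embedding.refl _) 3 0 = 1)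
    (h13 : N T (Function.Embedding.refl _) 1 3 = 0) (h31 : N T (Function.Embedding.refl _) 3 1 = 0)
    (h23 : N T (Function.Embedding.refl _) 2 3 = 0) (h32 : N T (Function.Embedding.refl _) 3 2 = 0) :
    Goal T := by
  unfold Goal
  have hd := d
  obtain ⟨x01, x02, x03, x04, x10, x12, x13, x14, x20, x21, x23, x24, x30, x31, x32, x34, x40, x41, x42, x43, hx01, hx02, hx03, hx04, hx10, hx12, hx13, hx14, hx20, hx21, hx23, hx24, hx30, hx31, hx32, hx34, hx40, hx41, hx42, hx43, hw0, hm0, hw1, hm1, hw2, hm2, hw3, hm3, hw4, hm4, a00, a01, a02, a03, a04, a11, a10, a12, a13, a14, a22, a20, a21, a23, a24, a33, a30, a31, a32, a34, a44, a40, a41, a42, a43, wN01, wN02, wN12, wN03, wN13, wN23, wN04, wN14, wN24, wN34, e0, e1, e2, e3, e4, d01, d02, d12, d03, d13, d23, d04, d14, d24, d34⟩ := d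
  obtain rfl : x01 = 0 := hx01.trans h01
  obtain rfl : x10 = 0 := hx10.trans h10
  obtain rfl : x02 = 0 := hx02.trans h02
  obtain rfl : x20 = 0 := hx20.trans h20
  obtain rfl : x12 = 3 := hx12.trans h12
  obtain rfl : x21 = 1 := hx21.trans h21
  obtain rfl : x03 = 1 := hx03.trans h03
  obtain rfl : x30 = 1 := hx30.trans h30
  obtain rfl : x13 = 0 := hx13.trans h13
  obtain rfl : x31 = 0 := hx31.trans h31
  obtain rfl : x23 = 0 := hx23.trans h23
  obtain rfl : x32 = 0 := hx32.trans h32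
  rcases d04 with ⟨rfl, rfl⟩ | ⟨rfl, rfl⟩ | ⟨rfl, rfl⟩ | ⟨rfl, rfl⟩ | ⟨rfl, rfl⟩ | ⟨rfl, rfl⟩
  · -- 04=(0,0)
    rcases d14 with ⟨rfl, rfl⟩ | ⟨rfl, rfl⟩ | ⟨rfl, rfl⟩ | ⟨rfl, rfl⟩ | ⟨rfl, rfl⟩ | ⟨rfl, rfl⟩
    · -- 14=(0,0)
      rcases d24 with ⟨rfl, rfl⟩ | ⟨rfl, rfl⟩ | ⟨rfl, rfl⟩ | ⟨rfl, rfl⟩ | ⟨rfl, rfl⟩ | ⟨rfl, rfl⟩
      · -- 24=(0,0)
        rcases d34 with ⟨rfl, rfl⟩ | ⟨rfl, rfl⟩ | ⟨rfl, rfl⟩ | ⟨rfl, rfl⟩ | ⟨rfl, rfl⟩ | ⟨rfl, rfl⟩
        · -- 34=(0,0)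
          exfalso; omega
        · -- 34=(1,1)
          exfalso; omega
        · -- 34=(1,2)
          exfalso; omega
        · -- 34=(2,1)
          exfalso; omega
        · -- 34=(1,3)
          exact False.elim (cert_false T ((skipEmb 2).trans (Function.Embedding.refl _)) (by norm_num) (fun _ => hall _) (((((LB_zero T ((skipEmb 2).trans (Function.Embedding.refl _))).upd 0 2 1 (le_of_eq hx03)).upd 2 0 1 (le_of_eq hx30)).upd 2 3 1 (le_of_eq hx34)).upd 3 2 3 (le_of_eq hx43)) ![1,0,2,3] (by decide) (by decide) 0 (by decide))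
        · -- 34=(3,1)
          exact False.elim (cert_false T ((skipEmb 2).trans (Function.Embedding.refl _)) (by norm_num) (fun _ => hall _) (((((LB_zero T ((skipEmb 2).trans (Function.Embedding.refl _))).upd 0 2 1 (le_of_eq hx03)).upd 2 0 1 (le_of_eq hx30)).upd 2 3 3 (le_of_eq hx34)).upd 3 2 1 (le_of_eq hx43)) ![1,0,2,1] (by decide) (by decide) 0 (by decide))
      · -- 24=(1,1)
        exact False.elim (cert_false T ((skipEmb 3).trans (Function.Embedding.refl _)) (by norm_num) (fun _ => hall _) (((((LB_zero T ((skipEmb 3).trans (Function.Embedding.refl _))).upd 1 2 3 (le_of_eq hx12)).upd 2 1 1 (le_of_eq hx21)).upd 2 3 1 (le_of_eq hx24)).upd 3 2 1 (le_of_eq hx42)) ![0,3,2,1] (by decide) (by decide) 1 (by decide))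
      · -- 24=(1,2)
        exact False.elim (cert_false T ((skipEmb 3).trans (Function.Embedding.refl _)) (by norm_num) (fun _ => hall _) (((((LB_zero T ((skipEmb 3).trans (Function.Embedding.refl _))).upd 1 2 3 (le_of_eq hx12)).upd 2 1 1 (le_of_eq hx21)).upd 2 3 1 (le_of_eq hx24)).upd 3 2 2 (le_of_eq hx42)) ![0,1,1,1] (by decide) (by decide) 1 (by decide))
      · -- 24=(2,1)
        exact False.elim (cert_false T ((skipEmb 3).trans (Function.Embedding.refl _)) (by norm_num) (fun _ => hall _) (((((LB_zero T ((skipEmb 3).trans (Function.Embedding.refl _))).upd 1 2 3 (le_of_eq hx12)).upd 2 1 1 (le_of_eq hx21)).upd 2 3 2 (le_of_eq hx24)).upd 3 2 1 (le_of_eq hx42)) ![0,2,2,1] (by decide) (by decide) 1 (by decide))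
      · -- 24=(1,3)
        exact False.elim (cert_false T ((skipEmb 3).trans (Function.Embedding.refl _)) (by norm_num) (fun _ => hall _) (((((LB_zero T ((skipEmb 3).trans (Function.Embedding.refl _))).upd 1 2 3 (le_of_eq hx12)).upd 2 1 1 (le_of_eq hx21)).upd 2 3 1 (le_of_eq hx24)).upd 3 2 3 (le_of_eq hx42)) ![0,1,1,1] (by decide) (by decide) 1 (by decide))
      · -- 24=(3,1)
        exact False.elim (cert_false T ((skipEmb 3).trans (Function.Embedding.refl _)) (by norm_num) (fun _ => hall _) (((((LB_zero T ((skipEmb 3).trans (Function.Embedding.refl _))).upd 1 2 3 (le_of_eq hx12)).upd 2 1 1 (le_of_eq hx21)).upd 2 3 3 (le_of_eq hx24)).upd 3 2 1 (le_of_eq hx42)) ![0,1,2,1] (by decide) (by decide) 1 (by decide))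
    · -- 14=(1,1)
      exact False.elim (cert_false T ((skipEmb 3).trans (Function.Embedding.refl _)) (by norm_num) (fun _ => hall _) (((((LB_zero T ((skipEmb 3).trans (Function.Embedding.refl _))).upd 1 2 3 (le_of_eq hx12)).upd 1 3 1 (le_of_eq hx14)).upd 2 1 1 (le_of_eq hx21)).upd 3 1 1 (le_of_eq hx41)) ![0,2,1,1] (by decide) (by decide) 1 (by decide))
    · -- 14=(1,2)
      exact False.elim (cert_false T ((skipEmb 3).trans (Function.Embedding.refl _)) (by norm_num) (fun _ => hall _) (((((LB_zero T ((skipEmb 3).trans (Function.Embedding.refl _))).upd 1 2 3 (le_of_eq hx12)).upd 1 3 1 (le_of_eq hx14)).upd 2 1 1 (le_of_eq hx21)).upd 3 1 2 (le_of_eq hx41)) ![0,2,1,1] (by decide) (by decide) 1 (by decide))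
    · -- 14=(2,1)
      exact False.elim (cert_false T ((skipEmb 3).trans (Function.Embedding.refl _)) (by norm_num) (fun _ => hall _) (((((LB_zero T ((skipEmb 3).trans (Function.Embedding.refl _))).upd 1 2 3 (le_of_eq hx12)).upd 1 3 2 (le_of_eq hx14)).upd 2 1 1 (le_of_eq hx21)).upd 3 1 1 (le_of_eq hx41)) ![0,2,1,1] (by decide) (by decide) 1 (by decide))
    · -- 14=(1,3)
      exact False.elim (cert_false T ((skipEmb 3).trans (Function.Embedding.refl _)) (by norm_num) (fun _ => hall _) (((((LB_zero T ((skipEmb 3).trans (Function.Embedding.refl _))).upd 1 2 3 (le_of_eq hx12)).upd 1 3 1 (le_of_eq hx14)).upd 2 1 1 (le_of_eq hx21)).upd 3 1 3 (le_of_eq hx41)) ![0,2,1,1] (by decide) (by decide) 1 (by decide))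
    · -- 14=(3,1)
      exact False.elim (cert_false T ((skipEmb 3).trans (Function.Embedding.refl _)) (by norm_num) (fun _ => hall _) (((((LB_zero T ((skipEmb 3).trans (Function.Embedding.refl _))).upd 1 2 3 (le_of_eq hx12)).upd 1 3 3 (le_of_eq hx14)).upd 2 1 1 (le_of_eq hx21)).upd 3 1 1 (le_of_eq hx41)) ![0,2,1,1] (by decide) (by decide) 1 (by decide))
  · -- 04=(1,1)
    rcases d14 with ⟨rfl, rfl⟩ | ⟨rfl, rfl⟩ | ⟨rfl, rfl⟩ | ⟨rfl, rfl⟩ | ⟨rfl, rfl⟩ | ⟨rfl, rfl⟩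
    · -- 14=(0,0)
      rcases d24 with ⟨rfl, rfl⟩ | ⟨rfl, rfl⟩ | ⟨rfl, rfl⟩ | ⟨rfl, rfl⟩ | ⟨rfl, rfl⟩ | ⟨rfl, rfl⟩
      · -- 24=(0,0)
        rcases d34 with ⟨rfl, rfl⟩ | ⟨rfl, rfl⟩ | ⟨rfl, rfl⟩ | ⟨rfl, rfl⟩ | ⟨rfl, rfl⟩ | ⟨rfl, rfl⟩
        · -- 34=(0,0)
          exfalso; omega
        · -- 34=(1,1)
          exact False.elim (cert_false T ((skipEmb 2).trans (Function.Embedding.refl _)) (by norm_num) (fun _ => hall _) (((((((LB_zero T ((skipEmb 2).trans (Function.Embedding.refl _))).upd 0 2 1 (le_of_eq hx03)).upd 0 3 1 (le_of_eq hx04)).upd 2 0 1 (le_of_eq hx30)).upd 2 3 1 (le_of_eq hx34)).upd 3 0 1 (le_of_eq hx40)).upd 3 2 1 (le_of_eq hx43)) ![1,0,1,1] (by decide) (by decide) 0 (by decide))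
        · -- 34=(1,2)
          exact False.elim (cert_false T ((skipEmb 2).trans (Function.Embedding.refl _)) (by norm_num) (fun _ => hall _) (((((((LB_zero T ((skipEmb 2).trans (Function.Embedding.refl _))).upd 0 2 1 (le_of_eq hx03)).upd 0 3 1 (le_of_eq hx04)).upd 2 0 1 (le_of_eq hx30)).upd 2 3 1 (le_of_eq hx34)).upd 3 0 1 (le_of_eq hx40)).upd 3 2 2 (le_of_eq hx43)) ![1,0,1,1] (by decide) (by decide) 0 (by decide))
        · -- 34=(2,1)
          exact False.elim (cert_false T ((skipEmb 2).trans (Function.Embedding.refl _)) (by norm_num) (fun _ => hall _) (((((((LB_zero T ((skipEmb 2).trans (Function.Embedding.refl _))).upd 0 2 1 (le_of_eq hx03)).upd 0 3 1 (le_of_eq hx04)).upd 2 0 1 (le_of_eq hx30)).upd 2 3 2 (le_of_eq hx34)).upd 3 0 1 (le_of_eq hx40)).upd 3 2 1 (le_of_eq hx43)) ![1,0,1,1] (by decide) (by decide) 0 (by decide))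
        · -- 34=(1,3)
          exact False.elim (cert_false T ((skipEmb 2).trans (Function.Embedding.refl _)) (by norm_num) (fun _ => hall _) (((((((LB_zero T ((skipEmb 2).trans (Function.Embedding.refl _))).upd 0 2 1 (le_of_eq hx03)).upd 0 3 1 (le_of_eq hx04)).upd 2 0 1 (le_of_eq hx30)).upd 2 3 1 (le_of_eq hx34)).upd 3 0 1 (le_of_eq hx40)).upd 3 2 3 (le_of_eq hx43)) ![1,0,1,1] (by decide) (by decide) 0 (by decide))
        · -- 34=(3,1)
          exact False.elim (cert_false T ((skipEmb 2).trans (Function.Embedding.refl _)) (by norm_num) (fun _ => hall _) (((((((LB_zero T ((skipEmb 2).trans (Function.Embedding.refl _))).upd 0 2 1 (le_of_eq hx03)).upd 0 3 1 (le_of_eq hx04)).upd 2 0 1 (le_of_eq hx30)).upd 2 3 3 (le_of_eq hx34)).upd 3 0 1 (le_of_eq hx40)).upd 3 2 1 (le_of_eq hx43)) ![1,0,1,1] (by decide) (by decide) 0 (by decide))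
      · -- 24=(1,1)
        exact False.elim (cert_false T ((skipEmb 3).trans (Function.Embedding.refl _)) (by norm_num) (fun _ => hall _) (((((LB_zero T ((skipEmb 3).trans (Function.Embedding.refl _))).upd 1 2 3 (le_of_eq hx12)).upd 2 1 1 (le_of_eq hx21)).upd 2 3 1 (le_of_eq hx24)).upd 3 2 1 (le_of_eq hx42)) ![0,3,2,1] (by decide) (by decide) 1 (by decide))
      · -- 24=(1,2)
        exact False.elim (cert_false T ((skipEmb 3).trans (Function.Embedding.refl _)) (by norm_num) (fun _ => hall _) (((((LB_zero T ((skipEmb 3).trans (Function.Embedding.refl _))).upd 1 2 3 (le_of_eq hx12)).upd 2 1 1 (le_of_eq hx21)).upd 2 3 1 (le_of_eq hx24)).upd 3 2 2 (le_of_eq hx42)) ![0,1,1,1] (by decide) (by decide) 1 (by decide))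
      · -- 24=(2,1)
        exact False.elim (cert_false T ((skipEmb 3).trans (Function.Embedding.refl _)) (by norm_num) (fun _ => hall _) (((((LB_zero T ((skipEmb 3).trans (Function.Embedding.refl _))).upd 1 2 3 (le_of_eq hx12)).upd 2 1 1 (le_of_eq hx21)).upd 2 3 2 (le_of_eq hx24)).upd 3 2 1 (le_of_eq hx42)) ![0,2,2,1] (by decide) (by decide) 1 (by decide))
      · -- 24=(1,3)
        exact False.elim (cert_false T ((skipEmb 3).trans (Function.Embedding.refl _)) (by norm_num) (fun _ => hall _) (((((LB_zero T ((skipEmb 3).trans (Function.Embedding.refl _))).upd 1 2 3 (le_of_eq hx12)).upd 2 1 1 (le_of_eq hx21)).upd 2 3 1 (le_of_eq hx24)).upd 3 2 3 (le_of_eq hx42)) ![0,1,1,1] (by decide) (by decide) 1 (by decide))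
      · -- 24=(3,1)
        exact False.elim (cert_false T ((skipEmb 3).trans (Function.Embedding.refl _)) (by norm_num) (fun _ => hall _) (((((LB_zero T ((skipEmb 3).trans (Function.Embedding.refl _))).upd 1 2 3 (le_of_eq hx12)).upd 2 1 1 (le_of_eq hx21)).upd 2 3 3 (le_of_eq hx24)).upd 3 2 1 (le_of_eq hx42)) ![0,1,2,1] (by decide) (by decide) 1 (by decide))
    · -- 14=(1,1)
      exact False.elim (cert_false T ((skipEmb 3).trans (Function.Embedding.refl _)) (by norm_num) (fun _ => hall _) (((((LB_zero T ((skipEmb 3).trans (Function.Embedding.refl _))).upd 1 2 3 (le_of_eq hx12)).upd 1 3 1 (le_of_eq hx14)).upd 2 1 1 (le_of_eq hx21)).upd 3 1 1 (le_of_eq hx41)) ![0,2,1,1] (by decide) (by decide) 1 (by decide))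
    · -- 14=(1,2)
      exact False.elim (cert_false T ((skipEmb 3).trans (Function.Embedding.refl _)) (by norm_num) (fun _ => hall _) (((((LB_zero T ((skipEmb 3).trans (Function.Embedding.refl _))).upd 1 2 3 (le_of_eq hx12)).upd 1 3 1 (le_of_eq hx14)).upd 2 1 1 (le_of_eq hx21)).upd 3 1 2 (le_of_eq hx41)) ![0,2,1,1] (by decide) (by decide) 1 (by decide))
    · -- 14=(2,1)
      exact False.elim (cert_false T ((skipEmb 3).trans (Function.Embedding.refl _)) (by norm_num) (fun _ => hall _) (((((LB_zero T ((skipEmb 3).trans (Function.Embedding.refl _))).upd 1 2 3 (le_of_eq hx12)).upd 1 3 2 (le_of_eq hx14)).upd 2 1 1 (le_of_eq hx21)).upd 3 1 1 (le_of_eq hx41)) ![0,2,1,1] (by decide) (by decide) 1 (by decide))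
    · -- 14=(1,3)
      exact False.elim (cert_false T ((skipEmb 3).trans (Function.Embedding.refl _)) (by norm_num) (fun _ => hall _) (((((LB_zero T ((skipEmb 3).trans (Function.Embedding.refl _))).upd 0 3 1 (le_of_eq hx04)).upd 1 3 1 (le_of_eq hx14)).upd 3 0 1 (le_of_eq hx40)).upd 3 1 3 (le_of_eq hx41)) ![1,1,0,2] (by decide) (by decide) 0 (by decide))
    · -- 14=(3,1)
      exact False.elim (cert_false T ((skipEmb 3).trans (Function.Embedding.refl _)) (by norm_num) (fun _ => hall _) (((((LB_zero T ((skipEmb 3).trans (Function.Embedding.refl _))).upd 1 2 3 (le_of_eq hx12)).upd 1 3 3 (le_of_eq hx14)).upd 2 1 1 (le_of_eq hx21)).upd 3 1 1 (le_of_eq hx41)) ![0,2,1,1] (by decide) (by decide) 1 (by decide))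
  · -- 04=(1,2)
    rcases d14 with ⟨rfl, rfl⟩ | ⟨rfl, rfl⟩ | ⟨rfl, rfl⟩ | ⟨rfl, rfl⟩ | ⟨rfl, rfl⟩ | ⟨rfl, rfl⟩
    · -- 14=(0,0)
      rcases d24 with ⟨rfl, rfl⟩ | ⟨rfl, rfl⟩ | ⟨rfl, rfl⟩ | ⟨rfl, rfl⟩ | ⟨rfl, rfl⟩ | ⟨rfl, rfl⟩
      · -- 24=(0,0)
        rcases d34 with ⟨rfl, rfl⟩ | ⟨rfl, rfl⟩ | ⟨rfl, rfl⟩ | ⟨rfl, rfl⟩ | ⟨rfl, rfl⟩ | ⟨rfl, rfl⟩
        · -- 34=(0,0)
          exfalso; omega
        · -- 34=(1,1)
          exact False.elim (cert_false T ((skipEmb 2).trans (Function.Embedding.refl _)) (by norm_num) (fun _ => hall _) (((((((LB_zero T ((skipEmb 2).trans (Function.Embedding.refl _))).upd 0 2 1 (le_of_eq hx03)).upd 0 3 1 (le_of_eq hx04)).upd 2 0 1 (le_of_eq hx30)).upd 2 3 1 (le_of_eq hx34)).upd 3 0 2 (le_of_eq hx40)).upd 3 2 1 (le_of_eq hx43)) ![1,0,1,1] (by decide) (by decide) 0 (by decide))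
        · -- 34=(1,2)
          exact False.elim (cert_false T ((skipEmb 2).trans (Function.Embedding.refl _)) (by norm_num) (fun _ => hall _) (((((((LB_zero T ((skipEmb 2).trans (Function.Embedding.refl _))).upd 0 2 1 (le_of_eq hx03)).upd 0 3 1 (le_of_eq hx04)).upd 2 0 1 (le_of_eq hx30)).upd 2 3 1 (le_of_eq hx34)).upd 3 0 2 (le_of_eq hx40)).upd 3 2 2 (le_of_eq hx43)) ![1,0,1,1] (by decide) (by decide) 0 (by decide))
        · -- 34=(2,1)
          exact False.elim (cert_false T ((skipEmb 2).trans (Function.Embedding.refl _)) (by norm_num) (fun _ => hall _) (((((((LB_zero T ((skipEmb 2).trans (Function.Embedding.refl _))).upd 0 2 1 (le_of_eq hx03)).upd 0 3 1 (le_of_eq hx04)).upd 2 0 1 (le_of_eq hx30)).upd 2 3 2 (le_of_eq hx34)).upd 3 0 2 (le_of_eq hx40)).upd 3 2 1 (le_of_eq hx43)) ![1,0,1,1] (by decide) (by decide) 0 (by decide))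
        · -- 34=(1,3)
          exact False.elim (cert_false T ((skipEmb 2).trans (Function.Embedding.refl _)) (by norm_num) (fun _ => hall _) (((((((LB_zero T ((skipEmb 2).trans (Function.Embedding.refl _))).upd 0 2 1 (le_of_eq hx03)).upd 0 3 1 (le_of_eq hx04)).upd 2 0 1 (le_of_eq hx30)).upd 2 3 1 (le_of_eq hx34)).upd 3 0 2 (le_of_eq hx40)).upd 3 2 3 (le_of_eq hx43)) ![1,0,1,1] (by decide) (by decide) 0 (by decide))
        · -- 34=(3,1)
          exact False.elim (cert_false T ((skipEmb 2).trans (Function.Embedding.refl _)) (by norm_num) (fun _ => hall _) (((((((LB_zero T ((skipEmb 2).trans (Function.Embedding.refl _))).upd 0 2 1 (le_of_eq hx03)).upd 0 3 1 (le_of_eq hx04)).upd 2 0 1 (le_of_eq hx30)).upd 2 3 3 (le_of_eq hx34)).upd 3 0 2 (le_of_eq hx40)).upd 3 2 1 (le_of_eq hx43)) ![1,0,1,1] (by decide) (by decide) 0 (by decide))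
      · -- 24=(1,1)
        exact False.elim (cert_false T ((skipEmb 3).trans (Function.Embedding.refl _)) (by norm_num) (fun _ => hall _) (((((((LB_zero T ((skipEmb 3).trans (Function.Embedding.refl _))).upd 0 3 1 (le_of_eq hx04)).upd 1 2 3 (le_of_eq hx12)).upd 2 1 1 (le_of_eq hx21)).upd 2 3 1 (le_of_eq hx24)).upd 3 0 2 (le_of_eq hx40)).upd 3 2 1 (le_of_eq hx42)) ![1,2,2,2] (by decide) (by decide) 0 (by decide))
      · -- 24=(1,2)
        exact False.elim (cert_false T ((skipEmb 3).trans (Function.Embedding.refl _)) (by norm_num) (fun _ => hall _) (((((LB_zero T ((skipEmb 3).trans (Function.Embedding.refl _))).upd 1 2 3 (le_of_eq hx12)).upd 2 1 1 (le_of_eq hx21)).upd 2 3 1 (le_of_eq hx24)).upd 3 2 2 (le_of_eq hx42)) ![0,1,1,1] (by decide) (by decide) 1 (by decide))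
      · -- 24=(2,1)
        exact False.elim (cert_false T ((skipEmb 3).trans (Function.Embedding.refl _)) (by norm_num) (fun _ => hall _) (((((LB_zero T ((skipEmb 3).trans (Function.Embedding.refl _))).upd 0 3 1 (le_of_eq hx04)).upd 2 3 2 (le_of_eq hx24)).upd 3 0 2 (le_of_eq hx40)).upd 3 2 1 (le_of_eq hx42)) ![1,0,2,2] (by decide) (by decide) 0 (by decide))
      · -- 24=(1,3)
        exact False.elim (cert_false T ((skipEmb 3).trans (Function.Embedding.refl _)) (by norm_num) (fun _ => hall _) (((((LB_zero T ((skipEmb 3).trans (Function.Embedding.refl _))).upd 1 2 3 (le_of_eq hx12)).upd 2 1 1 (le_of_eq hx21)).upd 2 3 1 (le_of_eq hx24)).upd 3 2 3 (le_of_eq hx42)) ![0,1,1,1] (by decide) (by decide) 1 (by decide))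
      · -- 24=(3,1)
        exact False.elim (cert_false T ((skipEmb 3).trans (Function.Embedding.refl _)) (by norm_num) (fun _ => hall _) (((((LB_zero T ((skipEmb 3).trans (Function.Embedding.refl _))).upd 0 3 1 (le_of_eq hx04)).upd 2 3 3 (le_of_eq hx24)).upd 3 0 2 (le_of_eq hx40)).upd 3 2 1 (le_of_eq hx42)) ![1,0,2,2] (by decide) (by decide) 0 (by decide))
    · -- 14=(1,1)
      exact False.elim (cert_false T ((skipEmb 3).trans (Function.Embedding.refl _)) (by norm_num) (fun _ => hall _) (((((LB_zero T ((skipEmb 3).trans (Function.Embedding.refl _))).upd 1 2 3 (le_of_eq hx12)).upd 1 3 1 (le_of_eq hx14)).upd 2 1 1 (le_of_eq hx21)).upd 3 1 1 (le_of_eq hx41)) ![0,2,1,1] (by decide) (by decide) 1 (by decide))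
    · -- 14=(1,2)
      exact False.elim (cert_false T ((skipEmb 3).trans (Function.Embedding.refl _)) (by norm_num) (fun _ => hall _) (((((LB_zero T ((skipEmb 3).trans (Function.Embedding.refl _))).upd 0 3 1 (le_of_eq hx04)).upd 1 3 1 (le_of_eq hx14)).upd 3 0 2 (le_of_eq hx40)).upd 3 1 2 (le_of_eq hx41)) ![1,1,0,2] (by decide) (by decide) 0 (by decide))
    · -- 14=(2,1)
      exact False.elim (cert_false T ((skipEmb 3).trans (Function.Embedding.refl _)) (by norm_num) (fun _ => hall _) (((((LB_zero T ((skipEmb 3).trans (Function.Embedding.refl _))).upd 0 3 1 (le_of_eq hx04)).upd 1 3 2 (le_of_eq hx14)).upd 3 0 2 (le_of_eq hx40)).upd 3 1 1 (le_of_eq hx41)) ![1,2,0,2] (by decide) (by decide) 0 (by decide))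
    · -- 14=(1,3)
      exact False.elim (cert_false T ((skipEmb 3).trans (Function.Embedding.refl _)) (by norm_num) (fun _ => hall _) (((((LB_zero T ((skipEmb 3).trans (Function.Embedding.refl _))).upd 1 2 3 (le_of_eq hx12)).upd 1 3 1 (le_of_eq hx14)).upd 2 1 1 (le_of_eq hx21)).upd 3 1 3 (le_of_eq hx41)) ![0,2,1,1] (by decide) (by decide) 1 (by decide))
    · -- 14=(3,1)
      exact False.elim (cert_false T ((skipEmb 3).trans (Function.Embedding.refl _)) (by norm_num) (fun _ => hall _) (((((LB_zero T ((skipEmb 3).trans (Function.Embedding.refl _))).upd 0 3 1 (le_of_eq hx04)).upd 1 3 3 (le_of_eq hx14)).upd 3 0 2 (le_of_eq hx40)).upd 3 1 1 (le_of_eq hx41)) ![1,2,0,2] (by decide) (by decide) 0 (by decide))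
  · -- 04=(2,1)
    rcases d14 with ⟨rfl, rfl⟩ | ⟨rfl, rfl⟩ | ⟨rfl, rfl⟩ | ⟨rfl, rfl⟩ | ⟨rfl, rfl⟩ | ⟨rfl, rfl⟩
    · -- 14=(0,0)
      rcases d24 with ⟨rfl, rfl⟩ | ⟨rfl, rfl⟩ | ⟨rfl, rfl⟩ | ⟨rfl, rfl⟩ | ⟨rfl, rfl⟩ | ⟨rfl, rfl⟩
      · -- 24=(0,0)
        rcases d34 with ⟨rfl, rfl⟩ | ⟨rfl, rfl⟩ | ⟨rfl, rfl⟩ | ⟨rfl, rfl⟩ | ⟨rfl, rfl⟩ | ⟨rfl, rfl⟩
        · -- 34=(0,0)
          exfalso; omega
        · -- 34=(1,1)
          exact False.elim (cert_false T ((skipEmb 2).trans (Function.Embedding.refl _)) (by norm_num) (fun _ => hall _) (((((((LB_zero T ((skipEmb 2).trans (Function.Embedding.refl _))).upd 0 2 1 (le_of_eq hx03)).upd 0 3 2 (le_of_eq hx04)).upd 2 0 1 (le_of_eq hx30)).upd 2 3 1 (le_of_eq hx34)).upd 3 0 1 (le_of_eq hx40)).upd 3 2 1 (le_of_eq hx43)) ![1,0,1,1] (by decide) (by decide) 0 (by decide))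
        · -- 34=(1,2)
          exact False.elim (cert_false T ((skipEmb 2).trans (Function.Embedding.refl _)) (by norm_num) (fun _ => hall _) (((((((LB_zero T ((skipEmb 2).trans (Function.Embedding.refl _))).upd 0 2 1 (le_of_eq hx03)).upd 0 3 2 (le_of_eq hx04)).upd 2 0 1 (le_of_eq hx30)).upd 2 3 1 (le_of_eq hx34)).upd 3 0 1 (le_of_eq hx40)).upd 3 2 2 (le_of_eq hx43)) ![1,0,1,1] (by decide) (by decide) 0 (by decide))
        · -- 34=(2,1)
          exact False.elim (cert_false T ((skipEmb 2).trans (Function.Embedding.refl _)) (by norm_num) (fun _ => hall _) (((((((LB_zero T ((skipEmb 2).trans (Function.Embedding.refl _))).upd 0 2 1 (le_of_eq hx03)).upd 0 3 2 (le_of_eq hx04)).upd 2 0 1 (le_of_eq hx30)).upd 2 3 2 (le_of_eq hx34)).upd 3 0 1 (le_of_eq hx40)).upd 3 2 1 (le_of_eq hx43)) ![1,0,1,1] (by decide) (by decide) 0 (by decide))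
        · -- 34=(1,3)
          exact False.elim (cert_false T ((skipEmb 2).trans (Function.Embedding.refl _)) (by norm_num) (fun _ => hall _) (((((((LB_zero T ((skipEmb 2).trans (Function.Embedding.refl _))).upd 0 2 1 (le_of_eq hx03)).upd 0 3 2 (le_of_eq hx04)).upd 2 0 1 (le_of_eq hx30)).upd 2 3 1 (le_of_eq hx34)).upd 3 0 1 (le_of_eq hx40)).upd 3 2 3 (le_of_eq hx43)) ![1,0,1,1] (by decide) (by decide) 0 (by decide))
        · -- 34=(3,1)
          exact False.elim (cert_false T ((skipEmb 2).trans (Function.Embedding.refl _)) (by norm_num) (fun _ => hall _) (((((((LB_zero T ((skipEmb 2).trans (Function.Embedding.refl _))).upd 0 2 1 (le_of_eq hx03)).upd 0 3 2 (le_of_eq hx04)).upd 2 0 1 (le_of_eq hx30)).upd 2 3 3 (le_of_eq hx34)).upd 3 0 1 (le_of_eq hx40)).upd 3 2 1 (le_of_eq hx43)) ![1,0,1,1] (by decide) (by decide) 0 (by decide))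
      · -- 24=(1,1)
        exact False.elim (cert_false T ((skipEmb 3).trans (Function.Embedding.refl _)) (by norm_num) (fun _ => hall _) (((((((LB_zero T ((skipEmb 3).trans (Function.Embedding.refl _))).upd 0 3 2 (le_of_eq hx04)).upd 1 2 3 (le_of_eq hx12)).upd 2 1 1 (le_of_eq hx21)).upd 2 3 1 (le_of_eq hx24)).upd 3 0 1 (le_of_eq hx40)).upd 3 2 1 (le_of_eq hx42)) ![1,1,1,1] (by decide) (by decide) 0 (by decide))
      · -- 24=(1,2)
        exact False.elim (cert_false T ((skipEmb 3).trans (Function.Embedding.refl _)) (by norm_num) (fun _ => hall _) (((((LB_zero T ((skipEmb 3).trans (Function.Embedding.refl _))).upd 1 2 3 (le_of_eq hx12)).upd 2 1 1 (le_of_eq hx21)).upd 2 3 1 (le_of_eq hx24)).upd 3 2 2 (le_of_eq hx42)) ![0,1,1,1] (by decide) (by decide) 1 (by decide))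
      · -- 24=(2,1)
        exact False.elim (cert_false T ((skipEmb 3).trans (Function.Embedding.refl _)) (by norm_num) (fun _ => hall _) (((((LB_zero T ((skipEmb 3).trans (Function.Embedding.refl _))).upd 0 3 2 (le_of_eq hx04)).upd 2 3 2 (le_of_eq hx24)).upd 3 0 1 (le_of_eq hx40)).upd 3 2 1 (le_of_eq hx42)) ![1,0,1,1] (by decide) (by decide) 0 (by decide))
      · -- 24=(1,3)
        exact False.elim (cert_false T ((skipEmb 3).trans (Function.Embedding.refl _)) (by norm_num) (fun _ => hall _) (((((LB_zero T ((skipEmb 3).trans (Function.Embedding.refl _))).upd 1 2 3 (le_of_eq hx12)).upd 2 1 1 (le_of_eq hx21)).upd 2 3 1 (le_of_eq hx24)).upd 3 2 3 (le_of_eq hx42)) ![0,1,1,1] (by decide) (by decide) 1 (by decide))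
      · -- 24=(3,1)
        exact False.elim (cert_false T ((skipEmb 3).trans (Function.Embedding.refl _)) (by norm_num) (fun _ => hall _) (((((LB_zero T ((skipEmb 3).trans (Function.Embedding.refl _))).upd 0 3 2 (le_of_eq hx04)).upd 2 3 3 (le_of_eq hx24)).upd 3 0 1 (le_of_eq hx40)).upd 3 2 1 (le_of_eq hx42)) ![1,0,1,1] (by decide) (by decide) 0 (by decide))
    · -- 14=(1,1)
      exact False.elim (cert_false T ((skipEmb 3).trans (Function.Embedding.refl _)) (by norm_num) (fun _ => hall _) (((((LB_zero T ((skipEmb 3).trans (Function.Embedding.refl _))).upd 1 2 3 (le_of_eq hx12)).upd 1 3 1 (le_of_eq hx14)).upd 2 1 1 (le_of_eq hx21)).upd 3 1 1 (le_of_eq hx41)) ![0,2,1,1] (by decide) (by decide) 1 (by decide))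
    · -- 14=(1,2)
      exact False.elim (cert_false T ((skipEmb 3).trans (Function.Embedding.refl _)) (by norm_num) (fun _ => hall _) (((((LB_zero T ((skipEmb 3).trans (Function.Embedding.refl _))).upd 0 3 2 (le_of_eq hx04)).upd 1 3 1 (le_of_eq hx14)).upd 3 0 1 (le_of_eq hx40)).upd 3 1 2 (le_of_eq hx41)) ![2,1,0,2] (by decide) (by decide) 0 (by decide))
    · -- 14=(2,1)
      exact False.elim (cert_false T ((skipEmb 3).trans (Function.Embedding.refl _)) (by norm_num) (fun _ => hall _) (((((LB_zero T ((skipEmb 3).trans (Function.Embedding.refl _))).upd 0 3 2 (le_of_eq hx04)).upd 1 3 2 (le_of_eq hx14)).upd 3 0 1 (le_of_eq hx40)).upd 3 1 1 (le_of_eq hx41)) ![1,1,0,1] (by decide) (by decide) 0 (by decide))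
    · -- 14=(1,3)
      exact False.elim (cert_false T ((skipEmb 3).trans (Function.Embedding.refl _)) (by norm_num) (fun _ => hall _) (((((LB_zero T ((skipEmb 3).trans (Function.Embedding.refl _))).upd 0 3 2 (le_of_eq hx04)).upd 1 3 1 (le_of_eq hx14)).upd 3 0 1 (le_of_eq hx40)).upd 3 1 3 (le_of_eq hx41)) ![1,1,0,2] (by decide) (by decide) 0 (by decide))
    · -- 14=(3,1)
      exact False.elim (cert_false T ((skipEmb 3).trans (Function.Embedding.refl _)) (by norm_num) (fun _ => hall _) (((((LB_zero T ((skipEmb 3).trans (Function.Embedding.refl _))).upd 0 3 2 (le_of_eq hx04)).upd 1 3 3 (le_of_eq hx14)).upd 3 0 1 (le_of_eq hx40)).upd 3 1 1 (le_of_eq hx41)) ![1,1,0,1] (by decide) (by decide) 0 (by decide))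
  · -- 04=(1,3)
    exact False.elim (cert_false T ((skipEmb 2).trans (Function.Embedding.refl _)) (by norm_num) (fun _ => hall _) (((((LB_zero T ((skipEmb 2).trans (Function.Embedding.refl _))).upd 0 2 1 (le_of_eq hx03)).upd 0 3 1 (le_of_eq hx04)).upd 2 0 1 (le_of_eq hx30)).upd 3 0 3 (le_of_eq hx40)) ![2,0,1,3] (by decide) (by decide) 0 (by decide))
  · -- 04=(3,1)
    exact False.elim (cert_false T ((skipEmb 2).trans (Function.Embedding.refl _)) (by norm_num) (fun _ => hall _) (((((LB_zero T ((skipEmb 2).trans (Function.Embedding.refl _))).upd 0 2 1 (le_of_eq hx03)).upd 0 3 3 (le_of_eq hx04)).upd 2 0 1 (le_of_eq hx30)).upd 3 0 1 (le_of_eq hx40)) ![2,0,1,1] (by decide) (by decide) 0 (by decide))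

theorem case194 (T : NumericalType 5) (hall : ∀ i, T.IsMinusTwo i) (d : SData T)
    (h01 : N T (Function.Embedding.refl _) 0 1 = 0) (h10 : N T (Function.Embedding.refl _) 1 0 = 0)
    (h02 : N T (Function.Embedding.refl _) 0 2 = 0) (h20 : N T (Function.Embedding.refl _) 2 0 = 0)
    (h12 : N T (Function.Embedding.refl _) 1 2 = 3) (h21 : N T (Function.Embedding.refl _) 2 1 = 1)
    (h03 : N T (Function.Embedding.refl _) 0 3 = 1) (h30 : N T (Function.Embedding.refl _) 3 0 = 1)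
    (h13 : N T (Function.Embedding.refl _) 1 3 = 0) (h31 : N T (Function.Embedding.refl _) 3 1 = 0) :
    Goal T := by
  unfold Goal
  have hd := d
  obtain ⟨x01, x02, x03, x04, x10, x12, x13, x14, x20, x21, x23, x24, x30, x31, x32, x34, x40, x41, x42, x43, hx01, hx02, hx03, hx04, hx10, hx12, hx13, hx14, hx20, hx21, hx23, hx24, hx30, hx31, hx32, hx34, hx40, hx41, hx42, hx43, hw0, hm0, hw1, hm1, hw2, hm2, hw3, hm3, hw4, hm4, a00, a01, a02, a03, a04, a11, a10, a12, a13, a14, a22, a20, a21, a23, a24, a33, a30, a31, a32, a34, a44, a40, a41, a42, a43, wN01, wN02, wN12, wN03, wN13, wN23, wN04, wN14, wN24, wN34, e0, e1, e2, e3, e4, d01, d02, d12, d03, d13, d23, d04, d14, d24, d34⟩ := d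
  obtain rfl : x01 = 0 := hx01.trans h01
  obtain rfl : x10 = 0 := hx10.trans h10
  obtain rfl : x02 = 0 := hx02.trans h02
  obtain rfl : x20 = 0 := hx20.trans h20
  obtain rfl : x12 = 3 := hx12.trans h12
  obtain rfl : x21 = 1 := hx21.trans h21
  obtain rfl : x03 = 1 := hx03.trans h03
  obtain rfl : x30 = 1 := hx30.trans h30
  obtain rfl : x13 = 0 := hx13.trans h13
  obtain rfl : x31 = 0 := hx31.trans h31
  rcases d23 with ⟨rfl, rfl⟩ | ⟨rfl, rfl⟩ | ⟨rfl, rfl⟩ | ⟨rfl, rfl⟩ | ⟨rfl, rfl⟩ | ⟨rfl, rfl⟩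
  · -- 23=(0,0)
    exact case195 T hall hd hx01.symm hx10.symm hx02.symm hx20.symm hx12.symm hx21.symm hx03.symm hx30.symm hx13.symm hx31.symm hx23.symm hx32.symm
  · -- 23=(1,1)
    exact False.elim (cert_false T ((skipEmb 4).trans (Function.Embedding.refl _)) (by norm_num) (fun _ => hall _) (((((LB_zero T ((skipEmb 4).trans (Function.Embedding.refl _))).upd 1 2 3 (le_of_eq hx12)).upd 2 1 1 (le_of_eq hx21)).upd 2 3 1 (le_of_eq hx23)).upd 3 2 1 (le_of_eq hx32)) ![0,3,2,1] (by decide) (by decide) 1 (by decide))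
  · -- 23=(1,2)
    exact False.elim (cert_false T ((skipEmb 4).trans (Function.Embedding.refl _)) (by norm_num) (fun _ => hall _) (((((LB_zero T ((skipEmb 4).trans (Function.Embedding.refl _))).upd 1 2 3 (le_of_eq hx12)).upd 2 1 1 (le_of_eq hx21)).upd 2 3 1 (le_of_eq hx23)).upd 3 2 2 (le_of_eq hx32)) ![0,1,1,1] (by decide) (by decide) 1 (by decide))
  · -- 23=(2,1)
    exact False.elim (cert_false T ((skipEmb 4).trans (Function.Embedding.refl _)) (by norm_num) (fun _ => hall _) (((((LB_zero T ((skipEmb 4).trans (Function.Embedding.refl _))).upd 1 2 3 (le_of_eq hx12)).upd 2 1 1 (le_of_eq hx21)).upd 2 3 2 (le_of_eq hx23)).upd 3 2 1 (le_of_eq hx32)) ![0,2,2,1] (by decide) (by decide) 1 (by decide))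
  · -- 23=(1,3)
    exact False.elim (cert_false T ((skipEmb 4).trans (Function.Embedding.refl _)) (by norm_num) (fun _ => hall _) (((((LB_zero T ((skipEmb 4).trans (Function.Embedding.refl _))).upd 1 2 3 (le_of_eq hx12)).upd 2 1 1 (le_of_eq hx21)).upd 2 3 1 (le_of_eq hx23)).upd 3 2 3 (le_of_eq hx32)) ![0,1,1,1] (by decide) (by decide) 1 (by decide))
  · -- 23=(3,1)
    exact False.elim (cert_false T ((skipEmb 4).trans (Function.Embedding.refl _)) (by norm_num) (fun _ => hall _) (((((LB_zero T ((skipEmb 4).trans (Function.Embedding.refl _))).upd 1 2 3 (le_of_eq hx12)).upd 2 1 1 (le_of_eq hx21)).upd 2 3 3 (le_of_eq hx23)).upd 3 2 1 (le_of_eq hx32)) ![0,1,2,1] (by decide) (by decide) 1 (by decide))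

theorem case216 (T : NumericalType 5) (hall : ∀ i, T.IsMinusTwo i) (d : SData T)
    (h01 : N T (Function.Embedding.refl _) 0 1 = 0) (h10 : N T (Function.Embedding.refl _) 1 0 = 0)
    (h02 : N T (Function.Embedding.refl _) 0 2 = 1) (h20 : N T (Function.Embedding.refl _) 2 0 = 1)
    (h12 : N T (Function.Embedding.refl _) 1 2 = 0) (h21 : N T (Function.Embedding.refl _) 2 1 = 0)
    (h03 : N T (Function.Embedding.refl _) 0 3 = 0) (h30 : N T (Function.Embedding.refl _) 3 0 = 0)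
    (h13 : N T (Function.Embedding.refl _) 1 3 = 1) (h31 : N T (Function.Embedding.refl _) 3 1 = 2)
    (h23 : N T (Function.Embedding.refl _) 2 3 = 0) (h32 : N T (Function.Embedding.refl _) 3 2 = 0) :
    Goal T := by
  unfold Goal
  have hd := d
  obtain ⟨x01, x02, x03, x04, x10, x12, x13, x14, x20, x21, x23, x24, x30, x31, x32, x34, x40, x41, x42, x43, hx01, hx02, hx03, hx04, hx10, hx12, hx13, hx14, hx20, hx21, hx23, hx24, hx30, hx31, hx32, hx34, hx40, hx41, hx42, hx43, hw0, hm0, hw1, hm1, hw2, hm2, hw3, hm3, hw4, hm4, a00, a01, a02, a03, a04, a11, a10, a12, a13, a14, a22, a20, a21, a23, a24, a33, a30, a31, a32, a34, a44, a40, a41, a42, a43, wN01, wN02, wN12, wN03, wN13, wN23, wN04, wN14, wN24, wN34, e0, e1, e2, e3, e4, d01, d02, d12, d03, d13, d23, d04, d14, d24, d34⟩ := d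
  obtain rfl : x01 = 0 := hx01.trans h01
  obtain rfl : x10 = 0 := hx10.trans h10
  obtain rfl : x02 = 1 := hx02.trans h02
  obtain rfl : x20 = 1 := hx20.trans h20
  obtain rfl : x12 = 0 := hx12.trans h12
  obtain rfl : x21 = 0 := hx21.trans h21
  obtain rfl : x03 = 0 := hx03.trans h03
  obtain rfl : x30 = 0 := hx30.trans h30
  obtain rfl : x13 = 1 := hx13.trans h13
  obtain rfl : x31 = 2 := hx31.trans h31
  obtain rfl : x23 = 0 := hx23.trans h23
  obtain rfl : x32 = 0 := hx32.trans h32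
  rcases d04 with ⟨rfl, rfl⟩ | ⟨rfl, rfl⟩ | ⟨rfl, rfl⟩ | ⟨rfl, rfl⟩ | ⟨rfl, rfl⟩ | ⟨rfl, rfl⟩
  · -- 04=(0,0)
    rcases d14 with ⟨rfl, rfl⟩ | ⟨rfl, rfl⟩ | ⟨rfl, rfl⟩ | ⟨rfl, rfl⟩ | ⟨rfl, rfl⟩ | ⟨rfl, rfl⟩
    · -- 14=(0,0)
      rcases d24 with ⟨rfl, rfl⟩ | ⟨rfl, rfl⟩ | ⟨rfl, rfl⟩ | ⟨rfl, rfl⟩ | ⟨rfl, rfl⟩ | ⟨rfl, rfl⟩
      · -- 24=(0,0)
        rcases d34 with ⟨rfl, rfl⟩ | ⟨rfl, rfl⟩ | ⟨rfl, rfl⟩ | ⟨rfl, rfl⟩ | ⟨rfl, rfl⟩ | ⟨rfl, rfl⟩
        · -- 34=(0,0)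
          exfalso; omega
        · -- 34=(1,1)
          exfalso; omega
        · -- 34=(1,2)
          exact False.elim (cert_false T ((skipEmb 2).trans (Function.Embedding.refl _)) (by norm_num) (fun _ => hall _) (((((LB_zero T ((skipEmb 2).trans (Function.Embedding.refl _))).upd 1 2 1 (le_of_eq hx13)).upd 2 1 2 (le_of_eq hx31)).upd 2 3 1 (le_of_eq hx34)).upd 3 2 2 (le_of_eq hx43)) ![0,1,2,2] (by decide) (by decide) 1 (by decide))
        · -- 34=(2,1)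
          exact False.elim (cert_false T ((skipEmb 2).trans (Function.Embedding.refl _)) (by norm_num) (fun _ => hall _) (((((LB_zero T ((skipEmb 2).trans (Function.Embedding.refl _))).upd 1 2 1 (le_of_eq hx13)).upd 2 1 2 (le_of_eq hx31)).upd 2 3 2 (le_of_eq hx34)).upd 3 2 1 (le_of_eq hx43)) ![0,1,2,1] (by decide) (by decide) 1 (by decide))
        · -- 34=(1,3)
          exact False.elim (cert_false T ((skipEmb 2).trans (Function.Embedding.refl _)) (by norm_num) (fun _ => hall _) (((((LB_zero T ((skipEmb 2).trans (Function.Embedding.refl _))).upd 1 2 1 (le_of_eq hx13)).upd 2 1 2 (le_of_eq hx31)).upd 2 3 1 (le_of_eq hx34)).upd 3 2 3 (le_of_eq hx43)) ![0,1,2,2] (by decide) (by decide) 1 (by decide))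
        · -- 34=(3,1)
          exact False.elim (cert_false T ((skipEmb 2).trans (Function.Embedding.refl _)) (by norm_num) (fun _ => hall _) (((((LB_zero T ((skipEmb 2).trans (Function.Embedding.refl _))).upd 1 2 1 (le_of_eq hx13)).upd 2 1 2 (le_of_eq hx31)).upd 2 3 3 (le_of_eq hx34)).upd 3 2 1 (le_of_eq hx43)) ![0,1,2,1] (by decide) (by decide) 1 (by decide))
      · -- 24=(1,1)
        rcases d34 with ⟨rfl, rfl⟩ | ⟨rfl, rfl⟩ | ⟨rfl, rfl⟩ | ⟨rfl, rfl⟩ | ⟨rfl, rfl⟩ | ⟨rfl, rfl⟩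
        · -- 34=(0,0)
          exfalso; omega
        · -- 34=(1,1)
          exfalso; omega
        · -- 34=(1,2)
          exact False.elim (cert_false T ((skipEmb 2).trans (Function.Embedding.refl _)) (by norm_num) (fun _ => hall _) (((((LB_zero T ((skipEmb 2).trans (Function.Embedding.refl _))).upd 1 2 1 (le_of_eq hx13)).upd 2 1 2 (le_of_eq hx31)).upd 2 3 1 (le_of_eq hx34)).upd 3 2 2 (le_of_eq hx43)) ![0,1,2,2] (by decide) (by decide) 1 (by decide))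
        · -- 34=(2,1)
          exact False.elim (cert_false T ((skipEmb 2).trans (Function.Embedding.refl _)) (by norm_num) (fun _ => hall _) (((((LB_zero T ((skipEmb 2).trans (Function.Embedding.refl _))).upd 1 2 1 (le_of_eq hx13)).upd 2 1 2 (le_of_eq hx31)).upd 2 3 2 (le_of_eq hx34)).upd 3 2 1 (le_of_eq hx43)) ![0,1,2,1] (by decide) (by decide) 1 (by decide))
        · -- 34=(1,3)
          exact False.elim (cert_false T ((skipEmb 2).trans (Function.Embedding.refl _)) (by norm_num) (fun _ => hall _) (((((LB_zero T ((skipEmb 2).trans (Function.Embedding.refl _))).upd 1 2 1 (le_of_eq hx13)).upd 2 1 2 (le_of_eq hx31)).upd 2 3 1 (le_of_eq hx34)).upd 3 2 3 (le_of_eq hx43)) ![0,1,2,2] (by decide) (by decide) 1 (by decide))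
        · -- 34=(3,1)
          exact False.elim (cert_false T ((skipEmb 2).trans (Function.Embedding.refl _)) (by norm_num) (fun _ => hall _) (((((LB_zero T ((skipEmb 2).trans (Function.Embedding.refl _))).upd 1 2 1 (le_of_eq hx13)).upd 2 1 2 (le_of_eq hx31)).upd 2 3 3 (le_of_eq hx34)).upd 3 2 1 (le_of_eq hx43)) ![0,1,2,1] (by decide) (by decide) 1 (by decide))
      · -- 24=(1,2)
        rcases d34 with ⟨rfl, rfl⟩ | ⟨rfl, rfl⟩ | ⟨rfl, rfl⟩ | ⟨rfl, rfl⟩ | ⟨rfl, rfl⟩ | ⟨rfl, rfl⟩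
        · -- 34=(0,0)
          exfalso; omega
        · -- 34=(1,1)
          exact False.elim (cert_false T ((skipEmb 0).trans (Function.Embedding.refl _)) (by norm_num) (fun _ => hall _) (((((((LB_zero T ((skipEmb 0).trans (Function.Embedding.refl _))).upd 0 2 1 (le_of_eq hx13)).upd 1 3 1 (le_of_eq hx24)).upd 2 0 2 (le_of_eq hx31)).upd 2 3 1 (le_of_eq hx34)).upd 3 1 2 (le_of_eq hx42)).upd 3 2 1 (le_of_eq hx43)) ![1,1,2,2] (by decide) (by decide) 0 (by decide))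
        · -- 34=(1,2)
          exact False.elim (cert_false T ((skipEmb 2).trans (Function.Embedding.refl _)) (by norm_num) (fun _ => hall _) (((((LB_zero T ((skipEmb 2).trans (Function.Embedding.refl _))).upd 1 2 1 (le_of_eq hx13)).upd 2 1 2 (le_of_eq hx31)).upd 2 3 1 (le_of_eq hx34)).upd 3 2 2 (le_of_eq hx43)) ![0,1,2,2] (by decide) (by decide) 1 (by decide))
        · -- 34=(2,1)
          exact False.elim (cert_false T ((skipEmb 2).trans (Function.Embedding.refl _)) (by norm_num) (fun _ => hall _) (((((LB_zero T ((skipEmb 2).trans (Function.Embedding.refl _))).upd 1 2 1 (le_of_eq hx13)).upd 2 1 2 (le_of_eq hx31)).upd 2 3 2 (le_of_eq hx34)).upd 3 2 1 (le_of_eq hx43)) ![0,1,2,1] (by decide) (by decide) 1 (by decide))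
        · -- 34=(1,3)
          exact False.elim (cert_false T ((skipEmb 2).trans (Function.Embedding.refl _)) (by norm_num) (fun _ => hall _) (((((LB_zero T ((skipEmb 2).trans (Function.Embedding.refl _))).upd 1 2 1 (le_of_eq hx13)).upd 2 1 2 (le_of_eq hx31)).upd 2 3 1 (le_of_eq hx34)).upd 3 2 3 (le_of_eq hx43)) ![0,1,2,2] (by decide) (by decide) 1 (by decide))
        · -- 34=(3,1)
          exact False.elim (cert_false T ((skipEmb 2).trans (Function.Embedding.refl _)) (by norm_num) (fun _ => hall _) (((((LB_zero T ((skipEmb 2).trans (Function.Embedding.refl _))).upd 1 2 1 (le_of_eq hx13)).upd 2 1 2 (le_of_eq hx31)).upd 2 3 3 (le_of_eq hx34)).upd 3 2 1 (le_of_eq hx43)) ![0,1,2,1] (by decide) (by decide) 1 (by decide))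
      · -- 24=(2,1)
        rcases d34 with ⟨rfl, rfl⟩ | ⟨rfl, rfl⟩ | ⟨rfl, rfl⟩ | ⟨rfl, rfl⟩ | ⟨rfl, rfl⟩ | ⟨rfl, rfl⟩
        · -- 34=(0,0)
          exfalso; omega
        · -- 34=(1,1)
          exact False.elim (cert_false T ((skipEmb 0).trans (Function.Embedding.refl _)) (by norm_num) (fun _ => hall _) (((((((LB_zero T ((skipEmb 0).trans (Function.Embedding.refl _))).upd 0 2 1 (le_of_eq hx13)).upd 1 3 2 (le_of_eq hx24)).upd 2 0 2 (le_of_eq hx31)).upd 2 3 1 (le_of_eq hx34)).upd 3 1 1 (le_of_eq hx42)).upd 3 2 1 (le_of_eq hx43)) ![1,2,2,2] (by decide) (by decide) 0 (by decide))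
        · -- 34=(1,2)
          exact False.elim (cert_false T ((skipEmb 2).trans (Function.Embedding.refl _)) (by norm_num) (fun _ => hall _) (((((LB_zero T ((skipEmb 2).trans (Function.Embedding.refl _))).upd 1 2 1 (le_of_eq hx13)).upd 2 1 2 (le_of_eq hx31)).upd 2 3 1 (le_of_eq hx34)).upd 3 2 2 (le_of_eq hx43)) ![0,1,2,2] (by decide) (by decide) 1 (by decide))
        · -- 34=(2,1)
          exact False.elim (cert_false T ((skipEmb 2).trans (Function.Embedding.refl _)) (by norm_num) (fun _ => hall _) (((((LB_zero T ((skipEmb 2).trans (Function.Embedding.refl _))).upd 1 2 1 (le_of_eq hx13)).upd 2 1 2 (le_of_eq hx31)).upd 2 3 2 (le_of_eq hx34)).upd 3 2 1 (le_of_eq hx43)) ![0,1,2,1] (by decide) (by decide) 1 (by decide))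
        · -- 34=(1,3)
          exact False.elim (cert_false T ((skipEmb 2).trans (Function.Embedding.refl _)) (by norm_num) (fun _ => hall _) (((((LB_zero T ((skipEmb 2).trans (Function.Embedding.refl _))).upd 1 2 1 (le_of_eq hx13)).upd 2 1 2 (le_of_eq hx31)).upd 2 3 1 (le_of_eq hx34)).upd 3 2 3 (le_of_eq hx43)) ![0,1,2,2] (by decide) (by decide) 1 (by decide))
        · -- 34=(3,1)
          exact False.elim (cert_false T ((skipEmb 2).trans (Function.Embedding.refl _)) (by norm_num) (fun _ => hall _) (((((LB_zero T ((skipEmb 2).trans (Function.Embedding.refl _))).upd 1 2 1 (le_of_eq hx13)).upd 2 1 2 (le_of_eq hx31)).upd 2 3 3 (le_of_eq hx34)).upd 3 2 1 (le_of_eq hx43)) ![0,1,2,1] (by decide) (by decide) 1 (by decide))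
      · -- 24=(1,3)
        exact False.elim (cert_false T ((skipEmb 3).trans (Function.Embedding.refl _)) (by norm_num) (fun _ => hall _) (((((LB_zero T ((skipEmb 3).trans (Function.Embedding.refl _))).upd 0 2 1 (le_of_eq hx02)).upd 2 0 1 (le_of_eq hx20)).upd 2 3 1 (le_of_eq hx24)).upd 3 2 3 (le_of_eq hx42)) ![1,0,2,3] (by decide) (by decide) 0 (by decide))
      · -- 24=(3,1)
        exact False.elim (cert_false T ((skipEmb 3).trans (Function.Embedding.refl _)) (by norm_num) (fun _ => hall _) (((((LB_zero T ((skipEmb 3).trans (Function.Embedding.refl _))).upd 0 2 1 (le_of_eq hx02)).upd 2 0 1 (le_of_eq hx20)).upd 2 3 3 (le_of_eq hx24)).upd 3 2 1 (le_of_eq hx42)) ![1,0,2,1] (by decide) (by decide) 0 (by decide))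
    · -- 14=(1,1)
      rcases d24 with ⟨rfl, rfl⟩ | ⟨rfl, rfl⟩ | ⟨rfl, rfl⟩ | ⟨rfl, rfl⟩ | ⟨rfl, rfl⟩ | ⟨rfl, rfl⟩
      · -- 24=(0,0)
        rcases d34 with ⟨rfl, rfl⟩ | ⟨rfl, rfl⟩ | ⟨rfl, rfl⟩ | ⟨rfl, rfl⟩ | ⟨rfl, rfl⟩ | ⟨rfl, rfl⟩
        · -- 34=(0,0)
          exfalso; omega
        · -- 34=(1,1)
          exact False.elim (cert_false T ((skipEmb 2).trans (Function.Embedding.refl _)) (by norm_num) (fun _ => hall _) (((((((LB_zero T ((skipEmb 2).trans (Function.Embedding.refl _))).upd 1 2 1 (le_of_eq hx13)).upd 1 3 1 (le_of_eq hx14)).upd 2 1 2 (le_of_eq hx31)).upd 2 3 1 (le_of_eq hx34)).upd 3 1 1 (le_of_eq hx41)).upd 3 2 1 (le_of_eq hx43)) ![0,1,1,1] (by decide) (by decide) 1 (by decide))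
        · -- 34=(1,2)
          exact False.elim (cert_false T ((skipEmb 2).trans (Function.Embedding.refl _)) (by norm_num) (fun _ => hall _) (((((((LB_zero T ((skipEmb 2).trans (Function.Embedding.refl _))).upd 1 2 1 (le_of_eq hx13)).upd 1 3 1 (le_of_eq hx14)).upd 2 1 2 (le_of_eq hx31)).upd 2 3 1 (le_of_eq hx34)).upd 3 1 1 (le_of_eq hx41)).upd 3 2 2 (le_of_eq hx43)) ![0,1,1,1] (by decide) (by decide) 1 (by decide))
        · -- 34=(2,1)
          exact False.elim (cert_false T ((skipEmb 2).trans (Function.Embedding.refl _)) (by norm_num) (fun _ => hall _) (((((((LB_zero T ((skipEmb 2).trans (Function.Embedding.refl _))).upd 1 2 1 (le_of_eq hx13)).upd 1 3 1 (le_of_eq hx14)).upd 2 1 2 (le_of_eq hx31)).upd 2 3 2 (le_of_eq hx34)).upd 3 1 1 (le_of_eq hx41)).upd 3 2 1 (le_of_eq hx43)) ![0,1,1,1] (by decide) (by decide) 1 (by decide))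
        · -- 34=(1,3)
          exact False.elim (cert_false T ((skipEmb 2).trans (Function.Embedding.refl _)) (by norm_num) (fun _ => hall _) (((((((LB_zero T ((skipEmb 2).trans (Function.Embedding.refl _))).upd 1 2 1 (le_of_eq hx13)).upd 1 3 1 (le_of_eq hx14)).upd 2 1 2 (le_of_eq hx31)).upd 2 3 1 (le_of_eq hx34)).upd 3 1 1 (le_of_eq hx41)).upd 3 2 3 (le_of_eq hx43)) ![0,1,1,1] (by decide) (by decide) 1 (by decide))
        · -- 34=(3,1)
          exact False.elim (cert_false T ((skipEmb 2).trans (Function.Embedding.refl _)) (by norm_num) (fun _ => hall _) (((((((LB_zero T ((skipEmb 2).trans (Function.Embedding.refl _))).upd 1 2 1 (le_of_eq hx13)).upd 1 3 1 (le_of_eq hx14)).upd 2 1 2 (le_of_eq hx31)).upd 2 3 3 (le_of_eq hx34)).upd 3 1 1 (le_of_eq hx41)).upd 3 2 1 (le_of_eq hx43)) ![0,1,1,1] (by decide) (by decide) 1 (by decide))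
      · -- 24=(1,1)
        rcases d34 with ⟨rfl, rfl⟩ | ⟨rfl, rfl⟩ | ⟨rfl, rfl⟩ | ⟨rfl, rfl⟩ | ⟨rfl, rfl⟩ | ⟨rfl, rfl⟩
        · -- 34=(0,0)
          exfalso; omega
        · -- 34=(1,1)
          exact False.elim (cert_false T ((skipEmb 2).trans (Function.Embedding.refl _)) (by norm_num) (fun _ => hall _) (((((((LB_zero T ((skipEmb 2).trans (Function.Embedding.refl _))).upd 1 2 1 (le_of_eq hx13)).upd 1 3 1 (le_of_eq hx14)).upd 2 1 2 (le_of_eq hx31)).upd 2 3 1 (le_of_eq hx34)).upd 3 1 1 (le_of_eq hx41)).upd 3 2 1 (le_of_eq hx43)) ![0,1,1,1] (by decide) (by decide) 1 (by decide))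
        · -- 34=(1,2)
          exact False.elim (cert_false T ((skipEmb 2).trans (Function.Embedding.refl _)) (by norm_num) (fun _ => hall _) (((((((LB_zero T ((skipEmb 2).trans (Function.Embedding.refl _))).upd 1 2 1 (le_of_eq hx13)).upd 1 3 1 (le_of_eq hx14)).upd 2 1 2 (le_of_eq hx31)).upd 2 3 1 (le_of_eq hx34)).upd 3 1 1 (le_of_eq hx41)).upd 3 2 2 (le_of_eq hx43)) ![0,1,1,1] (by decide) (by decide) 1 (by decide))
        · -- 34=(2,1)
          exact False.elim (cert_false T ((skipEmb 2).trans (Function.Embedding.refl _)) (by norm_num) (fun _ => hall _) (((((((LB_zero T ((skipEmb 2).trans (Function.Embedding.refl _))).upd 1 2 1 (le_of_eq hx13)).upd 1 3 1 (le_of_eq hx14)).upd 2 1 2 (le_of_eq hx31)).upd 2 3 2 (le_of_eq hx34)).upd 3 1 1 (le_of_eq hx41)).upd 3 2 1 (le_of_eq hx43)) ![0,1,1,1] (by decide) (by decide) 1 (by decide))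
        · -- 34=(1,3)
          exact False.elim (cert_false T ((skipEmb 2).trans (Function.Embedding.refl _)) (by norm_num) (fun _ => hall _) (((((((LB_zero T ((skipEmb 2).trans (Function.Embedding.refl _))).upd 1 2 1 (le_of_eq hx13)).upd 1 3 1 (le_of_eq hx14)).upd 2 1 2 (le_of_eq hx31)).upd 2 3 1 (le_of_eq hx34)).upd 3 1 1 (le_of_eq hx41)).upd 3 2 3 (le_of_eq hx43)) ![0,1,1,1] (by decide) (by decide) 1 (by decide))
        · -- 34=(3,1)
          exact False.elim (cert_false T ((skipEmb 2).trans (Function.Embedding.refl _)) (by norm_num) (fun _ => hall _) (((((((LB_zero T ((skipEmb 2).trans (Function.Embedding.refl _))).upd 1 2 1 (le_of_eq hx13)).upd 1 3 1 (le_of_eq hx14)).upd 2 1 2 (le_of_eq hx31)).upd 2 3 3 (le_of_eq hx34)).upd 3 1 1 (le_of_eq hx41)).upd 3 2 1 (le_of_eq hx43)) ![0,1,1,1] (by decide) (by decide) 1 (by decide))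
      · -- 24=(1,2)
        exact False.elim (cert_false T ((skipEmb 0).trans (Function.Embedding.refl _)) (by norm_num) (fun _ => hall _) (((((((LB_zero T ((skipEmb 0).trans (Function.Embedding.refl _))).upd 0 2 1 (le_of_eq hx13)).upd 0 3 1 (le_of_eq hx14)).upd 1 3 1 (le_of_eq hx24)).upd 2 0 2 (le_of_eq hx31)).upd 3 0 1 (le_of_eq hx41)).upd 3 1 2 (le_of_eq hx42)) ![2,1,2,2] (by decide) (by decide) 0 (by decide))
      · -- 24=(2,1)
        exact False.elim (cert_false T ((skipEmb 0).trans (Function.Embedding.refl _)) (by norm_num) (fun _ => hall _) (((((((LB_zero T ((skipEmb 0).trans (Function.Embedding.refl _))).upd 0 2 1 (le_of_eq hx13)).upd 0 3 1 (le_of_eq hx14)).upd 1 3 2 (le_of_eq hx24)).upd 2 0 2 (le_of_eq hx31)).upd 3 0 1 (le_of_eq hx41)).upd 3 1 1 (le_of_eq hx42)) ![1,1,1,1] (by decide) (by decide) 0 (by decide))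
      · -- 24=(1,3)
        exact False.elim (cert_false T ((skipEmb 3).trans (Function.Embedding.refl _)) (by norm_num) (fun _ => hall _) (((((LB_zero T ((skipEmb 3).trans (Function.Embedding.refl _))).upd 1 3 1 (le_of_eq hx14)).upd 2 3 1 (le_of_eq hx24)).upd 3 1 1 (le_of_eq hx41)).upd 3 2 3 (le_of_eq hx42)) ![0,1,1,2] (by decide) (by decide) 1 (by decide))
      · -- 24=(3,1)
        exact False.elim (cert_false T ((skipEmb 3).trans (Function.Embedding.refl _)) (by norm_num) (fun _ => hall _) (((((LB_zero T ((skipEmb 3).trans (Function.Embedding.refl _))).upd 0 2 1 (le_of_eq hx02)).upd 2 0 1 (le_of_eq hx20)).upd 2 3 3 (le_of_eq hx24)).upd 3 2 1 (le_of_eq hx42)) ![1,0,2,1] (by decide) (by decide) 0 (by decide))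
    · -- 14=(1,2)
      exact False.elim (cert_false T ((skipEmb 2).trans (Function.Embedding.refl _)) (by norm_num) (fun _ => hall _) (((((LB_zero T ((skipEmb 2).trans (Function.Embedding.refl _))).upd 1 2 1 (le_of_eq hx13)).upd 1 3 1 (le_of_eq hx14)).upd 2 1 2 (le_of_eq hx31)).upd 3 1 2 (le_of_eq hx41)) ![0,1,1,1] (by decide) (by decide) 1 (by decide))
    · -- 14=(2,1)
      exact False.elim (cert_false T ((skipEmb 2).trans (Function.Embedding.refl _)) (by norm_num) (fun _ => hall _) (((((LB_zero T ((skipEmb 2).trans (Function.Embedding.refl _))).upd 1 2 1 (le_of_eq hx13)).upd 1 3 2 (le_of_eq hx14)).upd 2 1 2 (le_of_eq hx31)).upd 3 1 1 (le_of_eq hx41)) ![0,2,2,1] (by decide) (by decide) 1 (by decide))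
    · -- 14=(1,3)
      exact False.elim (cert_false T ((skipEmb 2).trans (Function.Embedding.refl _)) (by norm_num) (fun _ => hall _) (((((LB_zero T ((skipEmb 2).trans (Function.Embedding.refl _))).upd 1 2 1 (le_of_eq hx13)).upd 1 3 1 (le_of_eq hx14)).upd 2 1 2 (le_of_eq hx31)).upd 3 1 3 (le_of_eq hx41)) ![0,1,1,1] (by decide) (by decide) 1 (by decide))
    · -- 14=(3,1)
      exact False.elim (cert_false T ((skipEmb 2).trans (Function.Embedding.refl _)) (by norm_num) (fun _ => hall _) (((((LB_zero T ((skipEmb 2).trans (Function.Embedding.refl _))).upd 1 2 1 (le_of_eq hx13)).upd 1 3 3 (le_of_eq hx14)).upd 2 1 2 (le_of_eq hx31)).upd 3 1 1 (le_of_eq hx41)) ![0,2,1,1] (by decide) (by decide) 1 (by decide))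
  · -- 04=(1,1)
    rcases d14 with ⟨rfl, rfl⟩ | ⟨rfl, rfl⟩ | ⟨rfl, rfl⟩ | ⟨rfl, rfl⟩ | ⟨rfl, rfl⟩ | ⟨rfl, rfl⟩
    · -- 14=(0,0)
      rcases d24 with ⟨rfl, rfl⟩ | ⟨rfl, rfl⟩ | ⟨rfl, rfl⟩ | ⟨rfl, rfl⟩ | ⟨rfl, rfl⟩ | ⟨rfl, rfl⟩
      · -- 24=(0,0)
        rcases d34 with ⟨rfl, rfl⟩ | ⟨rfl, rfl⟩ | ⟨rfl, rfl⟩ | ⟨rfl, rfl⟩ | ⟨rfl, rfl⟩ | ⟨rfl, rfl⟩
        · -- 34=(0,0)
          exfalso; omega
        · -- 34=(1,1)
          exfalso; omega
        · -- 34=(1,2)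
          exact False.elim (cert_false T ((skipEmb 2).trans (Function.Embedding.refl _)) (by norm_num) (fun _ => hall _) (((((LB_zero T ((skipEmb 2).trans (Function.Embedding.refl _))).upd 1 2 1 (le_of_eq hx13)).upd 2 1 2 (le_of_eq hx31)).upd 2 3 1 (le_of_eq hx34)).upd 3 2 2 (le_of_eq hx43)) ![0,1,2,2] (by decide) (by decide) 1 (by decide))
        · -- 34=(2,1)
          exact False.elim (cert_false T ((skipEmb 2).trans (Function.Embedding.refl _)) (by norm_num) (fun _ => hall _) (((((LB_zero T ((skipEmb 2).trans (Function.Embedding.refl _))).upd 1 2 1 (le_of_eq hx13)).upd 2 1 2 (le_of_eq hx31)).upd 2 3 2 (le_of_eq hx34)).upd 3 2 1 (le_of_eq hx43)) ![0,1,2,1] (by decide) (by decide) 1 (by decide))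
        · -- 34=(1,3)
          exact False.elim (cert_false T ((skipEmb 2).trans (Function.Embedding.refl _)) (by norm_num) (fun _ => hall _) (((((LB_zero T ((skipEmb 2).trans (Function.Embedding.refl _))).upd 1 2 1 (le_of_eq hx13)).upd 2 1 2 (le_of_eq hx31)).upd 2 3 1 (le_of_eq hx34)).upd 3 2 3 (le_of_eq hx43)) ![0,1,2,2] (by decide) (by decide) 1 (by decide))
        · -- 34=(3,1)
          exact False.elim (cert_false T ((skipEmb 2).trans (Function.Embedding.refl _)) (by norm_num) (fun _ => hall _) (((((LB_zero T ((skipEmb 2).trans (Function.Embedding.refl _))).upd 1 2 1 (le_of_eq hx13)).upd 2 1 2 (le_of_eq hx31)).upd 2 3 3 (le_of_eq hx34)).upd 3 2 1 (le_of_eq hx43)) ![0,1,2,1] (by decide) (by decide) 1 (by decide))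
      · -- 24=(1,1)
        exact False.elim (cert_false T ((skipEmb 3).trans (Function.Embedding.refl _)) (by norm_num) (fun _ => hall _) (((((((LB_zero T ((skipEmb 3).trans (Function.Embedding.refl _))).upd 0 2 1 (le_of_eq hx02)).upd 0 3 1 (le_of_eq hx04)).upd 2 0 1 (le_of_eq hx20)).upd 2 3 1 (le_of_eq hx24)).upd 3 0 1 (le_of_eq hx40)).upd 3 2 1 (le_of_eq hx42)) ![1,0,1,1] (by decide) (by decide) 0 (by decide))
      · -- 24=(1,2)
        exact False.elim (cert_false T ((skipEmb 3).trans (Function.Embedding.refl _)) (by norm_num) (fun _ => hall _) (((((((LB_zero T ((skipEmb 3).trans (Function.Embedding.refl _))).upd 0 2 1 (le_of_eq hx02)).upd 0 3 1 (le_of_eq hx04)).upd 2 0 1 (le_of_eq hx20)).upd 2 3 1 (le_of_eq hx24)).upd 3 0 1 (le_of_eq hx40)).upd 3 2 2 (le_of_eq hx42)) ![1,0,1,1] (by decide) (by decide) 0 (by decide))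
      · -- 24=(2,1)
        exact False.elim (cert_false T ((skipEmb 3).trans (Function.Embedding.refl _)) (by norm_num) (fun _ => hall _) (((((((LB_zero T ((skipEmb 3).trans (Function.Embedding.refl _))).upd 0 2 1 (le_of_eq hx02)).upd 0 3 1 (le_of_eq hx04)).upd 2 0 1 (le_of_eq hx20)).upd 2 3 2 (le_of_eq hx24)).upd 3 0 1 (le_of_eq hx40)).upd 3 2 1 (le_of_eq hx42)) ![1,0,1,1] (by decide) (by decide) 0 (by decide))
      · -- 24=(1,3)
        exact False.elim (cert_false T ((skipEmb 3).trans (Function.Embedding.refl _)) (by norm_num) (fun _ => hall _) (((((((LB_zero T ((skipEmb 3).trans (Function.Embedding.refl _))).upd 0 2 1 (le_of_eq hx02)).upd 0 3 1 (le_of_eq hx04)).upd 2 0 1 (le_of_eq hx20)).upd 2 3 1 (le_of_eq hx24)).upd 3 0 1 (le_of_eq hx40)).upd 3 2 3 (le_of_eq hx42)) ![1,0,1,1] (by decide) (by decide) 0 (by decide))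
      · -- 24=(3,1)
        exact False.elim (cert_false T ((skipEmb 3).trans (Function.Embedding.refl _)) (by norm_num) (fun _ => hall _) (((((((LB_zero T ((skipEmb 3).trans (Function.Embedding.refl _))).upd 0 2 1 (le_of_eq hx02)).upd 0 3 1 (le_of_eq hx04)).upd 2 0 1 (le_of_eq hx20)).upd 2 3 3 (le_of_eq hx24)).upd 3 0 1 (le_of_eq hx40)).upd 3 2 1 (le_of_eq hx42)) ![1,0,1,1] (by decide) (by decide) 0 (by decide))
    · -- 14=(1,1)
      rcases d24 with ⟨rfl, rfl⟩ | ⟨rfl, rfl⟩ | ⟨rfl, rfl⟩ | ⟨rfl, rfl⟩ | ⟨rfl, rfl⟩ | ⟨rfl, rfl⟩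
      · -- 24=(0,0)
        rcases d34 with ⟨rfl, rfl⟩ | ⟨rfl, rfl⟩ | ⟨rfl, rfl⟩ | ⟨rfl, rfl⟩ | ⟨rfl, rfl⟩ | ⟨rfl, rfl⟩
        · -- 34=(0,0)
          exfalso; omega
        · -- 34=(1,1)
          exact False.elim (cert_false T ((skipEmb 2).trans (Function.Embedding.refl _)) (by norm_num) (fun _ => hall _) (((((((LB_zero T ((skipEmb 2).trans (Function.Embedding.refl _))).upd 1 2 1 (le_of_eq hx13)).upd 1 3 1 (le_of_eq hx14)).upd 2 1 2 (le_of_eq hx31)).upd 2 3 1 (le_of_eq hx34)).upd 3 1 1 (le_of_eq hx41)).upd 3 2 1 (le_of_eq hx43)) ![0,1,1,1] (by decide) (by decide) 1 (by decide))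
        · -- 34=(1,2)
          exact False.elim (cert_false T ((skipEmb 2).trans (Function.Embedding.refl _)) (by norm_num) (fun _ => hall _) (((((((LB_zero T ((skipEmb 2).trans (Function.Embedding.refl _))).upd 1 2 1 (le_of_eq hx13)).upd 1 3 1 (le_of_eq hx14)).upd 2 1 2 (le_of_eq hx31)).upd 2 3 1 (le_of_eq hx34)).upd 3 1 1 (le_of_eq hx41)).upd 3 2 2 (le_of_eq hx43)) ![0,1,1,1] (by decide) (by decide) 1 (by decide))
        · -- 34=(2,1)
          exact False.elim (cert_false T ((skipEmb 2).trans (Function.Embedding.refl _)) (by norm_num) (fun _ => hall _) (((((((LB_zero T ((skipEmb 2).trans (Function.Embedding.refl _))).upd 1 2 1 (le_of_eq hx13)).upd 1 3 1 (le_of_eq hx14)).upd 2 1 2 (le_of_eq hx31)).upd 2 3 2 (le_of_eq hx34)).upd 3 1 1 (le_of_eq hx41)).upd 3 2 1 (le_of_eq hx43)) ![0,1,1,1] (by decide) (by decide) 1 (by decide))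
        · -- 34=(1,3)
          exact False.elim (cert_false T ((skipEmb 2).trans (Function.Embedding.refl _)) (by norm_num) (fun _ => hall _) (((((((LB_zero T ((skipEmb 2).trans (Function.Embedding.refl _))).upd 1 2 1 (le_of_eq hx13)).upd 1 3 1 (le_of_eq hx14)).upd 2 1 2 (le_of_eq hx31)).upd 2 3 1 (le_of_eq hx34)).upd 3 1 1 (le_of_eq hx41)).upd 3 2 3 (le_of_eq hx43)) ![0,1,1,1] (by decide) (by decide) 1 (by decide))
        · -- 34=(3,1)
          exact False.elim (cert_false T ((skipEmb 2).trans (Function.Embedding.refl _)) (by norm_num) (fun _ => hall _) (((((((LB_zero T ((skipEmb 2).trans (Function.Embedding.refl _))).upd 1 2 1 (le_of_eq hx13)).upd 1 3 1 (le_of_eq hx14)).upd 2 1 2 (le_of_eq hx31)).upd 2 3 3 (le_of_eq hx34)).upd 3 1 1 (le_of_eq hx41)).upd 3 2 1 (le_of_eq hx43)) ![0,1,1,1] (by decide) (by decide) 1 (by decide))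
      · -- 24=(1,1)
        exact False.elim (cert_false T ((skipEmb 3).trans (Function.Embedding.refl _)) (by norm_num) (fun _ => hall _) (((((((LB_zero T ((skipEmb 3).trans (Function.Embedding.refl _))).upd 0 2 1 (le_of_eq hx02)).upd 0 3 1 (le_of_eq hx04)).upd 2 0 1 (le_of_eq hx20)).upd 2 3 1 (le_of_eq hx24)).upd 3 0 1 (le_of_eq hx40)).upd 3 2 1 (le_of_eq hx42)) ![1,0,1,1] (by decide) (by decide) 0 (by decide))
      · -- 24=(1,2)
        exact False.elim (cert_false T ((skipEmb 3).trans (Function.Embedding.refl _)) (by norm_num) (fun _ => hall _) (((((((LB_zero T ((skipEmb 3).trans (Function.Embedding.refl _))).upd 0 2 1 (le_of_eq hx02)).upd 0 3 1 (le_of_eq hx04)).upd 2 0 1 (le_of_eq hx20)).upd 2 3 1 (le_of_eq hx24)).upd 3 0 1 (le_of_eq hx40)).upd 3 2 2 (le_of_eq hx42)) ![1,0,1,1] (by decide) (by decide) 0 (by decide))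
      · -- 24=(2,1)
        exact False.elim (cert_false T ((skipEmb 3).trans (Function.Embedding.refl _)) (by norm_num) (fun _ => hall _) (((((((LB_zero T ((skipEmb 3).trans (Function.Embedding.refl _))).upd 0 2 1 (le_of_eq hx02)).upd 0 3 1 (le_of_eq hx04)).upd 2 0 1 (le_of_eq hx20)).upd 2 3 2 (le_of_eq hx24)).upd 3 0 1 (le_of_eq hx40)).upd 3 2 1 (le_of_eq hx42)) ![1,0,1,1] (by decide) (by decide) 0 (by decide))
      · -- 24=(1,3)
        exact False.elim (cert_false T ((skipEmb 3).trans (Function.Embedding.refl _)) (by norm_num) (fun _ => hall _) (((((((LB_zero T ((skipEmb 3).trans (Function.Embedding.refl _))).upd 0 2 1 (le_of_eq hx02)).upd 0 3 1 (le_of_eq hx04)).upd 2 0 1 (le_of_eq hx20)).upd 2 3 1 (le_of_eq hx24)).upd 3 0 1 (le_of_eq hx40)).upd 3 2 3 (le_of_eq hx42)) ![1,0,1,1] (by decide) (by decide) 0 (by decide))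
      · -- 24=(3,1)
        exact False.elim (cert_false T ((skipEmb 3).trans (Function.Embedding.refl _)) (by norm_num) (fun _ => hall _) (((((((LB_zero T ((skipEmb 3).trans (Function.Embedding.refl _))).upd 0 2 1 (le_of_eq hx02)).upd 0 3 1 (le_of_eq hx04)).upd 2 0 1 (le_of_eq hx20)).upd 2 3 3 (le_of_eq hx24)).upd 3 0 1 (le_of_eq hx40)).upd 3 2 1 (le_of_eq hx42)) ![1,0,1,1] (by decide) (by decide) 0 (by decide))
    · -- 14=(1,2)
      exact False.elim (cert_false T ((skipEmb 2).trans (Function.Embedding.refl _)) (by norm_num) (fun _ => hall _) (((((LB_zero T ((skipEmb 2).trans (Function.Embedding.refl _))).upd 1 2 1 (le_of_eq hx13)).upd 1 3 1 (le_of_eq hx14)).upd 2 1 2 (le_of_eq hx31)).upd 3 1 2 (le_of_eq hx41)) ![0,1,1,1] (by decide) (by decide) 1 (by decide))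
    · -- 14=(2,1)
      exact False.elim (cert_false T ((skipEmb 2).trans (Function.Embedding.refl _)) (by norm_num) (fun _ => hall _) (((((LB_zero T ((skipEmb 2).trans (Function.Embedding.refl _))).upd 1 2 1 (le_of_eq hx13)).upd 1 3 2 (le_of_eq hx14)).upd 2 1 2 (le_of_eq hx31)).upd 3 1 1 (le_of_eq hx41)) ![0,2,2,1] (by decide) (by decide) 1 (by decide))
    · -- 14=(1,3)
      exact False.elim (cert_false T ((skipEmb 3).trans (Function.Embedding.refl _)) (by norm_num) (fun _ => hall _) (((((LB_zero T ((skipEmb 3).trans (Function.Embedding.refl _))).upd 0 3 1 (le_of_eq hx04)).upd 1 3 1 (le_of_eq hx14)).upd 3 0 1 (le_of_eq hx40)).upd 3 1 3 (le_of_eq hx41)) ![1,1,0,2] (by decide) (by decide) 0 (by decide))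
    · -- 14=(3,1)
      exact False.elim (cert_false T ((skipEmb 3).trans (Function.Embedding.refl _)) (by norm_num) (fun _ => hall _) (((((LB_zero T ((skipEmb 3).trans (Function.Embedding.refl _))).upd 0 3 1 (le_of_eq hx04)).upd 1 3 3 (le_of_eq hx14)).upd 3 0 1 (le_of_eq hx40)).upd 3 1 1 (le_of_eq hx41)) ![1,3,0,2] (by decide) (by decide) 0 (by decide))
  · -- 04=(1,2)
    rcases d14 with ⟨rfl, rfl⟩ | ⟨rfl, rfl⟩ | ⟨rfl, rfl⟩ | ⟨rfl, rfl⟩ | ⟨rfl, rfl⟩ | ⟨rfl, rfl⟩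
    · -- 14=(0,0)
      rcases d24 with ⟨rfl, rfl⟩ | ⟨rfl, rfl⟩ | ⟨rfl, rfl⟩ | ⟨rfl, rfl⟩ | ⟨rfl, rfl⟩ | ⟨rfl, rfl⟩
      · -- 24=(0,0)
        rcases d34 with ⟨rfl, rfl⟩ | ⟨rfl, rfl⟩ | ⟨rfl, rfl⟩ | ⟨rfl, rfl⟩ | ⟨rfl, rfl⟩ | ⟨rfl, rfl⟩
        · -- 34=(0,0)
          exfalso; omega
        · -- 34=(1,1)
          exact False.elim (cert_false T ((skipEmb 2).trans (Function.Embedding.refl _)) (by norm_num) (fun _ => hall _) (((((((LB_zero T ((skipEmb 2).trans (Function.Embedding.refl _))).upd 0 3 1 (le_of_eq hx04)).upd 1 2 1 (le_of_eq hx13)).upd 2 1 2 (le_of_eq hx31)).upd 2 3 1 (le_of_eq hx34)).upd 3 0 2 (le_of_eq hx40)).upd 3 2 1 (le_of_eq hx43)) ![1,1,2,2] (by decide) (by decide) 0 (by decide))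
        · -- 34=(1,2)
          exact False.elim (cert_false T ((skipEmb 2).trans (Function.Embedding.refl _)) (by norm_num) (fun _ => hall _) (((((LB_zero T ((skipEmb 2).trans (Function.Embedding.refl _))).upd 1 2 1 (le_of_eq hx13)).upd 2 1 2 (le_of_eq hx31)).upd 2 3 1 (le_of_eq hx34)).upd 3 2 2 (le_of_eq hx43)) ![0,1,2,2] (by decide) (by decide) 1 (by decide))
        · -- 34=(2,1)
          exact False.elim (cert_false T ((skipEmb 2).trans (Function.Embedding.refl _)) (by norm_num) (fun _ => hall _) (((((LB_zero T ((skipEmb 2).trans (Function.Embedding.refl _))).upd 0 3 1 (le_of_eq hx04)).upd 2 3 2 (le_of_eq hx34)).upd 3 0 2 (le_of_eq hx40)).upd 3 2 1 (le_of_eq hx43)) ![1,0,2,2] (by decide) (by decide) 0 (by decide))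
        · -- 34=(1,3)
          exact False.elim (cert_false T ((skipEmb 2).trans (Function.Embedding.refl _)) (by norm_num) (fun _ => hall _) (((((LB_zero T ((skipEmb 2).trans (Function.Embedding.refl _))).upd 1 2 1 (le_of_eq hx13)).upd 2 1 2 (le_of_eq hx31)).upd 2 3 1 (le_of_eq hx34)).upd 3 2 3 (le_of_eq hx43)) ![0,1,2,2] (by decide) (by decide) 1 (by decide))
        · -- 34=(3,1)
          exact False.elim (cert_false T ((skipEmb 2).trans (Function.Embedding.refl _)) (by norm_num) (fun _ => hall _) (((((LB_zero T ((skipEmb 2).trans (Function.Embedding.refl _))).upd 0 3 1 (le_of_eq hx04)).upd 2 3 3 (le_of_eq hx34)).upd 3 0 2 (le_of_eq hx40)).upd 3 2 1 (le_of_eq hx43)) ![1,0,2,2] (by decide) (by decide) 0 (by decide))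
      · -- 24=(1,1)
        exact False.elim (cert_false T ((skipEmb 3).trans (Function.Embedding.refl _)) (by norm_num) (fun _ => hall _) (((((((LB_zero T ((skipEmb 3).trans (Function.Embedding.refl _))).upd 0 2 1 (le_of_eq hx02)).upd 0 3 1 (le_of_eq hx04)).upd 2 0 1 (le_of_eq hx20)).upd 2 3 1 (le_of_eq hx24)).upd 3 0 2 (le_of_eq hx40)).upd 3 2 1 (le_of_eq hx42)) ![1,0,1,1] (by decide) (by decide) 0 (by decide))
      · -- 24=(1,2)
        exact False.elim (cert_false T ((skipEmb 3).trans (Function.Embedding.refl _)) (by norm_num) (fun _ => hall _) (((((((LB_zero T ((skipEmb 3).trans (Function.Embedding.refl _))).upd 0 2 1 (le_of_eq hx02)).upd 0 3 1 (le_of_eq hx04)).upd 2 0 1 (le_of_eq hx20)).upd 2 3 1 (le_of_eq hx24)).upd 3 0 2 (le_of_eq hx40)).upd 3 2 2 (le_of_eq hx42)) ![1,0,1,1] (by decide) (by decide) 0 (by decide))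
      · -- 24=(2,1)
        exact False.elim (cert_false T ((skipEmb 3).trans (Function.Embedding.refl _)) (by norm_num) (fun _ => hall _) (((((((LB_zero T ((skipEmb 3).trans (Function.Embedding.refl _))).upd 0 2 1 (le_of_eq hx02)).upd 0 3 1 (le_of_eq hx04)).upd 2 0 1 (le_of_eq hx20)).upd 2 3 2 (le_of_eq hx24)).upd 3 0 2 (le_of_eq hx40)).upd 3 2 1 (le_of_eq hx42)) ![1,0,1,1] (by decide) (by decide) 0 (by decide))
      · -- 24=(1,3)
        exact False.elim (cert_false T ((skipEmb 3).trans (Function.Embedding.refl _)) (by norm_num) (fun _ => hall _) (((((((LB_zero T ((skipEmb 3).trans (Function.Embedding.refl _))).upd 0 2 1 (le_of_eq hx02)).upd 0 3 1 (le_of_eq hx04)).upd 2 0 1 (le_of_eq hx20)).upd 2 3 1 (le_of_eq hx24)).upd 3 0 2 (le_of_eq hx40)).upd 3 2 3 (le_of_eq hx42)) ![1,0,1,1] (by decide) (by decide) 0 (by decide))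
      · -- 24=(3,1)
        exact False.elim (cert_false T ((skipEmb 3).trans (Function.Embedding.refl _)) (by norm_num) (fun _ => hall _) (((((((LB_zero T ((skipEmb 3).trans (Function.Embedding.refl _))).upd 0 2 1 (le_of_eq hx02)).upd 0 3 1 (le_of_eq hx04)).upd 2 0 1 (le_of_eq hx20)).upd 2 3 3 (le_of_eq hx24)).upd 3 0 2 (le_of_eq hx40)).upd 3 2 1 (le_of_eq hx42)) ![1,0,1,1] (by decide) (by decide) 0 (by decide))
    · -- 14=(1,1)
      exact False.elim (cert_false T ((skipEmb 2).trans (Function.Embedding.refl _)) (by norm_num) (fun _ => hall _) (((((((LB_zero T ((skipEmb 2).trans (Function.Embedding.refl _))).upd 0 3 1 (le_of_eq hx04)).upd 1 2 1 (le_of_eq hx13)).upd 1 3 1 (le_of_eq hx14)).upd 2 1 2 (le_of_eq hx31)).upd 3 0 2 (le_of_eq hx40)).upd 3 1 1 (le_of_eq hx41)) ![1,2,2,2] (by decide) (by decide) 0 (by decide))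
    · -- 14=(1,2)
      exact False.elim (cert_false T ((skipEmb 3).trans (Function.Embedding.refl _)) (by norm_num) (fun _ => hall _) (((((LB_zero T ((skipEmb 3).trans (Function.Embedding.refl _))).upd 0 3 1 (le_of_eq hx04)).upd 1 3 1 (le_of_eq hx14)).upd 3 0 2 (le_of_eq hx40)).upd 3 1 2 (le_of_eq hx41)) ![1,1,0,2] (by decide) (by decide) 0 (by decide))
    · -- 14=(2,1)
      exact False.elim (cert_false T ((skipEmb 3).trans (Function.Embedding.refl _)) (by norm_num) (fun _ => hall _) (((((LB_zero T ((skipEmb 3).trans (Function.Embedding.refl _))).upd 0 3 1 (le_of_eq hx04)).upd 1 3 2 (le_of_eq hx14)).upd 3 0 2 (le_of_eq hx40)).upd 3 1 1 (le_of_eq hx41)) ![1,2,0,2] (by decide) (by decide) 0 (by decide))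
    · -- 14=(1,3)
      exact False.elim (cert_false T ((skipEmb 3).trans (Function.Embedding.refl _)) (by norm_num) (fun _ => hall _) (((((LB_zero T ((skipEmb 3).trans (Function.Embedding.refl _))).upd 0 3 1 (le_of_eq hx04)).upd 1 3 1 (le_of_eq hx14)).upd 3 0 2 (le_of_eq hx40)).upd 3 1 3 (le_of_eq hx41)) ![1,1,0,2] (by decide) (by decide) 0 (by decide))
    · -- 14=(3,1)
      exact False.elim (cert_false T ((skipEmb 3).trans (Function.Embedding.refl _)) (by norm_num) (fun _ => hall _) (((((LB_zero T ((skipEmb 3).trans (Function.Embedding.refl _))).upd 0 3 1 (le_of_eq hx04)).upd 1 3 3 (le_of_eq hx14)).upd 3 0 2 (le_of_eq hx40)).upd 3 1 1 (le_of_eq hx41)) ![1,2,0,2] (by decide) (by decide) 0 (by decide))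
  · -- 04=(2,1)
    rcases d14 with ⟨rfl, rfl⟩ | ⟨rfl, rfl⟩ | ⟨rfl, rfl⟩ | ⟨rfl, rfl⟩ | ⟨rfl, rfl⟩ | ⟨rfl, rfl⟩
    · -- 14=(0,0)
      rcases d24 with ⟨rfl, rfl⟩ | ⟨rfl, rfl⟩ | ⟨rfl, rfl⟩ | ⟨rfl, rfl⟩ | ⟨rfl, rfl⟩ | ⟨rfl, rfl⟩
      · -- 24=(0,0)
        rcases d34 with ⟨rfl, rfl⟩ | ⟨rfl, rfl⟩ | ⟨rfl, rfl⟩ | ⟨rfl, rfl⟩ | ⟨rfl, rfl⟩ | ⟨rfl, rfl⟩
        · -- 34=(0,0)
          exfalso; omega
        · -- 34=(1,1)
          exact False.elim (cert_false T ((skipEmb 2).trans (Function.Embedding.refl _)) (by norm_num) (fun _ => hall _) (((((((LB_zero T ((skipEmb 2).trans (Function.Embedding.refl _))).upd 0 3 2 (le_of_eq hx04)).upd 1 2 1 (le_of_eq hx13)).upd 2 1 2 (le_of_eq hx31)).upd 2 3 1 (le_of_eq hx34)).upd 3 0 1 (le_of_eq hx40)).upd 3 2 1 (le_of_eq hx43)) ![2,1,2,2] (by decide) (by decide) 0 (by decide))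
        · -- 34=(1,2)
          exact False.elim (cert_false T ((skipEmb 2).trans (Function.Embedding.refl _)) (by norm_num) (fun _ => hall _) (((((LB_zero T ((skipEmb 2).trans (Function.Embedding.refl _))).upd 0 3 2 (le_of_eq hx04)).upd 2 3 1 (le_of_eq hx34)).upd 3 0 1 (le_of_eq hx40)).upd 3 2 2 (le_of_eq hx43)) ![2,0,1,2] (by decide) (by decide) 0 (by decide))
        · -- 34=(2,1)
          exact False.elim (cert_false T ((skipEmb 2).trans (Function.Embedding.refl _)) (by norm_num) (fun _ => hall _) (((((LB_zero T ((skipEmb 2).trans (Function.Embedding.refl _))).upd 0 3 2 (le_of_eq hx04)).upd 2 3 2 (le_of_eq hx34)).upd 3 0 1 (le_of_eq hx40)).upd 3 2 1 (le_of_eq hx43)) ![1,0,1,1] (by decide) (by decide) 0 (by decide))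
        · -- 34=(1,3)
          exact False.elim (cert_false T ((skipEmb 2).trans (Function.Embedding.refl _)) (by norm_num) (fun _ => hall _) (((((LB_zero T ((skipEmb 2).trans (Function.Embedding.refl _))).upd 1 2 1 (le_of_eq hx13)).upd 2 1 2 (le_of_eq hx31)).upd 2 3 1 (le_of_eq hx34)).upd 3 2 3 (le_of_eq hx43)) ![0,1,2,2] (by decide) (by decide) 1 (by decide))
        · -- 34=(3,1)
          exact False.elim (cert_false T ((skipEmb 2).trans (Function.Embedding.refl _)) (by norm_num) (fun _ => hall _) (((((LB_zero T ((skipEmb 2).trans (Function.Embedding.refl _))).upd 0 3 2 (le_of_eq hx04)).upd 2 3 3 (le_of_eq hx34)).upd 3 0 1 (le_of_eq hx40)).upd 3 2 1 (le_of_eq hx43)) ![1,0,1,1] (by decide) (by decide) 0 (by decide))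
      · -- 24=(1,1)
        exact False.elim (cert_false T ((skipEmb 3).trans (Function.Embedding.refl _)) (by norm_num) (fun _ => hall _) (((((((LB_zero T ((skipEmb 3).trans (Function.Embedding.refl _))).upd 0 2 1 (le_of_eq hx02)).upd 0 3 2 (le_of_eq hx04)).upd 2 0 1 (le_of_eq hx20)).upd 2 3 1 (le_of_eq hx24)).upd 3 0 1 (le_of_eq hx40)).upd 3 2 1 (le_of_eq hx42)) ![1,0,1,1] (by decide) (by decide) 0 (by decide))
      · -- 24=(1,2)
        exact False.elim (cert_false T ((skipEmb 3).trans (Function.Embedding.refl _)) (by norm_num) (fun _ => hall _) (((((((LB_zero T ((skipEmb 3).trans (Function.Embedding.refl _))).upd 0 2 1 (le_of_eq hx02)).upd 0 3 2 (le_of_eq hx04)).upd 2 0 1 (le_of_eq hx20)).upd 2 3 1 (le_of_eq hx24)).upd 3 0 1 (le_of_eq hx40)).upd 3 2 2 (le_of_eq hx42)) ![1,0,1,1] (by decide) (by decide) 0 (by decide))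
      · -- 24=(2,1)
        exact False.elim (cert_false T ((skipEmb 3).trans (Function.Embedding.refl _)) (by norm_num) (fun _ => hall _) (((((((LB_zero T ((skipEmb 3).trans (Function.Embedding.refl _))).upd 0 2 1 (le_of_eq hx02)).upd 0 3 2 (le_of_eq hx04)).upd 2 0 1 (le_of_eq hx20)).upd 2 3 2 (le_of_eq hx24)).upd 3 0 1 (le_of_eq hx40)).upd 3 2 1 (le_of_eq hx42)) ![1,0,1,1] (by decide) (by decide) 0 (by decide))
      · -- 24=(1,3)
        exact False.elim (cert_false T ((skipEmb 3).trans (Function.Embedding.refl _)) (by norm_num) (fun _ => hall _) (((((((LB_zero T ((skipEmb 3).trans (Function.Embedding.refl _))).upd 0 2 1 (le_of_eq hx02)).upd 0 3 2 (le_of_eq hx04)).upd 2 0 1 (le_of_eq hx20)).upd 2 3 1 (le_of_eq hx24)).upd 3 0 1 (le_of_eq hx40)).upd 3 2 3 (le_of_eq hx42)) ![1,0,1,1] (by decide) (by decide) 0 (by decide))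
      · -- 24=(3,1)
        exact False.elim (cert_false T ((skipEmb 3).trans (Function.Embedding.refl _)) (by norm_num) (fun _ => hall _) (((((((LB_zero T ((skipEmb 3).trans (Function.Embedding.refl _))).upd 0 2 1 (le_of_eq hx02)).upd 0 3 2 (le_of_eq hx04)).upd 2 0 1 (le_of_eq hx20)).upd 2 3 3 (le_of_eq hx24)).upd 3 0 1 (le_of_eq hx40)).upd 3 2 1 (le_of_eq hx42)) ![1,0,1,1] (by decide) (by decide) 0 (by decide))
    · -- 14=(1,1)
      exact False.elim (cert_false T ((skipEmb 2).trans (Function.Embedding.refl _)) (by norm_num) (fun _ => hall _) (((((((LB_zero T ((skipEmb 2).trans (Function.Embedding.refl _))).upd 0 3 2 (le_of_eq hx04)).upd 1 2 1 (le_of_eq hx13)).upd 1 3 1 (le_of_eq hx14)).upd 2 1 2 (le_of_eq hx31)).upd 3 0 1 (le_of_eq hx40)).upd 3 1 1 (le_of_eq hx41)) ![1,1,1,1] (by decide) (by decide) 0 (by decide))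
    · -- 14=(1,2)
      exact False.elim (cert_false T ((skipEmb 3).trans (Function.Embedding.refl _)) (by norm_num) (fun _ => hall _) (((((LB_zero T ((skipEmb 3).trans (Function.Embedding.refl _))).upd 0 3 2 (le_of_eq hx04)).upd 1 3 1 (le_of_eq hx14)).upd 3 0 1 (le_of_eq hx40)).upd 3 1 2 (le_of_eq hx41)) ![2,1,0,2] (by decide) (by decide) 0 (by decide))
    · -- 14=(2,1)
      exact False.elim (cert_false T ((skipEmb 3).trans (Function.Embedding.refl _)) (by norm_num) (fun _ => hall _) (((((LB_zero T ((skipEmb 3).trans (Function.Embedding.refl _))).upd 0 3 2 (le_of_eq hx04)).upd 1 3 2 (le_of_eq hx14)).upd 3 0 1 (le_of_eq hx40)).upd 3 1 1 (le_of_eq hx41)) ![1,1,0,1] (by decide) (by decide) 0 (by decide))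
    · -- 14=(1,3)
      exact False.elim (cert_false T ((skipEmb 3).trans (Function.Embedding.refl _)) (by norm_num) (fun _ => hall _) (((((LB_zero T ((skipEmb 3).trans (Function.Embedding.refl _))).upd 0 3 2 (le_of_eq hx04)).upd 1 3 1 (le_of_eq hx14)).upd 3 0 1 (le_of_eq hx40)).upd 3 1 3 (le_of_eq hx41)) ![1,1,0,2] (by decide) (by decide) 0 (by decide))
    · -- 14=(3,1)
      exact False.elim (cert_false T ((skipEmb 3).trans (Function.Embedding.refl _)) (by norm_num) (fun _ => hall _) (((((LB_zero T ((skipEmb 3).trans (Function.Embedding.refl _))).upd 0 3 2 (le_of_eq hx04)).upd 1 3 3 (le_of_eq hx14)).upd 3 0 1 (le_of_eq hx40)).upd 3 1 1 (le_of_eq hx41)) ![1,1,0,1] (by decide) (by decide) 0 (by decide))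
  · -- 04=(1,3)
    exact False.elim (cert_false T ((skipEmb 3).trans (Function.Embedding.refl _)) (by norm_num) (fun _ => hall _) (((((LB_zero T ((skipEmb 3).trans (Function.Embedding.refl _))).upd 0 2 1 (le_of_eq hx02)).upd 0 3 1 (le_of_eq hx04)).upd 2 0 1 (le_of_eq hx20)).upd 3 0 3 (le_of_eq hx40)) ![2,0,1,3] (by decide) (by decide) 0 (by decide))
  · -- 04=(3,1)
    exact False.elim (cert_false T ((skipEmb 3).trans (Function.Embedding.refl _)) (by norm_num) (fun _ => hall _) (((((LB_zero T ((skipEmb 3).trans (Function.Embedding.refl _))).upd 0 2 1 (le_of_eq hx02)).upd 0 3 3 (le_of_eq hx04)).upd 2 0 1 (le_of_eq hx20)).upd 3 0 1 (le_of_eq hx40)) ![2,0,1,1] (by decide) (by decide) 0 (by decide))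

theorem case217 (T : NumericalType 5) (hall : ∀ i, T.IsMinusTwo i) (d : SData T)
    (h01 : N T (Function.Embedding.refl _) 0 1 = 0) (h10 : N T (Function.Embedding.refl _) 1 0 = 0)
    (h02 : N T (Function.Embedding.refl _) 0 2 = 1) (h20 : N T (Function.Embedding.refl _) 2 0 = 1)
    (h12 : N T (Function.Embedding.refl _) 1 2 = 0) (h21 : N T (Function.Embedding.refl _) 2 1 = 0)
    (h03 : N T (Function.Embedding.refl _) 0 3 = 0) (h30 : N T (Function.Embedding.refl _) 3 0 = 0)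
    (h13 : N T (Function.Embedding.refl _) 1 3 = 1) (h31 : N T (Function.Embedding.refl _) 3 1 = 2)
    (h23 : N T (Function.Embedding.refl _) 2 3 = 1) (h32 : N T (Function.Embedding.refl _) 3 2 = 1) :
    Goal T := by
  unfold Goal
  have hd := d
  obtain ⟨x01, x02, x03, x04, x10, x12, x13, x14, x20, x21, x23, x24, x30, x31, x32, x34, x40, x41, x42, x43, hx01, hx02, hx03, hx04, hx10, hx12, hx13, hx14, hx20, hx21, hx23, hx24, hx30, hx31, hx32, hx34, hx40, hx41, hx42, hx43, hw0, hm0, hw1, hm1, hw2, hm2, hw3, hm3, hw4, hm4, a00, a01, a02, a03, a04, a11, a10, a12, a13, a14, a22, a20, a21, a23, a24, a33, a30, a31, a32, a34, a44, a40, a41, a42, a43, wN01, wN02, wN12, wN03, wN13, wN23, wN04, wN14, wN24, wN34, e0, e1, e2, e3, e4, d01, d02, d12, d03, d13, d23, d04, d14, d24, d34⟩ := d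
  obtain rfl : x01 = 0 := hx01.trans h01
  obtain rfl : x10 = 0 := hx10.trans h10
  obtain rfl : x02 = 1 := hx02.trans h02
  obtain rfl : x20 = 1 := hx20.trans h20
  obtain rfl : x12 = 0 := hx12.trans h12
  obtain rfl : x21 = 0 := hx21.trans h21
  obtain rfl : x03 = 0 := hx03.trans h03
  obtain rfl : x30 = 0 := hx30.trans h30
  obtain rfl : x13 = 1 := hx13.trans h13
  obtain rfl : x31 = 2 := hx31.trans h31
  obtain rfl : x23 = 1 := hx23.trans h23
  obtain rfl : x32 = 1 := hx32.trans h32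
  rcases d04 with ⟨rfl, rfl⟩ | ⟨rfl, rfl⟩ | ⟨rfl, rfl⟩ | ⟨rfl, rfl⟩ | ⟨rfl, rfl⟩ | ⟨rfl, rfl⟩
  · -- 04=(0,0)
    rcases d14 with ⟨rfl, rfl⟩ | ⟨rfl, rfl⟩ | ⟨rfl, rfl⟩ | ⟨rfl, rfl⟩ | ⟨rfl, rfl⟩ | ⟨rfl, rfl⟩
    · -- 14=(0,0)
      rcases d24 with ⟨rfl, rfl⟩ | ⟨rfl, rfl⟩ | ⟨rfl, rfl⟩ | ⟨rfl, rfl⟩ | ⟨rfl, rfl⟩ | ⟨rfl, rfl⟩
      · -- 24=(0,0)
        rcases d34 with ⟨rfl, rfl⟩ | ⟨rfl, rfl⟩ | ⟨rfl, rfl⟩ | ⟨rfl, rfl⟩ | ⟨rfl, rfl⟩ | ⟨rfl, rfl⟩
        · -- 34=(0,0)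
          exfalso; omega
        · -- 34=(1,1)
          exact False.elim (cert_false T ((skipEmb 0).trans (Function.Embedding.refl _)) (by norm_num) (fun _ => hall _) (((((((LB_zero T ((skipEmb 0).trans (Function.Embedding.refl _))).upd 0 2 1 (le_of_eq hx13)).upd 1 2 1 (le_of_eq hx23)).upd 2 0 2 (le_of_eq hx31)).upd 2 1 1 (le_of_eq hx32)).upd 2 3 1 (le_of_eq hx34)).upd 3 2 1 (le_of_eq hx43)) ![1,1,2,1] (by decide) (by decide) 0 (by decide))
        · -- 34=(1,2)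
          exact False.elim (cert_false T ((skipEmb 2).trans (Function.Embedding.refl _)) (by norm_num) (fun _ => hall _) (((((LB_zero T ((skipEmb 2).trans (Function.Embedding.refl _))).upd 1 2 1 (le_of_eq hx13)).upd 2 1 2 (le_of_eq hx31)).upd 2 3 1 (le_of_eq hx34)).upd 3 2 2 (le_of_eq hx43)) ![0,1,2,2] (by decide) (by decide) 1 (by decide))
        · -- 34=(2,1)
          exact False.elim (cert_false T ((skipEmb 2).trans (Function.Embedding.refl _)) (by norm_num) (fun _ => hall _) (((((LB_zero T ((skipEmb 2).trans (Function.Embedding.refl _))).upd 1 2 1 (le_of_eq hx13)).upd 2 1 2 (le_of_eq hx31)).upd 2 3 2 (le_of_eq hx34)).upd 3 2 1 (le_of_eq hx43)) ![0,1,2,1] (by decide) (by decide) 1 (by decide))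
        · -- 34=(1,3)
          exact False.elim (cert_false T ((skipEmb 2).trans (Function.Embedding.refl _)) (by norm_num) (fun _ => hall _) (((((LB_zero T ((skipEmb 2).trans (Function.Embedding.refl _))).upd 1 2 1 (le_of_eq hx13)).upd 2 1 2 (le_of_eq hx31)).upd 2 3 1 (le_of_eq hx34)).upd 3 2 3 (le_of_eq hx43)) ![0,1,2,2] (by decide) (by decide) 1 (by decide))
        · -- 34=(3,1)
          exact False.elim (cert_false T ((skipEmb 2).trans (Function.Embedding.refl _)) (by norm_num) (fun _ => hall _) (((((LB_zero T ((skipEmb 2).trans (Function.Embedding.refl _))).upd 1 2 1 (le_of_eq hx13)).upd 2 1 2 (le_of_eq hx31)).upd 2 3 3 (le_of_eq hx34)).upd 3 2 1 (le_of_eq hx43)) ![0,1,2,1] (by decide) (by decide) 1 (by decide))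
      · -- 24=(1,1)
        rcases d34 with ⟨rfl, rfl⟩ | ⟨rfl, rfl⟩ | ⟨rfl, rfl⟩ | ⟨rfl, rfl⟩ | ⟨rfl, rfl⟩ | ⟨rfl, rfl⟩
        · -- 34=(0,0)
          refine ⟨(⟨![1, 3, 2, 0, 4], ![3, 0, 2, 1, 4], by decide, by decide⟩ : Equiv.Perm (Fin 5)), T.m 1, T.w 3, Or.inr (Or.inr (Or.inr (Or.inr (Or.inr (Or.inr (Or.inr (Or.inl ?_)))))))⟩
          show T.m 1 = T.m 1 ∧ T.m 3 = 2 * T.m 1 ∧ T.m 2 = 2 * T.m 1 ∧ T.m 0 = T.m 1 ∧ T.m 4 = T.m 1 ∧ T.w 1 = 2 * T.w 3 ∧ T.w 3 = T.w 3 ∧ T.w 2 = T.w 3 ∧ T.w 0 = T.w 3 ∧ T.w 4 = T.w 3 ∧ T.a 1 1 = -4 * T.w 3 ∧ T.a 1 3 = 2 * T.w 3 ∧ T.a 1 2 = 0 ∧ T.a 1 0 = 0 ∧ T.a 1 4 = 0 ∧ T.a 3 3 = -2 * T.w 3 ∧ T.a 3 2 = T.w 3 ∧ T.a 3 0 = 0 ∧ T.a 3 4 = 0 ∧ T.a 2 2 = -2 * T.w 3 ∧ T.a 2 0 = T.w 3 ∧ T.a 2 4 = T.w 3 ∧ T.a 0 0 = -2 * T.w 3 ∧ T.a 0 4 = 0 ∧ T.a 4 4 = -2 * T.w 3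
          refine ⟨?_, ?_, ?_, ?_, ?_, ?_, ?_, ?_, ?_, ?_, ?_, ?_, ?_, ?_, ?_, ?_, ?_, ?_, ?_, ?_, ?_, ?_, ?_, ?_, ?_⟩ <;> omega
        · -- 34=(1,1)
          exact False.elim (cert_false T ((skipEmb 1).trans (Function.Embedding.refl _)) (by norm_num) (fun _ => hall _) (((((((LB_zero T ((skipEmb 1).trans (Function.Embedding.refl _))).upd 1 2 1 (le_of_eq hx23)).upd 1 3 1 (le_of_eq hx24)).upd 2 1 1 (le_of_eq hx32)).upd 2 3 1 (le_of_eq hx34)).upd 3 1 1 (le_of_eq hx42)).upd 3 2 1 (le_of_eq hx43)) ![0,1,1,1] (by decide) (by decide) 1 (by decide))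
        · -- 34=(1,2)
          exact False.elim (cert_false T ((skipEmb 2).trans (Function.Embedding.refl _)) (by norm_num) (fun _ => hall _) (((((LB_zero T ((skipEmb 2).trans (Function.Embedding.refl _))).upd 1 2 1 (le_of_eq hx13)).upd 2 1 2 (le_of_eq hx31)).upd 2 3 1 (le_of_eq hx34)).upd 3 2 2 (le_of_eq hx43)) ![0,1,2,2] (by decide) (by decide) 1 (by decide))
        · -- 34=(2,1)
          exact False.elim (cert_false T ((skipEmb 2).trans (Function.Embedding.refl _)) (by norm_num) (fun _ => hall _) (((((LB_zero T ((skipEmb 2).trans (Function.Embedding.refl _))).upd 1 2 1 (le_of_eq hx13)).upd 2 1 2 (le_of_eq hx31)).upd 2 3 2 (le_of_eq hx34)).upd 3 2 1 (le_of_eq hx43)) ![0,1,2,1] (by decide) (by decide) 1 (by decide))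
        · -- 34=(1,3)
          exact False.elim (cert_false T ((skipEmb 2).trans (Function.Embedding.refl _)) (by norm_num) (fun _ => hall _) (((((LB_zero T ((skipEmb 2).trans (Function.Embedding.refl _))).upd 1 2 1 (le_of_eq hx13)).upd 2 1 2 (le_of_eq hx31)).upd 2 3 1 (le_of_eq hx34)).upd 3 2 3 (le_of_eq hx43)) ![0,1,2,2] (by decide) (by decide) 1 (by decide))
        · -- 34=(3,1)
          exact False.elim (cert_false T ((skipEmb 2).trans (Function.Embedding.refl _)) (by norm_num) (fun _ => hall _) (((((LB_zero T ((skipEmb 2).trans (Function.Embedding.refl _))).upd 1 2 1 (le_of_eq hx13)).upd 2 1 2 (le_of_eq hx31)).upd 2 3 3 (le_of_eq hx34)).upd 3 2 1 (le_of_eq hx43)) ![0,1,2,1] (by decide) (by decide) 1 (by decide))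
      · -- 24=(1,2)
        exact False.elim (cert_false T ((skipEmb 1).trans (Function.Embedding.refl _)) (by norm_num) (fun _ => hall _) (((((((LB_zero T ((skipEmb 1).trans (Function.Embedding.refl _))).upd 0 1 1 (le_of_eq hx02)).upd 1 0 1 (le_of_eq hx20)).upd 1 2 1 (le_of_eq hx23)).upd 1 3 1 (le_of_eq hx24)).upd 2 1 1 (le_of_eq hx32)).upd 3 1 2 (le_of_eq hx42)) ![1,2,1,2] (by decide) (by decide) 0 (by decide))
      · -- 24=(2,1)
        exact False.elim (cert_false T ((skipEmb 1).trans (Function.Embedding.refl _)) (by norm_num) (fun _ => hall _) (((((((LB_zero T ((skipEmb 1).trans (Function.Embedding.refl _))).upd 0 1 1 (le_of_eq hx02)).upd 1 0 1 (le_of_eq hx20)).upd 1 2 1 (le_of_eq hx23)).upd 1 3 2 (le_of_eq hx24)).upd 2 1 1 (le_of_eq hx32)).upd 3 1 1 (le_of_eq hx42)) ![1,2,1,1] (by decide) (by decide) 0 (by decide))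
      · -- 24=(1,3)
        exact False.elim (cert_false T ((skipEmb 3).trans (Function.Embedding.refl _)) (by norm_num) (fun _ => hall _) (((((LB_zero T ((skipEmb 3).trans (Function.Embedding.refl _))).upd 0 2 1 (le_of_eq hx02)).upd 2 0 1 (le_of_eq hx20)).upd 2 3 1 (le_of_eq hx24)).upd 3 2 3 (le_of_eq hx42)) ![1,0,2,3] (by decide) (by decide) 0 (by decide))
      · -- 24=(3,1)
        exact False.elim (cert_false T ((skipEmb 3).trans (Function.Embedding.refl _)) (by norm_num) (fun _ => hall _) (((((LB_zero T ((skipEmb 3).trans (Function.Embedding.refl _))).upd 0 2 1 (le_of_eq hx02)).upd 2 0 1 (le_of_eq hx20)).upd 2 3 3 (le_of_eq hx24)).upd 3 2 1 (le_of_eq hx42)) ![1,0,2,1] (by decide) (by decide) 0 (by decide))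
    · -- 14=(1,1)
      rcases d24 with ⟨rfl, rfl⟩ | ⟨rfl, rfl⟩ | ⟨rfl, rfl⟩ | ⟨rfl, rfl⟩ | ⟨rfl, rfl⟩ | ⟨rfl, rfl⟩
      · -- 24=(0,0)
        rcases d34 with ⟨rfl, rfl⟩ | ⟨rfl, rfl⟩ | ⟨rfl, rfl⟩ | ⟨rfl, rfl⟩ | ⟨rfl, rfl⟩ | ⟨rfl, rfl⟩
        · -- 34=(0,0)
          refine ⟨(⟨![0, 2, 3, 1, 4], ![0, 3, 1, 2, 4], by decide, by decide⟩ : Equiv.Perm (Fin 5)), T.m 0, T.w 0, Or.inr (Or.inl ?_)⟩
          show T.m 0 = T.m 0 ∧ T.m 2 = 2 * T.m 0 ∧ T.m 3 = 3 * T.m 0 ∧ T.m 1 = 2 * T.m 0 ∧ T.m 4 = T.m 0 ∧ T.w 0 = T.w 0 ∧ T.w 2 = T.w 0 ∧ T.w 3 = T.w 0 ∧ T.w 1 = 2 * T.w 0 ∧ T.w 4 = 2 * T.w 0 ∧ T.a 0 0 = -2 * T.w 0 ∧ T.a 0 2 = T.w 0 ∧ T.a 0 3 = 0 ∧ T.a 0 1 = 0 ∧ T.a 0 4 = 0 ∧ T.a 2 2 = -2 * T.w 0 ∧ T.a 2 3 = T.w 0 ∧ T.a 2 1 = 0 ∧ T.a 2 4 = 0 ∧ T.a 3 3 = -2 * T.w 0 ∧ T.a 3 1 = 2 * T.w 0 ∧ T.a 3 4 = 0 ∧ T.a 1 1 = -4 * T.w 0 ∧ T.a 1 4 = 2 * T.w 0 ∧ T.a 4 4 = -4 * T.w 0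
          refine ⟨?_, ?_, ?_, ?_, ?_, ?_, ?_, ?_, ?_, ?_, ?_, ?_, ?_, ?_, ?_, ?_, ?_, ?_, ?_, ?_, ?_, ?_, ?_, ?_, ?_⟩ <;> omega
        · -- 34=(1,1)
          exact False.elim (cert_false T ((skipEmb 2).trans (Function.Embedding.refl _)) (by norm_num) (fun _ => hall _) (((((((LB_zero T ((skipEmb 2).trans (Function.Embedding.refl _))).upd 1 2 1 (le_of_eq hx13)).upd 1 3 1 (le_of_eq hx14)).upd 2 1 2 (le_of_eq hx31)).upd 2 3 1 (le_of_eq hx34)).upd 3 1 1 (le_of_eq hx41)).upd 3 2 1 (le_of_eq hx43)) ![0,1,1,1] (by decide) (by decide) 1 (by decide))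
        · -- 34=(1,2)
          exact False.elim (cert_false T ((skipEmb 2).trans (Function.Embedding.refl _)) (by norm_num) (fun _ => hall _) (((((((LB_zero T ((skipEmb 2).trans (Function.Embedding.refl _))).upd 1 2 1 (le_of_eq hx13)).upd 1 3 1 (le_of_eq hx14)).upd 2 1 2 (le_of_eq hx31)).upd 2 3 1 (le_of_eq hx34)).upd 3 1 1 (le_of_eq hx41)).upd 3 2 2 (le_of_eq hx43)) ![0,1,1,1] (by decide) (by decide) 1 (by decide))
        · -- 34=(2,1)
          exact False.elim (cert_false T ((skipEmb 2).trans (Function.Embedding.refl _)) (by norm_num) (fun _ => hall _) (((((((LB_zero T ((skipEmb 2).trans (Function.Embedding.refl _))).upd 1 2 1 (le_of_eq hx13)).upd 1 3 1 (le_of_eq hx14)).upd 2 1 2 (le_of_eq hx31)).upd 2 3 2 (le_of_eq hx34)).upd 3 1 1 (le_of_eq hx41)).upd 3 2 1 (le_of_eq hx43)) ![0,1,1,1] (by decide) (by decide) 1 (by decide))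
        · -- 34=(1,3)
          exact False.elim (cert_false T ((skipEmb 2).trans (Function.Embedding.refl _)) (by norm_num) (fun _ => hall _) (((((((LB_zero T ((skipEmb 2).trans (Function.Embedding.refl _))).upd 1 2 1 (le_of_eq hx13)).upd 1 3 1 (le_of_eq hx14)).upd 2 1 2 (le_of_eq hx31)).upd 2 3 1 (le_of_eq hx34)).upd 3 1 1 (le_of_eq hx41)).upd 3 2 3 (le_of_eq hx43)) ![0,1,1,1] (by decide) (by decide) 1 (by decide))
        · -- 34=(3,1)
          exact False.elim (cert_false T ((skipEmb 2).trans (Function.Embedding.refl _)) (by norm_num) (fun _ => hall _) (((((((LB_zero T ((skipEmb 2).trans (Function.Embedding.refl _))).upd 1 2 1 (le_of_eq hx13)).upd 1 3 1 (le_of_eq hx14)).upd 2 1 2 (le_of_eq hx31)).upd 2 3 3 (le_of_eq hx34)).upd 3 1 1 (le_of_eq hx41)).upd 3 2 1 (le_of_eq hx43)) ![0,1,1,1] (by decide) (by decide) 1 (by decide))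
      · -- 24=(1,1)
        exact False.elim (cert_false T ((skipEmb 0).trans (Function.Embedding.refl _)) (by norm_num) (fun _ => hall _) (((((((((LB_zero T ((skipEmb 0).trans (Function.Embedding.refl _))).upd 0 2 1 (le_of_eq hx13)).upd 0 3 1 (le_of_eq hx14)).upd 1 2 1 (le_of_eq hx23)).upd 1 3 1 (le_of_eq hx24)).upd 2 0 2 (le_of_eq hx31)).upd 2 1 1 (le_of_eq hx32)).upd 3 0 1 (le_of_eq hx41)).upd 3 1 1 (le_of_eq hx42)) ![1,1,1,1] (by decide) (by decide) 0 (by decide))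
      · -- 24=(1,2)
        exact False.elim (cert_false T ((skipEmb 1).trans (Function.Embedding.refl _)) (by norm_num) (fun _ => hall _) (((((((LB_zero T ((skipEmb 1).trans (Function.Embedding.refl _))).upd 0 1 1 (le_of_eq hx02)).upd 1 0 1 (le_of_eq hx20)).upd 1 2 1 (le_of_eq hx23)).upd 1 3 1 (le_of_eq hx24)).upd 2 1 1 (le_of_eq hx32)).upd 3 1 2 (le_of_eq hx42)) ![1,2,1,2] (by decide) (by decide) 0 (by decide))
      · -- 24=(2,1)
        exact False.elim (cert_false T ((skipEmb 1).trans (Function.Embedding.refl _)) (by norm_num) (fun _ => hall _) (((((((LB_zero T ((skipEmb 1).trans (Function.Embedding.refl _))).upd 0 1 1 (le_of_eq hx02)).upd 1 0 1 (le_of_eq hx20)).upd 1 2 1 (le_of_eq hx23)).upd 1 3 2 (le_of_eq hx24)).upd 2 1 1 (le_of_eq hx32)).upd 3 1 1 (le_of_eq hx42)) ![1,2,1,1] (by decide) (by decide) 0 (by decide))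
      · -- 24=(1,3)
        exact False.elim (cert_false T ((skipEmb 3).trans (Function.Embedding.refl _)) (by norm_num) (fun _ => hall _) (((((LB_zero T ((skipEmb 3).trans (Function.Embedding.refl _))).upd 1 3 1 (le_of_eq hx14)).upd 2 3 1 (le_of_eq hx24)).upd 3 1 1 (le_of_eq hx41)).upd 3 2 3 (le_of_eq hx42)) ![0,1,1,2] (by decide) (by decide) 1 (by decide))
      · -- 24=(3,1)
        exact False.elim (cert_false T ((skipEmb 3).trans (Function.Embedding.refl _)) (by norm_num) (fun _ => hall _) (((((LB_zero T ((skipEmb 3).trans (Function.Embedding.refl _))).upd 0 2 1 (le_of_eq hx02)).upd 2 0 1 (le_of_eq hx20)).upd 2 3 3 (le_of_eq hx24)).upd 3 2 1 (le_of_eq hx42)) ![1,0,2,1] (by decide) (by decide) 0 (by decide))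
    · -- 14=(1,2)
      exact False.elim (cert_false T ((skipEmb 2).trans (Function.Embedding.refl _)) (by norm_num) (fun _ => hall _) (((((LB_zero T ((skipEmb 2).trans (Function.Embedding.refl _))).upd 1 2 1 (le_of_eq hx13)).upd 1 3 1 (le_of_eq hx14)).upd 2 1 2 (le_of_eq hx31)).upd 3 1 2 (le_of_eq hx41)) ![0,1,1,1] (by decide) (by decide) 1 (by decide))
    · -- 14=(2,1)
      exact False.elim (cert_false T ((skipEmb 2).trans (Function.Embedding.refl _)) (by norm_num) (fun _ => hall _) (((((LB_zero T ((skipEmb 2).trans (Function.Embedding.refl _))).upd 1 2 1 (le_of_eq hx13)).upd 1 3 2 (le_of_eq hx14)).upd 2 1 2 (le_of_eq hx31)).upd 3 1 1 (le_of_eq hx41)) ![0,2,2,1] (by decide) (by decide) 1 (by decide))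
    · -- 14=(1,3)
      exact False.elim (cert_false T ((skipEmb 2).trans (Function.Embedding.refl _)) (by norm_num) (fun _ => hall _) (((((LB_zero T ((skipEmb 2).trans (Function.Embedding.refl _))).upd 1 2 1 (le_of_eq hx13)).upd 1 3 1 (le_of_eq hx14)).upd 2 1 2 (le_of_eq hx31)).upd 3 1 3 (le_of_eq hx41)) ![0,1,1,1] (by decide) (by decide) 1 (by decide))
    · -- 14=(3,1)
      exact False.elim (cert_false T ((skipEmb 2).trans (Function.Embedding.refl _)) (by norm_num) (fun _ => hall _) (((((LB_zero T ((skipEmb 2).trans (Function.Embedding.refl _))).upd 1 2 1 (le_of_eq hx13)).upd 1 3 3 (le_of_eq hx14)).upd 2 1 2 (le_of_eq hx31)).upd 3 1 1 (le_of_eq hx41)) ![0,2,1,1] (by decide) (by decide) 1 (by decide))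
  · -- 04=(1,1)
    rcases d14 with ⟨rfl, rfl⟩ | ⟨rfl, rfl⟩ | ⟨rfl, rfl⟩ | ⟨rfl, rfl⟩ | ⟨rfl, rfl⟩ | ⟨rfl, rfl⟩
    · -- 14=(0,0)
      rcases d24 with ⟨rfl, rfl⟩ | ⟨rfl, rfl⟩ | ⟨rfl, rfl⟩ | ⟨rfl, rfl⟩ | ⟨rfl, rfl⟩ | ⟨rfl, rfl⟩
      · -- 24=(0,0)
        rcases d34 with ⟨rfl, rfl⟩ | ⟨rfl, rfl⟩ | ⟨rfl, rfl⟩ | ⟨rfl, rfl⟩ | ⟨rfl, rfl⟩ | ⟨rfl, rfl⟩
        · -- 34=(0,0)
          exfalso; omega
        · -- 34=(1,1)
          exact False.elim (cert_false T ((skipEmb 1).trans (Function.Embedding.refl _)) (by norm_num) (fun _ => hall _) (((((((((LB_zero T ((skipEmb 1).trans (Function.Embedding.refl _))).upd 0 1 1 (le_of_eq hx02)).upd 0 3 1 (le_of_eq hx04)).upd 1 0 1 (le_of_eq hx20)).upd 1 2 1 (le_of_eq hx23)).upd 2 1 1 (le_of_eq hx32)).upd 2 3 1 (le_of_eq hx34)).upd 3 0 1 (le_of_eq hx40)).upd 3 2 1 (le_of_eq hx43)) ![1,1,1,1] (by decide) (by decide) 0 (by decide))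
        · -- 34=(1,2)
          exact False.elim (cert_false T ((skipEmb 2).trans (Function.Embedding.refl _)) (by norm_num) (fun _ => hall _) (((((LB_zero T ((skipEmb 2).trans (Function.Embedding.refl _))).upd 1 2 1 (le_of_eq hx13)).upd 2 1 2 (le_of_eq hx31)).upd 2 3 1 (le_of_eq hx34)).upd 3 2 2 (le_of_eq hx43)) ![0,1,2,2] (by decide) (by decide) 1 (by decide))
        · -- 34=(2,1)
          exact False.elim (cert_false T ((skipEmb 2).trans (Function.Embedding.refl _)) (by norm_num) (fun _ => hall _) (((((LB_zero T ((skipEmb 2).trans (Function.Embedding.refl _))).upd 1 2 1 (le_of_eq hx13)).upd 2 1 2 (le_of_eq hx31)).upd 2 3 2 (le_of_eq hx34)).upd 3 2 1 (le_of_eq hx43)) ![0,1,2,1] (by decide) (by decide) 1 (by decide))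
        · -- 34=(1,3)
          exact False.elim (cert_false T ((skipEmb 2).trans (Function.Embedding.refl _)) (by norm_num) (fun _ => hall _) (((((LB_zero T ((skipEmb 2).trans (Function.Embedding.refl _))).upd 1 2 1 (le_of_eq hx13)).upd 2 1 2 (le_of_eq hx31)).upd 2 3 1 (le_of_eq hx34)).upd 3 2 3 (le_of_eq hx43)) ![0,1,2,2] (by decide) (by decide) 1 (by decide))
        · -- 34=(3,1)
          exact False.elim (cert_false T ((skipEmb 2).trans (Function.Embedding.refl _)) (by norm_num) (fun _ => hall _) (((((LB_zero T ((skipEmb 2).trans (Function.Embedding.refl _))).upd 1 2 1 (le_of_eq hx13)).upd 2 1 2 (le_of_eq hx31)).upd 2 3 3 (le_of_eq hx34)).upd 3 2 1 (le_of_eq hx43)) ![0,1,2,1] (by decide) (by decide) 1 (by decide))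
      · -- 24=(1,1)
        exact False.elim (cert_false T ((skipEmb 3).trans (Function.Embedding.refl _)) (by norm_num) (fun _ => hall _) (((((((LB_zero T ((skipEmb 3).trans (Function.Embedding.refl _))).upd 0 2 1 (le_of_eq hx02)).upd 0 3 1 (le_of_eq hx04)).upd 2 0 1 (le_of_eq hx20)).upd 2 3 1 (le_of_eq hx24)).upd 3 0 1 (le_of_eq hx40)).upd 3 2 1 (le_of_eq hx42)) ![1,0,1,1] (by decide) (by decide) 0 (by decide))
      · -- 24=(1,2)
        exact False.elim (cert_false T ((skipEmb 3).trans (Function.Embedding.refl _)) (by norm_num) (fun _ => hall _) (((((((LB_zero T ((skipEmb 3).trans (Function.Embedding.refl _))).upd 0 2 1 (le_of_eq hx02)).upd 0 3 1 (le_of_eq hx04)).upd 2 0 1 (le_of_eq hx20)).upd 2 3 1 (le_of_eq hx24)).upd 3 0 1 (le_of_eq hx40)).upd 3 2 2 (le_of_eq hx42)) ![1,0,1,1] (by decide) (by decide) 0 (by decide))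
      · -- 24=(2,1)
        exact False.elim (cert_false T ((skipEmb 3).trans (Function.Embedding.refl _)) (by norm_num) (fun _ => hall _) (((((((LB_zero T ((skipEmb 3).trans (Function.Embedding.refl _))).upd 0 2 1 (le_of_eq hx02)).upd 0 3 1 (le_of_eq hx04)).upd 2 0 1 (le_of_eq hx20)).upd 2 3 2 (le_of_eq hx24)).upd 3 0 1 (le_of_eq hx40)).upd 3 2 1 (le_of_eq hx42)) ![1,0,1,1] (by decide) (by decide) 0 (by decide))
      · -- 24=(1,3)
        exact False.elim (cert_false T ((skipEmb 3).trans (Function.Embedding.refl _)) (by norm_num) (fun _ => hall _) (((((((LB_zero T ((skipEmb 3).trans (Function.Embedding.refl _))).upd 0 2 1 (le_of_eq hx02)).upd 0 3 1 (le_of_eq hx04)).upd 2 0 1 (le_of_eq hx20)).upd 2 3 1 (le_of_eq hx24)).upd 3 0 1 (le_of_eq hx40)).upd 3 2 3 (le_of_eq hx42)) ![1,0,1,1] (by decide) (by decide) 0 (by decide))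
      · -- 24=(3,1)
        exact False.elim (cert_false T ((skipEmb 3).trans (Function.Embedding.refl _)) (by norm_num) (fun _ => hall _) (((((((LB_zero T ((skipEmb 3).trans (Function.Embedding.refl _))).upd 0 2 1 (le_of_eq hx02)).upd 0 3 1 (le_of_eq hx04)).upd 2 0 1 (le_of_eq hx20)).upd 2 3 3 (le_of_eq hx24)).upd 3 0 1 (le_of_eq hx40)).upd 3 2 1 (le_of_eq hx42)) ![1,0,1,1] (by decide) (by decide) 0 (by decide))
    · -- 14=(1,1)
      rcases d24 with ⟨rfl, rfl⟩ | ⟨rfl, rfl⟩ | ⟨rfl, rfl⟩ | ⟨rfl, rfl⟩ | ⟨rfl, rfl⟩ | ⟨rfl, rfl⟩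
      · -- 24=(0,0)
        rcases d34 with ⟨rfl, rfl⟩ | ⟨rfl, rfl⟩ | ⟨rfl, rfl⟩ | ⟨rfl, rfl⟩ | ⟨rfl, rfl⟩ | ⟨rfl, rfl⟩
        · -- 34=(0,0)
          exfalso; omega
        · -- 34=(1,1)
          exact False.elim (cert_false T ((skipEmb 2).trans (Function.Embedding.refl _)) (by norm_num) (fun _ => hall _) (((((((LB_zero T ((skipEmb 2).trans (Function.Embedding.refl _))).upd 1 2 1 (le_of_eq hx13)).upd 1 3 1 (le_of_eq hx14)).upd 2 1 2 (le_of_eq hx31)).upd 2 3 1 (le_of_eq hx34)).upd 3 1 1 (le_of_eq hx41)).upd 3 2 1 (le_of_eq hx43)) ![0,1,1,1] (by decide) (by decide) 1 (by decide))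
        · -- 34=(1,2)
          exact False.elim (cert_false T ((skipEmb 2).trans (Function.Embedding.refl _)) (by norm_num) (fun _ => hall _) (((((((LB_zero T ((skipEmb 2).trans (Function.Embedding.refl _))).upd 1 2 1 (le_of_eq hx13)).upd 1 3 1 (le_of_eq hx14)).upd 2 1 2 (le_of_eq hx31)).upd 2 3 1 (le_of_eq hx34)).upd 3 1 1 (le_of_eq hx41)).upd 3 2 2 (le_of_eq hx43)) ![0,1,1,1] (by decide) (by decide) 1 (by decide))
        · -- 34=(2,1)
          exact False.elim (cert_false T ((skipEmb 2).trans (Function.Embedding.refl _)) (by norm_num) (fun _ => hall _) (((((((LB_zero T ((skipEmb 2).trans (Function.Embedding.refl _))).upd 1 2 1 (le_of_eq hx13)).upd 1 3 1 (le_of_eq hx14)).upd 2 1 2 (le_of_eq hx31)).upd 2 3 2 (le_of_eq hx34)).upd 3 1 1 (le_of_eq hx41)).upd 3 2 1 (le_of_eq hx43)) ![0,1,1,1] (by decide) (by decide) 1 (by decide))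
        · -- 34=(1,3)
          exact False.elim (cert_false T ((skipEmb 2).trans (Function.Embedding.refl _)) (by norm_num) (fun _ => hall _) (((((((LB_zero T ((skipEmb 2).trans (Function.Embedding.refl _))).upd 1 2 1 (le_of_eq hx13)).upd 1 3 1 (le_of_eq hx14)).upd 2 1 2 (le_of_eq hx31)).upd 2 3 1 (le_of_eq hx34)).upd 3 1 1 (le_of_eq hx41)).upd 3 2 3 (le_of_eq hx43)) ![0,1,1,1] (by decide) (by decide) 1 (by decide))
        · -- 34=(3,1)
          exact False.elim (cert_false T ((skipEmb 2).trans (Function.Embedding.refl _)) (by norm_num) (fun _ => hall _) (((((((LB_zero T ((skipEmb 2).trans (Function.Embedding.refl _))).upd 1 2 1 (le_of_eq hx13)).upd 1 3 1 (le_of_eq hx14)).upd 2 1 2 (le_of_eq hx31)).upd 2 3 3 (le_of_eq hx34)).upd 3 1 1 (le_of_eq hx41)).upd 3 2 1 (le_of_eq hx43)) ![0,1,1,1] (by decide) (by decide) 1 (by decide))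
      · -- 24=(1,1)
        exact False.elim (cert_false T ((skipEmb 3).trans (Function.Embedding.refl _)) (by norm_num) (fun _ => hall _) (((((((LB_zero T ((skipEmb 3).trans (Function.Embedding.refl _))).upd 0 2 1 (le_of_eq hx02)).upd 0 3 1 (le_of_eq hx04)).upd 2 0 1 (le_of_eq hx20)).upd 2 3 1 (le_of_eq hx24)).upd 3 0 1 (le_of_eq hx40)).upd 3 2 1 (le_of_eq hx42)) ![1,0,1,1] (by decide) (by decide) 0 (by decide))
      · -- 24=(1,2)
        exact False.elim (cert_false T ((skipEmb 3).trans (Function.Embedding.refl _)) (by norm_num) (fun _ => hall _) (((((((LB_zero T ((skipEmb 3).trans (Function.Embedding.refl _))).upd 0 2 1 (le_of_eq hx02)).upd 0 3 1 (le_of_eq hx04)).upd 2 0 1 (le_of_eq hx20)).upd 2 3 1 (le_of_eq hx24)).upd 3 0 1 (le_of_eq hx40)).upd 3 2 2 (le_of_eq hx42)) ![1,0,1,1] (by decide) (by decide) 0 (by decide))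
      · -- 24=(2,1)
        exact False.elim (cert_false T ((skipEmb 3).trans (Function.Embedding.refl _)) (by norm_num) (fun _ => hall _) (((((((LB_zero T ((skipEmb 3).trans (Function.Embedding.refl _))).upd 0 2 1 (le_of_eq hx02)).upd 0 3 1 (le_of_eq hx04)).upd 2 0 1 (le_of_eq hx20)).upd 2 3 2 (le_of_eq hx24)).upd 3 0 1 (le_of_eq hx40)).upd 3 2 1 (le_of_eq hx42)) ![1,0,1,1] (by decide) (by decide) 0 (by decide))
      · -- 24=(1,3)
        exact False.elim (cert_false T ((skipEmb 3).trans (Function.Embedding.refl _)) (by norm_num) (fun _ => hall _) (((((((LB_zero T ((skipEmb 3).trans (Function.Embedding.refl _))).upd 0 2 1 (le_of_eq hx02)).upd 0 3 1 (le_of_eq hx04)).upd 2 0 1 (le_of_eq hx20)).upd 2 3 1 (le_of_eq hx24)).upd 3 0 1 (le_of_eq hx40)).upd 3 2 3 (le_of_eq hx42)) ![1,0,1,1] (by decide) (by decide) 0 (by decide))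
      · -- 24=(3,1)
        exact False.elim (cert_false T ((skipEmb 3).trans (Function.Embedding.refl _)) (by norm_num) (fun _ => hall _) (((((((LB_zero T ((skipEmb 3).trans (Function.Embedding.refl _))).upd 0 2 1 (le_of_eq hx02)).upd 0 3 1 (le_of_eq hx04)).upd 2 0 1 (le_of_eq hx20)).upd 2 3 3 (le_of_eq hx24)).upd 3 0 1 (le_of_eq hx40)).upd 3 2 1 (le_of_eq hx42)) ![1,0,1,1] (by decide) (by decide) 0 (by decide))
    · -- 14=(1,2)
      exact False.elim (cert_false T ((skipEmb 2).trans (Function.Embedding.refl _)) (by norm_num) (fun _ => hall _) (((((LB_zero T ((skipEmb 2).trans (Function.Embedding.refl _))).upd 1 2 1 (le_of_eq hx13)).upd 1 3 1 (le_of_eq hx14)).upd 2 1 2 (le_of_eq hx31)).upd 3 1 2 (le_of_eq hx41)) ![0,1,1,1] (by decide) (by decide) 1 (by decide))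
    · -- 14=(2,1)
      exact False.elim (cert_false T ((skipEmb 2).trans (Function.Embedding.refl _)) (by norm_num) (fun _ => hall _) (((((LB_zero T ((skipEmb 2).trans (Function.Embedding.refl _))).upd 1 2 1 (le_of_eq hx13)).upd 1 3 2 (le_of_eq hx14)).upd 2 1 2 (le_of_eq hx31)).upd 3 1 1 (le_of_eq hx41)) ![0,2,2,1] (by decide) (by decide) 1 (by decide))
    · -- 14=(1,3)
      exact False.elim (cert_false T ((skipEmb 3).trans (Function.Embedding.refl _)) (by norm_num) (fun _ => hall _) (((((LB_zero T ((skipEmb 3).trans (Function.Embedding.refl _))).upd 0 3 1 (le_of_eq hx04)).upd 1 3 1 (le_of_eq hx14)).upd 3 0 1 (le_of_eq hx40)).upd 3 1 3 (le_of_eq hx41)) ![1,1,0,2] (by decide) (by decide) 0 (by decide))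
    · -- 14=(3,1)
      exact False.elim (cert_false T ((skipEmb 3).trans (Function.Embedding.refl _)) (by norm_num) (fun _ => hall _) (((((LB_zero T ((skipEmb 3).trans (Function.Embedding.refl _))).upd 0 3 1 (le_of_eq hx04)).upd 1 3 3 (le_of_eq hx14)).upd 3 0 1 (le_of_eq hx40)).upd 3 1 1 (le_of_eq hx41)) ![1,3,0,2] (by decide) (by decide) 0 (by decide))
  · -- 04=(1,2)
    rcases d14 with ⟨rfl, rfl⟩ | ⟨rfl, rfl⟩ | ⟨rfl, rfl⟩ | ⟨rfl, rfl⟩ | ⟨rfl, rfl⟩ | ⟨rfl, rfl⟩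
    · -- 14=(0,0)
      rcases d24 with ⟨rfl, rfl⟩ | ⟨rfl, rfl⟩ | ⟨rfl, rfl⟩ | ⟨rfl, rfl⟩ | ⟨rfl, rfl⟩ | ⟨rfl, rfl⟩
      · -- 24=(0,0)
        rcases d34 with ⟨rfl, rfl⟩ | ⟨rfl, rfl⟩ | ⟨rfl, rfl⟩ | ⟨rfl, rfl⟩ | ⟨rfl, rfl⟩ | ⟨rfl, rfl⟩
        · -- 34=(0,0)
          refine ⟨(⟨![4, 0, 2, 3, 1], ![1, 4, 2, 3, 0], by decide, by decide⟩ : Equiv.Perm (Fin 5)), T.m 1, T.w 4, Or.inr (Or.inr (Or.inr (Or.inl ?_)))⟩
          show T.m 4 = 2 * T.m 1 ∧ T.m 0 = 2 * T.m 1 ∧ T.m 2 = 2 * T.m 1 ∧ T.m 3 = 2 * T.m 1 ∧ T.m 1 = T.m 1 ∧ T.w 4 = T.w 4 ∧ T.w 0 = 2 * T.w 4 ∧ T.w 2 = 2 * T.w 4 ∧ T.w 3 = 2 * T.w 4 ∧ T.w 1 = 4 * T.w 4 ∧ T.a 4 4 = -2 * T.w 4 ∧ T.a 4 0 = 2 * T.w 4 ∧ T.a 4 2 = 0 ∧ T.a 4 3 = 0 ∧ T.a 4 1 = 0 ∧ T.a 0 0 = -4 * T.w 4 ∧ T.a 0 2 = 2 * T.w 4 ∧ T.a 0 3 = 0 ∧ T.a 0 1 = 0 ∧ T.a 2 2 = -4 * T.w 4 ∧ T.a 2 3 = 2 * T.w 4 ∧ T.a 2 1 = 0 ∧ T.a 3 3 = -4 * T.w 4 ∧ T.a 3 1 = 4 * T.w 4 ∧ T.a 1 1 = -8 * T.w 4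
          refine ⟨?_, ?_, ?_, ?_, ?_, ?_, ?_, ?_, ?_, ?_, ?_, ?_, ?_, ?_, ?_, ?_, ?_, ?_, ?_, ?_, ?_, ?_, ?_, ?_, ?_⟩ <;> omega
        · -- 34=(1,1)
          exact False.elim (cert_false T ((skipEmb 2).trans (Function.Embedding.refl _)) (by norm_num) (fun _ => hall _) (((((((LB_zero T ((skipEmb 2).trans (Function.Embedding.refl _))).upd 0 3 1 (le_of_eq hx04)).upd 1 2 1 (le_of_eq hx13)).upd 2 1 2 (le_of_eq hx31)).upd 2 3 1 (le_of_eq hx34)).upd 3 0 2 (le_of_eq hx40)).upd 3 2 1 (le_of_eq hx43)) ![1,1,2,2] (by decide) (by decide) 0 (by decide))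
        · -- 34=(1,2)
          exact False.elim (cert_false T ((skipEmb 2).trans (Function.Embedding.refl _)) (by norm_num) (fun _ => hall _) (((((LB_zero T ((skipEmb 2).trans (Function.Embedding.refl _))).upd 1 2 1 (le_of_eq hx13)).upd 2 1 2 (le_of_eq hx31)).upd 2 3 1 (le_of_eq hx34)).upd 3 2 2 (le_of_eq hx43)) ![0,1,2,2] (by decide) (by decide) 1 (by decide))
        · -- 34=(2,1)
          exact False.elim (cert_false T ((skipEmb 2).trans (Function.Embedding.refl _)) (by norm_num) (fun _ => hall _) (((((LB_zero T ((skipEmb 2).trans (Function.Embedding.refl _))).upd 0 3 1 (le_of_eq hx04)).upd 2 3 2 (le_of_eq hx34)).upd 3 0 2 (le_of_eq hx40)).upd 3 2 1 (le_of_eq hx43)) ![1,0,2,2] (by decide) (by decide) 0 (by decide))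
        · -- 34=(1,3)
          exact False.elim (cert_false T ((skipEmb 2).trans (Function.Embedding.refl _)) (by norm_num) (fun _ => hall _) (((((LB_zero T ((skipEmb 2).trans (Function.Embedding.refl _))).upd 1 2 1 (le_of_eq hx13)).upd 2 1 2 (le_of_eq hx31)).upd 2 3 1 (le_of_eq hx34)).upd 3 2 3 (le_of_eq hx43)) ![0,1,2,2] (by decide) (by decide) 1 (by decide))
        · -- 34=(3,1)
          exact False.elim (cert_false T ((skipEmb 2).trans (Function.Embedding.refl _)) (by norm_num) (fun _ => hall _) (((((LB_zero T ((skipEmb 2).trans (Function.Embedding.refl _))).upd 0 3 1 (le_of_eq hx04)).upd 2 3 3 (le_of_eq hx34)).upd 3 0 2 (le_of_eq hx40)).upd 3 2 1 (le_of_eq hx43)) ![1,0,2,2] (by decide) (by decide) 0 (by decide))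
      · -- 24=(1,1)
        exact False.elim (cert_false T ((skipEmb 3).trans (Function.Embedding.refl _)) (by norm_num) (fun _ => hall _) (((((((LB_zero T ((skipEmb 3).trans (Function.Embedding.refl _))).upd 0 2 1 (le_of_eq hx02)).upd 0 3 1 (le_of_eq hx04)).upd 2 0 1 (le_of_eq hx20)).upd 2 3 1 (le_of_eq hx24)).upd 3 0 2 (le_of_eq hx40)).upd 3 2 1 (le_of_eq hx42)) ![1,0,1,1] (by decide) (by decide) 0 (by decide))
      · -- 24=(1,2)
        exact False.elim (cert_false T ((skipEmb 3).trans (Function.Embedding.refl _)) (by norm_num) (fun _ => hall _) (((((((LB_zero T ((skipEmb 3).trans (Function.Embedding.refl _))).upd 0 2 1 (le_of_eq hx02)).upd 0 3 1 (le_of_eq hx04)).upd 2 0 1 (le_of_eq hx20)).upd 2 3 1 (le_of_eq hx24)).upd 3 0 2 (le_of_eq hx40)).upd 3 2 2 (le_of_eq hx42)) ![1,0,1,1] (by decide) (by decide) 0 (by decide))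
      · -- 24=(2,1)
        exact False.elim (cert_false T ((skipEmb 3).trans (Function.Embedding.refl _)) (by norm_num) (fun _ => hall _) (((((((LB_zero T ((skipEmb 3).trans (Function.Embedding.refl _))).upd 0 2 1 (le_of_eq hx02)).upd 0 3 1 (le_of_eq hx04)).upd 2 0 1 (le_of_eq hx20)).upd 2 3 2 (le_of_eq hx24)).upd 3 0 2 (le_of_eq hx40)).upd 3 2 1 (le_of_eq hx42)) ![1,0,1,1] (by decide) (by decide) 0 (by decide))
      · -- 24=(1,3)
        exact False.elim (cert_false T ((skipEmb 3).trans (Function.Embedding.refl _)) (by norm_num) (fun _ => hall _) (((((((LB_zero T ((skipEmb 3).trans (Function.Embedding.refl _))).upd 0 2 1 (le_of_eq hx02)).upd 0 3 1 (le_of_eq hx04)).upd 2 0 1 (le_of_eq hx20)).upd 2 3 1 (le_of_eq hx24)).upd 3 0 2 (le_of_eq hx40)).upd 3 2 3 (le_of_eq hx42)) ![1,0,1,1] (by decide) (by decide) 0 (by decide))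
      · -- 24=(3,1)
        exact False.elim (cert_false T ((skipEmb 3).trans (Function.Embedding.refl _)) (by norm_num) (fun _ => hall _) (((((((LB_zero T ((skipEmb 3).trans (Function.Embedding.refl _))).upd 0 2 1 (le_of_eq hx02)).upd 0 3 1 (le_of_eq hx04)).upd 2 0 1 (le_of_eq hx20)).upd 2 3 3 (le_of_eq hx24)).upd 3 0 2 (le_of_eq hx40)).upd 3 2 1 (le_of_eq hx42)) ![1,0,1,1] (by decide) (by decide) 0 (by decide))
    · -- 14=(1,1)
      exact False.elim (cert_false T ((skipEmb 2).trans (Function.Embedding.refl _)) (by norm_num) (fun _ => hall _) (((((((LB_zero T ((skipEmb 2).trans (Function.Embedding.refl _))).upd 0 3 1 (le_of_eq hx04)).upd 1 2 1 (le_of_eq hx13)).upd 1 3 1 (le_of_eq hx14)).upd 2 1 2 (le_of_eq hx31)).upd 3 0 2 (le_of_eq hx40)).upd 3 1 1 (le_of_eq hx41)) ![1,2,2,2] (by decide) (by decide) 0 (by decide))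
    · -- 14=(1,2)
      exact False.elim (cert_false T ((skipEmb 3).trans (Function.Embedding.refl _)) (by norm_num) (fun _ => hall _) (((((LB_zero T ((skipEmb 3).trans (Function.Embedding.refl _))).upd 0 3 1 (le_of_eq hx04)).upd 1 3 1 (le_of_eq hx14)).upd 3 0 2 (le_of_eq hx40)).upd 3 1 2 (le_of_eq hx41)) ![1,1,0,2] (by decide) (by decide) 0 (by decide))
    · -- 14=(2,1)
      exact False.elim (cert_false T ((skipEmb 3).trans (Function.Embedding.refl _)) (by norm_num) (fun _ => hall _) (((((LB_zero T ((skipEmb 3).trans (Function.Embedding.refl _))).upd 0 3 1 (le_of_eq hx04)).upd 1 3 2 (le_of_eq hx14)).upd 3 0 2 (le_of_eq hx40)).upd 3 1 1 (le_of_eq hx41)) ![1,2,0,2] (by decide) (by decide) 0 (by decide))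
    · -- 14=(1,3)
      exact False.elim (cert_false T ((skipEmb 3).trans (Function.Embedding.refl _)) (by norm_num) (fun _ => hall _) (((((LB_zero T ((skipEmb 3).trans (Function.Embedding.refl _))).upd 0 3 1 (le_of_eq hx04)).upd 1 3 1 (le_of_eq hx14)).upd 3 0 2 (le_of_eq hx40)).upd 3 1 3 (le_of_eq hx41)) ![1,1,0,2] (by decide) (by decide) 0 (by decide))
    · -- 14=(3,1)
      exact False.elim (cert_false T ((skipEmb 3).trans (Function.Embedding.refl _)) (by norm_num) (fun _ => hall _) (((((LB_zero T ((skipEmb 3).trans (Function.Embedding.refl _))).upd 0 3 1 (le_of_eq hx04)).upd 1 3 3 (le_of_eq hx14)).upd 3 0 2 (le_of_eq hx40)).upd 3 1 1 (le_of_eq hx41)) ![1,2,0,2] (by decide) (by decide) 0 (by decide))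
  · -- 04=(2,1)
    rcases d14 with ⟨rfl, rfl⟩ | ⟨rfl, rfl⟩ | ⟨rfl, rfl⟩ | ⟨rfl, rfl⟩ | ⟨rfl, rfl⟩ | ⟨rfl, rfl⟩
    · -- 14=(0,0)
      rcases d24 with ⟨rfl, rfl⟩ | ⟨rfl, rfl⟩ | ⟨rfl, rfl⟩ | ⟨rfl, rfl⟩ | ⟨rfl, rfl⟩ | ⟨rfl, rfl⟩
      · -- 24=(0,0)
        rcases d34 with ⟨rfl, rfl⟩ | ⟨rfl, rfl⟩ | ⟨rfl, rfl⟩ | ⟨rfl, rfl⟩ | ⟨rfl, rfl⟩ | ⟨rfl, rfl⟩
        · -- 34=(0,0)
          refine ⟨(⟨![1, 3, 2, 0, 4], ![3, 0, 2, 1, 4], by decide, by decide⟩ : Equiv.Perm (Fin 5)), T.m 1, T.w 3, Or.inr (Or.inr (Or.inr (Or.inr (Or.inr (Or.inl ?_)))))⟩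
          show T.m 1 = T.m 1 ∧ T.m 3 = 2 * T.m 1 ∧ T.m 2 = 2 * T.m 1 ∧ T.m 0 = 2 * T.m 1 ∧ T.m 4 = T.m 1 ∧ T.w 1 = 2 * T.w 3 ∧ T.w 3 = T.w 3 ∧ T.w 2 = T.w 3 ∧ T.w 0 = T.w 3 ∧ T.w 4 = 2 * T.w 3 ∧ T.a 1 1 = -4 * T.w 3 ∧ T.a 1 3 = 2 * T.w 3 ∧ T.a 1 2 = 0 ∧ T.a 1 0 = 0 ∧ T.a 1 4 = 0 ∧ T.a 3 3 = -2 * T.w 3 ∧ T.a 3 2 = T.w 3 ∧ T.a 3 0 = 0 ∧ T.a 3 4 = 0 ∧ T.a 2 2 = -2 * T.w 3 ∧ T.a 2 0 = T.w 3 ∧ T.a 2 4 = 0 ∧ T.a 0 0 = -2 * T.w 3 ∧ T.a 0 4 = 2 * T.w 3 ∧ T.a 4 4 = -4 * T.w 3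
          refine ⟨?_, ?_, ?_, ?_, ?_, ?_, ?_, ?_, ?_, ?_, ?_, ?_, ?_, ?_, ?_, ?_, ?_, ?_, ?_, ?_, ?_, ?_, ?_, ?_, ?_⟩ <;> omega
        · -- 34=(1,1)
          exact False.elim (cert_false T ((skipEmb 2).trans (Function.Embedding.refl _)) (by norm_num) (fun _ => hall _) (((((((LB_zero T ((skipEmb 2).trans (Function.Embedding.refl _))).upd 0 3 2 (le_of_eq hx04)).upd 1 2 1 (le_of_eq hx13)).upd 2 1 2 (le_of_eq hx31)).upd 2 3 1 (le_of_eq hx34)).upd 3 0 1 (le_of_eq hx40)).upd 3 2 1 (le_of_eq hx43)) ![2,1,2,2] (by decide) (by decide) 0 (by decide))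
        · -- 34=(1,2)
          exact False.elim (cert_false T ((skipEmb 2).trans (Function.Embedding.refl _)) (by norm_num) (fun _ => hall _) (((((LB_zero T ((skipEmb 2).trans (Function.Embedding.refl _))).upd 0 3 2 (le_of_eq hx04)).upd 2 3 1 (le_of_eq hx34)).upd 3 0 1 (le_of_eq hx40)).upd 3 2 2 (le_of_eq hx43)) ![2,0,1,2] (by decide) (by decide) 0 (by decide))
        · -- 34=(2,1)
          exact False.elim (cert_false T ((skipEmb 2).trans (Function.Embedding.refl _)) (by norm_num) (fun _ => hall _) (((((LB_zero T ((skipEmb 2).trans (Function.Embedding.refl _))).upd 0 3 2 (le_of_eq hx04)).upd 2 3 2 (le_of_eq hx34)).upd 3 0 1 (le_of_eq hx40)).upd 3 2 1 (le_of_eq hx43)) ![1,0,1,1] (by decide) (by decide) 0 (by decide))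
        · -- 34=(1,3)
          exact False.elim (cert_false T ((skipEmb 2).trans (Function.Embedding.refl _)) (by norm_num) (fun _ => hall _) (((((LB_zero T ((skipEmb 2).trans (Function.Embedding.refl _))).upd 1 2 1 (le_of_eq hx13)).upd 2 1 2 (le_of_eq hx31)).upd 2 3 1 (le_of_eq hx34)).upd 3 2 3 (le_of_eq hx43)) ![0,1,2,2] (by decide) (by decide) 1 (by decide))
        · -- 34=(3,1)
          exact False.elim (cert_false T ((skipEmb 2).trans (Function.Embedding.refl _)) (by norm_num) (fun _ => hall _) (((((LB_zero T ((skipEmb 2).trans (Function.Embedding.refl _))).upd 0 3 2 (le_of_eq hx04)).upd 2 3 3 (le_of_eq hx34)).upd 3 0 1 (le_of_eq hx40)).upd 3 2 1 (le_of_eq hx43)) ![1,0,1,1] (by decide) (by decide) 0 (by decide))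
      · -- 24=(1,1)
        exact False.elim (cert_false T ((skipEmb 3).trans (Function.Embedding.refl _)) (by norm_num) (fun _ => hall _) (((((((LB_zero T ((skipEmb 3).trans (Function.Embedding.refl _))).upd 0 2 1 (le_of_eq hx02)).upd 0 3 2 (le_of_eq hx04)).upd 2 0 1 (le_of_eq hx20)).upd 2 3 1 (le_of_eq hx24)).upd 3 0 1 (le_of_eq hx40)).upd 3 2 1 (le_of_eq hx42)) ![1,0,1,1] (by decide) (by decide) 0 (by decide))
      · -- 24=(1,2)
        exact False.elim (cert_false T ((skipEmb 3).trans (Function.Embedding.refl _)) (by norm_num) (fun _ => hall _) (((((((LB_zero T ((skipEmb 3).trans (Function.Embedding.refl _))).upd 0 2 1 (le_of_eq hx02)).upd 0 3 2 (le_of_eq hx04)).upd 2 0 1 (le_of_eq hx20)).upd 2 3 1 (le_of_eq hx24)).upd 3 0 1 (le_of_eq hx40)).upd 3 2 2 (le_of_eq hx42)) ![1,0,1,1] (by decide) (by decide) 0 (by decide))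
      · -- 24=(2,1)
        exact False.elim (cert_false T ((skipEmb 3).trans (Function.Embedding.refl _)) (by norm_num) (fun _ => hall _) (((((((LB_zero T ((skipEmb 3).trans (Function.Embedding.refl _))).upd 0 2 1 (le_of_eq hx02)).upd 0 3 2 (le_of_eq hx04)).upd 2 0 1 (le_of_eq hx20)).upd 2 3 2 (le_of_eq hx24)).upd 3 0 1 (le_of_eq hx40)).upd 3 2 1 (le_of_eq hx42)) ![1,0,1,1] (by decide) (by decide) 0 (by decide))
      · -- 24=(1,3)
        exact False.elim (cert_false T ((skipEmb 3).trans (Function.Embedding.refl _)) (by norm_num) (fun _ => hall _) (((((((LB_zero T ((skipEmb 3).trans (Function.Embedding.refl _))).upd 0 2 1 (le_of_eq hx02)).upd 0 3 2 (le_of_eq hx04)).upd 2 0 1 (le_of_eq hx20)).upd 2 3 1 (le_of_eq hx24)).upd 3 0 1 (le_of_eq hx40)).upd 3 2 3 (le_of_eq hx42)) ![1,0,1,1] (by decide) (by decide) 0 (by decide))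
      · -- 24=(3,1)
        exact False.elim (cert_false T ((skipEmb 3).trans (Function.Embedding.refl _)) (by norm_num) (fun _ => hall _) (((((((LB_zero T ((skipEmb 3).trans (Function.Embedding.refl _))).upd 0 2 1 (le_of_eq hx02)).upd 0 3 2 (le_of_eq hx04)).upd 2 0 1 (le_of_eq hx20)).upd 2 3 3 (le_of_eq hx24)).upd 3 0 1 (le_of_eq hx40)).upd 3 2 1 (le_of_eq hx42)) ![1,0,1,1] (by decide) (by decide) 0 (by decide))
    · -- 14=(1,1)
      exact False.elim (cert_false T ((skipEmb 2).trans (Function.Embedding.refl _)) (by norm_num) (fun _ => hall _) (((((((LB_zero T ((skipEmb 2).trans (Function.Embedding.refl _))).upd 0 3 2 (le_of_eq hx04)).upd 1 2 1 (le_of_eq hx13)).upd 1 3 1 (le_of_eq hx14)).upd 2 1 2 (le_of_eq hx31)).upd 3 0 1 (le_of_eq hx40)).upd 3 1 1 (le_of_eq hx41)) ![1,1,1,1] (by decide) (by decide) 0 (by decide))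
    · -- 14=(1,2)
      exact False.elim (cert_false T ((skipEmb 3).trans (Function.Embedding.refl _)) (by norm_num) (fun _ => hall _) (((((LB_zero T ((skipEmb 3).trans (Function.Embedding.refl _))).upd 0 3 2 (le_of_eq hx04)).upd 1 3 1 (le_of_eq hx14)).upd 3 0 1 (le_of_eq hx40)).upd 3 1 2 (le_of_eq hx41)) ![2,1,0,2] (by decide) (by decide) 0 (by decide))
    · -- 14=(2,1)
      exact False.elim (cert_false T ((skipEmb 3).trans (Function.Embedding.refl _)) (by norm_num) (fun _ => hall _) (((((LB_zero T ((skipEmb 3).trans (Function.Embedding.refl _))).upd 0 3 2 (le_of_eq hx04)).upd 1 3 2 (le_of_eq hx14)).upd 3 0 1 (le_of_eq hx40)).upd 3 1 1 (le_of_eq hx41)) ![1,1,0,1] (by decide) (by decide) 0 (by decide))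
    · -- 14=(1,3)
      exact False.elim (cert_false T ((skipEmb 3).trans (Function.Embedding.refl _)) (by norm_num) (fun _ => hall _) (((((LB_zero T ((skipEmb 3).trans (Function.Embedding.refl _))).upd 0 3 2 (le_of_eq hx04)).upd 1 3 1 (le_of_eq hx14)).upd 3 0 1 (le_of_eq hx40)).upd 3 1 3 (le_of_eq hx41)) ![1,1,0,2] (by decide) (by decide) 0 (by decide))
    · -- 14=(3,1)
      exact False.elim (cert_false T ((skipEmb 3).trans (Function.Embedding.refl _)) (by norm_num) (fun _ => hall _) (((((LB_zero T ((skipEmb 3).trans (Function.Embedding.refl _))).upd 0 3 2 (le_of_eq hx04)).upd 1 3 3 (le_of_eq hx14)).upd 3 0 1 (le_of_eq hx40)).upd 3 1 1 (le_of_eq hx41)) ![1,1,0,1] (by decide) (by decide) 0 (by decide))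
  · -- 04=(1,3)
    exact False.elim (cert_false T ((skipEmb 3).trans (Function.Embedding.refl _)) (by norm_num) (fun _ => hall _) (((((LB_zero T ((skipEmb 3).trans (Function.Embedding.refl _))).upd 0 2 1 (le_of_eq hx02)).upd 0 3 1 (le_of_eq hx04)).upd 2 0 1 (le_of_eq hx20)).upd 3 0 3 (le_of_eq hx40)) ![2,0,1,3] (by decide) (by decide) 0 (by decide))
  · -- 04=(3,1)
    exact False.elim (cert_false T ((skipEmb 3).trans (Function.Embedding.refl _)) (by norm_num) (fun _ => hall _) (((((LB_zero T ((skipEmb 3).trans (Function.Embedding.refl _))).upd 0 2 1 (le_of_eq hx02)).upd 0 3 3 (le_of_eq hx04)).upd 2 0 1 (le_of_eq hx20)).upd 3 0 1 (le_of_eq hx40)) ![2,0,1,1] (by decide) (by decide) 0 (by decide))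

theorem case215 (T : NumericalType 5) (hall : ∀ i, T.IsMinusTwo i) (d : SData T)
    (h01 : N T (Function.Embedding.refl _) 0 1 = 0) (h10 : N T (Function.Embedding.refl _) 1 0 = 0)
    (h02 : N T (Function.Embedding.refl _) 0 2 = 1) (h20 : N T (Function.Embedding.refl _) 2 0 = 1)
    (h12 : N T (Function.Embedding.refl _) 1 2 = 0) (h21 : N T (Function.Embedding.refl _) 2 1 = 0)
    (h03 : N T (Function.Embedding.refl _) 0 3 = 0) (h30 : N T (Function.Embedding.refl _) 3 0 = 0)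
    (h13 : N T (Function.Embedding.refl _) 1 3 = 1) (h31 : N T (Function.Embedding.refl _) 3 1 = 2) :
    Goal T := by
  unfold Goal
  have hd := d
  obtain ⟨x01, x02, x03, x04, x10, x12, x13, x14, x20, x21, x23, x24, x30, x31, x32, x34, x40, x41, x42, x43, hx01, hx02, hx03, hx04, hx10, hx12, hx13, hx14, hx20, hx21, hx23, hx24, hx30, hx31, hx32, hx34, hx40, hx41, hx42, hx43, hw0, hm0, hw1, hm1, hw2, hm2, hw3, hm3, hw4, hm4, a00, a01, a02, a03, a04, a11, a10, a12, a13, a14, a22, a20, a21, a23, a24, a33, a30, a31, a32, a34, a44, a40, a41, a42, a43, wN01, wN02, wN12, wN03, wN13, wN23, wN04, wN14, wN24, wN34, e0, e1, e2, e3, e4, d01, d02, d12, d03, d13, d23, d04, d14, d24, d34⟩ := d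
  obtain rfl : x01 = 0 := hx01.trans h01
  obtain rfl : x10 = 0 := hx10.trans h10
  obtain rfl : x02 = 1 := hx02.trans h02
  obtain rfl : x20 = 1 := hx20.trans h20
  obtain rfl : x12 = 0 := hx12.trans h12
  obtain rfl : x21 = 0 := hx21.trans h21
  obtain rfl : x03 = 0 := hx03.trans h03
  obtain rfl : x30 = 0 := hx30.trans h30
  obtain rfl : x13 = 1 := hx13.trans h13
  obtain rfl : x31 = 2 := hx31.trans h31
  rcases d23 with ⟨rfl, rfl⟩ | ⟨rfl, rfl⟩ | ⟨rfl, rfl⟩ | ⟨rfl, rfl⟩ | ⟨rfl, rfl⟩ | ⟨rfl, rfl⟩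
  · -- 23=(0,0)
    exact case216 T hall hd hx01.symm hx10.symm hx02.symm hx20.symm hx12.symm hx21.symm hx03.symm hx30.symm hx13.symm hx31.symm hx23.symm hx32.symm
  · -- 23=(1,1)
    exact case217 T hall hd hx01.symm hx10.symm hx02.symm hx20.symm hx12.symm hx21.symm hx03.symm hx30.symm hx13.symm hx31.symm hx23.symm hx32.symm
  · -- 23=(1,2)
    exact False.elim (cert_false T ((skipEmb 4).trans (Function.Embedding.refl _)) (by norm_num) (fun _ => hall _) (((((LB_zero T ((skipEmb 4).trans (Function.Embedding.refl _))).upd 1 3 1 (le_of_eq hx13)).upd 2 3 1 (le_of_eq hx23)).upd 3 1 2 (le_of_eq hx31)).upd 3 2 2 (le_of_eq hx32)) ![0,1,1,2] (by decide) (by decide) 1 (by decide))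
  · -- 23=(2,1)
    exact False.elim (cert_false T ((skipEmb 4).trans (Function.Embedding.refl _)) (by norm_num) (fun _ => hall _) (((((LB_zero T ((skipEmb 4).trans (Function.Embedding.refl _))).upd 1 3 1 (le_of_eq hx13)).upd 2 3 2 (le_of_eq hx23)).upd 3 1 2 (le_of_eq hx31)).upd 3 2 1 (le_of_eq hx32)) ![0,1,2,2] (by decide) (by decide) 1 (by decide))
  · -- 23=(1,3)
    exact False.elim (cert_false T ((skipEmb 4).trans (Function.Embedding.refl _)) (by norm_num) (fun _ => hall _) (((((LB_zero T ((skipEmb 4).trans (Function.Embedding.refl _))).upd 1 3 1 (le_of_eq hx13)).upd 2 3 1 (le_of_eq hx23)).upd 3 1 2 (le_of_eq hx31)).upd 3 2 3 (le_of_eq hx32)) ![0,1,1,2] (by decide) (by decide) 1 (by decide))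
  · -- 23=(3,1)
    exact False.elim (cert_false T ((skipEmb 4).trans (Function.Embedding.refl _)) (by norm_num) (fun _ => hall _) (((((LB_zero T ((skipEmb 4).trans (Function.Embedding.refl _))).upd 1 3 1 (le_of_eq hx13)).upd 2 3 3 (le_of_eq hx23)).upd 3 1 2 (le_of_eq hx31)).upd 3 2 1 (le_of_eq hx32)) ![0,1,2,2] (by decide) (by decide) 1 (by decide))

theorem case268 (T : NumericalType 5) (hall : ∀ i, T.IsMinusTwo i) (d : SData T)
    (h01 : N T (Function.Embedding.refl _) 0 1 = 0) (h10 : N T (Function.Embedding.refl _) 1 0 = 0)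
    (h02 : N T (Function.Embedding.refl _) 0 2 = 1) (h20 : N T (Function.Embedding.refl _) 2 0 = 1)
    (h12 : N T (Function.Embedding.refl _) 1 2 = 1) (h21 : N T (Function.Embedding.refl _) 2 1 = 1)
    (h03 : N T (Function.Embedding.refl _) 0 3 = 2) (h30 : N T (Function.Embedding.refl _) 3 0 = 1)
    (h13 : N T (Function.Embedding.refl _) 1 3 = 0) (h31 : N T (Function.Embedding.refl _) 3 1 = 0)
    (h23 : N T (Function.Embedding.refl _) 2 3 = 0) (h32 : N T (Function.Embedding.refl _) 3 2 = 0)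
    (h04 : N T (Function.Embedding.refl _) 0 4 = 0) (h40 : N T (Function.Embedding.refl _) 4 0 = 0) :
    Goal T := by
  unfold Goal
  have hd := d
  obtain ⟨x01, x02, x03, x04, x10, x12, x13, x14, x20, x21, x23, x24, x30, x31, x32, x34, x40, x41, x42, x43, hx01, hx02, hx03, hx04, hx10, hx12, hx13, hx14, hx20, hx21, hx23, hx24, hx30, hx31, hx32, hx34, hx40, hx41, hx42, hx43, hw0, hm0, hw1, hm1, hw2, hm2, hw3, hm3, hw4, hm4, a00, a01, a02, a03, a04, a11, a10, a12, a13, a14, a22, a20, a21, a23, a24, a33, a30, a31, a32, a34, a44, a40, a41, a42, a43, wN01, wN02, wN12, wN03, wN13, wN23, wN04, wN14, wN24, wN34, e0, e1, e2, e3, e4, d01, d02, d12, d03, d13, d23, d04, d14, d24, d34⟩ := d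
  obtain rfl : x01 = 0 := hx01.trans h01
  obtain rfl : x10 = 0 := hx10.trans h10
  obtain rfl : x02 = 1 := hx02.trans h02
  obtain rfl : x20 = 1 := hx20.trans h20
  obtain rfl : x12 = 1 := hx12.trans h12
  obtain rfl : x21 = 1 := hx21.trans h21
  obtain rfl : x03 = 2 := hx03.trans h03
  obtain rfl : x30 = 1 := hx30.trans h30
  obtain rfl : x13 = 0 := hx13.trans h13
  obtain rfl : x31 = 0 := hx31.trans h31
  obtain rfl : x23 = 0 := hx23.trans h23
  obtain rfl : x32 = 0 := hx32.trans h32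
  obtain rfl : x04 = 0 := hx04.trans h04
  obtain rfl : x40 = 0 := hx40.trans h40
  rcases d14 with ⟨rfl, rfl⟩ | ⟨rfl, rfl⟩ | ⟨rfl, rfl⟩ | ⟨rfl, rfl⟩ | ⟨rfl, rfl⟩ | ⟨rfl, rfl⟩
  · -- 14=(0,0)
    rcases d24 with ⟨rfl, rfl⟩ | ⟨rfl, rfl⟩ | ⟨rfl, rfl⟩ | ⟨rfl, rfl⟩ | ⟨rfl, rfl⟩ | ⟨rfl, rfl⟩
    · -- 24=(0,0)
      rcases d34 with ⟨rfl, rfl⟩ | ⟨rfl, rfl⟩ | ⟨rfl, rfl⟩ | ⟨rfl, rfl⟩ | ⟨rfl, rfl⟩ | ⟨rfl, rfl⟩
      · -- 34=(0,0)
        exfalso; omega
      · -- 34=(1,1)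
        refine ⟨(⟨![1, 2, 0, 3, 4], ![2, 0, 1, 3, 4], by decide, by decide⟩ : Equiv.Perm (Fin 5)), T.m 1, T.w 1, Or.inr (Or.inl ?_)⟩
        show T.m 1 = T.m 1 ∧ T.m 2 = 2 * T.m 1 ∧ T.m 0 = 3 * T.m 1 ∧ T.m 3 = 2 * T.m 1 ∧ T.m 4 = T.m 1 ∧ T.w 1 = T.w 1 ∧ T.w 2 = T.w 1 ∧ T.w 0 = T.w 1 ∧ T.w 3 = 2 * T.w 1 ∧ T.w 4 = 2 * T.w 1 ∧ T.a 1 1 = -2 * T.w 1 ∧ T.a 1 2 = T.w 1 ∧ T.a 1 0 = 0 ∧ T.a 1 3 = 0 ∧ T.a 1 4 = 0 ∧ T.a 2 2 = -2 * T.w 1 ∧ T.a 2 0 = T.w 1 ∧ T.a 2 3 = 0 ∧ T.a 2 4 = 0 ∧ T.a 0 0 = -2 * T.w 1 ∧ T.a 0 3 = 2 * T.w 1 ∧ T.a 0 4 = 0 ∧ T.a 3 3 = -4 * T.w 1 ∧ T.a 3 4 = 2 * T.w 1 ∧ T.a 4 4 = -4 * T.w 1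
        refine ⟨?_, ?_, ?_, ?_, ?_, ?_, ?_, ?_, ?_, ?_, ?_, ?_, ?_, ?_, ?_, ?_, ?_, ?_, ?_, ?_, ?_, ?_, ?_, ?_, ?_⟩ <;> omega
      · -- 34=(1,2)
        exact False.elim (cert_false T ((skipEmb 2).trans (Function.Embedding.refl _)) (by norm_num) (fun _ => hall _) (((((LB_zero T ((skipEmb 2).trans (Function.Embedding.refl _))).upd 0 2 2 (le_of_eq hx03)).upd 2 0 1 (le_of_eq hx30)).upd 2 3 1 (le_of_eq hx34)).upd 3 2 2 (le_of_eq hx43)) ![1,0,1,1] (by decide) (by decide) 0 (by decide))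
      · -- 34=(2,1)
        exact False.elim (cert_false T ((skipEmb 2).trans (Function.Embedding.refl _)) (by norm_num) (fun _ => hall _) (((((LB_zero T ((skipEmb 2).trans (Function.Embedding.refl _))).upd 0 2 2 (le_of_eq hx03)).upd 2 0 1 (le_of_eq hx30)).upd 2 3 2 (le_of_eq hx34)).upd 3 2 1 (le_of_eq hx43)) ![2,0,2,1] (by decide) (by decide) 0 (by decide))
      · -- 34=(1,3)
        exact False.elim (cert_false T ((skipEmb 2).trans (Function.Embedding.refl _)) (by norm_num) (fun _ => hall _) (((((LB_zero T ((skipEmb 2).trans (Function.Embedding.refl _))).upd 0 2 2 (le_of_eq hx03)).upd 2 0 1 (le_of_eq hx30)).upd 2 3 1 (le_of_eq hx34)).upd 3 2 3 (le_of_eq hx43)) ![1,0,1,1] (by decide) (by decide) 0 (by decide))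
      · -- 34=(3,1)
        exact False.elim (cert_false T ((skipEmb 2).trans (Function.Embedding.refl _)) (by norm_num) (fun _ => hall _) (((((LB_zero T ((skipEmb 2).trans (Function.Embedding.refl _))).upd 0 2 2 (le_of_eq hx03)).upd 2 0 1 (le_of_eq hx30)).upd 2 3 3 (le_of_eq hx34)).upd 3 2 1 (le_of_eq hx43)) ![1,0,2,1] (by decide) (by decide) 0 (by decide))
    · -- 24=(1,1)
      rcases d34 with ⟨rfl, rfl⟩ | ⟨rfl, rfl⟩ | ⟨rfl, rfl⟩ | ⟨rfl, rfl⟩ | ⟨rfl, rfl⟩ | ⟨rfl, rfl⟩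
      · -- 34=(0,0)
        refine ⟨(⟨![3, 0, 2, 1, 4], ![1, 3, 2, 0, 4], by decide, by decide⟩ : Equiv.Perm (Fin 5)), T.m 3, T.w 0, Or.inr (Or.inr (Or.inr (Or.inr (Or.inr (Or.inr (Or.inr (Or.inl ?_)))))))⟩
        show T.m 3 = T.m 3 ∧ T.m 0 = 2 * T.m 3 ∧ T.m 2 = 2 * T.m 3 ∧ T.m 1 = T.m 3 ∧ T.m 4 = T.m 3 ∧ T.w 3 = 2 * T.w 0 ∧ T.w 0 = T.w 0 ∧ T.w 2 = T.w 0 ∧ T.w 1 = T.w 0 ∧ T.w 4 = T.w 0 ∧ T.a 3 3 = -4 * T.w 0 ∧ T.a 3 0 = 2 * T.w 0 ∧ T.a 3 2 = 0 ∧ T.a 3 1 = 0 ∧ T.a 3 4 = 0 ∧ T.a 0 0 = -2 * T.w 0 ∧ T.a 0 2 = T.w 0 ∧ T.a 0 1 = 0 ∧ T.a 0 4 = 0 ∧ T.a 2 2 = -2 * T.w 0 ∧ T.a 2 1 = T.w 0 ∧ T.a 2 4 = T.w 0 ∧ T.a 1 1 = -2 * T.w 0 ∧ T.a 1 4 = 0 ∧ T.a 4 4 = -2 * T.w 0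
        refine ⟨?_, ?_, ?_, ?_, ?_, ?_, ?_, ?_, ?_, ?_, ?_, ?_, ?_, ?_, ?_, ?_, ?_, ?_, ?_, ?_, ?_, ?_, ?_, ?_, ?_⟩ <;> omega
      · -- 34=(1,1)
        exact False.elim (cert_false T ((skipEmb 1).trans (Function.Embedding.refl _)) (by norm_num) (fun _ => hall _) (((((((((LB_zero T ((skipEmb 1).trans (Function.Embedding.refl _))).upd 0 1 1 (le_of_eq hx02)).upd 0 2 2 (le_of_eq hx03)).upd 1 0 1 (le_of_eq hx20)).upd 1 3 1 (le_of_eq hx24)).upd 2 0 1 (le_of_eq hx30)).upd 2 3 1 (le_of_eq hx34)).upd 3 1 1 (le_of_eq hx42)).upd 3 2 1 (le_of_eq hx43)) ![1,1,1,1] (by decide) (by decide) 0 (by decide))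
      · -- 34=(1,2)
        exact False.elim (cert_false T ((skipEmb 2).trans (Function.Embedding.refl _)) (by norm_num) (fun _ => hall _) (((((LB_zero T ((skipEmb 2).trans (Function.Embedding.refl _))).upd 0 2 2 (le_of_eq hx03)).upd 2 0 1 (le_of_eq hx30)).upd 2 3 1 (le_of_eq hx34)).upd 3 2 2 (le_of_eq hx43)) ![1,0,1,1] (by decide) (by decide) 0 (by decide))
      · -- 34=(2,1)
        exact False.elim (cert_false T ((skipEmb 2).trans (Function.Embedding.refl _)) (by norm_num) (fun _ => hall _) (((((LB_zero T ((skipEmb 2).trans (Function.Embedding.refl _))).upd 0 2 2 (le_of_eq hx03)).upd 2 0 1 (le_of_eq hx30)).upd 2 3 2 (le_of_eq hx34)).upd 3 2 1 (le_of_eq hx43)) ![2,0,2,1] (by decide) (by decide) 0 (by decide))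
      · -- 34=(1,3)
        exact False.elim (cert_false T ((skipEmb 2).trans (Function.Embedding.refl _)) (by norm_num) (fun _ => hall _) (((((LB_zero T ((skipEmb 2).trans (Function.Embedding.refl _))).upd 0 2 2 (le_of_eq hx03)).upd 2 0 1 (le_of_eq hx30)).upd 2 3 1 (le_of_eq hx34)).upd 3 2 3 (le_of_eq hx43)) ![1,0,1,1] (by decide) (by decide) 0 (by decide))
      · -- 34=(3,1)
        exact False.elim (cert_false T ((skipEmb 2).trans (Function.Embedding.refl _)) (by norm_num) (fun _ => hall _) (((((LB_zero T ((skipEmb 2).trans (Function.Embedding.refl _))).upd 0 2 2 (le_of_eq hx03)).upd 2 0 1 (le_of_eq hx30)).upd 2 3 3 (le_of_eq hx34)).upd 3 2 1 (le_of_eq hx43)) ![1,0,2,1] (by decide) (by decide) 0 (by decide))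
    · -- 24=(1,2)
      exact False.elim (cert_false T ((skipEmb 3).trans (Function.Embedding.refl _)) (by norm_num) (fun _ => hall _) (((((((LB_zero T ((skipEmb 3).trans (Function.Embedding.refl _))).upd 0 2 1 (le_of_eq hx02)).upd 1 2 1 (le_of_eq hx12)).upd 2 0 1 (le_of_eq hx20)).upd 2 1 1 (le_of_eq hx21)).upd 2 3 1 (le_of_eq hx24)).upd 3 2 2 (le_of_eq hx42)) ![1,1,2,2] (by decide) (by decide) 0 (by decide))
    · -- 24=(2,1)
      exact False.elim (cert_false T ((skipEmb 3).trans (Function.Embedding.refl _)) (by norm_num) (fun _ => hall _) (((((((LB_zero T ((skipEmb 3).trans (Function.Embedding.refl _))).upd 0 2 1 (le_of_eq hx02)).upd 1 2 1 (le_of_eq hx12)).upd 2 0 1 (le_of_eq hx20)).upd 2 1 1 (le_of_eq hx21)).upd 2 3 2 (le_of_eq hx24)).upd 3 2 1 (le_of_eq hx42)) ![1,1,2,1] (by decide) (by decide) 0 (by decide))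
    · -- 24=(1,3)
      exact False.elim (cert_false T ((skipEmb 3).trans (Function.Embedding.refl _)) (by norm_num) (fun _ => hall _) (((((((LB_zero T ((skipEmb 3).trans (Function.Embedding.refl _))).upd 0 2 1 (le_of_eq hx02)).upd 1 2 1 (le_of_eq hx12)).upd 2 0 1 (le_of_eq hx20)).upd 2 1 1 (le_of_eq hx21)).upd 2 3 1 (le_of_eq hx24)).upd 3 2 3 (le_of_eq hx42)) ![1,1,2,2] (by decide) (by decide) 0 (by decide))
    · -- 24=(3,1)
      exact False.elim (cert_false T ((skipEmb 3).trans (Function.Embedding.refl _)) (by norm_num) (fun _ => hall _) (((((LB_zero T ((skipEmb 3).trans (Function.Embedding.refl _))).upd 1 2 1 (le_of_eq hx12)).upd 2 1 1 (le_of_eq hx21)).upd 2 3 3 (le_of_eq hx24)).upd 3 2 1 (le_of_eq hx42)) ![0,1,2,1] (by decide) (by decide) 1 (by decide))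
  · -- 14=(1,1)
    rcases d24 with ⟨rfl, rfl⟩ | ⟨rfl, rfl⟩ | ⟨rfl, rfl⟩ | ⟨rfl, rfl⟩ | ⟨rfl, rfl⟩ | ⟨rfl, rfl⟩
    · -- 24=(0,0)
      rcases d34 with ⟨rfl, rfl⟩ | ⟨rfl, rfl⟩ | ⟨rfl, rfl⟩ | ⟨rfl, rfl⟩ | ⟨rfl, rfl⟩ | ⟨rfl, rfl⟩
      · -- 34=(0,0)
        exfalso; omega
      · -- 34=(1,1)
        exfalso; omega
      · -- 34=(1,2)
        exact False.elim (cert_false T ((skipEmb 2).trans (Function.Embedding.refl _)) (by norm_num) (fun _ => hall _) (((((LB_zero T ((skipEmb 2).trans (Function.Embedding.refl _))).upd 0 2 2 (le_of_eq hx03)).upd 2 0 1 (le_of_eq hx30)).upd 2 3 1 (le_of_eq hx34)).upd 3 2 2 (le_of_eq hx43)) ![1,0,1,1] (by decide) (by decide) 0 (by decide))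
      · -- 34=(2,1)
        exact False.elim (cert_false T ((skipEmb 2).trans (Function.Embedding.refl _)) (by norm_num) (fun _ => hall _) (((((LB_zero T ((skipEmb 2).trans (Function.Embedding.refl _))).upd 0 2 2 (le_of_eq hx03)).upd 2 0 1 (le_of_eq hx30)).upd 2 3 2 (le_of_eq hx34)).upd 3 2 1 (le_of_eq hx43)) ![2,0,2,1] (by decide) (by decide) 0 (by decide))
      · -- 34=(1,3)
        exact False.elim (cert_false T ((skipEmb 2).trans (Function.Embedding.refl _)) (by norm_num) (fun _ => hall _) (((((LB_zero T ((skipEmb 2).trans (Function.Embedding.refl _))).upd 0 2 2 (le_of_eq hx03)).upd 2 0 1 (le_of_eq hx30)).upd 2 3 1 (le_of_eq hx34)).upd 3 2 3 (le_of_eq hx43)) ![1,0,1,1] (by decide) (by decide) 0 (by decide))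
      · -- 34=(3,1)
        exact False.elim (cert_false T ((skipEmb 2).trans (Function.Embedding.refl _)) (by norm_num) (fun _ => hall _) (((((LB_zero T ((skipEmb 2).trans (Function.Embedding.refl _))).upd 0 2 2 (le_of_eq hx03)).upd 2 0 1 (le_of_eq hx30)).upd 2 3 3 (le_of_eq hx34)).upd 3 2 1 (le_of_eq hx43)) ![1,0,2,1] (by decide) (by decide) 0 (by decide))
    · -- 24=(1,1)
      exact False.elim (cert_false T ((skipEmb 3).trans (Function.Embedding.refl _)) (by norm_num) (fun _ => hall _) (((((((LB_zero T ((skipEmb 3).trans (Function.Embedding.refl _))).upd 1 2 1 (le_of_eq hx12)).upd 1 3 1 (le_of_eq hx14)).upd 2 1 1 (le_of_eq hx21)).upd 2 3 1 (le_of_eq hx24)).upd 3 1 1 (le_of_eq hx41)).upd 3 2 1 (le_of_eq hx42)) ![0,1,1,1] (by decide) (by decide) 1 (by decide))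
    · -- 24=(1,2)
      exact False.elim (cert_false T ((skipEmb 3).trans (Function.Embedding.refl _)) (by norm_num) (fun _ => hall _) (((((((LB_zero T ((skipEmb 3).trans (Function.Embedding.refl _))).upd 1 2 1 (le_of_eq hx12)).upd 1 3 1 (le_of_eq hx14)).upd 2 1 1 (le_of_eq hx21)).upd 2 3 1 (le_of_eq hx24)).upd 3 1 1 (le_of_eq hx41)).upd 3 2 2 (le_of_eq hx42)) ![0,1,1,1] (by decide) (by decide) 1 (by decide))
    · -- 24=(2,1)
      exact False.elim (cert_false T ((skipEmb 3).trans (Function.Embedding.refl _)) (by norm_num) (fun _ => hall _) (((((((LB_zero T ((skipEmb 3).trans (Function.Embedding.refl _))).upd 1 2 1 (le_of_eq hx12)).upd 1 3 1 (le_of_eq hx14)).upd 2 1 1 (le_of_eq hx21)).upd 2 3 2 (le_of_eq hx24)).upd 3 1 1 (le_of_eq hx41)).upd 3 2 1 (le_of_eq hx42)) ![0,1,1,1] (by decide) (by decide) 1 (by decide))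
    · -- 24=(1,3)
      exact False.elim (cert_false T ((skipEmb 3).trans (Function.Embedding.refl _)) (by norm_num) (fun _ => hall _) (((((((LB_zero T ((skipEmb 3).trans (Function.Embedding.refl _))).upd 1 2 1 (le_of_eq hx12)).upd 1 3 1 (le_of_eq hx14)).upd 2 1 1 (le_of_eq hx21)).upd 2 3 1 (le_of_eq hx24)).upd 3 1 1 (le_of_eq hx41)).upd 3 2 3 (le_of_eq hx42)) ![0,1,1,1] (by decide) (by decide) 1 (by decide))
    · -- 24=(3,1)
      exact False.elim (cert_false T ((skipEmb 3).trans (Function.Embedding.refl _)) (by norm_num) (fun _ => hall _) (((((((LB_zero T ((skipEmb 3).trans (Function.Embedding.refl _))).upd 1 2 1 (le_of_eq hx12)).upd 1 3 1 (le_of_eq hx14)).upd 2 1 1 (le_of_eq hx21)).upd 2 3 3 (le_of_eq hx24)).upd 3 1 1 (le_of_eq hx41)).upd 3 2 1 (le_of_eq hx42)) ![0,1,1,1] (by decide) (by decide) 1 (by decide))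
  · -- 14=(1,2)
    rcases d24 with ⟨rfl, rfl⟩ | ⟨rfl, rfl⟩ | ⟨rfl, rfl⟩ | ⟨rfl, rfl⟩ | ⟨rfl, rfl⟩ | ⟨rfl, rfl⟩
    · -- 24=(0,0)
      rcases d34 with ⟨rfl, rfl⟩ | ⟨rfl, rfl⟩ | ⟨rfl, rfl⟩ | ⟨rfl, rfl⟩ | ⟨rfl, rfl⟩ | ⟨rfl, rfl⟩
      · -- 34=(0,0)
        refine ⟨(⟨![4, 1, 2, 0, 3], ![3, 1, 2, 4, 0], by decide, by decide⟩ : Equiv.Perm (Fin 5)), T.m 3, T.w 4, Or.inr (Or.inr (Or.inr (Or.inl ?_)))⟩
        show T.m 4 = 2 * T.m 3 ∧ T.m 1 = 2 * T.m 3 ∧ T.m 2 = 2 * T.m 3 ∧ T.m 0 = 2 * T.m 3 ∧ T.m 3 = T.m 3 ∧ T.w 4 = T.w 4 ∧ T.w 1 = 2 * T.w 4 ∧ T.w 2 = 2 * T.w 4 ∧ T.w 0 = 2 * T.w 4 ∧ T.w 3 = 4 * T.w 4 ∧ T.a 4 4 = -2 * T.w 4 ∧ T.a 4 1 = 2 * T.w 4 ∧ T.a 4 2 = 0 ∧ T.a 4 0 = 0 ∧ T.a 4 3 = 0 ∧ T.a 1 1 = -4 * T.w 4 ∧ T.a 1 2 = 2 * T.w 4 ∧ T.a 1 0 = 0 ∧ T.a 1 3 = 0 ∧ T.a 2 2 = -4 * T.w 4 ∧ T.a 2 0 = 2 * T.w 4 ∧ T.a 2 3 = 0 ∧ T.a 0 0 = -4 * T.w 4 ∧ T.a 0 3 = 4 * T.w 4 ∧ T.a 3 3 = -8 * T.w 4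
        refine ⟨?_, ?_, ?_, ?_, ?_, ?_, ?_, ?_, ?_, ?_, ?_, ?_, ?_, ?_, ?_, ?_, ?_, ?_, ?_, ?_, ?_, ?_, ?_, ?_, ?_⟩ <;> omega
      · -- 34=(1,1)
        exact False.elim (cert_false T ((skipEmb 2).trans (Function.Embedding.refl _)) (by norm_num) (fun _ => hall _) (((((((LB_zero T ((skipEmb 2).trans (Function.Embedding.refl _))).upd 0 2 2 (le_of_eq hx03)).upd 1 3 1 (le_of_eq hx14)).upd 2 0 1 (le_of_eq hx30)).upd 2 3 1 (le_of_eq hx34)).upd 3 1 2 (le_of_eq hx41)).upd 3 2 1 (le_of_eq hx43)) ![2,1,2,2] (by decide) (by decide) 0 (by decide))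
      · -- 34=(1,2)
        exact False.elim (cert_false T ((skipEmb 2).trans (Function.Embedding.refl _)) (by norm_num) (fun _ => hall _) (((((LB_zero T ((skipEmb 2).trans (Function.Embedding.refl _))).upd 0 2 2 (le_of_eq hx03)).upd 2 0 1 (le_of_eq hx30)).upd 2 3 1 (le_of_eq hx34)).upd 3 2 2 (le_of_eq hx43)) ![1,0,1,1] (by decide) (by decide) 0 (by decide))
      · -- 34=(2,1)
        exact False.elim (cert_false T ((skipEmb 2).trans (Function.Embedding.refl _)) (by norm_num) (fun _ => hall _) (((((LB_zero T ((skipEmb 2).trans (Function.Embedding.refl _))).upd 1 3 1 (le_of_eq hx14)).upd 2 3 2 (le_of_eq hx34)).upd 3 1 2 (le_of_eq hx41)).upd 3 2 1 (le_of_eq hx43)) ![0,1,2,2] (by decide) (by decide) 1 (by decide))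
      · -- 34=(1,3)
        exact False.elim (cert_false T ((skipEmb 2).trans (Function.Embedding.refl _)) (by norm_num) (fun _ => hall _) (((((LB_zero T ((skipEmb 2).trans (Function.Embedding.refl _))).upd 0 2 2 (le_of_eq hx03)).upd 2 0 1 (le_of_eq hx30)).upd 2 3 1 (le_of_eq hx34)).upd 3 2 3 (le_of_eq hx43)) ![1,0,1,1] (by decide) (by decide) 0 (by decide))
      · -- 34=(3,1)
        exact False.elim (cert_false T ((skipEmb 2).trans (Function.Embedding.refl _)) (by norm_num) (fun _ => hall _) (((((LB_zero T ((skipEmb 2).trans (Function.Embedding.refl _))).upd 1 3 1 (le_of_eq hx14)).upd 2 3 3 (le_of_eq hx34)).upd 3 1 2 (le_of_eq hx41)).upd 3 2 1 (le_of_eq hx43)) ![0,1,2,2] (by decide) (by decide) 1 (by decide))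
    · -- 24=(1,1)
      exact False.elim (cert_false T ((skipEmb 3).trans (Function.Embedding.refl _)) (by norm_num) (fun _ => hall _) (((((((LB_zero T ((skipEmb 3).trans (Function.Embedding.refl _))).upd 1 2 1 (le_of_eq hx12)).upd 1 3 1 (le_of_eq hx14)).upd 2 1 1 (le_of_eq hx21)).upd 2 3 1 (le_of_eq hx24)).upd 3 1 2 (le_of_eq hx41)).upd 3 2 1 (le_of_eq hx42)) ![0,1,1,1] (by decide) (by decide) 1 (by decide))
    · -- 24=(1,2)
      exact False.elim (cert_false T ((skipEmb 3).trans (Function.Embedding.refl _)) (by norm_num) (fun _ => hall _) (((((((LB_zero T ((skipEmb 3).trans (Function.Embedding.refl _))).upd 1 2 1 (le_of_eq hx12)).upd 1 3 1 (le_of_eq hx14)).upd 2 1 1 (le_of_eq hx21)).upd 2 3 1 (le_of_eq hx24)).upd 3 1 2 (le_of_eq hx41)).upd 3 2 2 (le_of_eq hx42)) ![0,1,1,1] (by decide) (by decide) 1 (by decide))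
    · -- 24=(2,1)
      exact False.elim (cert_false T ((skipEmb 3).trans (Function.Embedding.refl _)) (by norm_num) (fun _ => hall _) (((((((LB_zero T ((skipEmb 3).trans (Function.Embedding.refl _))).upd 1 2 1 (le_of_eq hx12)).upd 1 3 1 (le_of_eq hx14)).upd 2 1 1 (le_of_eq hx21)).upd 2 3 2 (le_of_eq hx24)).upd 3 1 2 (le_of_eq hx41)).upd 3 2 1 (le_of_eq hx42)) ![0,1,1,1] (by decide) (by decide) 1 (by decide))
    · -- 24=(1,3)
      exact False.elim (cert_false T ((skipEmb 3).trans (Function.Embedding.refl _)) (by norm_num) (fun _ => hall _) (((((((LB_zero T ((skipEmb 3).trans (Function.Embedding.refl _))).upd 1 2 1 (le_of_eq hx12)).upd 1 3 1 (le_of_eq hx14)).upd 2 1 1 (le_of_eq hx21)).upd 2 3 1 (le_of_eq hx24)).upd 3 1 2 (le_of_eq hx41)).upd 3 2 3 (le_of_eq hx42)) ![0,1,1,1] (by decide) (by decide) 1 (by decide))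
    · -- 24=(3,1)
      exact False.elim (cert_false T ((skipEmb 3).trans (Function.Embedding.refl _)) (by norm_num) (fun _ => hall _) (((((((LB_zero T ((skipEmb 3).trans (Function.Embedding.refl _))).upd 1 2 1 (le_of_eq hx12)).upd 1 3 1 (le_of_eq hx14)).upd 2 1 1 (le_of_eq hx21)).upd 2 3 3 (le_of_eq hx24)).upd 3 1 2 (le_of_eq hx41)).upd 3 2 1 (le_of_eq hx42)) ![0,1,1,1] (by decide) (by decide) 1 (by decide))
  · -- 14=(2,1)
    rcases d24 with ⟨rfl, rfl⟩ | ⟨rfl, rfl⟩ | ⟨rfl, rfl⟩ | ⟨rfl, rfl⟩ | ⟨rfl, rfl⟩ | ⟨rfl, rfl⟩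
    · -- 24=(0,0)
      rcases d34 with ⟨rfl, rfl⟩ | ⟨rfl, rfl⟩ | ⟨rfl, rfl⟩ | ⟨rfl, rfl⟩ | ⟨rfl, rfl⟩ | ⟨rfl, rfl⟩
      · -- 34=(0,0)
        refine ⟨(⟨![3, 0, 2, 1, 4], ![1, 3, 2, 0, 4], by decide, by decide⟩ : Equiv.Perm (Fin 5)), T.m 3, T.w 0, Or.inr (Or.inr (Or.inr (Or.inr (Or.inr (Or.inl ?_)))))⟩
        show T.m 3 = T.m 3 ∧ T.m 0 = 2 * T.m 3 ∧ T.m 2 = 2 * T.m 3 ∧ T.m 1 = 2 * T.m 3 ∧ T.m 4 = T.m 3 ∧ T.w 3 = 2 * T.w 0 ∧ T.w 0 = T.w 0 ∧ T.w 2 = T.w 0 ∧ T.w 1 = T.w 0 ∧ T.w 4 = 2 * T.w 0 ∧ T.a 3 3 = -4 * T.w 0 ∧ T.a 3 0 = 2 * T.w 0 ∧ T.a 3 2 = 0 ∧ T.a 3 1 = 0 ∧ T.a 3 4 = 0 ∧ T.a 0 0 = -2 * T.w 0 ∧ T.a 0 2 = T.w 0 ∧ T.a 0 1 = 0 ∧ T.a 0 4 = 0 ∧ T.a 2 2 = -2 * T.w 0 ∧ T.a 2 1 = T.w 0 ∧ T.a 2 4 = 0 ∧ T.a 1 1 = -2 * T.w 0 ∧ T.a 1 4 = 2 * T.w 0 ∧ T.a 4 4 = -4 * T.w 0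
        refine ⟨?_, ?_, ?_, ?_, ?_, ?_, ?_, ?_, ?_, ?_, ?_, ?_, ?_, ?_, ?_, ?_, ?_, ?_, ?_, ?_, ?_, ?_, ?_, ?_, ?_⟩ <;> omega
      · -- 34=(1,1)
        exact False.elim (cert_false T ((skipEmb 2).trans (Function.Embedding.refl _)) (by norm_num) (fun _ => hall _) (((((((LB_zero T ((skipEmb 2).trans (Function.Embedding.refl _))).upd 0 2 2 (le_of_eq hx03)).upd 1 3 2 (le_of_eq hx14)).upd 2 0 1 (le_of_eq hx30)).upd 2 3 1 (le_of_eq hx34)).upd 3 1 1 (le_of_eq hx41)).upd 3 2 1 (le_of_eq hx43)) ![1,1,1,1] (by decide) (by decide) 0 (by decide))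
      · -- 34=(1,2)
        exact False.elim (cert_false T ((skipEmb 2).trans (Function.Embedding.refl _)) (by norm_num) (fun _ => hall _) (((((LB_zero T ((skipEmb 2).trans (Function.Embedding.refl _))).upd 0 2 2 (le_of_eq hx03)).upd 2 0 1 (le_of_eq hx30)).upd 2 3 1 (le_of_eq hx34)).upd 3 2 2 (le_of_eq hx43)) ![1,0,1,1] (by decide) (by decide) 0 (by decide))
      · -- 34=(2,1)
        exact False.elim (cert_false T ((skipEmb 2).trans (Function.Embedding.refl _)) (by norm_num) (fun _ => hall _) (((((LB_zero T ((skipEmb 2).trans (Function.Embedding.refl _))).upd 1 3 2 (le_of_eq hx14)).upd 2 3 2 (le_of_eq hx34)).upd 3 1 1 (le_of_eq hx41)).upd 3 2 1 (le_of_eq hx43)) ![0,1,1,1] (by decide) (by decide) 1 (by decide))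
      · -- 34=(1,3)
        exact False.elim (cert_false T ((skipEmb 2).trans (Function.Embedding.refl _)) (by norm_num) (fun _ => hall _) (((((LB_zero T ((skipEmb 2).trans (Function.Embedding.refl _))).upd 0 2 2 (le_of_eq hx03)).upd 2 0 1 (le_of_eq hx30)).upd 2 3 1 (le_of_eq hx34)).upd 3 2 3 (le_of_eq hx43)) ![1,0,1,1] (by decide) (by decide) 0 (by decide))
      · -- 34=(3,1)
        exact False.elim (cert_false T ((skipEmb 2).trans (Function.Embedding.refl _)) (by norm_num) (fun _ => hall _) (((((LB_zero T ((skipEmb 2).trans (Function.Embedding.refl _))).upd 1 3 2 (le_of_eq hx14)).upd 2 3 3 (le_of_eq hx34)).upd 3 1 1 (le_of_eq hx41)).upd 3 2 1 (le_of_eq hx43)) ![0,1,1,1] (by decide) (by decide) 1 (by decide))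
    · -- 24=(1,1)
      exact False.elim (cert_false T ((skipEmb 3).trans (Function.Embedding.refl _)) (by norm_num) (fun _ => hall _) (((((((LB_zero T ((skipEmb 3).trans (Function.Embedding.refl _))).upd 1 2 1 (le_of_eq hx12)).upd 1 3 2 (le_of_eq hx14)).upd 2 1 1 (le_of_eq hx21)).upd 2 3 1 (le_of_eq hx24)).upd 3 1 1 (le_of_eq hx41)).upd 3 2 1 (le_of_eq hx42)) ![0,1,1,1] (by decide) (by decide) 1 (by decide))
    · -- 24=(1,2)
      exact False.elim (cert_false T ((skipEmb 3).trans (Function.Embedding.refl _)) (by norm_num) (fun _ => hall _) (((((((LB_zero T ((skipEmb 3).trans (Function.Embedding.refl _))).upd 1 2 1 (le_of_eq hx12)).upd 1 3 2 (le_of_eq hx14)).upd 2 1 1 (le_of_eq hx21)).upd 2 3 1 (le_of_eq hx24)).upd 3 1 1 (le_of_eq hx41)).upd 3 2 2 (le_of_eq hx42)) ![0,1,1,1] (by decide) (by decide) 1 (by decide))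
    · -- 24=(2,1)
      exact False.elim (cert_false T ((skipEmb 3).trans (Function.Embedding.refl _)) (by norm_num) (fun _ => hall _) (((((((LB_zero T ((skipEmb 3).trans (Function.Embedding.refl _))).upd 1 2 1 (le_of_eq hx12)).upd 1 3 2 (le_of_eq hx14)).upd 2 1 1 (le_of_eq hx21)).upd 2 3 2 (le_of_eq hx24)).upd 3 1 1 (le_of_eq hx41)).upd 3 2 1 (le_of_eq hx42)) ![0,1,1,1] (by decide) (by decide) 1 (by decide))
    · -- 24=(1,3)
      exact False.elim (cert_false T ((skipEmb 3).trans (Function.Embedding.refl _)) (by norm_num) (fun _ => hall _) (((((((LB_zero T ((skipEmb 3).trans (Function.Embedding.refl _))).upd 1 2 1 (le_of_eq hx12)).upd 1 3 2 (le_of_eq hx14)).upd 2 1 1 (le_of_eq hx21)).upd 2 3 1 (le_of_eq hx24)).upd 3 1 1 (le_of_eq hx41)).upd 3 2 3 (le_of_eq hx42)) ![0,1,1,1] (by decide) (by decide) 1 (by decide))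
    · -- 24=(3,1)
      exact False.elim (cert_false T ((skipEmb 3).trans (Function.Embedding.refl _)) (by norm_num) (fun _ => hall _) (((((((LB_zero T ((skipEmb 3).trans (Function.Embedding.refl _))).upd 1 2 1 (le_of_eq hx12)).upd 1 3 2 (le_of_eq hx14)).upd 2 1 1 (le_of_eq hx21)).upd 2 3 3 (le_of_eq hx24)).upd 3 1 1 (le_of_eq hx41)).upd 3 2 1 (le_of_eq hx42)) ![0,1,1,1] (by decide) (by decide) 1 (by decide))
  · -- 14=(1,3)
    exact False.elim (cert_false T ((skipEmb 3).trans (Function.Embedding.refl _)) (by norm_num) (fun _ => hall _) (((((LB_zero T ((skipEmb 3).trans (Function.Embedding.refl _))).upd 1 2 1 (le_of_eq hx12)).upd 1 3 1 (le_of_eq hx14)).upd 2 1 1 (le_of_eq hx21)).upd 3 1 3 (le_of_eq hx41)) ![0,2,1,3] (by decide) (by decide) 1 (by decide))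
  · -- 14=(3,1)
    exact False.elim (cert_false T ((skipEmb 3).trans (Function.Embedding.refl _)) (by norm_num) (fun _ => hall _) (((((LB_zero T ((skipEmb 3).trans (Function.Embedding.refl _))).upd 1 2 1 (le_of_eq hx12)).upd 1 3 3 (le_of_eq hx14)).upd 2 1 1 (le_of_eq hx21)).upd 3 1 1 (le_of_eq hx41)) ![0,2,1,1] (by decide) (by decide) 1 (by decide))

theorem case267 (T : NumericalType 5) (hall : ∀ i, T.IsMinusTwo i) (d : SData T)
    (h01 : N T (Function.Embedding.refl _) 0 1 = 0) (h10 : N T (Function.Embedding.refl _) 1 0 = 0)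
    (h02 : N T (Function.Embedding.refl _) 0 2 = 1) (h20 : N T (Function.Embedding.refl _) 2 0 = 1)
    (h12 : N T (Function.Embedding.refl _) 1 2 = 1) (h21 : N T (Function.Embedding.refl _) 2 1 = 1)
    (h03 : N T (Function.Embedding.refl _) 0 3 = 2) (h30 : N T (Function.Embedding.refl _) 3 0 = 1)
    (h13 : N T (Function.Embedding.refl _) 1 3 = 0) (h31 : N T (Function.Embedding.refl _) 3 1 = 0)
    (h23 : N T (Function.Embedding.refl _) 2 3 = 0) (h32 : N T (Function.Embedding.refl _) 3 2 = 0) :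
    Goal T := by
  unfold Goal
  have hd := d
  obtain ⟨x01, x02, x03, x04, x10, x12, x13, x14, x20, x21, x23, x24, x30, x31, x32, x34, x40, x41, x42, x43, hx01, hx02, hx03, hx04, hx10, hx12, hx13, hx14, hx20, hx21, hx23, hx24, hx30, hx31, hx32, hx34, hx40, hx41, hx42, hx43, hw0, hm0, hw1, hm1, hw2, hm2, hw3, hm3, hw4, hm4, a00, a01, a02, a03, a04, a11, a10, a12, a13, a14, a22, a20, a21, a23, a24, a33, a30, a31, a32, a34, a44, a40, a41, a42, a43, wN01, wN02, wN12, wN03, wN13, wN23, wN04, wN14, wN24, wN34, e0, e1, e2, e3, e4, d01, d02, d12, d03, d13, d23, d04, d14, d24, d34⟩ := d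
  obtain rfl : x01 = 0 := hx01.trans h01
  obtain rfl : x10 = 0 := hx10.trans h10
  obtain rfl : x02 = 1 := hx02.trans h02
  obtain rfl : x20 = 1 := hx20.trans h20
  obtain rfl : x12 = 1 := hx12.trans h12
  obtain rfl : x21 = 1 := hx21.trans h21
  obtain rfl : x03 = 2 := hx03.trans h03
  obtain rfl : x30 = 1 := hx30.trans h30
  obtain rfl : x13 = 0 := hx13.trans h13
  obtain rfl : x31 = 0 := hx31.trans h31
  obtain rfl : x23 = 0 := hx23.trans h23
  obtain rfl : x32 = 0 := hx32.trans h32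
  rcases d04 with ⟨rfl, rfl⟩ | ⟨rfl, rfl⟩ | ⟨rfl, rfl⟩ | ⟨rfl, rfl⟩ | ⟨rfl, rfl⟩ | ⟨rfl, rfl⟩
  · -- 04=(0,0)
    exact case268 T hall hd hx01.symm hx10.symm hx02.symm hx20.symm hx12.symm hx21.symm hx03.symm hx30.symm hx13.symm hx31.symm hx23.symm hx32.symm hx04.symm hx40.symm
  · -- 04=(1,1)
    exact False.elim (cert_false T ((skipEmb 1).trans (Function.Embedding.refl _)) (by norm_num) (fun _ => hall _) (((((((LB_zero T ((skipEmb 1).trans (Function.Embedding.refl _))).upd 0 1 1 (le_of_eq hx02)).upd 0 2 2 (le_of_eq hx03)).upd 0 3 1 (le_of_eq hx04)).upd 1 0 1 (le_of_eq hx20)).upd 2 0 1 (le_of_eq hx30)).upd 3 0 1 (le_of_eq hx40)) ![2,1,1,1] (by decide) (by decide) 0 (by decide))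
  · -- 04=(1,2)
    exact False.elim (cert_false T ((skipEmb 2).trans (Function.Embedding.refl _)) (by norm_num) (fun _ => hall _) (((((LB_zero T ((skipEmb 2).trans (Function.Embedding.refl _))).upd 0 2 2 (le_of_eq hx03)).upd 0 3 1 (le_of_eq hx04)).upd 2 0 1 (le_of_eq hx30)).upd 3 0 2 (le_of_eq hx40)) ![2,0,1,2] (by decide) (by decide) 0 (by decide))
  · -- 04=(2,1)
    exact False.elim (cert_false T ((skipEmb 2).trans (Function.Embedding.refl _)) (by norm_num) (fun _ => hall _) (((((LB_zero T ((skipEmb 2).trans (Function.Embedding.refl _))).upd 0 2 2 (le_of_eq hx03)).upd 0 3 2 (le_of_eq hx04)).upd 2 0 1 (le_of_eq hx30)).upd 3 0 1 (le_of_eq hx40)) ![2,0,1,1] (by decide) (by decide) 0 (by decide))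
  · -- 04=(1,3)
    exact False.elim (cert_false T ((skipEmb 3).trans (Function.Embedding.refl _)) (by norm_num) (fun _ => hall _) (((((LB_zero T ((skipEmb 3).trans (Function.Embedding.refl _))).upd 0 2 1 (le_of_eq hx02)).upd 0 3 1 (le_of_eq hx04)).upd 2 0 1 (le_of_eq hx20)).upd 3 0 3 (le_of_eq hx40)) ![2,0,1,3] (by decide) (by decide) 0 (by decide))
  · -- 04=(3,1)
    exact False.elim (cert_false T ((skipEmb 3).trans (Function.Embedding.refl _)) (by norm_num) (fun _ => hall _) (((((LB_zero T ((skipEmb 3).trans (Function.Embedding.refl _))).upd 0 2 1 (le_of_eq hx02)).upd 0 3 3 (le_of_eq hx04)).upd 2 0 1 (le_of_eq hx20)).upd 3 0 1 (le_of_eq hx40)) ![2,0,1,1] (by decide) (by decide) 0 (by decide))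

theorem case266 (T : NumericalType 5) (hall : ∀ i, T.IsMinusTwo i) (d : SData T)
    (h01 : N T (Function.Embedding.refl _) 0 1 = 0) (h10 : N T (Function.Embedding.refl _) 1 0 = 0)
    (h02 : N T (Function.Embedding.refl _) 0 2 = 1) (h20 : N T (Function.Embedding.refl _) 2 0 = 1)
    (h12 : N T (Function.Embedding.refl _) 1 2 = 1) (h21 : N T (Function.Embedding.refl _) 2 1 = 1)
    (h03 : N T (Function.Embedding.refl _) 0 3 = 2) (h30 : N T (Function.Embedding.refl _) 3 0 = 1)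
    (h13 : N T (Function.Embedding.refl _) 1 3 = 0) (h31 : N T (Function.Embedding.refl _) 3 1 = 0) :
    Goal T := by
  unfold Goal
  have hd := d
  obtain ⟨x01, x02, x03, x04, x10, x12, x13, x14, x20, x21, x23, x24, x30, x31, x32, x34, x40, x41, x42, x43, hx01, hx02, hx03, hx04, hx10, hx12, hx13, hx14, hx20, hx21, hx23, hx24, hx30, hx31, hx32, hx34, hx40, hx41, hx42, hx43, hw0, hm0, hw1, hm1, hw2, hm2, hw3, hm3, hw4, hm4, a00, a01, a02, a03, a04, a11, a10, a12, a13, a14, a22, a20, a21, a23, a24, a33, a30, a31, a32, a34, a44, a40, a41, a42, a43, wN01, wN02, wN12, wN03, wN13, wN23, wN04, wN14, wN24, wN34, e0, e1, e2, e3, e4, d01, d02, d12, d03, d13, d23, d04, d14, d24, d34⟩ := d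
  obtain rfl : x01 = 0 := hx01.trans h01
  obtain rfl : x10 = 0 := hx10.trans h10
  obtain rfl : x02 = 1 := hx02.trans h02
  obtain rfl : x20 = 1 := hx20.trans h20
  obtain rfl : x12 = 1 := hx12.trans h12
  obtain rfl : x21 = 1 := hx21.trans h21
  obtain rfl : x03 = 2 := hx03.trans h03
  obtain rfl : x30 = 1 := hx30.trans h30
  obtain rfl : x13 = 0 := hx13.trans h13
  obtain rfl : x31 = 0 := hx31.trans h31
  rcases d23 with ⟨rfl, rfl⟩ | ⟨rfl, rfl⟩ | ⟨rfl, rfl⟩ | ⟨rfl, rfl⟩ | ⟨rfl, rfl⟩ | ⟨rfl, rfl⟩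
  · -- 23=(0,0)
    exact case267 T hall hd hx01.symm hx10.symm hx02.symm hx20.symm hx12.symm hx21.symm hx03.symm hx30.symm hx13.symm hx31.symm hx23.symm hx32.symm
  · -- 23=(1,1)
    exact False.elim (cert_false T ((skipEmb 4).trans (Function.Embedding.refl _)) (by norm_num) (fun _ => hall _) (((((((LB_zero T ((skipEmb 4).trans (Function.Embedding.refl _))).upd 0 2 1 (le_of_eq hx02)).upd 0 3 2 (le_of_eq hx03)).upd 2 0 1 (le_of_eq hx20)).upd 2 3 1 (le_of_eq hx23)).upd 3 0 1 (le_of_eq hx30)).upd 3 2 1 (le_of_eq hx32)) ![1,0,1,1] (by decide) (by decide) 0 (by decide))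
  · -- 23=(1,2)
    exact False.elim (cert_false T ((skipEmb 4).trans (Function.Embedding.refl _)) (by norm_num) (fun _ => hall _) (((((((LB_zero T ((skipEmb 4).trans (Function.Embedding.refl _))).upd 0 2 1 (le_of_eq hx02)).upd 0 3 2 (le_of_eq hx03)).upd 2 0 1 (le_of_eq hx20)).upd 2 3 1 (le_of_eq hx23)).upd 3 0 1 (le_of_eq hx30)).upd 3 2 2 (le_of_eq hx32)) ![1,0,1,1] (by decide) (by decide) 0 (by decide))
  · -- 23=(2,1)
    exact False.elim (cert_false T ((skipEmb 4).trans (Function.Embedding.refl _)) (by norm_num) (fun _ => hall _) (((((((LB_zero T ((skipEmb 4).trans (Function.Embedding.refl _))).upd 0 2 1 (le_of_eq hx02)).upd 0 3 2 (le_of_eq hx03)).upd 2 0 1 (le_of_eq hx20)).upd 2 3 2 (le_of_eq hx23)).upd 3 0 1 (le_of_eq hx30)).upd 3 2 1 (le_of_eq hx32)) ![1,0,1,1] (by decide) (by decide) 0 (by decide))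
  · -- 23=(1,3)
    exact False.elim (cert_false T ((skipEmb 4).trans (Function.Embedding.refl _)) (by norm_num) (fun _ => hall _) (((((((LB_zero T ((skipEmb 4).trans (Function.Embedding.refl _))).upd 0 2 1 (le_of_eq hx02)).upd 0 3 2 (le_of_eq hx03)).upd 2 0 1 (le_of_eq hx20)).upd 2 3 1 (le_of_eq hx23)).upd 3 0 1 (le_of_eq hx30)).upd 3 2 3 (le_of_eq hx32)) ![1,0,1,1] (by decide) (by decide) 0 (by decide))
  · -- 23=(3,1)
    exact False.elim (cert_false T ((skipEmb 4).trans (Function.Embedding.refl _)) (by norm_num) (fun _ => hall _) (((((((LB_zero T ((skipEmb 4).trans (Function.Embedding.refl _))).upd 0 2 1 (le_of_eq hx02)).upd 0 3 2 (le_of_eq hx03)).upd 2 0 1 (le_of_eq hx20)).upd 2 3 3 (le_of_eq hx23)).upd 3 0 1 (le_of_eq hx30)).upd 3 2 1 (le_of_eq hx32)) ![1,0,1,1] (by decide) (by decide) 0 (by decide))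

theorem case276 (T : NumericalType 5) (hall : ∀ i, T.IsMinusTwo i) (d : SData T)
    (h01 : N T (Function.Embedding.refl _) 0 1 = 0) (h10 : N T (Function.Embedding.refl _) 1 0 = 0)
    (h02 : N T (Function.Embedding.refl _) 0 2 = 1) (h20 : N T (Function.Embedding.refl _) 2 0 = 1)
    (h12 : N T (Function.Embedding.refl _) 1 2 = 2) (h21 : N T (Function.Embedding.refl _) 2 1 = 1)
    (h03 : N T (Function.Embedding.refl _) 0 3 = 0) (h30 : N T (Function.Embedding.refl _) 3 0 = 0)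
    (h13 : N T (Function.Embedding.refl _) 1 3 = 0) (h31 : N T (Function.Embedding.refl _) 3 1 = 0) :
    Goal T := by
  unfold Goal
  have hd := d
  obtain ⟨x01, x02, x03, x04, x10, x12, x13, x14, x20, x21, x23, x24, x30, x31, x32, x34, x40, x41, x42, x43, hx01, hx02, hx03, hx04, hx10, hx12, hx13, hx14, hx20, hx21, hx23, hx24, hx30, hx31, hx32, hx34, hx40, hx41, hx42, hx43, hw0, hm0, hw1, hm1, hw2, hm2, hw3, hm3, hw4, hm4, a00, a01, a02, a03, a04, a11, a10, a12, a13, a14, a22, a20, a21, a23, a24, a33, a30, a31, a32, a34, a44, a40, a41, a42, a43, wN01, wN02, wN12, wN03, wN13, wN23, wN04, wN14, wN24, wN34, e0, e1, e2, e3, e4, d01, d02, d12, d03, d13, d23, d04, d14, d24, d34⟩ := d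
  obtain rfl : x01 = 0 := hx01.trans h01
  obtain rfl : x10 = 0 := hx10.trans h10
  obtain rfl : x02 = 1 := hx02.trans h02
  obtain rfl : x20 = 1 := hx20.trans h20
  obtain rfl : x12 = 2 := hx12.trans h12
  obtain rfl : x21 = 1 := hx21.trans h21
  obtain rfl : x03 = 0 := hx03.trans h03
  obtain rfl : x30 = 0 := hx30.trans h30
  obtain rfl : x13 = 0 := hx13.trans h13
  obtain rfl : x31 = 0 := hx31.trans h31
  rcases d23 with ⟨rfl, rfl⟩ | ⟨rfl, rfl⟩ | ⟨rfl, rfl⟩ | ⟨rfl, rfl⟩ | ⟨rfl, rfl⟩ | ⟨rfl, rfl⟩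
  · -- 23=(0,0)
    rcases d04 with ⟨rfl, rfl⟩ | ⟨rfl, rfl⟩ | ⟨rfl, rfl⟩ | ⟨rfl, rfl⟩ | ⟨rfl, rfl⟩ | ⟨rfl, rfl⟩
    · -- 04=(0,0)
      rcases d14 with ⟨rfl, rfl⟩ | ⟨rfl, rfl⟩ | ⟨rfl, rfl⟩ | ⟨rfl, rfl⟩ | ⟨rfl, rfl⟩ | ⟨rfl, rfl⟩
      · -- 14=(0,0)
        rcases d24 with ⟨rfl, rfl⟩ | ⟨rfl, rfl⟩ | ⟨rfl, rfl⟩ | ⟨rfl, rfl⟩ | ⟨rfl, rfl⟩ | ⟨rfl, rfl⟩
        · -- 24=(0,0)
          rcases d34 with ⟨rfl, rfl⟩ | ⟨rfl, rfl⟩ | ⟨rfl, rfl⟩ | ⟨rfl, rfl⟩ | ⟨rfl, rfl⟩ | ⟨rfl, rfl⟩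
          · -- 34=(0,0)
            exfalso; omega
          · -- 34=(1,1)
            exfalso; omega
          · -- 34=(1,2)
            exfalso; omega
          · -- 34=(2,1)
            exfalso; omega
          · -- 34=(1,3)
            exfalso; omega
          · -- 34=(3,1)
            exfalso; omega
        · -- 24=(1,1)
          exact False.elim (cert_false T ((skipEmb 3).trans (Function.Embedding.refl _)) (by norm_num) (fun _ => hall _) (((((((LB_zero T ((skipEmb 3).trans (Function.Embedding.refl _))).upd 0 2 1 (le_of_eq hx02)).upd 1 2 2 (le_of_eq hx12)).upd 2 0 1 (le_of_eq hx20)).upd 2 1 1 (le_of_eq hx21)).upd 2 3 1 (le_of_eq hx24)).upd 3 2 1 (le_of_eq hx42)) ![1,2,2,1] (by decide) (by decide) 0 (by decide))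
        · -- 24=(1,2)
          exact False.elim (cert_false T ((skipEmb 3).trans (Function.Embedding.refl _)) (by norm_num) (fun _ => hall _) (((((LB_zero T ((skipEmb 3).trans (Function.Embedding.refl _))).upd 1 2 2 (le_of_eq hx12)).upd 2 1 1 (le_of_eq hx21)).upd 2 3 1 (le_of_eq hx24)).upd 3 2 2 (le_of_eq hx42)) ![0,1,1,1] (by decide) (by decide) 1 (by decide))
        · -- 24=(2,1)
          exact False.elim (cert_false T ((skipEmb 3).trans (Function.Embedding.refl _)) (by norm_num) (fun _ => hall _) (((((LB_zero T ((skipEmb 3).trans (Function.Embedding.refl _))).upd 1 2 2 (le_of_eq hx12)).upd 2 1 1 (le_of_eq hx21)).upd 2 3 2 (le_of_eq hx24)).upd 3 2 1 (le_of_eq hx42)) ![0,2,2,1] (by decide) (by decide) 1 (by decide))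
        · -- 24=(1,3)
          exact False.elim (cert_false T ((skipEmb 3).trans (Function.Embedding.refl _)) (by norm_num) (fun _ => hall _) (((((LB_zero T ((skipEmb 3).trans (Function.Embedding.refl _))).upd 1 2 2 (le_of_eq hx12)).upd 2 1 1 (le_of_eq hx21)).upd 2 3 1 (le_of_eq hx24)).upd 3 2 3 (le_of_eq hx42)) ![0,1,1,1] (by decide) (by decide) 1 (by decide))
        · -- 24=(3,1)
          exact False.elim (cert_false T ((skipEmb 3).trans (Function.Embedding.refl _)) (by norm_num) (fun _ => hall _) (((((LB_zero T ((skipEmb 3).trans (Function.Embedding.refl _))).upd 1 2 2 (le_of_eq hx12)).upd 2 1 1 (le_of_eq hx21)).upd 2 3 3 (le_of_eq hx24)).upd 3 2 1 (le_of_eq hx42)) ![0,1,2,1] (by decide) (by decide) 1 (by decide))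
      · -- 14=(1,1)
        rcases d24 with ⟨rfl, rfl⟩ | ⟨rfl, rfl⟩ | ⟨rfl, rfl⟩ | ⟨rfl, rfl⟩ | ⟨rfl, rfl⟩ | ⟨rfl, rfl⟩
        · -- 24=(0,0)
          rcases d34 with ⟨rfl, rfl⟩ | ⟨rfl, rfl⟩ | ⟨rfl, rfl⟩ | ⟨rfl, rfl⟩ | ⟨rfl, rfl⟩ | ⟨rfl, rfl⟩
          · -- 34=(0,0)
            exfalso; omega
          · -- 34=(1,1)
            refine ⟨(⟨![3, 4, 1, 2, 0], ![4, 2, 3, 0, 1], by decide, by decide⟩ : Equiv.Perm (Fin 5)), T.m 3, T.w 3, Or.inr (Or.inl ?_)⟩
            show T.m 3 = T.m 3 ∧ T.m 4 = 2 * T.m 3 ∧ T.m 1 = 3 * T.m 3 ∧ T.m 2 = 2 * T.m 3 ∧ T.m 0 = T.m 3 ∧ T.w 3 = T.w 3 ∧ T.w 4 = T.w 3 ∧ T.w 1 = T.w 3 ∧ T.w 2 = 2 * T.w 3 ∧ T.w 0 = 2 * T.w 3 ∧ T.a 3 3 = -2 * T.w 3 ∧ T.a 3 4 = T.w 3 ∧ T.a 3 1 = 0 ∧ T.a 3 2 = 0 ∧ T.a 3 0 = 0 ∧ T.a 4 4 = -2 * T.w 3 ∧ T.a 4 1 = T.w 3 ∧ T.a 4 2 = 0 ∧ T.a 4 0 = 0 ∧ T.a 1 1 = -2 * T.w 3 ∧ T.a 1 2 = 2 * T.w 3 ∧ T.a 1 0 = 0 ∧ T.a 2 2 = -4 * T.w 3 ∧ T.a 2 0 = 2 * T.w 3 ∧ T.a 0 0 =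 -4 * T.w 3
            refine ⟨?_, ?_, ?_, ?_, ?_, ?_, ?_, ?_, ?_, ?_, ?_, ?_, ?_, ?_, ?_, ?_, ?_, ?_, ?_, ?_, ?_, ?_, ?_, ?_, ?_⟩ <;> omega
          · -- 34=(1,2)
            exact False.elim (cert_false T ((skipEmb 0).trans (Function.Embedding.refl _)) (by norm_num) (fun _ => hall _) (((((((LB_zero T ((skipEmb 0).trans (Function.Embedding.refl _))).upd 0 1 2 (le_of_eq hx12)).upd 0 3 1 (le_of_eq hx14)).upd 1 0 1 (le_of_eq hx21)).upd 2 3 1 (le_of_eq hx34)).upd 3 0 1 (le_of_eq hx41)).upd 3 2 2 (le_of_eq hx43)) ![2,1,1,2] (by decide) (by decide) 0 (by decide))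
          · -- 34=(2,1)
            exact False.elim (cert_false T ((skipEmb 0).trans (Function.Embedding.refl _)) (by norm_num) (fun _ => hall _) (((((((LB_zero T ((skipEmb 0).trans (Function.Embedding.refl _))).upd 0 1 2 (le_of_eq hx12)).upd 0 3 1 (le_of_eq hx14)).upd 1 0 1 (le_of_eq hx21)).upd 2 3 2 (le_of_eq hx34)).upd 3 0 1 (le_of_eq hx41)).upd 3 2 1 (le_of_eq hx43)) ![2,1,2,2] (by decide) (by decide) 0 (by decide))
          · -- 34=(1,3)
            exact False.elim (cert_false T ((skipEmb 2).trans (Function.Embedding.refl _)) (by norm_num) (fun _ => hall _) (((((LB_zero T ((skipEmb 2).trans (Function.Embedding.refl _))).upd 1 3 1 (le_of_eq hx14)).upd 2 3 1 (le_of_eq hx34)).upd 3 1 1 (le_of_eq hx41)).upd 3 2 3 (le_of_eq hx43)) ![0,1,1,2] (by decide) (by decide) 1 (by decide))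
          · -- 34=(3,1)
            exact False.elim (cert_false T ((skipEmb 2).trans (Function.Embedding.refl _)) (by norm_num) (fun _ => hall _) (((((LB_zero T ((skipEmb 2).trans (Function.Embedding.refl _))).upd 1 3 1 (le_of_eq hx14)).upd 2 3 3 (le_of_eq hx34)).upd 3 1 1 (le_of_eq hx41)).upd 3 2 1 (le_of_eq hx43)) ![0,1,3,2] (by decide) (by decide) 1 (by decide))
        · -- 24=(1,1)
          exact False.elim (cert_false T ((skipEmb 3).trans (Function.Embedding.refl _)) (by norm_num) (fun _ => hall _) (((((((LB_zero T ((skipEmb 3).trans (Function.Embedding.refl _))).upd 1 2 2 (le_of_eq hx12)).upd 1 3 1 (le_of_eq hx14)).upd 2 1 1 (le_of_eq hx21)).upd 2 3 1 (le_of_eq hx24)).upd 3 1 1 (le_of_eq hx41)).upd 3 2 1 (le_of_eq hx42)) ![0,1,1,1] (by decide) (by decide) 1 (by decide))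
        · -- 24=(1,2)
          exact False.elim (cert_false T ((skipEmb 3).trans (Function.Embedding.refl _)) (by norm_num) (fun _ => hall _) (((((((LB_zero T ((skipEmb 3).trans (Function.Embedding.refl _))).upd 1 2 2 (le_of_eq hx12)).upd 1 3 1 (le_of_eq hx14)).upd 2 1 1 (le_of_eq hx21)).upd 2 3 1 (le_of_eq hx24)).upd 3 1 1 (le_of_eq hx41)).upd 3 2 2 (le_of_eq hx42)) ![0,1,1,1] (by decide) (by decide) 1 (by decide))
        · -- 24=(2,1)
          exact False.elim (cert_false T ((skipEmb 3).trans (Function.Embedding.refl _)) (by norm_num) (fun _ => hall _) (((((((LB_zero T ((skipEmb 3).trans (Function.Embedding.refl _))).upd 1 2 2 (le_of_eq hx12)).upd 1 3 1 (le_of_eq hx14)).upd 2 1 1 (le_of_eq hx21)).upd 2 3 2 (le_of_eq hx24)).upd 3 1 1 (le_of_eq hx41)).upd 3 2 1 (le_of_eq hx42)) ![0,1,1,1] (by decide) (by decide) 1 (by decide))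
        · -- 24=(1,3)
          exact False.elim (cert_false T ((skipEmb 3).trans (Function.Embedding.refl _)) (by norm_num) (fun _ => hall _) (((((((LB_zero T ((skipEmb 3).trans (Function.Embedding.refl _))).upd 1 2 2 (le_of_eq hx12)).upd 1 3 1 (le_of_eq hx14)).upd 2 1 1 (le_of_eq hx21)).upd 2 3 1 (le_of_eq hx24)).upd 3 1 1 (le_of_eq hx41)).upd 3 2 3 (le_of_eq hx42)) ![0,1,1,1] (by decide) (by decide) 1 (by decide))
        · -- 24=(3,1)
          exact False.elim (cert_false T ((skipEmb 3).trans (Function.Embedding.refl _)) (by norm_num) (fun _ => hall _) (((((((LB_zero T ((skipEmb 3).trans (Function.Embedding.refl _))).upd 1 2 2 (le_of_eq hx12)).upd 1 3 1 (le_of_eq hx14)).upd 2 1 1 (le_of_eq hx21)).upd 2 3 3 (le_of_eq hx24)).upd 3 1 1 (le_of_eq hx41)).upd 3 2 1 (le_of_eq hx42)) ![0,1,1,1] (by decide) (by decide) 1 (by decide))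
      · -- 14=(1,2)
        exact False.elim (cert_false T ((skipEmb 3).trans (Function.Embedding.refl _)) (by norm_num) (fun _ => hall _) (((((LB_zero T ((skipEmb 3).trans (Function.Embedding.refl _))).upd 1 2 2 (le_of_eq hx12)).upd 1 3 1 (le_of_eq hx14)).upd 2 1 1 (le_of_eq hx21)).upd 3 1 2 (le_of_eq hx41)) ![0,2,1,2] (by decide) (by decide) 1 (by decide))
      · -- 14=(2,1)
        exact False.elim (cert_false T ((skipEmb 3).trans (Function.Embedding.refl _)) (by norm_num) (fun _ => hall _) (((((LB_zero T ((skipEmb 3).trans (Function.Embedding.refl _))).upd 1 2 2 (le_of_eq hx12)).upd 1 3 2 (le_of_eq hx14)).upd 2 1 1 (le_of_eq hx21)).upd 3 1 1 (le_of_eq hx41)) ![0,2,1,1] (by decide) (by decide) 1 (by decide))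
      · -- 14=(1,3)
        exact False.elim (cert_false T ((skipEmb 3).trans (Function.Embedding.refl _)) (by norm_num) (fun _ => hall _) (((((LB_zero T ((skipEmb 3).trans (Function.Embedding.refl _))).upd 1 2 2 (le_of_eq hx12)).upd 1 3 1 (le_of_eq hx14)).upd 2 1 1 (le_of_eq hx21)).upd 3 1 3 (le_of_eq hx41)) ![0,2,1,2] (by decide) (by decide) 1 (by decide))
      · -- 14=(3,1)
        exact False.elim (cert_false T ((skipEmb 3).trans (Function.Embedding.refl _)) (by norm_num) (fun _ => hall _) (((((LB_zero T ((skipEmb 3).trans (Function.Embedding.refl _))).upd 1 2 2 (le_of_eq hx12)).upd 1 3 3 (le_of_eq hx14)).upd 2 1 1 (le_of_eq hx21)).upd 3 1 1 (le_of_eq hx41)) ![0,2,1,1] (by decide) (by decide) 1 (by decide))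
    · -- 04=(1,1)
      rcases d14 with ⟨rfl, rfl⟩ | ⟨rfl, rfl⟩ | ⟨rfl, rfl⟩ | ⟨rfl, rfl⟩ | ⟨rfl, rfl⟩ | ⟨rfl, rfl⟩
      · -- 14=(0,0)
        rcases d24 with ⟨rfl, rfl⟩ | ⟨rfl, rfl⟩ | ⟨rfl, rfl⟩ | ⟨rfl, rfl⟩ | ⟨rfl, rfl⟩ | ⟨rfl, rfl⟩
        · -- 24=(0,0)
          rcases d34 with ⟨rfl, rfl⟩ | ⟨rfl, rfl⟩ | ⟨rfl, rfl⟩ | ⟨rfl, rfl⟩ | ⟨rfl, rfl⟩ | ⟨rfl, rfl⟩
          · -- 34=(0,0)
            exfalso; omega
          · -- 34=(1,1)
            exfalso; omega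
          · -- 34=(1,2)
            refine ⟨(⟨![1, 2, 0, 4, 3], ![2, 0, 1, 4, 3], by decide, by decide⟩ : Equiv.Perm (Fin 5)), T.m 3, T.w 1, Or.inr (Or.inr (Or.inr (Or.inl ?_)))⟩
            show T.m 1 = 2 * T.m 3 ∧ T.m 2 = 2 * T.m 3 ∧ T.m 0 = 2 * T.m 3 ∧ T.m 4 = 2 * T.m 3 ∧ T.m 3 = T.m 3 ∧ T.w 1 = T.w 1 ∧ T.w 2 = 2 * T.w 1 ∧ T.w 0 = 2 * T.w 1 ∧ T.w 4 = 2 * T.w 1 ∧ T.w 3 = 4 * T.w 1 ∧ T.a 1 1 = -2 * T.w 1 ∧ T.a 1 2 = 2 * T.w 1 ∧ T.a 1 0 = 0 ∧ T.a 1 4 = 0 ∧ T.a 1 3 = 0 ∧ T.a 2 2 = -4 * T.w 1 ∧ T.a 2 0 = 2 * T.w 1 ∧ T.a 2 4 = 0 ∧ T.a 2 3 = 0 ∧ T.a 0 0 = -4 * T.w 1 ∧ T.a 0 4 = 2 * T.w 1 ∧ T.a 0 3 = 0 ∧ T.a 4 4 = -4 * T.w 1 ∧ T.a 4 3 = 4 * T.w 1 ∧ T.a 3 3 = -8 * T.w 1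
            refine ⟨?_, ?_, ?_, ?_, ?_, ?_, ?_, ?_, ?_, ?_, ?_, ?_, ?_, ?_, ?_, ?_, ?_, ?_, ?_, ?_, ?_, ?_, ?_, ?_, ?_⟩ <;> omega
          · -- 34=(2,1)
            refine ⟨(⟨![1, 2, 0, 4, 3], ![2, 0, 1, 4, 3], by decide, by decide⟩ : Equiv.Perm (Fin 5)), T.m 1, T.w 1, Or.inr (Or.inr (Or.inr (Or.inr (Or.inl ?_))))⟩
            show T.m 1 = T.m 1 ∧ T.m 2 = T.m 1 ∧ T.m 0 = T.m 1 ∧ T.m 4 = T.m 1 ∧ T.m 3 = T.m 1 ∧ T.w 1 = T.w 1 ∧ T.w 2 = 2 * T.w 1 ∧ T.w 0 = 2 * T.w 1 ∧ T.w 4 = 2 * T.w 1 ∧ T.w 3 = T.w 1 ∧ T.a 1 1 = -2 * T.w 1 ∧ T.a 1 2 = 2 * T.w 1 ∧ T.a 1 0 = 0 ∧ T.a 1 4 = 0 ∧ T.a 1 3 = 0 ∧ T.a 2 2 = -4 * T.w 1 ∧ T.a 2 0 = 2 * T.w 1 ∧ T.a 2 4 = 0 ∧ T.a 2 3 = 0 ∧ T.a 0 0 = -4 * T.w 1 ∧ T.a 0 4 = 2 * T.w 1 ∧ T.a 0 3 = 0 ∧ T.a 4 4 = -4 * T.w 1 ∧ T.a 4 3 = 2 * T.w 1 ∧ T.a 3 3 = -2 * T.w 1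
            refine ⟨?_, ?_, ?_, ?_, ?_, ?_, ?_, ?_, ?_, ?_, ?_, ?_, ?_, ?_, ?_, ?_, ?_, ?_, ?_, ?_, ?_, ?_, ?_, ?_, ?_⟩ <;> omega
          · -- 34=(1,3)
            exact False.elim (cert_false T ((skipEmb 2).trans (Function.Embedding.refl _)) (by norm_num) (fun _ => hall _) (((((LB_zero T ((skipEmb 2).trans (Function.Embedding.refl _))).upd 0 3 1 (le_of_eq hx04)).upd 2 3 1 (le_of_eq hx34)).upd 3 0 1 (le_of_eq hx40)).upd 3 2 3 (le_of_eq hx43)) ![1,0,1,2] (by decide) (by decide) 0 (by decide))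
          · -- 34=(3,1)
            exact False.elim (cert_false T ((skipEmb 2).trans (Function.Embedding.refl _)) (by norm_num) (fun _ => hall _) (((((LB_zero T ((skipEmb 2).trans (Function.Embedding.refl _))).upd 0 3 1 (le_of_eq hx04)).upd 2 3 3 (le_of_eq hx34)).upd 3 0 1 (le_of_eq hx40)).upd 3 2 1 (le_of_eq hx43)) ![1,0,3,2] (by decide) (by decide) 0 (by decide))
        · -- 24=(1,1)
          exact False.elim (cert_false T ((skipEmb 3).trans (Function.Embedding.refl _)) (by norm_num) (fun _ => hall _) (((((((LB_zero T ((skipEmb 3).trans (Function.Embedding.refl _))).upd 0 2 1 (le_of_eq hx02)).upd 0 3 1 (le_of_eq hx04)).upd 2 0 1 (le_of_eq hx20)).upd 2 3 1 (le_of_eq hx24)).upd 3 0 1 (le_of_eq hx40)).upd 3 2 1 (le_of_eq hx42)) ![1,0,1,1] (by decide) (by decide) 0 (by decide))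
        · -- 24=(1,2)
          exact False.elim (cert_false T ((skipEmb 3).trans (Function.Embedding.refl _)) (by norm_num) (fun _ => hall _) (((((LB_zero T ((skipEmb 3).trans (Function.Embedding.refl _))).upd 1 2 2 (le_of_eq hx12)).upd 2 1 1 (le_of_eq hx21)).upd 2 3 1 (le_of_eq hx24)).upd 3 2 2 (le_of_eq hx42)) ![0,1,1,1] (by decide) (by decide) 1 (by decide))
        · -- 24=(2,1)
          exact False.elim (cert_false T ((skipEmb 3).trans (Function.Embedding.refl _)) (by norm_num) (fun _ => hall _) (((((((LB_zero T ((skipEmb 3).trans (Function.Embedding.refl _))).upd 0 2 1 (le_of_eq hx02)).upd 0 3 1 (le_of_eq hx04)).upd 2 0 1 (le_of_eq hx20)).upd 2 3 2 (le_of_eq hx24)).upd 3 0 1 (le_of_eq hx40)).upd 3 2 1 (le_of_eq hx42)) ![1,0,1,1] (by decide) (by decide) 0 (by decide))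
        · -- 24=(1,3)
          exact False.elim (cert_false T ((skipEmb 3).trans (Function.Embedding.refl _)) (by norm_num) (fun _ => hall _) (((((LB_zero T ((skipEmb 3).trans (Function.Embedding.refl _))).upd 1 2 2 (le_of_eq hx12)).upd 2 1 1 (le_of_eq hx21)).upd 2 3 1 (le_of_eq hx24)).upd 3 2 3 (le_of_eq hx42)) ![0,1,1,1] (by decide) (by decide) 1 (by decide))
        · -- 24=(3,1)
          exact False.elim (cert_false T ((skipEmb 3).trans (Function.Embedding.refl _)) (by norm_num) (fun _ => hall _) (((((((LB_zero T ((skipEmb 3).trans (Function.Embedding.refl _))).upd 0 2 1 (le_of_eq hx02)).upd 0 3 1 (le_of_eq hx04)).upd 2 0 1 (le_of_eq hx20)).upd 2 3 3 (le_of_eq hx24)).upd 3 0 1 (le_of_eq hx40)).upd 3 2 1 (le_of_eq hx42)) ![1,0,1,1] (by decide) (by decide) 0 (by decide))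
      · -- 14=(1,1)
        exact False.elim (cert_false T ((skipEmb 3).trans (Function.Embedding.refl _)) (by norm_num) (fun _ => hall _) (((((((((LB_zero T ((skipEmb 3).trans (Function.Embedding.refl _))).upd 0 2 1 (le_of_eq hx02)).upd 0 3 1 (le_of_eq hx04)).upd 1 2 2 (le_of_eq hx12)).upd 1 3 1 (le_of_eq hx14)).upd 2 0 1 (le_of_eq hx20)).upd 2 1 1 (le_of_eq hx21)).upd 3 0 1 (le_of_eq hx40)).upd 3 1 1 (le_of_eq hx41)) ![1,1,1,1] (by decide) (by decide) 0 (by decide))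
      · -- 14=(1,2)
        exact False.elim (cert_false T ((skipEmb 3).trans (Function.Embedding.refl _)) (by norm_num) (fun _ => hall _) (((((((((LB_zero T ((skipEmb 3).trans (Function.Embedding.refl _))).upd 0 2 1 (le_of_eq hx02)).upd 0 3 1 (le_of_eq hx04)).upd 1 2 2 (le_of_eq hx12)).upd 1 3 1 (le_of_eq hx14)).upd 2 0 1 (le_of_eq hx20)).upd 2 1 1 (le_of_eq hx21)).upd 3 0 1 (le_of_eq hx40)).upd 3 1 2 (le_of_eq hx41)) ![1,1,1,1] (by decide) (by decide) 0 (by decide))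
      · -- 14=(2,1)
        exact False.elim (cert_false T ((skipEmb 3).trans (Function.Embedding.refl _)) (by norm_num) (fun _ => hall _) (((((((((LB_zero T ((skipEmb 3).trans (Function.Embedding.refl _))).upd 0 2 1 (le_of_eq hx02)).upd 0 3 1 (le_of_eq hx04)).upd 1 2 2 (le_of_eq hx12)).upd 1 3 2 (le_of_eq hx14)).upd 2 0 1 (le_of_eq hx20)).upd 2 1 1 (le_of_eq hx21)).upd 3 0 1 (le_of_eq hx40)).upd 3 1 1 (le_of_eq hx41)) ![1,1,1,1] (by decide) (by decide) 0 (by decide))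
      · -- 14=(1,3)
        exact False.elim (cert_false T ((skipEmb 3).trans (Function.Embedding.refl _)) (by norm_num) (fun _ => hall _) (((((((((LB_zero T ((skipEmb 3).trans (Function.Embedding.refl _))).upd 0 2 1 (le_of_eq hx02)).upd 0 3 1 (le_of_eq hx04)).upd 1 2 2 (le_of_eq hx12)).upd 1 3 1 (le_of_eq hx14)).upd 2 0 1 (le_of_eq hx20)).upd 2 1 1 (le_of_eq hx21)).upd 3 0 1 (le_of_eq hx40)).upd 3 1 3 (le_of_eq hx41)) ![1,1,1,1] (by decide) (by decide) 0 (by decide))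
      · -- 14=(3,1)
        exact False.elim (cert_false T ((skipEmb 3).trans (Function.Embedding.refl _)) (by norm_num) (fun _ => hall _) (((((((((LB_zero T ((skipEmb 3).trans (Function.Embedding.refl _))).upd 0 2 1 (le_of_eq hx02)).upd 0 3 1 (le_of_eq hx04)).upd 1 2 2 (le_of_eq hx12)).upd 1 3 3 (le_of_eq hx14)).upd 2 0 1 (le_of_eq hx20)).upd 2 1 1 (le_of_eq hx21)).upd 3 0 1 (le_of_eq hx40)).upd 3 1 1 (le_of_eq hx41)) ![1,1,1,1] (by decide) (by decide) 0 (by decide))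
    · -- 04=(1,2)
      exact False.elim (cert_false T ((skipEmb 3).trans (Function.Embedding.refl _)) (by norm_num) (fun _ => hall _) (((((((LB_zero T ((skipEmb 3).trans (Function.Embedding.refl _))).upd 0 2 1 (le_of_eq hx02)).upd 0 3 1 (le_of_eq hx04)).upd 1 2 2 (le_of_eq hx12)).upd 2 0 1 (le_of_eq hx20)).upd 2 1 1 (le_of_eq hx21)).upd 3 0 2 (le_of_eq hx40)) ![1,1,1,1] (by decide) (by decide) 0 (by decide))
    · -- 04=(2,1)
      exact False.elim (cert_false T ((skipEmb 3).trans (Function.Embedding.refl _)) (by norm_num) (fun _ => hall _) (((((((LB_zero T ((skipEmb 3).trans (Function.Embedding.refl _))).upd 0 2 1 (le_of_eq hx02)).upd 0 3 2 (le_of_eq hx04)).upd 1 2 2 (le_of_eq hx12)).upd 2 0 1 (le_of_eq hx20)).upd 2 1 1 (le_of_eq hx21)).upd 3 0 1 (le_of_eq hx40)) ![2,2,2,1] (by decide) (by decide) 0 (by decide))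
    · -- 04=(1,3)
      exact False.elim (cert_false T ((skipEmb 3).trans (Function.Embedding.refl _)) (by norm_num) (fun _ => hall _) (((((((LB_zero T ((skipEmb 3).trans (Function.Embedding.refl _))).upd 0 2 1 (le_of_eq hx02)).upd 0 3 1 (le_of_eq hx04)).upd 1 2 2 (le_of_eq hx12)).upd 2 0 1 (le_of_eq hx20)).upd 2 1 1 (le_of_eq hx21)).upd 3 0 3 (le_of_eq hx40)) ![1,1,1,1] (by decide) (by decide) 0 (by decide))
    · -- 04=(3,1)
      exact False.elim (cert_false T ((skipEmb 3).trans (Function.Embedding.refl _)) (by norm_num) (fun _ => hall _) (((((LB_zero T ((skipEmb 3).trans (Function.Embedding.refl _))).upd 0 2 1 (le_of_eq hx02)).upd 0 3 3 (le_of_eq hx04)).upd 2 0 1 (le_of_eq hx20)).upd 3 0 1 (le_of_eq hx40)) ![2,0,1,1] (by decide) (by decide) 0 (by decide))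
  · -- 23=(1,1)
    exact False.elim (cert_false T ((skipEmb 4).trans (Function.Embedding.refl _)) (by norm_num) (fun _ => hall _) (((((((LB_zero T ((skipEmb 4).trans (Function.Embedding.refl _))).upd 0 2 1 (le_of_eq hx02)).upd 1 2 2 (le_of_eq hx12)).upd 2 0 1 (le_of_eq hx20)).upd 2 1 1 (le_of_eq hx21)).upd 2 3 1 (le_of_eq hx23)).upd 3 2 1 (le_of_eq hx32)) ![1,2,2,1] (by decide) (by decide) 0 (by decide))
  · -- 23=(1,2)
    exact False.elim (cert_false T ((skipEmb 4).trans (Function.Embedding.refl _)) (by norm_num) (fun _ => hall _) (((((LB_zero T ((skipEmb 4).trans (Function.Embedding.refl _))).upd 1 2 2 (le_of_eq hx12)).upd 2 1 1 (le_of_eq hx21)).upd 2 3 1 (le_of_eq hx23)).upd 3 2 2 (le_of_eq hx32)) ![0,1,1,1] (by decide) (by decide) 1 (by decide))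
  · -- 23=(2,1)
    exact False.elim (cert_false T ((skipEmb 4).trans (Function.Embedding.refl _)) (by norm_num) (fun _ => hall _) (((((LB_zero T ((skipEmb 4).trans (Function.Embedding.refl _))).upd 1 2 2 (le_of_eq hx12)).upd 2 1 1 (le_of_eq hx21)).upd 2 3 2 (le_of_eq hx23)).upd 3 2 1 (le_of_eq hx32)) ![0,2,2,1] (by decide) (by decide) 1 (by decide))
  · -- 23=(1,3)
    exact False.elim (cert_false T ((skipEmb 4).trans (Function.Embedding.refl _)) (by norm_num) (fun _ => hall _) (((((LB_zero T ((skipEmb 4).trans (Function.Embedding.refl _))).upd 1 2 2 (le_of_eq hx12)).upd 2 1 1 (le_of_eq hx21)).upd 2 3 1 (le_of_eq hx23)).upd 3 2 3 (le_of_eq hx32)) ![0,1,1,1] (by decide) (by decide) 1 (by decide))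
  · -- 23=(3,1)
    exact False.elim (cert_false T ((skipEmb 4).trans (Function.Embedding.refl _)) (by norm_num) (fun _ => hall _) (((((LB_zero T ((skipEmb 4).trans (Function.Embedding.refl _))).upd 1 2 2 (le_of_eq hx12)).upd 2 1 1 (le_of_eq hx21)).upd 2 3 3 (le_of_eq hx23)).upd 3 2 1 (le_of_eq hx32)) ![0,1,2,1] (by decide) (by decide) 1 (by decide))

theorem case289 (T : NumericalType 5) (hall : ∀ i, T.IsMinusTwo i) (d : SData T)
    (h01 : N T (Function.Embedding.refl _) 0 1 = 0) (h10 : N T (Function.Embedding.refl _) 1 0 = 0)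
    (h02 : N T (Function.Embedding.refl _) 0 2 = 1) (h20 : N T (Function.Embedding.refl _) 2 0 = 2)
    (h12 : N T (Function.Embedding.refl _) 1 2 = 0) (h21 : N T (Function.Embedding.refl _) 2 1 = 0)
    (h03 : N T (Function.Embedding.refl _) 0 3 = 0) (h30 : N T (Function.Embedding.refl _) 3 0 = 0)
    (h13 : N T (Function.Embedding.refl _) 1 3 = 1) (h31 : N T (Function.Embedding.refl _) 3 1 = 1)
    (h23 : N T (Function.Embedding.refl _) 2 3 = 0) (h32 : N T (Function.Embedding.refl _) 3 2 = 0)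
    (h04 : N T (Function.Embedding.refl _) 0 4 = 0) (h40 : N T (Function.Embedding.refl _) 4 0 = 0) :
    Goal T := by
  unfold Goal
  have hd := d
  obtain ⟨x01, x02, x03, x04, x10, x12, x13, x14, x20, x21, x23, x24, x30, x31, x32, x34, x40, x41, x42, x43, hx01, hx02, hx03, hx04, hx10, hx12, hx13, hx14, hx20, hx21, hx23, hx24, hx30, hx31, hx32, hx34, hx40, hx41, hx42, hx43, hw0, hm0, hw1, hm1, hw2, hm2, hw3, hm3, hw4, hm4, a00, a01, a02, a03, a04, a11, a10, a12, a13, a14, a22, a20, a21, a23, a24, a33, a30, a31, a32, a34, a44, a40, a41, a42, a43, wN01, wN02, wN12, wN03, wN13, wN23, wN04, wN14, wN24, wN34, e0, e1, e2, e3, e4, d01, d02, d12, d03, d13, d23, d04, d14, d24, d34⟩ := d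
  obtain rfl : x01 = 0 := hx01.trans h01
  obtain rfl : x10 = 0 := hx10.trans h10
  obtain rfl : x02 = 1 := hx02.trans h02
  obtain rfl : x20 = 2 := hx20.trans h20
  obtain rfl : x12 = 0 := hx12.trans h12
  obtain rfl : x21 = 0 := hx21.trans h21
  obtain rfl : x03 = 0 := hx03.trans h03
  obtain rfl : x30 = 0 := hx30.trans h30
  obtain rfl : x13 = 1 := hx13.trans h13
  obtain rfl : x31 = 1 := hx31.trans h31
  obtain rfl : x23 = 0 := hx23.trans h23
  obtain rfl : x32 = 0 := hx32.trans h32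
  obtain rfl : x04 = 0 := hx04.trans h04
  obtain rfl : x40 = 0 := hx40.trans h40
  rcases d14 with ⟨rfl, rfl⟩ | ⟨rfl, rfl⟩ | ⟨rfl, rfl⟩ | ⟨rfl, rfl⟩ | ⟨rfl, rfl⟩ | ⟨rfl, rfl⟩
  · -- 14=(0,0)
    rcases d24 with ⟨rfl, rfl⟩ | ⟨rfl, rfl⟩ | ⟨rfl, rfl⟩ | ⟨rfl, rfl⟩ | ⟨rfl, rfl⟩ | ⟨rfl, rfl⟩
    · -- 24=(0,0)
      rcases d34 with ⟨rfl, rfl⟩ | ⟨rfl, rfl⟩ | ⟨rfl, rfl⟩ | ⟨rfl, rfl⟩ | ⟨rfl, rfl⟩ | ⟨rfl, rfl⟩
      · -- 34=(0,0)
        exfalso; omega
      · -- 34=(1,1)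
        exfalso; omega
      · -- 34=(1,2)
        exfalso; omega
      · -- 34=(2,1)
        exfalso; omega
      · -- 34=(1,3)
        exact False.elim (cert_false T ((skipEmb 2).trans (Function.Embedding.refl _)) (by norm_num) (fun _ => hall _) (((((LB_zero T ((skipEmb 2).trans (Function.Embedding.refl _))).upd 1 2 1 (le_of_eq hx13)).upd 2 1 1 (le_of_eq hx31)).upd 2 3 1 (le_of_eq hx34)).upd 3 2 3 (le_of_eq hx43)) ![0,1,2,3] (by decide) (by decide) 1 (by decide))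
      · -- 34=(3,1)
        exact False.elim (cert_false T ((skipEmb 2).trans (Function.Embedding.refl _)) (by norm_num) (fun _ => hall _) (((((LB_zero T ((skipEmb 2).trans (Function.Embedding.refl _))).upd 1 2 1 (le_of_eq hx13)).upd 2 1 1 (le_of_eq hx31)).upd 2 3 3 (le_of_eq hx34)).upd 3 2 1 (le_of_eq hx43)) ![0,1,2,1] (by decide) (by decide) 1 (by decide))
    · -- 24=(1,1)
      rcases d34 with ⟨rfl, rfl⟩ | ⟨rfl, rfl⟩ | ⟨rfl, rfl⟩ | ⟨rfl, rfl⟩ | ⟨rfl, rfl⟩ | ⟨rfl, rfl⟩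
      · -- 34=(0,0)
        exfalso; omega
      · -- 34=(1,1)
        exfalso; omega
      · -- 34=(1,2)
        exact False.elim (cert_false T ((skipEmb 1).trans (Function.Embedding.refl _)) (by norm_num) (fun _ => hall _) (((((((LB_zero T ((skipEmb 1).trans (Function.Embedding.refl _))).upd 0 1 1 (le_of_eq hx02)).upd 1 0 2 (le_of_eq hx20)).upd 1 3 1 (le_of_eq hx24)).upd 2 3 1 (le_of_eq hx34)).upd 3 1 1 (le_of_eq hx42)).upd 3 2 2 (le_of_eq hx43)) ![1,2,1,2] (by decide) (by decide) 0 (by decide))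
      · -- 34=(2,1)
        exact False.elim (cert_false T ((skipEmb 1).trans (Function.Embedding.refl _)) (by norm_num) (fun _ => hall _) (((((((LB_zero T ((skipEmb 1).trans (Function.Embedding.refl _))).upd 0 1 1 (le_of_eq hx02)).upd 1 0 2 (le_of_eq hx20)).upd 1 3 1 (le_of_eq hx24)).upd 2 3 2 (le_of_eq hx34)).upd 3 1 1 (le_of_eq hx42)).upd 3 2 1 (le_of_eq hx43)) ![1,2,2,2] (by decide) (by decide) 0 (by decide))
      · -- 34=(1,3)
        exact False.elim (cert_false T ((skipEmb 2).trans (Function.Embedding.refl _)) (by norm_num) (fun _ => hall _) (((((LB_zero T ((skipEmb 2).trans (Function.Embedding.refl _))).upd 1 2 1 (le_of_eq hx13)).upd 2 1 1 (le_of_eq hx31)).upd 2 3 1 (le_of_eq hx34)).upd 3 2 3 (le_of_eq hx43)) ![0,1,2,3] (by decide) (by decide) 1 (by decide))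
      · -- 34=(3,1)
        exact False.elim (cert_false T ((skipEmb 2).trans (Function.Embedding.refl _)) (by norm_num) (fun _ => hall _) (((((LB_zero T ((skipEmb 2).trans (Function.Embedding.refl _))).upd 1 2 1 (le_of_eq hx13)).upd 2 1 1 (le_of_eq hx31)).upd 2 3 3 (le_of_eq hx34)).upd 3 2 1 (le_of_eq hx43)) ![0,1,2,1] (by decide) (by decide) 1 (by decide))
    · -- 24=(1,2)
      exact False.elim (cert_false T ((skipEmb 3).trans (Function.Embedding.refl _)) (by norm_num) (fun _ => hall _) (((((LB_zero T ((skipEmb 3).trans (Function.Embedding.refl _))).upd 0 2 1 (le_of_eq hx02)).upd 2 0 2 (le_of_eq hx20)).upd 2 3 1 (le_of_eq hx24)).upd 3 2 2 (le_of_eq hx42)) ![1,0,2,2] (by decide) (by decide) 0 (by decide))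
    · -- 24=(2,1)
      exact False.elim (cert_false T ((skipEmb 3).trans (Function.Embedding.refl _)) (by norm_num) (fun _ => hall _) (((((LB_zero T ((skipEmb 3).trans (Function.Embedding.refl _))).upd 0 2 1 (le_of_eq hx02)).upd 2 0 2 (le_of_eq hx20)).upd 2 3 2 (le_of_eq hx24)).upd 3 2 1 (le_of_eq hx42)) ![1,0,2,1] (by decide) (by decide) 0 (by decide))
    · -- 24=(1,3)
      exact False.elim (cert_false T ((skipEmb 3).trans (Function.Embedding.refl _)) (by norm_num) (fun _ => hall _) (((((LB_zero T ((skipEmb 3).trans (Function.Embedding.refl _))).upd 0 2 1 (le_of_eq hx02)).upd 2 0 2 (le_of_eq hx20)).upd 2 3 1 (le_of_eq hx24)).upd 3 2 3 (le_of_eq hx42)) ![1,0,2,2] (by decide) (by decide) 0 (by decide))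
    · -- 24=(3,1)
      exact False.elim (cert_false T ((skipEmb 3).trans (Function.Embedding.refl _)) (by norm_num) (fun _ => hall _) (((((LB_zero T ((skipEmb 3).trans (Function.Embedding.refl _))).upd 0 2 1 (le_of_eq hx02)).upd 2 0 2 (le_of_eq hx20)).upd 2 3 3 (le_of_eq hx24)).upd 3 2 1 (le_of_eq hx42)) ![1,0,2,1] (by decide) (by decide) 0 (by decide))
  · -- 14=(1,1)
    rcases d24 with ⟨rfl, rfl⟩ | ⟨rfl, rfl⟩ | ⟨rfl, rfl⟩ | ⟨rfl, rfl⟩ | ⟨rfl, rfl⟩ | ⟨rfl, rfl⟩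
    · -- 24=(0,0)
      rcases d34 with ⟨rfl, rfl⟩ | ⟨rfl, rfl⟩ | ⟨rfl, rfl⟩ | ⟨rfl, rfl⟩ | ⟨rfl, rfl⟩ | ⟨rfl, rfl⟩
      · -- 34=(0,0)
        exfalso; omega
      · -- 34=(1,1)
        exact False.elim (cert_false T ((skipEmb 2).trans (Function.Embedding.refl _)) (by norm_num) (fun _ => hall _) (((((((LB_zero T ((skipEmb 2).trans (Function.Embedding.refl _))).upd 1 2 1 (le_of_eq hx13)).upd 1 3 1 (le_of_eq hx14)).upd 2 1 1 (le_of_eq hx31)).upd 2 3 1 (le_of_eq hx34)).upd 3 1 1 (le_of_eq hx41)).upd 3 2 1 (le_of_eq hx43)) ![0,1,1,1] (by decide) (by decide) 1 (by decide))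
      · -- 34=(1,2)
        exact False.elim (cert_false T ((skipEmb 2).trans (Function.Embedding.refl _)) (by norm_num) (fun _ => hall _) (((((((LB_zero T ((skipEmb 2).trans (Function.Embedding.refl _))).upd 1 2 1 (le_of_eq hx13)).upd 1 3 1 (le_of_eq hx14)).upd 2 1 1 (le_of_eq hx31)).upd 2 3 1 (le_of_eq hx34)).upd 3 1 1 (le_of_eq hx41)).upd 3 2 2 (le_of_eq hx43)) ![0,1,1,1] (by decide) (by decide) 1 (by decide))
      · -- 34=(2,1)
        exact False.elim (cert_false T ((skipEmb 2).trans (Function.Embedding.refl _)) (by norm_num) (fun _ => hall _) (((((((LB_zero T ((skipEmb 2).trans (Function.Embedding.refl _))).upd 1 2 1 (le_of_eq hx13)).upd 1 3 1 (le_of_eq hx14)).upd 2 1 1 (le_of_eq hx31)).upd 2 3 2 (le_of_eq hx34)).upd 3 1 1 (le_of_eq hx41)).upd 3 2 1 (le_of_eq hx43)) ![0,1,1,1] (by decide) (by decide) 1 (by decide))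
      · -- 34=(1,3)
        exact False.elim (cert_false T ((skipEmb 2).trans (Function.Embedding.refl _)) (by norm_num) (fun _ => hall _) (((((((LB_zero T ((skipEmb 2).trans (Function.Embedding.refl _))).upd 1 2 1 (le_of_eq hx13)).upd 1 3 1 (le_of_eq hx14)).upd 2 1 1 (le_of_eq hx31)).upd 2 3 1 (le_of_eq hx34)).upd 3 1 1 (le_of_eq hx41)).upd 3 2 3 (le_of_eq hx43)) ![0,1,1,1] (by decide) (by decide) 1 (by decide))
      · -- 34=(3,1)
        exact False.elim (cert_false T ((skipEmb 2).trans (Function.Embedding.refl _)) (by norm_num) (fun _ => hall _) (((((((LB_zero T ((skipEmb 2).trans (Function.Embedding.refl _))).upd 1 2 1 (le_of_eq hx13)).upd 1 3 1 (le_of_eq hx14)).upd 2 1 1 (le_of_eq hx31)).upd 2 3 3 (le_of_eq hx34)).upd 3 1 1 (le_of_eq hx41)).upd 3 2 1 (le_of_eq hx43)) ![0,1,1,1] (by decide) (by decide) 1 (by decide))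
    · -- 24=(1,1)
      rcases d34 with ⟨rfl, rfl⟩ | ⟨rfl, rfl⟩ | ⟨rfl, rfl⟩ | ⟨rfl, rfl⟩ | ⟨rfl, rfl⟩ | ⟨rfl, rfl⟩
      · -- 34=(0,0)
        exfalso; omega
      · -- 34=(1,1)
        exact False.elim (cert_false T ((skipEmb 2).trans (Function.Embedding.refl _)) (by norm_num) (fun _ => hall _) (((((((LB_zero T ((skipEmb 2).trans (Function.Embedding.refl _))).upd 1 2 1 (le_of_eq hx13)).upd 1 3 1 (le_of_eq hx14)).upd 2 1 1 (le_of_eq hx31)).upd 2 3 1 (le_of_eq hx34)).upd 3 1 1 (le_of_eq hx41)).upd 3 2 1 (le_of_eq hx43)) ![0,1,1,1] (by decide) (by decide) 1 (by decide))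
      · -- 34=(1,2)
        exact False.elim (cert_false T ((skipEmb 2).trans (Function.Embedding.refl _)) (by norm_num) (fun _ => hall _) (((((((LB_zero T ((skipEmb 2).trans (Function.Embedding.refl _))).upd 1 2 1 (le_of_eq hx13)).upd 1 3 1 (le_of_eq hx14)).upd 2 1 1 (le_of_eq hx31)).upd 2 3 1 (le_of_eq hx34)).upd 3 1 1 (le_of_eq hx41)).upd 3 2 2 (le_of_eq hx43)) ![0,1,1,1] (by decide) (by decide) 1 (by decide))
      · -- 34=(2,1)
        exact False.elim (cert_false T ((skipEmb 2).trans (Function.Embedding.refl _)) (by norm_num) (fun _ => hall _) (((((((LB_zero T ((skipEmb 2).trans (Function.Embedding.refl _))).upd 1 2 1 (le_of_eq hx13)).upd 1 3 1 (le_of_eq hx14)).upd 2 1 1 (le_of_eq hx31)).upd 2 3 2 (le_of_eq hx34)).upd 3 1 1 (le_of_eq hx41)).upd 3 2 1 (le_of_eq hx43)) ![0,1,1,1] (by decide) (by decide) 1 (by decide))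
      · -- 34=(1,3)
        exact False.elim (cert_false T ((skipEmb 2).trans (Function.Embedding.refl _)) (by norm_num) (fun _ => hall _) (((((((LB_zero T ((skipEmb 2).trans (Function.Embedding.refl _))).upd 1 2 1 (le_of_eq hx13)).upd 1 3 1 (le_of_eq hx14)).upd 2 1 1 (le_of_eq hx31)).upd 2 3 1 (le_of_eq hx34)).upd 3 1 1 (le_of_eq hx41)).upd 3 2 3 (le_of_eq hx43)) ![0,1,1,1] (by decide) (by decide) 1 (by decide))
      · -- 34=(3,1)
        exact False.elim (cert_false T ((skipEmb 2).trans (Function.Embedding.refl _)) (by norm_num) (fun _ => hall _) (((((((LB_zero T ((skipEmb 2).trans (Function.Embedding.refl _))).upd 1 2 1 (le_of_eq hx13)).upd 1 3 1 (le_of_eq hx14)).upd 2 1 1 (le_of_eq hx31)).upd 2 3 3 (le_of_eq hx34)).upd 3 1 1 (le_of_eq hx41)).upd 3 2 1 (le_of_eq hx43)) ![0,1,1,1] (by decide) (by decide) 1 (by decide))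
    · -- 24=(1,2)
      exact False.elim (cert_false T ((skipEmb 3).trans (Function.Embedding.refl _)) (by norm_num) (fun _ => hall _) (((((LB_zero T ((skipEmb 3).trans (Function.Embedding.refl _))).upd 0 2 1 (le_of_eq hx02)).upd 2 0 2 (le_of_eq hx20)).upd 2 3 1 (le_of_eq hx24)).upd 3 2 2 (le_of_eq hx42)) ![1,0,2,2] (by decide) (by decide) 0 (by decide))
    · -- 24=(2,1)
      exact False.elim (cert_false T ((skipEmb 3).trans (Function.Embedding.refl _)) (by norm_num) (fun _ => hall _) (((((LB_zero T ((skipEmb 3).trans (Function.Embedding.refl _))).upd 0 2 1 (le_of_eq hx02)).upd 2 0 2 (le_of_eq hx20)).upd 2 3 2 (le_of_eq hx24)).upd 3 2 1 (le_of_eq hx42)) ![1,0,2,1] (by decide) (by decide) 0 (by decide))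
    · -- 24=(1,3)
      exact False.elim (cert_false T ((skipEmb 3).trans (Function.Embedding.refl _)) (by norm_num) (fun _ => hall _) (((((LB_zero T ((skipEmb 3).trans (Function.Embedding.refl _))).upd 0 2 1 (le_of_eq hx02)).upd 2 0 2 (le_of_eq hx20)).upd 2 3 1 (le_of_eq hx24)).upd 3 2 3 (le_of_eq hx42)) ![1,0,2,2] (by decide) (by decide) 0 (by decide))
    · -- 24=(3,1)
      exact False.elim (cert_false T ((skipEmb 3).trans (Function.Embedding.refl _)) (by norm_num) (fun _ => hall _) (((((LB_zero T ((skipEmb 3).trans (Function.Embedding.refl _))).upd 0 2 1 (le_of_eq hx02)).upd 2 0 2 (le_of_eq hx20)).upd 2 3 3 (le_of_eq hx24)).upd 3 2 1 (le_of_eq hx42)) ![1,0,2,1] (by decide) (by decide) 0 (by decide))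
  · -- 14=(1,2)
    rcases d24 with ⟨rfl, rfl⟩ | ⟨rfl, rfl⟩ | ⟨rfl, rfl⟩ | ⟨rfl, rfl⟩ | ⟨rfl, rfl⟩ | ⟨rfl, rfl⟩
    · -- 24=(0,0)
      rcases d34 with ⟨rfl, rfl⟩ | ⟨rfl, rfl⟩ | ⟨rfl, rfl⟩ | ⟨rfl, rfl⟩ | ⟨rfl, rfl⟩ | ⟨rfl, rfl⟩
      · -- 34=(0,0)
        exfalso; omega
      · -- 34=(1,1)
        exact False.elim (cert_false T ((skipEmb 2).trans (Function.Embedding.refl _)) (by norm_num) (fun _ => hall _) (((((((LB_zero T ((skipEmb 2).trans (Function.Embedding.refl _))).upd 1 2 1 (le_of_eq hx13)).upd 1 3 1 (le_of_eq hx14)).upd 2 1 1 (le_of_eq hx31)).upd 2 3 1 (le_of_eq hx34)).upd 3 1 2 (le_of_eq hx41)).upd 3 2 1 (le_of_eq hx43)) ![0,1,1,1] (by decide) (by decide) 1 (by decide))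
      · -- 34=(1,2)
        exact False.elim (cert_false T ((skipEmb 2).trans (Function.Embedding.refl _)) (by norm_num) (fun _ => hall _) (((((((LB_zero T ((skipEmb 2).trans (Function.Embedding.refl _))).upd 1 2 1 (le_of_eq hx13)).upd 1 3 1 (le_of_eq hx14)).upd 2 1 1 (le_of_eq hx31)).upd 2 3 1 (le_of_eq hx34)).upd 3 1 2 (le_of_eq hx41)).upd 3 2 2 (le_of_eq hx43)) ![0,1,1,1] (by decide) (by decide) 1 (by decide))
      · -- 34=(2,1)
        exact False.elim (cert_false T ((skipEmb 2).trans (Function.Embedding.refl _)) (by norm_num) (fun _ => hall _) (((((((LB_zero T ((skipEmb 2).trans (Function.Embedding.refl _))).upd 1 2 1 (le_of_eq hx13)).upd 1 3 1 (le_of_eq hx14)).upd 2 1 1 (le_of_eq hx31)).upd 2 3 2 (le_of_eq hx34)).upd 3 1 2 (le_of_eq hx41)).upd 3 2 1 (le_of_eq hx43)) ![0,1,1,1] (by decide) (by decide) 1 (by decide))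
      · -- 34=(1,3)
        exact False.elim (cert_false T ((skipEmb 2).trans (Function.Embedding.refl _)) (by norm_num) (fun _ => hall _) (((((((LB_zero T ((skipEmb 2).trans (Function.Embedding.refl _))).upd 1 2 1 (le_of_eq hx13)).upd 1 3 1 (le_of_eq hx14)).upd 2 1 1 (le_of_eq hx31)).upd 2 3 1 (le_of_eq hx34)).upd 3 1 2 (le_of_eq hx41)).upd 3 2 3 (le_of_eq hx43)) ![0,1,1,1] (by decide) (by decide) 1 (by decide))
      · -- 34=(3,1)
        exact False.elim (cert_false T ((skipEmb 2).trans (Function.Embedding.refl _)) (by norm_num) (fun _ => hall _) (((((((LB_zero T ((skipEmb 2).trans (Function.Embedding.refl _))).upd 1 2 1 (le_of_eq hx13)).upd 1 3 1 (le_of_eq hx14)).upd 2 1 1 (le_of_eq hx31)).upd 2 3 3 (le_of_eq hx34)).upd 3 1 2 (le_of_eq hx41)).upd 3 2 1 (le_of_eq hx43)) ![0,1,1,1] (by decide) (by decide) 1 (by decide))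
    · -- 24=(1,1)
      exact False.elim (cert_false T ((skipEmb 3).trans (Function.Embedding.refl _)) (by norm_num) (fun _ => hall _) (((((((LB_zero T ((skipEmb 3).trans (Function.Embedding.refl _))).upd 0 2 1 (le_of_eq hx02)).upd 1 3 1 (le_of_eq hx14)).upd 2 0 2 (le_of_eq hx20)).upd 2 3 1 (le_of_eq hx24)).upd 3 1 2 (le_of_eq hx41)).upd 3 2 1 (le_of_eq hx42)) ![1,1,2,2] (by decide) (by decide) 0 (by decide))
    · -- 24=(1,2)
      exact False.elim (cert_false T ((skipEmb 3).trans (Function.Embedding.refl _)) (by norm_num) (fun _ => hall _) (((((LB_zero T ((skipEmb 3).trans (Function.Embedding.refl _))).upd 0 2 1 (le_of_eq hx02)).upd 2 0 2 (le_of_eq hx20)).upd 2 3 1 (le_of_eq hx24)).upd 3 2 2 (le_of_eq hx42)) ![1,0,2,2] (by decide) (by decide) 0 (by decide))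
    · -- 24=(2,1)
      exact False.elim (cert_false T ((skipEmb 3).trans (Function.Embedding.refl _)) (by norm_num) (fun _ => hall _) (((((LB_zero T ((skipEmb 3).trans (Function.Embedding.refl _))).upd 1 3 1 (le_of_eq hx14)).upd 2 3 2 (le_of_eq hx24)).upd 3 1 2 (le_of_eq hx41)).upd 3 2 1 (le_of_eq hx42)) ![0,1,2,2] (by decide) (by decide) 1 (by decide))
    · -- 24=(1,3)
      exact False.elim (cert_false T ((skipEmb 3).trans (Function.Embedding.refl _)) (by norm_num) (fun _ => hall _) (((((LB_zero T ((skipEmb 3).trans (Function.Embedding.refl _))).upd 0 2 1 (le_of_eq hx02)).upd 2 0 2 (le_of_eq hx20)).upd 2 3 1 (le_of_eq hx24)).upd 3 2 3 (le_of_eq hx42)) ![1,0,2,2] (by decide) (by decide) 0 (by decide))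
    · -- 24=(3,1)
      exact False.elim (cert_false T ((skipEmb 3).trans (Function.Embedding.refl _)) (by norm_num) (fun _ => hall _) (((((LB_zero T ((skipEmb 3).trans (Function.Embedding.refl _))).upd 1 3 1 (le_of_eq hx14)).upd 2 3 3 (le_of_eq hx24)).upd 3 1 2 (le_of_eq hx41)).upd 3 2 1 (le_of_eq hx42)) ![0,1,2,2] (by decide) (by decide) 1 (by decide))
  · -- 14=(2,1)
    rcases d24 with ⟨rfl, rfl⟩ | ⟨rfl, rfl⟩ | ⟨rfl, rfl⟩ | ⟨rfl, rfl⟩ | ⟨rfl, rfl⟩ | ⟨rfl, rfl⟩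
    · -- 24=(0,0)
      rcases d34 with ⟨rfl, rfl⟩ | ⟨rfl, rfl⟩ | ⟨rfl, rfl⟩ | ⟨rfl, rfl⟩ | ⟨rfl, rfl⟩ | ⟨rfl, rfl⟩
      · -- 34=(0,0)
        exfalso; omega
      · -- 34=(1,1)
        exact False.elim (cert_false T ((skipEmb 2).trans (Function.Embedding.refl _)) (by norm_num) (fun _ => hall _) (((((((LB_zero T ((skipEmb 2).trans (Function.Embedding.refl _))).upd 1 2 1 (le_of_eq hx13)).upd 1 3 2 (le_of_eq hx14)).upd 2 1 1 (le_of_eq hx31)).upd 2 3 1 (le_of_eq hx34)).upd 3 1 1 (le_of_eq hx41)).upd 3 2 1 (le_of_eq hx43)) ![0,1,1,1] (by decide) (by decide) 1 (by decide))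
      · -- 34=(1,2)
        exact False.elim (cert_false T ((skipEmb 2).trans (Function.Embedding.refl _)) (by norm_num) (fun _ => hall _) (((((((LB_zero T ((skipEmb 2).trans (Function.Embedding.refl _))).upd 1 2 1 (le_of_eq hx13)).upd 1 3 2 (le_of_eq hx14)).upd 2 1 1 (le_of_eq hx31)).upd 2 3 1 (le_of_eq hx34)).upd 3 1 1 (le_of_eq hx41)).upd 3 2 2 (le_of_eq hx43)) ![0,1,1,1] (by decide) (by decide) 1 (by decide))
      · -- 34=(2,1)
        exact False.elim (cert_false T ((skipEmb 2).trans (Function.Embedding.refl _)) (by norm_num) (fun _ => hall _) (((((((LB_zero T ((skipEmb 2).trans (Function.Embedding.refl _))).upd 1 2 1 (le_of_eq hx13)).upd 1 3 2 (le_of_eq hx14)).upd 2 1 1 (le_of_eq hx31)).upd 2 3 2 (le_of_eq hx34)).upd 3 1 1 (le_of_eq hx41)).upd 3 2 1 (le_of_eq hx43)) ![0,1,1,1] (by decide) (by decide) 1 (by decide))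
      · -- 34=(1,3)
        exact False.elim (cert_false T ((skipEmb 2).trans (Function.Embedding.refl _)) (by norm_num) (fun _ => hall _) (((((((LB_zero T ((skipEmb 2).trans (Function.Embedding.refl _))).upd 1 2 1 (le_of_eq hx13)).upd 1 3 2 (le_of_eq hx14)).upd 2 1 1 (le_of_eq hx31)).upd 2 3 1 (le_of_eq hx34)).upd 3 1 1 (le_of_eq hx41)).upd 3 2 3 (le_of_eq hx43)) ![0,1,1,1] (by decide) (by decide) 1 (by decide))
      · -- 34=(3,1)
        exact False.elim (cert_false T ((skipEmb 2).trans (Function.Embedding.refl _)) (by norm_num) (fun _ => hall _) (((((((LB_zero T ((skipEmb 2).trans (Function.Embedding.refl _))).upd 1 2 1 (le_of_eq hx13)).upd 1 3 2 (le_of_eq hx14)).upd 2 1 1 (le_of_eq hx31)).upd 2 3 3 (le_of_eq hx34)).upd 3 1 1 (le_of_eq hx41)).upd 3 2 1 (le_of_eq hx43)) ![0,1,1,1] (by decide) (by decide) 1 (by decide))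
    · -- 24=(1,1)
      exact False.elim (cert_false T ((skipEmb 3).trans (Function.Embedding.refl _)) (by norm_num) (fun _ => hall _) (((((((LB_zero T ((skipEmb 3).trans (Function.Embedding.refl _))).upd 0 2 1 (le_of_eq hx02)).upd 1 3 2 (le_of_eq hx14)).upd 2 0 2 (le_of_eq hx20)).upd 2 3 1 (le_of_eq hx24)).upd 3 1 1 (le_of_eq hx41)).upd 3 2 1 (le_of_eq hx42)) ![1,2,2,2] (by decide) (by decide) 0 (by decide))
    · -- 24=(1,2)
      exact False.elim (cert_false T ((skipEmb 3).trans (Function.Embedding.refl _)) (by norm_num) (fun _ => hall _) (((((LB_zero T ((skipEmb 3).trans (Function.Embedding.refl _))).upd 1 3 2 (le_of_eq hx14)).upd 2 3 1 (le_of_eq hx24)).upd 3 1 1 (le_of_eq hx41)).upd 3 2 2 (le_of_eq hx42)) ![0,2,1,2] (by decide) (by decide) 1 (by decide))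
    · -- 24=(2,1)
      exact False.elim (cert_false T ((skipEmb 3).trans (Function.Embedding.refl _)) (by norm_num) (fun _ => hall _) (((((LB_zero T ((skipEmb 3).trans (Function.Embedding.refl _))).upd 1 3 2 (le_of_eq hx14)).upd 2 3 2 (le_of_eq hx24)).upd 3 1 1 (le_of_eq hx41)).upd 3 2 1 (le_of_eq hx42)) ![0,1,1,1] (by decide) (by decide) 1 (by decide))
    · -- 24=(1,3)
      exact False.elim (cert_false T ((skipEmb 3).trans (Function.Embedding.refl _)) (by norm_num) (fun _ => hall _) (((((LB_zero T ((skipEmb 3).trans (Function.Embedding.refl _))).upd 0 2 1 (le_of_eq hx02)).upd 2 0 2 (le_of_eq hx20)).upd 2 3 1 (le_of_eq hx24)).upd 3 2 3 (le_of_eq hx42)) ![1,0,2,2] (by decide) (by decide) 0 (by decide))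
    · -- 24=(3,1)
      exact False.elim (cert_false T ((skipEmb 3).trans (Function.Embedding.refl _)) (by norm_num) (fun _ => hall _) (((((LB_zero T ((skipEmb 3).trans (Function.Embedding.refl _))).upd 1 3 2 (le_of_eq hx14)).upd 2 3 3 (le_of_eq hx24)).upd 3 1 1 (le_of_eq hx41)).upd 3 2 1 (le_of_eq hx42)) ![0,1,1,1] (by decide) (by decide) 1 (by decide))
  · -- 14=(1,3)
    exact False.elim (cert_false T ((skipEmb 2).trans (Function.Embedding.refl _)) (by norm_num) (fun _ => hall _) (((((LB_zero T ((skipEmb 2).trans (Function.Embedding.refl _))).upd 1 2 1 (le_of_eq hx13)).upd 1 3 1 (le_of_eq hx14)).upd 2 1 1 (le_of_eq hx31)).upd 3 1 3 (le_of_eq hx41)) ![0,2,1,3] (by decide) (by decide) 1 (by decide))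
  · -- 14=(3,1)
    exact False.elim (cert_false T ((skipEmb 2).trans (Function.Embedding.refl _)) (by norm_num) (fun _ => hall _) (((((LB_zero T ((skipEmb 2).trans (Function.Embedding.refl _))).upd 1 2 1 (le_of_eq hx13)).upd 1 3 3 (le_of_eq hx14)).upd 2 1 1 (le_of_eq hx31)).upd 3 1 1 (le_of_eq hx41)) ![0,2,1,1] (by decide) (by decide) 1 (by decide))

theorem case288 (T : NumericalType 5) (hall : ∀ i, T.IsMinusTwo i) (d : SData T)
    (h01 : N T (Function.Embedding.refl _) 0 1 = 0) (h10 : N T (Function.Embedding.refl _) 1 0 = 0)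
    (h02 : N T (Function.Embedding.refl _) 0 2 = 1) (h20 : N T (Function.Embedding.refl _) 2 0 = 2)
    (h12 : N T (Function.Embedding.refl _) 1 2 = 0) (h21 : N T (Function.Embedding.refl _) 2 1 = 0)
    (h03 : N T (Function.Embedding.refl _) 0 3 = 0) (h30 : N T (Function.Embedding.refl _) 3 0 = 0)
    (h13 : N T (Function.Embedding.refl _) 1 3 = 1) (h31 : N T (Function.Embedding.refl _) 3 1 = 1)
    (h23 : N T (Function.Embedding.refl _) 2 3 = 0) (h32 : N T (Function.Embedding.refl _) 3 2 = 0) :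
    Goal T := by
  unfold Goal
  have hd := d
  obtain ⟨x01, x02, x03, x04, x10, x12, x13, x14, x20, x21, x23, x24, x30, x31, x32, x34, x40, x41, x42, x43, hx01, hx02, hx03, hx04, hx10, hx12, hx13, hx14, hx20, hx21, hx23, hx24, hx30, hx31, hx32, hx34, hx40, hx41, hx42, hx43, hw0, hm0, hw1, hm1, hw2, hm2, hw3, hm3, hw4, hm4, a00, a01, a02, a03, a04, a11, a10, a12, a13, a14, a22, a20, a21, a23, a24, a33, a30, a31, a32, a34, a44, a40, a41, a42, a43, wN01, wN02, wN12, wN03, wN13, wN23, wN04, wN14, wN24, wN34, e0, e1, e2, e3, e4, d01, d02, d12, d03, d13, d23, d04, d14, d24, d34⟩ := d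
  obtain rfl : x01 = 0 := hx01.trans h01
  obtain rfl : x10 = 0 := hx10.trans h10
  obtain rfl : x02 = 1 := hx02.trans h02
  obtain rfl : x20 = 2 := hx20.trans h20
  obtain rfl : x12 = 0 := hx12.trans h12
  obtain rfl : x21 = 0 := hx21.trans h21
  obtain rfl : x03 = 0 := hx03.trans h03
  obtain rfl : x30 = 0 := hx30.trans h30
  obtain rfl : x13 = 1 := hx13.trans h13
  obtain rfl : x31 = 1 := hx31.trans h31
  obtain rfl : x23 = 0 := hx23.trans h23
  obtain rfl : x32 = 0 := hx32.trans h32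
  rcases d04 with ⟨rfl, rfl⟩ | ⟨rfl, rfl⟩ | ⟨rfl, rfl⟩ | ⟨rfl, rfl⟩ | ⟨rfl, rfl⟩ | ⟨rfl, rfl⟩
  · -- 04=(0,0)
    exact case289 T hall hd hx01.symm hx10.symm hx02.symm hx20.symm hx12.symm hx21.symm hx03.symm hx30.symm hx13.symm hx31.symm hx23.symm hx32.symm hx04.symm hx40.symm
  · -- 04=(1,1)
    rcases d14 with ⟨rfl, rfl⟩ | ⟨rfl, rfl⟩ | ⟨rfl, rfl⟩ | ⟨rfl, rfl⟩ | ⟨rfl, rfl⟩ | ⟨rfl, rfl⟩
    · -- 14=(0,0)
      rcases d24 with ⟨rfl, rfl⟩ | ⟨rfl, rfl⟩ | ⟨rfl, rfl⟩ | ⟨rfl, rfl⟩ | ⟨rfl, rfl⟩ | ⟨rfl, rfl⟩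
      · -- 24=(0,0)
        rcases d34 with ⟨rfl, rfl⟩ | ⟨rfl, rfl⟩ | ⟨rfl, rfl⟩ | ⟨rfl, rfl⟩ | ⟨rfl, rfl⟩ | ⟨rfl, rfl⟩
        · -- 34=(0,0)
          exfalso; omega
        · -- 34=(1,1)
          exfalso; omega
        · -- 34=(1,2)
          exact False.elim (cert_false T ((skipEmb 1).trans (Function.Embedding.refl _)) (by norm_num) (fun _ => hall _) (((((((LB_zero T ((skipEmb 1).trans (Function.Embedding.refl _))).upd 0 1 1 (le_of_eq hx02)).upd 0 3 1 (le_of_eq hx04)).upd 1 0 2 (le_of_eq hx20)).upd 2 3 1 (le_of_eq hx34)).upd 3 0 1 (le_of_eq hx40)).upd 3 2 2 (le_of_eq hx43)) ![2,2,1,2] (by decide) (by decide) 0 (by decide))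
        · -- 34=(2,1)
          exact False.elim (cert_false T ((skipEmb 1).trans (Function.Embedding.refl _)) (by norm_num) (fun _ => hall _) (((((((LB_zero T ((skipEmb 1).trans (Function.Embedding.refl _))).upd 0 1 1 (le_of_eq hx02)).upd 0 3 1 (le_of_eq hx04)).upd 1 0 2 (le_of_eq hx20)).upd 2 3 2 (le_of_eq hx34)).upd 3 0 1 (le_of_eq hx40)).upd 3 2 1 (le_of_eq hx43)) ![1,1,1,1] (by decide) (by decide) 0 (by decide))
        · -- 34=(1,3)
          exact False.elim (cert_false T ((skipEmb 2).trans (Function.Embedding.refl _)) (by norm_num) (fun _ => hall _) (((((LB_zero T ((skipEmb 2).trans (Function.Embedding.refl _))).upd 0 3 1 (le_of_eq hx04)).upd 2 3 1 (le_of_eq hx34)).upd 3 0 1 (le_of_eq hx40)).upd 3 2 3 (le_of_eq hx43)) ![1,0,1,2] (by decide) (by decide) 0 (by decide))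
        · -- 34=(3,1)
          exact False.elim (cert_false T ((skipEmb 2).trans (Function.Embedding.refl _)) (by norm_num) (fun _ => hall _) (((((LB_zero T ((skipEmb 2).trans (Function.Embedding.refl _))).upd 1 2 1 (le_of_eq hx13)).upd 2 1 1 (le_of_eq hx31)).upd 2 3 3 (le_of_eq hx34)).upd 3 2 1 (le_of_eq hx43)) ![0,1,2,1] (by decide) (by decide) 1 (by decide))
      · -- 24=(1,1)
        exact False.elim (cert_false T ((skipEmb 3).trans (Function.Embedding.refl _)) (by norm_num) (fun _ => hall _) (((((((LB_zero T ((skipEmb 3).trans (Function.Embedding.refl _))).upd 0 2 1 (le_of_eq hx02)).upd 0 3 1 (le_of_eq hx04)).upd 2 0 2 (le_of_eq hx20)).upd 2 3 1 (le_of_eq hx24)).upd 3 0 1 (le_of_eq hx40)).upd 3 2 1 (le_of_eq hx42)) ![1,0,1,1] (by decide) (by decide) 0 (by decide))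
      · -- 24=(1,2)
        exact False.elim (cert_false T ((skipEmb 3).trans (Function.Embedding.refl _)) (by norm_num) (fun _ => hall _) (((((((LB_zero T ((skipEmb 3).trans (Function.Embedding.refl _))).upd 0 2 1 (le_of_eq hx02)).upd 0 3 1 (le_of_eq hx04)).upd 2 0 2 (le_of_eq hx20)).upd 2 3 1 (le_of_eq hx24)).upd 3 0 1 (le_of_eq hx40)).upd 3 2 2 (le_of_eq hx42)) ![1,0,1,1] (by decide) (by decide) 0 (by decide))
      · -- 24=(2,1)
        exact False.elim (cert_false T ((skipEmb 3).trans (Function.Embedding.refl _)) (by norm_num) (fun _ => hall _) (((((((LB_zero T ((skipEmb 3).trans (Function.Embedding.refl _))).upd 0 2 1 (le_of_eq hx02)).upd 0 3 1 (le_of_eq hx04)).upd 2 0 2 (le_of_eq hx20)).upd 2 3 2 (le_of_eq hx24)).upd 3 0 1 (le_of_eq hx40)).upd 3 2 1 (le_of_eq hx42)) ![1,0,1,1] (by decide) (by decide) 0 (by decide))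
      · -- 24=(1,3)
        exact False.elim (cert_false T ((skipEmb 3).trans (Function.Embedding.refl _)) (by norm_num) (fun _ => hall _) (((((((LB_zero T ((skipEmb 3).trans (Function.Embedding.refl _))).upd 0 2 1 (le_of_eq hx02)).upd 0 3 1 (le_of_eq hx04)).upd 2 0 2 (le_of_eq hx20)).upd 2 3 1 (le_of_eq hx24)).upd 3 0 1 (le_of_eq hx40)).upd 3 2 3 (le_of_eq hx42)) ![1,0,1,1] (by decide) (by decide) 0 (by decide))
      · -- 24=(3,1)
        exact False.elim (cert_false T ((skipEmb 3).trans (Function.Embedding.refl _)) (by norm_num) (fun _ => hall _) (((((((LB_zero T ((skipEmb 3).trans (Function.Embedding.refl _))).upd 0 2 1 (le_of_eq hx02)).upd 0 3 1 (le_of_eq hx04)).upd 2 0 2 (le_of_eq hx20)).upd 2 3 3 (le_of_eq hx24)).upd 3 0 1 (le_of_eq hx40)).upd 3 2 1 (le_of_eq hx42)) ![1,0,1,1] (by decide) (by decide) 0 (by decide))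
    · -- 14=(1,1)
      rcases d24 with ⟨rfl, rfl⟩ | ⟨rfl, rfl⟩ | ⟨rfl, rfl⟩ | ⟨rfl, rfl⟩ | ⟨rfl, rfl⟩ | ⟨rfl, rfl⟩
      · -- 24=(0,0)
        rcases d34 with ⟨rfl, rfl⟩ | ⟨rfl, rfl⟩ | ⟨rfl, rfl⟩ | ⟨rfl, rfl⟩ | ⟨rfl, rfl⟩ | ⟨rfl, rfl⟩
        · -- 34=(0,0)
          exfalso; omega
        · -- 34=(1,1)
          exact False.elim (cert_false T ((skipEmb 2).trans (Function.Embedding.refl _)) (by norm_num) (fun _ => hall _) (((((((LB_zero T ((skipEmb 2).trans (Function.Embedding.refl _))).upd 1 2 1 (le_of_eq hx13)).upd 1 3 1 (le_of_eq hx14)).upd 2 1 1 (le_of_eq hx31)).upd 2 3 1 (le_of_eq hx34)).upd 3 1 1 (le_of_eq hx41)).upd 3 2 1 (le_of_eq hx43)) ![0,1,1,1] (by decide) (by decide) 1 (by decide))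
        · -- 34=(1,2)
          exact False.elim (cert_false T ((skipEmb 2).trans (Function.Embedding.refl _)) (by norm_num) (fun _ => hall _) (((((((LB_zero T ((skipEmb 2).trans (Function.Embedding.refl _))).upd 1 2 1 (le_of_eq hx13)).upd 1 3 1 (le_of_eq hx14)).upd 2 1 1 (le_of_eq hx31)).upd 2 3 1 (le_of_eq hx34)).upd 3 1 1 (le_of_eq hx41)).upd 3 2 2 (le_of_eq hx43)) ![0,1,1,1] (by decide) (by decide) 1 (by decide))
        · -- 34=(2,1)
          exact False.elim (cert_false T ((skipEmb 2).trans (Function.Embedding.refl _)) (by norm_num) (fun _ => hall _) (((((((LB_zero T ((skipEmb 2).trans (Function.Embedding.refl _))).upd 1 2 1 (le_of_eq hx13)).upd 1 3 1 (le_of_eq hx14)).upd 2 1 1 (le_of_eq hx31)).upd 2 3 2 (le_of_eq hx34)).upd 3 1 1 (le_of_eq hx41)).upd 3 2 1 (le_of_eq hx43)) ![0,1,1,1] (by decide) (by decide) 1 (by decide))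
        · -- 34=(1,3)
          exact False.elim (cert_false T ((skipEmb 2).trans (Function.Embedding.refl _)) (by norm_num) (fun _ => hall _) (((((((LB_zero T ((skipEmb 2).trans (Function.Embedding.refl _))).upd 1 2 1 (le_of_eq hx13)).upd 1 3 1 (le_of_eq hx14)).upd 2 1 1 (le_of_eq hx31)).upd 2 3 1 (le_of_eq hx34)).upd 3 1 1 (le_of_eq hx41)).upd 3 2 3 (le_of_eq hx43)) ![0,1,1,1] (by decide) (by decide) 1 (by decide))
        · -- 34=(3,1)
          exact False.elim (cert_false T ((skipEmb 2).trans (Function.Embedding.refl _)) (by norm_num) (fun _ => hall _) (((((((LB_zero T ((skipEmb 2).trans (Function.Embedding.refl _))).upd 1 2 1 (le_of_eq hx13)).upd 1 3 1 (le_of_eq hx14)).upd 2 1 1 (le_of_eq hx31)).upd 2 3 3 (le_of_eq hx34)).upd 3 1 1 (le_of_eq hx41)).upd 3 2 1 (le_of_eq hx43)) ![0,1,1,1] (by decide) (by decide) 1 (by decide))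
      · -- 24=(1,1)
        exact False.elim (cert_false T ((skipEmb 3).trans (Function.Embedding.refl _)) (by norm_num) (fun _ => hall _) (((((((LB_zero T ((skipEmb 3).trans (Function.Embedding.refl _))).upd 0 2 1 (le_of_eq hx02)).upd 0 3 1 (le_of_eq hx04)).upd 2 0 2 (le_of_eq hx20)).upd 2 3 1 (le_of_eq hx24)).upd 3 0 1 (le_of_eq hx40)).upd 3 2 1 (le_of_eq hx42)) ![1,0,1,1] (by decide) (by decide) 0 (by decide))
      · -- 24=(1,2)
        exact False.elim (cert_false T ((skipEmb 3).trans (Function.Embedding.refl _)) (by norm_num) (fun _ => hall _) (((((((LB_zero T ((skipEmb 3).trans (Function.Embedding.refl _))).upd 0 2 1 (le_of_eq hx02)).upd 0 3 1 (le_of_eq hx04)).upd 2 0 2 (le_of_eq hx20)).upd 2 3 1 (le_of_eq hx24)).upd 3 0 1 (le_of_eq hx40)).upd 3 2 2 (le_of_eq hx42)) ![1,0,1,1] (by decide) (by decide) 0 (by decide))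
      · -- 24=(2,1)
        exact False.elim (cert_false T ((skipEmb 3).trans (Function.Embedding.refl _)) (by norm_num) (fun _ => hall _) (((((((LB_zero T ((skipEmb 3).trans (Function.Embedding.refl _))).upd 0 2 1 (le_of_eq hx02)).upd 0 3 1 (le_of_eq hx04)).upd 2 0 2 (le_of_eq hx20)).upd 2 3 2 (le_of_eq hx24)).upd 3 0 1 (le_of_eq hx40)).upd 3 2 1 (le_of_eq hx42)) ![1,0,1,1] (by decide) (by decide) 0 (by decide))
      · -- 24=(1,3)
        exact False.elim (cert_false T ((skipEmb 3).trans (Function.Embedding.refl _)) (by norm_num) (fun _ => hall _) (((((((LB_zero T ((skipEmb 3).trans (Function.Embedding.refl _))).upd 0 2 1 (le_of_eq hx02)).upd 0 3 1 (le_of_eq hx04)).upd 2 0 2 (le_of_eq hx20)).upd 2 3 1 (le_of_eq hx24)).upd 3 0 1 (le_of_eq hx40)).upd 3 2 3 (le_of_eq hx42)) ![1,0,1,1] (by decide) (by decide) 0 (by decide))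
      · -- 24=(3,1)
        exact False.elim (cert_false T ((skipEmb 3).trans (Function.Embedding.refl _)) (by norm_num) (fun _ => hall _) (((((((LB_zero T ((skipEmb 3).trans (Function.Embedding.refl _))).upd 0 2 1 (le_of_eq hx02)).upd 0 3 1 (le_of_eq hx04)).upd 2 0 2 (le_of_eq hx20)).upd 2 3 3 (le_of_eq hx24)).upd 3 0 1 (le_of_eq hx40)).upd 3 2 1 (le_of_eq hx42)) ![1,0,1,1] (by decide) (by decide) 0 (by decide))
    · -- 14=(1,2)
      exact False.elim (cert_false T ((skipEmb 3).trans (Function.Embedding.refl _)) (by norm_num) (fun _ => hall _) (((((((LB_zero T ((skipEmb 3).trans (Function.Embedding.refl _))).upd 0 2 1 (le_of_eq hx02)).upd 0 3 1 (le_of_eq hx04)).upd 1 3 1 (le_of_eq hx14)).upd 2 0 2 (le_of_eq hx20)).upd 3 0 1 (le_of_eq hx40)).upd 3 1 2 (le_of_eq hx41)) ![2,1,2,2] (by decide) (by decide) 0 (by decide))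
    · -- 14=(2,1)
      exact False.elim (cert_false T ((skipEmb 3).trans (Function.Embedding.refl _)) (by norm_num) (fun _ => hall _) (((((((LB_zero T ((skipEmb 3).trans (Function.Embedding.refl _))).upd 0 2 1 (le_of_eq hx02)).upd 0 3 1 (le_of_eq hx04)).upd 1 3 2 (le_of_eq hx14)).upd 2 0 2 (le_of_eq hx20)).upd 3 0 1 (le_of_eq hx40)).upd 3 1 1 (le_of_eq hx41)) ![1,1,1,1] (by decide) (by decide) 0 (by decide))
    · -- 14=(1,3)
      exact False.elim (cert_false T ((skipEmb 3).trans (Function.Embedding.refl _)) (by norm_num) (fun _ => hall _) (((((LB_zero T ((skipEmb 3).trans (Function.Embedding.refl _))).upd 0 3 1 (le_of_eq hx04)).upd 1 3 1 (le_of_eq hx14)).upd 3 0 1 (le_of_eq hx40)).upd 3 1 3 (le_of_eq hx41)) ![1,1,0,2] (by decide) (by decide) 0 (by decide))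
    · -- 14=(3,1)
      exact False.elim (cert_false T ((skipEmb 3).trans (Function.Embedding.refl _)) (by norm_num) (fun _ => hall _) (((((((LB_zero T ((skipEmb 3).trans (Function.Embedding.refl _))).upd 0 2 1 (le_of_eq hx02)).upd 0 3 1 (le_of_eq hx04)).upd 1 3 3 (le_of_eq hx14)).upd 2 0 2 (le_of_eq hx20)).upd 3 0 1 (le_of_eq hx40)).upd 3 1 1 (le_of_eq hx41)) ![1,1,1,1] (by decide) (by decide) 0 (by decide))
  · -- 04=(1,2)
    exact False.elim (cert_false T ((skipEmb 3).trans (Function.Embedding.refl _)) (by norm_num) (fun _ => hall _) (((((LB_zero T ((skipEmb 3).trans (Function.Embedding.refl _))).upd 0 2 1 (le_of_eq hx02)).upd 0 3 1 (le_of_eq hx04)).upd 2 0 2 (le_of_eq hx20)).upd 3 0 2 (le_of_eq hx40)) ![1,0,1,1] (by decide) (by decide) 0 (by decide))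
  · -- 04=(2,1)
    exact False.elim (cert_false T ((skipEmb 3).trans (Function.Embedding.refl _)) (by norm_num) (fun _ => hall _) (((((LB_zero T ((skipEmb 3).trans (Function.Embedding.refl _))).upd 0 2 1 (le_of_eq hx02)).upd 0 3 2 (le_of_eq hx04)).upd 2 0 2 (le_of_eq hx20)).upd 3 0 1 (le_of_eq hx40)) ![2,0,2,1] (by decide) (by decide) 0 (by decide))
  · -- 04=(1,3)
    exact False.elim (cert_false T ((skipEmb 3).trans (Function.Embedding.refl _)) (by norm_num) (fun _ => hall _) (((((LB_zero T ((skipEmb 3).trans (Function.Embedding.refl _))).upd 0 2 1 (le_of_eq hx02)).upd 0 3 1 (le_of_eq hx04)).upd 2 0 2 (le_of_eq hx20)).upd 3 0 3 (le_of_eq hx40)) ![1,0,1,1] (by decide) (by decide) 0 (by decide))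
  · -- 04=(3,1)
    exact False.elim (cert_false T ((skipEmb 3).trans (Function.Embedding.refl _)) (by norm_num) (fun _ => hall _) (((((LB_zero T ((skipEmb 3).trans (Function.Embedding.refl _))).upd 0 2 1 (le_of_eq hx02)).upd 0 3 3 (le_of_eq hx04)).upd 2 0 2 (le_of_eq hx20)).upd 3 0 1 (le_of_eq hx40)) ![2,0,1,1] (by decide) (by decide) 0 (by decide))

theorem case290 (T : NumericalType 5) (hall : ∀ i, T.IsMinusTwo i) (d : SData T)
    (h01 : N T (Function.Embedding.refl _) 0 1 = 0) (h10 : N T (Function.Embedding.refl _) 1 0 = 0)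
    (h02 : N T (Function.Embedding.refl _) 0 2 = 1) (h20 : N T (Function.Embedding.refl _) 2 0 = 2)
    (h12 : N T (Function.Embedding.refl _) 1 2 = 0) (h21 : N T (Function.Embedding.refl _) 2 1 = 0)
    (h03 : N T (Function.Embedding.refl _) 0 3 = 0) (h30 : N T (Function.Embedding.refl _) 3 0 = 0)
    (h13 : N T (Function.Embedding.refl _) 1 3 = 1) (h31 : N T (Function.Embedding.refl _) 3 1 = 1)
    (h23 : N T (Function.Embedding.refl _) 2 3 = 1) (h32 : N T (Function.Embedding.refl _) 3 2 = 1) :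
    Goal T := by
  unfold Goal
  have hd := d
  obtain ⟨x01, x02, x03, x04, x10, x12, x13, x14, x20, x21, x23, x24, x30, x31, x32, x34, x40, x41, x42, x43, hx01, hx02, hx03, hx04, hx10, hx12, hx13, hx14, hx20, hx21, hx23, hx24, hx30, hx31, hx32, hx34, hx40, hx41, hx42, hx43, hw0, hm0, hw1, hm1, hw2, hm2, hw3, hm3, hw4, hm4, a00, a01, a02, a03, a04, a11, a10, a12, a13, a14, a22, a20, a21, a23, a24, a33, a30, a31, a32, a34, a44, a40, a41, a42, a43, wN01, wN02, wN12, wN03, wN13, wN23, wN04, wN14, wN24, wN34, e0, e1, e2, e3, e4, d01, d02, d12, d03, d13, d23, d04, d14, d24, d34⟩ := d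
  obtain rfl : x01 = 0 := hx01.trans h01
  obtain rfl : x10 = 0 := hx10.trans h10
  obtain rfl : x02 = 1 := hx02.trans h02
  obtain rfl : x20 = 2 := hx20.trans h20
  obtain rfl : x12 = 0 := hx12.trans h12
  obtain rfl : x21 = 0 := hx21.trans h21
  obtain rfl : x03 = 0 := hx03.trans h03
  obtain rfl : x30 = 0 := hx30.trans h30
  obtain rfl : x13 = 1 := hx13.trans h13
  obtain rfl : x31 = 1 := hx31.trans h31
  obtain rfl : x23 = 1 := hx23.trans h23
  obtain rfl : x32 = 1 := hx32.trans h32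
  rcases d04 with ⟨rfl, rfl⟩ | ⟨rfl, rfl⟩ | ⟨rfl, rfl⟩ | ⟨rfl, rfl⟩ | ⟨rfl, rfl⟩ | ⟨rfl, rfl⟩
  · -- 04=(0,0)
    rcases d14 with ⟨rfl, rfl⟩ | ⟨rfl, rfl⟩ | ⟨rfl, rfl⟩ | ⟨rfl, rfl⟩ | ⟨rfl, rfl⟩ | ⟨rfl, rfl⟩
    · -- 14=(0,0)
      rcases d24 with ⟨rfl, rfl⟩ | ⟨rfl, rfl⟩ | ⟨rfl, rfl⟩ | ⟨rfl, rfl⟩ | ⟨rfl, rfl⟩ | ⟨rfl, rfl⟩
      · -- 24=(0,0)
        rcases d34 with ⟨rfl, rfl⟩ | ⟨rfl, rfl⟩ | ⟨rfl, rfl⟩ | ⟨rfl, rfl⟩ | ⟨rfl, rfl⟩ | ⟨rfl, rfl⟩
        · -- 34=(0,0)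
          exfalso; omega
        · -- 34=(1,1)
          refine ⟨(⟨![0, 2, 3, 1, 4], ![0, 3, 1, 2, 4], by decide, by decide⟩ : Equiv.Perm (Fin 5)), T.m 0, T.w 2, Or.inr (Or.inr (Or.inr (Or.inr (Or.inr (Or.inr (Or.inr (Or.inl ?_)))))))⟩
          show T.m 0 = T.m 0 ∧ T.m 2 = 2 * T.m 0 ∧ T.m 3 = 2 * T.m 0 ∧ T.m 1 = T.m 0 ∧ T.m 4 = T.m 0 ∧ T.w 0 = 2 * T.w 2 ∧ T.w 2 = T.w 2 ∧ T.w 3 = T.w 2 ∧ T.w 1 = T.w 2 ∧ T.w 4 = T.w 2 ∧ T.a 0 0 = -4 * T.w 2 ∧ T.a 0 2 = 2 * T.w 2 ∧ T.a 0 3 = 0 ∧ T.a 0 1 = 0 ∧ T.a 0 4 = 0 ∧ T.a 2 2 = -2 * T.w 2 ∧ T.a 2 3 = T.w 2 ∧ T.a 2 1 = 0 ∧ T.a 2 4 = 0 ∧ T.a 3 3 = -2 * T.w 2 ∧ T.a 3 1 = T.w 2 ∧ T.a 3 4 = T.w 2 ∧ T.a 1 1 = -2 * T.w 2 ∧ T.a 1 4 = 0 ∧ T.a 4 4 = -2 * T.w 2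
          refine ⟨?_, ?_, ?_, ?_, ?_, ?_, ?_, ?_, ?_, ?_, ?_, ?_, ?_, ?_, ?_, ?_, ?_, ?_, ?_, ?_, ?_, ?_, ?_, ?_, ?_⟩ <;> omega
        · -- 34=(1,2)
          exact False.elim (cert_false T ((skipEmb 1).trans (Function.Embedding.refl _)) (by norm_num) (fun _ => hall _) (((((((LB_zero T ((skipEmb 1).trans (Function.Embedding.refl _))).upd 0 1 1 (le_of_eq hx02)).upd 1 0 2 (le_of_eq hx20)).upd 1 2 1 (le_of_eq hx23)).upd 2 1 1 (le_of_eq hx32)).upd 2 3 1 (le_of_eq hx34)).upd 3 2 2 (le_of_eq hx43)) ![1,2,2,2] (by decide) (by decide) 0 (by decide))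
        · -- 34=(2,1)
          exact False.elim (cert_false T ((skipEmb 1).trans (Function.Embedding.refl _)) (by norm_num) (fun _ => hall _) (((((((LB_zero T ((skipEmb 1).trans (Function.Embedding.refl _))).upd 0 1 1 (le_of_eq hx02)).upd 1 0 2 (le_of_eq hx20)).upd 1 2 1 (le_of_eq hx23)).upd 2 1 1 (le_of_eq hx32)).upd 2 3 2 (le_of_eq hx34)).upd 3 2 1 (le_of_eq hx43)) ![1,2,2,1] (by decide) (by decide) 0 (by decide))
        · -- 34=(1,3)
          exact False.elim (cert_false T ((skipEmb 2).trans (Function.Embedding.refl _)) (by norm_num) (fun _ => hall _) (((((LB_zero T ((skipEmb 2).trans (Function.Embedding.refl _))).upd 1 2 1 (le_of_eq hx13)).upd 2 1 1 (le_of_eq hx31)).upd 2 3 1 (le_of_eq hx34)).upd 3 2 3 (le_of_eq hx43)) ![0,1,2,3] (by decide) (by decide) 1 (by decide))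
        · -- 34=(3,1)
          exact False.elim (cert_false T ((skipEmb 2).trans (Function.Embedding.refl _)) (by norm_num) (fun _ => hall _) (((((LB_zero T ((skipEmb 2).trans (Function.Embedding.refl _))).upd 1 2 1 (le_of_eq hx13)).upd 2 1 1 (le_of_eq hx31)).upd 2 3 3 (le_of_eq hx34)).upd 3 2 1 (le_of_eq hx43)) ![0,1,2,1] (by decide) (by decide) 1 (by decide))
      · -- 24=(1,1)
        exact False.elim (cert_false T ((skipEmb 1).trans (Function.Embedding.refl _)) (by norm_num) (fun _ => hall _) (((((((LB_zero T ((skipEmb 1).trans (Function.Embedding.refl _))).upd 0 1 1 (le_of_eq hx02)).upd 1 0 2 (le_of_eq hx20)).upd 1 2 1 (le_of_eq hx23)).upd 1 3 1 (le_of_eq hx24)).upd 2 1 1 (le_of_eq hx32)).upd 3 1 1 (le_of_eq hx42)) ![1,2,1,1] (by decide) (by decide) 0 (by decide))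
      · -- 24=(1,2)
        exact False.elim (cert_false T ((skipEmb 3).trans (Function.Embedding.refl _)) (by norm_num) (fun _ => hall _) (((((LB_zero T ((skipEmb 3).trans (Function.Embedding.refl _))).upd 0 2 1 (le_of_eq hx02)).upd 2 0 2 (le_of_eq hx20)).upd 2 3 1 (le_of_eq hx24)).upd 3 2 2 (le_of_eq hx42)) ![1,0,2,2] (by decide) (by decide) 0 (by decide))
      · -- 24=(2,1)
        exact False.elim (cert_false T ((skipEmb 3).trans (Function.Embedding.refl _)) (by norm_num) (fun _ => hall _) (((((LB_zero T ((skipEmb 3).trans (Function.Embedding.refl _))).upd 0 2 1 (le_of_eq hx02)).upd 2 0 2 (le_of_eq hx20)).upd 2 3 2 (le_of_eq hx24)).upd 3 2 1 (le_of_eq hx42)) ![1,0,2,1] (by decide) (by decide) 0 (by decide))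
      · -- 24=(1,3)
        exact False.elim (cert_false T ((skipEmb 3).trans (Function.Embedding.refl _)) (by norm_num) (fun _ => hall _) (((((LB_zero T ((skipEmb 3).trans (Function.Embedding.refl _))).upd 0 2 1 (le_of_eq hx02)).upd 2 0 2 (le_of_eq hx20)).upd 2 3 1 (le_of_eq hx24)).upd 3 2 3 (le_of_eq hx42)) ![1,0,2,2] (by decide) (by decide) 0 (by decide))
      · -- 24=(3,1)
        exact False.elim (cert_false T ((skipEmb 3).trans (Function.Embedding.refl _)) (by norm_num) (fun _ => hall _) (((((LB_zero T ((skipEmb 3).trans (Function.Embedding.refl _))).upd 0 2 1 (le_of_eq hx02)).upd 2 0 2 (le_of_eq hx20)).upd 2 3 3 (le_of_eq hx24)).upd 3 2 1 (le_of_eq hx42)) ![1,0,2,1] (by decide) (by decide) 0 (by decide))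
    · -- 14=(1,1)
      rcases d24 with ⟨rfl, rfl⟩ | ⟨rfl, rfl⟩ | ⟨rfl, rfl⟩ | ⟨rfl, rfl⟩ | ⟨rfl, rfl⟩ | ⟨rfl, rfl⟩
      · -- 24=(0,0)
        rcases d34 with ⟨rfl, rfl⟩ | ⟨rfl, rfl⟩ | ⟨rfl, rfl⟩ | ⟨rfl, rfl⟩ | ⟨rfl, rfl⟩ | ⟨rfl, rfl⟩
        · -- 34=(0,0)
          exfalso; omega
        · -- 34=(1,1)
          exact False.elim (cert_false T ((skipEmb 2).trans (Function.Embedding.refl _)) (by norm_num) (fun _ => hall _) (((((((LB_zero T ((skipEmb 2).trans (Function.Embedding.refl _))).upd 1 2 1 (le_of_eq hx13)).upd 1 3 1 (le_of_eq hx14)).upd 2 1 1 (le_of_eq hx31)).upd 2 3 1 (le_of_eq hx34)).upd 3 1 1 (le_of_eq hx41)).upd 3 2 1 (le_of_eq hx43)) ![0,1,1,1] (by decide) (by decide) 1 (by decide))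
        · -- 34=(1,2)
          exact False.elim (cert_false T ((skipEmb 2).trans (Function.Embedding.refl _)) (by norm_num) (fun _ => hall _) (((((((LB_zero T ((skipEmb 2).trans (Function.Embedding.refl _))).upd 1 2 1 (le_of_eq hx13)).upd 1 3 1 (le_of_eq hx14)).upd 2 1 1 (le_of_eq hx31)).upd 2 3 1 (le_of_eq hx34)).upd 3 1 1 (le_of_eq hx41)).upd 3 2 2 (le_of_eq hx43)) ![0,1,1,1] (by decide) (by decide) 1 (by decide))
        · -- 34=(2,1)
          exact False.elim (cert_false T ((skipEmb 2).trans (Function.Embedding.refl _)) (by norm_num) (fun _ => hall _) (((((((LB_zero T ((skipEmb 2).trans (Function.Embedding.refl _))).upd 1 2 1 (le_of_eq hx13)).upd 1 3 1 (le_of_eq hx14)).upd 2 1 1 (le_of_eq hx31)).upd 2 3 2 (le_of_eq hx34)).upd 3 1 1 (le_of_eq hx41)).upd 3 2 1 (le_of_eq hx43)) ![0,1,1,1] (by decide) (by decide) 1 (by decide))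
        · -- 34=(1,3)
          exact False.elim (cert_false T ((skipEmb 2).trans (Function.Embedding.refl _)) (by norm_num) (fun _ => hall _) (((((((LB_zero T ((skipEmb 2).trans (Function.Embedding.refl _))).upd 1 2 1 (le_of_eq hx13)).upd 1 3 1 (le_of_eq hx14)).upd 2 1 1 (le_of_eq hx31)).upd 2 3 1 (le_of_eq hx34)).upd 3 1 1 (le_of_eq hx41)).upd 3 2 3 (le_of_eq hx43)) ![0,1,1,1] (by decide) (by decide) 1 (by decide))
        · -- 34=(3,1)
          exact False.elim (cert_false T ((skipEmb 2).trans (Function.Embedding.refl _)) (by norm_num) (fun _ => hall _) (((((((LB_zero T ((skipEmb 2).trans (Function.Embedding.refl _))).upd 1 2 1 (le_of_eq hx13)).upd 1 3 1 (le_of_eq hx14)).upd 2 1 1 (le_of_eq hx31)).upd 2 3 3 (le_of_eq hx34)).upd 3 1 1 (le_of_eq hx41)).upd 3 2 1 (le_of_eq hx43)) ![0,1,1,1] (by decide) (by decide) 1 (by decide))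
      · -- 24=(1,1)
        exact False.elim (cert_false T ((skipEmb 1).trans (Function.Embedding.refl _)) (by norm_num) (fun _ => hall _) (((((((LB_zero T ((skipEmb 1).trans (Function.Embedding.refl _))).upd 0 1 1 (le_of_eq hx02)).upd 1 0 2 (le_of_eq hx20)).upd 1 2 1 (le_of_eq hx23)).upd 1 3 1 (le_of_eq hx24)).upd 2 1 1 (le_of_eq hx32)).upd 3 1 1 (le_of_eq hx42)) ![1,2,1,1] (by decide) (by decide) 0 (by decide))
      · -- 24=(1,2)
        exact False.elim (cert_false T ((skipEmb 3).trans (Function.Embedding.refl _)) (by norm_num) (fun _ => hall _) (((((LB_zero T ((skipEmb 3).trans (Function.Embedding.refl _))).upd 0 2 1 (le_of_eq hx02)).upd 2 0 2 (le_of_eq hx20)).upd 2 3 1 (le_of_eq hx24)).upd 3 2 2 (le_of_eq hx42)) ![1,0,2,2] (by decide) (by decide) 0 (by decide))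
      · -- 24=(2,1)
        exact False.elim (cert_false T ((skipEmb 3).trans (Function.Embedding.refl _)) (by norm_num) (fun _ => hall _) (((((LB_zero T ((skipEmb 3).trans (Function.Embedding.refl _))).upd 0 2 1 (le_of_eq hx02)).upd 2 0 2 (le_of_eq hx20)).upd 2 3 2 (le_of_eq hx24)).upd 3 2 1 (le_of_eq hx42)) ![1,0,2,1] (by decide) (by decide) 0 (by decide))
      · -- 24=(1,3)
        exact False.elim (cert_false T ((skipEmb 3).trans (Function.Embedding.refl _)) (by norm_num) (fun _ => hall _) (((((LB_zero T ((skipEmb 3).trans (Function.Embedding.refl _))).upd 0 2 1 (le_of_eq hx02)).upd 2 0 2 (le_of_eq hx20)).upd 2 3 1 (le_of_eq hx24)).upd 3 2 3 (le_of_eq hx42)) ![1,0,2,2] (by decide) (by decide) 0 (by decide))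
      · -- 24=(3,1)
        exact False.elim (cert_false T ((skipEmb 3).trans (Function.Embedding.refl _)) (by norm_num) (fun _ => hall _) (((((LB_zero T ((skipEmb 3).trans (Function.Embedding.refl _))).upd 0 2 1 (le_of_eq hx02)).upd 2 0 2 (le_of_eq hx20)).upd 2 3 3 (le_of_eq hx24)).upd 3 2 1 (le_of_eq hx42)) ![1,0,2,1] (by decide) (by decide) 0 (by decide))
    · -- 14=(1,2)
      rcases d24 with ⟨rfl, rfl⟩ | ⟨rfl, rfl⟩ | ⟨rfl, rfl⟩ | ⟨rfl, rfl⟩ | ⟨rfl, rfl⟩ | ⟨rfl, rfl⟩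
      · -- 24=(0,0)
        rcases d34 with ⟨rfl, rfl⟩ | ⟨rfl, rfl⟩ | ⟨rfl, rfl⟩ | ⟨rfl, rfl⟩ | ⟨rfl, rfl⟩ | ⟨rfl, rfl⟩
        · -- 34=(0,0)
          refine ⟨(⟨![4, 1, 3, 2, 0], ![4, 1, 3, 2, 0], by decide, by decide⟩ : Equiv.Perm (Fin 5)), T.m 0, T.w 4, Or.inr (Or.inr (Or.inr (Or.inl ?_)))⟩
          show T.m 4 = 2 * T.m 0 ∧ T.m 1 = 2 * T.m 0 ∧ T.m 3 = 2 * T.m 0 ∧ T.m 2 = 2 * T.m 0 ∧ T.m 0 = T.m 0 ∧ T.w 4 = T.w 4 ∧ T.w 1 = 2 * T.w 4 ∧ T.w 3 = 2 * T.w 4 ∧ T.w 2 = 2 * T.w 4 ∧ T.w 0 = 4 * T.w 4 ∧ T.a 4 4 = -2 * T.w 4 ∧ T.a 4 1 = 2 * T.w 4 ∧ T.a 4 3 = 0 ∧ T.a 4 2 = 0 ∧ T.a 4 0 = 0 ∧ T.a 1 1 = -4 * T.w 4 ∧ T.a 1 3 = 2 * T.w 4 ∧ T.a 1 2 = 0 ∧ T.a 1 0 = 0 ∧ T.a 3 3 = -4 * T.w 4 ∧ T.a 3 2 = 2 * T.w 4 ∧ T.a 3 0 = 0 ∧ T.a 2 2 = -4 * T.w 4 ∧ T.a 2 0 = 4 * T.w 4 ∧ T.a 0 0 = -8 * T.w 4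
          refine ⟨?_, ?_, ?_, ?_, ?_, ?_, ?_, ?_, ?_, ?_, ?_, ?_, ?_, ?_, ?_, ?_, ?_, ?_, ?_, ?_, ?_, ?_, ?_, ?_, ?_⟩ <;> omega
        · -- 34=(1,1)
          exact False.elim (cert_false T ((skipEmb 2).trans (Function.Embedding.refl _)) (by norm_num) (fun _ => hall _) (((((((LB_zero T ((skipEmb 2).trans (Function.Embedding.refl _))).upd 1 2 1 (le_of_eq hx13)).upd 1 3 1 (le_of_eq hx14)).upd 2 1 1 (le_of_eq hx31)).upd 2 3 1 (le_of_eq hx34)).upd 3 1 2 (le_of_eq hx41)).upd 3 2 1 (le_of_eq hx43)) ![0,1,1,1] (by decide) (by decide) 1 (by decide))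
        · -- 34=(1,2)
          exact False.elim (cert_false T ((skipEmb 2).trans (Function.Embedding.refl _)) (by norm_num) (fun _ => hall _) (((((((LB_zero T ((skipEmb 2).trans (Function.Embedding.refl _))).upd 1 2 1 (le_of_eq hx13)).upd 1 3 1 (le_of_eq hx14)).upd 2 1 1 (le_of_eq hx31)).upd 2 3 1 (le_of_eq hx34)).upd 3 1 2 (le_of_eq hx41)).upd 3 2 2 (le_of_eq hx43)) ![0,1,1,1] (by decide) (by decide) 1 (by decide))
        · -- 34=(2,1)
          exact False.elim (cert_false T ((skipEmb 2).trans (Function.Embedding.refl _)) (by norm_num) (fun _ => hall _) (((((((LB_zero T ((skipEmb 2).trans (Function.Embedding.refl _))).upd 1 2 1 (le_of_eq hx13)).upd 1 3 1 (le_of_eq hx14)).upd 2 1 1 (le_of_eq hx31)).upd 2 3 2 (le_of_eq hx34)).upd 3 1 2 (le_of_eq hx41)).upd 3 2 1 (le_of_eq hx43)) ![0,1,1,1] (by decide) (by decide) 1 (by decide))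
        · -- 34=(1,3)
          exact False.elim (cert_false T ((skipEmb 2).trans (Function.Embedding.refl _)) (by norm_num) (fun _ => hall _) (((((((LB_zero T ((skipEmb 2).trans (Function.Embedding.refl _))).upd 1 2 1 (le_of_eq hx13)).upd 1 3 1 (le_of_eq hx14)).upd 2 1 1 (le_of_eq hx31)).upd 2 3 1 (le_of_eq hx34)).upd 3 1 2 (le_of_eq hx41)).upd 3 2 3 (le_of_eq hx43)) ![0,1,1,1] (by decide) (by decide) 1 (by decide))
        · -- 34=(3,1)
          exact False.elim (cert_false T ((skipEmb 2).trans (Function.Embedding.refl _)) (by norm_num) (fun _ => hall _) (((((((LB_zero T ((skipEmb 2).trans (Function.Embedding.refl _))).upd 1 2 1 (le_of_eq hx13)).upd 1 3 1 (le_of_eq hx14)).upd 2 1 1 (le_of_eq hx31)).upd 2 3 3 (le_of_eq hx34)).upd 3 1 2 (le_of_eq hx41)).upd 3 2 1 (le_of_eq hx43)) ![0,1,1,1] (by decide) (by decide) 1 (by decide))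
      · -- 24=(1,1)
        exact False.elim (cert_false T ((skipEmb 3).trans (Function.Embedding.refl _)) (by norm_num) (fun _ => hall _) (((((((LB_zero T ((skipEmb 3).trans (Function.Embedding.refl _))).upd 0 2 1 (le_of_eq hx02)).upd 1 3 1 (le_of_eq hx14)).upd 2 0 2 (le_of_eq hx20)).upd 2 3 1 (le_of_eq hx24)).upd 3 1 2 (le_of_eq hx41)).upd 3 2 1 (le_of_eq hx42)) ![1,1,2,2] (by decide) (by decide) 0 (by decide))
      · -- 24=(1,2)
        exact False.elim (cert_false T ((skipEmb 3).trans (Function.Embedding.refl _)) (by norm_num) (fun _ => hall _) (((((LB_zero T ((skipEmb 3).trans (Function.Embedding.refl _))).upd 0 2 1 (le_of_eq hx02)).upd 2 0 2 (le_of_eq hx20)).upd 2 3 1 (le_of_eq hx24)).upd 3 2 2 (le_of_eq hx42)) ![1,0,2,2] (by decide) (by decide) 0 (by decide))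
      · -- 24=(2,1)
        exact False.elim (cert_false T ((skipEmb 3).trans (Function.Embedding.refl _)) (by norm_num) (fun _ => hall _) (((((LB_zero T ((skipEmb 3).trans (Function.Embedding.refl _))).upd 1 3 1 (le_of_eq hx14)).upd 2 3 2 (le_of_eq hx24)).upd 3 1 2 (le_of_eq hx41)).upd 3 2 1 (le_of_eq hx42)) ![0,1,2,2] (by decide) (by decide) 1 (by decide))
      · -- 24=(1,3)
        exact False.elim (cert_false T ((skipEmb 3).trans (Function.Embedding.refl _)) (by norm_num) (fun _ => hall _) (((((LB_zero T ((skipEmb 3).trans (Function.Embedding.refl _))).upd 0 2 1 (le_of_eq hx02)).upd 2 0 2 (le_of_eq hx20)).upd 2 3 1 (le_of_eq hx24)).upd 3 2 3 (le_of_eq hx42)) ![1,0,2,2] (by decide) (by decide) 0 (by decide))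
      · -- 24=(3,1)
        exact False.elim (cert_false T ((skipEmb 3).trans (Function.Embedding.refl _)) (by norm_num) (fun _ => hall _) (((((LB_zero T ((skipEmb 3).trans (Function.Embedding.refl _))).upd 1 3 1 (le_of_eq hx14)).upd 2 3 3 (le_of_eq hx24)).upd 3 1 2 (le_of_eq hx41)).upd 3 2 1 (le_of_eq hx42)) ![0,1,2,2] (by decide) (by decide) 1 (by decide))
    · -- 14=(2,1)
      rcases d24 with ⟨rfl, rfl⟩ | ⟨rfl, rfl⟩ | ⟨rfl, rfl⟩ | ⟨rfl, rfl⟩ | ⟨rfl, rfl⟩ | ⟨rfl, rfl⟩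
      · -- 24=(0,0)
        rcases d34 with ⟨rfl, rfl⟩ | ⟨rfl, rfl⟩ | ⟨rfl, rfl⟩ | ⟨rfl, rfl⟩ | ⟨rfl, rfl⟩ | ⟨rfl, rfl⟩
        · -- 34=(0,0)
          refine ⟨(⟨![0, 2, 3, 1, 4], ![0, 3, 1, 2, 4], by decide, by decide⟩ : Equiv.Perm (Fin 5)), T.m 0, T.w 2, Or.inr (Or.inr (Or.inr (Or.inr (Or.inr (Or.inl ?_)))))⟩
          show T.m 0 = T.m 0 ∧ T.m 2 = 2 * T.m 0 ∧ T.m 3 = 2 * T.m 0 ∧ T.m 1 = 2 * T.m 0 ∧ T.m 4 = T.m 0 ∧ T.w 0 = 2 * T.w 2 ∧ T.w 2 = T.w 2 ∧ T.w 3 = T.w 2 ∧ T.w 1 = T.w 2 ∧ T.w 4 = 2 * T.w 2 ∧ T.a 0 0 = -4 * T.w 2 ∧ T.a 0 2 = 2 * T.w 2 ∧ T.a 0 3 = 0 ∧ T.a 0 1 = 0 ∧ T.a 0 4 = 0 ∧ T.a 2 2 = -2 * T.w 2 ∧ T.a 2 3 = T.w 2 ∧ T.a 2 1 = 0 ∧ T.a 2 4 = 0 ∧ T.a 3 3 = -2 * T.w 2 ∧ T.a 3 1 = T.w 2 ∧ T.a 3 4 = 0 ∧ T.a 1 1 = -2 * T.w 2 ∧ T.a 1 4 = 2 * T.w 2 ∧ T.a 4 4 = -4 * T.w 2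
          refine ⟨?_, ?_, ?_, ?_, ?_, ?_, ?_, ?_, ?_, ?_, ?_, ?_, ?_, ?_, ?_, ?_, ?_, ?_, ?_, ?_, ?_, ?_, ?_, ?_, ?_⟩ <;> omega
        · -- 34=(1,1)
          exact False.elim (cert_false T ((skipEmb 2).trans (Function.Embedding.refl _)) (by norm_num) (fun _ => hall _) (((((((LB_zero T ((skipEmb 2).trans (Function.Embedding.refl _))).upd 1 2 1 (le_of_eq hx13)).upd 1 3 2 (le_of_eq hx14)).upd 2 1 1 (le_of_eq hx31)).upd 2 3 1 (le_of_eq hx34)).upd 3 1 1 (le_of_eq hx41)).upd 3 2 1 (le_of_eq hx43)) ![0,1,1,1] (by decide) (by decide) 1 (by decide))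
        · -- 34=(1,2)
          exact False.elim (cert_false T ((skipEmb 2).trans (Function.Embedding.refl _)) (by norm_num) (fun _ => hall _) (((((((LB_zero T ((skipEmb 2).trans (Function.Embedding.refl _))).upd 1 2 1 (le_of_eq hx13)).upd 1 3 2 (le_of_eq hx14)).upd 2 1 1 (le_of_eq hx31)).upd 2 3 1 (le_of_eq hx34)).upd 3 1 1 (le_of_eq hx41)).upd 3 2 2 (le_of_eq hx43)) ![0,1,1,1] (by decide) (by decide) 1 (by decide))
        · -- 34=(2,1)
          exact False.elim (cert_false T ((skipEmb 2).trans (Function.Embedding.refl _)) (by norm_num) (fun _ => hall _) (((((((LB_zero T ((skipEmb 2).trans (Function.Embedding.refl _))).upd 1 2 1 (le_of_eq hx13)).upd 1 3 2 (le_of_eq hx14)).upd 2 1 1 (le_of_eq hx31)).upd 2 3 2 (le_of_eq hx34)).upd 3 1 1 (le_of_eq hx41)).upd 3 2 1 (le_of_eq hx43)) ![0,1,1,1] (by decide) (by decide) 1 (by decide))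
        · -- 34=(1,3)
          exact False.elim (cert_false T ((skipEmb 2).trans (Function.Embedding.refl _)) (by norm_num) (fun _ => hall _) (((((((LB_zero T ((skipEmb 2).trans (Function.Embedding.refl _))).upd 1 2 1 (le_of_eq hx13)).upd 1 3 2 (le_of_eq hx14)).upd 2 1 1 (le_of_eq hx31)).upd 2 3 1 (le_of_eq hx34)).upd 3 1 1 (le_of_eq hx41)).upd 3 2 3 (le_of_eq hx43)) ![0,1,1,1] (by decide) (by decide) 1 (by decide))
        · -- 34=(3,1)
          exact False.elim (cert_false T ((skipEmb 2).trans (Function.Embedding.refl _)) (by norm_num) (fun _ => hall _) (((((((LB_zero T ((skipEmb 2).trans (Function.Embedding.refl _))).upd 1 2 1 (le_of_eq hx13)).upd 1 3 2 (le_of_eq hx14)).upd 2 1 1 (le_of_eq hx31)).upd 2 3 3 (le_of_eq hx34)).upd 3 1 1 (le_of_eq hx41)).upd 3 2 1 (le_of_eq hx43)) ![0,1,1,1] (by decide) (by decide) 1 (by decide))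
      · -- 24=(1,1)
        exact False.elim (cert_false T ((skipEmb 3).trans (Function.Embedding.refl _)) (by norm_num) (fun _ => hall _) (((((((LB_zero T ((skipEmb 3).trans (Function.Embedding.refl _))).upd 0 2 1 (le_of_eq hx02)).upd 1 3 2 (le_of_eq hx14)).upd 2 0 2 (le_of_eq hx20)).upd 2 3 1 (le_of_eq hx24)).upd 3 1 1 (le_of_eq hx41)).upd 3 2 1 (le_of_eq hx42)) ![1,2,2,2] (by decide) (by decide) 0 (by decide))
      · -- 24=(1,2)
        exact False.elim (cert_false T ((skipEmb 3).trans (Function.Embedding.refl _)) (by norm_num) (fun _ => hall _) (((((LB_zero T ((skipEmb 3).trans (Function.Embedding.refl _))).upd 1 3 2 (le_of_eq hx14)).upd 2 3 1 (le_of_eq hx24)).upd 3 1 1 (le_of_eq hx41)).upd 3 2 2 (le_of_eq hx42)) ![0,2,1,2] (by decide) (by decide) 1 (by decide))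
      · -- 24=(2,1)
        exact False.elim (cert_false T ((skipEmb 3).trans (Function.Embedding.refl _)) (by norm_num) (fun _ => hall _) (((((LB_zero T ((skipEmb 3).trans (Function.Embedding.refl _))).upd 1 3 2 (le_of_eq hx14)).upd 2 3 2 (le_of_eq hx24)).upd 3 1 1 (le_of_eq hx41)).upd 3 2 1 (le_of_eq hx42)) ![0,1,1,1] (by decide) (by decide) 1 (by decide))
      · -- 24=(1,3)
        exact False.elim (cert_false T ((skipEmb 3).trans (Function.Embedding.refl _)) (by norm_num) (fun _ => hall _) (((((LB_zero T ((skipEmb 3).trans (Function.Embedding.refl _))).upd 0 2 1 (le_of_eq hx02)).upd 2 0 2 (le_of_eq hx20)).upd 2 3 1 (le_of_eq hx24)).upd 3 2 3 (le_of_eq hx42)) ![1,0,2,2] (by decide) (by decide) 0 (by decide))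
      · -- 24=(3,1)
        exact False.elim (cert_false T ((skipEmb 3).trans (Function.Embedding.refl _)) (by norm_num) (fun _ => hall _) (((((LB_zero T ((skipEmb 3).trans (Function.Embedding.refl _))).upd 1 3 2 (le_of_eq hx14)).upd 2 3 3 (le_of_eq hx24)).upd 3 1 1 (le_of_eq hx41)).upd 3 2 1 (le_of_eq hx42)) ![0,1,1,1] (by decide) (by decide) 1 (by decide))
    · -- 14=(1,3)
      exact False.elim (cert_false T ((skipEmb 2).trans (Function.Embedding.refl _)) (by norm_num) (fun _ => hall _) (((((LB_zero T ((skipEmb 2).trans (Function.Embedding.refl _))).upd 1 2 1 (le_of_eq hx13)).upd 1 3 1 (le_of_eq hx14)).upd 2 1 1 (le_of_eq hx31)).upd 3 1 3 (le_of_eq hx41)) ![0,2,1,3] (by decide) (by decide) 1 (by decide))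
    · -- 14=(3,1)
      exact False.elim (cert_false T ((skipEmb 2).trans (Function.Embedding.refl _)) (by norm_num) (fun _ => hall _) (((((LB_zero T ((skipEmb 2).trans (Function.Embedding.refl _))).upd 1 2 1 (le_of_eq hx13)).upd 1 3 3 (le_of_eq hx14)).upd 2 1 1 (le_of_eq hx31)).upd 3 1 1 (le_of_eq hx41)) ![0,2,1,1] (by decide) (by decide) 1 (by decide))
  · -- 04=(1,1)
    rcases d14 with ⟨rfl, rfl⟩ | ⟨rfl, rfl⟩ | ⟨rfl, rfl⟩ | ⟨rfl, rfl⟩ | ⟨rfl, rfl⟩ | ⟨rfl, rfl⟩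
    · -- 14=(0,0)
      rcases d24 with ⟨rfl, rfl⟩ | ⟨rfl, rfl⟩ | ⟨rfl, rfl⟩ | ⟨rfl, rfl⟩ | ⟨rfl, rfl⟩ | ⟨rfl, rfl⟩
      · -- 24=(0,0)
        rcases d34 with ⟨rfl, rfl⟩ | ⟨rfl, rfl⟩ | ⟨rfl, rfl⟩ | ⟨rfl, rfl⟩ | ⟨rfl, rfl⟩ | ⟨rfl, rfl⟩
        · -- 34=(0,0)
          refine ⟨(⟨![1, 3, 2, 0, 4], ![3, 0, 2, 1, 4], by decide, by decide⟩ : Equiv.Perm (Fin 5)), T.m 1, T.w 1, Or.inr (Or.inl ?_)⟩
          show T.m 1 = T.m 1 ∧ T.m 3 = 2 * T.m 1 ∧ T.m 2 = 3 * T.m 1 ∧ T.m 0 = 2 * T.m 1 ∧ T.m 4 = T.m 1 ∧ T.w 1 = T.w 1 ∧ T.w 3 = T.w 1 ∧ T.w 2 = T.w 1 ∧ T.w 0 = 2 * T.w 1 ∧ T.w 4 = 2 * T.w 1 ∧ T.a 1 1 = -2 * T.w 1 ∧ T.a 1 3 = T.w 1 ∧ T.a 1 2 = 0 ∧ T.a 1 0 = 0 ∧ T.a 1 4 = 0 ∧ T.a 3 3 = -2 * T.w 1 ∧ T.a 3 2 = T.w 1 ∧ T.a 3 0 = 0 ∧ T.a 3 4 = 0 ∧ T.a 2 2 = -2 * T.w 1 ∧ T.a 2 0 = 2 * T.w 1 ∧ T.a 2 4 = 0 ∧ T.a 0 0 = -4 * T.w 1 ∧ T.a 0 4 = 2 * T.w 1 ∧ T.a 4 4 = -4 * T.w 1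
          refine ⟨?_, ?_, ?_, ?_, ?_, ?_, ?_, ?_, ?_, ?_, ?_, ?_, ?_, ?_, ?_, ?_, ?_, ?_, ?_, ?_, ?_, ?_, ?_, ?_, ?_⟩ <;> omega
        · -- 34=(1,1)
          exact False.elim (cert_false T ((skipEmb 1).trans (Function.Embedding.refl _)) (by norm_num) (fun _ => hall _) (((((((((LB_zero T ((skipEmb 1).trans (Function.Embedding.refl _))).upd 0 1 1 (le_of_eq hx02)).upd 0 3 1 (le_of_eq hx04)).upd 1 0 2 (le_of_eq hx20)).upd 1 2 1 (le_of_eq hx23)).upd 2 1 1 (le_of_eq hx32)).upd 2 3 1 (le_of_eq hx34)).upd 3 0 1 (le_of_eq hx40)).upd 3 2 1 (le_of_eq hx43)) ![1,1,1,1] (by decide) (by decide) 0 (by decide))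
        · -- 34=(1,2)
          exact False.elim (cert_false T ((skipEmb 1).trans (Function.Embedding.refl _)) (by norm_num) (fun _ => hall _) (((((((((LB_zero T ((skipEmb 1).trans (Function.Embedding.refl _))).upd 0 1 1 (le_of_eq hx02)).upd 0 3 1 (le_of_eq hx04)).upd 1 0 2 (le_of_eq hx20)).upd 1 2 1 (le_of_eq hx23)).upd 2 1 1 (le_of_eq hx32)).upd 2 3 1 (le_of_eq hx34)).upd 3 0 1 (le_of_eq hx40)).upd 3 2 2 (le_of_eq hx43)) ![1,1,1,1] (by decide) (by decide) 0 (by decide))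
        · -- 34=(2,1)
          exact False.elim (cert_false T ((skipEmb 1).trans (Function.Embedding.refl _)) (by norm_num) (fun _ => hall _) (((((((((LB_zero T ((skipEmb 1).trans (Function.Embedding.refl _))).upd 0 1 1 (le_of_eq hx02)).upd 0 3 1 (le_of_eq hx04)).upd 1 0 2 (le_of_eq hx20)).upd 1 2 1 (le_of_eq hx23)).upd 2 1 1 (le_of_eq hx32)).upd 2 3 2 (le_of_eq hx34)).upd 3 0 1 (le_of_eq hx40)).upd 3 2 1 (le_of_eq hx43)) ![1,1,1,1] (by decide) (by decide) 0 (by decide))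
        · -- 34=(1,3)
          exact False.elim (cert_false T ((skipEmb 2).trans (Function.Embedding.refl _)) (by norm_num) (fun _ => hall _) (((((LB_zero T ((skipEmb 2).trans (Function.Embedding.refl _))).upd 0 3 1 (le_of_eq hx04)).upd 2 3 1 (le_of_eq hx34)).upd 3 0 1 (le_of_eq hx40)).upd 3 2 3 (le_of_eq hx43)) ![1,0,1,2] (by decide) (by decide) 0 (by decide))
        · -- 34=(3,1)
          exact False.elim (cert_false T ((skipEmb 2).trans (Function.Embedding.refl _)) (by norm_num) (fun _ => hall _) (((((LB_zero T ((skipEmb 2).trans (Function.Embedding.refl _))).upd 1 2 1 (le_of_eq hx13)).upd 2 1 1 (le_of_eq hx31)).upd 2 3 3 (le_of_eq hx34)).upd 3 2 1 (le_of_eq hx43)) ![0,1,2,1] (by decide) (by decide) 1 (by decide))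
      · -- 24=(1,1)
        exact False.elim (cert_false T ((skipEmb 3).trans (Function.Embedding.refl _)) (by norm_num) (fun _ => hall _) (((((((LB_zero T ((skipEmb 3).trans (Function.Embedding.refl _))).upd 0 2 1 (le_of_eq hx02)).upd 0 3 1 (le_of_eq hx04)).upd 2 0 2 (le_of_eq hx20)).upd 2 3 1 (le_of_eq hx24)).upd 3 0 1 (le_of_eq hx40)).upd 3 2 1 (le_of_eq hx42)) ![1,0,1,1] (by decide) (by decide) 0 (by decide))
      · -- 24=(1,2)
        exact False.elim (cert_false T ((skipEmb 3).trans (Function.Embedding.refl _)) (by norm_num) (fun _ => hall _) (((((((LB_zero T ((skipEmb 3).trans (Function.Embedding.refl _))).upd 0 2 1 (le_of_eq hx02)).upd 0 3 1 (le_of_eq hx04)).upd 2 0 2 (le_of_eq hx20)).upd 2 3 1 (le_of_eq hx24)).upd 3 0 1 (le_of_eq hx40)).upd 3 2 2 (le_of_eq hx42)) ![1,0,1,1] (by decide) (by decide) 0 (by decide))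
      · -- 24=(2,1)
        exact False.elim (cert_false T ((skipEmb 3).trans (Function.Embedding.refl _)) (by norm_num) (fun _ => hall _) (((((((LB_zero T ((skipEmb 3).trans (Function.Embedding.refl _))).upd 0 2 1 (le_of_eq hx02)).upd 0 3 1 (le_of_eq hx04)).upd 2 0 2 (le_of_eq hx20)).upd 2 3 2 (le_of_eq hx24)).upd 3 0 1 (le_of_eq hx40)).upd 3 2 1 (le_of_eq hx42)) ![1,0,1,1] (by decide) (by decide) 0 (by decide))
      · -- 24=(1,3)
        exact False.elim (cert_false T ((skipEmb 3).trans (Function.Embedding.refl _)) (by norm_num) (fun _ => hall _) (((((((LB_zero T ((skipEmb 3).trans (Function.Embedding.refl _))).upd 0 2 1 (le_of_eq hx02)).upd 0 3 1 (le_of_eq hx04)).upd 2 0 2 (le_of_eq hx20)).upd 2 3 1 (le_of_eq hx24)).upd 3 0 1 (le_of_eq hx40)).upd 3 2 3 (le_of_eq hx42)) ![1,0,1,1] (by decide) (by decide) 0 (by decide))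
      · -- 24=(3,1)
        exact False.elim (cert_false T ((skipEmb 3).trans (Function.Embedding.refl _)) (by norm_num) (fun _ => hall _) (((((((LB_zero T ((skipEmb 3).trans (Function.Embedding.refl _))).upd 0 2 1 (le_of_eq hx02)).upd 0 3 1 (le_of_eq hx04)).upd 2 0 2 (le_of_eq hx20)).upd 2 3 3 (le_of_eq hx24)).upd 3 0 1 (le_of_eq hx40)).upd 3 2 1 (le_of_eq hx42)) ![1,0,1,1] (by decide) (by decide) 0 (by decide))
    · -- 14=(1,1)
      rcases d24 with ⟨rfl, rfl⟩ | ⟨rfl, rfl⟩ | ⟨rfl, rfl⟩ | ⟨rfl, rfl⟩ | ⟨rfl, rfl⟩ | ⟨rfl, rfl⟩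
      · -- 24=(0,0)
        rcases d34 with ⟨rfl, rfl⟩ | ⟨rfl, rfl⟩ | ⟨rfl, rfl⟩ | ⟨rfl, rfl⟩ | ⟨rfl, rfl⟩ | ⟨rfl, rfl⟩
        · -- 34=(0,0)
          exfalso; omega
        · -- 34=(1,1)
          exact False.elim (cert_false T ((skipEmb 2).trans (Function.Embedding.refl _)) (by norm_num) (fun _ => hall _) (((((((LB_zero T ((skipEmb 2).trans (Function.Embedding.refl _))).upd 1 2 1 (le_of_eq hx13)).upd 1 3 1 (le_of_eq hx14)).upd 2 1 1 (le_of_eq hx31)).upd 2 3 1 (le_of_eq hx34)).upd 3 1 1 (le_of_eq hx41)).upd 3 2 1 (le_of_eq hx43)) ![0,1,1,1] (by decide) (by decide) 1 (by decide))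
        · -- 34=(1,2)
          exact False.elim (cert_false T ((skipEmb 2).trans (Function.Embedding.refl _)) (by norm_num) (fun _ => hall _) (((((((LB_zero T ((skipEmb 2).trans (Function.Embedding.refl _))).upd 1 2 1 (le_of_eq hx13)).upd 1 3 1 (le_of_eq hx14)).upd 2 1 1 (le_of_eq hx31)).upd 2 3 1 (le_of_eq hx34)).upd 3 1 1 (le_of_eq hx41)).upd 3 2 2 (le_of_eq hx43)) ![0,1,1,1] (by decide) (by decide) 1 (by decide))
        · -- 34=(2,1)
          exact False.elim (cert_false T ((skipEmb 2).trans (Function.Embedding.refl _)) (by norm_num) (fun _ => hall _) (((((((LB_zero T ((skipEmb 2).trans (Function.Embedding.refl _))).upd 1 2 1 (le_of_eq hx13)).upd 1 3 1 (le_of_eq hx14)).upd 2 1 1 (le_of_eq hx31)).upd 2 3 2 (le_of_eq hx34)).upd 3 1 1 (le_of_eq hx41)).upd 3 2 1 (le_of_eq hx43)) ![0,1,1,1] (by decide) (by decide) 1 (by decide))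
        · -- 34=(1,3)
          exact False.elim (cert_false T ((skipEmb 2).trans (Function.Embedding.refl _)) (by norm_num) (fun _ => hall _) (((((((LB_zero T ((skipEmb 2).trans (Function.Embedding.refl _))).upd 1 2 1 (le_of_eq hx13)).upd 1 3 1 (le_of_eq hx14)).upd 2 1 1 (le_of_eq hx31)).upd 2 3 1 (le_of_eq hx34)).upd 3 1 1 (le_of_eq hx41)).upd 3 2 3 (le_of_eq hx43)) ![0,1,1,1] (by decide) (by decide) 1 (by decide))
        · -- 34=(3,1)
          exact False.elim (cert_false T ((skipEmb 2).trans (Function.Embedding.refl _)) (by norm_num) (fun _ => hall _) (((((((LB_zero T ((skipEmb 2).trans (Function.Embedding.refl _))).upd 1 2 1 (le_of_eq hx13)).upd 1 3 1 (le_of_eq hx14)).upd 2 1 1 (le_of_eq hx31)).upd 2 3 3 (le_of_eq hx34)).upd 3 1 1 (le_of_eq hx41)).upd 3 2 1 (le_of_eq hx43)) ![0,1,1,1] (by decide) (by decide) 1 (by decide))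
      · -- 24=(1,1)
        exact False.elim (cert_false T ((skipEmb 3).trans (Function.Embedding.refl _)) (by norm_num) (fun _ => hall _) (((((((LB_zero T ((skipEmb 3).trans (Function.Embedding.refl _))).upd 0 2 1 (le_of_eq hx02)).upd 0 3 1 (le_of_eq hx04)).upd 2 0 2 (le_of_eq hx20)).upd 2 3 1 (le_of_eq hx24)).upd 3 0 1 (le_of_eq hx40)).upd 3 2 1 (le_of_eq hx42)) ![1,0,1,1] (by decide) (by decide) 0 (by decide))
      · -- 24=(1,2)
        exact False.elim (cert_false T ((skipEmb 3).trans (Function.Embedding.refl _)) (by norm_num) (fun _ => hall _) (((((((LB_zero T ((skipEmb 3).trans (Function.Embedding.refl _))).upd 0 2 1 (le_of_eq hx02)).upd 0 3 1 (le_of_eq hx04)).upd 2 0 2 (le_of_eq hx20)).upd 2 3 1 (le_of_eq hx24)).upd 3 0 1 (le_of_eq hx40)).upd 3 2 2 (le_of_eq hx42)) ![1,0,1,1] (by decide) (by decide) 0 (by decide))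
      · -- 24=(2,1)
        exact False.elim (cert_false T ((skipEmb 3).trans (Function.Embedding.refl _)) (by norm_num) (fun _ => hall _) (((((((LB_zero T ((skipEmb 3).trans (Function.Embedding.refl _))).upd 0 2 1 (le_of_eq hx02)).upd 0 3 1 (le_of_eq hx04)).upd 2 0 2 (le_of_eq hx20)).upd 2 3 2 (le_of_eq hx24)).upd 3 0 1 (le_of_eq hx40)).upd 3 2 1 (le_of_eq hx42)) ![1,0,1,1] (by decide) (by decide) 0 (by decide))
      · -- 24=(1,3)
        exact False.elim (cert_false T ((skipEmb 3).trans (Function.Embedding.refl _)) (by norm_num) (fun _ => hall _) (((((((LB_zero T ((skipEmb 3).trans (Function.Embedding.refl _))).upd 0 2 1 (le_of_eq hx02)).upd 0 3 1 (le_of_eq hx04)).upd 2 0 2 (le_of_eq hx20)).upd 2 3 1 (le_of_eq hx24)).upd 3 0 1 (le_of_eq hx40)).upd 3 2 3 (le_of_eq hx42)) ![1,0,1,1] (by decide) (by decide) 0 (by decide))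
      · -- 24=(3,1)
        exact False.elim (cert_false T ((skipEmb 3).trans (Function.Embedding.refl _)) (by norm_num) (fun _ => hall _) (((((((LB_zero T ((skipEmb 3).trans (Function.Embedding.refl _))).upd 0 2 1 (le_of_eq hx02)).upd 0 3 1 (le_of_eq hx04)).upd 2 0 2 (le_of_eq hx20)).upd 2 3 3 (le_of_eq hx24)).upd 3 0 1 (le_of_eq hx40)).upd 3 2 1 (le_of_eq hx42)) ![1,0,1,1] (by decide) (by decide) 0 (by decide))
    · -- 14=(1,2)
      exact False.elim (cert_false T ((skipEmb 3).trans (Function.Embedding.refl _)) (by norm_num) (fun _ => hall _) (((((((LB_zero T ((skipEmb 3).trans (Function.Embedding.refl _))).upd 0 2 1 (le_of_eq hx02)).upd 0 3 1 (le_of_eq hx04)).upd 1 3 1 (le_of_eq hx14)).upd 2 0 2 (le_of_eq hx20)).upd 3 0 1 (le_of_eq hx40)).upd 3 1 2 (le_of_eq hx41)) ![2,1,2,2] (by decide) (by decide) 0 (by decide))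
    · -- 14=(2,1)
      exact False.elim (cert_false T ((skipEmb 3).trans (Function.Embedding.refl _)) (by norm_num) (fun _ => hall _) (((((((LB_zero T ((skipEmb 3).trans (Function.Embedding.refl _))).upd 0 2 1 (le_of_eq hx02)).upd 0 3 1 (le_of_eq hx04)).upd 1 3 2 (le_of_eq hx14)).upd 2 0 2 (le_of_eq hx20)).upd 3 0 1 (le_of_eq hx40)).upd 3 1 1 (le_of_eq hx41)) ![1,1,1,1] (by decide) (by decide) 0 (by decide))
    · -- 14=(1,3)
      exact False.elim (cert_false T ((skipEmb 3).trans (Function.Embedding.refl _)) (by norm_num) (fun _ => hall _) (((((LB_zero T ((skipEmb 3).trans (Function.Embedding.refl _))).upd 0 3 1 (le_of_eq hx04)).upd 1 3 1 (le_of_eq hx14)).upd 3 0 1 (le_of_eq hx40)).upd 3 1 3 (le_of_eq hx41)) ![1,1,0,2] (by decide) (by decide) 0 (by decide))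
    · -- 14=(3,1)
      exact False.elim (cert_false T ((skipEmb 3).trans (Function.Embedding.refl _)) (by norm_num) (fun _ => hall _) (((((((LB_zero T ((skipEmb 3).trans (Function.Embedding.refl _))).upd 0 2 1 (le_of_eq hx02)).upd 0 3 1 (le_of_eq hx04)).upd 1 3 3 (le_of_eq hx14)).upd 2 0 2 (le_of_eq hx20)).upd 3 0 1 (le_of_eq hx40)).upd 3 1 1 (le_of_eq hx41)) ![1,1,1,1] (by decide) (by decide) 0 (by decide))
  · -- 04=(1,2)
    exact False.elim (cert_false T ((skipEmb 3).trans (Function.Embedding.refl _)) (by norm_num) (fun _ => hall _) (((((LB_zero T ((skipEmb 3).trans (Function.Embedding.refl _))).upd 0 2 1 (le_of_eq hx02)).upd 0 3 1 (le_of_eq hx04)).upd 2 0 2 (le_of_eq hx20)).upd 3 0 2 (le_of_eq hx40)) ![1,0,1,1] (by decide) (by decide) 0 (by decide))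
  · -- 04=(2,1)
    exact False.elim (cert_false T ((skipEmb 3).trans (Function.Embedding.refl _)) (by norm_num) (fun _ => hall _) (((((LB_zero T ((skipEmb 3).trans (Function.Embedding.refl _))).upd 0 2 1 (le_of_eq hx02)).upd 0 3 2 (le_of_eq hx04)).upd 2 0 2 (le_of_eq hx20)).upd 3 0 1 (le_of_eq hx40)) ![2,0,2,1] (by decide) (by decide) 0 (by decide))
  · -- 04=(1,3)
    exact False.elim (cert_false T ((skipEmb 3).trans (Function.Embedding.refl _)) (by norm_num) (fun _ => hall _) (((((LB_zero T ((skipEmb 3).trans (Function.Embedding.refl _))).upd 0 2 1 (le_of_eq hx02)).upd 0 3 1 (le_of_eq hx04)).upd 2 0 2 (le_of_eq hx20)).upd 3 0 3 (le_of_eq hx40)) ![1,0,1,1] (by decide) (by decide) 0 (by decide))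
  · -- 04=(3,1)
    exact False.elim (cert_false T ((skipEmb 3).trans (Function.Embedding.refl _)) (by norm_num) (fun _ => hall _) (((((LB_zero T ((skipEmb 3).trans (Function.Embedding.refl _))).upd 0 2 1 (le_of_eq hx02)).upd 0 3 3 (le_of_eq hx04)).upd 2 0 2 (le_of_eq hx20)).upd 3 0 1 (le_of_eq hx40)) ![2,0,1,1] (by decide) (by decide) 0 (by decide))

theorem case287 (T : NumericalType 5) (hall : ∀ i, T.IsMinusTwo i) (d : SData T)
    (h01 : N T (Function.Embedding.refl _) 0 1 = 0) (h10 : N T (Function.Embedding.refl _) 1 0 = 0)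
    (h02 : N T (Function.Embedding.refl _) 0 2 = 1) (h20 : N T (Function.Embedding.refl _) 2 0 = 2)
    (h12 : N T (Function.Embedding.refl _) 1 2 = 0) (h21 : N T (Function.Embedding.refl _) 2 1 = 0)
    (h03 : N T (Function.Embedding.refl _) 0 3 = 0) (h30 : N T (Function.Embedding.refl _) 3 0 = 0)
    (h13 : N T (Function.Embedding.refl _) 1 3 = 1) (h31 : N T (Function.Embedding.refl _) 3 1 = 1) :
    Goal T := by
  unfold Goal
  have hd := d
  obtain ⟨x01, x02, x03, x04, x10, x12, x13, x14, x20, x21, x23, x24, x30, x31, x32, x34, x40, x41, x42, x43, hx01, hx02, hx03, hx04, hx10, hx12, hx13, hx14, hx20, hx21, hx23, hx24, hx30, hx31, hx32, hx34, hx40, hx41, hx42, hx43, hw0, hm0, hw1, hm1, hw2, hm2, hw3, hm3, hw4, hm4, a00, a01, a02, a03, a04, a11, a10, a12, a13, a14, a22, a20, a21, a23, a24, a33, a30, a31, a32, a34, a44, a40, a41, a42, a43, wN01, wN02, wN12, wN03, wN13, wN23, wN04, wN14, wN24, wN34, e0, e1,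 e2, e3, e4, d01, d02, d12, d03, d13, d23, d04, d14, d24, d34⟩ := d
  obtain rfl : x01 = 0 := hx01.trans h01
  obtain rfl : x10 = 0 := hx10.trans h10
  obtain rfl : x02 = 1 := hx02.trans h02
  obtain rfl : x20 = 2 := hx20.trans h20
  obtain rfl : x12 = 0 := hx12.trans h12
  obtain rfl : x21 = 0 := hx21.trans h21
  obtain rfl : x03 = 0 := hx03.trans h03
  obtain rfl : x30 = 0 := hx30.trans h30
  obtain rfl : x13 = 1 := hx13.trans h13
  obtain rfl : x31 = 1 := hx31.trans h31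
  rcases d23 with ⟨rfl, rfl⟩ | ⟨rfl, rfl⟩ | ⟨rfl, rfl⟩ | ⟨rfl, rfl⟩ | ⟨rfl, rfl⟩ | ⟨rfl, rfl⟩
  · -- 23=(0,0)
    exact case288 T hall hd hx01.symm hx10.symm hx02.symm hx20.symm hx12.symm hx21.symm hx03.symm hx30.symm hx13.symm hx31.symm hx23.symm hx32.symm
  · -- 23=(1,1)
    exact case290 T hall hd hx01.symm hx10.symm hx02.symm hx20.symm hx12.symm hx21.symm hx03.symm hx30.symm hx13.symm hx31.symm hx23.symm hx32.symm
  · -- 23=(1,2)
    exact False.elim (cert_false T ((skipEmb 4).trans (Function.Embedding.refl _)) (by norm_num) (fun _ => hall _) (((((LB_zero T ((skipEmb 4).trans (Function.Embedding.refl _))).upd 0 2 1 (le_of_eq hx02)).upd 2 0 2 (le_of_eq hx20)).upd 2 3 1 (le_of_eq hx23)).upd 3 2 2 (le_of_eq hx32)) ![1,0,2,2] (by decide) (by decide) 0 (by decide))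
  · -- 23=(2,1)
    exact False.elim (cert_false T ((skipEmb 4).trans (Function.Embedding.refl _)) (by norm_num) (fun _ => hall _) (((((LB_zero T ((skipEmb 4).trans (Function.Embedding.refl _))).upd 0 2 1 (le_of_eq hx02)).upd 2 0 2 (le_of_eq hx20)).upd 2 3 2 (le_of_eq hx23)).upd 3 2 1 (le_of_eq hx32)) ![1,0,2,1] (by decide) (by decide) 0 (by decide))
  · -- 23=(1,3)
    exact False.elim (cert_false T ((skipEmb 4).trans (Function.Embedding.refl _)) (by norm_num) (fun _ => hall _) (((((LB_zero T ((skipEmb 4).trans (Function.Embedding.refl _))).upd 0 2 1 (le_of_eq hx02)).upd 2 0 2 (le_of_eq hx20)).upd 2 3 1 (le_of_eq hx23)).upd 3 2 3 (le_of_eq hx32)) ![1,0,2,2] (by decide) (by decide) 0 (by decide))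
  · -- 23=(3,1)
    exact False.elim (cert_false T ((skipEmb 4).trans (Function.Embedding.refl _)) (by norm_num) (fun _ => hall _) (((((LB_zero T ((skipEmb 4).trans (Function.Embedding.refl _))).upd 0 2 1 (le_of_eq hx02)).upd 2 0 2 (le_of_eq hx20)).upd 2 3 3 (le_of_eq hx23)).upd 3 2 1 (le_of_eq hx32)) ![1,0,2,1] (by decide) (by decide) 0 (by decide))

theorem case421 (T : NumericalType 5) (hall : ∀ i, T.IsMinusTwo i) (d : SData T)
    (h01 : N T (Function.Embedding.refl _) 0 1 = 1) (h10 : N T (Function.Embedding.refl _) 1 0 = 1)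
    (h02 : N T (Function.Embedding.refl _) 0 2 = 1) (h20 : N T (Function.Embedding.refl _) 2 0 = 1)
    (h12 : N T (Function.Embedding.refl _) 1 2 = 0) (h21 : N T (Function.Embedding.refl _) 2 1 = 0)
    (h03 : N T (Function.Embedding.refl _) 0 3 = 0) (h30 : N T (Function.Embedding.refl _) 3 0 = 0)
    (h13 : N T (Function.Embedding.refl _) 1 3 = 0) (h31 : N T (Function.Embedding.refl _) 3 1 = 0)
    (h23 : N T (Function.Embedding.refl _) 2 3 = 0) (h32 : N T (Function.Embedding.refl _) 3 2 = 0)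
    (h04 : N T (Function.Embedding.refl _) 0 4 = 0) (h40 : N T (Function.Embedding.refl _) 4 0 = 0) :
    Goal T := by
  unfold Goal
  have hd := d
  obtain ⟨x01, x02, x03, x04, x10, x12, x13, x14, x20, x21, x23, x24, x30, x31, x32, x34, x40, x41, x42, x43, hx01, hx02, hx03, hx04, hx10, hx12, hx13, hx14, hx20, hx21, hx23, hx24, hx30, hx31, hx32, hx34, hx40, hx41, hx42, hx43, hw0, hm0, hw1, hm1, hw2, hm2, hw3, hm3, hw4, hm4, a00, a01, a02, a03, a04, a11, a10, a12, a13, a14, a22, a20, a21, a23, a24, a33, a30, a31, a32, a34, a44, a40, a41, a42, a43, wN01, wN02, wN12, wN03, wN13, wN23, wN04, wN14, wN24, wN34, e0, e1, e2, e3, e4, d01, d02, d12, d03, d13, d23, d04, d14, d24, d34⟩ := d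
  obtain rfl : x01 = 1 := hx01.trans h01
  obtain rfl : x10 = 1 := hx10.trans h10
  obtain rfl : x02 = 1 := hx02.trans h02
  obtain rfl : x20 = 1 := hx20.trans h20
  obtain rfl : x12 = 0 := hx12.trans h12
  obtain rfl : x21 = 0 := hx21.trans h21
  obtain rfl : x03 = 0 := hx03.trans h03
  obtain rfl : x30 = 0 := hx30.trans h30
  obtain rfl : x13 = 0 := hx13.trans h13
  obtain rfl : x31 = 0 := hx31.trans h31
  obtain rfl : x23 = 0 := hx23.trans h23
  obtain rfl : x32 = 0 := hx32.trans h32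
  obtain rfl : x04 = 0 := hx04.trans h04
  obtain rfl : x40 = 0 := hx40.trans h40
  rcases d14 with ⟨rfl, rfl⟩ | ⟨rfl, rfl⟩ | ⟨rfl, rfl⟩ | ⟨rfl, rfl⟩ | ⟨rfl, rfl⟩ | ⟨rfl, rfl⟩
  · -- 14=(0,0)
    rcases d24 with ⟨rfl, rfl⟩ | ⟨rfl, rfl⟩ | ⟨rfl, rfl⟩ | ⟨rfl, rfl⟩ | ⟨rfl, rfl⟩ | ⟨rfl, rfl⟩
    · -- 24=(0,0)
      rcases d34 with ⟨rfl, rfl⟩ | ⟨rfl, rfl⟩ | ⟨rfl, rfl⟩ | ⟨rfl, rfl⟩ | ⟨rfl, rfl⟩ | ⟨rfl, rfl⟩
      · -- 34=(0,0)
        exfalso; omega
      · -- 34=(1,1)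
        exfalso; omega
      · -- 34=(1,2)
        exfalso; omega
      · -- 34=(2,1)
        exfalso; omega
      · -- 34=(1,3)
        exfalso; omega
      · -- 34=(3,1)
        exfalso; omega
    · -- 24=(1,1)
      rcases d34 with ⟨rfl, rfl⟩ | ⟨rfl, rfl⟩ | ⟨rfl, rfl⟩ | ⟨rfl, rfl⟩ | ⟨rfl, rfl⟩ | ⟨rfl, rfl⟩
      · -- 34=(0,0)
        exfalso; omega
      · -- 34=(1,1)
        exfalso; omega
      · -- 34=(1,2)
        exfalso; omega
      · -- 34=(2,1)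
        exfalso; omega
      · -- 34=(1,3)
        exact False.elim (cert_false T ((skipEmb 1).trans (Function.Embedding.refl _)) (by norm_num) (fun _ => hall _) (((((LB_zero T ((skipEmb 1).trans (Function.Embedding.refl _))).upd 1 3 1 (le_of_eq hx24)).upd 2 3 1 (le_of_eq hx34)).upd 3 1 1 (le_of_eq hx42)).upd 3 2 3 (le_of_eq hx43)) ![0,1,1,2] (by decide) (by decide) 1 (by decide))
      · -- 34=(3,1)
        exact False.elim (cert_false T ((skipEmb 1).trans (Function.Embedding.refl _)) (by norm_num) (fun _ => hall _) (((((LB_zero T ((skipEmb 1).trans (Function.Embedding.refl _))).upd 1 3 1 (le_of_eq hx24)).upd 2 3 3 (le_of_eq hx34)).upd 3 1 1 (le_of_eq hx42)).upd 3 2 1 (le_of_eq hx43)) ![0,1,3,2] (by decide) (by decide) 1 (by decide))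
    · -- 24=(1,2)
      rcases d34 with ⟨rfl, rfl⟩ | ⟨rfl, rfl⟩ | ⟨rfl, rfl⟩ | ⟨rfl, rfl⟩ | ⟨rfl, rfl⟩ | ⟨rfl, rfl⟩
      · -- 34=(0,0)
        exfalso; omega
      · -- 34=(1,1)
        refine ⟨(⟨![1, 0, 2, 4, 3], ![1, 0, 2, 4, 3], by decide, by decide⟩ : Equiv.Perm (Fin 5)), T.m 1, T.w 4, Or.inr (Or.inr (Or.inl ?_))⟩
        show T.m 1 = T.m 1 ∧ T.m 0 = 2 * T.m 1 ∧ T.m 2 = 3 * T.m 1 ∧ T.m 4 = 4 * T.m 1 ∧ T.m 3 = 2 * T.m 1 ∧ T.w 1 = 2 * T.w 4 ∧ T.w 0 = 2 * T.w 4 ∧ T.w 2 = 2 * T.w 4 ∧ T.w 4 = T.w 4 ∧ T.w 3 = T.w 4 ∧ T.a 1 1 = -4 * T.w 4 ∧ T.a 1 0 = 2 * T.w 4 ∧ T.a 1 2 = 0 ∧ T.a 1 4 = 0 ∧ T.a 1 3 = 0 ∧ T.a 0 0 = -4 * T.w 4 ∧ T.a 0 2 = 2 * T.w 4 ∧ T.a 0 4 = 0 ∧ T.a 0 3 = 0 ∧ T.a 2 2 = -4 * T.w 4 ∧ T.a 2 4 = 2 * T.w 4 ∧ T.a 2 3 = 0 ∧ T.a 4 4 = -2 * T.w 4 ∧ T.a 4 3 = T.w 4 ∧ T.a 3 3 = -2 * T.w 4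
        refine ⟨?_, ?_, ?_, ?_, ?_, ?_, ?_, ?_, ?_, ?_, ?_, ?_, ?_, ?_, ?_, ?_, ?_, ?_, ?_, ?_, ?_, ?_, ?_, ?_, ?_⟩ <;> omega
      · -- 34=(1,2)
        exact False.elim (cert_false T ((skipEmb 1).trans (Function.Embedding.refl _)) (by norm_num) (fun _ => hall _) (((((LB_zero T ((skipEmb 1).trans (Function.Embedding.refl _))).upd 1 3 1 (le_of_eq hx24)).upd 2 3 1 (le_of_eq hx34)).upd 3 1 2 (le_of_eq hx42)).upd 3 2 2 (le_of_eq hx43)) ![0,1,1,2] (by decide) (by decide) 1 (by decide))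
      · -- 34=(2,1)
        exact False.elim (cert_false T ((skipEmb 1).trans (Function.Embedding.refl _)) (by norm_num) (fun _ => hall _) (((((LB_zero T ((skipEmb 1).trans (Function.Embedding.refl _))).upd 1 3 1 (le_of_eq hx24)).upd 2 3 2 (le_of_eq hx34)).upd 3 1 2 (le_of_eq hx42)).upd 3 2 1 (le_of_eq hx43)) ![0,1,2,2] (by decide) (by decide) 1 (by decide))
      · -- 34=(1,3)
        exact False.elim (cert_false T ((skipEmb 1).trans (Function.Embedding.refl _)) (by norm_num) (fun _ => hall _) (((((LB_zero T ((skipEmb 1).trans (Function.Embedding.refl _))).upd 1 3 1 (le_of_eq hx24)).upd 2 3 1 (le_of_eq hx34)).upd 3 1 2 (le_of_eq hx42)).upd 3 2 3 (le_of_eq hx43)) ![0,1,1,2] (by decide) (by decide) 1 (by decide))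
      · -- 34=(3,1)
        exact False.elim (cert_false T ((skipEmb 1).trans (Function.Embedding.refl _)) (by norm_num) (fun _ => hall _) (((((LB_zero T ((skipEmb 1).trans (Function.Embedding.refl _))).upd 1 3 1 (le_of_eq hx24)).upd 2 3 3 (le_of_eq hx34)).upd 3 1 2 (le_of_eq hx42)).upd 3 2 1 (le_of_eq hx43)) ![0,1,2,2] (by decide) (by decide) 1 (by decide))
    · -- 24=(2,1)
      rcases d34 with ⟨rfl, rfl⟩ | ⟨rfl, rfl⟩ | ⟨rfl, rfl⟩ | ⟨rfl, rfl⟩ | ⟨rfl, rfl⟩ | ⟨rfl, rfl⟩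
      · -- 34=(0,0)
        exfalso; omega
      · -- 34=(1,1)
        refine ⟨(⟨![1, 0, 2, 4, 3], ![1, 0, 2, 4, 3], by decide, by decide⟩ : Equiv.Perm (Fin 5)), T.m 1, T.w 1, Or.inr (Or.inl ?_)⟩
        show T.m 1 = T.m 1 ∧ T.m 0 = 2 * T.m 1 ∧ T.m 2 = 3 * T.m 1 ∧ T.m 4 = 2 * T.m 1 ∧ T.m 3 = T.m 1 ∧ T.w 1 = T.w 1 ∧ T.w 0 = T.w 1 ∧ T.w 2 = T.w 1 ∧ T.w 4 = 2 * T.w 1 ∧ T.w 3 = 2 * T.w 1 ∧ T.a 1 1 = -2 * T.w 1 ∧ T.a 1 0 = T.w 1 ∧ T.a 1 2 = 0 ∧ T.a 1 4 = 0 ∧ T.a 1 3 = 0 ∧ T.a 0 0 = -2 * T.w 1 ∧ T.a 0 2 = T.w 1 ∧ T.a 0 4 = 0 ∧ T.a 0 3 = 0 ∧ T.a 2 2 = -2 * T.w 1 ∧ T.a 2 4 = 2 * T.w 1 ∧ T.a 2 3 = 0 ∧ T.a 4 4 = -4 * T.w 1 ∧ T.a 4 3 = 2 * T.w 1 ∧ T.a 3 3 = -4 * T.w 1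
        refine ⟨?_, ?_, ?_, ?_, ?_, ?_, ?_, ?_, ?_, ?_, ?_, ?_, ?_, ?_, ?_, ?_, ?_, ?_, ?_, ?_, ?_, ?_, ?_, ?_, ?_⟩ <;> omega
      · -- 34=(1,2)
        exact False.elim (cert_false T ((skipEmb 1).trans (Function.Embedding.refl _)) (by norm_num) (fun _ => hall _) (((((LB_zero T ((skipEmb 1).trans (Function.Embedding.refl _))).upd 1 3 2 (le_of_eq hx24)).upd 2 3 1 (le_of_eq hx34)).upd 3 1 1 (le_of_eq hx42)).upd 3 2 2 (le_of_eq hx43)) ![0,2,1,2] (by decide) (by decide) 1 (by decide))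
      · -- 34=(2,1)
        exact False.elim (cert_false T ((skipEmb 1).trans (Function.Embedding.refl _)) (by norm_num) (fun _ => hall _) (((((LB_zero T ((skipEmb 1).trans (Function.Embedding.refl _))).upd 1 3 2 (le_of_eq hx24)).upd 2 3 2 (le_of_eq hx34)).upd 3 1 1 (le_of_eq hx42)).upd 3 2 1 (le_of_eq hx43)) ![0,1,1,1] (by decide) (by decide) 1 (by decide))
      · -- 34=(1,3)
        exact False.elim (cert_false T ((skipEmb 1).trans (Function.Embedding.refl _)) (by norm_num) (fun _ => hall _) (((((LB_zero T ((skipEmb 1).trans (Function.Embedding.refl _))).upd 1 3 2 (le_of_eq hx24)).upd 2 3 1 (le_of_eq hx34)).upd 3 1 1 (le_of_eq hx42)).upd 3 2 3 (le_of_eq hx43)) ![0,1,1,2] (by decide) (by decide) 1 (by decide))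
      · -- 34=(3,1)
        exact False.elim (cert_false T ((skipEmb 1).trans (Function.Embedding.refl _)) (by norm_num) (fun _ => hall _) (((((LB_zero T ((skipEmb 1).trans (Function.Embedding.refl _))).upd 1 3 2 (le_of_eq hx24)).upd 2 3 3 (le_of_eq hx34)).upd 3 1 1 (le_of_eq hx42)).upd 3 2 1 (le_of_eq hx43)) ![0,1,1,1] (by decide) (by decide) 1 (by decide))
    · -- 24=(1,3)
      exact False.elim (cert_false T ((skipEmb 3).trans (Function.Embedding.refl _)) (by norm_num) (fun _ => hall _) (((((LB_zero T ((skipEmb 3).trans (Function.Embedding.refl _))).upd 0 2 1 (le_of_eq hx02)).upd 2 0 1 (le_of_eq hx20)).upd 2 3 1 (le_of_eq hx24)).upd 3 2 3 (le_of_eq hx42)) ![1,0,2,3] (by decide) (by decide) 0 (by decide))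
    · -- 24=(3,1)
      exact False.elim (cert_false T ((skipEmb 3).trans (Function.Embedding.refl _)) (by norm_num) (fun _ => hall _) (((((LB_zero T ((skipEmb 3).trans (Function.Embedding.refl _))).upd 0 2 1 (le_of_eq hx02)).upd 2 0 1 (le_of_eq hx20)).upd 2 3 3 (le_of_eq hx24)).upd 3 2 1 (le_of_eq hx42)) ![1,0,2,1] (by decide) (by decide) 0 (by decide))
  · -- 14=(1,1)
    rcases d24 with ⟨rfl, rfl⟩ | ⟨rfl, rfl⟩ | ⟨rfl, rfl⟩ | ⟨rfl, rfl⟩ | ⟨rfl, rfl⟩ | ⟨rfl, rfl⟩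
    · -- 24=(0,0)
      rcases d34 with ⟨rfl, rfl⟩ | ⟨rfl, rfl⟩ | ⟨rfl, rfl⟩ | ⟨rfl, rfl⟩ | ⟨rfl, rfl⟩ | ⟨rfl, rfl⟩
      · -- 34=(0,0)
        exfalso; omega
      · -- 34=(1,1)
        exfalso; omega
      · -- 34=(1,2)
        exfalso; omega
      · -- 34=(2,1)
        exfalso; omega
      · -- 34=(1,3)
        exact False.elim (cert_false T ((skipEmb 2).trans (Function.Embedding.refl _)) (by norm_num) (fun _ => hall _) (((((LB_zero T ((skipEmb 2).trans (Function.Embedding.refl _))).upd 1 3 1 (le_of_eq hx14)).upd 2 3 1 (le_of_eq hx34)).upd 3 1 1 (le_of_eq hx41)).upd 3 2 3 (le_of_eq hx43)) ![0,1,1,2] (by decide) (by decide) 1 (by decide))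
      · -- 34=(3,1)
        exact False.elim (cert_false T ((skipEmb 2).trans (Function.Embedding.refl _)) (by norm_num) (fun _ => hall _) (((((LB_zero T ((skipEmb 2).trans (Function.Embedding.refl _))).upd 1 3 1 (le_of_eq hx14)).upd 2 3 3 (le_of_eq hx34)).upd 3 1 1 (le_of_eq hx41)).upd 3 2 1 (le_of_eq hx43)) ![0,1,3,2] (by decide) (by decide) 1 (by decide))
    · -- 24=(1,1)
      exact False.elim (cert_false T ((skipEmb 3).trans (Function.Embedding.refl _)) (by norm_num) (fun _ => hall _) (((((((((LB_zero T ((skipEmb 3).trans (Function.Embedding.refl _))).upd 0 1 1 (le_of_eq hx01)).upd 0 2 1 (le_of_eq hx02)).upd 1 0 1 (le_of_eq hx10)).upd 1 3 1 (le_of_eq hx14)).upd 2 0 1 (le_of_eq hx20)).upd 2 3 1 (le_of_eq hx24)).upd 3 1 1 (le_of_eq hx41)).upd 3 2 1 (le_of_eq hx42)) ![1,1,1,1] (by decide) (by decide) 0 (by decide))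
    · -- 24=(1,2)
      exact False.elim (cert_false T ((skipEmb 3).trans (Function.Embedding.refl _)) (by norm_num) (fun _ => hall _) (((((((((LB_zero T ((skipEmb 3).trans (Function.Embedding.refl _))).upd 0 1 1 (le_of_eq hx01)).upd 0 2 1 (le_of_eq hx02)).upd 1 0 1 (le_of_eq hx10)).upd 1 3 1 (le_of_eq hx14)).upd 2 0 1 (le_of_eq hx20)).upd 2 3 1 (le_of_eq hx24)).upd 3 1 1 (le_of_eq hx41)).upd 3 2 2 (le_of_eq hx42)) ![1,1,1,1] (by decide) (by decide) 0 (by decide))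
    · -- 24=(2,1)
      exact False.elim (cert_false T ((skipEmb 3).trans (Function.Embedding.refl _)) (by norm_num) (fun _ => hall _) (((((((((LB_zero T ((skipEmb 3).trans (Function.Embedding.refl _))).upd 0 1 1 (le_of_eq hx01)).upd 0 2 1 (le_of_eq hx02)).upd 1 0 1 (le_of_eq hx10)).upd 1 3 1 (le_of_eq hx14)).upd 2 0 1 (le_of_eq hx20)).upd 2 3 2 (le_of_eq hx24)).upd 3 1 1 (le_of_eq hx41)).upd 3 2 1 (le_of_eq hx42)) ![1,1,1,1] (by decide) (by decide) 0 (by decide))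
    · -- 24=(1,3)
      exact False.elim (cert_false T ((skipEmb 3).trans (Function.Embedding.refl _)) (by norm_num) (fun _ => hall _) (((((((((LB_zero T ((skipEmb 3).trans (Function.Embedding.refl _))).upd 0 1 1 (le_of_eq hx01)).upd 0 2 1 (le_of_eq hx02)).upd 1 0 1 (le_of_eq hx10)).upd 1 3 1 (le_of_eq hx14)).upd 2 0 1 (le_of_eq hx20)).upd 2 3 1 (le_of_eq hx24)).upd 3 1 1 (le_of_eq hx41)).upd 3 2 3 (le_of_eq hx42)) ![1,1,1,1] (by decide) (by decide) 0 (by decide))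
    · -- 24=(3,1)
      exact False.elim (cert_false T ((skipEmb 3).trans (Function.Embedding.refl _)) (by norm_num) (fun _ => hall _) (((((((((LB_zero T ((skipEmb 3).trans (Function.Embedding.refl _))).upd 0 1 1 (le_of_eq hx01)).upd 0 2 1 (le_of_eq hx02)).upd 1 0 1 (le_of_eq hx10)).upd 1 3 1 (le_of_eq hx14)).upd 2 0 1 (le_of_eq hx20)).upd 2 3 3 (le_of_eq hx24)).upd 3 1 1 (le_of_eq hx41)).upd 3 2 1 (le_of_eq hx42)) ![1,1,1,1] (by decide) (by decide) 0 (by decide))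
  · -- 14=(1,2)
    rcases d24 with ⟨rfl, rfl⟩ | ⟨rfl, rfl⟩ | ⟨rfl, rfl⟩ | ⟨rfl, rfl⟩ | ⟨rfl, rfl⟩ | ⟨rfl, rfl⟩
    · -- 24=(0,0)
      rcases d34 with ⟨rfl, rfl⟩ | ⟨rfl, rfl⟩ | ⟨rfl, rfl⟩ | ⟨rfl, rfl⟩ | ⟨rfl, rfl⟩ | ⟨rfl, rfl⟩
      · -- 34=(0,0)
        exfalso; omega
      · -- 34=(1,1)
        refine ⟨(⟨![2, 0, 1, 4, 3], ![1, 2, 0, 4, 3], by decide, by decide⟩ : Equiv.Perm (Fin 5)), T.m 2, T.w 4, Or.inr (Or.inr (Or.inl ?_))⟩
        show T.m 2 = T.m 2 ∧ T.m 0 = 2 * T.m 2 ∧ T.m 1 = 3 * T.m 2 ∧ T.m 4 = 4 * T.m 2 ∧ T.m 3 = 2 * T.m 2 ∧ T.w 2 = 2 * T.w 4 ∧ T.w 0 = 2 * T.w 4 ∧ T.w 1 = 2 * T.w 4 ∧ T.w 4 = T.w 4 ∧ T.w 3 = T.w 4 ∧ T.a 2 2 = -4 * T.w 4 ∧ T.a 2 0 = 2 * T.w 4 ∧ T.a 2 1 = 0 ∧ T.a 2 4 = 0 ∧ T.a 2 3 = 0 ∧ T.a 0 0 = -4 * T.w 4 ∧ T.a 0 1 = 2 * T.w 4 ∧ T.a 0 4 = 0 ∧ T.a 0 3 = 0 ∧ T.a 1 1 = -4 * T.w 4 ∧ T.a 1 4 = 2 * T.w 4 ∧ T.a 1 3 = 0 ∧ T.a 4 4 = -2 * T.w 4 ∧ T.a 4 3 = T.w 4 ∧ T.a 3 3 = -2 * T.w 4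
        refine ⟨?_, ?_, ?_, ?_, ?_, ?_, ?_, ?_, ?_, ?_, ?_, ?_, ?_, ?_, ?_, ?_, ?_, ?_, ?_, ?_, ?_, ?_, ?_, ?_, ?_⟩ <;> omega
      · -- 34=(1,2)
        exact False.elim (cert_false T ((skipEmb 2).trans (Function.Embedding.refl _)) (by norm_num) (fun _ => hall _) (((((LB_zero T ((skipEmb 2).trans (Function.Embedding.refl _))).upd 1 3 1 (le_of_eq hx14)).upd 2 3 1 (le_of_eq hx34)).upd 3 1 2 (le_of_eq hx41)).upd 3 2 2 (le_of_eq hx43)) ![0,1,1,2] (by decide) (by decide) 1 (by decide))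
      · -- 34=(2,1)
        exact False.elim (cert_false T ((skipEmb 2).trans (Function.Embedding.refl _)) (by norm_num) (fun _ => hall _) (((((LB_zero T ((skipEmb 2).trans (Function.Embedding.refl _))).upd 1 3 1 (le_of_eq hx14)).upd 2 3 2 (le_of_eq hx34)).upd 3 1 2 (le_of_eq hx41)).upd 3 2 1 (le_of_eq hx43)) ![0,1,2,2] (by decide) (by decide) 1 (by decide))
      · -- 34=(1,3)
        exact False.elim (cert_false T ((skipEmb 2).trans (Function.Embedding.refl _)) (by norm_num) (fun _ => hall _) (((((LB_zero T ((skipEmb 2).trans (Function.Embedding.refl _))).upd 1 3 1 (le_of_eq hx14)).upd 2 3 1 (le_of_eq hx34)).upd 3 1 2 (le_of_eq hx41)).upd 3 2 3 (le_of_eq hx43)) ![0,1,1,2] (by decide) (by decide) 1 (by decide))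
      · -- 34=(3,1)
        exact False.elim (cert_false T ((skipEmb 2).trans (Function.Embedding.refl _)) (by norm_num) (fun _ => hall _) (((((LB_zero T ((skipEmb 2).trans (Function.Embedding.refl _))).upd 1 3 1 (le_of_eq hx14)).upd 2 3 3 (le_of_eq hx34)).upd 3 1 2 (le_of_eq hx41)).upd 3 2 1 (le_of_eq hx43)) ![0,1,2,2] (by decide) (by decide) 1 (by decide))
    · -- 24=(1,1)
      exact False.elim (cert_false T ((skipEmb 3).trans (Function.Embedding.refl _)) (by norm_num) (fun _ => hall _) (((((((((LB_zero T ((skipEmb 3).trans (Function.Embedding.refl _))).upd 0 1 1 (le_of_eq hx01)).upd 0 2 1 (le_of_eq hx02)).upd 1 0 1 (le_of_eq hx10)).upd 1 3 1 (le_of_eq hx14)).upd 2 0 1 (le_of_eq hx20)).upd 2 3 1 (le_of_eq hx24)).upd 3 1 2 (le_of_eq hx41)).upd 3 2 1 (le_of_eq hx42)) ![1,1,1,1] (by decide) (by decide) 0 (by decide))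
    · -- 24=(1,2)
      exact False.elim (cert_false T ((skipEmb 3).trans (Function.Embedding.refl _)) (by norm_num) (fun _ => hall _) (((((((((LB_zero T ((skipEmb 3).trans (Function.Embedding.refl _))).upd 0 1 1 (le_of_eq hx01)).upd 0 2 1 (le_of_eq hx02)).upd 1 0 1 (le_of_eq hx10)).upd 1 3 1 (le_of_eq hx14)).upd 2 0 1 (le_of_eq hx20)).upd 2 3 1 (le_of_eq hx24)).upd 3 1 2 (le_of_eq hx41)).upd 3 2 2 (le_of_eq hx42)) ![1,1,1,1] (by decide) (by decide) 0 (by decide))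
    · -- 24=(2,1)
      exact False.elim (cert_false T ((skipEmb 3).trans (Function.Embedding.refl _)) (by norm_num) (fun _ => hall _) (((((((((LB_zero T ((skipEmb 3).trans (Function.Embedding.refl _))).upd 0 1 1 (le_of_eq hx01)).upd 0 2 1 (le_of_eq hx02)).upd 1 0 1 (le_of_eq hx10)).upd 1 3 1 (le_of_eq hx14)).upd 2 0 1 (le_of_eq hx20)).upd 2 3 2 (le_of_eq hx24)).upd 3 1 2 (le_of_eq hx41)).upd 3 2 1 (le_of_eq hx42)) ![1,1,1,1] (by decide) (by decide) 0 (by decide))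
    · -- 24=(1,3)
      exact False.elim (cert_false T ((skipEmb 3).trans (Function.Embedding.refl _)) (by norm_num) (fun _ => hall _) (((((((((LB_zero T ((skipEmb 3).trans (Function.Embedding.refl _))).upd 0 1 1 (le_of_eq hx01)).upd 0 2 1 (le_of_eq hx02)).upd 1 0 1 (le_of_eq hx10)).upd 1 3 1 (le_of_eq hx14)).upd 2 0 1 (le_of_eq hx20)).upd 2 3 1 (le_of_eq hx24)).upd 3 1 2 (le_of_eq hx41)).upd 3 2 3 (le_of_eq hx42)) ![1,1,1,1] (by decide) (by decide) 0 (by decide))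
    · -- 24=(3,1)
      exact False.elim (cert_false T ((skipEmb 3).trans (Function.Embedding.refl _)) (by norm_num) (fun _ => hall _) (((((((((LB_zero T ((skipEmb 3).trans (Function.Embedding.refl _))).upd 0 1 1 (le_of_eq hx01)).upd 0 2 1 (le_of_eq hx02)).upd 1 0 1 (le_of_eq hx10)).upd 1 3 1 (le_of_eq hx14)).upd 2 0 1 (le_of_eq hx20)).upd 2 3 3 (le_of_eq hx24)).upd 3 1 2 (le_of_eq hx41)).upd 3 2 1 (le_of_eq hx42)) ![1,1,1,1] (by decide) (by decide) 0 (by decide))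
  · -- 14=(2,1)
    rcases d24 with ⟨rfl, rfl⟩ | ⟨rfl, rfl⟩ | ⟨rfl, rfl⟩ | ⟨rfl, rfl⟩ | ⟨rfl, rfl⟩ | ⟨rfl, rfl⟩
    · -- 24=(0,0)
      rcases d34 with ⟨rfl, rfl⟩ | ⟨rfl, rfl⟩ | ⟨rfl, rfl⟩ | ⟨rfl, rfl⟩ | ⟨rfl, rfl⟩ | ⟨rfl, rfl⟩
      · -- 34=(0,0)
        exfalso; omega
      · -- 34=(1,1)
        refine ⟨(⟨![2, 0, 1, 4, 3], ![1, 2, 0, 4, 3], by decide, by decide⟩ : Equiv.Perm (Fin 5)), T.m 2, T.w 2, Or.inr (Or.inl ?_)⟩
        show T.m 2 = T.m 2 ∧ T.m 0 = 2 * T.m 2 ∧ T.m 1 = 3 * T.m 2 ∧ T.m 4 = 2 * T.m 2 ∧ T.m 3 = T.m 2 ∧ T.w 2 = T.w 2 ∧ T.w 0 = T.w 2 ∧ T.w 1 = T.w 2 ∧ T.w 4 = 2 * T.w 2 ∧ T.w 3 = 2 * T.w 2 ∧ T.a 2 2 = -2 * T.w 2 ∧ T.a 2 0 = T.w 2 ∧ T.a 2 1 = 0 ∧ T.a 2 4 = 0 ∧ T.a 2 3 = 0 ∧ T.a 0 0 = -2 * T.w 2 ∧ T.a 0 1 = T.w 2 ∧ T.a 0 4 = 0 ∧ T.a 0 3 = 0 ∧ T.a 1 1 = -2 * T.w 2 ∧ T.a 1 4 = 2 * T.w 2 ∧ T.a 1 3 = 0 ∧ T.a 4 4 = -4 * T.w 2 ∧ T.a 4 3 = 2 * T.w 2 ∧ T.a 3 3 = -4 * T.w 2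
        refine ⟨?_, ?_, ?_, ?_, ?_, ?_, ?_, ?_, ?_, ?_, ?_, ?_, ?_, ?_, ?_, ?_, ?_, ?_, ?_, ?_, ?_, ?_, ?_, ?_, ?_⟩ <;> omega
      · -- 34=(1,2)
        exact False.elim (cert_false T ((skipEmb 2).trans (Function.Embedding.refl _)) (by norm_num) (fun _ => hall _) (((((LB_zero T ((skipEmb 2).trans (Function.Embedding.refl _))).upd 1 3 2 (le_of_eq hx14)).upd 2 3 1 (le_of_eq hx34)).upd 3 1 1 (le_of_eq hx41)).upd 3 2 2 (le_of_eq hx43)) ![0,2,1,2] (by decide) (by decide) 1 (by decide))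
      · -- 34=(2,1)
        exact False.elim (cert_false T ((skipEmb 2).trans (Function.Embedding.refl _)) (by norm_num) (fun _ => hall _) (((((LB_zero T ((skipEmb 2).trans (Function.Embedding.refl _))).upd 1 3 2 (le_of_eq hx14)).upd 2 3 2 (le_of_eq hx34)).upd 3 1 1 (le_of_eq hx41)).upd 3 2 1 (le_of_eq hx43)) ![0,1,1,1] (by decide) (by decide) 1 (by decide))
      · -- 34=(1,3)
        exact False.elim (cert_false T ((skipEmb 2).trans (Function.Embedding.refl _)) (by norm_num) (fun _ => hall _) (((((LB_zero T ((skipEmb 2).trans (Function.Embedding.refl _))).upd 1 3 2 (le_of_eq hx14)).upd 2 3 1 (le_of_eq hx34)).upd 3 1 1 (le_of_eq hx41)).upd 3 2 3 (le_of_eq hx43)) ![0,1,1,2] (by decide) (by decide) 1 (by decide))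
      · -- 34=(3,1)
        exact False.elim (cert_false T ((skipEmb 2).trans (Function.Embedding.refl _)) (by norm_num) (fun _ => hall _) (((((LB_zero T ((skipEmb 2).trans (Function.Embedding.refl _))).upd 1 3 2 (le_of_eq hx14)).upd 2 3 3 (le_of_eq hx34)).upd 3 1 1 (le_of_eq hx41)).upd 3 2 1 (le_of_eq hx43)) ![0,1,1,1] (by decide) (by decide) 1 (by decide))
    · -- 24=(1,1)
      exact False.elim (cert_false T ((skipEmb 3).trans (Function.Embedding.refl _)) (by norm_num) (fun _ => hall _) (((((((((LB_zero T ((skipEmb 3).trans (Function.Embedding.refl _))).upd 0 1 1 (le_of_eq hx01)).upd 0 2 1 (le_of_eq hx02)).upd 1 0 1 (le_of_eq hx10)).upd 1 3 2 (le_of_eq hx14)).upd 2 0 1 (le_of_eq hx20)).upd 2 3 1 (le_of_eq hx24)).upd 3 1 1 (le_of_eq hx41)).upd 3 2 1 (le_of_eq hx42)) ![1,1,1,1] (by decide) (by decide) 0 (by decide))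
    · -- 24=(1,2)
      exact False.elim (cert_false T ((skipEmb 3).trans (Function.Embedding.refl _)) (by norm_num) (fun _ => hall _) (((((((((LB_zero T ((skipEmb 3).trans (Function.Embedding.refl _))).upd 0 1 1 (le_of_eq hx01)).upd 0 2 1 (le_of_eq hx02)).upd 1 0 1 (le_of_eq hx10)).upd 1 3 2 (le_of_eq hx14)).upd 2 0 1 (le_of_eq hx20)).upd 2 3 1 (le_of_eq hx24)).upd 3 1 1 (le_of_eq hx41)).upd 3 2 2 (le_of_eq hx42)) ![1,1,1,1] (by decide) (by decide) 0 (by decide))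
    · -- 24=(2,1)
      exact False.elim (cert_false T ((skipEmb 3).trans (Function.Embedding.refl _)) (by norm_num) (fun _ => hall _) (((((LB_zero T ((skipEmb 3).trans (Function.Embedding.refl _))).upd 1 3 2 (le_of_eq hx14)).upd 2 3 2 (le_of_eq hx24)).upd 3 1 1 (le_of_eq hx41)).upd 3 2 1 (le_of_eq hx42)) ![0,1,1,1] (by decide) (by decide) 1 (by decide))
    · -- 24=(1,3)
      exact False.elim (cert_false T ((skipEmb 3).trans (Function.Embedding.refl _)) (by norm_num) (fun _ => hall _) (((((((((LB_zero T ((skipEmb 3).trans (Function.Embedding.refl _))).upd 0 1 1 (le_of_eq hx01)).upd 0 2 1 (le_of_eq hx02)).upd 1 0 1 (le_of_eq hx10)).upd 1 3 2 (le_of_eq hx14)).upd 2 0 1 (le_of_eq hx20)).upd 2 3 1 (le_of_eq hx24)).upd 3 1 1 (le_of_eq hx41)).upd 3 2 3 (le_of_eq hx42)) ![1,1,1,1] (by decide) (by decide) 0 (by decide))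
    · -- 24=(3,1)
      exact False.elim (cert_false T ((skipEmb 3).trans (Function.Embedding.refl _)) (by norm_num) (fun _ => hall _) (((((LB_zero T ((skipEmb 3).trans (Function.Embedding.refl _))).upd 1 3 2 (le_of_eq hx14)).upd 2 3 3 (le_of_eq hx24)).upd 3 1 1 (le_of_eq hx41)).upd 3 2 1 (le_of_eq hx42)) ![0,1,1,1] (by decide) (by decide) 1 (by decide))
  · -- 14=(1,3)
    exact False.elim (cert_false T ((skipEmb 3).trans (Function.Embedding.refl _)) (by norm_num) (fun _ => hall _) (((((LB_zero T ((skipEmb 3).trans (Function.Embedding.refl _))).upd 0 1 1 (le_of_eq hx01)).upd 1 0 1 (le_of_eq hx10)).upd 1 3 1 (le_of_eq hx14)).upd 3 1 3 (le_of_eq hx41)) ![1,2,0,3] (by decide) (by decide) 0 (by decide))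
  · -- 14=(3,1)
    exact False.elim (cert_false T ((skipEmb 3).trans (Function.Embedding.refl _)) (by norm_num) (fun _ => hall _) (((((LB_zero T ((skipEmb 3).trans (Function.Embedding.refl _))).upd 0 1 1 (le_of_eq hx01)).upd 1 0 1 (le_of_eq hx10)).upd 1 3 3 (le_of_eq hx14)).upd 3 1 1 (le_of_eq hx41)) ![1,2,0,1] (by decide) (by decide) 0 (by decide))

theorem case420 (T : NumericalType 5) (hall : ∀ i, T.IsMinusTwo i) (d : SData T)
    (h01 : N T (Function.Embedding.refl _) 0 1 = 1) (h10 : N T (Function.Embedding.refl _) 1 0 = 1)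
    (h02 : N T (Function.Embedding.refl _) 0 2 = 1) (h20 : N T (Function.Embedding.refl _) 2 0 = 1)
    (h12 : N T (Function.Embedding.refl _) 1 2 = 0) (h21 : N T (Function.Embedding.refl _) 2 1 = 0)
    (h03 : N T (Function.Embedding.refl _) 0 3 = 0) (h30 : N T (Function.Embedding.refl _) 3 0 = 0)
    (h13 : N T (Function.Embedding.refl _) 1 3 = 0) (h31 : N T (Function.Embedding.refl _) 3 1 = 0)
    (h23 : N T (Function.Embedding.refl _) 2 3 = 0) (h32 : N T (Function.Embedding.refl _) 3 2 = 0) :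
    Goal T := by
  unfold Goal
  have hd := d
  obtain ⟨x01, x02, x03, x04, x10, x12, x13, x14, x20, x21, x23, x24, x30, x31, x32, x34, x40, x41, x42, x43, hx01, hx02, hx03, hx04, hx10, hx12, hx13, hx14, hx20, hx21, hx23, hx24, hx30, hx31, hx32, hx34, hx40, hx41, hx42, hx43, hw0, hm0, hw1, hm1, hw2, hm2, hw3, hm3, hw4, hm4, a00, a01, a02, a03, a04, a11, a10, a12, a13, a14, a22, a20, a21, a23, a24, a33, a30, a31, a32, a34, a44, a40, a41, a42, a43, wN01, wN02, wN12, wN03, wN13, wN23, wN04, wN14, wN24, wN34, e0, e1, e2, e3, e4, d01, d02, d12, d03, d13, d23, d04, d14, d24, d34⟩ := d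
  obtain rfl : x01 = 1 := hx01.trans h01
  obtain rfl : x10 = 1 := hx10.trans h10
  obtain rfl : x02 = 1 := hx02.trans h02
  obtain rfl : x20 = 1 := hx20.trans h20
  obtain rfl : x12 = 0 := hx12.trans h12
  obtain rfl : x21 = 0 := hx21.trans h21
  obtain rfl : x03 = 0 := hx03.trans h03
  obtain rfl : x30 = 0 := hx30.trans h30
  obtain rfl : x13 = 0 := hx13.trans h13
  obtain rfl : x31 = 0 := hx31.trans h31
  obtain rfl : x23 = 0 := hx23.trans h23
  obtain rfl : x32 = 0 := hx32.trans h32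
  rcases d04 with ⟨rfl, rfl⟩ | ⟨rfl, rfl⟩ | ⟨rfl, rfl⟩ | ⟨rfl, rfl⟩ | ⟨rfl, rfl⟩ | ⟨rfl, rfl⟩
  · -- 04=(0,0)
    exact case421 T hall hd hx01.symm hx10.symm hx02.symm hx20.symm hx12.symm hx21.symm hx03.symm hx30.symm hx13.symm hx31.symm hx23.symm hx32.symm hx04.symm hx40.symm
  · -- 04=(1,1)
    rcases d14 with ⟨rfl, rfl⟩ | ⟨rfl, rfl⟩ | ⟨rfl, rfl⟩ | ⟨rfl, rfl⟩ | ⟨rfl, rfl⟩ | ⟨rfl, rfl⟩
    · -- 14=(0,0)
      rcases d24 with ⟨rfl, rfl⟩ | ⟨rfl, rfl⟩ | ⟨rfl, rfl⟩ | ⟨rfl, rfl⟩ | ⟨rfl, rfl⟩ | ⟨rfl, rfl⟩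
      · -- 24=(0,0)
        rcases d34 with ⟨rfl, rfl⟩ | ⟨rfl, rfl⟩ | ⟨rfl, rfl⟩ | ⟨rfl, rfl⟩ | ⟨rfl, rfl⟩ | ⟨rfl, rfl⟩
        · -- 34=(0,0)
          exfalso; omega
        · -- 34=(1,1)
          exfalso; omega
        · -- 34=(1,2)
          refine ⟨(⟨![3, 4, 0, 1, 2], ![2, 3, 4, 0, 1], by decide, by decide⟩ : Equiv.Perm (Fin 5)), T.m 3, T.w 4, Or.inr (Or.inr (Or.inr (Or.inr (Or.inr (Or.inr (Or.inr (Or.inl ?_)))))))⟩
          show T.m 3 = T.m 3 ∧ T.m 4 = 2 * T.m 3 ∧ T.m 0 = 2 * T.m 3 ∧ T.m 1 = T.m 3 ∧ T.m 2 = T.m 3 ∧ T.w 3 = 2 * T.w 4 ∧ T.w 4 = T.w 4 ∧ T.w 0 = T.w 4 ∧ T.w 1 = T.w 4 ∧ T.w 2 = T.w 4 ∧ T.a 3 3 = -4 * T.w 4 ∧ T.a 3 4 = 2 * T.w 4 ∧ T.a 3 0 = 0 ∧ T.a 3 1 = 0 ∧ T.a 3 2 = 0 ∧ T.a 4 4 = -2 * T.w 4 ∧ T.a 4 0 = T.w 4 ∧ T.a 4 1 = 0 ∧ T.a 4 2 = 0 ∧ T.a 0 0 = -2 * T.w 4 ∧ T.a 0 1 = T.w 4 ∧ T.a 0 2 = T.w 4 ∧ T.a 1 1 = -2 * T.w 4 ∧ T.a 1 2 = 0 ∧ T.a 2 2 = -2 * T.w 4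
          refine ⟨?_, ?_, ?_, ?_, ?_, ?_, ?_, ?_, ?_, ?_, ?_, ?_, ?_, ?_, ?_, ?_, ?_, ?_, ?_, ?_, ?_, ?_, ?_, ?_, ?_⟩ <;> omega
        · -- 34=(2,1)
          refine ⟨(⟨![3, 4, 0, 1, 2], ![2, 3, 4, 0, 1], by decide, by decide⟩ : Equiv.Perm (Fin 5)), T.m 1, T.w 3, Or.inr (Or.inr (Or.inr (Or.inr (Or.inr (Or.inr (Or.inr (Or.inr (?_))))))))⟩
          show T.m 3 = 2 * T.m 1 ∧ T.m 4 = 2 * T.m 1 ∧ T.m 0 = 2 * T.m 1 ∧ T.m 1 = T.m 1 ∧ T.m 2 = T.m 1 ∧ T.w 3 = T.w 3 ∧ T.w 4 = 2 * T.w 3 ∧ T.w 0 = 2 * T.w 3 ∧ T.w 1 = 2 * T.w 3 ∧ T.w 2 = 2 * T.w 3 ∧ T.a 3 3 = -2 * T.w 3 ∧ T.a 3 4 = 2 * T.w 3 ∧ T.a 3 0 = 0 ∧ T.a 3 1 = 0 ∧ T.a 3 2 = 0 ∧ T.a 4 4 = -4 * T.w 3 ∧ T.a 4 0 = 2 * T.w 3 ∧ T.a 4 1 = 0 ∧ T.a 4 2 = 0 ∧ T.a 0 0 = -4 * T.w 3 ∧ T.a 0 1 = 2 * T.w 3 ∧ T.a 0 2 = 2 * T.w 3 ∧ T.a 1 1 = -4 * T.w 3 ∧ T.a 1 2 = 0 ∧ T.a 2 2 = -4 * T.w 3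
          refine ⟨?_, ?_, ?_, ?_, ?_, ?_, ?_, ?_, ?_, ?_, ?_, ?_, ?_, ?_, ?_, ?_, ?_, ?_, ?_, ?_, ?_, ?_, ?_, ?_, ?_⟩ <;> omega
        · -- 34=(1,3)
          exact False.elim (cert_false T ((skipEmb 2).trans (Function.Embedding.refl _)) (by norm_num) (fun _ => hall _) (((((LB_zero T ((skipEmb 2).trans (Function.Embedding.refl _))).upd 0 3 1 (le_of_eq hx04)).upd 2 3 1 (le_of_eq hx34)).upd 3 0 1 (le_of_eq hx40)).upd 3 2 3 (le_of_eq hx43)) ![1,0,1,2] (by decide) (by decide) 0 (by decide))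
        · -- 34=(3,1)
          exact False.elim (cert_false T ((skipEmb 2).trans (Function.Embedding.refl _)) (by norm_num) (fun _ => hall _) (((((LB_zero T ((skipEmb 2).trans (Function.Embedding.refl _))).upd 0 3 1 (le_of_eq hx04)).upd 2 3 3 (le_of_eq hx34)).upd 3 0 1 (le_of_eq hx40)).upd 3 2 1 (le_of_eq hx43)) ![1,0,3,2] (by decide) (by decide) 0 (by decide))
      · -- 24=(1,1)
        exact False.elim (cert_false T ((skipEmb 3).trans (Function.Embedding.refl _)) (by norm_num) (fun _ => hall _) (((((((LB_zero T ((skipEmb 3).trans (Function.Embedding.refl _))).upd 0 2 1 (le_of_eq hx02)).upd 0 3 1 (le_of_eq hx04)).upd 2 0 1 (le_of_eq hx20)).upd 2 3 1 (le_of_eq hx24)).upd 3 0 1 (le_of_eq hx40)).upd 3 2 1 (le_of_eq hx42)) ![1,0,1,1] (by decide) (by decide) 0 (by decide))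
      · -- 24=(1,2)
        exact False.elim (cert_false T ((skipEmb 3).trans (Function.Embedding.refl _)) (by norm_num) (fun _ => hall _) (((((((LB_zero T ((skipEmb 3).trans (Function.Embedding.refl _))).upd 0 2 1 (le_of_eq hx02)).upd 0 3 1 (le_of_eq hx04)).upd 2 0 1 (le_of_eq hx20)).upd 2 3 1 (le_of_eq hx24)).upd 3 0 1 (le_of_eq hx40)).upd 3 2 2 (le_of_eq hx42)) ![1,0,1,1] (by decide) (by decide) 0 (by decide))
      · -- 24=(2,1)
        exact False.elim (cert_false T ((skipEmb 3).trans (Function.Embedding.refl _)) (by norm_num) (fun _ => hall _) (((((((LB_zero T ((skipEmb 3).trans (Function.Embedding.refl _))).upd 0 2 1 (le_of_eq hx02)).upd 0 3 1 (le_of_eq hx04)).upd 2 0 1 (le_of_eq hx20)).upd 2 3 2 (le_of_eq hx24)).upd 3 0 1 (le_of_eq hx40)).upd 3 2 1 (le_of_eq hx42)) ![1,0,1,1] (by decide) (by decide) 0 (by decide))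
      · -- 24=(1,3)
        exact False.elim (cert_false T ((skipEmb 3).trans (Function.Embedding.refl _)) (by norm_num) (fun _ => hall _) (((((((LB_zero T ((skipEmb 3).trans (Function.Embedding.refl _))).upd 0 2 1 (le_of_eq hx02)).upd 0 3 1 (le_of_eq hx04)).upd 2 0 1 (le_of_eq hx20)).upd 2 3 1 (le_of_eq hx24)).upd 3 0 1 (le_of_eq hx40)).upd 3 2 3 (le_of_eq hx42)) ![1,0,1,1] (by decide) (by decide) 0 (by decide))
      · -- 24=(3,1)
        exact False.elim (cert_false T ((skipEmb 3).trans (Function.Embedding.refl _)) (by norm_num) (fun _ => hall _) (((((((LB_zero T ((skipEmb 3).trans (Function.Embedding.refl _))).upd 0 2 1 (le_of_eq hx02)).upd 0 3 1 (le_of_eq hx04)).upd 2 0 1 (le_of_eq hx20)).upd 2 3 3 (le_of_eq hx24)).upd 3 0 1 (le_of_eq hx40)).upd 3 2 1 (le_of_eq hx42)) ![1,0,1,1] (by decide) (by decide) 0 (by decide))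
    · -- 14=(1,1)
      exact False.elim (cert_false T ((skipEmb 3).trans (Function.Embedding.refl _)) (by norm_num) (fun _ => hall _) (((((((LB_zero T ((skipEmb 3).trans (Function.Embedding.refl _))).upd 0 1 1 (le_of_eq hx01)).upd 0 3 1 (le_of_eq hx04)).upd 1 0 1 (le_of_eq hx10)).upd 1 3 1 (le_of_eq hx14)).upd 3 0 1 (le_of_eq hx40)).upd 3 1 1 (le_of_eq hx41)) ![1,1,0,1] (by decide) (by decide) 0 (by decide))
    · -- 14=(1,2)
      exact False.elim (cert_false T ((skipEmb 3).trans (Function.Embedding.refl _)) (by norm_num) (fun _ => hall _) (((((((LB_zero T ((skipEmb 3).trans (Function.Embedding.refl _))).upd 0 1 1 (le_of_eq hx01)).upd 0 3 1 (le_of_eq hx04)).upd 1 0 1 (le_of_eq hx10)).upd 1 3 1 (le_of_eq hx14)).upd 3 0 1 (le_of_eq hx40)).upd 3 1 2 (le_of_eq hx41)) ![1,1,0,1] (by decide) (by decide) 0 (by decide))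
    · -- 14=(2,1)
      exact False.elim (cert_false T ((skipEmb 3).trans (Function.Embedding.refl _)) (by norm_num) (fun _ => hall _) (((((((LB_zero T ((skipEmb 3).trans (Function.Embedding.refl _))).upd 0 1 1 (le_of_eq hx01)).upd 0 3 1 (le_of_eq hx04)).upd 1 0 1 (le_of_eq hx10)).upd 1 3 2 (le_of_eq hx14)).upd 3 0 1 (le_of_eq hx40)).upd 3 1 1 (le_of_eq hx41)) ![1,1,0,1] (by decide) (by decide) 0 (by decide))
    · -- 14=(1,3)
      exact False.elim (cert_false T ((skipEmb 3).trans (Function.Embedding.refl _)) (by norm_num) (fun _ => hall _) (((((((LB_zero T ((skipEmb 3).trans (Function.Embedding.refl _))).upd 0 1 1 (le_of_eq hx01)).upd 0 3 1 (le_of_eq hx04)).upd 1 0 1 (le_of_eq hx10)).upd 1 3 1 (le_of_eq hx14)).upd 3 0 1 (le_of_eq hx40)).upd 3 1 3 (le_of_eq hx41)) ![1,1,0,1] (by decide) (by decide) 0 (by decide))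
    · -- 14=(3,1)
      exact False.elim (cert_false T ((skipEmb 3).trans (Function.Embedding.refl _)) (by norm_num) (fun _ => hall _) (((((((LB_zero T ((skipEmb 3).trans (Function.Embedding.refl _))).upd 0 1 1 (le_of_eq hx01)).upd 0 3 1 (le_of_eq hx04)).upd 1 0 1 (le_of_eq hx10)).upd 1 3 3 (le_of_eq hx14)).upd 3 0 1 (le_of_eq hx40)).upd 3 1 1 (le_of_eq hx41)) ![1,1,0,1] (by decide) (by decide) 0 (by decide))
  · -- 04=(1,2)
    exact False.elim (cert_false T ((skipEmb 3).trans (Function.Embedding.refl _)) (by norm_num) (fun _ => hall _) (((((((LB_zero T ((skipEmb 3).trans (Function.Embedding.refl _))).upd 0 1 1 (le_of_eq hx01)).upd 0 2 1 (le_of_eq hx02)).upd 0 3 1 (le_of_eq hx04)).upd 1 0 1 (le_of_eq hx10)).upd 2 0 1 (le_of_eq hx20)).upd 3 0 2 (le_of_eq hx40)) ![2,1,1,2] (by decide) (by decide) 0 (by decide))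
  · -- 04=(2,1)
    exact False.elim (cert_false T ((skipEmb 3).trans (Function.Embedding.refl _)) (by norm_num) (fun _ => hall _) (((((((LB_zero T ((skipEmb 3).trans (Function.Embedding.refl _))).upd 0 1 1 (le_of_eq hx01)).upd 0 2 1 (le_of_eq hx02)).upd 0 3 2 (le_of_eq hx04)).upd 1 0 1 (le_of_eq hx10)).upd 2 0 1 (le_of_eq hx20)).upd 3 0 1 (le_of_eq hx40)) ![2,1,1,1] (by decide) (by decide) 0 (by decide))
  · -- 04=(1,3)
    exact False.elim (cert_false T ((skipEmb 3).trans (Function.Embedding.refl _)) (by norm_num) (fun _ => hall _) (((((((LB_zero T ((skipEmb 3).trans (Function.Embedding.refl _))).upd 0 1 1 (le_of_eq hx01)).upd 0 2 1 (le_of_eq hx02)).upd 0 3 1 (le_of_eq hx04)).upd 1 0 1 (le_of_eq hx10)).upd 2 0 1 (le_of_eq hx20)).upd 3 0 3 (le_of_eq hx40)) ![2,1,1,2] (by decide) (by decide) 0 (by decide))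
  · -- 04=(3,1)
    exact False.elim (cert_false T ((skipEmb 3).trans (Function.Embedding.refl _)) (by norm_num) (fun _ => hall _) (((((LB_zero T ((skipEmb 3).trans (Function.Embedding.refl _))).upd 0 2 1 (le_of_eq hx02)).upd 0 3 3 (le_of_eq hx04)).upd 2 0 1 (le_of_eq hx20)).upd 3 0 1 (le_of_eq hx40)) ![2,0,1,1] (by decide) (by decide) 0 (by decide))

theorem case423 (T : NumericalType 5) (hall : ∀ i, T.IsMinusTwo i) (d : SData T)
    (h01 : N T (Function.Embedding.refl _) 0 1 = 1) (h10 : N T (Function.Embedding.refl _) 1 0 = 1)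
    (h02 : N T (Function.Embedding.refl _) 0 2 = 1) (h20 : N T (Function.Embedding.refl _) 2 0 = 1)
    (h12 : N T (Function.Embedding.refl _) 1 2 = 0) (h21 : N T (Function.Embedding.refl _) 2 1 = 0)
    (h03 : N T (Function.Embedding.refl _) 0 3 = 0) (h30 : N T (Function.Embedding.refl _) 3 0 = 0)
    (h13 : N T (Function.Embedding.refl _) 1 3 = 0) (h31 : N T (Function.Embedding.refl _) 3 1 = 0)
    (h23 : N T (Function.Embedding.refl _) 2 3 = 1) (h32 : N T (Function.Embedding.refl _) 3 2 = 1)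
    (h04 : N T (Function.Embedding.refl _) 0 4 = 0) (h40 : N T (Function.Embedding.refl _) 4 0 = 0) :
    Goal T := by
  unfold Goal
  have hd := d
  obtain ⟨x01, x02, x03, x04, x10, x12, x13, x14, x20, x21, x23, x24, x30, x31, x32, x34, x40, x41, x42, x43, hx01, hx02, hx03, hx04, hx10, hx12, hx13, hx14, hx20, hx21, hx23, hx24, hx30, hx31, hx32, hx34, hx40, hx41, hx42, hx43, hw0, hm0, hw1, hm1, hw2, hm2, hw3, hm3, hw4, hm4, a00, a01, a02, a03, a04, a11, a10, a12, a13, a14, a22, a20, a21, a23, a24, a33, a30, a31, a32, a34, a44, a40, a41, a42, a43, wN01, wN02, wN12, wN03, wN13, wN23, wN04, wN14, wN24, wN34, e0, e1, e2, e3, e4, d01, d02, d12, d03, d13, d23, d04, d14, d24, d34⟩ := d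
  obtain rfl : x01 = 1 := hx01.trans h01
  obtain rfl : x10 = 1 := hx10.trans h10
  obtain rfl : x02 = 1 := hx02.trans h02
  obtain rfl : x20 = 1 := hx20.trans h20
  obtain rfl : x12 = 0 := hx12.trans h12
  obtain rfl : x21 = 0 := hx21.trans h21
  obtain rfl : x03 = 0 := hx03.trans h03
  obtain rfl : x30 = 0 := hx30.trans h30
  obtain rfl : x13 = 0 := hx13.trans h13
  obtain rfl : x31 = 0 := hx31.trans h31
  obtain rfl : x23 = 1 := hx23.trans h23
  obtain rfl : x32 = 1 := hx32.trans h32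
  obtain rfl : x04 = 0 := hx04.trans h04
  obtain rfl : x40 = 0 := hx40.trans h40
  rcases d14 with ⟨rfl, rfl⟩ | ⟨rfl, rfl⟩ | ⟨rfl, rfl⟩ | ⟨rfl, rfl⟩ | ⟨rfl, rfl⟩ | ⟨rfl, rfl⟩
  · -- 14=(0,0)
    rcases d24 with ⟨rfl, rfl⟩ | ⟨rfl, rfl⟩ | ⟨rfl, rfl⟩ | ⟨rfl, rfl⟩ | ⟨rfl, rfl⟩ | ⟨rfl, rfl⟩
    · -- 24=(0,0)
      rcases d34 with ⟨rfl, rfl⟩ | ⟨rfl, rfl⟩ | ⟨rfl, rfl⟩ | ⟨rfl, rfl⟩ | ⟨rfl, rfl⟩ | ⟨rfl, rfl⟩
      · -- 34=(0,0)
        exfalso; omega
      · -- 34=(1,1)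
        exfalso; omega
      · -- 34=(1,2)
        exfalso; omega
      · -- 34=(2,1)
        exfalso; omega
      · -- 34=(1,3)
        exact False.elim (cert_false T ((skipEmb 1).trans (Function.Embedding.refl _)) (by norm_num) (fun _ => hall _) (((((LB_zero T ((skipEmb 1).trans (Function.Embedding.refl _))).upd 1 2 1 (le_of_eq hx23)).upd 2 1 1 (le_of_eq hx32)).upd 2 3 1 (le_of_eq hx34)).upd 3 2 3 (le_of_eq hx43)) ![0,1,2,3] (by decide) (by decide) 1 (by decide))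
      · -- 34=(3,1)
        exact False.elim (cert_false T ((skipEmb 1).trans (Function.Embedding.refl _)) (by norm_num) (fun _ => hall _) (((((LB_zero T ((skipEmb 1).trans (Function.Embedding.refl _))).upd 1 2 1 (le_of_eq hx23)).upd 2 1 1 (le_of_eq hx32)).upd 2 3 3 (le_of_eq hx34)).upd 3 2 1 (le_of_eq hx43)) ![0,1,2,1] (by decide) (by decide) 1 (by decide))
    · -- 24=(1,1)
      rcases d34 with ⟨rfl, rfl⟩ | ⟨rfl, rfl⟩ | ⟨rfl, rfl⟩ | ⟨rfl, rfl⟩ | ⟨rfl, rfl⟩ | ⟨rfl, rfl⟩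
      · -- 34=(0,0)
        exfalso; omega
      · -- 34=(1,1)
        exact False.elim (cert_false T ((skipEmb 1).trans (Function.Embedding.refl _)) (by norm_num) (fun _ => hall _) (((((((LB_zero T ((skipEmb 1).trans (Function.Embedding.refl _))).upd 1 2 1 (le_of_eq hx23)).upd 1 3 1 (le_of_eq hx24)).upd 2 1 1 (le_of_eq hx32)).upd 2 3 1 (le_of_eq hx34)).upd 3 1 1 (le_of_eq hx42)).upd 3 2 1 (le_of_eq hx43)) ![0,1,1,1] (by decide) (by decide) 1 (by decide))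
      · -- 34=(1,2)
        exact False.elim (cert_false T ((skipEmb 1).trans (Function.Embedding.refl _)) (by norm_num) (fun _ => hall _) (((((((LB_zero T ((skipEmb 1).trans (Function.Embedding.refl _))).upd 1 2 1 (le_of_eq hx23)).upd 1 3 1 (le_of_eq hx24)).upd 2 1 1 (le_of_eq hx32)).upd 2 3 1 (le_of_eq hx34)).upd 3 1 1 (le_of_eq hx42)).upd 3 2 2 (le_of_eq hx43)) ![0,1,1,1] (by decide) (by decide) 1 (by decide))
      · -- 34=(2,1)
        exact False.elim (cert_false T ((skipEmb 1).trans (Function.Embedding.refl _)) (by norm_num) (fun _ => hall _) (((((((LB_zero T ((skipEmb 1).trans (Function.Embedding.refl _))).upd 1 2 1 (le_of_eq hx23)).upd 1 3 1 (le_of_eq hx24)).upd 2 1 1 (le_of_eq hx32)).upd 2 3 2 (le_of_eq hx34)).upd 3 1 1 (le_of_eq hx42)).upd 3 2 1 (le_of_eq hx43)) ![0,1,1,1] (by decide) (by decide) 1 (by decide))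
      · -- 34=(1,3)
        exact False.elim (cert_false T ((skipEmb 1).trans (Function.Embedding.refl _)) (by norm_num) (fun _ => hall _) (((((((LB_zero T ((skipEmb 1).trans (Function.Embedding.refl _))).upd 1 2 1 (le_of_eq hx23)).upd 1 3 1 (le_of_eq hx24)).upd 2 1 1 (le_of_eq hx32)).upd 2 3 1 (le_of_eq hx34)).upd 3 1 1 (le_of_eq hx42)).upd 3 2 3 (le_of_eq hx43)) ![0,1,1,1] (by decide) (by decide) 1 (by decide))
      · -- 34=(3,1)
        exact False.elim (cert_false T ((skipEmb 1).trans (Function.Embedding.refl _)) (by norm_num) (fun _ => hall _) (((((((LB_zero T ((skipEmb 1).trans (Function.Embedding.refl _))).upd 1 2 1 (le_of_eq hx23)).upd 1 3 1 (le_of_eq hx24)).upd 2 1 1 (le_of_eq hx32)).upd 2 3 3 (le_of_eq hx34)).upd 3 1 1 (le_of_eq hx42)).upd 3 2 1 (le_of_eq hx43)) ![0,1,1,1] (by decide) (by decide) 1 (by decide))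
    · -- 24=(1,2)
      exact False.elim (cert_false T ((skipEmb 1).trans (Function.Embedding.refl _)) (by norm_num) (fun _ => hall _) (((((((LB_zero T ((skipEmb 1).trans (Function.Embedding.refl _))).upd 0 1 1 (le_of_eq hx02)).upd 1 0 1 (le_of_eq hx20)).upd 1 2 1 (le_of_eq hx23)).upd 1 3 1 (le_of_eq hx24)).upd 2 1 1 (le_of_eq hx32)).upd 3 1 2 (le_of_eq hx42)) ![1,2,1,2] (by decide) (by decide) 0 (by decide))
    · -- 24=(2,1)
      exact False.elim (cert_false T ((skipEmb 1).trans (Function.Embedding.refl _)) (by norm_num) (fun _ => hall _) (((((((LB_zero T ((skipEmb 1).trans (Function.Embedding.refl _))).upd 0 1 1 (le_of_eq hx02)).upd 1 0 1 (le_of_eq hx20)).upd 1 2 1 (le_of_eq hx23)).upd 1 3 2 (le_of_eq hx24)).upd 2 1 1 (le_of_eq hx32)).upd 3 1 1 (le_of_eq hx42)) ![1,2,1,1] (by decide) (by decide) 0 (by decide))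
    · -- 24=(1,3)
      exact False.elim (cert_false T ((skipEmb 3).trans (Function.Embedding.refl _)) (by norm_num) (fun _ => hall _) (((((LB_zero T ((skipEmb 3).trans (Function.Embedding.refl _))).upd 0 2 1 (le_of_eq hx02)).upd 2 0 1 (le_of_eq hx20)).upd 2 3 1 (le_of_eq hx24)).upd 3 2 3 (le_of_eq hx42)) ![1,0,2,3] (by decide) (by decide) 0 (by decide))
    · -- 24=(3,1)
      exact False.elim (cert_false T ((skipEmb 3).trans (Function.Embedding.refl _)) (by norm_num) (fun _ => hall _) (((((LB_zero T ((skipEmb 3).trans (Function.Embedding.refl _))).upd 0 2 1 (le_of_eq hx02)).upd 2 0 1 (le_of_eq hx20)).upd 2 3 3 (le_of_eq hx24)).upd 3 2 1 (le_of_eq hx42)) ![1,0,2,1] (by decide) (by decide) 0 (by decide))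
  · -- 14=(1,1)
    rcases d24 with ⟨rfl, rfl⟩ | ⟨rfl, rfl⟩ | ⟨rfl, rfl⟩ | ⟨rfl, rfl⟩ | ⟨rfl, rfl⟩ | ⟨rfl, rfl⟩
    · -- 24=(0,0)
      rcases d34 with ⟨rfl, rfl⟩ | ⟨rfl, rfl⟩ | ⟨rfl, rfl⟩ | ⟨rfl, rfl⟩ | ⟨rfl, rfl⟩ | ⟨rfl, rfl⟩
      · -- 34=(0,0)
        exfalso; omega
      · -- 34=(1,1)
        refine ⟨(⟨![0, 1, 4, 3, 2], ![0, 1, 4, 3, 2], by decide, by decide⟩ : Equiv.Perm (Fin 5)), T.m 0, T.w 0, Or.inl ?_⟩
        show T.m 0 = T.m 0 ∧ T.m 1 = T.m 0 ∧ T.m 4 = T.m 0 ∧ T.m 3 = T.m 0 ∧ T.m 2 = T.m 0 ∧ T.w 0 = T.w 0 ∧ T.w 1 = T.w 0 ∧ T.w 4 = T.w 0 ∧ T.w 3 = T.w 0 ∧ T.w 2 = T.w 0 ∧ T.a 0 0 = -2 * T.w 0 ∧ T.a 0 1 = T.w 0 ∧ T.a 0 4 = 0 ∧ T.a 0 3 = 0 ∧ T.a 0 2 = T.w 0 ∧ T.a 1 1 = -2 * T.w 0 ∧ T.a 1 4 = T.w 0 ∧ T.a 1 3 = 0 ∧ T.a 1 2 = 0 ∧ T.a 4 4 = -2 * T.w 0 ∧ T.a 4 3 = T.w 0 ∧ T.a 4 2 = 0 ∧ T.a 3 3 = -2 * T.w 0 ∧ T.a 3 2 = T.w 0 ∧ T.a 2 2 = -2 * T.w 0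
        refine ⟨?_, ?_, ?_, ?_, ?_, ?_, ?_, ?_, ?_, ?_, ?_, ?_, ?_, ?_, ?_, ?_, ?_, ?_, ?_, ?_, ?_, ?_, ?_, ?_, ?_⟩ <;> omega
      · -- 34=(1,2)
        exfalso; omega
      · -- 34=(2,1)
        exfalso; omega
      · -- 34=(1,3)
        exact False.elim (cert_false T ((skipEmb 2).trans (Function.Embedding.refl _)) (by norm_num) (fun _ => hall _) (((((LB_zero T ((skipEmb 2).trans (Function.Embedding.refl _))).upd 1 3 1 (le_of_eq hx14)).upd 2 3 1 (le_of_eq hx34)).upd 3 1 1 (le_of_eq hx41)).upd 3 2 3 (le_of_eq hx43)) ![0,1,1,2] (by decide) (by decide) 1 (by decide))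
      · -- 34=(3,1)
        exact False.elim (cert_false T ((skipEmb 2).trans (Function.Embedding.refl _)) (by norm_num) (fun _ => hall _) (((((LB_zero T ((skipEmb 2).trans (Function.Embedding.refl _))).upd 1 3 1 (le_of_eq hx14)).upd 2 3 3 (le_of_eq hx34)).upd 3 1 1 (le_of_eq hx41)).upd 3 2 1 (le_of_eq hx43)) ![0,1,3,2] (by decide) (by decide) 1 (by decide))
    · -- 24=(1,1)
      exact False.elim (cert_false T ((skipEmb 3).trans (Function.Embedding.refl _)) (by norm_num) (fun _ => hall _) (((((((((LB_zero T ((skipEmb 3).trans (Function.Embedding.refl _))).upd 0 1 1 (le_of_eq hx01)).upd 0 2 1 (le_of_eq hx02)).upd 1 0 1 (le_of_eq hx10)).upd 1 3 1 (le_of_eq hx14)).upd 2 0 1 (le_of_eq hx20)).upd 2 3 1 (le_of_eq hx24)).upd 3 1 1 (le_of_eq hx41)).upd 3 2 1 (le_of_eq hx42)) ![1,1,1,1] (by decide) (by decide) 0 (by decide))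
    · -- 24=(1,2)
      exact False.elim (cert_false T ((skipEmb 3).trans (Function.Embedding.refl _)) (by norm_num) (fun _ => hall _) (((((((((LB_zero T ((skipEmb 3).trans (Function.Embedding.refl _))).upd 0 1 1 (le_of_eq hx01)).upd 0 2 1 (le_of_eq hx02)).upd 1 0 1 (le_of_eq hx10)).upd 1 3 1 (le_of_eq hx14)).upd 2 0 1 (le_of_eq hx20)).upd 2 3 1 (le_of_eq hx24)).upd 3 1 1 (le_of_eq hx41)).upd 3 2 2 (le_of_eq hx42)) ![1,1,1,1] (by decide) (by decide) 0 (by decide))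
    · -- 24=(2,1)
      exact False.elim (cert_false T ((skipEmb 3).trans (Function.Embedding.refl _)) (by norm_num) (fun _ => hall _) (((((((((LB_zero T ((skipEmb 3).trans (Function.Embedding.refl _))).upd 0 1 1 (le_of_eq hx01)).upd 0 2 1 (le_of_eq hx02)).upd 1 0 1 (le_of_eq hx10)).upd 1 3 1 (le_of_eq hx14)).upd 2 0 1 (le_of_eq hx20)).upd 2 3 2 (le_of_eq hx24)).upd 3 1 1 (le_of_eq hx41)).upd 3 2 1 (le_of_eq hx42)) ![1,1,1,1] (by decide) (by decide) 0 (by decide))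
    · -- 24=(1,3)
      exact False.elim (cert_false T ((skipEmb 3).trans (Function.Embedding.refl _)) (by norm_num) (fun _ => hall _) (((((((((LB_zero T ((skipEmb 3).trans (Function.Embedding.refl _))).upd 0 1 1 (le_of_eq hx01)).upd 0 2 1 (le_of_eq hx02)).upd 1 0 1 (le_of_eq hx10)).upd 1 3 1 (le_of_eq hx14)).upd 2 0 1 (le_of_eq hx20)).upd 2 3 1 (le_of_eq hx24)).upd 3 1 1 (le_of_eq hx41)).upd 3 2 3 (le_of_eq hx42)) ![1,1,1,1] (by decide) (by decide) 0 (by decide))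
    · -- 24=(3,1)
      exact False.elim (cert_false T ((skipEmb 3).trans (Function.Embedding.refl _)) (by norm_num) (fun _ => hall _) (((((((((LB_zero T ((skipEmb 3).trans (Function.Embedding.refl _))).upd 0 1 1 (le_of_eq hx01)).upd 0 2 1 (le_of_eq hx02)).upd 1 0 1 (le_of_eq hx10)).upd 1 3 1 (le_of_eq hx14)).upd 2 0 1 (le_of_eq hx20)).upd 2 3 3 (le_of_eq hx24)).upd 3 1 1 (le_of_eq hx41)).upd 3 2 1 (le_of_eq hx42)) ![1,1,1,1] (by decide) (by decide) 0 (by decide))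
  · -- 14=(1,2)
    rcases d24 with ⟨rfl, rfl⟩ | ⟨rfl, rfl⟩ | ⟨rfl, rfl⟩ | ⟨rfl, rfl⟩ | ⟨rfl, rfl⟩ | ⟨rfl, rfl⟩
    · -- 24=(0,0)
      rcases d34 with ⟨rfl, rfl⟩ | ⟨rfl, rfl⟩ | ⟨rfl, rfl⟩ | ⟨rfl, rfl⟩ | ⟨rfl, rfl⟩ | ⟨rfl, rfl⟩
      · -- 34=(0,0)
        exfalso; omega
      · -- 34=(1,1)
        exfalso; omega
      · -- 34=(1,2)
        exact False.elim (cert_false T ((skipEmb 2).trans (Function.Embedding.refl _)) (by norm_num) (fun _ => hall _) (((((LB_zero T ((skipEmb 2).trans (Function.Embedding.refl _))).upd 1 3 1 (le_of_eq hx14)).upd 2 3 1 (le_of_eq hx34)).upd 3 1 2 (le_of_eq hx41)).upd 3 2 2 (le_of_eq hx43)) ![0,1,1,2] (by decide) (by decide) 1 (by decide))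
      · -- 34=(2,1)
        exact False.elim (cert_false T ((skipEmb 2).trans (Function.Embedding.refl _)) (by norm_num) (fun _ => hall _) (((((LB_zero T ((skipEmb 2).trans (Function.Embedding.refl _))).upd 1 3 1 (le_of_eq hx14)).upd 2 3 2 (le_of_eq hx34)).upd 3 1 2 (le_of_eq hx41)).upd 3 2 1 (le_of_eq hx43)) ![0,1,2,2] (by decide) (by decide) 1 (by decide))
      · -- 34=(1,3)
        exact False.elim (cert_false T ((skipEmb 2).trans (Function.Embedding.refl _)) (by norm_num) (fun _ => hall _) (((((LB_zero T ((skipEmb 2).trans (Function.Embedding.refl _))).upd 1 3 1 (le_of_eq hx14)).upd 2 3 1 (le_of_eq hx34)).upd 3 1 2 (le_of_eq hx41)).upd 3 2 3 (le_of_eq hx43)) ![0,1,1,2] (by decide) (by decide) 1 (by decide))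
      · -- 34=(3,1)
        exact False.elim (cert_false T ((skipEmb 2).trans (Function.Embedding.refl _)) (by norm_num) (fun _ => hall _) (((((LB_zero T ((skipEmb 2).trans (Function.Embedding.refl _))).upd 1 3 1 (le_of_eq hx14)).upd 2 3 3 (le_of_eq hx34)).upd 3 1 2 (le_of_eq hx41)).upd 3 2 1 (le_of_eq hx43)) ![0,1,2,2] (by decide) (by decide) 1 (by decide))
    · -- 24=(1,1)
      exact False.elim (cert_false T ((skipEmb 3).trans (Function.Embedding.refl _)) (by norm_num) (fun _ => hall _) (((((((((LB_zero T ((skipEmb 3).trans (Function.Embedding.refl _))).upd 0 1 1 (le_of_eq hx01)).upd 0 2 1 (le_of_eq hx02)).upd 1 0 1 (le_of_eq hx10)).upd 1 3 1 (le_of_eq hx14)).upd 2 0 1 (le_of_eq hx20)).upd 2 3 1 (le_of_eq hx24)).upd 3 1 2 (le_of_eq hx41)).upd 3 2 1 (le_of_eq hx42)) ![1,1,1,1] (by decide) (by decide) 0 (by decide))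
    · -- 24=(1,2)
      exact False.elim (cert_false T ((skipEmb 3).trans (Function.Embedding.refl _)) (by norm_num) (fun _ => hall _) (((((((((LB_zero T ((skipEmb 3).trans (Function.Embedding.refl _))).upd 0 1 1 (le_of_eq hx01)).upd 0 2 1 (le_of_eq hx02)).upd 1 0 1 (le_of_eq hx10)).upd 1 3 1 (le_of_eq hx14)).upd 2 0 1 (le_of_eq hx20)).upd 2 3 1 (le_of_eq hx24)).upd 3 1 2 (le_of_eq hx41)).upd 3 2 2 (le_of_eq hx42)) ![1,1,1,1] (by decide) (by decide) 0 (by decide))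
    · -- 24=(2,1)
      exact False.elim (cert_false T ((skipEmb 3).trans (Function.Embedding.refl _)) (by norm_num) (fun _ => hall _) (((((((((LB_zero T ((skipEmb 3).trans (Function.Embedding.refl _))).upd 0 1 1 (le_of_eq hx01)).upd 0 2 1 (le_of_eq hx02)).upd 1 0 1 (le_of_eq hx10)).upd 1 3 1 (le_of_eq hx14)).upd 2 0 1 (le_of_eq hx20)).upd 2 3 2 (le_of_eq hx24)).upd 3 1 2 (le_of_eq hx41)).upd 3 2 1 (le_of_eq hx42)) ![1,1,1,1] (by decide) (by decide) 0 (by decide))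
    · -- 24=(1,3)
      exact False.elim (cert_false T ((skipEmb 3).trans (Function.Embedding.refl _)) (by norm_num) (fun _ => hall _) (((((((((LB_zero T ((skipEmb 3).trans (Function.Embedding.refl _))).upd 0 1 1 (le_of_eq hx01)).upd 0 2 1 (le_of_eq hx02)).upd 1 0 1 (le_of_eq hx10)).upd 1 3 1 (le_of_eq hx14)).upd 2 0 1 (le_of_eq hx20)).upd 2 3 1 (le_of_eq hx24)).upd 3 1 2 (le_of_eq hx41)).upd 3 2 3 (le_of_eq hx42)) ![1,1,1,1] (by decide) (by decide) 0 (by decide))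
    · -- 24=(3,1)
      exact False.elim (cert_false T ((skipEmb 3).trans (Function.Embedding.refl _)) (by norm_num) (fun _ => hall _) (((((((((LB_zero T ((skipEmb 3).trans (Function.Embedding.refl _))).upd 0 1 1 (le_of_eq hx01)).upd 0 2 1 (le_of_eq hx02)).upd 1 0 1 (le_of_eq hx10)).upd 1 3 1 (le_of_eq hx14)).upd 2 0 1 (le_of_eq hx20)).upd 2 3 3 (le_of_eq hx24)).upd 3 1 2 (le_of_eq hx41)).upd 3 2 1 (le_of_eq hx42)) ![1,1,1,1] (by decide) (by decide) 0 (by decide))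
  · -- 14=(2,1)
    rcases d24 with ⟨rfl, rfl⟩ | ⟨rfl, rfl⟩ | ⟨rfl, rfl⟩ | ⟨rfl, rfl⟩ | ⟨rfl, rfl⟩ | ⟨rfl, rfl⟩
    · -- 24=(0,0)
      rcases d34 with ⟨rfl, rfl⟩ | ⟨rfl, rfl⟩ | ⟨rfl, rfl⟩ | ⟨rfl, rfl⟩ | ⟨rfl, rfl⟩ | ⟨rfl, rfl⟩
      · -- 34=(0,0)
        exfalso; omega
      · -- 34=(1,1)
        exfalso; omega
      · -- 34=(1,2)
        exact False.elim (cert_false T ((skipEmb 2).trans (Function.Embedding.refl _)) (by norm_num) (fun _ => hall _) (((((LB_zero T ((skipEmb 2).trans (Function.Embedding.refl _))).upd 1 3 2 (le_of_eq hx14)).upd 2 3 1 (le_of_eq hx34)).upd 3 1 1 (le_of_eq hx41)).upd 3 2 2 (le_of_eq hx43)) ![0,2,1,2] (by decide) (by decide) 1 (by decide))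
      · -- 34=(2,1)
        exact False.elim (cert_false T ((skipEmb 2).trans (Function.Embedding.refl _)) (by norm_num) (fun _ => hall _) (((((LB_zero T ((skipEmb 2).trans (Function.Embedding.refl _))).upd 1 3 2 (le_of_eq hx14)).upd 2 3 2 (le_of_eq hx34)).upd 3 1 1 (le_of_eq hx41)).upd 3 2 1 (le_of_eq hx43)) ![0,1,1,1] (by decide) (by decide) 1 (by decide))
      · -- 34=(1,3)
        exact False.elim (cert_false T ((skipEmb 2).trans (Function.Embedding.refl _)) (by norm_num) (fun _ => hall _) (((((LB_zero T ((skipEmb 2).trans (Function.Embedding.refl _))).upd 1 3 2 (le_of_eq hx14)).upd 2 3 1 (le_of_eq hx34)).upd 3 1 1 (le_of_eq hx41)).upd 3 2 3 (le_of_eq hx43)) ![0,1,1,2] (by decide) (by decide) 1 (by decide))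
      · -- 34=(3,1)
        exact False.elim (cert_false T ((skipEmb 2).trans (Function.Embedding.refl _)) (by norm_num) (fun _ => hall _) (((((LB_zero T ((skipEmb 2).trans (Function.Embedding.refl _))).upd 1 3 2 (le_of_eq hx14)).upd 2 3 3 (le_of_eq hx34)).upd 3 1 1 (le_of_eq hx41)).upd 3 2 1 (le_of_eq hx43)) ![0,1,1,1] (by decide) (by decide) 1 (by decide))
    · -- 24=(1,1)
      exact False.elim (cert_false T ((skipEmb 3).trans (Function.Embedding.refl _)) (by norm_num) (fun _ => hall _) (((((((((LB_zero T ((skipEmb 3).trans (Function.Embedding.refl _))).upd 0 1 1 (le_of_eq hx01)).upd 0 2 1 (le_of_eq hx02)).upd 1 0 1 (le_of_eq hx10)).upd 1 3 2 (le_of_eq hx14)).upd 2 0 1 (le_of_eq hx20)).upd 2 3 1 (le_of_eq hx24)).upd 3 1 1 (le_of_eq hx41)).upd 3 2 1 (le_of_eq hx42)) ![1,1,1,1] (by decide) (by decide) 0 (by decide))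
    · -- 24=(1,2)
      exact False.elim (cert_false T ((skipEmb 3).trans (Function.Embedding.refl _)) (by norm_num) (fun _ => hall _) (((((((((LB_zero T ((skipEmb 3).trans (Function.Embedding.refl _))).upd 0 1 1 (le_of_eq hx01)).upd 0 2 1 (le_of_eq hx02)).upd 1 0 1 (le_of_eq hx10)).upd 1 3 2 (le_of_eq hx14)).upd 2 0 1 (le_of_eq hx20)).upd 2 3 1 (le_of_eq hx24)).upd 3 1 1 (le_of_eq hx41)).upd 3 2 2 (le_of_eq hx42)) ![1,1,1,1] (by decide) (by decide) 0 (by decide))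
    · -- 24=(2,1)
      exact False.elim (cert_false T ((skipEmb 3).trans (Function.Embedding.refl _)) (by norm_num) (fun _ => hall _) (((((LB_zero T ((skipEmb 3).trans (Function.Embedding.refl _))).upd 1 3 2 (le_of_eq hx14)).upd 2 3 2 (le_of_eq hx24)).upd 3 1 1 (le_of_eq hx41)).upd 3 2 1 (le_of_eq hx42)) ![0,1,1,1] (by decide) (by decide) 1 (by decide))
    · -- 24=(1,3)
      exact False.elim (cert_false T ((skipEmb 3).trans (Function.Embedding.refl _)) (by norm_num) (fun _ => hall _) (((((((((LB_zero T ((skipEmb 3).trans (Function.Embedding.refl _))).upd 0 1 1 (le_of_eq hx01)).upd 0 2 1 (le_of_eq hx02)).upd 1 0 1 (le_of_eq hx10)).upd 1 3 2 (le_of_eq hx14)).upd 2 0 1 (le_of_eq hx20)).upd 2 3 1 (le_of_eq hx24)).upd 3 1 1 (le_of_eq hx41)).upd 3 2 3 (le_of_eq hx42)) ![1,1,1,1] (by decide) (by decide) 0 (by decide))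
    · -- 24=(3,1)
      exact False.elim (cert_false T ((skipEmb 3).trans (Function.Embedding.refl _)) (by norm_num) (fun _ => hall _) (((((LB_zero T ((skipEmb 3).trans (Function.Embedding.refl _))).upd 1 3 2 (le_of_eq hx14)).upd 2 3 3 (le_of_eq hx24)).upd 3 1 1 (le_of_eq hx41)).upd 3 2 1 (le_of_eq hx42)) ![0,1,1,1] (by decide) (by decide) 1 (by decide))
  · -- 14=(1,3)
    exact False.elim (cert_false T ((skipEmb 3).trans (Function.Embedding.refl _)) (by norm_num) (fun _ => hall _) (((((LB_zero T ((skipEmb 3).trans (Function.Embedding.refl _))).upd 0 1 1 (le_of_eq hx01)).upd 1 0 1 (le_of_eq hx10)).upd 1 3 1 (le_of_eq hx14)).upd 3 1 3 (le_of_eq hx41)) ![1,2,0,3] (by decide) (by decide) 0 (by decide))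
  · -- 14=(3,1)
    exact False.elim (cert_false T ((skipEmb 3).trans (Function.Embedding.refl _)) (by norm_num) (fun _ => hall _) (((((LB_zero T ((skipEmb 3).trans (Function.Embedding.refl _))).upd 0 1 1 (le_of_eq hx01)).upd 1 0 1 (le_of_eq hx10)).upd 1 3 3 (le_of_eq hx14)).upd 3 1 1 (le_of_eq hx41)) ![1,2,0,1] (by decide) (by decide) 0 (by decide))

theorem case422 (T : NumericalType 5) (hall : ∀ i, T.IsMinusTwo i) (d : SData T)
    (h01 : N T (Function.Embedding.refl _) 0 1 = 1) (h10 : N T (Function.Embedding.refl _) 1 0 = 1)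
    (h02 : N T (Function.Embedding.refl _) 0 2 = 1) (h20 : N T (Function.Embedding.refl _) 2 0 = 1)
    (h12 : N T (Function.Embedding.refl _) 1 2 = 0) (h21 : N T (Function.Embedding.refl _) 2 1 = 0)
    (h03 : N T (Function.Embedding.refl _) 0 3 = 0) (h30 : N T (Function.Embedding.refl _) 3 0 = 0)
    (h13 : N T (Function.Embedding.refl _) 1 3 = 0) (h31 : N T (Function.Embedding.refl _) 3 1 = 0)
    (h23 : N T (Function.Embedding.refl _) 2 3 = 1) (h32 : N T (Function.Embedding.refl _) 3 2 = 1) :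
    Goal T := by
  unfold Goal
  have hd := d
  obtain ⟨x01, x02, x03, x04, x10, x12, x13, x14, x20, x21, x23, x24, x30, x31, x32, x34, x40, x41, x42, x43, hx01, hx02, hx03, hx04, hx10, hx12, hx13, hx14, hx20, hx21, hx23, hx24, hx30, hx31, hx32, hx34, hx40, hx41, hx42, hx43, hw0, hm0, hw1, hm1, hw2, hm2, hw3, hm3, hw4, hm4, a00, a01, a02, a03, a04, a11, a10, a12, a13, a14, a22, a20, a21, a23, a24, a33, a30, a31, a32, a34, a44, a40, a41, a42, a43, wN01, wN02, wN12, wN03, wN13, wN23, wN04, wN14, wN24, wN34, e0, e1, e2, e3, e4, d01, d02, d12, d03, d13, d23, d04, d14, d24, d34⟩ := d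
  obtain rfl : x01 = 1 := hx01.trans h01
  obtain rfl : x10 = 1 := hx10.trans h10
  obtain rfl : x02 = 1 := hx02.trans h02
  obtain rfl : x20 = 1 := hx20.trans h20
  obtain rfl : x12 = 0 := hx12.trans h12
  obtain rfl : x21 = 0 := hx21.trans h21
  obtain rfl : x03 = 0 := hx03.trans h03
  obtain rfl : x30 = 0 := hx30.trans h30
  obtain rfl : x13 = 0 := hx13.trans h13
  obtain rfl : x31 = 0 := hx31.trans h31
  obtain rfl : x23 = 1 := hx23.trans h23
  obtain rfl : x32 = 1 := hx32.trans h32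
  rcases d04 with ⟨rfl, rfl⟩ | ⟨rfl, rfl⟩ | ⟨rfl, rfl⟩ | ⟨rfl, rfl⟩ | ⟨rfl, rfl⟩ | ⟨rfl, rfl⟩
  · -- 04=(0,0)
    exact case423 T hall hd hx01.symm hx10.symm hx02.symm hx20.symm hx12.symm hx21.symm hx03.symm hx30.symm hx13.symm hx31.symm hx23.symm hx32.symm hx04.symm hx40.symm
  · -- 04=(1,1)
    rcases d14 with ⟨rfl, rfl⟩ | ⟨rfl, rfl⟩ | ⟨rfl, rfl⟩ | ⟨rfl, rfl⟩ | ⟨rfl, rfl⟩ | ⟨rfl, rfl⟩
    · -- 14=(0,0)
      rcases d24 with ⟨rfl, rfl⟩ | ⟨rfl, rfl⟩ | ⟨rfl, rfl⟩ | ⟨rfl, rfl⟩ | ⟨rfl, rfl⟩ | ⟨rfl, rfl⟩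
      · -- 24=(0,0)
        rcases d34 with ⟨rfl, rfl⟩ | ⟨rfl, rfl⟩ | ⟨rfl, rfl⟩ | ⟨rfl, rfl⟩ | ⟨rfl, rfl⟩ | ⟨rfl, rfl⟩
        · -- 34=(0,0)
          exfalso; omega
        · -- 34=(1,1)
          exact False.elim (cert_false T ((skipEmb 1).trans (Function.Embedding.refl _)) (by norm_num) (fun _ => hall _) (((((((((LB_zero T ((skipEmb 1).trans (Function.Embedding.refl _))).upd 0 1 1 (le_of_eq hx02)).upd 0 3 1 (le_of_eq hx04)).upd 1 0 1 (le_of_eq hx20)).upd 1 2 1 (le_of_eq hx23)).upd 2 1 1 (le_of_eq hx32)).upd 2 3 1 (le_of_eq hx34)).upd 3 0 1 (le_of_eq hx40)).upd 3 2 1 (le_of_eq hx43)) ![1,1,1,1] (by decide) (by decide) 0 (by decide))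
        · -- 34=(1,2)
          exact False.elim (cert_false T ((skipEmb 1).trans (Function.Embedding.refl _)) (by norm_num) (fun _ => hall _) (((((((((LB_zero T ((skipEmb 1).trans (Function.Embedding.refl _))).upd 0 1 1 (le_of_eq hx02)).upd 0 3 1 (le_of_eq hx04)).upd 1 0 1 (le_of_eq hx20)).upd 1 2 1 (le_of_eq hx23)).upd 2 1 1 (le_of_eq hx32)).upd 2 3 1 (le_of_eq hx34)).upd 3 0 1 (le_of_eq hx40)).upd 3 2 2 (le_of_eq hx43)) ![1,1,1,1] (by decide) (by decide) 0 (by decide))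
        · -- 34=(2,1)
          exact False.elim (cert_false T ((skipEmb 1).trans (Function.Embedding.refl _)) (by norm_num) (fun _ => hall _) (((((((((LB_zero T ((skipEmb 1).trans (Function.Embedding.refl _))).upd 0 1 1 (le_of_eq hx02)).upd 0 3 1 (le_of_eq hx04)).upd 1 0 1 (le_of_eq hx20)).upd 1 2 1 (le_of_eq hx23)).upd 2 1 1 (le_of_eq hx32)).upd 2 3 2 (le_of_eq hx34)).upd 3 0 1 (le_of_eq hx40)).upd 3 2 1 (le_of_eq hx43)) ![1,1,1,1] (by decide) (by decide) 0 (by decide))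
        · -- 34=(1,3)
          exact False.elim (cert_false T ((skipEmb 2).trans (Function.Embedding.refl _)) (by norm_num) (fun _ => hall _) (((((LB_zero T ((skipEmb 2).trans (Function.Embedding.refl _))).upd 0 3 1 (le_of_eq hx04)).upd 2 3 1 (le_of_eq hx34)).upd 3 0 1 (le_of_eq hx40)).upd 3 2 3 (le_of_eq hx43)) ![1,0,1,2] (by decide) (by decide) 0 (by decide))
        · -- 34=(3,1)
          exact False.elim (cert_false T ((skipEmb 2).trans (Function.Embedding.refl _)) (by norm_num) (fun _ => hall _) (((((LB_zero T ((skipEmb 2).trans (Function.Embedding.refl _))).upd 0 3 1 (le_of_eq hx04)).upd 2 3 3 (le_of_eq hx34)).upd 3 0 1 (le_of_eq hx40)).upd 3 2 1 (le_of_eq hx43)) ![1,0,3,2] (by decide) (by decide) 0 (by decide))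
      · -- 24=(1,1)
        exact False.elim (cert_false T ((skipEmb 3).trans (Function.Embedding.refl _)) (by norm_num) (fun _ => hall _) (((((((LB_zero T ((skipEmb 3).trans (Function.Embedding.refl _))).upd 0 2 1 (le_of_eq hx02)).upd 0 3 1 (le_of_eq hx04)).upd 2 0 1 (le_of_eq hx20)).upd 2 3 1 (le_of_eq hx24)).upd 3 0 1 (le_of_eq hx40)).upd 3 2 1 (le_of_eq hx42)) ![1,0,1,1] (by decide) (by decide) 0 (by decide))
      · -- 24=(1,2)
        exact False.elim (cert_false T ((skipEmb 3).trans (Function.Embedding.refl _)) (by norm_num) (fun _ => hall _) (((((((LB_zero T ((skipEmb 3).trans (Function.Embedding.refl _))).upd 0 2 1 (le_of_eq hx02)).upd 0 3 1 (le_of_eq hx04)).upd 2 0 1 (le_of_eq hx20)).upd 2 3 1 (le_of_eq hx24)).upd 3 0 1 (le_of_eq hx40)).upd 3 2 2 (le_of_eq hx42)) ![1,0,1,1] (by decide) (by decide) 0 (by decide))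
      · -- 24=(2,1)
        exact False.elim (cert_false T ((skipEmb 3).trans (Function.Embedding.refl _)) (by norm_num) (fun _ => hall _) (((((((LB_zero T ((skipEmb 3).trans (Function.Embedding.refl _))).upd 0 2 1 (le_of_eq hx02)).upd 0 3 1 (le_of_eq hx04)).upd 2 0 1 (le_of_eq hx20)).upd 2 3 2 (le_of_eq hx24)).upd 3 0 1 (le_of_eq hx40)).upd 3 2 1 (le_of_eq hx42)) ![1,0,1,1] (by decide) (by decide) 0 (by decide))
      · -- 24=(1,3)
        exact False.elim (cert_false T ((skipEmb 3).trans (Function.Embedding.refl _)) (by norm_num) (fun _ => hall _) (((((((LB_zero T ((skipEmb 3).trans (Function.Embedding.refl _))).upd 0 2 1 (le_of_eq hx02)).upd 0 3 1 (le_of_eq hx04)).upd 2 0 1 (le_of_eq hx20)).upd 2 3 1 (le_of_eq hx24)).upd 3 0 1 (le_of_eq hx40)).upd 3 2 3 (le_of_eq hx42)) ![1,0,1,1] (by decide) (by decide) 0 (by decide))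
      · -- 24=(3,1)
        exact False.elim (cert_false T ((skipEmb 3).trans (Function.Embedding.refl _)) (by norm_num) (fun _ => hall _) (((((((LB_zero T ((skipEmb 3).trans (Function.Embedding.refl _))).upd 0 2 1 (le_of_eq hx02)).upd 0 3 1 (le_of_eq hx04)).upd 2 0 1 (le_of_eq hx20)).upd 2 3 3 (le_of_eq hx24)).upd 3 0 1 (le_of_eq hx40)).upd 3 2 1 (le_of_eq hx42)) ![1,0,1,1] (by decide) (by decide) 0 (by decide))
    · -- 14=(1,1)
      exact False.elim (cert_false T ((skipEmb 3).trans (Function.Embedding.refl _)) (by norm_num) (fun _ => hall _) (((((((LB_zero T ((skipEmb 3).trans (Function.Embedding.refl _))).upd 0 1 1 (le_of_eq hx01)).upd 0 3 1 (le_of_eq hx04)).upd 1 0 1 (le_of_eq hx10)).upd 1 3 1 (le_of_eq hx14)).upd 3 0 1 (le_of_eq hx40)).upd 3 1 1 (le_of_eq hx41)) ![1,1,0,1] (by decide) (by decide) 0 (by decide))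
    · -- 14=(1,2)
      exact False.elim (cert_false T ((skipEmb 3).trans (Function.Embedding.refl _)) (by norm_num) (fun _ => hall _) (((((((LB_zero T ((skipEmb 3).trans (Function.Embedding.refl _))).upd 0 1 1 (le_of_eq hx01)).upd 0 3 1 (le_of_eq hx04)).upd 1 0 1 (le_of_eq hx10)).upd 1 3 1 (le_of_eq hx14)).upd 3 0 1 (le_of_eq hx40)).upd 3 1 2 (le_of_eq hx41)) ![1,1,0,1] (by decide) (by decide) 0 (by decide))
    · -- 14=(2,1)
      exact False.elim (cert_false T ((skipEmb 3).trans (Function.Embedding.refl _)) (by norm_num) (fun _ => hall _) (((((((LB_zero T ((skipEmb 3).trans (Function.Embedding.refl _))).upd 0 1 1 (le_of_eq hx01)).upd 0 3 1 (le_of_eq hx04)).upd 1 0 1 (le_of_eq hx10)).upd 1 3 2 (le_of_eq hx14)).upd 3 0 1 (le_of_eq hx40)).upd 3 1 1 (le_of_eq hx41)) ![1,1,0,1] (by decide) (by decide) 0 (by decide))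
    · -- 14=(1,3)
      exact False.elim (cert_false T ((skipEmb 3).trans (Function.Embedding.refl _)) (by norm_num) (fun _ => hall _) (((((((LB_zero T ((skipEmb 3).trans (Function.Embedding.refl _))).upd 0 1 1 (le_of_eq hx01)).upd 0 3 1 (le_of_eq hx04)).upd 1 0 1 (le_of_eq hx10)).upd 1 3 1 (le_of_eq hx14)).upd 3 0 1 (le_of_eq hx40)).upd 3 1 3 (le_of_eq hx41)) ![1,1,0,1] (by decide) (by decide) 0 (by decide))
    · -- 14=(3,1)
      exact False.elim (cert_false T ((skipEmb 3).trans (Function.Embedding.refl _)) (by norm_num) (fun _ => hall _) (((((((LB_zero T ((skipEmb 3).trans (Function.Embedding.refl _))).upd 0 1 1 (le_of_eq hx01)).upd 0 3 1 (le_of_eq hx04)).upd 1 0 1 (le_of_eq hx10)).upd 1 3 3 (le_of_eq hx14)).upd 3 0 1 (le_of_eq hx40)).upd 3 1 1 (le_of_eq hx41)) ![1,1,0,1] (by decide) (by decide) 0 (by decide))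
  · -- 04=(1,2)
    exact False.elim (cert_false T ((skipEmb 3).trans (Function.Embedding.refl _)) (by norm_num) (fun _ => hall _) (((((((LB_zero T ((skipEmb 3).trans (Function.Embedding.refl _))).upd 0 1 1 (le_of_eq hx01)).upd 0 2 1 (le_of_eq hx02)).upd 0 3 1 (le_of_eq hx04)).upd 1 0 1 (le_of_eq hx10)).upd 2 0 1 (le_of_eq hx20)).upd 3 0 2 (le_of_eq hx40)) ![2,1,1,2] (by decide) (by decide) 0 (by decide))
  · -- 04=(2,1)
    exact False.elim (cert_false T ((skipEmb 3).trans (Function.Embedding.refl _)) (by norm_num) (fun _ => hall _) (((((((LB_zero T ((skipEmb 3).trans (Function.Embedding.refl _))).upd 0 1 1 (le_of_eq hx01)).upd 0 2 1 (le_of_eq hx02)).upd 0 3 2 (le_of_eq hx04)).upd 1 0 1 (le_of_eq hx10)).upd 2 0 1 (le_of_eq hx20)).upd 3 0 1 (le_of_eq hx40)) ![2,1,1,1] (by decide) (by decide) 0 (by decide))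
  · -- 04=(1,3)
    exact False.elim (cert_false T ((skipEmb 3).trans (Function.Embedding.refl _)) (by norm_num) (fun _ => hall _) (((((((LB_zero T ((skipEmb 3).trans (Function.Embedding.refl _))).upd 0 1 1 (le_of_eq hx01)).upd 0 2 1 (le_of_eq hx02)).upd 0 3 1 (le_of_eq hx04)).upd 1 0 1 (le_of_eq hx10)).upd 2 0 1 (le_of_eq hx20)).upd 3 0 3 (le_of_eq hx40)) ![2,1,1,2] (by decide) (by decide) 0 (by decide))
  · -- 04=(3,1)
    exact False.elim (cert_false T ((skipEmb 3).trans (Function.Embedding.refl _)) (by norm_num) (fun _ => hall _) (((((LB_zero T ((skipEmb 3).trans (Function.Embedding.refl _))).upd 0 2 1 (le_of_eq hx02)).upd 0 3 3 (le_of_eq hx04)).upd 2 0 1 (le_of_eq hx20)).upd 3 0 1 (le_of_eq hx40)) ![2,0,1,1] (by decide) (by decide) 0 (by decide))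

theorem case424 (T : NumericalType 5) (hall : ∀ i, T.IsMinusTwo i) (d : SData T)
    (h01 : N T (Function.Embedding.refl _) 0 1 = 1) (h10 : N T (Function.Embedding.refl _) 1 0 = 1)
    (h02 : N T (Function.Embedding.refl _) 0 2 = 1) (h20 : N T (Function.Embedding.refl _) 2 0 = 1)
    (h12 : N T (Function.Embedding.refl _) 1 2 = 0) (h21 : N T (Function.Embedding.refl _) 2 1 = 0)
    (h03 : N T (Function.Embedding.refl _) 0 3 = 0) (h30 : N T (Function.Embedding.refl _) 3 0 = 0)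
    (h13 : N T (Function.Embedding.refl _) 1 3 = 0) (h31 : N T (Function.Embedding.refl _) 3 1 = 0)
    (h23 : N T (Function.Embedding.refl _) 2 3 = 1) (h32 : N T (Function.Embedding.refl _) 3 2 = 2) :
    Goal T := by
  unfold Goal
  have hd := d
  obtain ⟨x01, x02, x03, x04, x10, x12, x13, x14, x20, x21, x23, x24, x30, x31, x32, x34, x40, x41, x42, x43, hx01, hx02, hx03, hx04, hx10, hx12, hx13, hx14, hx20, hx21, hx23, hx24, hx30, hx31, hx32, hx34, hx40, hx41, hx42, hx43, hw0, hm0, hw1, hm1, hw2, hm2, hw3, hm3, hw4, hm4, a00, a01, a02, a03, a04, a11, a10, a12, a13, a14, a22, a20, a21, a23, a24, a33, a30, a31, a32, a34, a44, a40, a41, a42, a43, wN01, wN02, wN12, wN03, wN13, wN23, wN04, wN14, wN24, wN34, e0, e1, e2, e3, e4, d01, d02, d12, d03, d13, d23, d04, d14, d24, d34⟩ := d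
  obtain rfl : x01 = 1 := hx01.trans h01
  obtain rfl : x10 = 1 := hx10.trans h10
  obtain rfl : x02 = 1 := hx02.trans h02
  obtain rfl : x20 = 1 := hx20.trans h20
  obtain rfl : x12 = 0 := hx12.trans h12
  obtain rfl : x21 = 0 := hx21.trans h21
  obtain rfl : x03 = 0 := hx03.trans h03
  obtain rfl : x30 = 0 := hx30.trans h30
  obtain rfl : x13 = 0 := hx13.trans h13
  obtain rfl : x31 = 0 := hx31.trans h31
  obtain rfl : x23 = 1 := hx23.trans h23
  obtain rfl : x32 = 2 := hx32.trans h32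
  rcases d04 with ⟨rfl, rfl⟩ | ⟨rfl, rfl⟩ | ⟨rfl, rfl⟩ | ⟨rfl, rfl⟩ | ⟨rfl, rfl⟩ | ⟨rfl, rfl⟩
  · -- 04=(0,0)
    rcases d14 with ⟨rfl, rfl⟩ | ⟨rfl, rfl⟩ | ⟨rfl, rfl⟩ | ⟨rfl, rfl⟩ | ⟨rfl, rfl⟩ | ⟨rfl, rfl⟩
    · -- 14=(0,0)
      rcases d24 with ⟨rfl, rfl⟩ | ⟨rfl, rfl⟩ | ⟨rfl, rfl⟩ | ⟨rfl, rfl⟩ | ⟨rfl, rfl⟩ | ⟨rfl, rfl⟩
      · -- 24=(0,0)
        rcases d34 with ⟨rfl, rfl⟩ | ⟨rfl, rfl⟩ | ⟨rfl, rfl⟩ | ⟨rfl, rfl⟩ | ⟨rfl, rfl⟩ | ⟨rfl, rfl⟩
        · -- 34=(0,0)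
          exfalso; omega
        · -- 34=(1,1)
          refine ⟨(⟨![1, 0, 2, 3, 4], ![1, 0, 2, 3, 4], by decide, by decide⟩ : Equiv.Perm (Fin 5)), T.m 1, T.w 3, Or.inr (Or.inr (Or.inl ?_))⟩
          show T.m 1 = T.m 1 ∧ T.m 0 = 2 * T.m 1 ∧ T.m 2 = 3 * T.m 1 ∧ T.m 3 = 4 * T.m 1 ∧ T.m 4 = 2 * T.m 1 ∧ T.w 1 = 2 * T.w 3 ∧ T.w 0 = 2 * T.w 3 ∧ T.w 2 = 2 * T.w 3 ∧ T.w 3 = T.w 3 ∧ T.w 4 = T.w 3 ∧ T.a 1 1 = -4 * T.w 3 ∧ T.a 1 0 = 2 * T.w 3 ∧ T.a 1 2 = 0 ∧ T.a 1 3 = 0 ∧ T.a 1 4 = 0 ∧ T.a 0 0 = -4 * T.w 3 ∧ T.a 0 2 = 2 * T.w 3 ∧ T.a 0 3 = 0 ∧ T.a 0 4 = 0 ∧ T.a 2 2 = -4 * T.w 3 ∧ T.a 2 3 = 2 * T.w 3 ∧ T.a 2 4 = 0 ∧ T.a 3 3 = -2 * T.w 3 ∧ T.a 3 4 = T.w 3 ∧ T.a 4 4 = -2 * T.w 3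
          refine ⟨?_, ?_, ?_, ?_, ?_, ?_, ?_, ?_, ?_, ?_, ?_, ?_, ?_, ?_, ?_, ?_, ?_, ?_, ?_, ?_, ?_, ?_, ?_, ?_, ?_⟩ <;> omega
        · -- 34=(1,2)
          exact False.elim (cert_false T ((skipEmb 1).trans (Function.Embedding.refl _)) (by norm_num) (fun _ => hall _) (((((LB_zero T ((skipEmb 1).trans (Function.Embedding.refl _))).upd 1 2 1 (le_of_eq hx23)).upd 2 1 2 (le_of_eq hx32)).upd 2 3 1 (le_of_eq hx34)).upd 3 2 2 (le_of_eq hx43)) ![0,1,2,2] (by decide) (by decide) 1 (by decide))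
        · -- 34=(2,1)
          exact False.elim (cert_false T ((skipEmb 1).trans (Function.Embedding.refl _)) (by norm_num) (fun _ => hall _) (((((LB_zero T ((skipEmb 1).trans (Function.Embedding.refl _))).upd 1 2 1 (le_of_eq hx23)).upd 2 1 2 (le_of_eq hx32)).upd 2 3 2 (le_of_eq hx34)).upd 3 2 1 (le_of_eq hx43)) ![0,1,2,1] (by decide) (by decide) 1 (by decide))
        · -- 34=(1,3)
          exact False.elim (cert_false T ((skipEmb 1).trans (Function.Embedding.refl _)) (by norm_num) (fun _ => hall _) (((((LB_zero T ((skipEmb 1).trans (Function.Embedding.refl _))).upd 1 2 1 (le_of_eq hx23)).upd 2 1 2 (le_of_eq hx32)).upd 2 3 1 (le_of_eq hx34)).upd 3 2 3 (le_of_eq hx43)) ![0,1,2,2] (by decide) (by decide) 1 (by decide))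
        · -- 34=(3,1)
          exact False.elim (cert_false T ((skipEmb 1).trans (Function.Embedding.refl _)) (by norm_num) (fun _ => hall _) (((((LB_zero T ((skipEmb 1).trans (Function.Embedding.refl _))).upd 1 2 1 (le_of_eq hx23)).upd 2 1 2 (le_of_eq hx32)).upd 2 3 3 (le_of_eq hx34)).upd 3 2 1 (le_of_eq hx43)) ![0,1,2,1] (by decide) (by decide) 1 (by decide))
      · -- 24=(1,1)
        exact False.elim (cert_false T ((skipEmb 1).trans (Function.Embedding.refl _)) (by norm_num) (fun _ => hall _) (((((((LB_zero T ((skipEmb 1).trans (Function.Embedding.refl _))).upd 0 1 1 (le_of_eq hx02)).upd 1 0 1 (le_of_eq hx20)).upd 1 2 1 (le_of_eq hx23)).upd 1 3 1 (le_of_eq hx24)).upd 2 1 2 (le_of_eq hx32)).upd 3 1 1 (le_of_eq hx42)) ![1,2,2,1] (by decide) (by decide) 0 (by decide))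
      · -- 24=(1,2)
        exact False.elim (cert_false T ((skipEmb 1).trans (Function.Embedding.refl _)) (by norm_num) (fun _ => hall _) (((((LB_zero T ((skipEmb 1).trans (Function.Embedding.refl _))).upd 1 2 1 (le_of_eq hx23)).upd 1 3 1 (le_of_eq hx24)).upd 2 1 2 (le_of_eq hx32)).upd 3 1 2 (le_of_eq hx42)) ![0,1,1,1] (by decide) (by decide) 1 (by decide))
      · -- 24=(2,1)
        exact False.elim (cert_false T ((skipEmb 1).trans (Function.Embedding.refl _)) (by norm_num) (fun _ => hall _) (((((LB_zero T ((skipEmb 1).trans (Function.Embedding.refl _))).upd 1 2 1 (le_of_eq hx23)).upd 1 3 2 (le_of_eq hx24)).upd 2 1 2 (le_of_eq hx32)).upd 3 1 1 (le_of_eq hx42)) ![0,2,2,1] (by decide) (by decide) 1 (by decide))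
      · -- 24=(1,3)
        exact False.elim (cert_false T ((skipEmb 3).trans (Function.Embedding.refl _)) (by norm_num) (fun _ => hall _) (((((LB_zero T ((skipEmb 3).trans (Function.Embedding.refl _))).upd 0 2 1 (le_of_eq hx02)).upd 2 0 1 (le_of_eq hx20)).upd 2 3 1 (le_of_eq hx24)).upd 3 2 3 (le_of_eq hx42)) ![1,0,2,3] (by decide) (by decide) 0 (by decide))
      · -- 24=(3,1)
        exact False.elim (cert_false T ((skipEmb 3).trans (Function.Embedding.refl _)) (by norm_num) (fun _ => hall _) (((((LB_zero T ((skipEmb 3).trans (Function.Embedding.refl _))).upd 0 2 1 (le_of_eq hx02)).upd 2 0 1 (le_of_eq hx20)).upd 2 3 3 (le_of_eq hx24)).upd 3 2 1 (le_of_eq hx42)) ![1,0,2,1] (by decide) (by decide) 0 (by decide))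
    · -- 14=(1,1)
      rcases d24 with ⟨rfl, rfl⟩ | ⟨rfl, rfl⟩ | ⟨rfl, rfl⟩ | ⟨rfl, rfl⟩ | ⟨rfl, rfl⟩ | ⟨rfl, rfl⟩
      · -- 24=(0,0)
        rcases d34 with ⟨rfl, rfl⟩ | ⟨rfl, rfl⟩ | ⟨rfl, rfl⟩ | ⟨rfl, rfl⟩ | ⟨rfl, rfl⟩ | ⟨rfl, rfl⟩
        · -- 34=(0,0)
          exfalso; omega
        · -- 34=(1,1)
          exfalso; omega
        · -- 34=(1,2)
          exact False.elim (cert_false T ((skipEmb 1).trans (Function.Embedding.refl _)) (by norm_num) (fun _ => hall _) (((((LB_zero T ((skipEmb 1).trans (Function.Embedding.refl _))).upd 1 2 1 (le_of_eq hx23)).upd 2 1 2 (le_of_eq hx32)).upd 2 3 1 (le_of_eq hx34)).upd 3 2 2 (le_of_eq hx43)) ![0,1,2,2] (by decide) (by decide) 1 (by decide))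
        · -- 34=(2,1)
          exact False.elim (cert_false T ((skipEmb 1).trans (Function.Embedding.refl _)) (by norm_num) (fun _ => hall _) (((((LB_zero T ((skipEmb 1).trans (Function.Embedding.refl _))).upd 1 2 1 (le_of_eq hx23)).upd 2 1 2 (le_of_eq hx32)).upd 2 3 2 (le_of_eq hx34)).upd 3 2 1 (le_of_eq hx43)) ![0,1,2,1] (by decide) (by decide) 1 (by decide))
        · -- 34=(1,3)
          exact False.elim (cert_false T ((skipEmb 2).trans (Function.Embedding.refl _)) (by norm_num) (fun _ => hall _) (((((LB_zero T ((skipEmb 2).trans (Function.Embedding.refl _))).upd 1 3 1 (le_of_eq hx14)).upd 2 3 1 (le_of_eq hx34)).upd 3 1 1 (le_of_eq hx41)).upd 3 2 3 (le_of_eq hx43)) ![0,1,1,2] (by decide) (by decide) 1 (by decide))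
        · -- 34=(3,1)
          exact False.elim (cert_false T ((skipEmb 2).trans (Function.Embedding.refl _)) (by norm_num) (fun _ => hall _) (((((LB_zero T ((skipEmb 2).trans (Function.Embedding.refl _))).upd 1 3 1 (le_of_eq hx14)).upd 2 3 3 (le_of_eq hx34)).upd 3 1 1 (le_of_eq hx41)).upd 3 2 1 (le_of_eq hx43)) ![0,1,3,2] (by decide) (by decide) 1 (by decide))
      · -- 24=(1,1)
        exact False.elim (cert_false T ((skipEmb 3).trans (Function.Embedding.refl _)) (by norm_num) (fun _ => hall _) (((((((((LB_zero T ((skipEmb 3).trans (Function.Embedding.refl _))).upd 0 1 1 (le_of_eq hx01)).upd 0 2 1 (le_of_eq hx02)).upd 1 0 1 (le_of_eq hx10)).upd 1 3 1 (le_of_eq hx14)).upd 2 0 1 (le_of_eq hx20)).upd 2 3 1 (le_of_eq hx24)).upd 3 1 1 (le_of_eq hx41)).upd 3 2 1 (le_of_eq hx42)) ![1,1,1,1] (by decide) (by decide) 0 (by decide))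
      · -- 24=(1,2)
        exact False.elim (cert_false T ((skipEmb 3).trans (Function.Embedding.refl _)) (by norm_num) (fun _ => hall _) (((((((((LB_zero T ((skipEmb 3).trans (Function.Embedding.refl _))).upd 0 1 1 (le_of_eq hx01)).upd 0 2 1 (le_of_eq hx02)).upd 1 0 1 (le_of_eq hx10)).upd 1 3 1 (le_of_eq hx14)).upd 2 0 1 (le_of_eq hx20)).upd 2 3 1 (le_of_eq hx24)).upd 3 1 1 (le_of_eq hx41)).upd 3 2 2 (le_of_eq hx42)) ![1,1,1,1] (by decide) (by decide) 0 (by decide))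
      · -- 24=(2,1)
        exact False.elim (cert_false T ((skipEmb 3).trans (Function.Embedding.refl _)) (by norm_num) (fun _ => hall _) (((((((((LB_zero T ((skipEmb 3).trans (Function.Embedding.refl _))).upd 0 1 1 (le_of_eq hx01)).upd 0 2 1 (le_of_eq hx02)).upd 1 0 1 (le_of_eq hx10)).upd 1 3 1 (le_of_eq hx14)).upd 2 0 1 (le_of_eq hx20)).upd 2 3 2 (le_of_eq hx24)).upd 3 1 1 (le_of_eq hx41)).upd 3 2 1 (le_of_eq hx42)) ![1,1,1,1] (by decide) (by decide) 0 (by decide))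
      · -- 24=(1,3)
        exact False.elim (cert_false T ((skipEmb 3).trans (Function.Embedding.refl _)) (by norm_num) (fun _ => hall _) (((((((((LB_zero T ((skipEmb 3).trans (Function.Embedding.refl _))).upd 0 1 1 (le_of_eq hx01)).upd 0 2 1 (le_of_eq hx02)).upd 1 0 1 (le_of_eq hx10)).upd 1 3 1 (le_of_eq hx14)).upd 2 0 1 (le_of_eq hx20)).upd 2 3 1 (le_of_eq hx24)).upd 3 1 1 (le_of_eq hx41)).upd 3 2 3 (le_of_eq hx42)) ![1,1,1,1] (by decide) (by decide) 0 (by decide))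
      · -- 24=(3,1)
        exact False.elim (cert_false T ((skipEmb 3).trans (Function.Embedding.refl _)) (by norm_num) (fun _ => hall _) (((((((((LB_zero T ((skipEmb 3).trans (Function.Embedding.refl _))).upd 0 1 1 (le_of_eq hx01)).upd 0 2 1 (le_of_eq hx02)).upd 1 0 1 (le_of_eq hx10)).upd 1 3 1 (le_of_eq hx14)).upd 2 0 1 (le_of_eq hx20)).upd 2 3 3 (le_of_eq hx24)).upd 3 1 1 (le_of_eq hx41)).upd 3 2 1 (le_of_eq hx42)) ![1,1,1,1] (by decide) (by decide) 0 (by decide))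
    · -- 14=(1,2)
      rcases d24 with ⟨rfl, rfl⟩ | ⟨rfl, rfl⟩ | ⟨rfl, rfl⟩ | ⟨rfl, rfl⟩ | ⟨rfl, rfl⟩ | ⟨rfl, rfl⟩
      · -- 24=(0,0)
        rcases d34 with ⟨rfl, rfl⟩ | ⟨rfl, rfl⟩ | ⟨rfl, rfl⟩ | ⟨rfl, rfl⟩ | ⟨rfl, rfl⟩ | ⟨rfl, rfl⟩
        · -- 34=(0,0)
          refine ⟨(⟨![3, 2, 0, 1, 4], ![2, 3, 1, 0, 4], by decide, by decide⟩ : Equiv.Perm (Fin 5)), T.m 3, T.w 3, Or.inr (Or.inr (Or.inr (Or.inr (Or.inl ?_))))⟩
          show T.m 3 = T.m 3 ∧ T.m 2 = T.m 3 ∧ T.m 0 = T.m 3 ∧ T.m 1 = T.m 3 ∧ T.m 4 = T.m 3 ∧ T.w 3 = T.w 3 ∧ T.w 2 = 2 * T.w 3 ∧ T.w 0 = 2 * T.w 3 ∧ T.w 1 = 2 * T.w 3 ∧ T.w 4 = T.w 3 ∧ T.a 3 3 = -2 * T.w 3 ∧ T.a 3 2 = 2 * T.w 3 ∧ T.a 3 0 = 0 ∧ T.a 3 1 = 0 ∧ T.a 3 4 = 0 ∧ T.a 2 2 = -4 * T.w 3 ∧ T.a 2 0 = 2 * T.w 3 ∧ T.a 2 1 = 0 ∧ T.a 2 4 = 0 ∧ T.a 0 0 = -4 * T.w 3 ∧ T.a 0 1 = 2 * T.w 3 ∧ T.a 0 4 = 0 ∧ T.a 1 1 = -4 * T.w 3 ∧ T.a 1 4 = 2 * T.w 3 ∧ T.a 4 4 = -2 * T.w 3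
          refine ⟨?_, ?_, ?_, ?_, ?_, ?_, ?_, ?_, ?_, ?_, ?_, ?_, ?_, ?_, ?_, ?_, ?_, ?_, ?_, ?_, ?_, ?_, ?_, ?_, ?_⟩ <;> omega
        · -- 34=(1,1)
          exact False.elim (cert_false T ((skipEmb 0).trans (Function.Embedding.refl _)) (by norm_num) (fun _ => hall _) (((((((LB_zero T ((skipEmb 0).trans (Function.Embedding.refl _))).upd 0 3 1 (le_of_eq hx14)).upd 1 2 1 (le_of_eq hx23)).upd 2 1 2 (le_of_eq hx32)).upd 2 3 1 (le_of_eq hx34)).upd 3 0 2 (le_of_eq hx41)).upd 3 2 1 (le_of_eq hx43)) ![1,1,2,2] (by decide) (by decide) 0 (by decide))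
        · -- 34=(1,2)
          exact False.elim (cert_false T ((skipEmb 2).trans (Function.Embedding.refl _)) (by norm_num) (fun _ => hall _) (((((LB_zero T ((skipEmb 2).trans (Function.Embedding.refl _))).upd 1 3 1 (le_of_eq hx14)).upd 2 3 1 (le_of_eq hx34)).upd 3 1 2 (le_of_eq hx41)).upd 3 2 2 (le_of_eq hx43)) ![0,1,1,2] (by decide) (by decide) 1 (by decide))
        · -- 34=(2,1)
          exact False.elim (cert_false T ((skipEmb 2).trans (Function.Embedding.refl _)) (by norm_num) (fun _ => hall _) (((((LB_zero T ((skipEmb 2).trans (Function.Embedding.refl _))).upd 1 3 1 (le_of_eq hx14)).upd 2 3 2 (le_of_eq hx34)).upd 3 1 2 (le_of_eq hx41)).upd 3 2 1 (le_of_eq hx43)) ![0,1,2,2] (by decide) (by decide) 1 (by decide))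
        · -- 34=(1,3)
          exact False.elim (cert_false T ((skipEmb 2).trans (Function.Embedding.refl _)) (by norm_num) (fun _ => hall _) (((((LB_zero T ((skipEmb 2).trans (Function.Embedding.refl _))).upd 1 3 1 (le_of_eq hx14)).upd 2 3 1 (le_of_eq hx34)).upd 3 1 2 (le_of_eq hx41)).upd 3 2 3 (le_of_eq hx43)) ![0,1,1,2] (by decide) (by decide) 1 (by decide))
        · -- 34=(3,1)
          exact False.elim (cert_false T ((skipEmb 2).trans (Function.Embedding.refl _)) (by norm_num) (fun _ => hall _) (((((LB_zero T ((skipEmb 2).trans (Function.Embedding.refl _))).upd 1 3 1 (le_of_eq hx14)).upd 2 3 3 (le_of_eq hx34)).upd 3 1 2 (le_of_eq hx41)).upd 3 2 1 (le_of_eq hx43)) ![0,1,2,2] (by decide) (by decide) 1 (by decide))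
      · -- 24=(1,1)
        exact False.elim (cert_false T ((skipEmb 3).trans (Function.Embedding.refl _)) (by norm_num) (fun _ => hall _) (((((((((LB_zero T ((skipEmb 3).trans (Function.Embedding.refl _))).upd 0 1 1 (le_of_eq hx01)).upd 0 2 1 (le_of_eq hx02)).upd 1 0 1 (le_of_eq hx10)).upd 1 3 1 (le_of_eq hx14)).upd 2 0 1 (le_of_eq hx20)).upd 2 3 1 (le_of_eq hx24)).upd 3 1 2 (le_of_eq hx41)).upd 3 2 1 (le_of_eq hx42)) ![1,1,1,1] (by decide) (by decide) 0 (by decide))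
      · -- 24=(1,2)
        exact False.elim (cert_false T ((skipEmb 3).trans (Function.Embedding.refl _)) (by norm_num) (fun _ => hall _) (((((((((LB_zero T ((skipEmb 3).trans (Function.Embedding.refl _))).upd 0 1 1 (le_of_eq hx01)).upd 0 2 1 (le_of_eq hx02)).upd 1 0 1 (le_of_eq hx10)).upd 1 3 1 (le_of_eq hx14)).upd 2 0 1 (le_of_eq hx20)).upd 2 3 1 (le_of_eq hx24)).upd 3 1 2 (le_of_eq hx41)).upd 3 2 2 (le_of_eq hx42)) ![1,1,1,1] (by decide) (by decide) 0 (by decide))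
      · -- 24=(2,1)
        exact False.elim (cert_false T ((skipEmb 3).trans (Function.Embedding.refl _)) (by norm_num) (fun _ => hall _) (((((((((LB_zero T ((skipEmb 3).trans (Function.Embedding.refl _))).upd 0 1 1 (le_of_eq hx01)).upd 0 2 1 (le_of_eq hx02)).upd 1 0 1 (le_of_eq hx10)).upd 1 3 1 (le_of_eq hx14)).upd 2 0 1 (le_of_eq hx20)).upd 2 3 2 (le_of_eq hx24)).upd 3 1 2 (le_of_eq hx41)).upd 3 2 1 (le_of_eq hx42)) ![1,1,1,1] (by decide) (by decide) 0 (by decide))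
      · -- 24=(1,3)
        exact False.elim (cert_false T ((skipEmb 3).trans (Function.Embedding.refl _)) (by norm_num) (fun _ => hall _) (((((((((LB_zero T ((skipEmb 3).trans (Function.Embedding.refl _))).upd 0 1 1 (le_of_eq hx01)).upd 0 2 1 (le_of_eq hx02)).upd 1 0 1 (le_of_eq hx10)).upd 1 3 1 (le_of_eq hx14)).upd 2 0 1 (le_of_eq hx20)).upd 2 3 1 (le_of_eq hx24)).upd 3 1 2 (le_of_eq hx41)).upd 3 2 3 (le_of_eq hx42)) ![1,1,1,1] (by decide) (by decide) 0 (by decide))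
      · -- 24=(3,1)
        exact False.elim (cert_false T ((skipEmb 3).trans (Function.Embedding.refl _)) (by norm_num) (fun _ => hall _) (((((((((LB_zero T ((skipEmb 3).trans (Function.Embedding.refl _))).upd 0 1 1 (le_of_eq hx01)).upd 0 2 1 (le_of_eq hx02)).upd 1 0 1 (le_of_eq hx10)).upd 1 3 1 (le_of_eq hx14)).upd 2 0 1 (le_of_eq hx20)).upd 2 3 3 (le_of_eq hx24)).upd 3 1 2 (le_of_eq hx41)).upd 3 2 1 (le_of_eq hx42)) ![1,1,1,1] (by decide) (by decide) 0 (by decide))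
    · -- 14=(2,1)
      rcases d24 with ⟨rfl, rfl⟩ | ⟨rfl, rfl⟩ | ⟨rfl, rfl⟩ | ⟨rfl, rfl⟩ | ⟨rfl, rfl⟩ | ⟨rfl, rfl⟩
      · -- 24=(0,0)
        rcases d34 with ⟨rfl, rfl⟩ | ⟨rfl, rfl⟩ | ⟨rfl, rfl⟩ | ⟨rfl, rfl⟩ | ⟨rfl, rfl⟩ | ⟨rfl, rfl⟩
        · -- 34=(0,0)
          refine ⟨(⟨![3, 2, 0, 1, 4], ![2, 3, 1, 0, 4], by decide, by decide⟩ : Equiv.Perm (Fin 5)), T.m 4, T.w 3, Or.inr (Or.inr (Or.inr (Or.inl ?_)))⟩
          show T.m 3 = 2 * T.m 4 ∧ T.m 2 = 2 * T.m 4 ∧ T.m 0 = 2 * T.m 4 ∧ T.m 1 = 2 * T.m 4 ∧ T.m 4 = T.m 4 ∧ T.w 3 = T.w 3 ∧ T.w 2 = 2 * T.w 3 ∧ T.w 0 = 2 * T.w 3 ∧ T.w 1 = 2 * T.w 3 ∧ T.w 4 = 4 * T.w 3 ∧ T.a 3 3 = -2 * T.w 3 ∧ T.a 3 2 = 2 * T.w 3 ∧ T.a 3 0 = 0 ∧ T.a 3 1 = 0 ∧ T.a 3 4 = 0 ∧ T.a 2 2 = -4 * T.w 3 ∧ T.a 2 0 = 2 * T.w 3 ∧ T.a 2 1 = 0 ∧ T.a 2 4 = 0 ∧ T.a 0 0 = -4 * T.w 3 ∧ T.a 0 1 = 2 * T.w 3 ∧ T.a 0 4 = 0 ∧ T.a 1 1 = -4 * T.w 3 ∧ T.a 1 4 = 4 * T.w 3 ∧ T.a 4 4 = -8 * T.w 3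
          refine ⟨?_, ?_, ?_, ?_, ?_, ?_, ?_, ?_, ?_, ?_, ?_, ?_, ?_, ?_, ?_, ?_, ?_, ?_, ?_, ?_, ?_, ?_, ?_, ?_, ?_⟩ <;> omega
        · -- 34=(1,1)
          exact False.elim (cert_false T ((skipEmb 0).trans (Function.Embedding.refl _)) (by norm_num) (fun _ => hall _) (((((((LB_zero T ((skipEmb 0).trans (Function.Embedding.refl _))).upd 0 3 2 (le_of_eq hx14)).upd 1 2 1 (le_of_eq hx23)).upd 2 1 2 (le_of_eq hx32)).upd 2 3 1 (le_of_eq hx34)).upd 3 0 1 (le_of_eq hx41)).upd 3 2 1 (le_of_eq hx43)) ![2,1,2,2] (by decide) (by decide) 0 (by decide))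
        · -- 34=(1,2)
          exact False.elim (cert_false T ((skipEmb 2).trans (Function.Embedding.refl _)) (by norm_num) (fun _ => hall _) (((((LB_zero T ((skipEmb 2).trans (Function.Embedding.refl _))).upd 1 3 2 (le_of_eq hx14)).upd 2 3 1 (le_of_eq hx34)).upd 3 1 1 (le_of_eq hx41)).upd 3 2 2 (le_of_eq hx43)) ![0,2,1,2] (by decide) (by decide) 1 (by decide))
        · -- 34=(2,1)
          exact False.elim (cert_false T ((skipEmb 2).trans (Function.Embedding.refl _)) (by norm_num) (fun _ => hall _) (((((LB_zero T ((skipEmb 2).trans (Function.Embedding.refl _))).upd 1 3 2 (le_of_eq hx14)).upd 2 3 2 (le_of_eq hx34)).upd 3 1 1 (le_of_eq hx41)).upd 3 2 1 (le_of_eq hx43)) ![0,1,1,1] (by decide) (by decide) 1 (by decide))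
        · -- 34=(1,3)
          exact False.elim (cert_false T ((skipEmb 2).trans (Function.Embedding.refl _)) (by norm_num) (fun _ => hall _) (((((LB_zero T ((skipEmb 2).trans (Function.Embedding.refl _))).upd 1 3 2 (le_of_eq hx14)).upd 2 3 1 (le_of_eq hx34)).upd 3 1 1 (le_of_eq hx41)).upd 3 2 3 (le_of_eq hx43)) ![0,1,1,2] (by decide) (by decide) 1 (by decide))
        · -- 34=(3,1)
          exact False.elim (cert_false T ((skipEmb 2).trans (Function.Embedding.refl _)) (by norm_num) (fun _ => hall _) (((((LB_zero T ((skipEmb 2).trans (Function.Embedding.refl _))).upd 1 3 2 (le_of_eq hx14)).upd 2 3 3 (le_of_eq hx34)).upd 3 1 1 (le_of_eq hx41)).upd 3 2 1 (le_of_eq hx43)) ![0,1,1,1] (by decide) (by decide) 1 (by decide))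
      · -- 24=(1,1)
        exact False.elim (cert_false T ((skipEmb 3).trans (Function.Embedding.refl _)) (by norm_num) (fun _ => hall _) (((((((((LB_zero T ((skipEmb 3).trans (Function.Embedding.refl _))).upd 0 1 1 (le_of_eq hx01)).upd 0 2 1 (le_of_eq hx02)).upd 1 0 1 (le_of_eq hx10)).upd 1 3 2 (le_of_eq hx14)).upd 2 0 1 (le_of_eq hx20)).upd 2 3 1 (le_of_eq hx24)).upd 3 1 1 (le_of_eq hx41)).upd 3 2 1 (le_of_eq hx42)) ![1,1,1,1] (by decide) (by decide) 0 (by decide))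
      · -- 24=(1,2)
        exact False.elim (cert_false T ((skipEmb 3).trans (Function.Embedding.refl _)) (by norm_num) (fun _ => hall _) (((((((((LB_zero T ((skipEmb 3).trans (Function.Embedding.refl _))).upd 0 1 1 (le_of_eq hx01)).upd 0 2 1 (le_of_eq hx02)).upd 1 0 1 (le_of_eq hx10)).upd 1 3 2 (le_of_eq hx14)).upd 2 0 1 (le_of_eq hx20)).upd 2 3 1 (le_of_eq hx24)).upd 3 1 1 (le_of_eq hx41)).upd 3 2 2 (le_of_eq hx42)) ![1,1,1,1] (by decide) (by decide) 0 (by decide))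
      · -- 24=(2,1)
        exact False.elim (cert_false T ((skipEmb 3).trans (Function.Embedding.refl _)) (by norm_num) (fun _ => hall _) (((((LB_zero T ((skipEmb 3).trans (Function.Embedding.refl _))).upd 1 3 2 (le_of_eq hx14)).upd 2 3 2 (le_of_eq hx24)).upd 3 1 1 (le_of_eq hx41)).upd 3 2 1 (le_of_eq hx42)) ![0,1,1,1] (by decide) (by decide) 1 (by decide))
      · -- 24=(1,3)
        exact False.elim (cert_false T ((skipEmb 3).trans (Function.Embedding.refl _)) (by norm_num) (fun _ => hall _) (((((((((LB_zero T ((skipEmb 3).trans (Function.Embedding.refl _))).upd 0 1 1 (le_of_eq hx01)).upd 0 2 1 (le_of_eq hx02)).upd 1 0 1 (le_of_eq hx10)).upd 1 3 2 (le_of_eq hx14)).upd 2 0 1 (le_of_eq hx20)).upd 2 3 1 (le_of_eq hx24)).upd 3 1 1 (le_of_eq hx41)).upd 3 2 3 (le_of_eq hx42)) ![1,1,1,1] (by decide) (by decide) 0 (by decide))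
      · -- 24=(3,1)
        exact False.elim (cert_false T ((skipEmb 3).trans (Function.Embedding.refl _)) (by norm_num) (fun _ => hall _) (((((LB_zero T ((skipEmb 3).trans (Function.Embedding.refl _))).upd 1 3 2 (le_of_eq hx14)).upd 2 3 3 (le_of_eq hx24)).upd 3 1 1 (le_of_eq hx41)).upd 3 2 1 (le_of_eq hx42)) ![0,1,1,1] (by decide) (by decide) 1 (by decide))
    · -- 14=(1,3)
      exact False.elim (cert_false T ((skipEmb 3).trans (Function.Embedding.refl _)) (by norm_num) (fun _ => hall _) (((((LB_zero T ((skipEmb 3).trans (Function.Embedding.refl _))).upd 0 1 1 (le_of_eq hx01)).upd 1 0 1 (le_of_eq hx10)).upd 1 3 1 (le_of_eq hx14)).upd 3 1 3 (le_of_eq hx41)) ![1,2,0,3] (by decide) (by decide) 0 (by decide))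
    · -- 14=(3,1)
      exact False.elim (cert_false T ((skipEmb 3).trans (Function.Embedding.refl _)) (by norm_num) (fun _ => hall _) (((((LB_zero T ((skipEmb 3).trans (Function.Embedding.refl _))).upd 0 1 1 (le_of_eq hx01)).upd 1 0 1 (le_of_eq hx10)).upd 1 3 3 (le_of_eq hx14)).upd 3 1 1 (le_of_eq hx41)) ![1,2,0,1] (by decide) (by decide) 0 (by decide))
  · -- 04=(1,1)
    rcases d14 with ⟨rfl, rfl⟩ | ⟨rfl, rfl⟩ | ⟨rfl, rfl⟩ | ⟨rfl, rfl⟩ | ⟨rfl, rfl⟩ | ⟨rfl, rfl⟩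
    · -- 14=(0,0)
      rcases d24 with ⟨rfl, rfl⟩ | ⟨rfl, rfl⟩ | ⟨rfl, rfl⟩ | ⟨rfl, rfl⟩ | ⟨rfl, rfl⟩ | ⟨rfl, rfl⟩
      · -- 24=(0,0)
        rcases d34 with ⟨rfl, rfl⟩ | ⟨rfl, rfl⟩ | ⟨rfl, rfl⟩ | ⟨rfl, rfl⟩ | ⟨rfl, rfl⟩ | ⟨rfl, rfl⟩
        · -- 34=(0,0)
          refine ⟨(⟨![3, 2, 0, 1, 4], ![2, 3, 1, 0, 4], by decide, by decide⟩ : Equiv.Perm (Fin 5)), T.m 1, T.w 3, Or.inr (Or.inr (Or.inr (Or.inr (Or.inr (Or.inr (Or.inr (Or.inr (?_))))))))⟩
          show T.m 3 = 2 * T.m 1 ∧ T.m 2 = 2 * T.m 1 ∧ T.m 0 = 2 * T.m 1 ∧ T.m 1 = T.m 1 ∧ T.m 4 = T.m 1 ∧ T.w 3 = T.w 3 ∧ T.w 2 = 2 * T.w 3 ∧ T.w 0 = 2 * T.w 3 ∧ T.w 1 = 2 * T.w 3 ∧ T.w 4 = 2 * T.w 3 ∧ T.a 3 3 = -2 * T.w 3 ∧ T.a 3 2 = 2 * T.w 3 ∧ T.a 3 0 = 0 ∧ T.a 3 1 = 0 ∧ T.a 3 4 = 0 ∧ T.a 2 2 = -4 * T.w 3 ∧ T.a 2 0 = 2 * T.w 3 ∧ T.a 2 1 = 0 ∧ T.a 2 4 = 0 ∧ T.a 0 0 = -4 * T.w 3 ∧ T.a 0 1 = 2 * T.w 3 ∧ T.a 0 4 = 2 * T.w 3 ∧ T.a 1 1 = -4 * T.w 3 ∧ T.a 1 4 = 0 ∧ T.a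 4 4 = -4 * T.w 3
          refine ⟨?_, ?_, ?_, ?_, ?_, ?_, ?_, ?_, ?_, ?_, ?_, ?_, ?_, ?_, ?_, ?_, ?_, ?_, ?_, ?_, ?_, ?_, ?_, ?_, ?_⟩ <;> omega
        · -- 34=(1,1)
          exact False.elim (cert_false T ((skipEmb 1).trans (Function.Embedding.refl _)) (by norm_num) (fun _ => hall _) (((((((((LB_zero T ((skipEmb 1).trans (Function.Embedding.refl _))).upd 0 1 1 (le_of_eq hx02)).upd 0 3 1 (le_of_eq hx04)).upd 1 0 1 (le_of_eq hx20)).upd 1 2 1 (le_of_eq hx23)).upd 2 1 2 (le_of_eq hx32)).upd 2 3 1 (le_of_eq hx34)).upd 3 0 1 (le_of_eq hx40)).upd 3 2 1 (le_of_eq hx43)) ![1,1,1,1] (by decide) (by decide) 0 (by decide))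
        · -- 34=(1,2)
          exact False.elim (cert_false T ((skipEmb 1).trans (Function.Embedding.refl _)) (by norm_num) (fun _ => hall _) (((((((((LB_zero T ((skipEmb 1).trans (Function.Embedding.refl _))).upd 0 1 1 (le_of_eq hx02)).upd 0 3 1 (le_of_eq hx04)).upd 1 0 1 (le_of_eq hx20)).upd 1 2 1 (le_of_eq hx23)).upd 2 1 2 (le_of_eq hx32)).upd 2 3 1 (le_of_eq hx34)).upd 3 0 1 (le_of_eq hx40)).upd 3 2 2 (le_of_eq hx43)) ![1,1,1,1] (by decide) (by decide) 0 (by decide))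
        · -- 34=(2,1)
          exact False.elim (cert_false T ((skipEmb 1).trans (Function.Embedding.refl _)) (by norm_num) (fun _ => hall _) (((((((((LB_zero T ((skipEmb 1).trans (Function.Embedding.refl _))).upd 0 1 1 (le_of_eq hx02)).upd 0 3 1 (le_of_eq hx04)).upd 1 0 1 (le_of_eq hx20)).upd 1 2 1 (le_of_eq hx23)).upd 2 1 2 (le_of_eq hx32)).upd 2 3 2 (le_of_eq hx34)).upd 3 0 1 (le_of_eq hx40)).upd 3 2 1 (le_of_eq hx43)) ![1,1,1,1] (by decide) (by decide) 0 (by decide))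
        · -- 34=(1,3)
          exact False.elim (cert_false T ((skipEmb 2).trans (Function.Embedding.refl _)) (by norm_num) (fun _ => hall _) (((((LB_zero T ((skipEmb 2).trans (Function.Embedding.refl _))).upd 0 3 1 (le_of_eq hx04)).upd 2 3 1 (le_of_eq hx34)).upd 3 0 1 (le_of_eq hx40)).upd 3 2 3 (le_of_eq hx43)) ![1,0,1,2] (by decide) (by decide) 0 (by decide))
        · -- 34=(3,1)
          exact False.elim (cert_false T ((skipEmb 2).trans (Function.Embedding.refl _)) (by norm_num) (fun _ => hall _) (((((LB_zero T ((skipEmb 2).trans (Function.Embedding.refl _))).upd 0 3 1 (le_of_eq hx04)).upd 2 3 3 (le_of_eq hx34)).upd 3 0 1 (le_of_eq hx40)).upd 3 2 1 (le_of_eq hx43)) ![1,0,3,2] (by decide) (by decide) 0 (by decide))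
      · -- 24=(1,1)
        exact False.elim (cert_false T ((skipEmb 3).trans (Function.Embedding.refl _)) (by norm_num) (fun _ => hall _) (((((((LB_zero T ((skipEmb 3).trans (Function.Embedding.refl _))).upd 0 2 1 (le_of_eq hx02)).upd 0 3 1 (le_of_eq hx04)).upd 2 0 1 (le_of_eq hx20)).upd 2 3 1 (le_of_eq hx24)).upd 3 0 1 (le_of_eq hx40)).upd 3 2 1 (le_of_eq hx42)) ![1,0,1,1] (by decide) (by decide) 0 (by decide))
      · -- 24=(1,2)
        exact False.elim (cert_false T ((skipEmb 3).trans (Function.Embedding.refl _)) (by norm_num) (fun _ => hall _) (((((((LB_zero T ((skipEmb 3).trans (Function.Embedding.refl _))).upd 0 2 1 (le_of_eq hx02)).upd 0 3 1 (le_of_eq hx04)).upd 2 0 1 (le_of_eq hx20)).upd 2 3 1 (le_of_eq hx24)).upd 3 0 1 (le_of_eq hx40)).upd 3 2 2 (le_of_eq hx42)) ![1,0,1,1] (by decide) (by decide) 0 (by decide))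
      · -- 24=(2,1)
        exact False.elim (cert_false T ((skipEmb 3).trans (Function.Embedding.refl _)) (by norm_num) (fun _ => hall _) (((((((LB_zero T ((skipEmb 3).trans (Function.Embedding.refl _))).upd 0 2 1 (le_of_eq hx02)).upd 0 3 1 (le_of_eq hx04)).upd 2 0 1 (le_of_eq hx20)).upd 2 3 2 (le_of_eq hx24)).upd 3 0 1 (le_of_eq hx40)).upd 3 2 1 (le_of_eq hx42)) ![1,0,1,1] (by decide) (by decide) 0 (by decide))
      · -- 24=(1,3)
        exact False.elim (cert_false T ((skipEmb 3).trans (Function.Embedding.refl _)) (by norm_num) (fun _ => hall _) (((((((LB_zero T ((skipEmb 3).trans (Function.Embedding.refl _))).upd 0 2 1 (le_of_eq hx02)).upd 0 3 1 (le_of_eq hx04)).upd 2 0 1 (le_of_eq hx20)).upd 2 3 1 (le_of_eq hx24)).upd 3 0 1 (le_of_eq hx40)).upd 3 2 3 (le_of_eq hx42)) ![1,0,1,1] (by decide) (by decide) 0 (by decide))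
      · -- 24=(3,1)
        exact False.elim (cert_false T ((skipEmb 3).trans (Function.Embedding.refl _)) (by norm_num) (fun _ => hall _) (((((((LB_zero T ((skipEmb 3).trans (Function.Embedding.refl _))).upd 0 2 1 (le_of_eq hx02)).upd 0 3 1 (le_of_eq hx04)).upd 2 0 1 (le_of_eq hx20)).upd 2 3 3 (le_of_eq hx24)).upd 3 0 1 (le_of_eq hx40)).upd 3 2 1 (le_of_eq hx42)) ![1,0,1,1] (by decide) (by decide) 0 (by decide))
    · -- 14=(1,1)
      exact False.elim (cert_false T ((skipEmb 3).trans (Function.Embedding.refl _)) (by norm_num) (fun _ => hall _) (((((((LB_zero T ((skipEmb 3).trans (Function.Embedding.refl _))).upd 0 1 1 (le_of_eq hx01)).upd 0 3 1 (le_of_eq hx04)).upd 1 0 1 (le_of_eq hx10)).upd 1 3 1 (le_of_eq hx14)).upd 3 0 1 (le_of_eq hx40)).upd 3 1 1 (le_of_eq hx41)) ![1,1,0,1] (by decide) (by decide) 0 (by decide))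
    · -- 14=(1,2)
      exact False.elim (cert_false T ((skipEmb 3).trans (Function.Embedding.refl _)) (by norm_num) (fun _ => hall _) (((((((LB_zero T ((skipEmb 3).trans (Function.Embedding.refl _))).upd 0 1 1 (le_of_eq hx01)).upd 0 3 1 (le_of_eq hx04)).upd 1 0 1 (le_of_eq hx10)).upd 1 3 1 (le_of_eq hx14)).upd 3 0 1 (le_of_eq hx40)).upd 3 1 2 (le_of_eq hx41)) ![1,1,0,1] (by decide) (by decide) 0 (by decide))
    · -- 14=(2,1)
      exact False.elim (cert_false T ((skipEmb 3).trans (Function.Embedding.refl _)) (by norm_num) (fun _ => hall _) (((((((LB_zero T ((skipEmb 3).trans (Function.Embedding.refl _))).upd 0 1 1 (le_of_eq hx01)).upd 0 3 1 (le_of_eq hx04)).upd 1 0 1 (le_of_eq hx10)).upd 1 3 2 (le_of_eq hx14)).upd 3 0 1 (le_of_eq hx40)).upd 3 1 1 (le_of_eq hx41)) ![1,1,0,1] (by decide) (by decide) 0 (by decide))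
    · -- 14=(1,3)
      exact False.elim (cert_false T ((skipEmb 3).trans (Function.Embedding.refl _)) (by norm_num) (fun _ => hall _) (((((((LB_zero T ((skipEmb 3).trans (Function.Embedding.refl _))).upd 0 1 1 (le_of_eq hx01)).upd 0 3 1 (le_of_eq hx04)).upd 1 0 1 (le_of_eq hx10)).upd 1 3 1 (le_of_eq hx14)).upd 3 0 1 (le_of_eq hx40)).upd 3 1 3 (le_of_eq hx41)) ![1,1,0,1] (by decide) (by decide) 0 (by decide))
    · -- 14=(3,1)
      exact False.elim (cert_false T ((skipEmb 3).trans (Function.Embedding.refl _)) (by norm_num) (fun _ => hall _) (((((((LB_zero T ((skipEmb 3).trans (Function.Embedding.refl _))).upd 0 1 1 (le_of_eq hx01)).upd 0 3 1 (le_of_eq hx04)).upd 1 0 1 (le_of_eq hx10)).upd 1 3 3 (le_of_eq hx14)).upd 3 0 1 (le_of_eq hx40)).upd 3 1 1 (le_of_eq hx41)) ![1,1,0,1] (by decide) (by decide) 0 (by decide))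
  · -- 04=(1,2)
    exact False.elim (cert_false T ((skipEmb 3).trans (Function.Embedding.refl _)) (by norm_num) (fun _ => hall _) (((((((LB_zero T ((skipEmb 3).trans (Function.Embedding.refl _))).upd 0 1 1 (le_of_eq hx01)).upd 0 2 1 (le_of_eq hx02)).upd 0 3 1 (le_of_eq hx04)).upd 1 0 1 (le_of_eq hx10)).upd 2 0 1 (le_of_eq hx20)).upd 3 0 2 (le_of_eq hx40)) ![2,1,1,2] (by decide) (by decide) 0 (by decide))
  · -- 04=(2,1)
    exact False.elim (cert_false T ((skipEmb 3).trans (Function.Embedding.refl _)) (by norm_num) (fun _ => hall _) (((((((LB_zero T ((skipEmb 3).trans (Function.Embedding.refl _))).upd 0 1 1 (le_of_eq hx01)).upd 0 2 1 (le_of_eq hx02)).upd 0 3 2 (le_of_eq hx04)).upd 1 0 1 (le_of_eq hx10)).upd 2 0 1 (le_of_eq hx20)).upd 3 0 1 (le_of_eq hx40)) ![2,1,1,1] (by decide) (by decide) 0 (by decide))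
  · -- 04=(1,3)
    exact False.elim (cert_false T ((skipEmb 3).trans (Function.Embedding.refl _)) (by norm_num) (fun _ => hall _) (((((((LB_zero T ((skipEmb 3).trans (Function.Embedding.refl _))).upd 0 1 1 (le_of_eq hx01)).upd 0 2 1 (le_of_eq hx02)).upd 0 3 1 (le_of_eq hx04)).upd 1 0 1 (le_of_eq hx10)).upd 2 0 1 (le_of_eq hx20)).upd 3 0 3 (le_of_eq hx40)) ![2,1,1,2] (by decide) (by decide) 0 (by decide))
  · -- 04=(3,1)
    exact False.elim (cert_false T ((skipEmb 3).trans (Function.Embedding.refl _)) (by norm_num) (fun _ => hall _) (((((LB_zero T ((skipEmb 3).trans (Function.Embedding.refl _))).upd 0 2 1 (le_of_eq hx02)).upd 0 3 3 (le_of_eq hx04)).upd 2 0 1 (le_of_eq hx20)).upd 3 0 1 (le_of_eq hx40)) ![2,0,1,1] (by decide) (by decide) 0 (by decide))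

theorem case425 (T : NumericalType 5) (hall : ∀ i, T.IsMinusTwo i) (d : SData T)
    (h01 : N T (Function.Embedding.refl _) 0 1 = 1) (h10 : N T (Function.Embedding.refl _) 1 0 = 1)
    (h02 : N T (Function.Embedding.refl _) 0 2 = 1) (h20 : N T (Function.Embedding.refl _) 2 0 = 1)
    (h12 : N T (Function.Embedding.refl _) 1 2 = 0) (h21 : N T (Function.Embedding.refl _) 2 1 = 0)
    (h03 : N T (Function.Embedding.refl _) 0 3 = 0) (h30 : N T (Function.Embedding.refl _) 3 0 = 0)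
    (h13 : N T (Function.Embedding.refl _) 1 3 = 0) (h31 : N T (Function.Embedding.refl _) 3 1 = 0)
    (h23 : N T (Function.Embedding.refl _) 2 3 = 2) (h32 : N T (Function.Embedding.refl _) 3 2 = 1) :
    Goal T := by
  unfold Goal
  have hd := d
  obtain ⟨x01, x02, x03, x04, x10, x12, x13, x14, x20, x21, x23, x24, x30, x31, x32, x34, x40, x41, x42, x43, hx01, hx02, hx03, hx04, hx10, hx12, hx13, hx14, hx20, hx21, hx23, hx24, hx30, hx31, hx32, hx34, hx40, hx41, hx42, hx43, hw0, hm0, hw1, hm1, hw2, hm2, hw3, hm3, hw4, hm4, a00, a01, a02, a03, a04, a11, a10, a12, a13, a14, a22, a20, a21, a23, a24, a33, a30, a31, a32, a34, a44, a40, a41, a42, a43, wN01, wN02, wN12, wN03, wN13, wN23, wN04, wN14, wN24, wN34, e0, e1, e2, e3, e4, d01, d02, d12, d03, d13, d23, d04, d14, d24, d34⟩ := d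
  obtain rfl : x01 = 1 := hx01.trans h01
  obtain rfl : x10 = 1 := hx10.trans h10
  obtain rfl : x02 = 1 := hx02.trans h02
  obtain rfl : x20 = 1 := hx20.trans h20
  obtain rfl : x12 = 0 := hx12.trans h12
  obtain rfl : x21 = 0 := hx21.trans h21
  obtain rfl : x03 = 0 := hx03.trans h03
  obtain rfl : x30 = 0 := hx30.trans h30
  obtain rfl : x13 = 0 := hx13.trans h13
  obtain rfl : x31 = 0 := hx31.trans h31
  obtain rfl : x23 = 2 := hx23.trans h23
  obtain rfl : x32 = 1 := hx32.trans h32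
  rcases d04 with ⟨rfl, rfl⟩ | ⟨rfl, rfl⟩ | ⟨rfl, rfl⟩ | ⟨rfl, rfl⟩ | ⟨rfl, rfl⟩ | ⟨rfl, rfl⟩
  · -- 04=(0,0)
    rcases d14 with ⟨rfl, rfl⟩ | ⟨rfl, rfl⟩ | ⟨rfl, rfl⟩ | ⟨rfl, rfl⟩ | ⟨rfl, rfl⟩ | ⟨rfl, rfl⟩
    · -- 14=(0,0)
      rcases d24 with ⟨rfl, rfl⟩ | ⟨rfl, rfl⟩ | ⟨rfl, rfl⟩ | ⟨rfl, rfl⟩ | ⟨rfl, rfl⟩ | ⟨rfl, rfl⟩
      · -- 24=(0,0)
        rcases d34 with ⟨rfl, rfl⟩ | ⟨rfl, rfl⟩ | ⟨rfl, rfl⟩ | ⟨rfl, rfl⟩ | ⟨rfl, rfl⟩ | ⟨rfl, rfl⟩
        · -- 34=(0,0)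
          exfalso; omega
        · -- 34=(1,1)
          refine ⟨(⟨![1, 0, 2, 3, 4], ![1, 0, 2, 3, 4], by decide, by decide⟩ : Equiv.Perm (Fin 5)), T.m 1, T.w 1, Or.inr (Or.inl ?_)⟩
          show T.m 1 = T.m 1 ∧ T.m 0 = 2 * T.m 1 ∧ T.m 2 = 3 * T.m 1 ∧ T.m 3 = 2 * T.m 1 ∧ T.m 4 = T.m 1 ∧ T.w 1 = T.w 1 ∧ T.w 0 = T.w 1 ∧ T.w 2 = T.w 1 ∧ T.w 3 = 2 * T.w 1 ∧ T.w 4 = 2 * T.w 1 ∧ T.a 1 1 = -2 * T.w 1 ∧ T.a 1 0 = T.w 1 ∧ T.a 1 2 = 0 ∧ T.a 1 3 = 0 ∧ T.a 1 4 = 0 ∧ T.a 0 0 = -2 * T.w 1 ∧ T.a 0 2 = T.w 1 ∧ T.a 0 3 = 0 ∧ T.a 0 4 = 0 ∧ T.a 2 2 = -2 * T.w 1 ∧ T.a 2 3 = 2 * T.w 1 ∧ T.a 2 4 = 0 ∧ T.a 3 3 = -4 * T.w 1 ∧ T.a 3 4 = 2 * T.w 1 ∧ T.a 4 4 = -4 * T.w 1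
          refine ⟨?_, ?_, ?_, ?_, ?_, ?_, ?_, ?_, ?_, ?_, ?_, ?_, ?_, ?_, ?_, ?_, ?_, ?_, ?_, ?_, ?_, ?_, ?_, ?_, ?_⟩ <;> omega
        · -- 34=(1,2)
          exact False.elim (cert_false T ((skipEmb 1).trans (Function.Embedding.refl _)) (by norm_num) (fun _ => hall _) (((((LB_zero T ((skipEmb 1).trans (Function.Embedding.refl _))).upd 1 2 2 (le_of_eq hx23)).upd 2 1 1 (le_of_eq hx32)).upd 2 3 1 (le_of_eq hx34)).upd 3 2 2 (le_of_eq hx43)) ![0,1,1,1] (by decide) (by decide) 1 (by decide))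
        · -- 34=(2,1)
          exact False.elim (cert_false T ((skipEmb 1).trans (Function.Embedding.refl _)) (by norm_num) (fun _ => hall _) (((((LB_zero T ((skipEmb 1).trans (Function.Embedding.refl _))).upd 1 2 2 (le_of_eq hx23)).upd 2 1 1 (le_of_eq hx32)).upd 2 3 2 (le_of_eq hx34)).upd 3 2 1 (le_of_eq hx43)) ![0,2,2,1] (by decide) (by decide) 1 (by decide))
        · -- 34=(1,3)
          exact False.elim (cert_false T ((skipEmb 1).trans (Function.Embedding.refl _)) (by norm_num) (fun _ => hall _) (((((LB_zero T ((skipEmb 1).trans (Function.Embedding.refl _))).upd 1 2 2 (le_of_eq hx23)).upd 2 1 1 (le_of_eq hx32)).upd 2 3 1 (le_of_eq hx34)).upd 3 2 3 (le_of_eq hx43)) ![0,1,1,1] (by decide) (by decide) 1 (by decide))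
        · -- 34=(3,1)
          exact False.elim (cert_false T ((skipEmb 1).trans (Function.Embedding.refl _)) (by norm_num) (fun _ => hall _) (((((LB_zero T ((skipEmb 1).trans (Function.Embedding.refl _))).upd 1 2 2 (le_of_eq hx23)).upd 2 1 1 (le_of_eq hx32)).upd 2 3 3 (le_of_eq hx34)).upd 3 2 1 (le_of_eq hx43)) ![0,1,2,1] (by decide) (by decide) 1 (by decide))
      · -- 24=(1,1)
        exact False.elim (cert_false T ((skipEmb 1).trans (Function.Embedding.refl _)) (by norm_num) (fun _ => hall _) (((((((LB_zero T ((skipEmb 1).trans (Function.Embedding.refl _))).upd 0 1 1 (le_of_eq hx02)).upd 1 0 1 (le_of_eq hx20)).upd 1 2 2 (le_of_eq hx23)).upd 1 3 1 (le_of_eq hx24)).upd 2 1 1 (le_of_eq hx32)).upd 3 1 1 (le_of_eq hx42)) ![1,2,1,1] (by decide) (by decide) 0 (by decide))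
      · -- 24=(1,2)
        exact False.elim (cert_false T ((skipEmb 1).trans (Function.Embedding.refl _)) (by norm_num) (fun _ => hall _) (((((LB_zero T ((skipEmb 1).trans (Function.Embedding.refl _))).upd 1 2 2 (le_of_eq hx23)).upd 1 3 1 (le_of_eq hx24)).upd 2 1 1 (le_of_eq hx32)).upd 3 1 2 (le_of_eq hx42)) ![0,2,1,2] (by decide) (by decide) 1 (by decide))
      · -- 24=(2,1)
        exact False.elim (cert_false T ((skipEmb 1).trans (Function.Embedding.refl _)) (by norm_num) (fun _ => hall _) (((((LB_zero T ((skipEmb 1).trans (Function.Embedding.refl _))).upd 1 2 2 (le_of_eq hx23)).upd 1 3 2 (le_of_eq hx24)).upd 2 1 1 (le_of_eq hx32)).upd 3 1 1 (le_of_eq hx42)) ![0,2,1,1] (by decide) (by decide) 1 (by decide))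
      · -- 24=(1,3)
        exact False.elim (cert_false T ((skipEmb 3).trans (Function.Embedding.refl _)) (by norm_num) (fun _ => hall _) (((((LB_zero T ((skipEmb 3).trans (Function.Embedding.refl _))).upd 0 2 1 (le_of_eq hx02)).upd 2 0 1 (le_of_eq hx20)).upd 2 3 1 (le_of_eq hx24)).upd 3 2 3 (le_of_eq hx42)) ![1,0,2,3] (by decide) (by decide) 0 (by decide))
      · -- 24=(3,1)
        exact False.elim (cert_false T ((skipEmb 3).trans (Function.Embedding.refl _)) (by norm_num) (fun _ => hall _) (((((LB_zero T ((skipEmb 3).trans (Function.Embedding.refl _))).upd 0 2 1 (le_of_eq hx02)).upd 2 0 1 (le_of_eq hx20)).upd 2 3 3 (le_of_eq hx24)).upd 3 2 1 (le_of_eq hx42)) ![1,0,2,1] (by decide) (by decide) 0 (by decide))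
    · -- 14=(1,1)
      rcases d24 with ⟨rfl, rfl⟩ | ⟨rfl, rfl⟩ | ⟨rfl, rfl⟩ | ⟨rfl, rfl⟩ | ⟨rfl, rfl⟩ | ⟨rfl, rfl⟩
      · -- 24=(0,0)
        rcases d34 with ⟨rfl, rfl⟩ | ⟨rfl, rfl⟩ | ⟨rfl, rfl⟩ | ⟨rfl, rfl⟩ | ⟨rfl, rfl⟩ | ⟨rfl, rfl⟩
        · -- 34=(0,0)
          exfalso; omega
        · -- 34=(1,1)
          exfalso; omega
        · -- 34=(1,2)
          exact False.elim (cert_false T ((skipEmb 1).trans (Function.Embedding.refl _)) (by norm_num) (fun _ => hall _) (((((LB_zero T ((skipEmb 1).trans (Function.Embedding.refl _))).upd 1 2 2 (le_of_eq hx23)).upd 2 1 1 (le_of_eq hx32)).upd 2 3 1 (le_of_eq hx34)).upd 3 2 2 (le_of_eq hx43)) ![0,1,1,1] (by decide) (by decide) 1 (by decide))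
        · -- 34=(2,1)
          exact False.elim (cert_false T ((skipEmb 1).trans (Function.Embedding.refl _)) (by norm_num) (fun _ => hall _) (((((LB_zero T ((skipEmb 1).trans (Function.Embedding.refl _))).upd 1 2 2 (le_of_eq hx23)).upd 2 1 1 (le_of_eq hx32)).upd 2 3 2 (le_of_eq hx34)).upd 3 2 1 (le_of_eq hx43)) ![0,2,2,1] (by decide) (by decide) 1 (by decide))
        · -- 34=(1,3)
          exact False.elim (cert_false T ((skipEmb 2).trans (Function.Embedding.refl _)) (by norm_num) (fun _ => hall _) (((((LB_zero T ((skipEmb 2).trans (Function.Embedding.refl _))).upd 1 3 1 (le_of_eq hx14)).upd 2 3 1 (le_of_eq hx34)).upd 3 1 1 (le_of_eq hx41)).upd 3 2 3 (le_of_eq hx43)) ![0,1,1,2] (by decide) (by decide) 1 (by decide))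
        · -- 34=(3,1)
          exact False.elim (cert_false T ((skipEmb 2).trans (Function.Embedding.refl _)) (by norm_num) (fun _ => hall _) (((((LB_zero T ((skipEmb 2).trans (Function.Embedding.refl _))).upd 1 3 1 (le_of_eq hx14)).upd 2 3 3 (le_of_eq hx34)).upd 3 1 1 (le_of_eq hx41)).upd 3 2 1 (le_of_eq hx43)) ![0,1,3,2] (by decide) (by decide) 1 (by decide))
      · -- 24=(1,1)
        exact False.elim (cert_false T ((skipEmb 3).trans (Function.Embedding.refl _)) (by norm_num) (fun _ => hall _) (((((((((LB_zero T ((skipEmb 3).trans (Function.Embedding.refl _))).upd 0 1 1 (le_of_eq hx01)).upd 0 2 1 (le_of_eq hx02)).upd 1 0 1 (le_of_eq hx10)).upd 1 3 1 (le_of_eq hx14)).upd 2 0 1 (le_of_eq hx20)).upd 2 3 1 (le_of_eq hx24)).upd 3 1 1 (le_of_eq hx41)).upd 3 2 1 (le_of_eq hx42)) ![1,1,1,1] (by decide) (by decide) 0 (by decide))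
      · -- 24=(1,2)
        exact False.elim (cert_false T ((skipEmb 3).trans (Function.Embedding.refl _)) (by norm_num) (fun _ => hall _) (((((((((LB_zero T ((skipEmb 3).trans (Function.Embedding.refl _))).upd 0 1 1 (le_of_eq hx01)).upd 0 2 1 (le_of_eq hx02)).upd 1 0 1 (le_of_eq hx10)).upd 1 3 1 (le_of_eq hx14)).upd 2 0 1 (le_of_eq hx20)).upd 2 3 1 (le_of_eq hx24)).upd 3 1 1 (le_of_eq hx41)).upd 3 2 2 (le_of_eq hx42)) ![1,1,1,1] (by decide) (by decide) 0 (by decide))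
      · -- 24=(2,1)
        exact False.elim (cert_false T ((skipEmb 3).trans (Function.Embedding.refl _)) (by norm_num) (fun _ => hall _) (((((((((LB_zero T ((skipEmb 3).trans (Function.Embedding.refl _))).upd 0 1 1 (le_of_eq hx01)).upd 0 2 1 (le_of_eq hx02)).upd 1 0 1 (le_of_eq hx10)).upd 1 3 1 (le_of_eq hx14)).upd 2 0 1 (le_of_eq hx20)).upd 2 3 2 (le_of_eq hx24)).upd 3 1 1 (le_of_eq hx41)).upd 3 2 1 (le_of_eq hx42)) ![1,1,1,1] (by decide) (by decide) 0 (by decide))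
      · -- 24=(1,3)
        exact False.elim (cert_false T ((skipEmb 3).trans (Function.Embedding.refl _)) (by norm_num) (fun _ => hall _) (((((((((LB_zero T ((skipEmb 3).trans (Function.Embedding.refl _))).upd 0 1 1 (le_of_eq hx01)).upd 0 2 1 (le_of_eq hx02)).upd 1 0 1 (le_of_eq hx10)).upd 1 3 1 (le_of_eq hx14)).upd 2 0 1 (le_of_eq hx20)).upd 2 3 1 (le_of_eq hx24)).upd 3 1 1 (le_of_eq hx41)).upd 3 2 3 (le_of_eq hx42)) ![1,1,1,1] (by decide) (by decide) 0 (by decide))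
      · -- 24=(3,1)
        exact False.elim (cert_false T ((skipEmb 3).trans (Function.Embedding.refl _)) (by norm_num) (fun _ => hall _) (((((((((LB_zero T ((skipEmb 3).trans (Function.Embedding.refl _))).upd 0 1 1 (le_of_eq hx01)).upd 0 2 1 (le_of_eq hx02)).upd 1 0 1 (le_of_eq hx10)).upd 1 3 1 (le_of_eq hx14)).upd 2 0 1 (le_of_eq hx20)).upd 2 3 3 (le_of_eq hx24)).upd 3 1 1 (le_of_eq hx41)).upd 3 2 1 (le_of_eq hx42)) ![1,1,1,1] (by decide) (by decide) 0 (by decide))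
    · -- 14=(1,2)
      rcases d24 with ⟨rfl, rfl⟩ | ⟨rfl, rfl⟩ | ⟨rfl, rfl⟩ | ⟨rfl, rfl⟩ | ⟨rfl, rfl⟩ | ⟨rfl, rfl⟩
      · -- 24=(0,0)
        rcases d34 with ⟨rfl, rfl⟩ | ⟨rfl, rfl⟩ | ⟨rfl, rfl⟩ | ⟨rfl, rfl⟩ | ⟨rfl, rfl⟩ | ⟨rfl, rfl⟩
        · -- 34=(0,0)
          refine ⟨(⟨![4, 1, 0, 2, 3], ![2, 1, 3, 4, 0], by decide, by decide⟩ : Equiv.Perm (Fin 5)), T.m 3, T.w 4, Or.inr (Or.inr (Or.inr (Or.inl ?_)))⟩
          show T.m 4 = 2 * T.m 3 ∧ T.m 1 = 2 * T.m 3 ∧ T.m 0 = 2 * T.m 3 ∧ T.m 2 = 2 * T.m 3 ∧ T.m 3 = T.m 3 ∧ T.w 4 = T.w 4 ∧ T.w 1 = 2 * T.w 4 ∧ T.w 0 = 2 * T.w 4 ∧ T.w 2 = 2 * T.w 4 ∧ T.w 3 = 4 * T.w 4 ∧ T.a 4 4 = -2 * T.w 4 ∧ T.a 4 1 = 2 * T.w 4 ∧ T.a 4 0 = 0 ∧ T.a 4 2 = 0 ∧ T.a 4 3 = 0 ∧ T.a 1 1 = -4 * T.w 4 ∧ T.a 1 0 = 2 * T.w 4 ∧ T.a 1 2 = 0 ∧ T.a 1 3 = 0 ∧ T.a 0 0 = -4 * T.w 4 ∧ T.a 0 2 = 2 * T.w 4 ∧ T.a 0 3 = 0 ∧ T.a 2 2 = -4 * T.w 4 ∧ T.a 2 3 = 4 * T.w 4 ∧ T.a 3 3 = -8 * T.w 4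
          refine ⟨?_, ?_, ?_, ?_, ?_, ?_, ?_, ?_, ?_, ?_, ?_, ?_, ?_, ?_, ?_, ?_, ?_, ?_, ?_, ?_, ?_, ?_, ?_, ?_, ?_⟩ <;> omega
        · -- 34=(1,1)
          exact False.elim (cert_false T ((skipEmb 0).trans (Function.Embedding.refl _)) (by norm_num) (fun _ => hall _) (((((((LB_zero T ((skipEmb 0).trans (Function.Embedding.refl _))).upd 0 3 1 (le_of_eq hx14)).upd 1 2 2 (le_of_eq hx23)).upd 2 1 1 (le_of_eq hx32)).upd 2 3 1 (le_of_eq hx34)).upd 3 0 2 (le_of_eq hx41)).upd 3 2 1 (le_of_eq hx43)) ![1,2,2,2] (by decide) (by decide) 0 (by decide))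
        · -- 34=(1,2)
          exact False.elim (cert_false T ((skipEmb 2).trans (Function.Embedding.refl _)) (by norm_num) (fun _ => hall _) (((((LB_zero T ((skipEmb 2).trans (Function.Embedding.refl _))).upd 1 3 1 (le_of_eq hx14)).upd 2 3 1 (le_of_eq hx34)).upd 3 1 2 (le_of_eq hx41)).upd 3 2 2 (le_of_eq hx43)) ![0,1,1,2] (by decide) (by decide) 1 (by decide))
        · -- 34=(2,1)
          exact False.elim (cert_false T ((skipEmb 2).trans (Function.Embedding.refl _)) (by norm_num) (fun _ => hall _) (((((LB_zero T ((skipEmb 2).trans (Function.Embedding.refl _))).upd 1 3 1 (le_of_eq hx14)).upd 2 3 2 (le_of_eq hx34)).upd 3 1 2 (le_of_eq hx41)).upd 3 2 1 (le_of_eq hx43)) ![0,1,2,2] (by decide) (by decide) 1 (by decide))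
        · -- 34=(1,3)
          exact False.elim (cert_false T ((skipEmb 2).trans (Function.Embedding.refl _)) (by norm_num) (fun _ => hall _) (((((LB_zero T ((skipEmb 2).trans (Function.Embedding.refl _))).upd 1 3 1 (le_of_eq hx14)).upd 2 3 1 (le_of_eq hx34)).upd 3 1 2 (le_of_eq hx41)).upd 3 2 3 (le_of_eq hx43)) ![0,1,1,2] (by decide) (by decide) 1 (by decide))
        · -- 34=(3,1)
          exact False.elim (cert_false T ((skipEmb 2).trans (Function.Embedding.refl _)) (by norm_num) (fun _ => hall _) (((((LB_zero T ((skipEmb 2).trans (Function.Embedding.refl _))).upd 1 3 1 (le_of_eq hx14)).upd 2 3 3 (le_of_eq hx34)).upd 3 1 2 (le_of_eq hx41)).upd 3 2 1 (le_of_eq hx43)) ![0,1,2,2] (by decide) (by decide) 1 (by decide))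
      · -- 24=(1,1)
        exact False.elim (cert_false T ((skipEmb 3).trans (Function.Embedding.refl _)) (by norm_num) (fun _ => hall _) (((((((((LB_zero T ((skipEmb 3).trans (Function.Embedding.refl _))).upd 0 1 1 (le_of_eq hx01)).upd 0 2 1 (le_of_eq hx02)).upd 1 0 1 (le_of_eq hx10)).upd 1 3 1 (le_of_eq hx14)).upd 2 0 1 (le_of_eq hx20)).upd 2 3 1 (le_of_eq hx24)).upd 3 1 2 (le_of_eq hx41)).upd 3 2 1 (le_of_eq hx42)) ![1,1,1,1] (by decide) (by decide) 0 (by decide))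
      · -- 24=(1,2)
        exact False.elim (cert_false T ((skipEmb 3).trans (Function.Embedding.refl _)) (by norm_num) (fun _ => hall _) (((((((((LB_zero T ((skipEmb 3).trans (Function.Embedding.refl _))).upd 0 1 1 (le_of_eq hx01)).upd 0 2 1 (le_of_eq hx02)).upd 1 0 1 (le_of_eq hx10)).upd 1 3 1 (le_of_eq hx14)).upd 2 0 1 (le_of_eq hx20)).upd 2 3 1 (le_of_eq hx24)).upd 3 1 2 (le_of_eq hx41)).upd 3 2 2 (le_of_eq hx42)) ![1,1,1,1] (by decide) (by decide) 0 (by decide))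
      · -- 24=(2,1)
        exact False.elim (cert_false T ((skipEmb 3).trans (Function.Embedding.refl _)) (by norm_num) (fun _ => hall _) (((((((((LB_zero T ((skipEmb 3).trans (Function.Embedding.refl _))).upd 0 1 1 (le_of_eq hx01)).upd 0 2 1 (le_of_eq hx02)).upd 1 0 1 (le_of_eq hx10)).upd 1 3 1 (le_of_eq hx14)).upd 2 0 1 (le_of_eq hx20)).upd 2 3 2 (le_of_eq hx24)).upd 3 1 2 (le_of_eq hx41)).upd 3 2 1 (le_of_eq hx42)) ![1,1,1,1] (by decide) (by decide) 0 (by decide))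
      · -- 24=(1,3)
        exact False.elim (cert_false T ((skipEmb 3).trans (Function.Embedding.refl _)) (by norm_num) (fun _ => hall _) (((((((((LB_zero T ((skipEmb 3).trans (Function.Embedding.refl _))).upd 0 1 1 (le_of_eq hx01)).upd 0 2 1 (le_of_eq hx02)).upd 1 0 1 (le_of_eq hx10)).upd 1 3 1 (le_of_eq hx14)).upd 2 0 1 (le_of_eq hx20)).upd 2 3 1 (le_of_eq hx24)).upd 3 1 2 (le_of_eq hx41)).upd 3 2 3 (le_of_eq hx42)) ![1,1,1,1] (by decide) (by decide) 0 (by decide))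
      · -- 24=(3,1)
        exact False.elim (cert_false T ((skipEmb 3).trans (Function.Embedding.refl _)) (by norm_num) (fun _ => hall _) (((((((((LB_zero T ((skipEmb 3).trans (Function.Embedding.refl _))).upd 0 1 1 (le_of_eq hx01)).upd 0 2 1 (le_of_eq hx02)).upd 1 0 1 (le_of_eq hx10)).upd 1 3 1 (le_of_eq hx14)).upd 2 0 1 (le_of_eq hx20)).upd 2 3 3 (le_of_eq hx24)).upd 3 1 2 (le_of_eq hx41)).upd 3 2 1 (le_of_eq hx42)) ![1,1,1,1] (by decide) (by decide) 0 (by decide))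
    · -- 14=(2,1)
      rcases d24 with ⟨rfl, rfl⟩ | ⟨rfl, rfl⟩ | ⟨rfl, rfl⟩ | ⟨rfl, rfl⟩ | ⟨rfl, rfl⟩ | ⟨rfl, rfl⟩
      · -- 24=(0,0)
        rcases d34 with ⟨rfl, rfl⟩ | ⟨rfl, rfl⟩ | ⟨rfl, rfl⟩ | ⟨rfl, rfl⟩ | ⟨rfl, rfl⟩ | ⟨rfl, rfl⟩
        · -- 34=(0,0)
          refine ⟨(⟨![3, 2, 0, 1, 4], ![2, 3, 1, 0, 4], by decide, by decide⟩ : Equiv.Perm (Fin 5)), T.m 3, T.w 2, Or.inr (Or.inr (Or.inr (Or.inr (Or.inr (Or.inl ?_)))))⟩
          show T.m 3 = T.m 3 ∧ T.m 2 = 2 * T.m 3 ∧ T.m 0 = 2 * T.m 3 ∧ T.m 1 = 2 * T.m 3 ∧ T.m 4 = T.m 3 ∧ T.w 3 = 2 * T.w 2 ∧ T.w 2 = T.w 2 ∧ T.w 0 = T.w 2 ∧ T.w 1 = T.w 2 ∧ T.w 4 = 2 * T.w 2 ∧ T.a 3 3 = -4 * T.w 2 ∧ T.a 3 2 = 2 * T.w 2 ∧ T.a 3 0 = 0 ∧ T.a 3 1 = 0 ∧ T.a 3 4 = 0 ∧ T.a 2 2 = -2 * T.w 2 ∧ T.a 2 0 = T.w 2 ∧ T.a 2 1 = 0 ∧ T.a 2 4 = 0 ∧ T.a 0 0 = -2 * T.w 2 ∧ T.a 0 1 = T.w 2 ∧ T.a 0 4 = 0 ∧ T.a 1 1 = -2 * T.w 2 ∧ T.a 1 4 = 2 * T.w 2 ∧ T.a 4 4 = -4 * T.w 2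
          refine ⟨?_, ?_, ?_, ?_, ?_, ?_, ?_, ?_, ?_, ?_, ?_, ?_, ?_, ?_, ?_, ?_, ?_, ?_, ?_, ?_, ?_, ?_, ?_, ?_, ?_⟩ <;> omega
        · -- 34=(1,1)
          exact False.elim (cert_false T ((skipEmb 0).trans (Function.Embedding.refl _)) (by norm_num) (fun _ => hall _) (((((((LB_zero T ((skipEmb 0).trans (Function.Embedding.refl _))).upd 0 3 2 (le_of_eq hx14)).upd 1 2 2 (le_of_eq hx23)).upd 2 1 1 (le_of_eq hx32)).upd 2 3 1 (le_of_eq hx34)).upd 3 0 1 (le_of_eq hx41)).upd 3 2 1 (le_of_eq hx43)) ![1,1,1,1] (by decide) (by decide) 0 (by decide))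
        · -- 34=(1,2)
          exact False.elim (cert_false T ((skipEmb 2).trans (Function.Embedding.refl _)) (by norm_num) (fun _ => hall _) (((((LB_zero T ((skipEmb 2).trans (Function.Embedding.refl _))).upd 1 3 2 (le_of_eq hx14)).upd 2 3 1 (le_of_eq hx34)).upd 3 1 1 (le_of_eq hx41)).upd 3 2 2 (le_of_eq hx43)) ![0,2,1,2] (by decide) (by decide) 1 (by decide))
        · -- 34=(2,1)
          exact False.elim (cert_false T ((skipEmb 2).trans (Function.Embedding.refl _)) (by norm_num) (fun _ => hall _) (((((LB_zero T ((skipEmb 2).trans (Function.Embedding.refl _))).upd 1 3 2 (le_of_eq hx14)).upd 2 3 2 (le_of_eq hx34)).upd 3 1 1 (le_of_eq hx41)).upd 3 2 1 (le_of_eq hx43)) ![0,1,1,1] (by decide) (by decide) 1 (by decide))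
        · -- 34=(1,3)
          exact False.elim (cert_false T ((skipEmb 2).trans (Function.Embedding.refl _)) (by norm_num) (fun _ => hall _) (((((LB_zero T ((skipEmb 2).trans (Function.Embedding.refl _))).upd 1 3 2 (le_of_eq hx14)).upd 2 3 1 (le_of_eq hx34)).upd 3 1 1 (le_of_eq hx41)).upd 3 2 3 (le_of_eq hx43)) ![0,1,1,2] (by decide) (by decide) 1 (by decide))
        · -- 34=(3,1)
          exact False.elim (cert_false T ((skipEmb 2).trans (Function.Embedding.refl _)) (by norm_num) (fun _ => hall _) (((((LB_zero T ((skipEmb 2).trans (Function.Embedding.refl _))).upd 1 3 2 (le_of_eq hx14)).upd 2 3 3 (le_of_eq hx34)).upd 3 1 1 (le_of_eq hx41)).upd 3 2 1 (le_of_eq hx43)) ![0,1,1,1] (by decide) (by decide) 1 (by decide))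
      · -- 24=(1,1)
        exact False.elim (cert_false T ((skipEmb 3).trans (Function.Embedding.refl _)) (by norm_num) (fun _ => hall _) (((((((((LB_zero T ((skipEmb 3).trans (Function.Embedding.refl _))).upd 0 1 1 (le_of_eq hx01)).upd 0 2 1 (le_of_eq hx02)).upd 1 0 1 (le_of_eq hx10)).upd 1 3 2 (le_of_eq hx14)).upd 2 0 1 (le_of_eq hx20)).upd 2 3 1 (le_of_eq hx24)).upd 3 1 1 (le_of_eq hx41)).upd 3 2 1 (le_of_eq hx42)) ![1,1,1,1] (by decide) (by decide) 0 (by decide))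
      · -- 24=(1,2)
        exact False.elim (cert_false T ((skipEmb 3).trans (Function.Embedding.refl _)) (by norm_num) (fun _ => hall _) (((((((((LB_zero T ((skipEmb 3).trans (Function.Embedding.refl _))).upd 0 1 1 (le_of_eq hx01)).upd 0 2 1 (le_of_eq hx02)).upd 1 0 1 (le_of_eq hx10)).upd 1 3 2 (le_of_eq hx14)).upd 2 0 1 (le_of_eq hx20)).upd 2 3 1 (le_of_eq hx24)).upd 3 1 1 (le_of_eq hx41)).upd 3 2 2 (le_of_eq hx42)) ![1,1,1,1] (by decide) (by decide) 0 (by decide))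
      · -- 24=(2,1)
        exact False.elim (cert_false T ((skipEmb 3).trans (Function.Embedding.refl _)) (by norm_num) (fun _ => hall _) (((((LB_zero T ((skipEmb 3).trans (Function.Embedding.refl _))).upd 1 3 2 (le_of_eq hx14)).upd 2 3 2 (le_of_eq hx24)).upd 3 1 1 (le_of_eq hx41)).upd 3 2 1 (le_of_eq hx42)) ![0,1,1,1] (by decide) (by decide) 1 (by decide))
      · -- 24=(1,3)
        exact False.elim (cert_false T ((skipEmb 3).trans (Function.Embedding.refl _)) (by norm_num) (fun _ => hall _) (((((((((LB_zero T ((skipEmb 3).trans (Function.Embedding.refl _))).upd 0 1 1 (le_of_eq hx01)).upd 0 2 1 (le_of_eq hx02)).upd 1 0 1 (le_of_eq hx10)).upd 1 3 2 (le_of_eq hx14)).upd 2 0 1 (le_of_eq hx20)).upd 2 3 1 (le_of_eq hx24)).upd 3 1 1 (le_of_eq hx41)).upd 3 2 3 (le_of_eq hx42)) ![1,1,1,1] (by decide) (by decide) 0 (by decide))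
      · -- 24=(3,1)
        exact False.elim (cert_false T ((skipEmb 3).trans (Function.Embedding.refl _)) (by norm_num) (fun _ => hall _) (((((LB_zero T ((skipEmb 3).trans (Function.Embedding.refl _))).upd 1 3 2 (le_of_eq hx14)).upd 2 3 3 (le_of_eq hx24)).upd 3 1 1 (le_of_eq hx41)).upd 3 2 1 (le_of_eq hx42)) ![0,1,1,1] (by decide) (by decide) 1 (by decide))
    · -- 14=(1,3)
      exact False.elim (cert_false T ((skipEmb 3).trans (Function.Embedding.refl _)) (by norm_num) (fun _ => hall _) (((((LB_zero T ((skipEmb 3).trans (Function.Embedding.refl _))).upd 0 1 1 (le_of_eq hx01)).upd 1 0 1 (le_of_eq hx10)).upd 1 3 1 (le_of_eq hx14)).upd 3 1 3 (le_of_eq hx41)) ![1,2,0,3] (by decide) (by decide) 0 (by decide))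
    · -- 14=(3,1)
      exact False.elim (cert_false T ((skipEmb 3).trans (Function.Embedding.refl _)) (by norm_num) (fun _ => hall _) (((((LB_zero T ((skipEmb 3).trans (Function.Embedding.refl _))).upd 0 1 1 (le_of_eq hx01)).upd 1 0 1 (le_of_eq hx10)).upd 1 3 3 (le_of_eq hx14)).upd 3 1 1 (le_of_eq hx41)) ![1,2,0,1] (by decide) (by decide) 0 (by decide))
  · -- 04=(1,1)
    rcases d14 with ⟨rfl, rfl⟩ | ⟨rfl, rfl⟩ | ⟨rfl, rfl⟩ | ⟨rfl, rfl⟩ | ⟨rfl, rfl⟩ | ⟨rfl, rfl⟩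
    · -- 14=(0,0)
      rcases d24 with ⟨rfl, rfl⟩ | ⟨rfl, rfl⟩ | ⟨rfl, rfl⟩ | ⟨rfl, rfl⟩ | ⟨rfl, rfl⟩ | ⟨rfl, rfl⟩
      · -- 24=(0,0)
        rcases d34 with ⟨rfl, rfl⟩ | ⟨rfl, rfl⟩ | ⟨rfl, rfl⟩ | ⟨rfl, rfl⟩ | ⟨rfl, rfl⟩ | ⟨rfl, rfl⟩
        · -- 34=(0,0)
          refine ⟨(⟨![3, 2, 0, 1, 4], ![2, 3, 1, 0, 4], by decide, by decide⟩ : Equiv.Perm (Fin 5)), T.m 3, T.w 2, Or.inr (Or.inr (Or.inr (Or.inr (Or.inr (Or.inr (Or.inr (Or.inl ?_)))))))⟩
          show T.m 3 = T.m 3 ∧ T.m 2 = 2 * T.m 3 ∧ T.m 0 = 2 * T.m 3 ∧ T.m 1 = T.m 3 ∧ T.m 4 = T.m 3 ∧ T.w 3 = 2 * T.w 2 ∧ T.w 2 = T.w 2 ∧ T.w 0 = T.w 2 ∧ T.w 1 = T.w 2 ∧ T.w 4 = T.w 2 ∧ T.a 3 3 = -4 * T.w 2 ∧ T.a 3 2 = 2 * T.w 2 ∧ T.a 3 0 = 0 ∧ T.a 3 1 = 0 ∧ T.a 3 4 = 0 ∧ T.a 2 2 = -2 * T.w 2 ∧ T.a 2 0 = T.w 2 ∧ T.a 2 1 = 0 ∧ T.a 2 4 = 0 ∧ T.a 0 0 = -2 * T.w 2 ∧ T.a 0 1 = T.w 2 ∧ T.a 0 4 = T.w 2 ∧ T.a 1 1 = -2 * T.w 2 ∧ T.a 1 4 = 0 ∧ T.a 4 4 = -2 * T.w 2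
          refine ⟨?_, ?_, ?_, ?_, ?_, ?_, ?_, ?_, ?_, ?_, ?_, ?_, ?_, ?_, ?_, ?_, ?_, ?_, ?_, ?_, ?_, ?_, ?_, ?_, ?_⟩ <;> omega
        · -- 34=(1,1)
          exact False.elim (cert_false T ((skipEmb 1).trans (Function.Embedding.refl _)) (by norm_num) (fun _ => hall _) (((((((((LB_zero T ((skipEmb 1).trans (Function.Embedding.refl _))).upd 0 1 1 (le_of_eq hx02)).upd 0 3 1 (le_of_eq hx04)).upd 1 0 1 (le_of_eq hx20)).upd 1 2 2 (le_of_eq hx23)).upd 2 1 1 (le_of_eq hx32)).upd 2 3 1 (le_of_eq hx34)).upd 3 0 1 (le_of_eq hx40)).upd 3 2 1 (le_of_eq hx43)) ![1,1,1,1] (by decide) (by decide) 0 (by decide))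
        · -- 34=(1,2)
          exact False.elim (cert_false T ((skipEmb 1).trans (Function.Embedding.refl _)) (by norm_num) (fun _ => hall _) (((((LB_zero T ((skipEmb 1).trans (Function.Embedding.refl _))).upd 1 2 2 (le_of_eq hx23)).upd 2 1 1 (le_of_eq hx32)).upd 2 3 1 (le_of_eq hx34)).upd 3 2 2 (le_of_eq hx43)) ![0,1,1,1] (by decide) (by decide) 1 (by decide))
        · -- 34=(2,1)
          exact False.elim (cert_false T ((skipEmb 1).trans (Function.Embedding.refl _)) (by norm_num) (fun _ => hall _) (((((((((LB_zero T ((skipEmb 1).trans (Function.Embedding.refl _))).upd 0 1 1 (le_of_eq hx02)).upd 0 3 1 (le_of_eq hx04)).upd 1 0 1 (le_of_eq hx20)).upd 1 2 2 (le_of_eq hx23)).upd 2 1 1 (le_of_eq hx32)).upd 2 3 2 (le_of_eq hx34)).upd 3 0 1 (le_of_eq hx40)).upd 3 2 1 (le_of_eq hx43)) ![1,1,1,1] (by decide) (by decide) 0 (by decide))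
        · -- 34=(1,3)
          exact False.elim (cert_false T ((skipEmb 2).trans (Function.Embedding.refl _)) (by norm_num) (fun _ => hall _) (((((LB_zero T ((skipEmb 2).trans (Function.Embedding.refl _))).upd 0 3 1 (le_of_eq hx04)).upd 2 3 1 (le_of_eq hx34)).upd 3 0 1 (le_of_eq hx40)).upd 3 2 3 (le_of_eq hx43)) ![1,0,1,2] (by decide) (by decide) 0 (by decide))
        · -- 34=(3,1)
          exact False.elim (cert_false T ((skipEmb 2).trans (Function.Embedding.refl _)) (by norm_num) (fun _ => hall _) (((((LB_zero T ((skipEmb 2).trans (Function.Embedding.refl _))).upd 0 3 1 (le_of_eq hx04)).upd 2 3 3 (le_of_eq hx34)).upd 3 0 1 (le_of_eq hx40)).upd 3 2 1 (le_of_eq hx43)) ![1,0,3,2] (by decide) (by decide) 0 (by decide))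
      · -- 24=(1,1)
        exact False.elim (cert_false T ((skipEmb 3).trans (Function.Embedding.refl _)) (by norm_num) (fun _ => hall _) (((((((LB_zero T ((skipEmb 3).trans (Function.Embedding.refl _))).upd 0 2 1 (le_of_eq hx02)).upd 0 3 1 (le_of_eq hx04)).upd 2 0 1 (le_of_eq hx20)).upd 2 3 1 (le_of_eq hx24)).upd 3 0 1 (le_of_eq hx40)).upd 3 2 1 (le_of_eq hx42)) ![1,0,1,1] (by decide) (by decide) 0 (by decide))
      · -- 24=(1,2)
        exact False.elim (cert_false T ((skipEmb 3).trans (Function.Embedding.refl _)) (by norm_num) (fun _ => hall _) (((((((LB_zero T ((skipEmb 3).trans (Function.Embedding.refl _))).upd 0 2 1 (le_of_eq hx02)).upd 0 3 1 (le_of_eq hx04)).upd 2 0 1 (le_of_eq hx20)).upd 2 3 1 (le_of_eq hx24)).upd 3 0 1 (le_of_eq hx40)).upd 3 2 2 (le_of_eq hx42)) ![1,0,1,1] (by decide) (by decide) 0 (by decide))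
      · -- 24=(2,1)
        exact False.elim (cert_false T ((skipEmb 3).trans (Function.Embedding.refl _)) (by norm_num) (fun _ => hall _) (((((((LB_zero T ((skipEmb 3).trans (Function.Embedding.refl _))).upd 0 2 1 (le_of_eq hx02)).upd 0 3 1 (le_of_eq hx04)).upd 2 0 1 (le_of_eq hx20)).upd 2 3 2 (le_of_eq hx24)).upd 3 0 1 (le_of_eq hx40)).upd 3 2 1 (le_of_eq hx42)) ![1,0,1,1] (by decide) (by decide) 0 (by decide))
      · -- 24=(1,3)
        exact False.elim (cert_false T ((skipEmb 3).trans (Function.Embedding.refl _)) (by norm_num) (fun _ => hall _) (((((((LB_zero T ((skipEmb 3).trans (Function.Embedding.refl _))).upd 0 2 1 (le_of_eq hx02)).upd 0 3 1 (le_of_eq hx04)).upd 2 0 1 (le_of_eq hx20)).upd 2 3 1 (le_of_eq hx24)).upd 3 0 1 (le_of_eq hx40)).upd 3 2 3 (le_of_eq hx42)) ![1,0,1,1] (by decide) (by decide) 0 (by decide))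
      · -- 24=(3,1)
        exact False.elim (cert_false T ((skipEmb 3).trans (Function.Embedding.refl _)) (by norm_num) (fun _ => hall _) (((((((LB_zero T ((skipEmb 3).trans (Function.Embedding.refl _))).upd 0 2 1 (le_of_eq hx02)).upd 0 3 1 (le_of_eq hx04)).upd 2 0 1 (le_of_eq hx20)).upd 2 3 3 (le_of_eq hx24)).upd 3 0 1 (le_of_eq hx40)).upd 3 2 1 (le_of_eq hx42)) ![1,0,1,1] (by decide) (by decide) 0 (by decide))
    · -- 14=(1,1)
      exact False.elim (cert_false T ((skipEmb 3).trans (Function.Embedding.refl _)) (by norm_num) (fun _ => hall _) (((((((LB_zero T ((skipEmb 3).trans (Function.Embedding.refl _))).upd 0 1 1 (le_of_eq hx01)).upd 0 3 1 (le_of_eq hx04)).upd 1 0 1 (le_of_eq hx10)).upd 1 3 1 (le_of_eq hx14)).upd 3 0 1 (le_of_eq hx40)).upd 3 1 1 (le_of_eq hx41)) ![1,1,0,1] (by decide) (by decide) 0 (by decide))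
    · -- 14=(1,2)
      exact False.elim (cert_false T ((skipEmb 3).trans (Function.Embedding.refl _)) (by norm_num) (fun _ => hall _) (((((((LB_zero T ((skipEmb 3).trans (Function.Embedding.refl _))).upd 0 1 1 (le_of_eq hx01)).upd 0 3 1 (le_of_eq hx04)).upd 1 0 1 (le_of_eq hx10)).upd 1 3 1 (le_of_eq hx14)).upd 3 0 1 (le_of_eq hx40)).upd 3 1 2 (le_of_eq hx41)) ![1,1,0,1] (by decide) (by decide) 0 (by decide))
    · -- 14=(2,1)
      exact False.elim (cert_false T ((skipEmb 3).trans (Function.Embedding.refl _)) (by norm_num) (fun _ => hall _) (((((((LB_zero T ((skipEmb 3).trans (Function.Embedding.refl _))).upd 0 1 1 (le_of_eq hx01)).upd 0 3 1 (le_of_eq hx04)).upd 1 0 1 (le_of_eq hx10)).upd 1 3 2 (le_of_eq hx14)).upd 3 0 1 (le_of_eq hx40)).upd 3 1 1 (le_of_eq hx41)) ![1,1,0,1] (by decide) (by decide) 0 (by decide))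
    · -- 14=(1,3)
      exact False.elim (cert_false T ((skipEmb 3).trans (Function.Embedding.refl _)) (by norm_num) (fun _ => hall _) (((((((LB_zero T ((skipEmb 3).trans (Function.Embedding.refl _))).upd 0 1 1 (le_of_eq hx01)).upd 0 3 1 (le_of_eq hx04)).upd 1 0 1 (le_of_eq hx10)).upd 1 3 1 (le_of_eq hx14)).upd 3 0 1 (le_of_eq hx40)).upd 3 1 3 (le_of_eq hx41)) ![1,1,0,1] (by decide) (by decide) 0 (by decide))
    · -- 14=(3,1)
      exact False.elim (cert_false T ((skipEmb 3).trans (Function.Embedding.refl _)) (by norm_num) (fun _ => hall _) (((((((LB_zero T ((skipEmb 3).trans (Function.Embedding.refl _))).upd 0 1 1 (le_of_eq hx01)).upd 0 3 1 (le_of_eq hx04)).upd 1 0 1 (le_of_eq hx10)).upd 1 3 3 (le_of_eq hx14)).upd 3 0 1 (le_of_eq hx40)).upd 3 1 1 (le_of_eq hx41)) ![1,1,0,1] (by decide) (by decide) 0 (by decide))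
  · -- 04=(1,2)
    exact False.elim (cert_false T ((skipEmb 3).trans (Function.Embedding.refl _)) (by norm_num) (fun _ => hall _) (((((((LB_zero T ((skipEmb 3).trans (Function.Embedding.refl _))).upd 0 1 1 (le_of_eq hx01)).upd 0 2 1 (le_of_eq hx02)).upd 0 3 1 (le_of_eq hx04)).upd 1 0 1 (le_of_eq hx10)).upd 2 0 1 (le_of_eq hx20)).upd 3 0 2 (le_of_eq hx40)) ![2,1,1,2] (by decide) (by decide) 0 (by decide))
  · -- 04=(2,1)
    exact False.elim (cert_false T ((skipEmb 3).trans (Function.Embedding.refl _)) (by norm_num) (fun _ => hall _) (((((((LB_zero T ((skipEmb 3).trans (Function.Embedding.refl _))).upd 0 1 1 (le_of_eq hx01)).upd 0 2 1 (le_of_eq hx02)).upd 0 3 2 (le_of_eq hx04)).upd 1 0 1 (le_of_eq hx10)).upd 2 0 1 (le_of_eq hx20)).upd 3 0 1 (le_of_eq hx40)) ![2,1,1,1] (by decide) (by decide) 0 (by decide))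
  · -- 04=(1,3)
    exact False.elim (cert_false T ((skipEmb 3).trans (Function.Embedding.refl _)) (by norm_num) (fun _ => hall _) (((((((LB_zero T ((skipEmb 3).trans (Function.Embedding.refl _))).upd 0 1 1 (le_of_eq hx01)).upd 0 2 1 (le_of_eq hx02)).upd 0 3 1 (le_of_eq hx04)).upd 1 0 1 (le_of_eq hx10)).upd 2 0 1 (le_of_eq hx20)).upd 3 0 3 (le_of_eq hx40)) ![2,1,1,2] (by decide) (by decide) 0 (by decide))
  · -- 04=(3,1)
    exact False.elim (cert_false T ((skipEmb 3).trans (Function.Embedding.refl _)) (by norm_num) (fun _ => hall _) (((((LB_zero T ((skipEmb 3).trans (Function.Embedding.refl _))).upd 0 2 1 (le_of_eq hx02)).upd 0 3 3 (le_of_eq hx04)).upd 2 0 1 (le_of_eq hx20)).upd 3 0 1 (le_of_eq hx40)) ![2,0,1,1] (by decide) (by decide) 0 (by decide))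

theorem case419 (T : NumericalType 5) (hall : ∀ i, T.IsMinusTwo i) (d : SData T)
    (h01 : N T (Function.Embedding.refl _) 0 1 = 1) (h10 : N T (Function.Embedding.refl _) 1 0 = 1)
    (h02 : N T (Function.Embedding.refl _) 0 2 = 1) (h20 : N T (Function.Embedding.refl _) 2 0 = 1)
    (h12 : N T (Function.Embedding.refl _) 1 2 = 0) (h21 : N T (Function.Embedding.refl _) 2 1 = 0)
    (h03 : N T (Function.Embedding.refl _) 0 3 = 0) (h30 : N T (Function.Embedding.refl _) 3 0 = 0)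
    (h13 : N T (Function.Embedding.refl _) 1 3 = 0) (h31 : N T (Function.Embedding.refl _) 3 1 = 0) :
    Goal T := by
  unfold Goal
  have hd := d
  obtain ⟨x01, x02, x03, x04, x10, x12, x13, x14, x20, x21, x23, x24, x30, x31, x32, x34, x40, x41, x42, x43, hx01, hx02, hx03, hx04, hx10, hx12, hx13, hx14, hx20, hx21, hx23, hx24, hx30, hx31, hx32, hx34, hx40, hx41, hx42, hx43, hw0, hm0, hw1, hm1, hw2, hm2, hw3, hm3, hw4, hm4, a00, a01, a02, a03, a04, a11, a10, a12, a13, a14, a22, a20, a21, a23, a24, a33, a30, a31, a32, a34, a44, a40, a41, a42, a43, wN01, wN02, wN12, wN03, wN13, wN23, wN04, wN14, wN24, wN34, e0, e1, e2, e3, e4, d01, d02, d12, d03, d13, d23, d04, d14, d24, d34⟩ := d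
  obtain rfl : x01 = 1 := hx01.trans h01
  obtain rfl : x10 = 1 := hx10.trans h10
  obtain rfl : x02 = 1 := hx02.trans h02
  obtain rfl : x20 = 1 := hx20.trans h20
  obtain rfl : x12 = 0 := hx12.trans h12
  obtain rfl : x21 = 0 := hx21.trans h21
  obtain rfl : x03 = 0 := hx03.trans h03
  obtain rfl : x30 = 0 := hx30.trans h30
  obtain rfl : x13 = 0 := hx13.trans h13
  obtain rfl : x31 = 0 := hx31.trans h31
  rcases d23 with ⟨rfl, rfl⟩ | ⟨rfl, rfl⟩ | ⟨rfl, rfl⟩ | ⟨rfl, rfl⟩ | ⟨rfl, rfl⟩ | ⟨rfl, rfl⟩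
  · -- 23=(0,0)
    exact case420 T hall hd hx01.symm hx10.symm hx02.symm hx20.symm hx12.symm hx21.symm hx03.symm hx30.symm hx13.symm hx31.symm hx23.symm hx32.symm
  · -- 23=(1,1)
    exact case422 T hall hd hx01.symm hx10.symm hx02.symm hx20.symm hx12.symm hx21.symm hx03.symm hx30.symm hx13.symm hx31.symm hx23.symm hx32.symm
  · -- 23=(1,2)
    exact case424 T hall hd hx01.symm hx10.symm hx02.symm hx20.symm hx12.symm hx21.symm hx03.symm hx30.symm hx13.symm hx31.symm hx23.symm hx32.symm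
  · -- 23=(2,1)
    exact case425 T hall hd hx01.symm hx10.symm hx02.symm hx20.symm hx12.symm hx21.symm hx03.symm hx30.symm hx13.symm hx31.symm hx23.symm hx32.symm
  · -- 23=(1,3)
    exact False.elim (cert_false T ((skipEmb 4).trans (Function.Embedding.refl _)) (by norm_num) (fun _ => hall _) (((((LB_zero T ((skipEmb 4).trans (Function.Embedding.refl _))).upd 0 2 1 (le_of_eq hx02)).upd 2 0 1 (le_of_eq hx20)).upd 2 3 1 (le_of_eq hx23)).upd 3 2 3 (le_of_eq hx32)) ![1,0,2,3] (by decide) (by decide) 0 (by decide))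
  · -- 23=(3,1)
    exact False.elim (cert_false T ((skipEmb 4).trans (Function.Embedding.refl _)) (by norm_num) (fun _ => hall _) (((((LB_zero T ((skipEmb 4).trans (Function.Embedding.refl _))).upd 0 2 1 (le_of_eq hx02)).upd 2 0 1 (le_of_eq hx20)).upd 2 3 3 (le_of_eq hx23)).upd 3 2 1 (le_of_eq hx32)) ![1,0,2,1] (by decide) (by decide) 0 (by decide))

theorem case435 (T : NumericalType 5) (hall : ∀ i, T.IsMinusTwo i) (d : SData T)
    (h01 : N T (Function.Embedding.refl _) 0 1 = 1) (h10 : N T (Function.Embedding.refl _) 1 0 = 1)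
    (h02 : N T (Function.Embedding.refl _) 0 2 = 1) (h20 : N T (Function.Embedding.refl _) 2 0 = 1)
    (h12 : N T (Function.Embedding.refl _) 1 2 = 0) (h21 : N T (Function.Embedding.refl _) 2 1 = 0)
    (h03 : N T (Function.Embedding.refl _) 0 3 = 1) (h30 : N T (Function.Embedding.refl _) 3 0 = 1)
    (h13 : N T (Function.Embedding.refl _) 1 3 = 0) (h31 : N T (Function.Embedding.refl _) 3 1 = 0)
    (h23 : N T (Function.Embedding.refl _) 2 3 = 0) (h32 : N T (Function.Embedding.refl _) 3 2 = 0)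
    (h04 : N T (Function.Embedding.refl _) 0 4 = 0) (h40 : N T (Function.Embedding.refl _) 4 0 = 0) :
    Goal T := by
  unfold Goal
  have hd := d
  obtain ⟨x01, x02, x03, x04, x10, x12, x13, x14, x20, x21, x23, x24, x30, x31, x32, x34, x40, x41, x42, x43, hx01, hx02, hx03, hx04, hx10, hx12, hx13, hx14, hx20, hx21, hx23, hx24, hx30, hx31, hx32, hx34, hx40, hx41, hx42, hx43, hw0, hm0, hw1, hm1, hw2, hm2, hw3, hm3, hw4, hm4, a00, a01, a02, a03, a04, a11, a10, a12, a13, a14, a22, a20, a21, a23, a24, a33, a30, a31, a32, a34, a44, a40, a41, a42, a43, wN01, wN02, wN12, wN03, wN13, wN23, wN04, wN14, wN24, wN34, e0, e1, e2, e3, e4, d01, d02, d12, d03, d13, d23, d04, d14, d24, d34⟩ := d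
  obtain rfl : x01 = 1 := hx01.trans h01
  obtain rfl : x10 = 1 := hx10.trans h10
  obtain rfl : x02 = 1 := hx02.trans h02
  obtain rfl : x20 = 1 := hx20.trans h20
  obtain rfl : x12 = 0 := hx12.trans h12
  obtain rfl : x21 = 0 := hx21.trans h21
  obtain rfl : x03 = 1 := hx03.trans h03
  obtain rfl : x30 = 1 := hx30.trans h30
  obtain rfl : x13 = 0 := hx13.trans h13
  obtain rfl : x31 = 0 := hx31.trans h31
  obtain rfl : x23 = 0 := hx23.trans h23
  obtain rfl : x32 = 0 := hx32.trans h32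
  obtain rfl : x04 = 0 := hx04.trans h04
  obtain rfl : x40 = 0 := hx40.trans h40
  rcases d14 with ⟨rfl, rfl⟩ | ⟨rfl, rfl⟩ | ⟨rfl, rfl⟩ | ⟨rfl, rfl⟩ | ⟨rfl, rfl⟩ | ⟨rfl, rfl⟩
  · -- 14=(0,0)
    rcases d24 with ⟨rfl, rfl⟩ | ⟨rfl, rfl⟩ | ⟨rfl, rfl⟩ | ⟨rfl, rfl⟩ | ⟨rfl, rfl⟩ | ⟨rfl, rfl⟩
    · -- 24=(0,0)
      rcases d34 with ⟨rfl, rfl⟩ | ⟨rfl, rfl⟩ | ⟨rfl, rfl⟩ | ⟨rfl, rfl⟩ | ⟨rfl, rfl⟩ | ⟨rfl, rfl⟩
      · -- 34=(0,0)
        exfalso; omega
      · -- 34=(1,1)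
        exfalso; omega
      · -- 34=(1,2)
        refine ⟨(⟨![4, 3, 0, 1, 2], ![2, 3, 4, 1, 0], by decide, by decide⟩ : Equiv.Perm (Fin 5)), T.m 1, T.w 4, Or.inr (Or.inr (Or.inr (Or.inr (Or.inr (Or.inr (Or.inr (Or.inr (?_))))))))⟩
        show T.m 4 = 2 * T.m 1 ∧ T.m 3 = 2 * T.m 1 ∧ T.m 0 = 2 * T.m 1 ∧ T.m 1 = T.m 1 ∧ T.m 2 = T.m 1 ∧ T.w 4 = T.w 4 ∧ T.w 3 = 2 * T.w 4 ∧ T.w 0 = 2 * T.w 4 ∧ T.w 1 = 2 * T.w 4 ∧ T.w 2 = 2 * T.w 4 ∧ T.a 4 4 = -2 * T.w 4 ∧ T.a 4 3 = 2 * T.w 4 ∧ T.a 4 0 = 0 ∧ T.a 4 1 = 0 ∧ T.a 4 2 = 0 ∧ T.a 3 3 = -4 * T.w 4 ∧ T.a 3 0 = 2 * T.w 4 ∧ T.a 3 1 = 0 ∧ T.a 3 2 = 0 ∧ T.a 0 0 = -4 * T.w 4 ∧ T.a 0 1 = 2 * T.w 4 ∧ T.a 0 2 = 2 * T.w 4 ∧ T.a 1 1 = -4 * T.w 4 ∧ T.a 1 2 = 0 ∧ T.a 2 2 = -4 * T.w 4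
        refine ⟨?_, ?_, ?_, ?_, ?_, ?_, ?_, ?_, ?_, ?_, ?_, ?_, ?_, ?_, ?_, ?_, ?_, ?_, ?_, ?_, ?_, ?_, ?_, ?_, ?_⟩ <;> omega
      · -- 34=(2,1)
        refine ⟨(⟨![4, 3, 0, 1, 2], ![2, 3, 4, 1, 0], by decide, by decide⟩ : Equiv.Perm (Fin 5)), T.m 4, T.w 3, Or.inr (Or.inr (Or.inr (Or.inr (Or.inr (Or.inr (Or.inr (Or.inl ?_)))))))⟩
        show T.m 4 = T.m 4 ∧ T.m 3 = 2 * T.m 4 ∧ T.m 0 = 2 * T.m 4 ∧ T.m 1 = T.m 4 ∧ T.m 2 = T.m 4 ∧ T.w 4 = 2 * T.w 3 ∧ T.w 3 = T.w 3 ∧ T.w 0 = T.w 3 ∧ T.w 1 = T.w 3 ∧ T.w 2 = T.w 3 ∧ T.a 4 4 = -4 * T.w 3 ∧ T.a 4 3 = 2 * T.w 3 ∧ T.a 4 0 = 0 ∧ T.a 4 1 = 0 ∧ T.a 4 2 = 0 ∧ T.a 3 3 = -2 * T.w 3 ∧ T.a 3 0 = T.w 3 ∧ T.a 3 1 = 0 ∧ T.a 3 2 = 0 ∧ T.a 0 0 = -2 * T.w 3 ∧ T.a 0 1 = T.w 3 ∧ T.a 0 2 = T.w 3 ∧ T.a 1 1 = -2 * T.w 3 ∧ T.a 1 2 = 0 ∧ T.a 2 2 = -2 * T.w 3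
        refine ⟨?_, ?_, ?_, ?_, ?_, ?_, ?_, ?_, ?_, ?_, ?_, ?_, ?_, ?_, ?_, ?_, ?_, ?_, ?_, ?_, ?_, ?_, ?_, ?_, ?_⟩ <;> omega
      · -- 34=(1,3)
        exact False.elim (cert_false T ((skipEmb 2).trans (Function.Embedding.refl _)) (by norm_num) (fun _ => hall _) (((((LB_zero T ((skipEmb 2).trans (Function.Embedding.refl _))).upd 0 2 1 (le_of_eq hx03)).upd 2 0 1 (le_of_eq hx30)).upd 2 3 1 (le_of_eq hx34)).upd 3 2 3 (le_of_eq hx43)) ![1,0,2,3] (by decide) (by decide) 0 (by decide))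
      · -- 34=(3,1)
        exact False.elim (cert_false T ((skipEmb 2).trans (Function.Embedding.refl _)) (by norm_num) (fun _ => hall _) (((((LB_zero T ((skipEmb 2).trans (Function.Embedding.refl _))).upd 0 2 1 (le_of_eq hx03)).upd 2 0 1 (le_of_eq hx30)).upd 2 3 3 (le_of_eq hx34)).upd 3 2 1 (le_of_eq hx43)) ![1,0,2,1] (by decide) (by decide) 0 (by decide))
    · -- 24=(1,1)
      rcases d34 with ⟨rfl, rfl⟩ | ⟨rfl, rfl⟩ | ⟨rfl, rfl⟩ | ⟨rfl, rfl⟩ | ⟨rfl, rfl⟩ | ⟨rfl, rfl⟩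
      · -- 34=(0,0)
        exfalso; omega
      · -- 34=(1,1)
        exact False.elim (cert_false T ((skipEmb 1).trans (Function.Embedding.refl _)) (by norm_num) (fun _ => hall _) (((((((((LB_zero T ((skipEmb 1).trans (Function.Embedding.refl _))).upd 0 1 1 (le_of_eq hx02)).upd 0 2 1 (le_of_eq hx03)).upd 1 0 1 (le_of_eq hx20)).upd 1 3 1 (le_of_eq hx24)).upd 2 0 1 (le_of_eq hx30)).upd 2 3 1 (le_of_eq hx34)).upd 3 1 1 (le_of_eq hx42)).upd 3 2 1 (le_of_eq hx43)) ![1,1,1,1] (by decide) (by decide) 0 (by decide))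
      · -- 34=(1,2)
        exact False.elim (cert_false T ((skipEmb 1).trans (Function.Embedding.refl _)) (by norm_num) (fun _ => hall _) (((((((((LB_zero T ((skipEmb 1).trans (Function.Embedding.refl _))).upd 0 1 1 (le_of_eq hx02)).upd 0 2 1 (le_of_eq hx03)).upd 1 0 1 (le_of_eq hx20)).upd 1 3 1 (le_of_eq hx24)).upd 2 0 1 (le_of_eq hx30)).upd 2 3 1 (le_of_eq hx34)).upd 3 1 1 (le_of_eq hx42)).upd 3 2 2 (le_of_eq hx43)) ![1,1,1,1] (by decide) (by decide) 0 (by decide))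
      · -- 34=(2,1)
        exact False.elim (cert_false T ((skipEmb 1).trans (Function.Embedding.refl _)) (by norm_num) (fun _ => hall _) (((((((((LB_zero T ((skipEmb 1).trans (Function.Embedding.refl _))).upd 0 1 1 (le_of_eq hx02)).upd 0 2 1 (le_of_eq hx03)).upd 1 0 1 (le_of_eq hx20)).upd 1 3 1 (le_of_eq hx24)).upd 2 0 1 (le_of_eq hx30)).upd 2 3 2 (le_of_eq hx34)).upd 3 1 1 (le_of_eq hx42)).upd 3 2 1 (le_of_eq hx43)) ![1,1,1,1] (by decide) (by decide) 0 (by decide))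
      · -- 34=(1,3)
        exact False.elim (cert_false T ((skipEmb 2).trans (Function.Embedding.refl _)) (by norm_num) (fun _ => hall _) (((((LB_zero T ((skipEmb 2).trans (Function.Embedding.refl _))).upd 0 2 1 (le_of_eq hx03)).upd 2 0 1 (le_of_eq hx30)).upd 2 3 1 (le_of_eq hx34)).upd 3 2 3 (le_of_eq hx43)) ![1,0,2,3] (by decide) (by decide) 0 (by decide))
      · -- 34=(3,1)
        exact False.elim (cert_false T ((skipEmb 2).trans (Function.Embedding.refl _)) (by norm_num) (fun _ => hall _) (((((LB_zero T ((skipEmb 2).trans (Function.Embedding.refl _))).upd 0 2 1 (le_of_eq hx03)).upd 2 0 1 (le_of_eq hx30)).upd 2 3 3 (le_of_eq hx34)).upd 3 2 1 (le_of_eq hx43)) ![1,0,2,1] (by decide) (by decide) 0 (by decide))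
    · -- 24=(1,2)
      rcases d34 with ⟨rfl, rfl⟩ | ⟨rfl, rfl⟩ | ⟨rfl, rfl⟩ | ⟨rfl, rfl⟩ | ⟨rfl, rfl⟩ | ⟨rfl, rfl⟩
      · -- 34=(0,0)
        refine ⟨(⟨![4, 2, 0, 1, 3], ![2, 3, 1, 4, 0], by decide, by decide⟩ : Equiv.Perm (Fin 5)), T.m 1, T.w 4, Or.inr (Or.inr (Or.inr (Or.inr (Or.inr (Or.inr (Or.inr (Or.inr (?_))))))))⟩
        show T.m 4 = 2 * T.m 1 ∧ T.m 2 = 2 * T.m 1 ∧ T.m 0 = 2 * T.m 1 ∧ T.m 1 = T.m 1 ∧ T.m 3 = T.m 1 ∧ T.w 4 = T.w 4 ∧ T.w 2 = 2 * T.w 4 ∧ T.w 0 = 2 * T.w 4 ∧ T.w 1 = 2 * T.w 4 ∧ T.w 3 = 2 * T.w 4 ∧ T.a 4 4 = -2 * T.w 4 ∧ T.a 4 2 = 2 * T.w 4 ∧ T.a 4 0 = 0 ∧ T.a 4 1 = 0 ∧ T.a 4 3 = 0 ∧ T.a 2 2 = -4 * T.w 4 ∧ T.a 2 0 = 2 * T.w 4 ∧ T.a 2 1 = 0 ∧ T.a 2 3 = 0 ∧ T.a 0 0 = -4 * T.w 4 ∧ T.a 0 1 = 2 * T.w 4 ∧ T.a 0 3 = 2 * T.w 4 ∧ T.a 1 1 = -4 * T.w 4 ∧ T.a 1 3 = 0 ∧ T.a 3 3 = -4 * T.w 4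
        refine ⟨?_, ?_, ?_, ?_, ?_, ?_, ?_, ?_, ?_, ?_, ?_, ?_, ?_, ?_, ?_, ?_, ?_, ?_, ?_, ?_, ?_, ?_, ?_, ?_, ?_⟩ <;> omega
      · -- 34=(1,1)
        exact False.elim (cert_false T ((skipEmb 1).trans (Function.Embedding.refl _)) (by norm_num) (fun _ => hall _) (((((((((LB_zero T ((skipEmb 1).trans (Function.Embedding.refl _))).upd 0 1 1 (le_of_eq hx02)).upd 0 2 1 (le_of_eq hx03)).upd 1 0 1 (le_of_eq hx20)).upd 1 3 1 (le_of_eq hx24)).upd 2 0 1 (le_of_eq hx30)).upd 2 3 1 (le_of_eq hx34)).upd 3 1 2 (le_of_eq hx42)).upd 3 2 1 (le_of_eq hx43)) ![1,1,1,1] (by decide) (by decide) 0 (by decide))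
      · -- 34=(1,2)
        exact False.elim (cert_false T ((skipEmb 1).trans (Function.Embedding.refl _)) (by norm_num) (fun _ => hall _) (((((((((LB_zero T ((skipEmb 1).trans (Function.Embedding.refl _))).upd 0 1 1 (le_of_eq hx02)).upd 0 2 1 (le_of_eq hx03)).upd 1 0 1 (le_of_eq hx20)).upd 1 3 1 (le_of_eq hx24)).upd 2 0 1 (le_of_eq hx30)).upd 2 3 1 (le_of_eq hx34)).upd 3 1 2 (le_of_eq hx42)).upd 3 2 2 (le_of_eq hx43)) ![1,1,1,1] (by decide) (by decide) 0 (by decide))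
      · -- 34=(2,1)
        exact False.elim (cert_false T ((skipEmb 1).trans (Function.Embedding.refl _)) (by norm_num) (fun _ => hall _) (((((((((LB_zero T ((skipEmb 1).trans (Function.Embedding.refl _))).upd 0 1 1 (le_of_eq hx02)).upd 0 2 1 (le_of_eq hx03)).upd 1 0 1 (le_of_eq hx20)).upd 1 3 1 (le_of_eq hx24)).upd 2 0 1 (le_of_eq hx30)).upd 2 3 2 (le_of_eq hx34)).upd 3 1 2 (le_of_eq hx42)).upd 3 2 1 (le_of_eq hx43)) ![1,1,1,1] (by decide) (by decide) 0 (by decide))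
      · -- 34=(1,3)
        exact False.elim (cert_false T ((skipEmb 2).trans (Function.Embedding.refl _)) (by norm_num) (fun _ => hall _) (((((LB_zero T ((skipEmb 2).trans (Function.Embedding.refl _))).upd 0 2 1 (le_of_eq hx03)).upd 2 0 1 (le_of_eq hx30)).upd 2 3 1 (le_of_eq hx34)).upd 3 2 3 (le_of_eq hx43)) ![1,0,2,3] (by decide) (by decide) 0 (by decide))
      · -- 34=(3,1)
        exact False.elim (cert_false T ((skipEmb 2).trans (Function.Embedding.refl _)) (by norm_num) (fun _ => hall _) (((((LB_zero T ((skipEmb 2).trans (Function.Embedding.refl _))).upd 0 2 1 (le_of_eq hx03)).upd 2 0 1 (le_of_eq hx30)).upd 2 3 3 (le_of_eq hx34)).upd 3 2 1 (le_of_eq hx43)) ![1,0,2,1] (by decide) (by decide) 0 (by decide))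
    · -- 24=(2,1)
      rcases d34 with ⟨rfl, rfl⟩ | ⟨rfl, rfl⟩ | ⟨rfl, rfl⟩ | ⟨rfl, rfl⟩ | ⟨rfl, rfl⟩ | ⟨rfl, rfl⟩
      · -- 34=(0,0)
        refine ⟨(⟨![4, 2, 0, 1, 3], ![2, 3, 1, 4, 0], by decide, by decide⟩ : Equiv.Perm (Fin 5)), T.m 4, T.w 2, Or.inr (Or.inr (Or.inr (Or.inr (Or.inr (Or.inr (Or.inr (Or.inl ?_)))))))⟩
        show T.m 4 = T.m 4 ∧ T.m 2 = 2 * T.m 4 ∧ T.m 0 = 2 * T.m 4 ∧ T.m 1 = T.m 4 ∧ T.m 3 = T.m 4 ∧ T.w 4 = 2 * T.w 2 ∧ T.w 2 = T.w 2 ∧ T.w 0 = T.w 2 ∧ T.w 1 = T.w 2 ∧ T.w 3 = T.w 2 ∧ T.a 4 4 = -4 * T.w 2 ∧ T.a 4 2 = 2 * T.w 2 ∧ T.a 4 0 = 0 ∧ T.a 4 1 = 0 ∧ T.a 4 3 = 0 ∧ T.a 2 2 = -2 * T.w 2 ∧ T.a 2 0 = T.w 2 ∧ T.a 2 1 = 0 ∧ T.a 2 3 = 0 ∧ T.a 0 0 = -2 * T.w 2 ∧ T.a 0 1 = T.w 2 ∧ T.a 0 3 = T.w 2 ∧ T.a 1 1 = -2 * T.w 2 ∧ T.a 1 3 = 0 ∧ T.a 3 3 = -2 * T.w 2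
        refine ⟨?_, ?_, ?_, ?_, ?_, ?_, ?_, ?_, ?_, ?_, ?_, ?_, ?_, ?_, ?_, ?_, ?_, ?_, ?_, ?_, ?_, ?_, ?_, ?_, ?_⟩ <;> omega
      · -- 34=(1,1)
        exact False.elim (cert_false T ((skipEmb 1).trans (Function.Embedding.refl _)) (by norm_num) (fun _ => hall _) (((((((((LB_zero T ((skipEmb 1).trans (Function.Embedding.refl _))).upd 0 1 1 (le_of_eq hx02)).upd 0 2 1 (le_of_eq hx03)).upd 1 0 1 (le_of_eq hx20)).upd 1 3 2 (le_of_eq hx24)).upd 2 0 1 (le_of_eq hx30)).upd 2 3 1 (le_of_eq hx34)).upd 3 1 1 (le_of_eq hx42)).upd 3 2 1 (le_of_eq hx43)) ![1,1,1,1] (by decide) (by decide) 0 (by decide))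
      · -- 34=(1,2)
        exact False.elim (cert_false T ((skipEmb 1).trans (Function.Embedding.refl _)) (by norm_num) (fun _ => hall _) (((((((((LB_zero T ((skipEmb 1).trans (Function.Embedding.refl _))).upd 0 1 1 (le_of_eq hx02)).upd 0 2 1 (le_of_eq hx03)).upd 1 0 1 (le_of_eq hx20)).upd 1 3 2 (le_of_eq hx24)).upd 2 0 1 (le_of_eq hx30)).upd 2 3 1 (le_of_eq hx34)).upd 3 1 1 (le_of_eq hx42)).upd 3 2 2 (le_of_eq hx43)) ![1,1,1,1] (by decide) (by decide) 0 (by decide))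
      · -- 34=(2,1)
        exact False.elim (cert_false T ((skipEmb 1).trans (Function.Embedding.refl _)) (by norm_num) (fun _ => hall _) (((((LB_zero T ((skipEmb 1).trans (Function.Embedding.refl _))).upd 1 3 2 (le_of_eq hx24)).upd 2 3 2 (le_of_eq hx34)).upd 3 1 1 (le_of_eq hx42)).upd 3 2 1 (le_of_eq hx43)) ![0,1,1,1] (by decide) (by decide) 1 (by decide))
      · -- 34=(1,3)
        exact False.elim (cert_false T ((skipEmb 2).trans (Function.Embedding.refl _)) (by norm_num) (fun _ => hall _) (((((LB_zero T ((skipEmb 2).trans (Function.Embedding.refl _))).upd 0 2 1 (le_of_eq hx03)).upd 2 0 1 (le_of_eq hx30)).upd 2 3 1 (le_of_eq hx34)).upd 3 2 3 (le_of_eq hx43)) ![1,0,2,3] (by decide) (by decide) 0 (by decide))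
      · -- 34=(3,1)
        exact False.elim (cert_false T ((skipEmb 2).trans (Function.Embedding.refl _)) (by norm_num) (fun _ => hall _) (((((LB_zero T ((skipEmb 2).trans (Function.Embedding.refl _))).upd 0 2 1 (le_of_eq hx03)).upd 2 0 1 (le_of_eq hx30)).upd 2 3 3 (le_of_eq hx34)).upd 3 2 1 (le_of_eq hx43)) ![1,0,2,1] (by decide) (by decide) 0 (by decide))
    · -- 24=(1,3)
      exact False.elim (cert_false T ((skipEmb 3).trans (Function.Embedding.refl _)) (by norm_num) (fun _ => hall _) (((((LB_zero T ((skipEmb 3).trans (Function.Embedding.refl _))).upd 0 2 1 (le_of_eq hx02)).upd 2 0 1 (le_of_eq hx20)).upd 2 3 1 (le_of_eq hx24)).upd 3 2 3 (le_of_eq hx42)) ![1,0,2,3] (by decide) (by decide) 0 (by decide))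
    · -- 24=(3,1)
      exact False.elim (cert_false T ((skipEmb 3).trans (Function.Embedding.refl _)) (by norm_num) (fun _ => hall _) (((((LB_zero T ((skipEmb 3).trans (Function.Embedding.refl _))).upd 0 2 1 (le_of_eq hx02)).upd 2 0 1 (le_of_eq hx20)).upd 2 3 3 (le_of_eq hx24)).upd 3 2 1 (le_of_eq hx42)) ![1,0,2,1] (by decide) (by decide) 0 (by decide))
  · -- 14=(1,1)
    rcases d24 with ⟨rfl, rfl⟩ | ⟨rfl, rfl⟩ | ⟨rfl, rfl⟩ | ⟨rfl, rfl⟩ | ⟨rfl, rfl⟩ | ⟨rfl, rfl⟩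
    · -- 24=(0,0)
      rcases d34 with ⟨rfl, rfl⟩ | ⟨rfl, rfl⟩ | ⟨rfl, rfl⟩ | ⟨rfl, rfl⟩ | ⟨rfl, rfl⟩ | ⟨rfl, rfl⟩
      · -- 34=(0,0)
        exfalso; omega
      · -- 34=(1,1)
        exact False.elim (cert_false T ((skipEmb 2).trans (Function.Embedding.refl _)) (by norm_num) (fun _ => hall _) (((((((((LB_zero T ((skipEmb 2).trans (Function.Embedding.refl _))).upd 0 1 1 (le_of_eq hx01)).upd 0 2 1 (le_of_eq hx03)).upd 1 0 1 (le_of_eq hx10)).upd 1 3 1 (le_of_eq hx14)).upd 2 0 1 (le_of_eq hx30)).upd 2 3 1 (le_of_eq hx34)).upd 3 1 1 (le_of_eq hx41)).upd 3 2 1 (le_of_eq hx43)) ![1,1,1,1] (by decide) (by decide) 0 (by decide))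
      · -- 34=(1,2)
        exact False.elim (cert_false T ((skipEmb 2).trans (Function.Embedding.refl _)) (by norm_num) (fun _ => hall _) (((((((((LB_zero T ((skipEmb 2).trans (Function.Embedding.refl _))).upd 0 1 1 (le_of_eq hx01)).upd 0 2 1 (le_of_eq hx03)).upd 1 0 1 (le_of_eq hx10)).upd 1 3 1 (le_of_eq hx14)).upd 2 0 1 (le_of_eq hx30)).upd 2 3 1 (le_of_eq hx34)).upd 3 1 1 (le_of_eq hx41)).upd 3 2 2 (le_of_eq hx43)) ![1,1,1,1] (by decide) (by decide) 0 (by decide))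
      · -- 34=(2,1)
        exact False.elim (cert_false T ((skipEmb 2).trans (Function.Embedding.refl _)) (by norm_num) (fun _ => hall _) (((((((((LB_zero T ((skipEmb 2).trans (Function.Embedding.refl _))).upd 0 1 1 (le_of_eq hx01)).upd 0 2 1 (le_of_eq hx03)).upd 1 0 1 (le_of_eq hx10)).upd 1 3 1 (le_of_eq hx14)).upd 2 0 1 (le_of_eq hx30)).upd 2 3 2 (le_of_eq hx34)).upd 3 1 1 (le_of_eq hx41)).upd 3 2 1 (le_of_eq hx43)) ![1,1,1,1] (by decide) (by decide) 0 (by decide))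
      · -- 34=(1,3)
        exact False.elim (cert_false T ((skipEmb 2).trans (Function.Embedding.refl _)) (by norm_num) (fun _ => hall _) (((((((((LB_zero T ((skipEmb 2).trans (Function.Embedding.refl _))).upd 0 1 1 (le_of_eq hx01)).upd 0 2 1 (le_of_eq hx03)).upd 1 0 1 (le_of_eq hx10)).upd 1 3 1 (le_of_eq hx14)).upd 2 0 1 (le_of_eq hx30)).upd 2 3 1 (le_of_eq hx34)).upd 3 1 1 (le_of_eq hx41)).upd 3 2 3 (le_of_eq hx43)) ![1,1,1,1] (by decide) (by decide) 0 (by decide))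
      · -- 34=(3,1)
        exact False.elim (cert_false T ((skipEmb 2).trans (Function.Embedding.refl _)) (by norm_num) (fun _ => hall _) (((((((((LB_zero T ((skipEmb 2).trans (Function.Embedding.refl _))).upd 0 1 1 (le_of_eq hx01)).upd 0 2 1 (le_of_eq hx03)).upd 1 0 1 (le_of_eq hx10)).upd 1 3 1 (le_of_eq hx14)).upd 2 0 1 (le_of_eq hx30)).upd 2 3 3 (le_of_eq hx34)).upd 3 1 1 (le_of_eq hx41)).upd 3 2 1 (le_of_eq hx43)) ![1,1,1,1] (by decide) (by decide) 0 (by decide))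
    · -- 24=(1,1)
      exact False.elim (cert_false T ((skipEmb 3).trans (Function.Embedding.refl _)) (by norm_num) (fun _ => hall _) (((((((((LB_zero T ((skipEmb 3).trans (Function.Embedding.refl _))).upd 0 1 1 (le_of_eq hx01)).upd 0 2 1 (le_of_eq hx02)).upd 1 0 1 (le_of_eq hx10)).upd 1 3 1 (le_of_eq hx14)).upd 2 0 1 (le_of_eq hx20)).upd 2 3 1 (le_of_eq hx24)).upd 3 1 1 (le_of_eq hx41)).upd 3 2 1 (le_of_eq hx42)) ![1,1,1,1] (by decide) (by decide) 0 (by decide))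
    · -- 24=(1,2)
      exact False.elim (cert_false T ((skipEmb 3).trans (Function.Embedding.refl _)) (by norm_num) (fun _ => hall _) (((((((((LB_zero T ((skipEmb 3).trans (Function.Embedding.refl _))).upd 0 1 1 (le_of_eq hx01)).upd 0 2 1 (le_of_eq hx02)).upd 1 0 1 (le_of_eq hx10)).upd 1 3 1 (le_of_eq hx14)).upd 2 0 1 (le_of_eq hx20)).upd 2 3 1 (le_of_eq hx24)).upd 3 1 1 (le_of_eq hx41)).upd 3 2 2 (le_of_eq hx42)) ![1,1,1,1] (by decide) (by decide) 0 (by decide))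
    · -- 24=(2,1)
      exact False.elim (cert_false T ((skipEmb 3).trans (Function.Embedding.refl _)) (by norm_num) (fun _ => hall _) (((((((((LB_zero T ((skipEmb 3).trans (Function.Embedding.refl _))).upd 0 1 1 (le_of_eq hx01)).upd 0 2 1 (le_of_eq hx02)).upd 1 0 1 (le_of_eq hx10)).upd 1 3 1 (le_of_eq hx14)).upd 2 0 1 (le_of_eq hx20)).upd 2 3 2 (le_of_eq hx24)).upd 3 1 1 (le_of_eq hx41)).upd 3 2 1 (le_of_eq hx42)) ![1,1,1,1] (by decide) (by decide) 0 (by decide))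
    · -- 24=(1,3)
      exact False.elim (cert_false T ((skipEmb 3).trans (Function.Embedding.refl _)) (by norm_num) (fun _ => hall _) (((((((((LB_zero T ((skipEmb 3).trans (Function.Embedding.refl _))).upd 0 1 1 (le_of_eq hx01)).upd 0 2 1 (le_of_eq hx02)).upd 1 0 1 (le_of_eq hx10)).upd 1 3 1 (le_of_eq hx14)).upd 2 0 1 (le_of_eq hx20)).upd 2 3 1 (le_of_eq hx24)).upd 3 1 1 (le_of_eq hx41)).upd 3 2 3 (le_of_eq hx42)) ![1,1,1,1] (by decide) (by decide) 0 (by decide))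
    · -- 24=(3,1)
      exact False.elim (cert_false T ((skipEmb 3).trans (Function.Embedding.refl _)) (by norm_num) (fun _ => hall _) (((((((((LB_zero T ((skipEmb 3).trans (Function.Embedding.refl _))).upd 0 1 1 (le_of_eq hx01)).upd 0 2 1 (le_of_eq hx02)).upd 1 0 1 (le_of_eq hx10)).upd 1 3 1 (le_of_eq hx14)).upd 2 0 1 (le_of_eq hx20)).upd 2 3 3 (le_of_eq hx24)).upd 3 1 1 (le_of_eq hx41)).upd 3 2 1 (le_of_eq hx42)) ![1,1,1,1] (by decide) (by decide) 0 (by decide))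
  · -- 14=(1,2)
    rcases d24 with ⟨rfl, rfl⟩ | ⟨rfl, rfl⟩ | ⟨rfl, rfl⟩ | ⟨rfl, rfl⟩ | ⟨rfl, rfl⟩ | ⟨rfl, rfl⟩
    · -- 24=(0,0)
      rcases d34 with ⟨rfl, rfl⟩ | ⟨rfl, rfl⟩ | ⟨rfl, rfl⟩ | ⟨rfl, rfl⟩ | ⟨rfl, rfl⟩ | ⟨rfl, rfl⟩
      · -- 34=(0,0)
        refine ⟨(⟨![4, 1, 0, 2, 3], ![2, 1, 3, 4, 0], by decide, by decide⟩ : Equiv.Perm (Fin 5)), T.m 2, T.w 4, Or.inr (Or.inr (Or.inr (Or.inr (Or.inr (Or.inr (Or.inr (Or.inr (?_))))))))⟩
        show T.m 4 = 2 * T.m 2 ∧ T.m 1 = 2 * T.m 2 ∧ T.m 0 = 2 * T.m 2 ∧ T.m 2 = T.m 2 ∧ T.m 3 = T.m 2 ∧ T.w 4 = T.w 4 ∧ T.w 1 = 2 * T.w 4 ∧ T.w 0 = 2 * T.w 4 ∧ T.w 2 = 2 * T.w 4 ∧ T.w 3 = 2 * T.w 4 ∧ T.a 4 4 = -2 * T.w 4 ∧ T.a 4 1 = 2 * T.w 4 ∧ T.a 4 0 = 0 ∧ T.a 4 2 = 0 ∧ T.a 4 3 = 0 ∧ T.a 1 1 = -4 * T.w 4 ∧ T.a 1 0 = 2 * T.w 4 ∧ T.a 1 2 = 0 ∧ T.a 1 3 = 0 ∧ T.a 0 0 = -4 * T.w 4 ∧ T.a 0 2 = 2 * T.w 4 ∧ T.a 0 3 = 2 * T.w 4 ∧ T.a 2 2 = -4 * T.w 4 ∧ T.a 2 3 = 0 ∧ T.a 3 3 = -4 * T.w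 4
        refine ⟨?_, ?_, ?_, ?_, ?_, ?_, ?_, ?_, ?_, ?_, ?_, ?_, ?_, ?_, ?_, ?_, ?_, ?_, ?_, ?_, ?_, ?_, ?_, ?_, ?_⟩ <;> omega
      · -- 34=(1,1)
        exact False.elim (cert_false T ((skipEmb 2).trans (Function.Embedding.refl _)) (by norm_num) (fun _ => hall _) (((((((((LB_zero T ((skipEmb 2).trans (Function.Embedding.refl _))).upd 0 1 1 (le_of_eq hx01)).upd 0 2 1 (le_of_eq hx03)).upd 1 0 1 (le_of_eq hx10)).upd 1 3 1 (le_of_eq hx14)).upd 2 0 1 (le_of_eq hx30)).upd 2 3 1 (le_of_eq hx34)).upd 3 1 2 (le_of_eq hx41)).upd 3 2 1 (le_of_eq hx43)) ![1,1,1,1] (by decide) (by decide) 0 (by decide))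
      · -- 34=(1,2)
        exact False.elim (cert_false T ((skipEmb 2).trans (Function.Embedding.refl _)) (by norm_num) (fun _ => hall _) (((((((((LB_zero T ((skipEmb 2).trans (Function.Embedding.refl _))).upd 0 1 1 (le_of_eq hx01)).upd 0 2 1 (le_of_eq hx03)).upd 1 0 1 (le_of_eq hx10)).upd 1 3 1 (le_of_eq hx14)).upd 2 0 1 (le_of_eq hx30)).upd 2 3 1 (le_of_eq hx34)).upd 3 1 2 (le_of_eq hx41)).upd 3 2 2 (le_of_eq hx43)) ![1,1,1,1] (by decide) (by decide) 0 (by decide))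
      · -- 34=(2,1)
        exact False.elim (cert_false T ((skipEmb 2).trans (Function.Embedding.refl _)) (by norm_num) (fun _ => hall _) (((((((((LB_zero T ((skipEmb 2).trans (Function.Embedding.refl _))).upd 0 1 1 (le_of_eq hx01)).upd 0 2 1 (le_of_eq hx03)).upd 1 0 1 (le_of_eq hx10)).upd 1 3 1 (le_of_eq hx14)).upd 2 0 1 (le_of_eq hx30)).upd 2 3 2 (le_of_eq hx34)).upd 3 1 2 (le_of_eq hx41)).upd 3 2 1 (le_of_eq hx43)) ![1,1,1,1] (by decide) (by decide) 0 (by decide))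
      · -- 34=(1,3)
        exact False.elim (cert_false T ((skipEmb 2).trans (Function.Embedding.refl _)) (by norm_num) (fun _ => hall _) (((((((((LB_zero T ((skipEmb 2).trans (Function.Embedding.refl _))).upd 0 1 1 (le_of_eq hx01)).upd 0 2 1 (le_of_eq hx03)).upd 1 0 1 (le_of_eq hx10)).upd 1 3 1 (le_of_eq hx14)).upd 2 0 1 (le_of_eq hx30)).upd 2 3 1 (le_of_eq hx34)).upd 3 1 2 (le_of_eq hx41)).upd 3 2 3 (le_of_eq hx43)) ![1,1,1,1] (by decide) (by decide) 0 (by decide))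
      · -- 34=(3,1)
        exact False.elim (cert_false T ((skipEmb 2).trans (Function.Embedding.refl _)) (by norm_num) (fun _ => hall _) (((((((((LB_zero T ((skipEmb 2).trans (Function.Embedding.refl _))).upd 0 1 1 (le_of_eq hx01)).upd 0 2 1 (le_of_eq hx03)).upd 1 0 1 (le_of_eq hx10)).upd 1 3 1 (le_of_eq hx14)).upd 2 0 1 (le_of_eq hx30)).upd 2 3 3 (le_of_eq hx34)).upd 3 1 2 (le_of_eq hx41)).upd 3 2 1 (le_of_eq hx43)) ![1,1,1,1] (by decide) (by decide) 0 (by decide))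
    · -- 24=(1,1)
      exact False.elim (cert_false T ((skipEmb 3).trans (Function.Embedding.refl _)) (by norm_num) (fun _ => hall _) (((((((((LB_zero T ((skipEmb 3).trans (Function.Embedding.refl _))).upd 0 1 1 (le_of_eq hx01)).upd 0 2 1 (le_of_eq hx02)).upd 1 0 1 (le_of_eq hx10)).upd 1 3 1 (le_of_eq hx14)).upd 2 0 1 (le_of_eq hx20)).upd 2 3 1 (le_of_eq hx24)).upd 3 1 2 (le_of_eq hx41)).upd 3 2 1 (le_of_eq hx42)) ![1,1,1,1] (by decide) (by decide) 0 (by decide))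
    · -- 24=(1,2)
      exact False.elim (cert_false T ((skipEmb 3).trans (Function.Embedding.refl _)) (by norm_num) (fun _ => hall _) (((((((((LB_zero T ((skipEmb 3).trans (Function.Embedding.refl _))).upd 0 1 1 (le_of_eq hx01)).upd 0 2 1 (le_of_eq hx02)).upd 1 0 1 (le_of_eq hx10)).upd 1 3 1 (le_of_eq hx14)).upd 2 0 1 (le_of_eq hx20)).upd 2 3 1 (le_of_eq hx24)).upd 3 1 2 (le_of_eq hx41)).upd 3 2 2 (le_of_eq hx42)) ![1,1,1,1] (by decide) (by decide) 0 (by decide))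
    · -- 24=(2,1)
      exact False.elim (cert_false T ((skipEmb 3).trans (Function.Embedding.refl _)) (by norm_num) (fun _ => hall _) (((((((((LB_zero T ((skipEmb 3).trans (Function.Embedding.refl _))).upd 0 1 1 (le_of_eq hx01)).upd 0 2 1 (le_of_eq hx02)).upd 1 0 1 (le_of_eq hx10)).upd 1 3 1 (le_of_eq hx14)).upd 2 0 1 (le_of_eq hx20)).upd 2 3 2 (le_of_eq hx24)).upd 3 1 2 (le_of_eq hx41)).upd 3 2 1 (le_of_eq hx42)) ![1,1,1,1] (by decide) (by decide) 0 (by decide))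
    · -- 24=(1,3)
      exact False.elim (cert_false T ((skipEmb 3).trans (Function.Embedding.refl _)) (by norm_num) (fun _ => hall _) (((((((((LB_zero T ((skipEmb 3).trans (Function.Embedding.refl _))).upd 0 1 1 (le_of_eq hx01)).upd 0 2 1 (le_of_eq hx02)).upd 1 0 1 (le_of_eq hx10)).upd 1 3 1 (le_of_eq hx14)).upd 2 0 1 (le_of_eq hx20)).upd 2 3 1 (le_of_eq hx24)).upd 3 1 2 (le_of_eq hx41)).upd 3 2 3 (le_of_eq hx42)) ![1,1,1,1] (by decide) (by decide) 0 (by decide))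
    · -- 24=(3,1)
      exact False.elim (cert_false T ((skipEmb 3).trans (Function.Embedding.refl _)) (by norm_num) (fun _ => hall _) (((((((((LB_zero T ((skipEmb 3).trans (Function.Embedding.refl _))).upd 0 1 1 (le_of_eq hx01)).upd 0 2 1 (le_of_eq hx02)).upd 1 0 1 (le_of_eq hx10)).upd 1 3 1 (le_of_eq hx14)).upd 2 0 1 (le_of_eq hx20)).upd 2 3 3 (le_of_eq hx24)).upd 3 1 2 (le_of_eq hx41)).upd 3 2 1 (le_of_eq hx42)) ![1,1,1,1] (by decide) (by decide) 0 (by decide))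
  · -- 14=(2,1)
    rcases d24 with ⟨rfl, rfl⟩ | ⟨rfl, rfl⟩ | ⟨rfl, rfl⟩ | ⟨rfl, rfl⟩ | ⟨rfl, rfl⟩ | ⟨rfl, rfl⟩
    · -- 24=(0,0)
      rcases d34 with ⟨rfl, rfl⟩ | ⟨rfl, rfl⟩ | ⟨rfl, rfl⟩ | ⟨rfl, rfl⟩ | ⟨rfl, rfl⟩ | ⟨rfl, rfl⟩
      · -- 34=(0,0)
        refine ⟨(⟨![4, 1, 0, 2, 3], ![2, 1, 3, 4, 0], by decide, by decide⟩ : Equiv.Perm (Fin 5)), T.m 4, T.w 1, Or.inr (Or.inr (Or.inr (Or.inr (Or.inr (Or.inr (Or.inr (Or.inl ?_)))))))⟩
        show T.m 4 = T.m 4 ∧ T.m 1 = 2 * T.m 4 ∧ T.m 0 = 2 * T.m 4 ∧ T.m 2 = T.m 4 ∧ T.m 3 = T.m 4 ∧ T.w 4 = 2 * T.w 1 ∧ T.w 1 = T.w 1 ∧ T.w 0 = T.w 1 ∧ T.w 2 = T.w 1 ∧ T.w 3 = T.w 1 ∧ T.a 4 4 = -4 * T.w 1 ∧ T.a 4 1 = 2 * T.w 1 ∧ T.a 4 0 = 0 ∧ T.a 4 2 = 0 ∧ T.a 4 3 = 0 ∧ T.a 1 1 = -2 * T.w 1 ∧ T.a 1 0 = T.w 1 ∧ T.a 1 2 = 0 ∧ T.a 1 3 = 0 ∧ T.a 0 0 = -2 * T.w 1 ∧ T.a 0 2 = T.w 1 ∧ T.a 0 3 = T.w 1 ∧ T.a 2 2 = -2 * T.w 1 ∧ T.a 2 3 = 0 ∧ T.a 3 3 = -2 * T.w 1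
        refine ⟨?_, ?_, ?_, ?_, ?_, ?_, ?_, ?_, ?_, ?_, ?_, ?_, ?_, ?_, ?_, ?_, ?_, ?_, ?_, ?_, ?_, ?_, ?_, ?_, ?_⟩ <;> omega
      · -- 34=(1,1)
        exact False.elim (cert_false T ((skipEmb 2).trans (Function.Embedding.refl _)) (by norm_num) (fun _ => hall _) (((((((((LB_zero T ((skipEmb 2).trans (Function.Embedding.refl _))).upd 0 1 1 (le_of_eq hx01)).upd 0 2 1 (le_of_eq hx03)).upd 1 0 1 (le_of_eq hx10)).upd 1 3 2 (le_of_eq hx14)).upd 2 0 1 (le_of_eq hx30)).upd 2 3 1 (le_of_eq hx34)).upd 3 1 1 (le_of_eq hx41)).upd 3 2 1 (le_of_eq hx43)) ![1,1,1,1] (by decide) (by decide) 0 (by decide))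
      · -- 34=(1,2)
        exact False.elim (cert_false T ((skipEmb 2).trans (Function.Embedding.refl _)) (by norm_num) (fun _ => hall _) (((((((((LB_zero T ((skipEmb 2).trans (Function.Embedding.refl _))).upd 0 1 1 (le_of_eq hx01)).upd 0 2 1 (le_of_eq hx03)).upd 1 0 1 (le_of_eq hx10)).upd 1 3 2 (le_of_eq hx14)).upd 2 0 1 (le_of_eq hx30)).upd 2 3 1 (le_of_eq hx34)).upd 3 1 1 (le_of_eq hx41)).upd 3 2 2 (le_of_eq hx43)) ![1,1,1,1] (by decide) (by decide) 0 (by decide))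
      · -- 34=(2,1)
        exact False.elim (cert_false T ((skipEmb 2).trans (Function.Embedding.refl _)) (by norm_num) (fun _ => hall _) (((((LB_zero T ((skipEmb 2).trans (Function.Embedding.refl _))).upd 1 3 2 (le_of_eq hx14)).upd 2 3 2 (le_of_eq hx34)).upd 3 1 1 (le_of_eq hx41)).upd 3 2 1 (le_of_eq hx43)) ![0,1,1,1] (by decide) (by decide) 1 (by decide))
      · -- 34=(1,3)
        exact False.elim (cert_false T ((skipEmb 2).trans (Function.Embedding.refl _)) (by norm_num) (fun _ => hall _) (((((((((LB_zero T ((skipEmb 2).trans (Function.Embedding.refl _))).upd 0 1 1 (le_of_eq hx01)).upd 0 2 1 (le_of_eq hx03)).upd 1 0 1 (le_of_eq hx10)).upd 1 3 2 (le_of_eq hx14)).upd 2 0 1 (le_of_eq hx30)).upd 2 3 1 (le_of_eq hx34)).upd 3 1 1 (le_of_eq hx41)).upd 3 2 3 (le_of_eq hx43)) ![1,1,1,1] (by decide) (by decide) 0 (by decide))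
      · -- 34=(3,1)
        exact False.elim (cert_false T ((skipEmb 2).trans (Function.Embedding.refl _)) (by norm_num) (fun _ => hall _) (((((LB_zero T ((skipEmb 2).trans (Function.Embedding.refl _))).upd 1 3 2 (le_of_eq hx14)).upd 2 3 3 (le_of_eq hx34)).upd 3 1 1 (le_of_eq hx41)).upd 3 2 1 (le_of_eq hx43)) ![0,1,1,1] (by decide) (by decide) 1 (by decide))
    · -- 24=(1,1)
      exact False.elim (cert_false T ((skipEmb 3).trans (Function.Embedding.refl _)) (by norm_num) (fun _ => hall _) (((((((((LB_zero T ((skipEmb 3).trans (Function.Embedding.refl _))).upd 0 1 1 (le_of_eq hx01)).upd 0 2 1 (le_of_eq hx02)).upd 1 0 1 (le_of_eq hx10)).upd 1 3 2 (le_of_eq hx14)).upd 2 0 1 (le_of_eq hx20)).upd 2 3 1 (le_of_eq hx24)).upd 3 1 1 (le_of_eq hx41)).upd 3 2 1 (le_of_eq hx42)) ![1,1,1,1] (by decide) (by decide) 0 (by decide))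
    · -- 24=(1,2)
      exact False.elim (cert_false T ((skipEmb 3).trans (Function.Embedding.refl _)) (by norm_num) (fun _ => hall _) (((((((((LB_zero T ((skipEmb 3).trans (Function.Embedding.refl _))).upd 0 1 1 (le_of_eq hx01)).upd 0 2 1 (le_of_eq hx02)).upd 1 0 1 (le_of_eq hx10)).upd 1 3 2 (le_of_eq hx14)).upd 2 0 1 (le_of_eq hx20)).upd 2 3 1 (le_of_eq hx24)).upd 3 1 1 (le_of_eq hx41)).upd 3 2 2 (le_of_eq hx42)) ![1,1,1,1] (by decide) (by decide) 0 (by decide))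
    · -- 24=(2,1)
      exact False.elim (cert_false T ((skipEmb 3).trans (Function.Embedding.refl _)) (by norm_num) (fun _ => hall _) (((((LB_zero T ((skipEmb 3).trans (Function.Embedding.refl _))).upd 1 3 2 (le_of_eq hx14)).upd 2 3 2 (le_of_eq hx24)).upd 3 1 1 (le_of_eq hx41)).upd 3 2 1 (le_of_eq hx42)) ![0,1,1,1] (by decide) (by decide) 1 (by decide))
    · -- 24=(1,3)
      exact False.elim (cert_false T ((skipEmb 3).trans (Function.Embedding.refl _)) (by norm_num) (fun _ => hall _) (((((((((LB_zero T ((skipEmb 3).trans (Function.Embedding.refl _))).upd 0 1 1 (le_of_eq hx01)).upd 0 2 1 (le_of_eq hx02)).upd 1 0 1 (le_of_eq hx10)).upd 1 3 2 (le_of_eq hx14)).upd 2 0 1 (le_of_eq hx20)).upd 2 3 1 (le_of_eq hx24)).upd 3 1 1 (le_of_eq hx41)).upd 3 2 3 (le_of_eq hx42)) ![1,1,1,1] (by decide) (by decide) 0 (by decide))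
    · -- 24=(3,1)
      exact False.elim (cert_false T ((skipEmb 3).trans (Function.Embedding.refl _)) (by norm_num) (fun _ => hall _) (((((LB_zero T ((skipEmb 3).trans (Function.Embedding.refl _))).upd 1 3 2 (le_of_eq hx14)).upd 2 3 3 (le_of_eq hx24)).upd 3 1 1 (le_of_eq hx41)).upd 3 2 1 (le_of_eq hx42)) ![0,1,1,1] (by decide) (by decide) 1 (by decide))
  · -- 14=(1,3)
    exact False.elim (cert_false T ((skipEmb 3).trans (Function.Embedding.refl _)) (by norm_num) (fun _ => hall _) (((((LB_zero T ((skipEmb 3).trans (Function.Embedding.refl _))).upd 0 1 1 (le_of_eq hx01)).upd 1 0 1 (le_of_eq hx10)).upd 1 3 1 (le_of_eq hx14)).upd 3 1 3 (le_of_eq hx41)) ![1,2,0,3] (by decide) (by decide) 0 (by decide))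
  · -- 14=(3,1)
    exact False.elim (cert_false T ((skipEmb 3).trans (Function.Embedding.refl _)) (by norm_num) (fun _ => hall _) (((((LB_zero T ((skipEmb 3).trans (Function.Embedding.refl _))).upd 0 1 1 (le_of_eq hx01)).upd 1 0 1 (le_of_eq hx10)).upd 1 3 3 (le_of_eq hx14)).upd 3 1 1 (le_of_eq hx41)) ![1,2,0,1] (by decide) (by decide) 0 (by decide))

theorem case434 (T : NumericalType 5) (hall : ∀ i, T.IsMinusTwo i) (d : SData T)
    (h01 : N T (Function.Embedding.refl _) 0 1 = 1) (h10 : N T (Function.Embedding.refl _) 1 0 = 1)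
    (h02 : N T (Function.Embedding.refl _) 0 2 = 1) (h20 : N T (Function.Embedding.refl _) 2 0 = 1)
    (h12 : N T (Function.Embedding.refl _) 1 2 = 0) (h21 : N T (Function.Embedding.refl _) 2 1 = 0)
    (h03 : N T (Function.Embedding.refl _) 0 3 = 1) (h30 : N T (Function.Embedding.refl _) 3 0 = 1)
    (h13 : N T (Function.Embedding.refl _) 1 3 = 0) (h31 : N T (Function.Embedding.refl _) 3 1 = 0)
    (h23 : N T (Function.Embedding.refl _) 2 3 = 0) (h32 : N T (Function.Embedding.refl _) 3 2 = 0) :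
    Goal T := by
  unfold Goal
  have hd := d
  obtain ⟨x01, x02, x03, x04, x10, x12, x13, x14, x20, x21, x23, x24, x30, x31, x32, x34, x40, x41, x42, x43, hx01, hx02, hx03, hx04, hx10, hx12, hx13, hx14, hx20, hx21, hx23, hx24, hx30, hx31, hx32, hx34, hx40, hx41, hx42, hx43, hw0, hm0, hw1, hm1, hw2, hm2, hw3, hm3, hw4, hm4, a00, a01, a02, a03, a04, a11, a10, a12, a13, a14, a22, a20, a21, a23, a24, a33, a30, a31, a32, a34, a44, a40, a41, a42, a43, wN01, wN02, wN12, wN03, wN13, wN23, wN04, wN14, wN24, wN34, e0, e1, e2, e3, e4, d01, d02, d12, d03, d13, d23, d04, d14, d24, d34⟩ := d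
  obtain rfl : x01 = 1 := hx01.trans h01
  obtain rfl : x10 = 1 := hx10.trans h10
  obtain rfl : x02 = 1 := hx02.trans h02
  obtain rfl : x20 = 1 := hx20.trans h20
  obtain rfl : x12 = 0 := hx12.trans h12
  obtain rfl : x21 = 0 := hx21.trans h21
  obtain rfl : x03 = 1 := hx03.trans h03
  obtain rfl : x30 = 1 := hx30.trans h30
  obtain rfl : x13 = 0 := hx13.trans h13
  obtain rfl : x31 = 0 := hx31.trans h31
  obtain rfl : x23 = 0 := hx23.trans h23
  obtain rfl : x32 = 0 := hx32.trans h32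
  rcases d04 with ⟨rfl, rfl⟩ | ⟨rfl, rfl⟩ | ⟨rfl, rfl⟩ | ⟨rfl, rfl⟩ | ⟨rfl, rfl⟩ | ⟨rfl, rfl⟩
  · -- 04=(0,0)
    exact case435 T hall hd hx01.symm hx10.symm hx02.symm hx20.symm hx12.symm hx21.symm hx03.symm hx30.symm hx13.symm hx31.symm hx23.symm hx32.symm hx04.symm hx40.symm
  · -- 04=(1,1)
    rcases d14 with ⟨rfl, rfl⟩ | ⟨rfl, rfl⟩ | ⟨rfl, rfl⟩ | ⟨rfl, rfl⟩ | ⟨rfl, rfl⟩ | ⟨rfl, rfl⟩
    · -- 14=(0,0)
      rcases d24 with ⟨rfl, rfl⟩ | ⟨rfl, rfl⟩ | ⟨rfl, rfl⟩ | ⟨rfl, rfl⟩ | ⟨rfl, rfl⟩ | ⟨rfl, rfl⟩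
      · -- 24=(0,0)
        rcases d34 with ⟨rfl, rfl⟩ | ⟨rfl, rfl⟩ | ⟨rfl, rfl⟩ | ⟨rfl, rfl⟩ | ⟨rfl, rfl⟩ | ⟨rfl, rfl⟩
        · -- 34=(0,0)
          refine ⟨(⟨![0, 1, 2, 3, 4], ![0, 1, 2, 3, 4], by decide, by decide⟩ : Equiv.Perm (Fin 5)), T.m 1, T.w 0, Or.inr (Or.inr (Or.inr (Or.inr (Or.inr (Or.inr (Or.inl ?_))))))⟩
          show T.m 0 = 2 * T.m 1 ∧ T.m 1 = T.m 1 ∧ T.m 2 = T.m 1 ∧ T.m 3 = T.m 1 ∧ T.m 4 = T.m 1 ∧ T.w 0 = T.w 0 ∧ T.w 1 = T.w 0 ∧ T.w 2 = T.w 0 ∧ T.w 3 = T.w 0 ∧ T.w 4 = T.w 0 ∧ T.a 0 0 = -2 * T.w 0 ∧ T.a 0 1 = T.w 0 ∧ T.a 0 2 = T.w 0 ∧ T.a 0 3 = T.w 0 ∧ T.a 0 4 = T.w 0 ∧ T.a 1 1 = -2 * T.w 0 ∧ T.a 1 2 = 0 ∧ T.a 1 3 = 0 ∧ T.a 1 4 = 0 ∧ T.a 2 2 = -2 * T.w 0 ∧ T.a 2 3 = 0 ∧ T.a 2 4 = 0 ∧ T.a 3 3 = -2 * T.w 0 ∧ T.a 3 4 = 0 ∧ T.a 4 4 = -2 * T.w 0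
          refine ⟨?_, ?_, ?_, ?_, ?_, ?_, ?_, ?_, ?_, ?_, ?_, ?_, ?_, ?_, ?_, ?_, ?_, ?_, ?_, ?_, ?_, ?_, ?_, ?_, ?_⟩ <;> omega
        · -- 34=(1,1)
          exact False.elim (cert_false T ((skipEmb 2).trans (Function.Embedding.refl _)) (by norm_num) (fun _ => hall _) (((((((LB_zero T ((skipEmb 2).trans (Function.Embedding.refl _))).upd 0 2 1 (le_of_eq hx03)).upd 0 3 1 (le_of_eq hx04)).upd 2 0 1 (le_of_eq hx30)).upd 2 3 1 (le_of_eq hx34)).upd 3 0 1 (le_of_eq hx40)).upd 3 2 1 (le_of_eq hx43)) ![1,0,1,1] (by decide) (by decide) 0 (by decide))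
        · -- 34=(1,2)
          exact False.elim (cert_false T ((skipEmb 2).trans (Function.Embedding.refl _)) (by norm_num) (fun _ => hall _) (((((((LB_zero T ((skipEmb 2).trans (Function.Embedding.refl _))).upd 0 2 1 (le_of_eq hx03)).upd 0 3 1 (le_of_eq hx04)).upd 2 0 1 (le_of_eq hx30)).upd 2 3 1 (le_of_eq hx34)).upd 3 0 1 (le_of_eq hx40)).upd 3 2 2 (le_of_eq hx43)) ![1,0,1,1] (by decide) (by decide) 0 (by decide))
        · -- 34=(2,1)
          exact False.elim (cert_false T ((skipEmb 2).trans (Function.Embedding.refl _)) (by norm_num) (fun _ => hall _) (((((((LB_zero T ((skipEmb 2).trans (Function.Embedding.refl _))).upd 0 2 1 (le_of_eq hx03)).upd 0 3 1 (le_of_eq hx04)).upd 2 0 1 (le_of_eq hx30)).upd 2 3 2 (le_of_eq hx34)).upd 3 0 1 (le_of_eq hx40)).upd 3 2 1 (le_of_eq hx43)) ![1,0,1,1] (by decide) (by decide) 0 (by decide))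
        · -- 34=(1,3)
          exact False.elim (cert_false T ((skipEmb 2).trans (Function.Embedding.refl _)) (by norm_num) (fun _ => hall _) (((((((LB_zero T ((skipEmb 2).trans (Function.Embedding.refl _))).upd 0 2 1 (le_of_eq hx03)).upd 0 3 1 (le_of_eq hx04)).upd 2 0 1 (le_of_eq hx30)).upd 2 3 1 (le_of_eq hx34)).upd 3 0 1 (le_of_eq hx40)).upd 3 2 3 (le_of_eq hx43)) ![1,0,1,1] (by decide) (by decide) 0 (by decide))
        · -- 34=(3,1)
          exact False.elim (cert_false T ((skipEmb 2).trans (Function.Embedding.refl _)) (by norm_num) (fun _ => hall _) (((((((LB_zero T ((skipEmb 2).trans (Function.Embedding.refl _))).upd 0 2 1 (le_of_eq hx03)).upd 0 3 1 (le_of_eq hx04)).upd 2 0 1 (le_of_eq hx30)).upd 2 3 3 (le_of_eq hx34)).upd 3 0 1 (le_of_eq hx40)).upd 3 2 1 (le_of_eq hx43)) ![1,0,1,1] (by decide) (by decide) 0 (by decide))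
      · -- 24=(1,1)
        exact False.elim (cert_false T ((skipEmb 3).trans (Function.Embedding.refl _)) (by norm_num) (fun _ => hall _) (((((((LB_zero T ((skipEmb 3).trans (Function.Embedding.refl _))).upd 0 2 1 (le_of_eq hx02)).upd 0 3 1 (le_of_eq hx04)).upd 2 0 1 (le_of_eq hx20)).upd 2 3 1 (le_of_eq hx24)).upd 3 0 1 (le_of_eq hx40)).upd 3 2 1 (le_of_eq hx42)) ![1,0,1,1] (by decide) (by decide) 0 (by decide))
      · -- 24=(1,2)
        exact False.elim (cert_false T ((skipEmb 3).trans (Function.Embedding.refl _)) (by norm_num) (fun _ => hall _) (((((((LB_zero T ((skipEmb 3).trans (Function.Embedding.refl _))).upd 0 2 1 (le_of_eq hx02)).upd 0 3 1 (le_of_eq hx04)).upd 2 0 1 (le_of_eq hx20)).upd 2 3 1 (le_of_eq hx24)).upd 3 0 1 (le_of_eq hx40)).upd 3 2 2 (le_of_eq hx42)) ![1,0,1,1] (by decide) (by decide) 0 (by decide))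
      · -- 24=(2,1)
        exact False.elim (cert_false T ((skipEmb 3).trans (Function.Embedding.refl _)) (by norm_num) (fun _ => hall _) (((((((LB_zero T ((skipEmb 3).trans (Function.Embedding.refl _))).upd 0 2 1 (le_of_eq hx02)).upd 0 3 1 (le_of_eq hx04)).upd 2 0 1 (le_of_eq hx20)).upd 2 3 2 (le_of_eq hx24)).upd 3 0 1 (le_of_eq hx40)).upd 3 2 1 (le_of_eq hx42)) ![1,0,1,1] (by decide) (by decide) 0 (by decide))
      · -- 24=(1,3)
        exact False.elim (cert_false T ((skipEmb 3).trans (Function.Embedding.refl _)) (by norm_num) (fun _ => hall _) (((((((LB_zero T ((skipEmb 3).trans (Function.Embedding.refl _))).upd 0 2 1 (le_of_eq hx02)).upd 0 3 1 (le_of_eq hx04)).upd 2 0 1 (le_of_eq hx20)).upd 2 3 1 (le_of_eq hx24)).upd 3 0 1 (le_of_eq hx40)).upd 3 2 3 (le_of_eq hx42)) ![1,0,1,1] (by decide) (by decide) 0 (by decide))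
      · -- 24=(3,1)
        exact False.elim (cert_false T ((skipEmb 3).trans (Function.Embedding.refl _)) (by norm_num) (fun _ => hall _) (((((((LB_zero T ((skipEmb 3).trans (Function.Embedding.refl _))).upd 0 2 1 (le_of_eq hx02)).upd 0 3 1 (le_of_eq hx04)).upd 2 0 1 (le_of_eq hx20)).upd 2 3 3 (le_of_eq hx24)).upd 3 0 1 (le_of_eq hx40)).upd 3 2 1 (le_of_eq hx42)) ![1,0,1,1] (by decide) (by decide) 0 (by decide))
    · -- 14=(1,1)
      exact False.elim (cert_false T ((skipEmb 3).trans (Function.Embedding.refl _)) (by norm_num) (fun _ => hall _) (((((((LB_zero T ((skipEmb 3).trans (Function.Embedding.refl _))).upd 0 1 1 (le_of_eq hx01)).upd 0 3 1 (le_of_eq hx04)).upd 1 0 1 (le_of_eq hx10)).upd 1 3 1 (le_of_eq hx14)).upd 3 0 1 (le_of_eq hx40)).upd 3 1 1 (le_of_eq hx41)) ![1,1,0,1] (by decide) (by decide) 0 (by decide))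
    · -- 14=(1,2)
      exact False.elim (cert_false T ((skipEmb 3).trans (Function.Embedding.refl _)) (by norm_num) (fun _ => hall _) (((((((LB_zero T ((skipEmb 3).trans (Function.Embedding.refl _))).upd 0 1 1 (le_of_eq hx01)).upd 0 3 1 (le_of_eq hx04)).upd 1 0 1 (le_of_eq hx10)).upd 1 3 1 (le_of_eq hx14)).upd 3 0 1 (le_of_eq hx40)).upd 3 1 2 (le_of_eq hx41)) ![1,1,0,1] (by decide) (by decide) 0 (by decide))
    · -- 14=(2,1)
      exact False.elim (cert_false T ((skipEmb 3).trans (Function.Embedding.refl _)) (by norm_num) (fun _ => hall _) (((((((LB_zero T ((skipEmb 3).trans (Function.Embedding.refl _))).upd 0 1 1 (le_of_eq hx01)).upd 0 3 1 (le_of_eq hx04)).upd 1 0 1 (le_of_eq hx10)).upd 1 3 2 (le_of_eq hx14)).upd 3 0 1 (le_of_eq hx40)).upd 3 1 1 (le_of_eq hx41)) ![1,1,0,1] (by decide) (by decide) 0 (by decide))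
    · -- 14=(1,3)
      exact False.elim (cert_false T ((skipEmb 3).trans (Function.Embedding.refl _)) (by norm_num) (fun _ => hall _) (((((((LB_zero T ((skipEmb 3).trans (Function.Embedding.refl _))).upd 0 1 1 (le_of_eq hx01)).upd 0 3 1 (le_of_eq hx04)).upd 1 0 1 (le_of_eq hx10)).upd 1 3 1 (le_of_eq hx14)).upd 3 0 1 (le_of_eq hx40)).upd 3 1 3 (le_of_eq hx41)) ![1,1,0,1] (by decide) (by decide) 0 (by decide))
    · -- 14=(3,1)
      exact False.elim (cert_false T ((skipEmb 3).trans (Function.Embedding.refl _)) (by norm_num) (fun _ => hall _) (((((((LB_zero T ((skipEmb 3).trans (Function.Embedding.refl _))).upd 0 1 1 (le_of_eq hx01)).upd 0 3 1 (le_of_eq hx04)).upd 1 0 1 (le_of_eq hx10)).upd 1 3 3 (le_of_eq hx14)).upd 3 0 1 (le_of_eq hx40)).upd 3 1 1 (le_of_eq hx41)) ![1,1,0,1] (by decide) (by decide) 0 (by decide))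
  · -- 04=(1,2)
    exact False.elim (cert_false T ((skipEmb 3).trans (Function.Embedding.refl _)) (by norm_num) (fun _ => hall _) (((((((LB_zero T ((skipEmb 3).trans (Function.Embedding.refl _))).upd 0 1 1 (le_of_eq hx01)).upd 0 2 1 (le_of_eq hx02)).upd 0 3 1 (le_of_eq hx04)).upd 1 0 1 (le_of_eq hx10)).upd 2 0 1 (le_of_eq hx20)).upd 3 0 2 (le_of_eq hx40)) ![2,1,1,2] (by decide) (by decide) 0 (by decide))
  · -- 04=(2,1)
    exact False.elim (cert_false T ((skipEmb 3).trans (Function.Embedding.refl _)) (by norm_num) (fun _ => hall _) (((((((LB_zero T ((skipEmb 3).trans (Function.Embedding.refl _))).upd 0 1 1 (le_of_eq hx01)).upd 0 2 1 (le_of_eq hx02)).upd 0 3 2 (le_of_eq hx04)).upd 1 0 1 (le_of_eq hx10)).upd 2 0 1 (le_of_eq hx20)).upd 3 0 1 (le_of_eq hx40)) ![2,1,1,1] (by decide) (by decide) 0 (by decide))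
  · -- 04=(1,3)
    exact False.elim (cert_false T ((skipEmb 3).trans (Function.Embedding.refl _)) (by norm_num) (fun _ => hall _) (((((((LB_zero T ((skipEmb 3).trans (Function.Embedding.refl _))).upd 0 1 1 (le_of_eq hx01)).upd 0 2 1 (le_of_eq hx02)).upd 0 3 1 (le_of_eq hx04)).upd 1 0 1 (le_of_eq hx10)).upd 2 0 1 (le_of_eq hx20)).upd 3 0 3 (le_of_eq hx40)) ![2,1,1,2] (by decide) (by decide) 0 (by decide))
  · -- 04=(3,1)
    exact False.elim (cert_false T ((skipEmb 3).trans (Function.Embedding.refl _)) (by norm_num) (fun _ => hall _) (((((LB_zero T ((skipEmb 3).trans (Function.Embedding.refl _))).upd 0 2 1 (le_of_eq hx02)).upd 0 3 3 (le_of_eq hx04)).upd 2 0 1 (le_of_eq hx20)).upd 3 0 1 (le_of_eq hx40)) ![2,0,1,1] (by decide) (by decide) 0 (by decide))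

theorem case433 (T : NumericalType 5) (hall : ∀ i, T.IsMinusTwo i) (d : SData T)
    (h01 : N T (Function.Embedding.refl _) 0 1 = 1) (h10 : N T (Function.Embedding.refl _) 1 0 = 1)
    (h02 : N T (Function.Embedding.refl _) 0 2 = 1) (h20 : N T (Function.Embedding.refl _) 2 0 = 1)
    (h12 : N T (Function.Embedding.refl _) 1 2 = 0) (h21 : N T (Function.Embedding.refl _) 2 1 = 0)
    (h03 : N T (Function.Embedding.refl _) 0 3 = 1) (h30 : N T (Function.Embedding.refl _) 3 0 = 1)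
    (h13 : N T (Function.Embedding.refl _) 1 3 = 0) (h31 : N T (Function.Embedding.refl _) 3 1 = 0) :
    Goal T := by
  unfold Goal
  have hd := d
  obtain ⟨x01, x02, x03, x04, x10, x12, x13, x14, x20, x21, x23, x24, x30, x31, x32, x34, x40, x41, x42, x43, hx01, hx02, hx03, hx04, hx10, hx12, hx13, hx14, hx20, hx21, hx23, hx24, hx30, hx31, hx32, hx34, hx40, hx41, hx42, hx43, hw0, hm0, hw1, hm1, hw2, hm2, hw3, hm3, hw4, hm4, a00, a01, a02, a03, a04, a11, a10, a12, a13, a14, a22, a20, a21, a23, a24, a33, a30, a31, a32, a34, a44, a40, a41, a42, a43, wN01, wN02, wN12, wN03, wN13, wN23, wN04, wN14, wN24, wN34, e0, e1, e2, e3, e4, d01, d02, d12, d03, d13, d23, d04, d14, d24, d34⟩ := d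
  obtain rfl : x01 = 1 := hx01.trans h01
  obtain rfl : x10 = 1 := hx10.trans h10
  obtain rfl : x02 = 1 := hx02.trans h02
  obtain rfl : x20 = 1 := hx20.trans h20
  obtain rfl : x12 = 0 := hx12.trans h12
  obtain rfl : x21 = 0 := hx21.trans h21
  obtain rfl : x03 = 1 := hx03.trans h03
  obtain rfl : x30 = 1 := hx30.trans h30
  obtain rfl : x13 = 0 := hx13.trans h13
  obtain rfl : x31 = 0 := hx31.trans h31
  rcases d23 with ⟨rfl, rfl⟩ | ⟨rfl, rfl⟩ | ⟨rfl, rfl⟩ | ⟨rfl, rfl⟩ | ⟨rfl, rfl⟩ | ⟨rfl, rfl⟩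
  · -- 23=(0,0)
    exact case434 T hall hd hx01.symm hx10.symm hx02.symm hx20.symm hx12.symm hx21.symm hx03.symm hx30.symm hx13.symm hx31.symm hx23.symm hx32.symm
  · -- 23=(1,1)
    exact False.elim (cert_false T ((skipEmb 4).trans (Function.Embedding.refl _)) (by norm_num) (fun _ => hall _) (((((((LB_zero T ((skipEmb 4).trans (Function.Embedding.refl _))).upd 0 2 1 (le_of_eq hx02)).upd 0 3 1 (le_of_eq hx03)).upd 2 0 1 (le_of_eq hx20)).upd 2 3 1 (le_of_eq hx23)).upd 3 0 1 (le_of_eq hx30)).upd 3 2 1 (le_of_eq hx32)) ![1,0,1,1] (by decide) (by decide) 0 (by decide))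
  · -- 23=(1,2)
    exact False.elim (cert_false T ((skipEmb 4).trans (Function.Embedding.refl _)) (by norm_num) (fun _ => hall _) (((((((LB_zero T ((skipEmb 4).trans (Function.Embedding.refl _))).upd 0 2 1 (le_of_eq hx02)).upd 0 3 1 (le_of_eq hx03)).upd 2 0 1 (le_of_eq hx20)).upd 2 3 1 (le_of_eq hx23)).upd 3 0 1 (le_of_eq hx30)).upd 3 2 2 (le_of_eq hx32)) ![1,0,1,1] (by decide) (by decide) 0 (by decide))
  · -- 23=(2,1)
    exact False.elim (cert_false T ((skipEmb 4).trans (Function.Embedding.refl _)) (by norm_num) (fun _ => hall _) (((((((LB_zero T ((skipEmb 4).trans (Function.Embedding.refl _))).upd 0 2 1 (le_of_eq hx02)).upd 0 3 1 (le_of_eq hx03)).upd 2 0 1 (le_of_eq hx20)).upd 2 3 2 (le_of_eq hx23)).upd 3 0 1 (le_of_eq hx30)).upd 3 2 1 (le_of_eq hx32)) ![1,0,1,1] (by decide) (by decide) 0 (by decide))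
  · -- 23=(1,3)
    exact False.elim (cert_false T ((skipEmb 4).trans (Function.Embedding.refl _)) (by norm_num) (fun _ => hall _) (((((((LB_zero T ((skipEmb 4).trans (Function.Embedding.refl _))).upd 0 2 1 (le_of_eq hx02)).upd 0 3 1 (le_of_eq hx03)).upd 2 0 1 (le_of_eq hx20)).upd 2 3 1 (le_of_eq hx23)).upd 3 0 1 (le_of_eq hx30)).upd 3 2 3 (le_of_eq hx32)) ![1,0,1,1] (by decide) (by decide) 0 (by decide))
  · -- 23=(3,1)
    exact False.elim (cert_false T ((skipEmb 4).trans (Function.Embedding.refl _)) (by norm_num) (fun _ => hall _) (((((((LB_zero T ((skipEmb 4).trans (Function.Embedding.refl _))).upd 0 2 1 (le_of_eq hx02)).upd 0 3 1 (le_of_eq hx03)).upd 2 0 1 (le_of_eq hx20)).upd 2 3 3 (le_of_eq hx23)).upd 3 0 1 (le_of_eq hx30)).upd 3 2 1 (le_of_eq hx32)) ![1,0,1,1] (by decide) (by decide) 0 (by decide))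

theorem case485 (T : NumericalType 5) (hall : ∀ i, T.IsMinusTwo i) (d : SData T)
    (h01 : N T (Function.Embedding.refl _) 0 1 = 2) (h10 : N T (Function.Embedding.refl _) 1 0 = 1)
    (h02 : N T (Function.Embedding.refl _) 0 2 = 0) (h20 : N T (Function.Embedding.refl _) 2 0 = 0)
    (h12 : N T (Function.Embedding.refl _) 1 2 = 0) (h21 : N T (Function.Embedding.refl _) 2 1 = 0)
    (h03 : N T (Function.Embedding.refl _) 0 3 = 1) (h30 : N T (Function.Embedding.refl _) 3 0 = 1)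
    (h13 : N T (Function.Embedding.refl _) 1 3 = 0) (h31 : N T (Function.Embedding.refl _) 3 1 = 0)
    (h23 : N T (Function.Embedding.refl _) 2 3 = 0) (h32 : N T (Function.Embedding.refl _) 3 2 = 0)
    (h04 : N T (Function.Embedding.refl _) 0 4 = 0) (h40 : N T (Function.Embedding.refl _) 4 0 = 0) :
    Goal T := by
  unfold Goal
  have hd := d
  obtain ⟨x01, x02, x03, x04, x10, x12, x13, x14, x20, x21, x23, x24, x30, x31, x32, x34, x40, x41, x42, x43, hx01, hx02, hx03, hx04, hx10, hx12, hx13, hx14, hx20, hx21, hx23, hx24, hx30, hx31, hx32, hx34, hx40, hx41, hx42, hx43, hw0, hm0, hw1, hm1, hw2, hm2, hw3, hm3, hw4, hm4, a00, a01, a02, a03, a04, a11, a10, a12, a13, a14, a22, a20, a21, a23, a24, a33, a30, a31, a32, a34, a44, a40, a41, a42, a43, wN01, wN02, wN12, wN03, wN13, wN23, wN04, wN14, wN24, wN34, e0, e1, e2, e3, e4, d01, d02, d12, d03, d13, d23, d04, d14, d24, d34⟩ := d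
  obtain rfl : x01 = 2 := hx01.trans h01
  obtain rfl : x10 = 1 := hx10.trans h10
  obtain rfl : x02 = 0 := hx02.trans h02
  obtain rfl : x20 = 0 := hx20.trans h20
  obtain rfl : x12 = 0 := hx12.trans h12
  obtain rfl : x21 = 0 := hx21.trans h21
  obtain rfl : x03 = 1 := hx03.trans h03
  obtain rfl : x30 = 1 := hx30.trans h30
  obtain rfl : x13 = 0 := hx13.trans h13
  obtain rfl : x31 = 0 := hx31.trans h31
  obtain rfl : x23 = 0 := hx23.trans h23
  obtain rfl : x32 = 0 := hx32.trans h32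
  obtain rfl : x04 = 0 := hx04.trans h04
  obtain rfl : x40 = 0 := hx40.trans h40
  rcases d14 with ⟨rfl, rfl⟩ | ⟨rfl, rfl⟩ | ⟨rfl, rfl⟩ | ⟨rfl, rfl⟩ | ⟨rfl, rfl⟩ | ⟨rfl, rfl⟩
  · -- 14=(0,0)
    rcases d24 with ⟨rfl, rfl⟩ | ⟨rfl, rfl⟩ | ⟨rfl, rfl⟩ | ⟨rfl, rfl⟩ | ⟨rfl, rfl⟩ | ⟨rfl, rfl⟩
    · -- 24=(0,0)
      rcases d34 with ⟨rfl, rfl⟩ | ⟨rfl, rfl⟩ | ⟨rfl, rfl⟩ | ⟨rfl, rfl⟩ | ⟨rfl, rfl⟩ | ⟨rfl, rfl⟩
      · -- 34=(0,0)
        exfalso; omega
      · -- 34=(1,1)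
        exfalso; omega
      · -- 34=(1,2)
        exact False.elim (cert_false T ((skipEmb 2).trans (Function.Embedding.refl _)) (by norm_num) (fun _ => hall _) (((((((LB_zero T ((skipEmb 2).trans (Function.Embedding.refl _))).upd 0 1 2 (le_of_eq hx01)).upd 0 2 1 (le_of_eq hx03)).upd 1 0 1 (le_of_eq hx10)).upd 2 0 1 (le_of_eq hx30)).upd 2 3 1 (le_of_eq hx34)).upd 3 2 2 (le_of_eq hx43)) ![2,1,2,2] (by decide) (by decide) 0 (by decide))
      · -- 34=(2,1)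
        exact False.elim (cert_false T ((skipEmb 2).trans (Function.Embedding.refl _)) (by norm_num) (fun _ => hall _) (((((((LB_zero T ((skipEmb 2).trans (Function.Embedding.refl _))).upd 0 1 2 (le_of_eq hx01)).upd 0 2 1 (le_of_eq hx03)).upd 1 0 1 (le_of_eq hx10)).upd 2 0 1 (le_of_eq hx30)).upd 2 3 2 (le_of_eq hx34)).upd 3 2 1 (le_of_eq hx43)) ![2,1,2,1] (by decide) (by decide) 0 (by decide))
      · -- 34=(1,3)
        exact False.elim (cert_false T ((skipEmb 2).trans (Function.Embedding.refl _)) (by norm_num) (fun _ => hall _) (((((((LB_zero T ((skipEmb 2).trans (Function.Embedding.refl _))).upd 0 1 2 (le_of_eq hx01)).upd 0 2 1 (le_of_eq hx03)).upd 1 0 1 (le_of_eq hx10)).upd 2 0 1 (le_of_eq hx30)).upd 2 3 1 (le_of_eq hx34)).upd 3 2 3 (le_of_eq hx43)) ![2,1,2,2] (by decide) (by decide) 0 (by decide))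
      · -- 34=(3,1)
        exact False.elim (cert_false T ((skipEmb 2).trans (Function.Embedding.refl _)) (by norm_num) (fun _ => hall _) (((((LB_zero T ((skipEmb 2).trans (Function.Embedding.refl _))).upd 0 2 1 (le_of_eq hx03)).upd 2 0 1 (le_of_eq hx30)).upd 2 3 3 (le_of_eq hx34)).upd 3 2 1 (le_of_eq hx43)) ![1,0,2,1] (by decide) (by decide) 0 (by decide))
    · -- 24=(1,1)
      rcases d34 with ⟨rfl, rfl⟩ | ⟨rfl, rfl⟩ | ⟨rfl, rfl⟩ | ⟨rfl, rfl⟩ | ⟨rfl, rfl⟩ | ⟨rfl, rfl⟩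
      · -- 34=(0,0)
        exfalso; omega
      · -- 34=(1,1)
        exfalso; omega
      · -- 34=(1,2)
        exact False.elim (cert_false T ((skipEmb 2).trans (Function.Embedding.refl _)) (by norm_num) (fun _ => hall _) (((((((LB_zero T ((skipEmb 2).trans (Function.Embedding.refl _))).upd 0 1 2 (le_of_eq hx01)).upd 0 2 1 (le_of_eq hx03)).upd 1 0 1 (le_of_eq hx10)).upd 2 0 1 (le_of_eq hx30)).upd 2 3 1 (le_of_eq hx34)).upd 3 2 2 (le_of_eq hx43)) ![2,1,2,2] (by decide) (by decide) 0 (by decide))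
      · -- 34=(2,1)
        exact False.elim (cert_false T ((skipEmb 2).trans (Function.Embedding.refl _)) (by norm_num) (fun _ => hall _) (((((((LB_zero T ((skipEmb 2).trans (Function.Embedding.refl _))).upd 0 1 2 (le_of_eq hx01)).upd 0 2 1 (le_of_eq hx03)).upd 1 0 1 (le_of_eq hx10)).upd 2 0 1 (le_of_eq hx30)).upd 2 3 2 (le_of_eq hx34)).upd 3 2 1 (le_of_eq hx43)) ![2,1,2,1] (by decide) (by decide) 0 (by decide))
      · -- 34=(1,3)
        exact False.elim (cert_false T ((skipEmb 2).trans (Function.Embedding.refl _)) (by norm_num) (fun _ => hall _) (((((((LB_zero T ((skipEmb 2).trans (Function.Embedding.refl _))).upd 0 1 2 (le_of_eq hx01)).upd 0 2 1 (le_of_eq hx03)).upd 1 0 1 (le_of_eq hx10)).upd 2 0 1 (le_of_eq hx30)).upd 2 3 1 (le_of_eq hx34)).upd 3 2 3 (le_of_eq hx43)) ![2,1,2,2] (by decide) (by decide) 0 (by decide))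
      · -- 34=(3,1)
        exact False.elim (cert_false T ((skipEmb 2).trans (Function.Embedding.refl _)) (by norm_num) (fun _ => hall _) (((((LB_zero T ((skipEmb 2).trans (Function.Embedding.refl _))).upd 0 2 1 (le_of_eq hx03)).upd 2 0 1 (le_of_eq hx30)).upd 2 3 3 (le_of_eq hx34)).upd 3 2 1 (le_of_eq hx43)) ![1,0,2,1] (by decide) (by decide) 0 (by decide))
    · -- 24=(1,2)
      rcases d34 with ⟨rfl, rfl⟩ | ⟨rfl, rfl⟩ | ⟨rfl, rfl⟩ | ⟨rfl, rfl⟩ | ⟨rfl, rfl⟩ | ⟨rfl, rfl⟩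
      · -- 34=(0,0)
        exfalso; omega
      · -- 34=(1,1)
        refine ⟨(⟨![1, 0, 3, 4, 2], ![1, 0, 4, 2, 3], by decide, by decide⟩ : Equiv.Perm (Fin 5)), T.m 1, T.w 0, Or.inr (Or.inr (Or.inr (Or.inr (Or.inr (Or.inl ?_)))))⟩
        show T.m 1 = T.m 1 ∧ T.m 0 = 2 * T.m 1 ∧ T.m 3 = 2 * T.m 1 ∧ T.m 4 = 2 * T.m 1 ∧ T.m 2 = T.m 1 ∧ T.w 1 = 2 * T.w 0 ∧ T.w 0 = T.w 0 ∧ T.w 3 = T.w 0 ∧ T.w 4 = T.w 0 ∧ T.w 2 = 2 * T.w 0 ∧ T.a 1 1 = -4 * T.w 0 ∧ T.a 1 0 = 2 * T.w 0 ∧ T.a 1 3 = 0 ∧ T.a 1 4 = 0 ∧ T.a 1 2 = 0 ∧ T.a 0 0 = -2 * T.w 0 ∧ T.a 0 3 = T.w 0 ∧ T.a 0 4 = 0 ∧ T.a 0 2 = 0 ∧ T.a 3 3 = -2 * T.w 0 ∧ T.a 3 4 = T.w 0 ∧ T.a 3 2 = 0 ∧ T.a 4 4 = -2 * T.w 0 ∧ T.a 4 2 = 2 * T.w 0 ∧ T.a 2 2 = -4 * T.w 0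
        refine ⟨?_, ?_, ?_, ?_, ?_, ?_, ?_, ?_, ?_, ?_, ?_, ?_, ?_, ?_, ?_, ?_, ?_, ?_, ?_, ?_, ?_, ?_, ?_, ?_, ?_⟩ <;> omega
      · -- 34=(1,2)
        exact False.elim (cert_false T ((skipEmb 2).trans (Function.Embedding.refl _)) (by norm_num) (fun _ => hall _) (((((((LB_zero T ((skipEmb 2).trans (Function.Embedding.refl _))).upd 0 1 2 (le_of_eq hx01)).upd 0 2 1 (le_of_eq hx03)).upd 1 0 1 (le_of_eq hx10)).upd 2 0 1 (le_of_eq hx30)).upd 2 3 1 (le_of_eq hx34)).upd 3 2 2 (le_of_eq hx43)) ![2,1,2,2] (by decide) (by decide) 0 (by decide))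
      · -- 34=(2,1)
        exact False.elim (cert_false T ((skipEmb 2).trans (Function.Embedding.refl _)) (by norm_num) (fun _ => hall _) (((((((LB_zero T ((skipEmb 2).trans (Function.Embedding.refl _))).upd 0 1 2 (le_of_eq hx01)).upd 0 2 1 (le_of_eq hx03)).upd 1 0 1 (le_of_eq hx10)).upd 2 0 1 (le_of_eq hx30)).upd 2 3 2 (le_of_eq hx34)).upd 3 2 1 (le_of_eq hx43)) ![2,1,2,1] (by decide) (by decide) 0 (by decide))
      · -- 34=(1,3)
        exact False.elim (cert_false T ((skipEmb 2).trans (Function.Embedding.refl _)) (by norm_num) (fun _ => hall _) (((((((LB_zero T ((skipEmb 2).trans (Function.Embedding.refl _))).upd 0 1 2 (le_of_eq hx01)).upd 0 2 1 (le_of_eq hx03)).upd 1 0 1 (le_of_eq hx10)).upd 2 0 1 (le_of_eq hx30)).upd 2 3 1 (le_of_eq hx34)).upd 3 2 3 (le_of_eq hx43)) ![2,1,2,2] (by decide) (by decide) 0 (by decide))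
      · -- 34=(3,1)
        exact False.elim (cert_false T ((skipEmb 2).trans (Function.Embedding.refl _)) (by norm_num) (fun _ => hall _) (((((LB_zero T ((skipEmb 2).trans (Function.Embedding.refl _))).upd 0 2 1 (le_of_eq hx03)).upd 2 0 1 (le_of_eq hx30)).upd 2 3 3 (le_of_eq hx34)).upd 3 2 1 (le_of_eq hx43)) ![1,0,2,1] (by decide) (by decide) 0 (by decide))
    · -- 24=(2,1)
      rcases d34 with ⟨rfl, rfl⟩ | ⟨rfl, rfl⟩ | ⟨rfl, rfl⟩ | ⟨rfl, rfl⟩ | ⟨rfl, rfl⟩ | ⟨rfl, rfl⟩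
      · -- 34=(0,0)
        exfalso; omega
      · -- 34=(1,1)
        refine ⟨(⟨![2, 4, 3, 0, 1], ![3, 4, 0, 2, 1], by decide, by decide⟩ : Equiv.Perm (Fin 5)), T.m 1, T.w 2, Or.inr (Or.inr (Or.inr (Or.inl ?_)))⟩
        show T.m 2 = 2 * T.m 1 ∧ T.m 4 = 2 * T.m 1 ∧ T.m 3 = 2 * T.m 1 ∧ T.m 0 = 2 * T.m 1 ∧ T.m 1 = T.m 1 ∧ T.w 2 = T.w 2 ∧ T.w 4 = 2 * T.w 2 ∧ T.w 3 = 2 * T.w 2 ∧ T.w 0 = 2 * T.w 2 ∧ T.w 1 = 4 * T.w 2 ∧ T.a 2 2 = -2 * T.w 2 ∧ T.a 2 4 = 2 * T.w 2 ∧ T.a 2 3 = 0 ∧ T.a 2 0 = 0 ∧ T.a 2 1 = 0 ∧ T.a 4 4 = -4 * T.w 2 ∧ T.a 4 3 = 2 * T.w 2 ∧ T.a 4 0 = 0 ∧ T.a 4 1 = 0 ∧ T.a 3 3 = -4 * T.w 2 ∧ T.a 3 0 = 2 * T.w 2 ∧ T.a 3 1 = 0 ∧ T.a 0 0 = -4 * T.w 2 ∧ T.a 0 1 = 4 * T.w 2 ∧ T.a 1 1 = -8 * T.w 2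
        refine ⟨?_, ?_, ?_, ?_, ?_, ?_, ?_, ?_, ?_, ?_, ?_, ?_, ?_, ?_, ?_, ?_, ?_, ?_, ?_, ?_, ?_, ?_, ?_, ?_, ?_⟩ <;> omega
      · -- 34=(1,2)
        exact False.elim (cert_false T ((skipEmb 2).trans (Function.Embedding.refl _)) (by norm_num) (fun _ => hall _) (((((((LB_zero T ((skipEmb 2).trans (Function.Embedding.refl _))).upd 0 1 2 (le_of_eq hx01)).upd 0 2 1 (le_of_eq hx03)).upd 1 0 1 (le_of_eq hx10)).upd 2 0 1 (le_of_eq hx30)).upd 2 3 1 (le_of_eq hx34)).upd 3 2 2 (le_of_eq hx43)) ![2,1,2,2] (by decide) (by decide) 0 (by decide))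
      · -- 34=(2,1)
        exact False.elim (cert_false T ((skipEmb 2).trans (Function.Embedding.refl _)) (by norm_num) (fun _ => hall _) (((((((LB_zero T ((skipEmb 2).trans (Function.Embedding.refl _))).upd 0 1 2 (le_of_eq hx01)).upd 0 2 1 (le_of_eq hx03)).upd 1 0 1 (le_of_eq hx10)).upd 2 0 1 (le_of_eq hx30)).upd 2 3 2 (le_of_eq hx34)).upd 3 2 1 (le_of_eq hx43)) ![2,1,2,1] (by decide) (by decide) 0 (by decide))
      · -- 34=(1,3)
        exact False.elim (cert_false T ((skipEmb 2).trans (Function.Embedding.refl _)) (by norm_num) (fun _ => hall _) (((((((LB_zero T ((skipEmb 2).trans (Function.Embedding.refl _))).upd 0 1 2 (le_of_eq hx01)).upd 0 2 1 (le_of_eq hx03)).upd 1 0 1 (le_of_eq hx10)).upd 2 0 1 (le_of_eq hx30)).upd 2 3 1 (le_of_eq hx34)).upd 3 2 3 (le_of_eq hx43)) ![2,1,2,2] (by decide) (by decide) 0 (by decide))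
      · -- 34=(3,1)
        exact False.elim (cert_false T ((skipEmb 2).trans (Function.Embedding.refl _)) (by norm_num) (fun _ => hall _) (((((LB_zero T ((skipEmb 2).trans (Function.Embedding.refl _))).upd 0 2 1 (le_of_eq hx03)).upd 2 0 1 (le_of_eq hx30)).upd 2 3 3 (le_of_eq hx34)).upd 3 2 1 (le_of_eq hx43)) ![1,0,2,1] (by decide) (by decide) 0 (by decide))
    · -- 24=(1,3)
      rcases d34 with ⟨rfl, rfl⟩ | ⟨rfl, rfl⟩ | ⟨rfl, rfl⟩ | ⟨rfl, rfl⟩ | ⟨rfl, rfl⟩ | ⟨rfl, rfl⟩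
      · -- 34=(0,0)
        exfalso; omega
      · -- 34=(1,1)
        exact False.elim (cert_false T ((skipEmb 1).trans (Function.Embedding.refl _)) (by norm_num) (fun _ => hall _) (((((LB_zero T ((skipEmb 1).trans (Function.Embedding.refl _))).upd 1 3 1 (le_of_eq hx24)).upd 2 3 1 (le_of_eq hx34)).upd 3 1 3 (le_of_eq hx42)).upd 3 2 1 (le_of_eq hx43)) ![0,1,1,2] (by decide) (by decide) 1 (by decide))
      · -- 34=(1,2)
        exact False.elim (cert_false T ((skipEmb 2).trans (Function.Embedding.refl _)) (by norm_num) (fun _ => hall _) (((((((LB_zero T ((skipEmb 2).trans (Function.Embedding.refl _))).upd 0 1 2 (le_of_eq hx01)).upd 0 2 1 (le_of_eq hx03)).upd 1 0 1 (le_of_eq hx10)).upd 2 0 1 (le_of_eq hx30)).upd 2 3 1 (le_of_eq hx34)).upd 3 2 2 (le_of_eq hx43)) ![2,1,2,2] (by decide) (by decide) 0 (by decide))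
      · -- 34=(2,1)
        exact False.elim (cert_false T ((skipEmb 2).trans (Function.Embedding.refl _)) (by norm_num) (fun _ => hall _) (((((((LB_zero T ((skipEmb 2).trans (Function.Embedding.refl _))).upd 0 1 2 (le_of_eq hx01)).upd 0 2 1 (le_of_eq hx03)).upd 1 0 1 (le_of_eq hx10)).upd 2 0 1 (le_of_eq hx30)).upd 2 3 2 (le_of_eq hx34)).upd 3 2 1 (le_of_eq hx43)) ![2,1,2,1] (by decide) (by decide) 0 (by decide))
      · -- 34=(1,3)
        exact False.elim (cert_false T ((skipEmb 2).trans (Function.Embedding.refl _)) (by norm_num) (fun _ => hall _) (((((((LB_zero T ((skipEmb 2).trans (Function.Embedding.refl _))).upd 0 1 2 (le_of_eq hx01)).upd 0 2 1 (le_of_eq hx03)).upd 1 0 1 (le_of_eq hx10)).upd 2 0 1 (le_of_eq hx30)).upd 2 3 1 (le_of_eq hx34)).upd 3 2 3 (le_of_eq hx43)) ![2,1,2,2] (by decide) (by decide) 0 (by decide))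
      · -- 34=(3,1)
        exact False.elim (cert_false T ((skipEmb 2).trans (Function.Embedding.refl _)) (by norm_num) (fun _ => hall _) (((((LB_zero T ((skipEmb 2).trans (Function.Embedding.refl _))).upd 0 2 1 (le_of_eq hx03)).upd 2 0 1 (le_of_eq hx30)).upd 2 3 3 (le_of_eq hx34)).upd 3 2 1 (le_of_eq hx43)) ![1,0,2,1] (by decide) (by decide) 0 (by decide))
    · -- 24=(3,1)
      rcases d34 with ⟨rfl, rfl⟩ | ⟨rfl, rfl⟩ | ⟨rfl, rfl⟩ | ⟨rfl, rfl⟩ | ⟨rfl, rfl⟩ | ⟨rfl, rfl⟩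
      · -- 34=(0,0)
        exfalso; omega
      · -- 34=(1,1)
        exact False.elim (cert_false T ((skipEmb 1).trans (Function.Embedding.refl _)) (by norm_num) (fun _ => hall _) (((((LB_zero T ((skipEmb 1).trans (Function.Embedding.refl _))).upd 1 3 3 (le_of_eq hx24)).upd 2 3 1 (le_of_eq hx34)).upd 3 1 1 (le_of_eq hx42)).upd 3 2 1 (le_of_eq hx43)) ![0,3,1,2] (by decide) (by decide) 1 (by decide))
      · -- 34=(1,2)
        exact False.elim (cert_false T ((skipEmb 2).trans (Function.Embedding.refl _)) (by norm_num) (fun _ => hall _) (((((((LB_zero T ((skipEmb 2).trans (Function.Embedding.refl _))).upd 0 1 2 (le_of_eq hx01)).upd 0 2 1 (le_of_eq hx03)).upd 1 0 1 (le_of_eq hx10)).upd 2 0 1 (le_of_eq hx30)).upd 2 3 1 (le_of_eq hx34)).upd 3 2 2 (le_of_eq hx43)) ![2,1,2,2] (by decide) (by decide) 0 (by decide))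
      · -- 34=(2,1)
        exact False.elim (cert_false T ((skipEmb 2).trans (Function.Embedding.refl _)) (by norm_num) (fun _ => hall _) (((((((LB_zero T ((skipEmb 2).trans (Function.Embedding.refl _))).upd 0 1 2 (le_of_eq hx01)).upd 0 2 1 (le_of_eq hx03)).upd 1 0 1 (le_of_eq hx10)).upd 2 0 1 (le_of_eq hx30)).upd 2 3 2 (le_of_eq hx34)).upd 3 2 1 (le_of_eq hx43)) ![2,1,2,1] (by decide) (by decide) 0 (by decide))
      · -- 34=(1,3)
        exact False.elim (cert_false T ((skipEmb 2).trans (Function.Embedding.refl _)) (by norm_num) (fun _ => hall _) (((((((LB_zero T ((skipEmb 2).trans (Function.Embedding.refl _))).upd 0 1 2 (le_of_eq hx01)).upd 0 2 1 (le_of_eq hx03)).upd 1 0 1 (le_of_eq hx10)).upd 2 0 1 (le_of_eq hx30)).upd 2 3 1 (le_of_eq hx34)).upd 3 2 3 (le_of_eq hx43)) ![2,1,2,2] (by decide) (by decide) 0 (by decide))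
      · -- 34=(3,1)
        exact False.elim (cert_false T ((skipEmb 2).trans (Function.Embedding.refl _)) (by norm_num) (fun _ => hall _) (((((LB_zero T ((skipEmb 2).trans (Function.Embedding.refl _))).upd 0 2 1 (le_of_eq hx03)).upd 2 0 1 (le_of_eq hx30)).upd 2 3 3 (le_of_eq hx34)).upd 3 2 1 (le_of_eq hx43)) ![1,0,2,1] (by decide) (by decide) 0 (by decide))
  · -- 14=(1,1)
    rcases d24 with ⟨rfl, rfl⟩ | ⟨rfl, rfl⟩ | ⟨rfl, rfl⟩ | ⟨rfl, rfl⟩ | ⟨rfl, rfl⟩ | ⟨rfl, rfl⟩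
    · -- 24=(0,0)
      rcases d34 with ⟨rfl, rfl⟩ | ⟨rfl, rfl⟩ | ⟨rfl, rfl⟩ | ⟨rfl, rfl⟩ | ⟨rfl, rfl⟩ | ⟨rfl, rfl⟩
      · -- 34=(0,0)
        exfalso; omega
      · -- 34=(1,1)
        exact False.elim (cert_false T ((skipEmb 2).trans (Function.Embedding.refl _)) (by norm_num) (fun _ => hall _) (((((((((LB_zero T ((skipEmb 2).trans (Function.Embedding.refl _))).upd 0 1 2 (le_of_eq hx01)).upd 0 2 1 (le_of_eq hx03)).upd 1 0 1 (le_of_eq hx10)).upd 1 3 1 (le_of_eq hx14)).upd 2 0 1 (le_of_eq hx30)).upd 2 3 1 (le_of_eq hx34)).upd 3 1 1 (le_of_eq hx41)).upd 3 2 1 (le_of_eq hx43)) ![1,1,1,1] (by decide) (by decide) 0 (by decide))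
      · -- 34=(1,2)
        exact False.elim (cert_false T ((skipEmb 2).trans (Function.Embedding.refl _)) (by norm_num) (fun _ => hall _) (((((((((LB_zero T ((skipEmb 2).trans (Function.Embedding.refl _))).upd 0 1 2 (le_of_eq hx01)).upd 0 2 1 (le_of_eq hx03)).upd 1 0 1 (le_of_eq hx10)).upd 1 3 1 (le_of_eq hx14)).upd 2 0 1 (le_of_eq hx30)).upd 2 3 1 (le_of_eq hx34)).upd 3 1 1 (le_of_eq hx41)).upd 3 2 2 (le_of_eq hx43)) ![1,1,1,1] (by decide) (by decide) 0 (by decide))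
      · -- 34=(2,1)
        exact False.elim (cert_false T ((skipEmb 2).trans (Function.Embedding.refl _)) (by norm_num) (fun _ => hall _) (((((((((LB_zero T ((skipEmb 2).trans (Function.Embedding.refl _))).upd 0 1 2 (le_of_eq hx01)).upd 0 2 1 (le_of_eq hx03)).upd 1 0 1 (le_of_eq hx10)).upd 1 3 1 (le_of_eq hx14)).upd 2 0 1 (le_of_eq hx30)).upd 2 3 2 (le_of_eq hx34)).upd 3 1 1 (le_of_eq hx41)).upd 3 2 1 (le_of_eq hx43)) ![1,1,1,1] (by decide) (by decide) 0 (by decide))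
      · -- 34=(1,3)
        exact False.elim (cert_false T ((skipEmb 2).trans (Function.Embedding.refl _)) (by norm_num) (fun _ => hall _) (((((((((LB_zero T ((skipEmb 2).trans (Function.Embedding.refl _))).upd 0 1 2 (le_of_eq hx01)).upd 0 2 1 (le_of_eq hx03)).upd 1 0 1 (le_of_eq hx10)).upd 1 3 1 (le_of_eq hx14)).upd 2 0 1 (le_of_eq hx30)).upd 2 3 1 (le_of_eq hx34)).upd 3 1 1 (le_of_eq hx41)).upd 3 2 3 (le_of_eq hx43)) ![1,1,1,1] (by decide) (by decide) 0 (by decide))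
      · -- 34=(3,1)
        exact False.elim (cert_false T ((skipEmb 2).trans (Function.Embedding.refl _)) (by norm_num) (fun _ => hall _) (((((((((LB_zero T ((skipEmb 2).trans (Function.Embedding.refl _))).upd 0 1 2 (le_of_eq hx01)).upd 0 2 1 (le_of_eq hx03)).upd 1 0 1 (le_of_eq hx10)).upd 1 3 1 (le_of_eq hx14)).upd 2 0 1 (le_of_eq hx30)).upd 2 3 3 (le_of_eq hx34)).upd 3 1 1 (le_of_eq hx41)).upd 3 2 1 (le_of_eq hx43)) ![1,1,1,1] (by decide) (by decide) 0 (by decide))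
    · -- 24=(1,1)
      rcases d34 with ⟨rfl, rfl⟩ | ⟨rfl, rfl⟩ | ⟨rfl, rfl⟩ | ⟨rfl, rfl⟩ | ⟨rfl, rfl⟩ | ⟨rfl, rfl⟩
      · -- 34=(0,0)
        refine ⟨(⟨![2, 4, 1, 0, 3], ![3, 2, 0, 4, 1], by decide, by decide⟩ : Equiv.Perm (Fin 5)), T.m 2, T.w 0, Or.inr (Or.inr (Or.inl ?_))⟩
        show T.m 2 = T.m 2 ∧ T.m 4 = 2 * T.m 2 ∧ T.m 1 = 3 * T.m 2 ∧ T.m 0 = 4 * T.m 2 ∧ T.m 3 = 2 * T.m 2 ∧ T.w 2 = 2 * T.w 0 ∧ T.w 4 = 2 * T.w 0 ∧ T.w 1 = 2 * T.w 0 ∧ T.w 0 = T.w 0 ∧ T.w 3 = T.w 0 ∧ T.a 2 2 = -4 * T.w 0 ∧ T.a 2 4 = 2 * T.w 0 ∧ T.a 2 1 = 0 ∧ T.a 2 0 = 0 ∧ T.a 2 3 = 0 ∧ T.a 4 4 = -4 * T.w 0 ∧ T.a 4 1 = 2 * T.w 0 ∧ T.a 4 0 = 0 ∧ T.a 4 3 = 0 ∧ T.a 1 1 = -4 * T.w 0 ∧ T.a 1 0 = 2 * T.w 0 ∧ T.a 1 3 = 0 ∧ T.a 0 0 = -2 * T.w 0 ∧ T.a 0 3 = T.w 0 ∧ T.a 3 3 = -2 * T.w 0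
        refine ⟨?_, ?_, ?_, ?_, ?_, ?_, ?_, ?_, ?_, ?_, ?_, ?_, ?_, ?_, ?_, ?_, ?_, ?_, ?_, ?_, ?_, ?_, ?_, ?_, ?_⟩ <;> omega
      · -- 34=(1,1)
        exact False.elim (cert_false T ((skipEmb 2).trans (Function.Embedding.refl _)) (by norm_num) (fun _ => hall _) (((((((((LB_zero T ((skipEmb 2).trans (Function.Embedding.refl _))).upd 0 1 2 (le_of_eq hx01)).upd 0 2 1 (le_of_eq hx03)).upd 1 0 1 (le_of_eq hx10)).upd 1 3 1 (le_of_eq hx14)).upd 2 0 1 (le_of_eq hx30)).upd 2 3 1 (le_of_eq hx34)).upd 3 1 1 (le_of_eq hx41)).upd 3 2 1 (le_of_eq hx43)) ![1,1,1,1] (by decide) (by decide) 0 (by decide))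
      · -- 34=(1,2)
        exact False.elim (cert_false T ((skipEmb 2).trans (Function.Embedding.refl _)) (by norm_num) (fun _ => hall _) (((((((((LB_zero T ((skipEmb 2).trans (Function.Embedding.refl _))).upd 0 1 2 (le_of_eq hx01)).upd 0 2 1 (le_of_eq hx03)).upd 1 0 1 (le_of_eq hx10)).upd 1 3 1 (le_of_eq hx14)).upd 2 0 1 (le_of_eq hx30)).upd 2 3 1 (le_of_eq hx34)).upd 3 1 1 (le_of_eq hx41)).upd 3 2 2 (le_of_eq hx43)) ![1,1,1,1] (by decide) (by decide) 0 (by decide))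
      · -- 34=(2,1)
        exact False.elim (cert_false T ((skipEmb 2).trans (Function.Embedding.refl _)) (by norm_num) (fun _ => hall _) (((((((((LB_zero T ((skipEmb 2).trans (Function.Embedding.refl _))).upd 0 1 2 (le_of_eq hx01)).upd 0 2 1 (le_of_eq hx03)).upd 1 0 1 (le_of_eq hx10)).upd 1 3 1 (le_of_eq hx14)).upd 2 0 1 (le_of_eq hx30)).upd 2 3 2 (le_of_eq hx34)).upd 3 1 1 (le_of_eq hx41)).upd 3 2 1 (le_of_eq hx43)) ![1,1,1,1] (by decide) (by decide) 0 (by decide))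
      · -- 34=(1,3)
        exact False.elim (cert_false T ((skipEmb 2).trans (Function.Embedding.refl _)) (by norm_num) (fun _ => hall _) (((((((((LB_zero T ((skipEmb 2).trans (Function.Embedding.refl _))).upd 0 1 2 (le_of_eq hx01)).upd 0 2 1 (le_of_eq hx03)).upd 1 0 1 (le_of_eq hx10)).upd 1 3 1 (le_of_eq hx14)).upd 2 0 1 (le_of_eq hx30)).upd 2 3 1 (le_of_eq hx34)).upd 3 1 1 (le_of_eq hx41)).upd 3 2 3 (le_of_eq hx43)) ![1,1,1,1] (by decide) (by decide) 0 (by decide))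
      · -- 34=(3,1)
        exact False.elim (cert_false T ((skipEmb 2).trans (Function.Embedding.refl _)) (by norm_num) (fun _ => hall _) (((((((((LB_zero T ((skipEmb 2).trans (Function.Embedding.refl _))).upd 0 1 2 (le_of_eq hx01)).upd 0 2 1 (le_of_eq hx03)).upd 1 0 1 (le_of_eq hx10)).upd 1 3 1 (le_of_eq hx14)).upd 2 0 1 (le_of_eq hx30)).upd 2 3 3 (le_of_eq hx34)).upd 3 1 1 (le_of_eq hx41)).upd 3 2 1 (le_of_eq hx43)) ![1,1,1,1] (by decide) (by decide) 0 (by decide))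
    · -- 24=(1,2)
      exact False.elim (cert_false T ((skipEmb 3).trans (Function.Embedding.refl _)) (by norm_num) (fun _ => hall _) (((((((LB_zero T ((skipEmb 3).trans (Function.Embedding.refl _))).upd 0 1 2 (le_of_eq hx01)).upd 1 0 1 (le_of_eq hx10)).upd 1 3 1 (le_of_eq hx14)).upd 2 3 1 (le_of_eq hx24)).upd 3 1 1 (le_of_eq hx41)).upd 3 2 2 (le_of_eq hx42)) ![2,2,1,2] (by decide) (by decide) 0 (by decide))
    · -- 24=(2,1)
      exact False.elim (cert_false T ((skipEmb 3).trans (Function.Embedding.refl _)) (by norm_num) (fun _ => hall _) (((((((LB_zero T ((skipEmb 3).trans (Function.Embedding.refl _))).upd 0 1 2 (le_of_eq hx01)).upd 1 0 1 (le_of_eq hx10)).upd 1 3 1 (le_of_eq hx14)).upd 2 3 2 (le_of_eq hx24)).upd 3 1 1 (le_of_eq hx41)).upd 3 2 1 (le_of_eq hx42)) ![1,1,1,1] (by decide) (by decide) 0 (by decide))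
    · -- 24=(1,3)
      exact False.elim (cert_false T ((skipEmb 3).trans (Function.Embedding.refl _)) (by norm_num) (fun _ => hall _) (((((LB_zero T ((skipEmb 3).trans (Function.Embedding.refl _))).upd 1 3 1 (le_of_eq hx14)).upd 2 3 1 (le_of_eq hx24)).upd 3 1 1 (le_of_eq hx41)).upd 3 2 3 (le_of_eq hx42)) ![0,1,1,2] (by decide) (by decide) 1 (by decide))
    · -- 24=(3,1)
      exact False.elim (cert_false T ((skipEmb 3).trans (Function.Embedding.refl _)) (by norm_num) (fun _ => hall _) (((((((LB_zero T ((skipEmb 3).trans (Function.Embedding.refl _))).upd 0 1 2 (le_of_eq hx01)).upd 1 0 1 (le_of_eq hx10)).upd 1 3 1 (le_of_eq hx14)).upd 2 3 3 (le_of_eq hx24)).upd 3 1 1 (le_of_eq hx41)).upd 3 2 1 (le_of_eq hx42)) ![1,1,1,1] (by decide) (by decide) 0 (by decide))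
  · -- 14=(1,2)
    exact False.elim (cert_false T ((skipEmb 3).trans (Function.Embedding.refl _)) (by norm_num) (fun _ => hall _) (((((LB_zero T ((skipEmb 3).trans (Function.Embedding.refl _))).upd 0 1 2 (le_of_eq hx01)).upd 1 0 1 (le_of_eq hx10)).upd 1 3 1 (le_of_eq hx14)).upd 3 1 2 (le_of_eq hx41)) ![1,1,0,1] (by decide) (by decide) 0 (by decide))
  · -- 14=(2,1)
    exact False.elim (cert_false T ((skipEmb 3).trans (Function.Embedding.refl _)) (by norm_num) (fun _ => hall _) (((((LB_zero T ((skipEmb 3).trans (Function.Embedding.refl _))).upd 0 1 2 (le_of_eq hx01)).upd 1 0 1 (le_of_eq hx10)).upd 1 3 2 (le_of_eq hx14)).upd 3 1 1 (le_of_eq hx41)) ![2,2,0,1] (by decide) (by decide) 0 (by decide))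
  · -- 14=(1,3)
    exact False.elim (cert_false T ((skipEmb 3).trans (Function.Embedding.refl _)) (by norm_num) (fun _ => hall _) (((((LB_zero T ((skipEmb 3).trans (Function.Embedding.refl _))).upd 0 1 2 (le_of_eq hx01)).upd 1 0 1 (le_of_eq hx10)).upd 1 3 1 (le_of_eq hx14)).upd 3 1 3 (le_of_eq hx41)) ![1,1,0,1] (by decide) (by decide) 0 (by decide))
  · -- 14=(3,1)
    exact False.elim (cert_false T ((skipEmb 3).trans (Function.Embedding.refl _)) (by norm_num) (fun _ => hall _) (((((LB_zero T ((skipEmb 3).trans (Function.Embedding.refl _))).upd 0 1 2 (le_of_eq hx01)).upd 1 0 1 (le_of_eq hx10)).upd 1 3 3 (le_of_eq hx14)).upd 3 1 1 (le_of_eq hx41)) ![1,2,0,1] (by decide) (by decide) 0 (by decide))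

theorem case484 (T : NumericalType 5) (hall : ∀ i, T.IsMinusTwo i) (d : SData T)
    (h01 : N T (Function.Embedding.refl _) 0 1 = 2) (h10 : N T (Function.Embedding.refl _) 1 0 = 1)
    (h02 : N T (Function.Embedding.refl _) 0 2 = 0) (h20 : N T (Function.Embedding.refl _) 2 0 = 0)
    (h12 : N T (Function.Embedding.refl _) 1 2 = 0) (h21 : N T (Function.Embedding.refl _) 2 1 = 0)
    (h03 : N T (Function.Embedding.refl _) 0 3 = 1) (h30 : N T (Function.Embedding.refl _) 3 0 = 1)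
    (h13 : N T (Function.Embedding.refl _) 1 3 = 0) (h31 : N T (Function.Embedding.refl _) 3 1 = 0)
    (h23 : N T (Function.Embedding.refl _) 2 3 = 0) (h32 : N T (Function.Embedding.refl _) 3 2 = 0) :
    Goal T := by
  unfold Goal
  have hd := d
  obtain ⟨x01, x02, x03, x04, x10, x12, x13, x14, x20, x21, x23, x24, x30, x31, x32, x34, x40, x41, x42, x43, hx01, hx02, hx03, hx04, hx10, hx12, hx13, hx14, hx20, hx21, hx23, hx24, hx30, hx31, hx32, hx34, hx40, hx41, hx42, hx43, hw0, hm0, hw1, hm1, hw2, hm2, hw3, hm3, hw4, hm4, a00, a01, a02, a03, a04, a11, a10, a12, a13, a14, a22, a20, a21, a23, a24, a33, a30, a31, a32, a34, a44, a40, a41, a42, a43, wN01, wN02, wN12, wN03, wN13, wN23, wN04, wN14, wN24, wN34, e0, e1, e2, e3, e4, d01, d02, d12, d03, d13, d23, d04, d14, d24, d34⟩ := d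
  obtain rfl : x01 = 2 := hx01.trans h01
  obtain rfl : x10 = 1 := hx10.trans h10
  obtain rfl : x02 = 0 := hx02.trans h02
  obtain rfl : x20 = 0 := hx20.trans h20
  obtain rfl : x12 = 0 := hx12.trans h12
  obtain rfl : x21 = 0 := hx21.trans h21
  obtain rfl : x03 = 1 := hx03.trans h03
  obtain rfl : x30 = 1 := hx30.trans h30
  obtain rfl : x13 = 0 := hx13.trans h13
  obtain rfl : x31 = 0 := hx31.trans h31
  obtain rfl : x23 = 0 := hx23.trans h23
  obtain rfl : x32 = 0 := hx32.trans h32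
  rcases d04 with ⟨rfl, rfl⟩ | ⟨rfl, rfl⟩ | ⟨rfl, rfl⟩ | ⟨rfl, rfl⟩ | ⟨rfl, rfl⟩ | ⟨rfl, rfl⟩
  · -- 04=(0,0)
    exact case485 T hall hd hx01.symm hx10.symm hx02.symm hx20.symm hx12.symm hx21.symm hx03.symm hx30.symm hx13.symm hx31.symm hx23.symm hx32.symm hx04.symm hx40.symm
  · -- 04=(1,1)
    exact False.elim (cert_false T ((skipEmb 2).trans (Function.Embedding.refl _)) (by norm_num) (fun _ => hall _) (((((((LB_zero T ((skipEmb 2).trans (Function.Embedding.refl _))).upd 0 1 2 (le_of_eq hx01)).upd 0 2 1 (le_of_eq hx03)).upd 0 3 1 (le_of_eq hx04)).upd 1 0 1 (le_of_eq hx10)).upd 2 0 1 (le_of_eq hx30)).upd 3 0 1 (le_of_eq hx40)) ![2,1,1,1] (by decide) (by decide) 0 (by decide))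
  · -- 04=(1,2)
    exact False.elim (cert_false T ((skipEmb 3).trans (Function.Embedding.refl _)) (by norm_num) (fun _ => hall _) (((((LB_zero T ((skipEmb 3).trans (Function.Embedding.refl _))).upd 0 1 2 (le_of_eq hx01)).upd 0 3 1 (le_of_eq hx04)).upd 1 0 1 (le_of_eq hx10)).upd 3 0 2 (le_of_eq hx40)) ![2,1,0,2] (by decide) (by decide) 0 (by decide))
  · -- 04=(2,1)
    exact False.elim (cert_false T ((skipEmb 3).trans (Function.Embedding.refl _)) (by norm_num) (fun _ => hall _) (((((LB_zero T ((skipEmb 3).trans (Function.Embedding.refl _))).upd 0 1 2 (le_of_eq hx01)).upd 0 3 2 (le_of_eq hx04)).upd 1 0 1 (le_of_eq hx10)).upd 3 0 1 (le_of_eq hx40)) ![2,1,0,1] (by decide) (by decide) 0 (by decide))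
  · -- 04=(1,3)
    exact False.elim (cert_false T ((skipEmb 3).trans (Function.Embedding.refl _)) (by norm_num) (fun _ => hall _) (((((LB_zero T ((skipEmb 3).trans (Function.Embedding.refl _))).upd 0 1 2 (le_of_eq hx01)).upd 0 3 1 (le_of_eq hx04)).upd 1 0 1 (le_of_eq hx10)).upd 3 0 3 (le_of_eq hx40)) ![2,1,0,2] (by decide) (by decide) 0 (by decide))
  · -- 04=(3,1)
    exact False.elim (cert_false T ((skipEmb 3).trans (Function.Embedding.refl _)) (by norm_num) (fun _ => hall _) (((((LB_zero T ((skipEmb 3).trans (Function.Embedding.refl _))).upd 0 1 2 (le_of_eq hx01)).upd 0 3 3 (le_of_eq hx04)).upd 1 0 1 (le_of_eq hx10)).upd 3 0 1 (le_of_eq hx40)) ![2,1,0,1] (by decide) (by decide) 0 (by decide))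

theorem case486 (T : NumericalType 5) (hall : ∀ i, T.IsMinusTwo i) (d : SData T)
    (h01 : N T (Function.Embedding.refl _) 0 1 = 2) (h10 : N T (Function.Embedding.refl _) 1 0 = 1)
    (h02 : N T (Function.Embedding.refl _) 0 2 = 0) (h20 : N T (Function.Embedding.refl _) 2 0 = 0)
    (h12 : N T (Function.Embedding.refl _) 1 2 = 0) (h21 : N T (Function.Embedding.refl _) 2 1 = 0)
    (h03 : N T (Function.Embedding.refl _) 0 3 = 1) (h30 : N T (Function.Embedding.refl _) 3 0 = 1)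
    (h13 : N T (Function.Embedding.refl _) 1 3 = 0) (h31 : N T (Function.Embedding.refl _) 3 1 = 0)
    (h23 : N T (Function.Embedding.refl _) 2 3 = 1) (h32 : N T (Function.Embedding.refl _) 3 2 = 1) :
    Goal T := by
  unfold Goal
  have hd := d
  obtain ⟨x01, x02, x03, x04, x10, x12, x13, x14, x20, x21, x23, x24, x30, x31, x32, x34, x40, x41, x42, x43, hx01, hx02, hx03, hx04, hx10, hx12, hx13, hx14, hx20, hx21, hx23, hx24, hx30, hx31, hx32, hx34, hx40, hx41, hx42, hx43, hw0, hm0, hw1, hm1, hw2, hm2, hw3, hm3, hw4, hm4, a00, a01, a02, a03, a04, a11, a10, a12, a13, a14, a22, a20, a21, a23, a24, a33, a30, a31, a32, a34, a44, a40, a41, a42, a43, wN01, wN02, wN12, wN03, wN13, wN23, wN04, wN14, wN24, wN34, e0, e1, e2, e3, e4, d01, d02, d12, d03, d13, d23, d04, d14, d24, d34⟩ := d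
  obtain rfl : x01 = 2 := hx01.trans h01
  obtain rfl : x10 = 1 := hx10.trans h10
  obtain rfl : x02 = 0 := hx02.trans h02
  obtain rfl : x20 = 0 := hx20.trans h20
  obtain rfl : x12 = 0 := hx12.trans h12
  obtain rfl : x21 = 0 := hx21.trans h21
  obtain rfl : x03 = 1 := hx03.trans h03
  obtain rfl : x30 = 1 := hx30.trans h30
  obtain rfl : x13 = 0 := hx13.trans h13
  obtain rfl : x31 = 0 := hx31.trans h31
  obtain rfl : x23 = 1 := hx23.trans h23
  obtain rfl : x32 = 1 := hx32.trans h32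
  rcases d04 with ⟨rfl, rfl⟩ | ⟨rfl, rfl⟩ | ⟨rfl, rfl⟩ | ⟨rfl, rfl⟩ | ⟨rfl, rfl⟩ | ⟨rfl, rfl⟩
  · -- 04=(0,0)
    rcases d14 with ⟨rfl, rfl⟩ | ⟨rfl, rfl⟩ | ⟨rfl, rfl⟩ | ⟨rfl, rfl⟩ | ⟨rfl, rfl⟩ | ⟨rfl, rfl⟩
    · -- 14=(0,0)
      rcases d24 with ⟨rfl, rfl⟩ | ⟨rfl, rfl⟩ | ⟨rfl, rfl⟩ | ⟨rfl, rfl⟩ | ⟨rfl, rfl⟩ | ⟨rfl, rfl⟩
      · -- 24=(0,0)
        rcases d34 with ⟨rfl, rfl⟩ | ⟨rfl, rfl⟩ | ⟨rfl, rfl⟩ | ⟨rfl, rfl⟩ | ⟨rfl, rfl⟩ | ⟨rfl, rfl⟩
        · -- 34=(0,0)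
          exfalso; omega
        · -- 34=(1,1)
          refine ⟨(⟨![1, 0, 3, 2, 4], ![1, 0, 3, 2, 4], by decide, by decide⟩ : Equiv.Perm (Fin 5)), T.m 1, T.w 0, Or.inr (Or.inr (Or.inr (Or.inr (Or.inr (Or.inr (Or.inr (Or.inl ?_)))))))⟩
          show T.m 1 = T.m 1 ∧ T.m 0 = 2 * T.m 1 ∧ T.m 3 = 2 * T.m 1 ∧ T.m 2 = T.m 1 ∧ T.m 4 = T.m 1 ∧ T.w 1 = 2 * T.w 0 ∧ T.w 0 = T.w 0 ∧ T.w 3 = T.w 0 ∧ T.w 2 = T.w 0 ∧ T.w 4 = T.w 0 ∧ T.a 1 1 = -4 * T.w 0 ∧ T.a 1 0 = 2 * T.w 0 ∧ T.a 1 3 = 0 ∧ T.a 1 2 = 0 ∧ T.a 1 4 = 0 ∧ T.a 0 0 = -2 * T.w 0 ∧ T.a 0 3 = T.w 0 ∧ T.a 0 2 = 0 ∧ T.a 0 4 = 0 ∧ T.a 3 3 = -2 * T.w 0 ∧ T.a 3 2 = T.w 0 ∧ T.a 3 4 = T.w 0 ∧ T.a 2 2 = -2 * T.w 0 ∧ T.a 2 4 = 0 ∧ T.a 4 4 = -2 * T.w 0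
          refine ⟨?_, ?_, ?_, ?_, ?_, ?_, ?_, ?_, ?_, ?_, ?_, ?_, ?_, ?_, ?_, ?_, ?_, ?_, ?_, ?_, ?_, ?_, ?_, ?_, ?_⟩ <;> omega
        · -- 34=(1,2)
          exact False.elim (cert_false T ((skipEmb 2).trans (Function.Embedding.refl _)) (by norm_num) (fun _ => hall _) (((((((LB_zero T ((skipEmb 2).trans (Function.Embedding.refl _))).upd 0 1 2 (le_of_eq hx01)).upd 0 2 1 (le_of_eq hx03)).upd 1 0 1 (le_of_eq hx10)).upd 2 0 1 (le_of_eq hx30)).upd 2 3 1 (le_of_eq hx34)).upd 3 2 2 (le_of_eq hx43)) ![2,1,2,2] (by decide) (by decide) 0 (by decide))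
        · -- 34=(2,1)
          exact False.elim (cert_false T ((skipEmb 2).trans (Function.Embedding.refl _)) (by norm_num) (fun _ => hall _) (((((((LB_zero T ((skipEmb 2).trans (Function.Embedding.refl _))).upd 0 1 2 (le_of_eq hx01)).upd 0 2 1 (le_of_eq hx03)).upd 1 0 1 (le_of_eq hx10)).upd 2 0 1 (le_of_eq hx30)).upd 2 3 2 (le_of_eq hx34)).upd 3 2 1 (le_of_eq hx43)) ![2,1,2,1] (by decide) (by decide) 0 (by decide))
        · -- 34=(1,3)
          exact False.elim (cert_false T ((skipEmb 2).trans (Function.Embedding.refl _)) (by norm_num) (fun _ => hall _) (((((((LB_zero T ((skipEmb 2).trans (Function.Embedding.refl _))).upd 0 1 2 (le_of_eq hx01)).upd 0 2 1 (le_of_eq hx03)).upd 1 0 1 (le_of_eq hx10)).upd 2 0 1 (le_of_eq hx30)).upd 2 3 1 (le_of_eq hx34)).upd 3 2 3 (le_of_eq hx43)) ![2,1,2,2] (by decide) (by decide) 0 (by decide))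
        · -- 34=(3,1)
          exact False.elim (cert_false T ((skipEmb 2).trans (Function.Embedding.refl _)) (by norm_num) (fun _ => hall _) (((((LB_zero T ((skipEmb 2).trans (Function.Embedding.refl _))).upd 0 2 1 (le_of_eq hx03)).upd 2 0 1 (le_of_eq hx30)).upd 2 3 3 (le_of_eq hx34)).upd 3 2 1 (le_of_eq hx43)) ![1,0,2,1] (by decide) (by decide) 0 (by decide))
      · -- 24=(1,1)
        rcases d34 with ⟨rfl, rfl⟩ | ⟨rfl, rfl⟩ | ⟨rfl, rfl⟩ | ⟨rfl, rfl⟩ | ⟨rfl, rfl⟩ | ⟨rfl, rfl⟩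
        · -- 34=(0,0)
          exfalso; omega
        · -- 34=(1,1)
          exact False.elim (cert_false T ((skipEmb 1).trans (Function.Embedding.refl _)) (by norm_num) (fun _ => hall _) (((((((LB_zero T ((skipEmb 1).trans (Function.Embedding.refl _))).upd 1 2 1 (le_of_eq hx23)).upd 1 3 1 (le_of_eq hx24)).upd 2 1 1 (le_of_eq hx32)).upd 2 3 1 (le_of_eq hx34)).upd 3 1 1 (le_of_eq hx42)).upd 3 2 1 (le_of_eq hx43)) ![0,1,1,1] (by decide) (by decide) 1 (by decide))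
        · -- 34=(1,2)
          exact False.elim (cert_false T ((skipEmb 2).trans (Function.Embedding.refl _)) (by norm_num) (fun _ => hall _) (((((((LB_zero T ((skipEmb 2).trans (Function.Embedding.refl _))).upd 0 1 2 (le_of_eq hx01)).upd 0 2 1 (le_of_eq hx03)).upd 1 0 1 (le_of_eq hx10)).upd 2 0 1 (le_of_eq hx30)).upd 2 3 1 (le_of_eq hx34)).upd 3 2 2 (le_of_eq hx43)) ![2,1,2,2] (by decide) (by decide) 0 (by decide))
        · -- 34=(2,1)
          exact False.elim (cert_false T ((skipEmb 2).trans (Function.Embedding.refl _)) (by norm_num) (fun _ => hall _) (((((((LB_zero T ((skipEmb 2).trans (Function.Embedding.refl _))).upd 0 1 2 (le_of_eq hx01)).upd 0 2 1 (le_of_eq hx03)).upd 1 0 1 (le_of_eq hx10)).upd 2 0 1 (le_of_eq hx30)).upd 2 3 2 (le_of_eq hx34)).upd 3 2 1 (le_of_eq hx43)) ![2,1,2,1] (by decide) (by decide) 0 (by decide))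
        · -- 34=(1,3)
          exact False.elim (cert_false T ((skipEmb 2).trans (Function.Embedding.refl _)) (by norm_num) (fun _ => hall _) (((((((LB_zero T ((skipEmb 2).trans (Function.Embedding.refl _))).upd 0 1 2 (le_of_eq hx01)).upd 0 2 1 (le_of_eq hx03)).upd 1 0 1 (le_of_eq hx10)).upd 2 0 1 (le_of_eq hx30)).upd 2 3 1 (le_of_eq hx34)).upd 3 2 3 (le_of_eq hx43)) ![2,1,2,2] (by decide) (by decide) 0 (by decide))
        · -- 34=(3,1)
          exact False.elim (cert_false T ((skipEmb 2).trans (Function.Embedding.refl _)) (by norm_num) (fun _ => hall _) (((((LB_zero T ((skipEmb 2).trans (Function.Embedding.refl _))).upd 0 2 1 (le_of_eq hx03)).upd 2 0 1 (le_of_eq hx30)).upd 2 3 3 (le_of_eq hx34)).upd 3 2 1 (le_of_eq hx43)) ![1,0,2,1] (by decide) (by decide) 0 (by decide))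
      · -- 24=(1,2)
        rcases d34 with ⟨rfl, rfl⟩ | ⟨rfl, rfl⟩ | ⟨rfl, rfl⟩ | ⟨rfl, rfl⟩ | ⟨rfl, rfl⟩ | ⟨rfl, rfl⟩
        · -- 34=(0,0)
          refine ⟨(⟨![4, 2, 3, 0, 1], ![3, 4, 1, 2, 0], by decide, by decide⟩ : Equiv.Perm (Fin 5)), T.m 1, T.w 4, Or.inr (Or.inr (Or.inr (Or.inl ?_)))⟩
          show T.m 4 = 2 * T.m 1 ∧ T.m 2 = 2 * T.m 1 ∧ T.m 3 = 2 * T.m 1 ∧ T.m 0 = 2 * T.m 1 ∧ T.m 1 = T.m 1 ∧ T.w 4 = T.w 4 ∧ T.w 2 = 2 * T.w 4 ∧ T.w 3 = 2 * T.w 4 ∧ T.w 0 = 2 * T.w 4 ∧ T.w 1 = 4 * T.w 4 ∧ T.a 4 4 = -2 * T.w 4 ∧ T.a 4 2 = 2 * T.w 4 ∧ T.a 4 3 = 0 ∧ T.a 4 0 = 0 ∧ T.a 4 1 = 0 ∧ T.a 2 2 = -4 * T.w 4 ∧ T.a 2 3 = 2 * T.w 4 ∧ T.a 2 0 = 0 ∧ T.a 2 1 = 0 ∧ T.a 3 3 = -4 * T.w 4 ∧ T.a 3 0 = 2 * T.w 4 ∧ T.a 3 1 = 0 ∧ T.a 0 0 = -4 * T.w 4 ∧ T.a 0 1 = 4 * T.w 4 ∧ T.a 1 1 = -8 * T.w 4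
          refine ⟨?_, ?_, ?_, ?_, ?_, ?_, ?_, ?_, ?_, ?_, ?_, ?_, ?_, ?_, ?_, ?_, ?_, ?_, ?_, ?_, ?_, ?_, ?_, ?_, ?_⟩ <;> omega
        · -- 34=(1,1)
          exact False.elim (cert_false T ((skipEmb 1).trans (Function.Embedding.refl _)) (by norm_num) (fun _ => hall _) (((((((LB_zero T ((skipEmb 1).trans (Function.Embedding.refl _))).upd 1 2 1 (le_of_eq hx23)).upd 1 3 1 (le_of_eq hx24)).upd 2 1 1 (le_of_eq hx32)).upd 2 3 1 (le_of_eq hx34)).upd 3 1 2 (le_of_eq hx42)).upd 3 2 1 (le_of_eq hx43)) ![0,1,1,1] (by decide) (by decide) 1 (by decide))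
        · -- 34=(1,2)
          exact False.elim (cert_false T ((skipEmb 2).trans (Function.Embedding.refl _)) (by norm_num) (fun _ => hall _) (((((((LB_zero T ((skipEmb 2).trans (Function.Embedding.refl _))).upd 0 1 2 (le_of_eq hx01)).upd 0 2 1 (le_of_eq hx03)).upd 1 0 1 (le_of_eq hx10)).upd 2 0 1 (le_of_eq hx30)).upd 2 3 1 (le_of_eq hx34)).upd 3 2 2 (le_of_eq hx43)) ![2,1,2,2] (by decide) (by decide) 0 (by decide))
        · -- 34=(2,1)
          exact False.elim (cert_false T ((skipEmb 2).trans (Function.Embedding.refl _)) (by norm_num) (fun _ => hall _) (((((((LB_zero T ((skipEmb 2).trans (Function.Embedding.refl _))).upd 0 1 2 (le_of_eq hx01)).upd 0 2 1 (le_of_eq hx03)).upd 1 0 1 (le_of_eq hx10)).upd 2 0 1 (le_of_eq hx30)).upd 2 3 2 (le_of_eq hx34)).upd 3 2 1 (le_of_eq hx43)) ![2,1,2,1] (by decide) (by decide) 0 (by decide))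
        · -- 34=(1,3)
          exact False.elim (cert_false T ((skipEmb 2).trans (Function.Embedding.refl _)) (by norm_num) (fun _ => hall _) (((((((LB_zero T ((skipEmb 2).trans (Function.Embedding.refl _))).upd 0 1 2 (le_of_eq hx01)).upd 0 2 1 (le_of_eq hx03)).upd 1 0 1 (le_of_eq hx10)).upd 2 0 1 (le_of_eq hx30)).upd 2 3 1 (le_of_eq hx34)).upd 3 2 3 (le_of_eq hx43)) ![2,1,2,2] (by decide) (by decide) 0 (by decide))
        · -- 34=(3,1)
          exact False.elim (cert_false T ((skipEmb 2).trans (Function.Embedding.refl _)) (by norm_num) (fun _ => hall _) (((((LB_zero T ((skipEmb 2).trans (Function.Embedding.refl _))).upd 0 2 1 (le_of_eq hx03)).upd 2 0 1 (le_of_eq hx30)).upd 2 3 3 (le_of_eq hx34)).upd 3 2 1 (le_of_eq hx43)) ![1,0,2,1] (by decide) (by decide) 0 (by decide))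
      · -- 24=(2,1)
        rcases d34 with ⟨rfl, rfl⟩ | ⟨rfl, rfl⟩ | ⟨rfl, rfl⟩ | ⟨rfl, rfl⟩ | ⟨rfl, rfl⟩ | ⟨rfl, rfl⟩
        · -- 34=(0,0)
          refine ⟨(⟨![1, 0, 3, 2, 4], ![1, 0, 3, 2, 4], by decide, by decide⟩ : Equiv.Perm (Fin 5)), T.m 1, T.w 0, Or.inr (Or.inr (Or.inr (Or.inr (Or.inr (Or.inl ?_)))))⟩
          show T.m 1 = T.m 1 ∧ T.m 0 = 2 * T.m 1 ∧ T.m 3 = 2 * T.m 1 ∧ T.m 2 = 2 * T.m 1 ∧ T.m 4 = T.m 1 ∧ T.w 1 = 2 * T.w 0 ∧ T.w 0 = T.w 0 ∧ T.w 3 = T.w 0 ∧ T.w 2 = T.w 0 ∧ T.w 4 = 2 * T.w 0 ∧ T.a 1 1 = -4 * T.w 0 ∧ T.a 1 0 = 2 * T.w 0 ∧ T.a 1 3 = 0 ∧ T.a 1 2 = 0 ∧ T.a 1 4 = 0 ∧ T.a 0 0 = -2 * T.w 0 ∧ T.a 0 3 = T.w 0 ∧ T.a 0 2 = 0 ∧ T.a 0 4 = 0 ∧ T.a 3 3 = -2 * T.w 0 ∧ T.a 3 2 = T.w 0 ∧ T.a 3 4 = 0 ∧ T.a 2 2 = -2 * T.w 0 ∧ T.a 2 4 = 2 * T.w 0 ∧ T.a 4 4 = -4 * T.w 0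
          refine ⟨?_, ?_, ?_, ?_, ?_, ?_, ?_, ?_, ?_, ?_, ?_, ?_, ?_, ?_, ?_, ?_, ?_, ?_, ?_, ?_, ?_, ?_, ?_, ?_, ?_⟩ <;> omega
        · -- 34=(1,1)
          exact False.elim (cert_false T ((skipEmb 1).trans (Function.Embedding.refl _)) (by norm_num) (fun _ => hall _) (((((((LB_zero T ((skipEmb 1).trans (Function.Embedding.refl _))).upd 1 2 1 (le_of_eq hx23)).upd 1 3 2 (le_of_eq hx24)).upd 2 1 1 (le_of_eq hx32)).upd 2 3 1 (le_of_eq hx34)).upd 3 1 1 (le_of_eq hx42)).upd 3 2 1 (le_of_eq hx43)) ![0,1,1,1] (by decide) (by decide) 1 (by decide))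
        · -- 34=(1,2)
          exact False.elim (cert_false T ((skipEmb 2).trans (Function.Embedding.refl _)) (by norm_num) (fun _ => hall _) (((((((LB_zero T ((skipEmb 2).trans (Function.Embedding.refl _))).upd 0 1 2 (le_of_eq hx01)).upd 0 2 1 (le_of_eq hx03)).upd 1 0 1 (le_of_eq hx10)).upd 2 0 1 (le_of_eq hx30)).upd 2 3 1 (le_of_eq hx34)).upd 3 2 2 (le_of_eq hx43)) ![2,1,2,2] (by decide) (by decide) 0 (by decide))
        · -- 34=(2,1)
          exact False.elim (cert_false T ((skipEmb 2).trans (Function.Embedding.refl _)) (by norm_num) (fun _ => hall _) (((((((LB_zero T ((skipEmb 2).trans (Function.Embedding.refl _))).upd 0 1 2 (le_of_eq hx01)).upd 0 2 1 (le_of_eq hx03)).upd 1 0 1 (le_of_eq hx10)).upd 2 0 1 (le_of_eq hx30)).upd 2 3 2 (le_of_eq hx34)).upd 3 2 1 (le_of_eq hx43)) ![2,1,2,1] (by decide) (by decide) 0 (by decide))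
        · -- 34=(1,3)
          exact False.elim (cert_false T ((skipEmb 2).trans (Function.Embedding.refl _)) (by norm_num) (fun _ => hall _) (((((((LB_zero T ((skipEmb 2).trans (Function.Embedding.refl _))).upd 0 1 2 (le_of_eq hx01)).upd 0 2 1 (le_of_eq hx03)).upd 1 0 1 (le_of_eq hx10)).upd 2 0 1 (le_of_eq hx30)).upd 2 3 1 (le_of_eq hx34)).upd 3 2 3 (le_of_eq hx43)) ![2,1,2,2] (by decide) (by decide) 0 (by decide))
        · -- 34=(3,1)
          exact False.elim (cert_false T ((skipEmb 2).trans (Function.Embedding.refl _)) (by norm_num) (fun _ => hall _) (((((LB_zero T ((skipEmb 2).trans (Function.Embedding.refl _))).upd 0 2 1 (le_of_eq hx03)).upd 2 0 1 (le_of_eq hx30)).upd 2 3 3 (le_of_eq hx34)).upd 3 2 1 (le_of_eq hx43)) ![1,0,2,1] (by decide) (by decide) 0 (by decide))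
      · -- 24=(1,3)
        exact False.elim (cert_false T ((skipEmb 1).trans (Function.Embedding.refl _)) (by norm_num) (fun _ => hall _) (((((LB_zero T ((skipEmb 1).trans (Function.Embedding.refl _))).upd 1 2 1 (le_of_eq hx23)).upd 1 3 1 (le_of_eq hx24)).upd 2 1 1 (le_of_eq hx32)).upd 3 1 3 (le_of_eq hx42)) ![0,2,1,3] (by decide) (by decide) 1 (by decide))
      · -- 24=(3,1)
        exact False.elim (cert_false T ((skipEmb 1).trans (Function.Embedding.refl _)) (by norm_num) (fun _ => hall _) (((((LB_zero T ((skipEmb 1).trans (Function.Embedding.refl _))).upd 1 2 1 (le_of_eq hx23)).upd 1 3 3 (le_of_eq hx24)).upd 2 1 1 (le_of_eq hx32)).upd 3 1 1 (le_of_eq hx42)) ![0,2,1,1] (by decide) (by decide) 1 (by decide))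
    · -- 14=(1,1)
      rcases d24 with ⟨rfl, rfl⟩ | ⟨rfl, rfl⟩ | ⟨rfl, rfl⟩ | ⟨rfl, rfl⟩ | ⟨rfl, rfl⟩ | ⟨rfl, rfl⟩
      · -- 24=(0,0)
        rcases d34 with ⟨rfl, rfl⟩ | ⟨rfl, rfl⟩ | ⟨rfl, rfl⟩ | ⟨rfl, rfl⟩ | ⟨rfl, rfl⟩ | ⟨rfl, rfl⟩
        · -- 34=(0,0)
          refine ⟨(⟨![2, 3, 0, 1, 4], ![2, 3, 0, 1, 4], by decide, by decide⟩ : Equiv.Perm (Fin 5)), T.m 2, T.w 2, Or.inr (Or.inl ?_)⟩
          show T.m 2 = T.m 2 ∧ T.m 3 = 2 * T.m 2 ∧ T.m 0 = 3 * T.m 2 ∧ T.m 1 = 2 * T.m 2 ∧ T.m 4 = T.m 2 ∧ T.w 2 = T.w 2 ∧ T.w 3 = T.w 2 ∧ T.w 0 = T.w 2 ∧ T.w 1 = 2 * T.w 2 ∧ T.w 4 = 2 * T.w 2 ∧ T.a 2 2 = -2 * T.w 2 ∧ T.a 2 3 = T.w 2 ∧ T.a 2 0 = 0 ∧ T.a 2 1 = 0 ∧ T.a 2 4 = 0 ∧ T.a 3 3 = -2 * T.w 2 ∧ T.a 3 0 = T.w 2 ∧ T.a 3 1 = 0 ∧ T.a 3 4 = 0 ∧ T.a 0 0 = -2 * T.w 2 ∧ T.a 0 1 = 2 * T.w 2 ∧ T.a 0 4 = 0 ∧ T.a 1 1 = -4 * T.w 2 ∧ T.a 1 4 = 2 * T.w 2 ∧ T.a 4 4 = -4 * T.w 2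
          refine ⟨?_, ?_, ?_, ?_, ?_, ?_, ?_, ?_, ?_, ?_, ?_, ?_, ?_, ?_, ?_, ?_, ?_, ?_, ?_, ?_, ?_, ?_, ?_, ?_, ?_⟩ <;> omega
        · -- 34=(1,1)
          exact False.elim (cert_false T ((skipEmb 2).trans (Function.Embedding.refl _)) (by norm_num) (fun _ => hall _) (((((((((LB_zero T ((skipEmb 2).trans (Function.Embedding.refl _))).upd 0 1 2 (le_of_eq hx01)).upd 0 2 1 (le_of_eq hx03)).upd 1 0 1 (le_of_eq hx10)).upd 1 3 1 (le_of_eq hx14)).upd 2 0 1 (le_of_eq hx30)).upd 2 3 1 (le_of_eq hx34)).upd 3 1 1 (le_of_eq hx41)).upd 3 2 1 (le_of_eq hx43)) ![1,1,1,1] (by decide) (by decide) 0 (by decide))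
        · -- 34=(1,2)
          exact False.elim (cert_false T ((skipEmb 2).trans (Function.Embedding.refl _)) (by norm_num) (fun _ => hall _) (((((((((LB_zero T ((skipEmb 2).trans (Function.Embedding.refl _))).upd 0 1 2 (le_of_eq hx01)).upd 0 2 1 (le_of_eq hx03)).upd 1 0 1 (le_of_eq hx10)).upd 1 3 1 (le_of_eq hx14)).upd 2 0 1 (le_of_eq hx30)).upd 2 3 1 (le_of_eq hx34)).upd 3 1 1 (le_of_eq hx41)).upd 3 2 2 (le_of_eq hx43)) ![1,1,1,1] (by decide) (by decide) 0 (by decide))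
        · -- 34=(2,1)
          exact False.elim (cert_false T ((skipEmb 2).trans (Function.Embedding.refl _)) (by norm_num) (fun _ => hall _) (((((((((LB_zero T ((skipEmb 2).trans (Function.Embedding.refl _))).upd 0 1 2 (le_of_eq hx01)).upd 0 2 1 (le_of_eq hx03)).upd 1 0 1 (le_of_eq hx10)).upd 1 3 1 (le_of_eq hx14)).upd 2 0 1 (le_of_eq hx30)).upd 2 3 2 (le_of_eq hx34)).upd 3 1 1 (le_of_eq hx41)).upd 3 2 1 (le_of_eq hx43)) ![1,1,1,1] (by decide) (by decide) 0 (by decide))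
        · -- 34=(1,3)
          exact False.elim (cert_false T ((skipEmb 2).trans (Function.Embedding.refl _)) (by norm_num) (fun _ => hall _) (((((((((LB_zero T ((skipEmb 2).trans (Function.Embedding.refl _))).upd 0 1 2 (le_of_eq hx01)).upd 0 2 1 (le_of_eq hx03)).upd 1 0 1 (le_of_eq hx10)).upd 1 3 1 (le_of_eq hx14)).upd 2 0 1 (le_of_eq hx30)).upd 2 3 1 (le_of_eq hx34)).upd 3 1 1 (le_of_eq hx41)).upd 3 2 3 (le_of_eq hx43)) ![1,1,1,1] (by decide) (by decide) 0 (by decide))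
        · -- 34=(3,1)
          exact False.elim (cert_false T ((skipEmb 2).trans (Function.Embedding.refl _)) (by norm_num) (fun _ => hall _) (((((((((LB_zero T ((skipEmb 2).trans (Function.Embedding.refl _))).upd 0 1 2 (le_of_eq hx01)).upd 0 2 1 (le_of_eq hx03)).upd 1 0 1 (le_of_eq hx10)).upd 1 3 1 (le_of_eq hx14)).upd 2 0 1 (le_of_eq hx30)).upd 2 3 3 (le_of_eq hx34)).upd 3 1 1 (le_of_eq hx41)).upd 3 2 1 (le_of_eq hx43)) ![1,1,1,1] (by decide) (by decide) 0 (by decide))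
      · -- 24=(1,1)
        rcases d34 with ⟨rfl, rfl⟩ | ⟨rfl, rfl⟩ | ⟨rfl, rfl⟩ | ⟨rfl, rfl⟩ | ⟨rfl, rfl⟩ | ⟨rfl, rfl⟩
        · -- 34=(0,0)
          exfalso; omega
        · -- 34=(1,1)
          exact False.elim (cert_false T ((skipEmb 2).trans (Function.Embedding.refl _)) (by norm_num) (fun _ => hall _) (((((((((LB_zero T ((skipEmb 2).trans (Function.Embedding.refl _))).upd 0 1 2 (le_of_eq hx01)).upd 0 2 1 (le_of_eq hx03)).upd 1 0 1 (le_of_eq hx10)).upd 1 3 1 (le_of_eq hx14)).upd 2 0 1 (le_of_eq hx30)).upd 2 3 1 (le_of_eq hx34)).upd 3 1 1 (le_of_eq hx41)).upd 3 2 1 (le_of_eq hx43)) ![1,1,1,1] (by decide) (by decide) 0 (by decide))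
        · -- 34=(1,2)
          exact False.elim (cert_false T ((skipEmb 2).trans (Function.Embedding.refl _)) (by norm_num) (fun _ => hall _) (((((((((LB_zero T ((skipEmb 2).trans (Function.Embedding.refl _))).upd 0 1 2 (le_of_eq hx01)).upd 0 2 1 (le_of_eq hx03)).upd 1 0 1 (le_of_eq hx10)).upd 1 3 1 (le_of_eq hx14)).upd 2 0 1 (le_of_eq hx30)).upd 2 3 1 (le_of_eq hx34)).upd 3 1 1 (le_of_eq hx41)).upd 3 2 2 (le_of_eq hx43)) ![1,1,1,1] (by decide) (by decide) 0 (by decide))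
        · -- 34=(2,1)
          exact False.elim (cert_false T ((skipEmb 2).trans (Function.Embedding.refl _)) (by norm_num) (fun _ => hall _) (((((((((LB_zero T ((skipEmb 2).trans (Function.Embedding.refl _))).upd 0 1 2 (le_of_eq hx01)).upd 0 2 1 (le_of_eq hx03)).upd 1 0 1 (le_of_eq hx10)).upd 1 3 1 (le_of_eq hx14)).upd 2 0 1 (le_of_eq hx30)).upd 2 3 2 (le_of_eq hx34)).upd 3 1 1 (le_of_eq hx41)).upd 3 2 1 (le_of_eq hx43)) ![1,1,1,1] (by decide) (by decide) 0 (by decide))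
        · -- 34=(1,3)
          exact False.elim (cert_false T ((skipEmb 2).trans (Function.Embedding.refl _)) (by norm_num) (fun _ => hall _) (((((((((LB_zero T ((skipEmb 2).trans (Function.Embedding.refl _))).upd 0 1 2 (le_of_eq hx01)).upd 0 2 1 (le_of_eq hx03)).upd 1 0 1 (le_of_eq hx10)).upd 1 3 1 (le_of_eq hx14)).upd 2 0 1 (le_of_eq hx30)).upd 2 3 1 (le_of_eq hx34)).upd 3 1 1 (le_of_eq hx41)).upd 3 2 3 (le_of_eq hx43)) ![1,1,1,1] (by decide) (by decide) 0 (by decide))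
        · -- 34=(3,1)
          exact False.elim (cert_false T ((skipEmb 2).trans (Function.Embedding.refl _)) (by norm_num) (fun _ => hall _) (((((((((LB_zero T ((skipEmb 2).trans (Function.Embedding.refl _))).upd 0 1 2 (le_of_eq hx01)).upd 0 2 1 (le_of_eq hx03)).upd 1 0 1 (le_of_eq hx10)).upd 1 3 1 (le_of_eq hx14)).upd 2 0 1 (le_of_eq hx30)).upd 2 3 3 (le_of_eq hx34)).upd 3 1 1 (le_of_eq hx41)).upd 3 2 1 (le_of_eq hx43)) ![1,1,1,1] (by decide) (by decide) 0 (by decide))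
      · -- 24=(1,2)
        exact False.elim (cert_false T ((skipEmb 3).trans (Function.Embedding.refl _)) (by norm_num) (fun _ => hall _) (((((((LB_zero T ((skipEmb 3).trans (Function.Embedding.refl _))).upd 0 1 2 (le_of_eq hx01)).upd 1 0 1 (le_of_eq hx10)).upd 1 3 1 (le_of_eq hx14)).upd 2 3 1 (le_of_eq hx24)).upd 3 1 1 (le_of_eq hx41)).upd 3 2 2 (le_of_eq hx42)) ![2,2,1,2] (by decide) (by decide) 0 (by decide))
      · -- 24=(2,1)
        exact False.elim (cert_false T ((skipEmb 3).trans (Function.Embedding.refl _)) (by norm_num) (fun _ => hall _) (((((((LB_zero T ((skipEmb 3).trans (Function.Embedding.refl _))).upd 0 1 2 (le_of_eq hx01)).upd 1 0 1 (le_of_eq hx10)).upd 1 3 1 (le_of_eq hx14)).upd 2 3 2 (le_of_eq hx24)).upd 3 1 1 (le_of_eq hx41)).upd 3 2 1 (le_of_eq hx42)) ![1,1,1,1] (by decide) (by decide) 0 (by decide))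
      · -- 24=(1,3)
        exact False.elim (cert_false T ((skipEmb 3).trans (Function.Embedding.refl _)) (by norm_num) (fun _ => hall _) (((((LB_zero T ((skipEmb 3).trans (Function.Embedding.refl _))).upd 1 3 1 (le_of_eq hx14)).upd 2 3 1 (le_of_eq hx24)).upd 3 1 1 (le_of_eq hx41)).upd 3 2 3 (le_of_eq hx42)) ![0,1,1,2] (by decide) (by decide) 1 (by decide))
      · -- 24=(3,1)
        exact False.elim (cert_false T ((skipEmb 3).trans (Function.Embedding.refl _)) (by norm_num) (fun _ => hall _) (((((((LB_zero T ((skipEmb 3).trans (Function.Embedding.refl _))).upd 0 1 2 (le_of_eq hx01)).upd 1 0 1 (le_of_eq hx10)).upd 1 3 1 (le_of_eq hx14)).upd 2 3 3 (le_of_eq hx24)).upd 3 1 1 (le_of_eq hx41)).upd 3 2 1 (le_of_eq hx42)) ![1,1,1,1] (by decide) (by decide) 0 (by decide))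
    · -- 14=(1,2)
      exact False.elim (cert_false T ((skipEmb 3).trans (Function.Embedding.refl _)) (by norm_num) (fun _ => hall _) (((((LB_zero T ((skipEmb 3).trans (Function.Embedding.refl _))).upd 0 1 2 (le_of_eq hx01)).upd 1 0 1 (le_of_eq hx10)).upd 1 3 1 (le_of_eq hx14)).upd 3 1 2 (le_of_eq hx41)) ![1,1,0,1] (by decide) (by decide) 0 (by decide))
    · -- 14=(2,1)
      exact False.elim (cert_false T ((skipEmb 3).trans (Function.Embedding.refl _)) (by norm_num) (fun _ => hall _) (((((LB_zero T ((skipEmb 3).trans (Function.Embedding.refl _))).upd 0 1 2 (le_of_eq hx01)).upd 1 0 1 (le_of_eq hx10)).upd 1 3 2 (le_of_eq hx14)).upd 3 1 1 (le_of_eq hx41)) ![2,2,0,1] (by decide) (by decide) 0 (by decide))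
    · -- 14=(1,3)
      exact False.elim (cert_false T ((skipEmb 3).trans (Function.Embedding.refl _)) (by norm_num) (fun _ => hall _) (((((LB_zero T ((skipEmb 3).trans (Function.Embedding.refl _))).upd 0 1 2 (le_of_eq hx01)).upd 1 0 1 (le_of_eq hx10)).upd 1 3 1 (le_of_eq hx14)).upd 3 1 3 (le_of_eq hx41)) ![1,1,0,1] (by decide) (by decide) 0 (by decide))
    · -- 14=(3,1)
      exact False.elim (cert_false T ((skipEmb 3).trans (Function.Embedding.refl _)) (by norm_num) (fun _ => hall _) (((((LB_zero T ((skipEmb 3).trans (Function.Embedding.refl _))).upd 0 1 2 (le_of_eq hx01)).upd 1 0 1 (le_of_eq hx10)).upd 1 3 3 (le_of_eq hx14)).upd 3 1 1 (le_of_eq hx41)) ![1,2,0,1] (by decide) (by decide) 0 (by decide))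
  · -- 04=(1,1)
    exact False.elim (cert_false T ((skipEmb 2).trans (Function.Embedding.refl _)) (by norm_num) (fun _ => hall _) (((((((LB_zero T ((skipEmb 2).trans (Function.Embedding.refl _))).upd 0 1 2 (le_of_eq hx01)).upd 0 2 1 (le_of_eq hx03)).upd 0 3 1 (le_of_eq hx04)).upd 1 0 1 (le_of_eq hx10)).upd 2 0 1 (le_of_eq hx30)).upd 3 0 1 (le_of_eq hx40)) ![2,1,1,1] (by decide) (by decide) 0 (by decide))
  · -- 04=(1,2)
    exact False.elim (cert_false T ((skipEmb 3).trans (Function.Embedding.refl _)) (by norm_num) (fun _ => hall _) (((((LB_zero T ((skipEmb 3).trans (Function.Embedding.refl _))).upd 0 1 2 (le_of_eq hx01)).upd 0 3 1 (le_of_eq hx04)).upd 1 0 1 (le_of_eq hx10)).upd 3 0 2 (le_of_eq hx40)) ![2,1,0,2] (by decide) (by decide) 0 (by decide))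
  · -- 04=(2,1)
    exact False.elim (cert_false T ((skipEmb 3).trans (Function.Embedding.refl _)) (by norm_num) (fun _ => hall _) (((((LB_zero T ((skipEmb 3).trans (Function.Embedding.refl _))).upd 0 1 2 (le_of_eq hx01)).upd 0 3 2 (le_of_eq hx04)).upd 1 0 1 (le_of_eq hx10)).upd 3 0 1 (le_of_eq hx40)) ![2,1,0,1] (by decide) (by decide) 0 (by decide))
  · -- 04=(1,3)
    exact False.elim (cert_false T ((skipEmb 3).trans (Function.Embedding.refl _)) (by norm_num) (fun _ => hall _) (((((LB_zero T ((skipEmb 3).trans (Function.Embedding.refl _))).upd 0 1 2 (le_of_eq hx01)).upd 0 3 1 (le_of_eq hx04)).upd 1 0 1 (le_of_eq hx10)).upd 3 0 3 (le_of_eq hx40)) ![2,1,0,2] (by decide) (by decide) 0 (by decide))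
  · -- 04=(3,1)
    exact False.elim (cert_false T ((skipEmb 3).trans (Function.Embedding.refl _)) (by norm_num) (fun _ => hall _) (((((LB_zero T ((skipEmb 3).trans (Function.Embedding.refl _))).upd 0 1 2 (le_of_eq hx01)).upd 0 3 3 (le_of_eq hx04)).upd 1 0 1 (le_of_eq hx10)).upd 3 0 1 (le_of_eq hx40)) ![2,1,0,1] (by decide) (by decide) 0 (by decide))

theorem case483 (T : NumericalType 5) (hall : ∀ i, T.IsMinusTwo i) (d : SData T)
    (h01 : N T (Function.Embedding.refl _) 0 1 = 2) (h10 : N T (Function.Embedding.refl _) 1 0 = 1)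
    (h02 : N T (Function.Embedding.refl _) 0 2 = 0) (h20 : N T (Function.Embedding.refl _) 2 0 = 0)
    (h12 : N T (Function.Embedding.refl _) 1 2 = 0) (h21 : N T (Function.Embedding.refl _) 2 1 = 0)
    (h03 : N T (Function.Embedding.refl _) 0 3 = 1) (h30 : N T (Function.Embedding.refl _) 3 0 = 1)
    (h13 : N T (Function.Embedding.refl _) 1 3 = 0) (h31 : N T (Function.Embedding.refl _) 3 1 = 0) :
    Goal T := by
  unfold Goal
  have hd := d
  obtain ⟨x01, x02, x03, x04, x10, x12, x13, x14, x20, x21, x23, x24, x30, x31, x32, x34, x40, x41, x42, x43, hx01, hx02, hx03, hx04, hx10, hx12, hx13, hx14, hx20, hx21, hx23, hx24, hx30, hx31, hx32, hx34, hx40, hx41, hx42, hx43, hw0, hm0, hw1, hm1, hw2, hm2, hw3, hm3, hw4, hm4, a00, a01, a02, a03, a04, a11, a10, a12, a13, a14, a22, a20, a21, a23, a24, a33, a30, a31, a32, a34, a44, a40, a41, a42, a43, wN01, wN02, wN12, wN03, wN13, wN23, wN04, wN14, wN24, wN34, e0, e1,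 e2, e3, e4, d01, d02, d12, d03, d13, d23, d04, d14, d24, d34⟩ := d
  obtain rfl : x01 = 2 := hx01.trans h01
  obtain rfl : x10 = 1 := hx10.trans h10
  obtain rfl : x02 = 0 := hx02.trans h02
  obtain rfl : x20 = 0 := hx20.trans h20
  obtain rfl : x12 = 0 := hx12.trans h12
  obtain rfl : x21 = 0 := hx21.trans h21
  obtain rfl : x03 = 1 := hx03.trans h03
  obtain rfl : x30 = 1 := hx30.trans h30
  obtain rfl : x13 = 0 := hx13.trans h13
  obtain rfl : x31 = 0 := hx31.trans h31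
  rcases d23 with ⟨rfl, rfl⟩ | ⟨rfl, rfl⟩ | ⟨rfl, rfl⟩ | ⟨rfl, rfl⟩ | ⟨rfl, rfl⟩ | ⟨rfl, rfl⟩
  · -- 23=(0,0)
    exact case484 T hall hd hx01.symm hx10.symm hx02.symm hx20.symm hx12.symm hx21.symm hx03.symm hx30.symm hx13.symm hx31.symm hx23.symm hx32.symm
  · -- 23=(1,1)
    exact case486 T hall hd hx01.symm hx10.symm hx02.symm hx20.symm hx12.symm hx21.symm hx03.symm hx30.symm hx13.symm hx31.symm hx23.symm hx32.symm
  · -- 23=(1,2)
    exact False.elim (cert_false T ((skipEmb 4).trans (Function.Embedding.refl _)) (by norm_num) (fun _ => hall _) (((((((LB_zero T ((skipEmb 4).trans (Function.Embedding.refl _))).upd 0 1 2 (le_of_eq hx01)).upd 0 3 1 (le_of_eq hx03)).upd 1 0 1 (le_of_eq hx10)).upd 2 3 1 (le_of_eq hx23)).upd 3 0 1 (le_of_eq hx30)).upd 3 2 2 (le_of_eq hx32)) ![2,1,1,2] (by decide) (by decide) 0 (by decide))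
  · -- 23=(2,1)
    exact False.elim (cert_false T ((skipEmb 4).trans (Function.Embedding.refl _)) (by norm_num) (fun _ => hall _) (((((((LB_zero T ((skipEmb 4).trans (Function.Embedding.refl _))).upd 0 1 2 (le_of_eq hx01)).upd 0 3 1 (le_of_eq hx03)).upd 1 0 1 (le_of_eq hx10)).upd 2 3 2 (le_of_eq hx23)).upd 3 0 1 (le_of_eq hx30)).upd 3 2 1 (le_of_eq hx32)) ![2,1,2,2] (by decide) (by decide) 0 (by decide))
  · -- 23=(1,3)
    exact False.elim (cert_false T ((skipEmb 4).trans (Function.Embedding.refl _)) (by norm_num) (fun _ => hall _) (((((LB_zero T ((skipEmb 4).trans (Function.Embedding.refl _))).upd 0 3 1 (le_of_eq hx03)).upd 2 3 1 (le_of_eq hx23)).upd 3 0 1 (le_of_eq hx30)).upd 3 2 3 (le_of_eq hx32)) ![1,0,1,2] (by decide) (by decide) 0 (by decide))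
  · -- 23=(3,1)
    exact False.elim (cert_false T ((skipEmb 4).trans (Function.Embedding.refl _)) (by norm_num) (fun _ => hall _) (((((((LB_zero T ((skipEmb 4).trans (Function.Embedding.refl _))).upd 0 1 2 (le_of_eq hx01)).upd 0 3 1 (le_of_eq hx03)).upd 1 0 1 (le_of_eq hx10)).upd 2 3 3 (le_of_eq hx23)).upd 3 0 1 (le_of_eq hx30)).upd 3 2 1 (le_of_eq hx32)) ![2,1,2,2] (by decide) (by decide) 0 (by decide))

end Groth.Agent.Lib.helper11.G5
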