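import Groth.Agent.Lib.helper11.NumGenus
import Groth.Agent.Lib.helper11.NumPair

set_option autoImplicit false

namespace Groth.Agent.Lib.helper11.G5

open Models Groth.Agent.Lib.helper11.NumType

/-- the classification statement (generated) -/
def Goal (T : NumericalType 5) : Prop :=
    ∃ (σ : Equiv.Perm (Fin 5)) (m w : ℤ),
      ((T.m (σ 0) = m ∧ T.m (σ 1) = m ∧ T.m (σ 2) = m ∧ T.m (σ 3) = m ∧ T.m (σ 4) = m ∧ T.w (σ 0) = w ∧ T.w (σ 1) = w ∧ T.w (σ 2) = w ∧ T.w (σ 3) = w ∧ T.w (σ 4) = w ∧ T.a (σ 0) (σ 0) = -2 * w ∧ T.a (σ 0) (σ 1) = w ∧ T.a (σ 0) (σ 2) = 0 ∧ T.a (σ 0) (σ 3) = 0 ∧ T.a (σ 0) (σ 4) = w ∧ T.a (σ 1) (σ 1) = -2 * w ∧ T.a (σ 1) (σ 2) = w ∧ T.a (σ 1) (σ 3) = 0 ∧ T.a (σ 1) (σ 4) = 0 ∧ T.a (σ 2) (σ 2) = -2 * w ∧ T.a (σ 2) (σ 3) = w ∧ T.a (σ 2) (σ 4) =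 0 ∧ T.a (σ 3) (σ 3) = -2 * w ∧ T.a (σ 3) (σ 4) = w ∧ T.a (σ 4) (σ 4) = -2 * w) ∨
      (T.m (σ 0) = m ∧ T.m (σ 1) = 2 * m ∧ T.m (σ 2) = 3 * m ∧ T.m (σ 3) = 2 * m ∧ T.m (σ 4) = m ∧ T.w (σ 0) = w ∧ T.w (σ 1) = w ∧ T.w (σ 2) = w ∧ T.w (σ 3) = 2 * w ∧ T.w (σ 4) = 2 * w ∧ T.a (σ 0) (σ 0) = -2 * w ∧ T.a (σ 0) (σ 1) = w ∧ T.a (σ 0) (σ 2) = 0 ∧ T.a (σ 0) (σ 3) = 0 ∧ T.a (σ 0) (σ 4) = 0 ∧ T.a (σ 1) (σ 1) = -2 * w ∧ T.a (σ 1) (σ 2) = w ∧ T.a (σ 1) (σ 3) = 0 ∧ T.a (σ 1) (σ 4) = 0 ∧ T.a (σ 2) (σ 2) = -2 * w ∧ T.a (σ 2) (σ 3) = 2 * w ∧ T.a (σ 2) (σ 4) = 0 ∧ T.a (σ 3) (σ 3) = -4 * w ∧ T.a (σ 3) (σ 4) = 2 * w ∧ T.a (σ 4) (σ 4) = -4 * w) ∨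
      (T.m (σ 0) = m ∧ T.m (σ 1) = 2 * m ∧ T.m (σ 2) = 3 * m ∧ T.m (σ 3) = 4 * m ∧ T.m (σ 4) = 2 * m ∧ T.w (σ 0) = 2 * w ∧ T.w (σ 1) = 2 * w ∧ T.w (σ 2) = 2 * w ∧ T.w (σ 3) = w ∧ T.w (σ 4) = w ∧ T.a (σ 0) (σ 0) = -4 * w ∧ T.a (σ 0) (σ 1) = 2 * w ∧ T.a (σ 0) (σ 2) = 0 ∧ T.a (σ 0) (σ 3) = 0 ∧ T.a (σ 0) (σ 4) = 0 ∧ T.a (σ 1) (σ 1) = -4 * w ∧ T.a (σ 1) (σ 2) = 2 * w ∧ T.a (σ 1) (σ 3) = 0 ∧ T.a (σ 1) (σ 4) = 0 ∧ T.a (σ 2) (σ 2) = -4 * w ∧ T.a (σ 2) (σ 3) = 2 * w ∧ T.a (σ 2) (σ 4) = 0 ∧ T.a (σ 3) (σ 3) = -2 * w ∧ T.a (σ 3) (σ 4) = w ∧ T.a (σ 4) (σ 4) = -2 * w) ∨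
      (T.m (σ 0) = 2 * m ∧ T.m (σ 1) = 2 * m ∧ T.m (σ 2) = 2 * m ∧ T.m (σ 3) = 2 * m ∧ T.m (σ 4) = m ∧ T.w (σ 0) = w ∧ T.w (σ 1) = 2 * w ∧ T.w (σ 2) = 2 * w ∧ T.w (σ 3) = 2 * w ∧ T.w (σ 4) = 4 * w ∧ T.a (σ 0) (σ 0) = -2 * w ∧ T.a (σ 0) (σ 1) = 2 * w ∧ T.a (σ 0) (σ 2) = 0 ∧ T.a (σ 0) (σ 3) = 0 ∧ T.a (σ 0) (σ 4) = 0 ∧ T.a (σ 1) (σ 1) = -4 * w ∧ T.a (σ 1) (σ 2) = 2 * w ∧ T.a (σ 1) (σ 3) = 0 ∧ T.a (σ 1) (σ 4) = 0 ∧ T.a (σ 2) (σ 2) = -4 * w ∧ T.a (σ 2) (σ 3) = 2 * w ∧ T.a (σ 2) (σ 4) = 0 ∧ T.a (σ 3) (σ 3) = -4 * w ∧ T.a (σ 3) (σ 4) = 4 * w ∧ T.a (σ 4) (σ 4) = -8 * w) ∨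
      (T.m (σ 0) = m ∧ T.m (σ 1) = m ∧ T.m (σ 2) = m ∧ T.m (σ 3) = m ∧ T.m (σ 4) = m ∧ T.w (σ 0) = w ∧ T.w (σ 1) = 2 * w ∧ T.w (σ 2) = 2 * w ∧ T.w (σ 3) = 2 * w ∧ T.w (σ 4) = w ∧ T.a (σ 0) (σ 0) = -2 * w ∧ T.a (σ 0) (σ 1) = 2 * w ∧ T.a (σ 0) (σ 2) = 0 ∧ T.a (σ 0) (σ 3) = 0 ∧ T.a (σ 0) (σ 4) = 0 ∧ T.a (σ 1) (σ 1) = -4 * w ∧ T.a (σ 1) (σ 2) = 2 * w ∧ T.a (σ 1) (σ 3) = 0 ∧ T.a (σ 1) (σ 4) = 0 ∧ T.a (σ 2) (σ 2) = -4 * w ∧ T.a (σ 2) (σ 3) = 2 * w ∧ T.a (σ 2) (σ 4) = 0 ∧ T.a (σ 3) (σ 3) = -4 * w ∧ T.a (σ 3) (σ 4) = 2 * w ∧ T.a (σ 4) (σ 4) = -2 * w) ∨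
      (T.m (σ 0) = m ∧ T.m (σ 1) = 2 * m ∧ T.m (σ 2) = 2 * m ∧ T.m (σ 3) = 2 * m ∧ T.m (σ 4) = m ∧ T.w (σ 0) = 2 * w ∧ T.w (σ 1) = w ∧ T.w (σ 2) = w ∧ T.w (σ 3) = w ∧ T.w (σ 4) = 2 * w ∧ T.a (σ 0) (σ 0) = -4 * w ∧ T.a (σ 0) (σ 1) = 2 * w ∧ T.a (σ 0) (σ 2) = 0 ∧ T.a (σ 0) (σ 3) = 0 ∧ T.a (σ 0) (σ 4) = 0 ∧ T.a (σ 1) (σ 1) = -2 * w ∧ T.a (σ 1) (σ 2) = w ∧ T.a (σ 1) (σ 3) = 0 ∧ T.a (σ 1) (σ 4) = 0 ∧ T.a (σ 2) (σ 2) = -2 * w ∧ T.a (σ 2) (σ 3) = w ∧ T.a (σ 2) (σ 4) = 0 ∧ T.a (σ 3) (σ 3) = -2 * w ∧ T.a (σ 3) (σ 4) = 2 * w ∧ T.a (σ 4) (σ 4) = -4 * w) ∨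
      (T.m (σ 0) = 2 * m ∧ T.m (σ 1) = m ∧ T.m (σ 2) = m ∧ T.m (σ 3) = m ∧ T.m (σ 4) = m ∧ T.w (σ 0) = w ∧ T.w (σ 1) = w ∧ T.w (σ 2) = w ∧ T.w (σ 3) = w ∧ T.w (σ 4) = w ∧ T.a (σ 0) (σ 0) = -2 * w ∧ T.a (σ 0) (σ 1) = w ∧ T.a (σ 0) (σ 2) = w ∧ T.a (σ 0) (σ 3) = w ∧ T.a (σ 0) (σ 4) = w ∧ T.a (σ 1) (σ 1) = -2 * w ∧ T.a (σ 1) (σ 2) = 0 ∧ T.a (σ 1) (σ 3) = 0 ∧ T.a (σ 1) (σ 4) = 0 ∧ T.a (σ 2) (σ 2) = -2 * w ∧ T.a (σ 2) (σ 3) = 0 ∧ T.a (σ 2) (σ 4) = 0 ∧ T.a (σ 3) (σ 3) = -2 * w ∧ T.a (σ 3) (σ 4) = 0 ∧ T.a (σ 4) (σ 4) = -2 * w) ∨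
      (T.m (σ 0) = m ∧ T.m (σ 1) = 2 * m ∧ T.m (σ 2) = 2 * m ∧ T.m (σ 3) = m ∧ T.m (σ 4) = m ∧ T.w (σ 0) = 2 * w ∧ T.w (σ 1) = w ∧ T.w (σ 2) = w ∧ T.w (σ 3) = w ∧ T.w (σ 4) = w ∧ T.a (σ 0) (σ 0) = -4 * w ∧ T.a (σ 0) (σ 1) = 2 * w ∧ T.a (σ 0) (σ 2) = 0 ∧ T.a (σ 0) (σ 3) = 0 ∧ T.a (σ 0) (σ 4) = 0 ∧ T.a (σ 1) (σ 1) = -2 * w ∧ T.a (σ 1) (σ 2) = w ∧ T.a (σ 1) (σ 3) = 0 ∧ T.a (σ 1) (σ 4) = 0 ∧ T.a (σ 2) (σ 2) = -2 * w ∧ T.a (σ 2) (σ 3) = w ∧ T.a (σ 2) (σ 4) = w ∧ T.a (σ 3) (σ 3) = -2 * w ∧ T.a (σ 3) (σ 4) = 0 ∧ T.a (σ 4) (σ 4) = -2 * w) ∨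
      (T.m (σ 0) = 2 * m ∧ T.m (σ 1) = 2 * m ∧ T.m (σ 2) = 2 * m ∧ T.m (σ 3) = m ∧ T.m (σ 4) = m ∧ T.w (σ 0) = w ∧ T.w (σ 1) = 2 * w ∧ T.w (σ 2) = 2 * w ∧ T.w (σ 3) = 2 * w ∧ T.w (σ 4) = 2 * w ∧ T.a (σ 0) (σ 0) = -2 * w ∧ T.a (σ 0) (σ 1) = 2 * w ∧ T.a (σ 0) (σ 2) = 0 ∧ T.a (σ 0) (σ 3) = 0 ∧ T.a (σ 0) (σ 4) = 0 ∧ T.a (σ 1) (σ 1) = -4 * w ∧ T.a (σ 1) (σ 2) = 2 * w ∧ T.a (σ 1) (σ 3) = 0 ∧ T.a (σ 1) (σ 4) = 0 ∧ T.a (σ 2) (σ 2) = -4 * w ∧ T.a (σ 2) (σ 3) = 2 * w ∧ T.a (σ 2) (σ 4) = 2 * w ∧ T.a (σ 3) (σ 3) = -4 * w ∧ T.a (σ 3) (σ 4) = 0 ∧ T.a (σ 4) (σ 4) = -4 * w))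

/-- all the numerical facts needed for the exhaustive search (generated) -/
structure SData (T : NumericalType 5) where
  x01 : ℤ
  x02 : ℤ
  x03 : ℤ
  x04 : ℤ
  x10 : ℤ
  x12 : ℤ
  x13 : ℤ
  x14 : ℤ
  x20 : ℤ
  x21 : ℤ
  x23 : ℤ
  x24 : ℤ
  x30 : ℤ
  x31 : ℤ
  x32 : ℤ
  x34 : ℤ
  x40 : ℤ
  x41 : ℤ
  x42 : ℤ
  x43 : ℤ
  hx01 : x01 = N T (Function.Embedding.refl _) 0 1
  hx02 : x02 = N T (Function.Embedding.refl _) 0 2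
  hx03 : x03 = N T (Function.Embedding.refl _) 0 3
  hx04 : x04 = N T (Function.Embedding.refl _) 0 4
  hx10 : x10 = N T (Function.Embedding.refl _) 1 0
  hx12 : x12 = N T (Function.Embedding.refl _) 1 2
  hx13 : x13 = N T (Function.Embedding.refl _) 1 3
  hx14 : x14 = N T (Function.Embedding.refl _) 1 4
  hx20 : x20 = N T (Function.Embedding.refl _) 2 0
  hx21 : x21 = N T (Function.Embedding.refl _) 2 1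
  hx23 : x23 = N T (Function.Embedding.refl _) 2 3
  hx24 : x24 = N T (Function.Embedding.refl _) 2 4
  hx30 : x30 = N T (Function.Embedding.refl _) 3 0
  hx31 : x31 = N T (Function.Embedding.refl _) 3 1
  hx32 : x32 = N T (Function.Embedding.refl _) 3 2
  hx34 : x34 = N T (Function.Embedding.refl _) 3 4
  hx40 : x40 = N T (Function.Embedding.refl _) 4 0
  hx41 : x41 = N T (Function.Embedding.refl _) 4 1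
  hx42 : x42 = N T (Function.Embedding.refl _) 4 2
  hx43 : x43 = N T (Function.Embedding.refl _) 4 3
  hw0 : 0 < T.w 0
  hm0 : 0 < T.m 0
  hw1 : 0 < T.w 1
  hm1 : 0 < T.m 1
  hw2 : 0 < T.w 2
  hm2 : 0 < T.m 2
  hw3 : 0 < T.w 3
  hm3 : 0 < T.m 3
  hw4 : 0 < T.w 4
  hm4 : 0 < T.m 4
  a00 : T.a 0 0 = T.w 0 * -2
  a01 : T.a 0 1 = T.w 0 * x01
  a02 : T.a 0 2 = T.w 0 * x02
  a03 : T.a 0 3 = T.w 0 * x03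
  a04 : T.a 0 4 = T.w 0 * x04
  a11 : T.a 1 1 = T.w 1 * -2
  a10 : T.a 1 0 = T.w 1 * x10
  a12 : T.a 1 2 = T.w 1 * x12
  a13 : T.a 1 3 = T.w 1 * x13
  a14 : T.a 1 4 = T.w 1 * x14
  a22 : T.a 2 2 = T.w 2 * -2
  a20 : T.a 2 0 = T.w 2 * x20
  a21 : T.a 2 1 = T.w 2 * x21
  a23 : T.a 2 3 = T.w 2 * x23
  a24 : T.a 2 4 = T.w 2 * x24
  a33 : T.a 3 3 = T.w 3 * -2
  a30 : T.a 3 0 = T.w 3 * x30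
  a31 : T.a 3 1 = T.w 3 * x31
  a32 : T.a 3 2 = T.w 3 * x32
  a34 : T.a 3 4 = T.w 3 * x34
  a44 : T.a 4 4 = T.w 4 * -2
  a40 : T.a 4 0 = T.w 4 * x40
  a41 : T.a 4 1 = T.w 4 * x41
  a42 : T.a 4 2 = T.w 4 * x42
  a43 : T.a 4 3 = T.w 4 * x43
  wN01 : T.w 0 * x01 = T.w 1 * x10
  wN02 : T.w 0 * x02 = T.w 2 * x20
  wN12 : T.w 1 * x12 = T.w 2 * x21
  wN03 : T.w 0 * x03 = T.w 3 * x30
  wN13 : T.w 1 * x13 = T.w 3 * x31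
  wN23 : T.w 2 * x23 = T.w 3 * x32
  wN04 : T.w 0 * x04 = T.w 4 * x40
  wN14 : T.w 1 * x14 = T.w 4 * x41
  wN24 : T.w 2 * x24 = T.w 4 * x42
  wN34 : T.w 3 * x34 = T.w 4 * x43
  e0 : x01 * T.m 1 + x02 * T.m 2 + x03 * T.m 3 + x04 * T.m 4 = 2 * T.m 0
  e1 : x10 * T.m 0 + x12 * T.m 2 + x13 * T.m 3 + x14 * T.m 4 = 2 * T.m 1
  e2 : x20 * T.m 0 + x21 * T.m 1 + x23 * T.m 3 + x24 * T.m 4 = 2 * T.m 2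
  e3 : x30 * T.m 0 + x31 * T.m 1 + x32 * T.m 2 + x34 * T.m 4 = 2 * T.m 3
  e4 : x40 * T.m 0 + x41 * T.m 1 + x42 * T.m 2 + x43 * T.m 3 = 2 * T.m 4
  d01 : ((x01 = 0 ∧ x10 = 0) ∨ (x01 = 1 ∧ x10 = 1) ∨ (x01 = 1 ∧ x10 = 2) ∨ (x01 = 2 ∧ x10 = 1) ∨ (x01 = 1 ∧ x10 = 3) ∨ (x01 = 3 ∧ x10 = 1))
  d02 : ((x02 = 0 ∧ x20 = 0) ∨ (x02 = 1 ∧ x20 = 1) ∨ (x02 = 1 ∧ x20 = 2) ∨ (x02 = 2 ∧ x20 = 1) ∨ (x02 = 1 ∧ x20 = 3) ∨ (x02 = 3 ∧ x20 = 1))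
  d12 : ((x12 = 0 ∧ x21 = 0) ∨ (x12 = 1 ∧ x21 = 1) ∨ (x12 = 1 ∧ x21 = 2) ∨ (x12 = 2 ∧ x21 = 1) ∨ (x12 = 1 ∧ x21 = 3) ∨ (x12 = 3 ∧ x21 = 1))
  d03 : ((x03 = 0 ∧ x30 = 0) ∨ (x03 = 1 ∧ x30 = 1) ∨ (x03 = 1 ∧ x30 = 2) ∨ (x03 = 2 ∧ x30 = 1) ∨ (x03 = 1 ∧ x30 = 3) ∨ (x03 = 3 ∧ x30 = 1))
  d13 : ((x13 = 0 ∧ x31 = 0) ∨ (x13 = 1 ∧ x31 = 1) ∨ (x13 = 1 ∧ x31 = 2) ∨ (x13 = 2 ∧ x31 = 1) ∨ (x13 = 1 ∧ x31 = 3) ∨ (x13 = 3 ∧ x31 = 1))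
  d23 : ((x23 = 0 ∧ x32 = 0) ∨ (x23 = 1 ∧ x32 = 1) ∨ (x23 = 1 ∧ x32 = 2) ∨ (x23 = 2 ∧ x32 = 1) ∨ (x23 = 1 ∧ x32 = 3) ∨ (x23 = 3 ∧ x32 = 1))
  d04 : ((x04 = 0 ∧ x40 = 0) ∨ (x04 = 1 ∧ x40 = 1) ∨ (x04 = 1 ∧ x40 = 2) ∨ (x04 = 2 ∧ x40 = 1) ∨ (x04 = 1 ∧ x40 = 3) ∨ (x04 = 3 ∧ x40 = 1))
  d14 : ((x14 = 0 ∧ x41 = 0) ∨ (x14 = 1 ∧ x41 = 1) ∨ (x14 = 1 ∧ x41 = 2) ∨ (x14 = 2 ∧ x41 = 1) ∨ (x14 = 1 ∧ x41 = 3) ∨ (x14 = 3 ∧ x41 = 1))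
  d24 : ((x24 = 0 ∧ x42 = 0) ∨ (x24 = 1 ∧ x42 = 1) ∨ (x24 = 1 ∧ x42 = 2) ∨ (x24 = 2 ∧ x42 = 1) ∨ (x24 = 1 ∧ x42 = 3) ∨ (x24 = 3 ∧ x42 = 1))
  d34 : ((x34 = 0 ∧ x43 = 0) ∨ (x34 = 1 ∧ x43 = 1) ∨ (x34 = 1 ∧ x43 = 2) ∨ (x34 = 2 ∧ x43 = 1) ∨ (x34 = 1 ∧ x43 = 3) ∨ (x34 = 3 ∧ x43 = 1))

/-- the numerical facts hold -/
theorem setup (T : NumericalType 5) (hall : ∀ i, T.IsMinusTwo i) : Nonempty (SData T) := by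
  let v : Fin 5 ↪ Fin 5 := Function.Embedding.refl _
  have hv : ∀ p, T.IsMinusTwo (v p) := fun p => hall p
  have hw0 := T.w_pos 0
  have hm0 := T.m_pos 0
  have hw1 := T.w_pos 1
  have hm1 := T.m_pos 1
  have hw2 := T.w_pos 2
  have hm2 := T.m_pos 2
  have hw3 := T.w_pos 3
  have hm3 := T.m_pos 3
  have hw4 := T.w_pos 4
  have hm4 := T.m_pos 4
  obtain ⟨x01, hx01⟩ : ∃ x, x = N T v 0 1 := ⟨_, rfl⟩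
  obtain ⟨x02, hx02⟩ : ∃ x, x = N T v 0 2 := ⟨_, rfl⟩
  obtain ⟨x03, hx03⟩ : ∃ x, x = N T v 0 3 := ⟨_, rfl⟩
  obtain ⟨x04, hx04⟩ : ∃ x, x = N T v 0 4 := ⟨_, rfl⟩
  obtain ⟨x10, hx10⟩ : ∃ x, x = N T v 1 0 := ⟨_, rfl⟩
  obtain ⟨x12, hx12⟩ : ∃ x, x = N T v 1 2 := ⟨_, rfl⟩
  obtain ⟨x13, hx13⟩ : ∃ x, x = N T v 1 3 := ⟨_, rfl⟩
  obtain ⟨x14, hx14⟩ : ∃ x, x = N T v 1 4 := ⟨_, rfl⟩
  obtain ⟨x20, hx20⟩ : ∃ x, x = N T v 2 0 := ⟨_, rfl⟩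
  obtain ⟨x21, hx21⟩ : ∃ x, x = N T v 2 1 := ⟨_, rfl⟩
  obtain ⟨x23, hx23⟩ : ∃ x, x = N T v 2 3 := ⟨_, rfl⟩
  obtain ⟨x24, hx24⟩ : ∃ x, x = N T v 2 4 := ⟨_, rfl⟩
  obtain ⟨x30, hx30⟩ : ∃ x, x = N T v 3 0 := ⟨_, rfl⟩
  obtain ⟨x31, hx31⟩ : ∃ x, x = N T v 3 1 := ⟨_, rfl⟩
  obtain ⟨x32, hx32⟩ : ∃ x, x = N T v 3 2 := ⟨_, rfl⟩
  obtain ⟨x34, hx34⟩ : ∃ x, x = N T v 3 4 := ⟨_, rfl⟩
  obtain ⟨x40, hx40⟩ : ∃ x, x = N T v 4 0 := ⟨_, rfl⟩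
  obtain ⟨x41, hx41⟩ : ∃ x, x = N T v 4 1 := ⟨_, rfl⟩
  obtain ⟨x42, hx42⟩ : ∃ x, x = N T v 4 2 := ⟨_, rfl⟩
  obtain ⟨x43, hx43⟩ : ∃ x, x = N T v 4 3 := ⟨_, rfl⟩
  have a00 : T.a 0 0 = T.w 0 * -2 := by
    have := a_eq T v 0 0; rw [N_diag T v hv] at this; exact this
  have a01 : T.a 0 1 = T.w 0 * x01 := by
    have := a_eq T v 0 1; rw [← hx01] at this; exact this
  have a02 : T.a 0 2 = T.w 0 * x02 := by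
    have := a_eq T v 0 2; rw [← hx02] at this; exact this
  have a03 : T.a 0 3 = T.w 0 * x03 := by
    have := a_eq T v 0 3; rw [← hx03] at this; exact this
  have a04 : T.a 0 4 = T.w 0 * x04 := by
    have := a_eq T v 0 4; rw [← hx04] at this; exact this
  have a11 : T.a 1 1 = T.w 1 * -2 := by
    have := a_eq T v 1 1; rw [N_diag T v hv] at this; exact this
  have a10 : T.a 1 0 = T.w 1 * x10 := by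
    have := a_eq T v 1 0; rw [← hx10] at this; exact this
  have a12 : T.a 1 2 = T.w 1 * x12 := by
    have := a_eq T v 1 2; rw [← hx12] at this; exact this
  have a13 : T.a 1 3 = T.w 1 * x13 := by
    have := a_eq T v 1 3; rw [← hx13] at this; exact this
  have a14 : T.a 1 4 = T.w 1 * x14 := by
    have := a_eq T v 1 4; rw [← hx14] at this; exact this
  have a22 : T.a 2 2 = T.w 2 * -2 := by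
    have := a_eq T v 2 2; rw [N_diag T v hv] at this; exact this
  have a20 : T.a 2 0 = T.w 2 * x20 := by
    have := a_eq T v 2 0; rw [← hx20] at this; exact this
  have a21 : T.a 2 1 = T.w 2 * x21 := by
    have := a_eq T v 2 1; rw [← hx21] at this; exact this
  have a23 : T.a 2 3 = T.w 2 * x23 := by
    have := a_eq T v 2 3; rw [← hx23] at this; exact this
  have a24 : T.a 2 4 = T.w 2 * x24 := by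
    have := a_eq T v 2 4; rw [← hx24] at this; exact this
  have a33 : T.a 3 3 = T.w 3 * -2 := by
    have := a_eq T v 3 3; rw [N_diag T v hv] at this; exact this
  have a30 : T.a 3 0 = T.w 3 * x30 := by
    have := a_eq T v 3 0; rw [← hx30] at this; exact this
  have a31 : T.a 3 1 = T.w 3 * x31 := by
    have := a_eq T v 3 1; rw [← hx31] at this; exact this
  have a32 : T.a 3 2 = T.w 3 * x32 := by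
    have := a_eq T v 3 2; rw [← hx32] at this; exact this
  have a34 : T.a 3 4 = T.w 3 * x34 := by
    have := a_eq T v 3 4; rw [← hx34] at this; exact this
  have a44 : T.a 4 4 = T.w 4 * -2 := by
    have := a_eq T v 4 4; rw [N_diag T v hv] at this; exact this
  have a40 : T.a 4 0 = T.w 4 * x40 := by
    have := a_eq T v 4 0; rw [← hx40] at this; exact this
  have a41 : T.a 4 1 = T.w 4 * x41 := by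
    have := a_eq T v 4 1; rw [← hx41] at this; exact this
  have a42 : T.a 4 2 = T.w 4 * x42 := by
    have := a_eq T v 4 2; rw [← hx42] at this; exact this
  have a43 : T.a 4 3 = T.w 4 * x43 := by
    have := a_eq T v 4 3; rw [← hx43] at this; exact this
  have wN01 : T.w 0 * x01 = T.w 1 * x10 := by
    have := w_N T v 0 1; rw [← hx01, ← hx10] at this; exact this
  have wN02 : T.w 0 * x02 = T.w 2 * x20 := by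
    have := w_N T v 0 2; rw [← hx02, ← hx20] at this; exact this
  have wN12 : T.w 1 * x12 = T.w 2 * x21 := by
    have := w_N T v 1 2; rw [← hx12, ← hx21] at this; exact this
  have wN03 : T.w 0 * x03 = T.w 3 * x30 := by
    have := w_N T v 0 3; rw [← hx03, ← hx30] at this; exact this
  have wN13 : T.w 1 * x13 = T.w 3 * x31 := by
    have := w_N T v 1 3; rw [← hx13, ← hx31] at this; exact this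
  have wN23 : T.w 2 * x23 = T.w 3 * x32 := by
    have := w_N T v 2 3; rw [← hx23, ← hx32] at this; exact this
  have wN04 : T.w 0 * x04 = T.w 4 * x40 := by
    have := w_N T v 0 4; rw [← hx04, ← hx40] at this; exact this
  have wN14 : T.w 1 * x14 = T.w 4 * x41 := by
    have := w_N T v 1 4; rw [← hx14, ← hx41] at this; exact this
  have wN24 : T.w 2 * x24 = T.w 4 * x42 := by
    have := w_N T v 2 4; rw [← hx24, ← hx42] at this; exact this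
  have wN34 : T.w 3 * x34 = T.w 4 * x43 := by
    have := w_N T v 3 4; rw [← hx34, ← hx43] at this; exact this
  have r0 := row_sum T 0
  simp only [Fin.sum_univ_five] at r0
  rw [a00, a01, a02, a03, a04] at r0
  have e0 : x01 * T.m 1 + x02 * T.m 2 + x03 * T.m 3 + x04 * T.m 4 = 2 * T.m 0 := by
    have : T.w 0 * (x01 * T.m 1 + x02 * T.m 2 + x03 * T.m 3 + x04 * T.m 4 - 2 * T.m 0) = 0 := by linear_combination r0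
    rcases mul_eq_zero.mp this with h | h
    · omega
    · linarith
  have r1 := row_sum T 1
  simp only [Fin.sum_univ_five] at r1
  rw [a10, a11, a12, a13, a14] at r1
  have e1 : x10 * T.m 0 + x12 * T.m 2 + x13 * T.m 3 + x14 * T.m 4 = 2 * T.m 1 := by
    have : T.w 1 * (x10 * T.m 0 + x12 * T.m 2 + x13 * T.m 3 + x14 * T.m 4 - 2 * T.m 1) = 0 := by linear_combination r1
    rcases mul_eq_zero.mp this with h | h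
    · omega
    · linarith
  have r2 := row_sum T 2
  simp only [Fin.sum_univ_five] at r2
  rw [a20, a21, a22, a23, a24] at r2
  have e2 : x20 * T.m 0 + x21 * T.m 1 + x23 * T.m 3 + x24 * T.m 4 = 2 * T.m 2 := by
    have : T.w 2 * (x20 * T.m 0 + x21 * T.m 1 + x23 * T.m 3 + x24 * T.m 4 - 2 * T.m 2) = 0 := by linear_combination r2
    rcases mul_eq_zero.mp this with h | h
    · omega
    · linarith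
  have r3 := row_sum T 3
  simp only [Fin.sum_univ_five] at r3
  rw [a30, a31, a32, a33, a34] at r3
  have e3 : x30 * T.m 0 + x31 * T.m 1 + x32 * T.m 2 + x34 * T.m 4 = 2 * T.m 3 := by
    have : T.w 3 * (x30 * T.m 0 + x31 * T.m 1 + x32 * T.m 2 + x34 * T.m 4 - 2 * T.m 3) = 0 := by linear_combination r3
    rcases mul_eq_zero.mp this with h | h
    · omega
    · linarith
  have r4 := row_sum T 4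
  simp only [Fin.sum_univ_five] at r4
  rw [a40, a41, a42, a43, a44] at r4
  have e4 : x40 * T.m 0 + x41 * T.m 1 + x42 * T.m 2 + x43 * T.m 3 = 2 * T.m 4 := by
    have : T.w 4 * (x40 * T.m 0 + x41 * T.m 1 + x42 * T.m 2 + x43 * T.m 3 - 2 * T.m 4) = 0 := by linear_combination r4
    rcases mul_eq_zero.mp this with h | h
    · omega
    · linarith
  have d01 := two_pair T (by norm_num : 2 < 5) ((pairEmb 0 1 (by decide)).trans v) (fun _ => hv _)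
  change (N T v 0 1 = 0 ∧ N T v 1 0 = 0) ∨ (N T v 0 1 = 1 ∧ N T v 1 0 = 1) ∨ (N T v 0 1 = 1 ∧ N T v 1 0 = 2) ∨ (N T v 0 1 = 2 ∧ N T v 1 0 = 1) ∨ (N T v 0 1 = 1 ∧ N T v 1 0 = 3) ∨ (N T v 0 1 = 3 ∧ N T v 1 0 = 1) at d01
  rw [← hx01, ← hx10] at d01
  have d02 := two_pair T (by norm_num : 2 < 5) ((pairEmb 0 2 (by decide)).trans v) (fun _ => hv _)
  change (N T v 0 2 = 0 ∧ N T v 2 0 = 0) ∨ (N T v 0 2 = 1 ∧ N T v 2 0 = 1) ∨ (N T v 0 2 = 1 ∧ N T v 2 0 = 2) ∨ (N T v 0 2 = 2 ∧ N T v 2 0 = 1) ∨ (N T v 0 2 = 1 ∧ N T v 2 0 = 3) ∨ (N T v 0 2 = 3 ∧ N T v 2 0 = 1) at d02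
  rw [← hx02, ← hx20] at d02
  have d12 := two_pair T (by norm_num : 2 < 5) ((pairEmb 1 2 (by decide)).trans v) (fun _ => hv _)
  change (N T v 1 2 = 0 ∧ N T v 2 1 = 0) ∨ (N T v 1 2 = 1 ∧ N T v 2 1 = 1) ∨ (N T v 1 2 = 1 ∧ N T v 2 1 = 2) ∨ (N T v 1 2 = 2 ∧ N T v 2 1 = 1) ∨ (N T v 1 2 = 1 ∧ N T v 2 1 = 3) ∨ (N T v 1 2 = 3 ∧ N T v 2 1 = 1) at d12
  rw [← hx12, ← hx21] at d12
  have d03 := two_pair T (by norm_num : 2 < 5) ((pairEmb 0 3 (by decide)).trans v) (fun _ => hv _)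
  change (N T v 0 3 = 0 ∧ N T v 3 0 = 0) ∨ (N T v 0 3 = 1 ∧ N T v 3 0 = 1) ∨ (N T v 0 3 = 1 ∧ N T v 3 0 = 2) ∨ (N T v 0 3 = 2 ∧ N T v 3 0 = 1) ∨ (N T v 0 3 = 1 ∧ N T v 3 0 = 3) ∨ (N T v 0 3 = 3 ∧ N T v 3 0 = 1) at d03
  rw [← hx03, ← hx30] at d03
  have d13 := two_pair T (by norm_num : 2 < 5) ((pairEmb 1 3 (by decide)).trans v) (fun _ => hv _)
  change (N T v 1 3 = 0 ∧ N T v 3 1 = 0) ∨ (N T v 1 3 = 1 ∧ N T v 3 1 = 1) ∨ (N T v 1 3 = 1 ∧ N T v 3 1 = 2) ∨ (N T v 1 3 = 2 ∧ N T v 3 1 = 1) ∨ (N T v 1 3 = 1 ∧ N T v 3 1 = 3) ∨ (N T v 1 3 = 3 ∧ N T v 3 1 = 1) at d13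
  rw [← hx13, ← hx31] at d13
  have d23 := two_pair T (by norm_num : 2 < 5) ((pairEmb 2 3 (by decide)).trans v) (fun _ => hv _)
  change (N T v 2 3 = 0 ∧ N T v 3 2 = 0) ∨ (N T v 2 3 = 1 ∧ N T v 3 2 = 1) ∨ (N T v 2 3 = 1 ∧ N T v 3 2 = 2) ∨ (N T v 2 3 = 2 ∧ N T v 3 2 = 1) ∨ (N T v 2 3 = 1 ∧ N T v 3 2 = 3) ∨ (N T v 2 3 = 3 ∧ N T v 3 2 = 1) at d23
  rw [← hx23, ← hx32] at d23
  have d04 := two_pair T (by norm_num : 2 < 5) ((pairEmb 0 4 (by decide)).trans v) (fun _ => hv _)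
  change (N T v 0 4 = 0 ∧ N T v 4 0 = 0) ∨ (N T v 0 4 = 1 ∧ N T v 4 0 = 1) ∨ (N T v 0 4 = 1 ∧ N T v 4 0 = 2) ∨ (N T v 0 4 = 2 ∧ N T v 4 0 = 1) ∨ (N T v 0 4 = 1 ∧ N T v 4 0 = 3) ∨ (N T v 0 4 = 3 ∧ N T v 4 0 = 1) at d04
  rw [← hx04, ← hx40] at d04
  have d14 := two_pair T (by norm_num : 2 < 5) ((pairEmb 1 4 (by decide)).trans v) (fun _ => hv _)
  change (N T v 1 4 = 0 ∧ N T v 4 1 = 0) ∨ (N T v 1 4 = 1 ∧ N T v 4 1 = 1) ∨ (N T v 1 4 = 1 ∧ N T v 4 1 = 2) ∨ (N T v 1 4 = 2 ∧ N T v 4 1 = 1) ∨ (N T v 1 4 = 1 ∧ N T v 4 1 = 3) ∨ (N T v 1 4 = 3 ∧ N T v 4 1 = 1) at d14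
  rw [← hx14, ← hx41] at d14
  have d24 := two_pair T (by norm_num : 2 < 5) ((pairEmb 2 4 (by decide)).trans v) (fun _ => hv _)
  change (N T v 2 4 = 0 ∧ N T v 4 2 = 0) ∨ (N T v 2 4 = 1 ∧ N T v 4 2 = 1) ∨ (N T v 2 4 = 1 ∧ N T v 4 2 = 2) ∨ (N T v 2 4 = 2 ∧ N T v 4 2 = 1) ∨ (N T v 2 4 = 1 ∧ N T v 4 2 = 3) ∨ (N T v 2 4 = 3 ∧ N T v 4 2 = 1) at d24
  rw [← hx24, ← hx42] at d24
  have d34 := two_pair T (by norm_num : 2 < 5) ((pairEmb 3 4 (by decide)).trans v) (fun _ => hv _)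
  change (N T v 3 4 = 0 ∧ N T v 4 3 = 0) ∨ (N T v 3 4 = 1 ∧ N T v 4 3 = 1) ∨ (N T v 3 4 = 1 ∧ N T v 4 3 = 2) ∨ (N T v 3 4 = 2 ∧ N T v 4 3 = 1) ∨ (N T v 3 4 = 1 ∧ N T v 4 3 = 3) ∨ (N T v 3 4 = 3 ∧ N T v 4 3 = 1) at d34
  rw [← hx34, ← hx43] at d34
  exact ⟨⟨x01, x02, x03, x04, x10, x12, x13, x14, x20, x21, x23, x24, x30, x31, x32, x34, x40, x41, x42, x43, hx01, hx02, hx03, hx04, hx10, hx12, hx13, hx14, hx20, hx21, hx23, hx24, hx30, hx31, hx32, hx34, hx40, hx41, hx42, hx43, hw0, hm0, hw1, hm1, hw2, hm2, hw3, hm3, hw4, hm4, a00, a01, a02, a03, a04, a11, a10, a12, a13, a14, a22, a20, a21, a23, a24, a33, a30, a31, a32, a34, a44, a40, a41, a42, a43, wN01, wN02, wN12, wN03, wN13, wN23, wN04, wN14, wN24, wN34, e0, e1, e2, e3, e4, d01, d02, d12, d03, d13, d23, d04, d14,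 d24, d34⟩⟩

end Groth.Agent.Lib.helper11.G5
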